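import Mathlib
import Cfsg.Prelude.Def_Characters
import Cfsg.Agent.Helper24.CharBasic

set_option autoImplicit false

namespace Cfsg.Agent.Helper23

open Representation

/-- Schur: a central element acts as a scalar in an irreducible complex representation. -/
theorem exists_scalar_of_mem_center {G V : Type*} [Group G] [AddCommGroup V] [Module ℂ V]
    [FiniteDimensional ℂ V] (ρ : Representation ℂ G V) [ρ.IsIrreducible] (z : G)
    (hz : z ∈ Subgroup.center G) : ∃ c : ℂ, ρ z = c • (LinearMap.id : V →ₗ[ℂ] V) := by
  have hz' : z ∈ Submonoid.center G := hz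
  obtain ⟨c, hc⟩ :=
    (IsIrreducible.algebraMap_intertwiningMap_bijective_of_isAlgClosed (ρ := ρ)).2
      (IntertwiningMap.centralMul ρ z hz')
  refine ⟨c, ?_⟩
  have := congrArg IntertwiningMap.toLinearMap hc
  rw [IntertwiningMap.algebraMap_apply] at this
  ext v
  have h2 := congrArg (fun f : V →ₗ[ℂ] V => f v) this
  simp only [IntertwiningMap.toLinearMap_smul] at h2
  exact h2.symm

/-- The inner product of two characters (in the `Cfsg.classInner` normalisation) is the dimension
of the space of intertwining maps. -/
theorem classInner_character_eq_finrank {N V W : Type*} [Group N] [Fintype N]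
    [AddCommGroup V] [Module ℂ V] [FiniteDimensional ℂ V]
    [AddCommGroup W] [Module ℂ W] [FiniteDimensional ℂ W]
    (σ : Representation ℂ N W) (τ : Representation ℂ N V) :
    Cfsg.classInner τ.character σ.character = (Module.finrank ℂ (IntertwiningMap σ τ) : ℂ) := by
  haveI : Invertible (Nat.card N : ℂ) := by
    apply invertibleOfNonzero
    exact_mod_cast Nat.card_pos.ne'
  rw [← Representation.card_inv_mul_sum_char_mul_char_eq_finrank σ τ]
  unfold Cfsg.classInner
  congr 1
  refine Finset.sum_congr rfl ?_
  intro g _
  rw [Cfsg.Agent.Helper24.char_inv]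

theorem exists_intertwining_ne_zero_of_inner_ne_zero {N V W : Type*} [Group N] [Fintype N]
    [AddCommGroup V] [Module ℂ V] [FiniteDimensional ℂ V]
    [AddCommGroup W] [Module ℂ W] [FiniteDimensional ℂ W]
    (σ : Representation ℂ N W) (τ : Representation ℂ N V)
    (h : Cfsg.classInner τ.character σ.character ≠ 0) : ∃ f : IntertwiningMap σ τ, f ≠ 0 := by
  rw [classInner_character_eq_finrank] at h
  have h' : Module.finrank ℂ (IntertwiningMap σ τ) ≠ 0 := by
    intro h0; apply h; rw [h0]; simp
  by_contra hcon
  push Not at hcon
  apply h'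
  haveI : Subsingleton (IntertwiningMap σ τ) := ⟨fun a b => by rw [hcon a, hcon b]⟩
  exact Module.finrank_zero_of_subsingleton

end Cfsg.Agent.Helper23
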