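import Mathlib
import Cfsg.Prelude.Def_Characters
import Cfsg.Agent.Helper24.CharBasic

set_option autoImplicit false

namespace Cfsg.Agent.Helper23

open Representation

open scoped Classical in
/-- First orthogonality relation for irreducible complex representations, in the
`Cfsg.classInner` normalisation. -/
theorem classInner_irreducible {G V W : Type*} [Group G] [Fintype G]
    [AddCommGroup V] [Module ℂ V] [FiniteDimensional ℂ V]
    [AddCommGroup W] [Module ℂ W] [FiniteDimensional ℂ W]
    (ρ : Representation ℂ G V) (σ : Representation ℂ G W) [ρ.IsIrreducible] [σ.IsIrreducible] :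
    Cfsg.classInner ρ.character σ.character = if Nonempty (Equiv σ ρ) then 1 else 0 := by
  have : Invertible (Nat.card G : ℂ) := by
    apply invertibleOfNonzero
    exact_mod_cast Nat.card_pos.ne'
  rw [← Representation.char_orthonormal ρ σ]
  unfold Cfsg.classInner
  congr 1
  refine Finset.sum_congr rfl ?_
  intro g _
  rw [Cfsg.Agent.Helper24.char_inv]

open scoped Classical in
/-- First orthogonality relation for irreducible characters. -/
theorem classInner_irrCharacter {G : Type*} [Group G] [Fintype G] (χ ψ : G → ℂ)
    (hχ : Cfsg.IsIrrCharacter G χ) (hψ : Cfsg.IsIrrCharacter G ψ) :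
    Cfsg.classInner χ ψ = if χ = ψ then 1 else 0 := by
  obtain ⟨n, ρ, hρ, rfl⟩ := hχ
  obtain ⟨m, σ, hσ, rfl⟩ := hψ
  have := hρ
  have := hσ
  by_cases h : ρ.character = σ.character
  · rw [if_pos h, ← h, classInner_irreducible ρ ρ, if_pos ⟨Representation.Equiv.refl ρ⟩]
  · rw [if_neg h, classInner_irreducible ρ σ, if_neg]
    rintro ⟨e⟩
    exact h (Representation.char_iso e).symm

theorem classInner_add_left {G : Type*} [Group G] [Fintype G] (φ₁ φ₂ ψ : G → ℂ) :
    Cfsg.classInner (φ₁ + φ₂) ψ = Cfsg.classInner φ₁ ψ + Cfsg.classInner φ₂ ψ := by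
  unfold Cfsg.classInner
  rw [← mul_add, ← Finset.sum_add_distrib]
  congr 1
  refine Finset.sum_congr rfl ?_
  intro g _
  simp [add_mul]

theorem classInner_smul_left {G : Type*} [Group G] [Fintype G] (c : ℂ) (φ ψ : G → ℂ) :
    Cfsg.classInner (c • φ) ψ = c * Cfsg.classInner φ ψ := by
  unfold Cfsg.classInner
  rw [mul_left_comm]
  congr 1
  rw [Finset.mul_sum]
  refine Finset.sum_congr rfl ?_
  intro g _
  simp [mul_assoc]

theorem classInner_zero_left {G : Type*} [Group G] [Fintype G] (ψ : G → ℂ) :
    Cfsg.classInner (0 : G → ℂ) ψ = 0 := by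
  unfold Cfsg.classInner
  simp

theorem classInner_sum_left {G ι : Type*} [Group G] [Fintype G] (s : Finset ι) (φ : ι → G → ℂ)
    (ψ : G → ℂ) :
    Cfsg.classInner (∑ i ∈ s, φ i) ψ = ∑ i ∈ s, Cfsg.classInner (φ i) ψ := by
  classical
  induction s using Finset.induction_on with
  | empty => simp [classInner_zero_left]
  | insert a s ha ih => rw [Finset.sum_insert ha, Finset.sum_insert ha, classInner_add_left, ih]

/-- The irreducible characters are linearly independent. -/
theorem irrCharacter_linearIndependent {G : Type*} [Group G] [Finite G] :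
    LinearIndependent ℂ (fun χ : Cfsg.IrrCharacter G => (χ : G → ℂ)) := by
  classical
  have : Fintype G := Fintype.ofFinite G
  rw [linearIndependent_iff']
  intro s c hc χ hχ
  have h1 := congrArg (fun f => Cfsg.classInner f (χ : G → ℂ)) hc
  simp only [classInner_zero_left] at h1
  rw [classInner_sum_left] at h1
  have h2 : ∀ i ∈ s, Cfsg.classInner (c i • (i : G → ℂ)) (χ : G → ℂ) = if i = χ then c i else 0 := by
    intro i _
    rw [classInner_smul_left, classInner_irrCharacter _ _ i.2 χ.2]
    by_cases h : i = χ
    · rw [if_pos h, if_pos (by rw [h]), mul_one]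
    · rw [if_neg h, if_neg (fun h' => h (Subtype.ext h')), mul_zero]
  rw [Finset.sum_congr rfl h2, Finset.sum_ite_eq' s χ, if_pos hχ] at h1
  exact h1

/-- A finite group has finitely many irreducible characters. -/
theorem finite_irrCharacter (G : Type*) [Group G] [Finite G] : Finite (Cfsg.IrrCharacter G) :=
  (irrCharacter_linearIndependent (G := G)).finite_of_isNoetherian

end Cfsg.Agent.Helper23
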