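import Mathlib
import Cfsg.Prelude.Def_Blocks
import Cfsg.Agent.Helper5.ClaimN

set_option autoImplicit false

/-!
# Central characters on a normal `p`-subgroup are congruent to class sizes mod `M`
-/

namespace Cfsg.Agent.Helper23.PB

open Cfsg Cfsg.Agent.Helper24 Cfsg.Agent.Helper5 Cfsg.Agent.Helper5.Loc
  Cfsg.Agent.Helper5.NilClass Cfsg.Agent.Helper5.CC

section Alg

variable {G : Type*} [Group G] {p : ℕ} [Fact p.Prime]

/-- General nilpotency: a central element annihilating the `Q`-fixed vectors is nilpotent. -/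
theorem pow_mul_prod_eq_zero [Fintype G] (Q : Subgroup G) (hQ : IsPGroup p Q)
    (u : MonoidAlgebra (ZMod p) G)
    (hcomm : ∀ q ∈ Q, Commute (MonoidAlgebra.single q (1 : ZMod p)) u)
    (hann : ∀ w : MonoidAlgebra (ZMod p) G,
      (∀ q ∈ Q, MonoidAlgebra.single q (1 : ZMod p) * w = w) → u * w = 0) :
    ∀ (k : ℕ) (l : List Q),
      Module.finrank (ZMod p) (MonoidAlgebra (ZMod p) G) ≤ l.length + k →
      u ^ k * (l.map (fun q : Q => MonoidAlgebra.single (q : G) (1 : ZMod p) - 1)).prod = 0 := by
  intro k
  induction k with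
  | zero =>
    intro l hl
    rw [pow_zero, one_mul]
    have hfin : Finite (MonoidAlgebra (ZMod p) G) := Module.finite_of_finite (ZMod p)
    have h := Kolchin.prod_sub_one_eq_zero hQ _ (leftRep p Q) le_rfl l (by simpa using hl)
    rw [leftRep_prod] at h
    have h1 := LinearMap.congr_fun h 1
    simpa using h1
  | succ k ih =>
    intro l hl
    rw [pow_succ', mul_assoc]
    apply hann
    intro q hq
    have h0 := ih (⟨q, hq⟩ :: l) (by rw [List.length_cons]; omega)
    rw [List.map_cons, List.prod_cons] at h0
    have hc : Commute (MonoidAlgebra.single q (1 : ZMod p)) (u ^ k) :=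
      Commute.pow_right (hcomm q hq) k
    have h2 : (MonoidAlgebra.single q (1 : ZMod p) - 1) * (u ^ k *
        (l.map (fun q : Q => MonoidAlgebra.single (q : G) (1 : ZMod p) - 1)).prod) = 0 := by
      rw [← mul_assoc, sub_mul, one_mul, hc.eq, ← mul_one (u ^ k),
        mul_assoc (u ^ k) 1, one_mul, ← mul_sub, mul_assoc]
      exact h0
    rw [sub_mul, one_mul, sub_eq_zero] at h2
    exact h2

/-- For a conjugation-stable subset `K` of a normal `p`-subgroup, `∑ K - |K|` is nilpotent
mod `p`. -/
theorem setSum_sub_card_pow_eq_zero [Fintype G] (K : Finset G)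
    (hK : ∀ x t : G, t ∈ K → x * t * x⁻¹ ∈ K) (Q : Subgroup G)
    (hQ : IsPGroup p Q) (hKQ : ∀ t ∈ K, t ∈ Q) :
    (setSum (ZMod p) K - (K.card : MonoidAlgebra (ZMod p) G)) ^
      Module.finrank (ZMod p) (MonoidAlgebra (ZMod p) G) = 0 := by
  have := pow_mul_prod_eq_zero Q hQ (setSum (ZMod p) K - (K.card : MonoidAlgebra (ZMod p) G))
    (fun q _ => Commute.sub_right (show Commute _ _ from single_mul_setSum K hK q)
      (Nat.cast_commute _ _).symm)
    (fun w hw => by
      rw [sub_mul, setSum, Finset.sum_mul, Finset.sum_congr rfl (fun t ht => hw t (hKQ t ht)),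
        Finset.sum_const, nsmul_eq_mul, sub_self])
    (Module.finrank (ZMod p) (MonoidAlgebra (ZMod p) G)) [] (by simp)
  simpa using this

end Alg

variable {G : Type*} [Group G] [Fintype G]

omit [Fintype G] in
theorem toFun_sub (x y : MonoidAlgebra ℤ G) : toFun (x - y) = toFun x - toFun y := by
  funext t
  simp only [toFun, Pi.sub_apply]
  rw [show (x - y).coeff t = x.coeff t - y.coeff t from rfl]
  push_cast
  rfl

omit [Fintype G] in
theorem toFun_natCast (n : ℕ) : toFun ((n : MonoidAlgebra ℤ G)) = (n : ℂ) • deltaOne := by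
  classical
  funext t
  simp only [toFun, Pi.smul_apply, smul_eq_mul]
  rw [MonoidAlgebra.natCast_def, MonoidAlgebra.coeff_single, Finsupp.single_apply]
  by_cases ht : t = 1
  · subst ht
    rw [if_pos rfl, deltaOne_apply_one]; simp
  · rw [if_neg (fun h => ht h.symm), deltaOne_apply_ne ht]; simp

omit [Fintype G] in
theorem isClassFunction_deltaOne : IsClassFunction G (deltaOne : G → ℂ) :=
  isClassFunction_classIndicator 1

theorem isClassFunction_toFun_sub_pow [DecidableEq G] (g : G)
    [DecidablePred (fun x => IsConj g x)] (m n : ℕ) :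
    IsClassFunction G (toFun ((setSum ℤ (Finset.univ.filter (fun x => IsConj g x)) -
      (m : MonoidAlgebra ℤ G)) ^ n)) := by
  have h1 : IsClassFunction G (toFun (setSum ℤ (Finset.univ.filter (fun x => IsConj g x)) -
      (m : MonoidAlgebra ℤ G))) := by
    rw [toFun_sub, toFun_setSum, toFun_natCast]
    intro a x
    simp only [Pi.sub_apply, Pi.smul_apply]
    rw [isClassFunction_classIndicator g a x, isClassFunction_deltaOne a x]
  induction n with
  | zero =>
    rw [pow_zero, toFun_one]
    exact isClassFunction_classIndicator 1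
  | succ n ih =>
    rw [pow_succ', toFun_mul]
    exact isClassFunction_conv h1 ih

theorem act_toFun_sub_pow [DecidableEq G] (g : G) [DecidablePred (fun x => IsConj g x)]
    (χ : IrrCharacter G) (m n : ℕ) :
    act (toFun ((setSum ℤ (Finset.univ.filter (fun x => IsConj g x)) -
      (m : MonoidAlgebra ℤ G)) ^ n)) χ = (centralChar (χ : G → ℂ) g - (m : ℂ)) ^ n := by
  have h1 : IsClassFunction G (toFun (setSum ℤ (Finset.univ.filter (fun x => IsConj g x)) -
      (m : MonoidAlgebra ℤ G))) := by
    have := isClassFunction_toFun_sub_pow g m 1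
    rwa [pow_one] at this
  induction n with
  | zero => rw [pow_zero, toFun_one, act_deltaOne, pow_zero]
  | succ n ih =>
    rw [pow_succ', toFun_mul, act_conv h1, ih, pow_succ', toFun_sub, toFun_setSum, toFun_natCast,
      act_sub, act_smul, act_classIndicator, act_deltaOne, mul_one]

variable {M : Ideal AlgInt}

/-- **Claim N'.** If `Q` is a normal `p`-subgroup and `g ∈ Q`, then the central character of any
irreducible character at `g` is congruent to the class size of `g` modulo the local ideal. -/
theorem centralChar_sub_index_memLocalIdeal {p : ℕ} [Fact p.Prime]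
    (hM : IsPModular p M) (Q : Subgroup G) [hQn : Q.Normal] (hQ : IsPGroup p Q)
    (χ : IrrCharacter G) (g : G) (hg : g ∈ Q) :
    MemLocalIdeal M (centralChar (χ : G → ℂ) g -
      ((Subgroup.centralizer ({g} : Set G)).index : ℂ)) := by
  classical
  have hMp := isPrime_of_isPModular hM
  have : Fintype (ConjClasses G) := Fintype.ofFinite _
  set K : Finset G := Finset.univ.filter (fun x => IsConj g x) with hKdef
  have hK : ∀ x t : G, t ∈ K → x * t * x⁻¹ ∈ K := by
    intro x t ht
    simp only [K, Finset.mem_filter, Finset.mem_univ, true_and] at ht ⊢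
    exact ht.trans (isConj_iff.mpr ⟨x, rfl⟩)
  have hKQ : ∀ t ∈ K, t ∈ Q := by
    intro t ht
    simp only [K, Finset.mem_filter, Finset.mem_univ, true_and] at ht
    obtain ⟨c, hc⟩ := isConj_iff.mp ht
    rw [← hc]
    exact hQn.conj_mem g hg c
  have hcard : (Subgroup.centralizer ({g} : Set G)).index = K.card := by
    rw [index_centralizer_eq_card_conj, Nat.card_eq_fintype_card, Fintype.card_subtype]
  rw [hcard]
  set N := Module.finrank (ZMod p) (MonoidAlgebra (ZMod p) G) with hN
  have hzero := setSum_sub_card_pow_eq_zero (p := p) K hK Q hQ hKQ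
  -- coefficients of the integral power are divisible by `p`
  have hdiv : ∀ z : G, (p : ℤ) ∣ ((setSum ℤ K - (K.card : MonoidAlgebra ℤ G)) ^ N).coeff z := by
    intro z
    have h1 : MonoidAlgebra.mapRingHom G (Int.castRingHom (ZMod p))
        ((setSum ℤ K - (K.card : MonoidAlgebra ℤ G)) ^ N) = 0 := by
      rw [map_pow, map_sub, map_setSum, map_natCast]
      exact hzero
    have h2 := congrArg (fun x => x.coeff z) h1
    simp only [MonoidAlgebra.coeff_mapRingHom] at h2
    have h3 : ((((setSum ℤ K - (K.card : MonoidAlgebra ℤ G)) ^ N).coeff z : ℤ) : ZMod p) = 0 := by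
      simpa using h2
    exact (ZMod.intCast_zmod_eq_zero_iff_dvd _ p).mp h3
  apply li_of_pow hMp (lr_sub hMp (memLocalRing_centralChar hMp χ g) (memLocalRing_natCast hMp _)) N
  rw [← act_toFun_sub_pow g χ K.card N,
    act_eq_sum_centralChar (isClassFunction_toFun_sub_pow g K.card N) χ]
  apply li_sum hMp
  intro L _
  apply li_mul_right hMp _ (memLocalRing_centralChar hMp χ _)
  obtain ⟨k, hk⟩ := hdiv (rep L)
  simp only [toFun]
  rw [hk]
  push_cast
  exact li_mul_right hMp ((memLocalIdeal_natCast_iff hM p).mpr dvd_rfl) (memLocalRing_intCast hMp k)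

end Cfsg.Agent.Helper23.PB
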