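import Mathlib
import Cfsg.Prelude.Def_OddOrderLocal
import Cfsg.Agent.Helper17.Basic

set_option autoImplicit false

namespace Cfsg.Agent.Helper23

/-- If a prime `p` divides the order of the join of a family of normal subgroups of a finite group,
it divides the order of one of them. -/
theorem exists_dvd_card_of_dvd_card_sSup {M : Type*} [Group M] [Finite M]
    (S : Set (Subgroup M)) (hS : ∀ N ∈ S, N.Normal) {p : ℕ} (hp : p.Prime)
    (hdvd : p ∣ Nat.card (sSup S : Subgroup M)) : ∃ N ∈ S, p ∣ Nat.card N := by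
  by_contra hcon
  push Not at hcon
  let T : Set (Subgroup M) := {K | K.Normal ∧ ¬ p ∣ Nat.card K}
  have hT : SupClosed T := by
    intro a ha b hb
    obtain ⟨han, hap⟩ := ha
    obtain ⟨hbn, hbp⟩ := hb
    refine ⟨Subgroup.sup_normal a b, ?_⟩
    intro hdiv
    have key := Cfsg.Agent.Helper17.card_sup_mul_card_inf_of_normal a b
    have : p ∣ Nat.card a * Nat.card b := by
      rw [← key]; exact Dvd.dvd.mul_right hdiv _
    rcases (Nat.Prime.dvd_mul hp).mp this with h | h
    · exact hap h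
    · exact hbp h
  have hbot : (⊥ : Subgroup M) ∈ T := by
    refine ⟨Subgroup.normal_bot, ?_⟩
    rw [Subgroup.card_bot]
    exact hp.one_lt.ne' ∘ Nat.dvd_one.mp
  have hfin : S.Finite := Set.toFinite S
  have hsub : S ⊆ T := fun N hN => ⟨hS N hN, hcon N hN⟩
  exact (hT.sSup_mem hfin hbot hsub).2 hdvd

/-- `M_F` is a Hall subgroup of the finite group `M`. -/
theorem fittingHall_coprime (M : Type*) [Group M] [Finite M] :
    (Nat.card (Cfsg.fittingHall M)).Coprime (Cfsg.fittingHall M).index := by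
  apply Nat.coprime_of_dvd
  intro p hp hdvd hidx
  obtain ⟨N, hN, hpN⟩ := exists_dvd_card_of_dvd_card_sSup
    {N : Subgroup M | N.Normal ∧ Group.IsNilpotent N ∧ (Nat.card N).Coprime N.index}
    (fun N hN => hN.1) hp hdvd
  have hle : N ≤ Cfsg.fittingHall M := le_sSup hN
  have h2 : p ∣ N.index := dvd_trans hidx (Subgroup.index_dvd_of_le hle)
  exact (Nat.Prime.one_lt hp).ne' (Nat.eq_one_of_dvd_coprimes hN.2.2 hpN h2)

/-- A normal nilpotent Hall subgroup lies in `M_F`. -/
theorem le_fittingHall {M : Type*} [Group M] (N : Subgroup M) (h1 : N.Normal)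
    (h2 : Group.IsNilpotent N) (h3 : (Nat.card N).Coprime N.index) : N ≤ Cfsg.fittingHall M :=
  le_sSup ⟨h1, h2, h3⟩

theorem fittingHallOf_le {G : Type*} [Group G] (M : Subgroup G) : Cfsg.fittingHallOf M ≤ M :=
  Subgroup.map_subtype_le _

/-- `M` normalizes the image in `G` of a normal subgroup of `M`. -/
theorem le_normalizer_map_subtype {G : Type*} [Group G] (M : Subgroup G) (N : Subgroup M)
    [hN : N.Normal] : M ≤ Subgroup.normalizer ((N.map M.subtype : Subgroup G) : Set G) := by
  intro m hm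
  rw [Subgroup.mem_set_normalizer_iff]
  intro y
  constructor
  · rintro ⟨x, hx, rfl⟩
    exact ⟨⟨m, hm⟩ * x * ⟨m, hm⟩⁻¹, hN.conj_mem x hx ⟨m, hm⟩, rfl⟩
  · rintro ⟨x, hx, hxy⟩
    refine ⟨⟨m, hm⟩⁻¹ * x * ⟨m, hm⟩, ?_, ?_⟩
    · have := hN.conj_mem x hx (⟨m, hm⟩⁻¹)
      simpa using this
    · have : M.subtype (⟨m, hm⟩⁻¹ * x * ⟨m, hm⟩) = m⁻¹ * (M.subtype x) * m := rfl
      rw [this, hxy]; group

theorem le_normalizer_fittingHallOf {G : Type*} [Group G] (M : Subgroup G) :
    M ≤ Subgroup.normalizer ((Cfsg.fittingHallOf M : Subgroup G) : Set G) :=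
  le_normalizer_map_subtype M (Cfsg.fittingHall M)

/-- `|M_F|` is coprime to `|M| / |M_F|`, phrased as: `|M_F| * k = |M| → gcd(|M_F|, k) = 1`. -/
theorem card_fittingHallOf_coprime {G : Type*} [Group G] [Finite G] (M : Subgroup G) {k : ℕ}
    (hk : Nat.card (Cfsg.fittingHallOf M) * k = Nat.card M) :
    (Nat.card (Cfsg.fittingHallOf M)).Coprime k := by
  have hcard : Nat.card (Cfsg.fittingHallOf M) = Nat.card (Cfsg.fittingHall M) :=
    Subgroup.card_map_of_injective (Subgroup.subtype_injective M)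
  have h1 := fittingHall_coprime M
  have h2 := Subgroup.card_mul_index (Cfsg.fittingHall M)
  rw [hcard] at hk ⊢
  have hpos : 0 < Nat.card (Cfsg.fittingHall M) := Nat.card_pos
  have : k = (Cfsg.fittingHall M).index := by
    apply Nat.eq_of_mul_eq_mul_left hpos
    rw [hk, h2]
  rw [this]; exact h1

/-- If `U` complements `M_F` inside some `K ≤ M`, then `|U|` is coprime to `|M_F|`. -/
theorem card_coprime_of_isComplIn_fittingHallOf {G : Type*} [Group G] [Finite G]
    (M U K : Subgroup G) (hK : K ≤ M) (h : Cfsg.IsComplIn (Cfsg.fittingHallOf M) U K) :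
    (Nat.card U).Coprime (Nat.card (Cfsg.fittingHallOf M)) := by
  obtain ⟨hHK, hUK, hdisj, hprod⟩ := h
  have hsup : Cfsg.fittingHallOf M ⊔ U = K := by
    apply le_antisymm (sup_le hHK hUK)
    intro m hm
    obtain ⟨a, ha, b, hb, rfl⟩ := hprod m hm
    exact Subgroup.mul_mem _ (Subgroup.mem_sup_left ha) (Subgroup.mem_sup_right hb)
  have key := Cfsg.Agent.Helper17.card_sup_mul_card_inf (Cfsg.fittingHallOf M) U
    ((hUK.trans hK).trans (le_normalizer_fittingHallOf M))
  rw [hsup, hdisj, Subgroup.card_bot, mul_one] at key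
  -- |K| = |H| |U|, |K| ∣ |M|
  obtain ⟨t, ht⟩ := Subgroup.card_dvd_of_le hK
  have hk : Nat.card (Cfsg.fittingHallOf M) * (Nat.card U * t) = Nat.card M := by
    rw [ht, key, mul_assoc]
  have := card_fittingHallOf_coprime M hk
  exact (Nat.Coprime.coprime_mul_right_right this).symm

/-- If `h ∈ H`, `h * u` centralizes `H` and the order of `u` is coprime to `|H|`, then `u`
centralizes `H`. -/
theorem mem_centralizer_of_mul_mem_centralizer {G : Type*} [Group G] (H : Subgroup G) {h u : G}
    (hh : h ∈ H) (hu : (orderOf u).Coprime (Nat.card H))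
    (hc : h * u ∈ Subgroup.centralizer (H : Set G)) :
    u ∈ Subgroup.centralizer (H : Set G) := by
  have hcomm : Commute h u := by
    have h1 := (Subgroup.mem_centralizer_iff.mp hc) h hh
    -- h * (h * u) = h * u * h
    have h2 : h * u = u * h := by
      have := congrArg (fun t => h⁻¹ * t) h1
      beta_reduce at this
      rw [inv_mul_cancel_left, mul_assoc, inv_mul_cancel_left] at this
      exact this
    exact h2
  have hm : h ^ (Nat.card H) = 1 := by
    have := Subgroup.orderOf_dvd_natCard H hh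
    exact orderOf_dvd_iff_pow_eq_one.mp this
  have hbez := Nat.gcd_eq_gcd_ab (orderOf u) (Nat.card H)
  rw [hu] at hbez
  set A := Nat.gcdA (orderOf u) (Nat.card H)
  set B := Nat.gcdB (orderOf u) (Nat.card H)
  have hu1 : u = u ^ ((Nat.card H : ℤ) * B) := by
    have h1 : u ^ ((1 : ℕ) : ℤ) = u := by simp
    rw [hbez, zpow_add, zpow_mul, zpow_natCast, pow_orderOf_eq_one, one_zpow, one_mul] at h1
    exact h1.symm
  have hh1 : h ^ ((Nat.card H : ℤ) * B) = 1 := by
    rw [zpow_mul, zpow_natCast, hm, one_zpow]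
  have : (h * u) ^ ((Nat.card H : ℤ) * B) = u := by
    rw [hcomm.mul_zpow, hh1, one_mul, ← hu1]
  rw [← this]
  exact Subgroup.zpow_mem _ hc _

end Cfsg.Agent.Helper23
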