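import Mathlib
import Cfsg.Prelude.Def_Local
import Cfsg.Agent.Helper23.FittingHall

set_option autoImplicit false

namespace Cfsg.Agent.Helper23

section

variable (p : ℕ) [hp : Fact p.Prime] (G : Type*) [Group G] [Finite G]

/-- `O_{p'}(G)` has order coprime to `p`. -/
theorem pPrimeCore_card_coprime : (Nat.card (Cfsg.pPrimeCore p G)).Coprime p := by
  rw [Nat.coprime_comm, Nat.Prime.coprime_iff_not_dvd hp.out]
  intro hdvd
  obtain ⟨N, hN, hpN⟩ := exists_dvd_card_of_dvd_card_sSup
    {N : Subgroup G | N.Normal ∧ (Nat.card N).Coprime p} (fun N hN => hN.1) hp.out hdvd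
  have := hN.2
  rw [Nat.coprime_comm, Nat.Prime.coprime_iff_not_dvd hp.out] at this
  exact this hpN

/-- `O_p(G)` has order a power of `p`. -/
theorem pCore_card : ∃ a : ℕ, Nat.card (Cfsg.pCore p G) = p ^ a := by
  have h : IsPGroup p (Cfsg.pCore p G) := by
    -- sSup of normal p-subgroups is a p-group
    rw [IsPGroup.iff_card]
    by_contra hcon
    -- some prime q ≠ p divides the order
    have hpos : Nat.card (Cfsg.pCore p G) ≠ 0 := Nat.card_pos.ne'
    have : ∃ q : ℕ, q.Prime ∧ q ∣ Nat.card (Cfsg.pCore p G) ∧ q ≠ p := by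
      by_contra hq
      push Not at hq
      apply hcon
      exact ⟨_, Nat.eq_prime_pow_of_unique_prime_dvd hpos (fun {q} hq1 hq2 => hq q hq1 hq2)⟩
    obtain ⟨q, hq, hqd, hqp⟩ := this
    obtain ⟨N, hN, hqN⟩ := exists_dvd_card_of_dvd_card_sSup
      {N : Subgroup G | N.Normal ∧ IsPGroup p N} (fun N hN => hN.1) hq hqd
    obtain ⟨n, hn⟩ := (IsPGroup.iff_card).mp hN.2
    rw [hn] at hqN
    exact hqp ((Nat.prime_dvd_prime_iff_eq hq hp.out).mp (hq.dvd_of_dvd_pow hqN))
  exact (IsPGroup.iff_card).mp h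

end

/-- `|comap (mk' N) T| = |N| * |T|`. -/
theorem card_comap_mk' {G : Type*} [Group G] (N : Subgroup G) [N.Normal] (T : Subgroup (G ⧸ N)) :
    Nat.card (T.comap (QuotientGroup.mk' N)) = Nat.card N * Nat.card T :=
  QuotientGroup.card_preimage_mk N (T : Set (G ⧸ N))

theorem le_comap_mk' {G : Type*} [Group G] (N : Subgroup G) [N.Normal] (T : Subgroup (G ⧸ N)) :
    N ≤ T.comap (QuotientGroup.mk' N) := by
  intro x hx
  rw [Subgroup.mem_comap]
  have : (QuotientGroup.mk' N) x = 1 := by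
    rw [QuotientGroup.mk'_apply, QuotientGroup.eq_one_iff]; exact hx
  rw [this]; exact T.one_mem

/-- Structure of a group of `p`-length at most one: normal subgroups `K ≤ L` with `|K|` prime to `p`,
`|L : K|` a power of `p`, `|G : L|` prime to `p`. -/
theorem exists_series_of_pLengthLE_one (p : ℕ) [hp : Fact p.Prime] (G : Type*) [Group G] [Finite G]
    (h : Cfsg.PLengthLE p 1 G) :
    ∃ K L : Subgroup G, K.Normal ∧ L.Normal ∧ K ≤ L ∧ (Nat.card K).Coprime p ∧
      (∃ a : ℕ, Nat.card L = Nat.card K * p ^ a) ∧ (L.index).Coprime p := by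
  have h3 : (Cfsg.upperPSeries p G 3).1 = ⊤ := h
  refine ⟨(Cfsg.upperPSeries p G 1).1, (Cfsg.upperPSeries p G 2).1, inferInstance, inferInstance,
    ?_, ?_, ?_, ?_⟩
  · -- U₁ ≤ U₂
    have : (Cfsg.upperPSeries p G 2).1 =
        (Cfsg.pCore p (G ⧸ (Cfsg.upperPSeries p G 1).1)).comap (QuotientGroup.mk' _) := by
      rw [Cfsg.upperPSeries]; simp
    rw [this]; exact le_comap_mk' _ _
  · have : (Cfsg.upperPSeries p G 1).1 =
        (Cfsg.pPrimeCore p (G ⧸ (Cfsg.upperPSeries p G 0).1)).comap (QuotientGroup.mk' _) := by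
      rw [Cfsg.upperPSeries]; simp
    rw [this, card_comap_mk']
    have h0 : Nat.card (Cfsg.upperPSeries p G 0).1 = 1 := by
      rw [Cfsg.upperPSeries]; simp
    rw [h0, one_mul]
    exact pPrimeCore_card_coprime p _
  · have : (Cfsg.upperPSeries p G 2).1 =
        (Cfsg.pCore p (G ⧸ (Cfsg.upperPSeries p G 1).1)).comap (QuotientGroup.mk' _) := by
      rw [Cfsg.upperPSeries]; simp
    obtain ⟨a, ha⟩ := pCore_card p (G ⧸ (Cfsg.upperPSeries p G 1).1)
    refine ⟨a, ?_⟩
    rw [this, card_comap_mk', ha]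
  · have : (Cfsg.upperPSeries p G 3).1 =
        (Cfsg.pPrimeCore p (G ⧸ (Cfsg.upperPSeries p G 2).1)).comap (QuotientGroup.mk' _) := by
      rw [Cfsg.upperPSeries]; simp
    have hc := card_comap_mk' (Cfsg.upperPSeries p G 2).1
      (Cfsg.pPrimeCore p (G ⧸ (Cfsg.upperPSeries p G 2).1))
    rw [← this, h3, Subgroup.card_top] at hc
    have hidx := Subgroup.card_mul_index (Cfsg.upperPSeries p G 2).1
    have hpos : 0 < Nat.card (Cfsg.upperPSeries p G 2).1 := Nat.card_pos
    have : (Cfsg.upperPSeries p G 2).1.index =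
        Nat.card (Cfsg.pPrimeCore p (G ⧸ (Cfsg.upperPSeries p G 2).1)) := by
      apply Nat.eq_of_mul_eq_mul_left hpos
      rw [hidx, hc]
    rw [this]
    exact pPrimeCore_card_coprime p _

/-- A `p`-subgroup lies in every normal subgroup of index prime to `p`. -/
theorem le_of_isPGroup_of_index_coprime {p : ℕ} {G : Type*} [Group G] [Finite G]
    (L : Subgroup G) [L.Normal] (hL : (L.index).Coprime p) (Q : Subgroup G) (hQ : IsPGroup p Q) :
    Q ≤ L := by
  intro x hx
  obtain ⟨k, hk⟩ := hQ ⟨x, hx⟩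
  have hk' : x ^ (p ^ k) = 1 := by
    have := congrArg Subtype.val hk
    simpa using this
  have h1 : ((QuotientGroup.mk' L) x) ^ (p ^ k) = 1 := by rw [← map_pow, hk', map_one]
  have h2 : ((QuotientGroup.mk' L) x) ^ (L.index) = 1 := by
    rw [Subgroup.index_eq_card]; exact pow_card_eq_one'
  have h3 := pow_gcd_eq_one.mpr ⟨h1, h2⟩
  have hcop : (p ^ k).gcd L.index = 1 := Nat.Coprime.pow_left k hL.symm
  rw [hcop, pow_one] at h3
  rwa [QuotientGroup.mk'_apply, QuotientGroup.eq_one_iff] at h3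

/-- In a group of `p`-length at most one with Sylow `p`-subgroup `S` there is a normal `p'`-subgroup
`K` with `G = K N_G(S)` and `K S` containing every `p`-subgroup. -/
theorem exists_normal_pPrime_of_pLengthLE_one (p : ℕ) [hp : Fact p.Prime] (G : Type*) [Group G]
    [Finite G] (h : Cfsg.PLengthLE p 1 G) (S : Sylow p G) :
    ∃ K : Subgroup G, K.Normal ∧ (Nat.card K).Coprime p ∧
      K ⊔ Subgroup.normalizer ((S : Subgroup G) : Set G) = ⊤ ∧
      ∀ Q : Subgroup G, IsPGroup p Q → Q ≤ K ⊔ (S : Subgroup G) := by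
  obtain ⟨K, L, hKn, hLn, hKL, hKcop, ⟨a, hLcard⟩, hLidx⟩ := exists_series_of_pLengthLE_one p G h
  have hSL : (S : Subgroup G) ≤ L := le_of_isPGroup_of_index_coprime L hLidx _ S.isPGroup'
  -- |S| = p ^ a
  have hScard : Nat.card (S : Subgroup G) = p ^ a := by
    obtain ⟨n, hn⟩ := (IsPGroup.iff_card).mp S.isPGroup'
    have h1 : Nat.card (S : Subgroup G) * (S : Subgroup G).index = Nat.card G :=
      Subgroup.card_mul_index _
    have h2 : Nat.card L * L.index = Nat.card G := Subgroup.card_mul_index _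
    have hidx : ¬ p ∣ (S : Subgroup G).index := S.not_dvd_index
    have hidx' : ((S : Subgroup G).index).Coprime p := by
      rw [Nat.coprime_comm, Nat.Prime.coprime_iff_not_dvd hp.out]; exact hidx
    rw [hn]
    rw [hn] at h1
    rw [hLcard] at h2
    apply Nat.dvd_antisymm
    · have : p ^ n ∣ p ^ a * (Nat.card K * L.index) := by
        refine ⟨(S : Subgroup G).index, ?_⟩
        rw [h1, ← h2]; ring
      exact (Nat.Coprime.dvd_mul_right
        (Nat.Coprime.pow_left n (Nat.Coprime.mul_right hKcop.symm hLidx.symm))).mp this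
    · have : p ^ a ∣ p ^ n * (S : Subgroup G).index := by
        refine ⟨Nat.card K * L.index, ?_⟩
        rw [h1, ← h2]; ring
      exact (Nat.Coprime.dvd_mul_right (Nat.Coprime.pow_left a hidx'.symm)).mp this
  have hKS : K ⊓ (S : Subgroup G) = ⊥ := by
    apply (Subgroup.disjoint_of_coprime_natCard _).eq_bot
    rw [hScard]; exact Nat.Coprime.pow_right a hKcop
  have hsup : K ⊔ (S : Subgroup G) = L := by
    apply Subgroup.eq_of_le_of_card_ge (sup_le hKL hSL)
    have := Cfsg.Agent.Helper17.card_sup_mul_card_inf_of_normal K (S : Subgroup G)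
    rw [hKS, Subgroup.card_bot, mul_one] at this
    rw [this, hLcard, hScard]
  refine ⟨K, hKn, hKcop, ?_, ?_⟩
  · -- Frattini
    have hfr := Sylow.normalizer_sup_eq_top' S hSL
    rw [eq_top_iff, ← hfr, ← hsup]
    refine sup_le le_sup_right (sup_le le_sup_left ?_)
    exact Subgroup.le_normalizer.trans le_sup_right
  · intro Q hQ
    rw [hsup]
    exact le_of_isPGroup_of_index_coprime L hLidx Q hQ

end Cfsg.Agent.Helper23
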