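import Mathlib
import Cfsg.Prelude.Def_Local
import Cfsg.Prelude.Def_CaseTheorems
import Cfsg.Agent.Helper23.PSeries
import Cfsg.Agent.Helper14.Subnormal2
import Cfsg.Agent.Helper21.PSolv
import Cfsg.Agent.Lead.PSolvHall
import Cfsg.Agent.Helper7.PPrimeCore

set_option autoImplicit false

namespace Cfsg.Agent.Helper23

open Subgroup

/-- **Hall–Higman Lemma 1.2.3**: in a finite `p`-solvable group with `O_{p'}(G) = 1`,
`C_G(O_p(G)) ≤ O_p(G)`. -/
theorem centralizer_pCore_le_of_isPSolvable {G : Type*} [Group G] [Finite G] {p : ℕ}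
    [hp : Fact p.Prime] (hsolv : Cfsg.IsPSolvable p G) (hO : Cfsg.pPrimeCore p G = ⊥) :
    centralizer (Cfsg.pCore p G : Set G) ≤ Cfsg.pCore p G := by
  by_contra hne
  set P := Cfsg.pCore p G with hP
  set C := centralizer (P : Set G) with hC
  have hPn : P.Normal := inferInstance
  have hCn : C.Normal := inferInstance
  have hPp : IsPGroup p P := by
    obtain ⟨a, ha⟩ := pCore_card p G
    exact IsPGroup.of_card ha
  set Z := P ⊓ C with hZ
  have hZn : Z.Normal := inferInstance
  have hZC : Z ≤ C := inf_le_right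
  have hZp : IsPGroup p Z := hPp.to_le inf_le_left
  -- the quotient C / Z
  have hZcn : (Z.subgroupOf C).Normal := inferInstance
  have hY : Cfsg.IsPSolvable p (↥C ⧸ Z.subgroupOf C) :=
    Cfsg.Agent.Lead.isPSolvable_quotient
      (Cfsg.Agent.Helper21.PSolv.isPSolvable_subgroup hp.out hsolv C) (Z.subgroupOf C)
  have hYnt : Nontrivial (↥C ⧸ Z.subgroupOf C) := by
    obtain ⟨c, hcC, hcP⟩ := SetLike.not_le_iff_exists.mp hne
    refine ⟨⟨(QuotientGroup.mk' (Z.subgroupOf C)) ⟨c, hcC⟩, 1, ?_⟩⟩
    intro h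
    rw [QuotientGroup.mk'_apply, QuotientGroup.eq_one_iff, mem_subgroupOf] at h
    exact hcP h.1
  obtain ⟨Mb, hMbn, hMbne, hMb⟩ := Cfsg.Agent.Lead.exists_normal_of_isPSolvable hY
  set Mc := Mb.comap (QuotientGroup.mk' (Z.subgroupOf C)) with hMc
  have hMcn : Mc.Normal := inferInstance
  have hMccard : Nat.card Mc = Nat.card (Z.subgroupOf C) * Nat.card Mb := card_comap_mk' _ _
  have hZccard : Nat.card (Z.subgroupOf C) = Nat.card Z :=
    Nat.card_congr (Subgroup.subgroupOfEquivOfLe hZC).toEquiv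
  set M := Mc.map C.subtype with hM
  have hMC : M ≤ C := map_subtype_le _
  have hMcard : Nat.card M = Nat.card Z * Nat.card Mb := by
    rw [hM, Subgroup.card_map_of_injective C.subtype_injective, hMccard, hZccard]
  have hMsub : M.IsSubnormal :=
    Subgroup.IsSubnormal.trans' (Subgroup.Normal.isSubnormal hMcn) (Subgroup.Normal.isSubnormal hCn)
  have hZM : Z ≤ M := by
    intro z hz
    exact ⟨⟨z, hZC hz⟩, le_comap_mk' _ _ (mem_subgroupOf.mpr hz), rfl⟩
  have hMbcard : Nat.card Mb ≠ 1 := fun h => hMbne (Subgroup.card_eq_one.mp h)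
  obtain ⟨a, ha⟩ := IsPGroup.iff_card.mp hZp
  rcases hMb with ⟨m, hm⟩ | hcop
  · -- `M` is a subnormal `p`-subgroup, hence inside `P ⊓ C = Z`
    have hMp : IsPGroup p M := IsPGroup.of_card (n := a + m) (by rw [hMcard, ha, hm, pow_add])
    have hMP : M ≤ P := Cfsg.Agent.Helper14.le_pCore_of_isSubnormal hMsub hMp
    have hMZ : M ≤ Z := le_inf hMP hMC
    have h1 : Nat.card M = Nat.card Z := by
      rw [le_antisymm hMZ hZM]
    rw [hMcard] at h1
    have hZpos : 0 < Nat.card Z := Nat.card_pos
    have : Nat.card Mb = 1 := by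
      have h2 : Nat.card Z * Nat.card Mb = Nat.card Z * 1 := by rw [h1, mul_one]
      exact Nat.eq_of_mul_eq_mul_left hZpos h2
    exact hMbcard this
  · -- `Z` is a central Sylow `p`-subgroup of `M`: Burnside gives a normal complement
    have hZmp : IsPGroup p (Z.subgroupOf M) := hZp.comap_subtype
    have hZmcard : Nat.card (Z.subgroupOf M) = Nat.card Z :=
      Nat.card_congr (Subgroup.subgroupOfEquivOfLe hZM).toEquiv
    have hZmidx : (Z.subgroupOf M).index = Nat.card Mb := by
      have h1 := (Z.subgroupOf M).card_mul_index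
      rw [hZmcard, hMcard] at h1
      exact Nat.eq_of_mul_eq_mul_left Nat.card_pos h1
    have hndvd : ¬ p ∣ (Z.subgroupOf M).index := by
      rw [hZmidx]
      exact (Nat.Prime.coprime_iff_not_dvd hp.out).mp hcop.symm
    set S : Sylow p M := hZmp.toSylow hndvd with hS
    have hcent : normalizer ((S : Subgroup M) : Set M) ≤ centralizer ((S : Subgroup M) : Set M) := by
      intro x _
      rw [mem_centralizer_iff]
      intro z hz
      have hz' : (z : G) ∈ Z := hz
      have hx : (x : G) ∈ C := hMC x.2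
      have := (mem_centralizer_iff.mp hx) (z : G) hz'.1
      exact Subtype.ext this
    have hcompl := MonoidHom.ker_transferSylow_isComplement' S hcent
    have hK' : ¬ p ∣ Nat.card (MonoidHom.transferSylow S hcent).ker :=
      MonoidHom.not_dvd_card_ker_transferSylow S hcent
    set K' := (MonoidHom.transferSylow S hcent).ker with hK'def
    have hK'n : K'.Normal := inferInstance
    have hKsub : (K'.map M.subtype).IsSubnormal :=
      Subgroup.IsSubnormal.trans' (Subgroup.Normal.isSubnormal hK'n) hMsub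
    have hKcop : (Nat.card (K'.map M.subtype)).Coprime p := by
      rw [Subgroup.card_map_of_injective M.subtype_injective]
      exact ((Nat.Prime.coprime_iff_not_dvd hp.out).mpr hK').symm
    have hKle := Cfsg.Agent.Helper7.subnormal_coprime_le_pPrimeCore hKsub hKcop
    rw [hO, le_bot_iff] at hKle
    have hK'card : Nat.card K' = 1 := by
      rw [← Subgroup.card_map_of_injective M.subtype_injective, hKle, Subgroup.card_bot]
    have h1 := hcompl.card_mul_card
    rw [hK'card, one_mul] at h1
    have h2 : Nat.card (S : Subgroup M) = Nat.card Z := hZmcard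
    rw [h2, hMcard] at h1
    have hZpos : 0 < Nat.card Z := Nat.card_pos
    have : Nat.card Mb = 1 := by
      have h3 : Nat.card Z * Nat.card Mb = Nat.card Z * 1 := by rw [← h1, mul_one]
      exact Nat.eq_of_mul_eq_mul_left hZpos h3
    exact hMbcard this

/-- Hall–Higman 1.2.3 in quotient form: for `G` finite `p`-solvable and `Ḡ = G / O_{p'}(G)`,
`C_Ḡ(O_p(Ḡ)) ≤ O_p(Ḡ)`. -/
theorem centralizer_pCore_quotient_le_of_isPSolvable {G : Type*} [Group G] [Finite G] {p : ℕ}
    [hp : Fact p.Prime] (hsolv : Cfsg.IsPSolvable p G) :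
    centralizer (Cfsg.pCore p (G ⧸ Cfsg.pPrimeCore p G) : Set (G ⧸ Cfsg.pPrimeCore p G)) ≤
      Cfsg.pCore p (G ⧸ Cfsg.pPrimeCore p G) :=
  centralizer_pCore_le_of_isPSolvable (Cfsg.Agent.Lead.isPSolvable_quotient hsolv _)
    (Cfsg.Agent.Helper7.pPrimeCore_quotient_eq_bot p)

end Cfsg.Agent.Helper23
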