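import Mathlib
import Cfsg.Prelude.Def_Blocks
import Cfsg.Prelude.Def_Local
import Cfsg.Agent.Helper23.ClaimNP
import Cfsg.Agent.Helper23.HallHigman
import Cfsg.Agent.Helper5.PPrimeNormal
import Cfsg.Agent.Helper8.CharComp
import Cfsg.Agent.Helper24.Linear
import Cfsg.Agent.Helper24.CharBasic
import Cfsg.Agent.Helper24.Expansion
import Cfsg.Agent.Helper14.PCore
import Cfsg.Agent.Helper19.Cores

set_option autoImplicit false

/-!
# The principal block of a `p`-solvable group (Fong)

For `G` finite `p`-solvable, an irreducible character lies in the principal `p`-block iff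
`O_{p'}(G)` is in its kernel.
-/

namespace Cfsg.Agent.Helper23.PB

open Cfsg Cfsg.Agent.Helper24 Cfsg.Agent.Helper5 Cfsg.Agent.Helper5.Loc Cfsg.Agent.Helper5.CC

variable {M : Ideal AlgInt}

/-- In a `p`-solvable group with trivial `p'`-core there is just one `p`-block. -/
theorem sameBlock_of_pPrimeCore_eq_bot {H : Type*} [Group H] [Finite H] {p : ℕ} [Fact p.Prime]
    (hM : IsPModular p M) (hs : IsPSolvable p H) (hO : pPrimeCore p H = ⊥)
    (χ ψ : IrrCharacter H) : SameBlock M (χ : H → ℂ) (ψ : H → ℂ) := by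
  classical
  have : Fintype H := Fintype.ofFinite _
  have hMp := isPrime_of_isPModular hM
  intro g
  have hQn : (pCore p H).Normal := Subgroup.sSup_normal _ (fun _ h => h.1)
  have hQ : IsPGroup p (pCore p H) :=
    Sylow.sSup_of_normal _ (fun _ h => h.2) (fun _ h => h.1)
  by_cases hg : g ∈ Subgroup.centralizer (pCore p H : Set H)
  · have hgQ := Cfsg.Agent.Helper23.centralizer_pCore_le_of_isPSolvable hs hO hg
    have h1 := centralChar_sub_index_memLocalIdeal hM (pCore p H) hQ χ g hgQ
    have h2 := centralChar_sub_index_memLocalIdeal hM (pCore p H) hQ ψ g hgQ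
    have := li_sub hMp h1 h2
    convert this using 1
    ring
  · exact li_sub hMp (centralChar_memLocalIdeal_of_not_mem_centralizer hM _ hQ χ g hg)
      (centralChar_memLocalIdeal_of_not_mem_centralizer hM _ hQ ψ g hg)

/-- An irreducible character with `N` in its kernel comes from `G ⧸ N`. -/
theorem exists_irr_quotient {G : Type*} [Group G] [Finite G] (N : Subgroup G) [hN : N.Normal]
    (χ : IrrCharacter G) (h : ∀ n ∈ N, (χ : G → ℂ) n = (χ : G → ℂ) 1) :
    ∃ ψ : IrrCharacter (G ⧸ N),
      ∀ g : G, (ψ : G ⧸ N → ℂ) (QuotientGroup.mk' N g) = (χ : G → ℂ) g := by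
  obtain ⟨m, ρ, hρ, hχ⟩ := χ.2
  have hker : N ≤ MonoidHom.ker ρ := by
    intro n hn
    rw [MonoidHom.mem_ker]
    have h1 := h n hn
    rw [← hχ, Representation.char_one] at h1
    have := (char_eq_finrank_iff ρ n).mp h1
    rw [this]; rfl
  let ρ' : Representation ℂ (G ⧸ N) (Fin m → ℂ) := QuotientGroup.lift N ρ hker
  have hcomp : (MonoidHom.comp ρ' (QuotientGroup.mk' N) :
      Representation ℂ G (Fin m → ℂ)) = ρ := by
    ext g v
    rfl
  have hρ' : ρ'.IsIrreducible := by
    have h1 : Representation.IsIrreducible (MonoidHom.comp ρ'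
        (QuotientGroup.mk' N) : Representation ℂ G (Fin m → ℂ)) := by
      rw [hcomp]; exact hρ
    exact (OrderIso.isSimpleOrder_iff (Helper8.subrepCompOrderIso ρ'
      (QuotientGroup.mk' N) (QuotientGroup.mk'_surjective _))).mpr h1
  refine ⟨⟨ρ'.character, m, ρ', hρ', rfl⟩, ?_⟩
  intro g
  rw [← hχ]
  rfl

/-- The class size of the image divides the class size. -/
theorem index_centralizer_mk_dvd {G : Type*} [Group G] (N : Subgroup G) [hN : N.Normal] (g : G) :
    (Subgroup.centralizer ({(QuotientGroup.mk' N g)} : Set (G ⧸ N))).index ∣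
      (Subgroup.centralizer ({g} : Set G)).index := by
  rw [← Subgroup.index_comap_of_surjective _ (QuotientGroup.mk'_surjective N)]
  apply Subgroup.index_dvd_of_le
  intro c hc
  rw [Subgroup.mem_comap, Subgroup.mem_centralizer_iff]
  intro t ht
  rw [Set.mem_singleton_iff] at ht
  subst ht
  rw [Subgroup.mem_centralizer_iff] at hc
  have := hc g (Set.mem_singleton g)
  rw [← map_mul, ← map_mul, this]

/-- Inflation maps the principal block of `G ⧸ N` into the principal block of `G`. -/
theorem inflation_mem_principalBlock {G : Type*} [Group G] [Finite G] (hMp : M.IsPrime)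
    (N : Subgroup G) [hN : N.Normal]
    (ψ : IrrCharacter (G ⧸ N)) (hψ : ψ ∈ principalBlock M (G ⧸ N)) (χ : IrrCharacter G)
    (h : ∀ g : G, (ψ : G ⧸ N → ℂ) (QuotientGroup.mk' N g) = (χ : G → ℂ) g) :
    χ ∈ principalBlock M G := by
  intro g
  have h1 := hψ (QuotientGroup.mk' N g)
  obtain ⟨f, hf⟩ := index_centralizer_mk_dvd N g
  have h2 : centralChar (fun _ : G => (1 : ℂ)) g - centralChar (χ : G → ℂ) g =
      (f : ℂ) * (centralChar (fun _ : G ⧸ N => (1 : ℂ)) (QuotientGroup.mk' N g) -
        centralChar (ψ : G ⧸ N → ℂ) (QuotientGroup.mk' N g)) := by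
    simp only [centralChar_def]
    rw [hf, ← h g, ← h 1, map_one]
    push_cast
    ring
  rw [h2]
  exact li_mul_left hMp (memLocalRing_natCast hMp f) h1

/-- A principal-block character has the `p'`-core in its kernel. -/
theorem eq_one_of_mem_principalBlock {G : Type*} [Group G] [Finite G] {p : ℕ} [Fact p.Prime]
    (hM : IsPModular p M) (χ : IrrCharacter G) (hχ : χ ∈ principalBlock M G) :
    ∀ n ∈ pPrimeCore p G, (χ : G → ℂ) n = (χ : G → ℂ) 1 := by
  classical
  have : Fintype G := Fintype.ofFinite _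
  have : Fintype (IrrCharacter G) := Fintype.ofFinite _
  have : Fintype (pPrimeCore p G) := Fintype.ofFinite _
  have : Fintype (IrrCharacter (pPrimeCore p G)) := Fintype.ofFinite _
  have hN : (pPrimeCore p G).Normal := Subgroup.sSup_normal _ (fun _ h => h.1)
  have hcop : (Nat.card (pPrimeCore p G)).Coprime p := Cfsg.Agent.Helper19.pPrimeCore_coprime p
  have hpN : ¬ p ∣ Nat.card (pPrimeCore p G) := by
    intro hdvd
    have h1 : p ∣ Nat.gcd (Nat.card (pPrimeCore p G)) p := Nat.dvd_gcd hdvd dvd_rfl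
    rw [hcop] at h1
    exact (Fact.out : p.Prime).one_lt.ne' (Nat.dvd_one.mp h1)
  have hsb : SameBlock M (χ : G → ℂ) ((trivIrr G : IrrCharacter G) : G → ℂ) :=
    sameBlock_symm hχ
  have hres : IsCharacter (pPrimeCore p G) (fun n : pPrimeCore p G => (χ : G → ℂ) n) :=
    Cfsg.Agent.Helper8.isCharacter_restrict _ (IsIrrCharacter.isCharacter χ.2)
  have hzero : ∀ θ : IrrCharacter (pPrimeCore p G), θ ≠ trivIrr (pPrimeCore p G) →
      classInner (fun n : pPrimeCore p G => (χ : G → ℂ) n) (θ : pPrimeCore p G → ℂ) = 0 := by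
    intro θ hθ
    by_contra hne
    have := constituent_of_sameBlock hM (pPrimeCore p G) hpN χ (trivIrr G) hsb θ hne
    apply this
    have h1 : (fun n : pPrimeCore p G => ((trivIrr G : IrrCharacter G) : G → ℂ) n) =
        ((trivIrr (pPrimeCore p G) : IrrCharacter (pPrimeCore p G)) : pPrimeCore p G → ℂ) := rfl
    rw [h1]
    exact classInner_irr_ne (Ne.symm hθ)
  have hexp := IsCharacter.eq_sum_classInner hres
  rw [Finset.sum_eq_single (trivIrr (pPrimeCore p G))] at hexp
  · intro n hn
    have h1 := congrFun hexp ⟨n, hn⟩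
    have h2 := congrFun hexp ⟨1, Subgroup.one_mem _⟩
    simp only [Pi.smul_apply, trivIrr_apply, smul_eq_mul, mul_one] at h1 h2
    rw [h1, h2]
  · intro θ _ hθ
    rw [hzero θ hθ, zero_smul]
  · intro h; exact absurd (Finset.mem_univ _) h

/-- **Fong.** In a `p`-solvable group, an irreducible character with `O_{p'}(G)` in its kernel
lies in the principal block. -/
theorem mem_principalBlock_of_pPrimeCore_le {G : Type*} [Group G] [Finite G] {p : ℕ}
    [Fact p.Prime] (hM : IsPModular p M) (hs : IsPSolvable p G) (χ : IrrCharacter G)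
    (h : ∀ n ∈ pPrimeCore p G, (χ : G → ℂ) n = (χ : G → ℂ) 1) : χ ∈ principalBlock M G := by
  have hMp := isPrime_of_isPModular hM
  have hN : (pPrimeCore p G).Normal := Subgroup.sSup_normal _ (fun _ h => h.1)
  obtain ⟨ψ, hψ⟩ := exists_irr_quotient (pPrimeCore p G) χ h
  refine inflation_mem_principalBlock hMp (pPrimeCore p G) ψ ?_ χ hψ
  exact sameBlock_of_pPrimeCore_eq_bot hM (Cfsg.Agent.Lead.isPSolvable_quotient hs _)
    (Cfsg.Agent.Helper7.pPrimeCore_quotient_eq_bot p) (trivIrr _) ψ

theorem mem_principalBlock_iff {G : Type*} [Group G] [Finite G] {p : ℕ}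
    [Fact p.Prime] (hM : IsPModular p M) (hs : IsPSolvable p G) (χ : IrrCharacter G) :
    χ ∈ principalBlock M G ↔ ∀ n ∈ pPrimeCore p G, (χ : G → ℂ) n = (χ : G → ℂ) 1 :=
  ⟨eq_one_of_mem_principalBlock hM χ, mem_principalBlock_of_pPrimeCore_le hM hs χ⟩

end Cfsg.Agent.Helper23.PB
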