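import Mathlib

set_option autoImplicit false

namespace Cfsg.Agent.Helper23

/-- If the commutator `z = n a n⁻¹ a⁻¹` commutes with `a` and has order coprime to that of `a`,
then it is trivial (the stability-group argument). -/
theorem comm_eq_one_of_coprime {G : Type*} [Group G] (n a : G)
    (hcomm : Commute (n * a * n⁻¹ * a⁻¹) a)
    (hcop : (orderOf a).Coprime (orderOf (n * a * n⁻¹ * a⁻¹))) :
    n * a * n⁻¹ * a⁻¹ = 1 := by
  set z := n * a * n⁻¹ * a⁻¹ with hz
  have hconj : n * a * n⁻¹ = z * a := by rw [hz]; group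
  have hpow : (z * a) ^ orderOf a = z ^ orderOf a * a ^ orderOf a := hcomm.mul_pow _
  have hzpow : z ^ orderOf a = 1 := by
    rw [← hconj, conj_pow, pow_orderOf_eq_one] at hpow
    simpa using hpow.symm
  have hzord : orderOf z ∣ orderOf a := orderOf_dvd_of_pow_eq_one hzpow
  have h1 : orderOf z = 1 := Nat.eq_one_of_dvd_coprimes hcop hzord dvd_rfl
  exact orderOf_eq_one_iff.mp h1

/-- Variant: `a ∈ A`, `z ∈ H` with `|A|`, `|H|` coprime. -/
theorem comm_eq_one_of_coprime_card {G : Type*} [Group G] [Finite G] (H A : Subgroup G)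
    (hcop : (Nat.card A).Coprime (Nat.card H)) (n a : G) (ha : a ∈ A)
    (hz : n * a * n⁻¹ * a⁻¹ ∈ H) (hcomm : Commute (n * a * n⁻¹ * a⁻¹) a) :
    n * a * n⁻¹ * a⁻¹ = 1 := by
  apply comm_eq_one_of_coprime n a hcomm
  have h1 : orderOf a ∣ Nat.card A := by
    have := orderOf_dvd_natCard (⟨a, ha⟩ : A)
    rwa [Subgroup.orderOf_mk] at this
  have h2 : orderOf (n * a * n⁻¹ * a⁻¹) ∣ Nat.card H := by
    have := orderOf_dvd_natCard (⟨_, hz⟩ : H)
    rwa [Subgroup.orderOf_mk] at this
  exact Nat.Coprime.coprime_dvd_left h1 (Nat.Coprime.coprime_dvd_right h2 hcop)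

theorem commute_of_comm_eq_one {G : Type*} [Group G] (n a : G) (h : n * a * n⁻¹ * a⁻¹ = 1) :
    n * a = a * n := by
  have : n * a * n⁻¹ = a := by
    have := congrArg (· * a) h
    simpa using this
  calc n * a = (n * a * n⁻¹) * n := by group
    _ = a * n := by rw [this]

end Cfsg.Agent.Helper23
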