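import Mathlib

/-!
Galois conjugates of sums of roots of unity inside `ℂ`, and the AM-GM bound
`∑_σ ‖σ x‖² ≥ #σ` for a nonzero algebraic integer `x` of a number field `K ⊆ ℂ`.
-/

set_option autoImplicit false

namespace Cfsg.Agent.Helper23

open Module

/-- The subfield of `ℂ` generated by the `N`-th roots of unity. -/
noncomputable def cyclo (N : ℕ) : IntermediateField ℚ ℂ :=
  IntermediateField.adjoin ℚ {μ : ℂ | μ ^ N = 1}

theorem mem_cyclo {N : ℕ} {μ : ℂ} (h : μ ^ N = 1) : μ ∈ cyclo N :=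
  IntermediateField.subset_adjoin ℚ _ h

theorem finite_rootsOfUnity_set (N : ℕ) (hN : 0 < N) : {μ : ℂ | μ ^ N = 1}.Finite := by
  have h : {μ : ℂ | μ ^ N = 1} ⊆ ((Polynomial.nthRoots N (1 : ℂ)).toFinset : Set ℂ) := by
    intro μ hμ
    simp only [Finset.mem_coe, Multiset.mem_toFinset]
    exact (Polynomial.mem_nthRoots hN).mpr hμ
  exact Set.Finite.subset (Finset.finite_toSet _) h

theorem finiteDimensional_cyclo (N : ℕ) (hN : 0 < N) : FiniteDimensional ℚ (cyclo N) := by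
  have : Finite {μ : ℂ | μ ^ N = 1} := (finite_rootsOfUnity_set N hN).to_subtype
  apply IntermediateField.finiteDimensional_adjoin
  intro μ hμ
  have h1 : IsIntegral ℤ μ := IsIntegral.of_pow hN (by rw [hμ]; exact isIntegral_one)
  exact h1.tower_top

/-- Every embedding of `cyclo N` into `ℂ` raises all `N`-th roots of unity to a fixed power `k`
coprime to `N`. -/
theorem exists_pow_of_embedding (N : ℕ) (hN : 0 < N) (σ : cyclo N →ₐ[ℚ] ℂ) :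
    ∃ k : ℕ, k.Coprime N ∧ ∀ (μ : ℂ) (hμ : μ ^ N = 1), σ ⟨μ, mem_cyclo hμ⟩ = μ ^ k := by
  have : NeZero N := ⟨hN.ne'⟩
  set ζ : ℂ := Complex.exp (2 * Real.pi * Complex.I / N) with hζdef
  have hζ : IsPrimitiveRoot ζ N := Complex.isPrimitiveRoot_exp N hN.ne'
  have hζ1 : ζ ^ N = 1 := hζ.pow_eq_one
  let z : cyclo N := ⟨ζ, mem_cyclo hζ1⟩
  have hz : IsPrimitiveRoot z N := by
    have : IsPrimitiveRoot ((algebraMap (cyclo N) ℂ) z) N := hζ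
    exact IsPrimitiveRoot.of_map_of_injective (f := algebraMap (cyclo N) ℂ) this
      (algebraMap (cyclo N) ℂ).injective
  have hσz : IsPrimitiveRoot (σ z) N := hz.map_of_injective σ.toRingHom.injective
  obtain ⟨k, -, hk, hkz⟩ := (hζ.isPrimitiveRoot_iff).mp hσz
  refine ⟨k, hk, ?_⟩
  intro μ hμ
  obtain ⟨j, -, hj⟩ := hζ.eq_pow_of_pow_eq_one hμ
  have : (⟨μ, mem_cyclo hμ⟩ : cyclo N) = z ^ j := by
    apply Subtype.ext
    simp only [z]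
    rw [← hj]
    rfl
  rw [this, map_pow, ← hkz, ← hj, ← pow_mul, ← pow_mul, mul_comm]

/-- AM-GM bound: for a nonzero algebraic integer `x` in a number field `K ⊆ ℂ`,
`#embeddings ≤ ∑_σ ‖σ x‖²`. -/
theorem card_le_sum_norm_sq (K : IntermediateField ℚ ℂ) [FiniteDimensional ℚ K] (x : K)
    (hx : x ≠ 0) (hint : IsIntegral ℤ x) :
    (Fintype.card (K →ₐ[ℚ] ℂ) : ℝ) ≤ ∑ σ : K →ₐ[ℚ] ℂ, ‖σ x‖ ^ 2 := by
  classical
  have hnorm_int : IsIntegral ℤ (Algebra.norm ℚ x) := Algebra.isIntegral_norm ℚ hint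
  obtain ⟨m, hm⟩ := (IsIntegrallyClosed.isIntegral_iff (R := ℤ) (K := ℚ)).mp hnorm_int
  have hprod := Algebra.norm_eq_prod_embeddings ℚ ℂ x
  have hm0 : m ≠ 0 := by
    intro h0
    have : Algebra.norm ℚ x = 0 := by rw [← hm, h0]; simp
    exact hx (Algebra.norm_eq_zero_iff.mp this)
  have h1 : ((m : ℚ) : ℂ) = ∏ σ : K →ₐ[ℚ] ℂ, σ x := by
    rw [← hprod, ← hm]; simp
  have h2 : (1 : ℝ) ≤ ∏ σ : K →ₐ[ℚ] ℂ, ‖σ x‖ := by
    rw [← norm_prod, ← h1]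
    have h3 : ‖((m : ℚ) : ℂ)‖ = |(m : ℝ)| := by
      rw [show ((m : ℚ) : ℂ) = ((m : ℝ) : ℂ) by push_cast; rfl, Complex.norm_real]
      rfl
    rw [h3]
    have : (1 : ℤ) ≤ |m| := Int.one_le_abs hm0
    exact_mod_cast this
  have h4 : (1 : ℝ) ≤ ∏ σ : K →ₐ[ℚ] ℂ, ‖σ x‖ ^ 2 := by
    rw [Finset.prod_pow]
    exact one_le_pow₀ h2
  set E := Fintype.card (K →ₐ[ℚ] ℂ) with hE
  by_cases hE0 : E = 0
  · rw [hE0]; simp only [Nat.cast_zero]
    exact Finset.sum_nonneg (fun σ _ => by positivity)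
  have hEpos : (0 : ℝ) < E := by exact_mod_cast Nat.pos_of_ne_zero hE0
  have key := Real.geom_mean_le_arith_mean_weighted Finset.univ
    (fun _ : K →ₐ[ℚ] ℂ => (E : ℝ)⁻¹) (fun σ => ‖σ x‖ ^ 2)
    (fun _ _ => by positivity)
    (by rw [Finset.sum_const, Finset.card_univ, nsmul_eq_mul, ← hE]; field_simp)
    (fun σ _ => by positivity)
  rw [Real.finsetProd_rpow _ _ (fun σ _ => by positivity), ← Finset.mul_sum] at key
  have h5 : (1 : ℝ) ≤ (∏ σ : K →ₐ[ℚ] ℂ, ‖σ x‖ ^ 2) ^ (E : ℝ)⁻¹ :=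
    Real.one_le_rpow h4 (by positivity)
  have h6 : (1 : ℝ) ≤ (E : ℝ)⁻¹ * ∑ σ : K →ₐ[ℚ] ℂ, ‖σ x‖ ^ 2 := h5.trans key
  calc (E : ℝ) = E * 1 := by ring
    _ ≤ E * ((E : ℝ)⁻¹ * ∑ σ : K →ₐ[ℚ] ℂ, ‖σ x‖ ^ 2) := by
        exact mul_le_mul_of_nonneg_left h6 hEpos.le
    _ = ∑ σ : K →ₐ[ℚ] ℂ, ‖σ x‖ ^ 2 := by field_simp

end Cfsg.Agent.Helper23
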