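import Mathlib
import Cfsg.Prelude.Def_Characters
import Cfsg.Agent.Helper24.CharBasic
import Cfsg.Agent.Helper23.GaloisConj

/-!
Galois conjugates of character values: `σ(χ(g)) = χ(g^k)`, and the Burnside-type bound
`|R| ≤ ∑_{g ∈ R} ‖χ g‖²` for Galois-stable sets `R` of non-vanishing elements.
-/

set_option autoImplicit false

namespace Cfsg.Agent.Helper23

open Module Cfsg.Agent.Helper24

variable {G V : Type*} [Group G] [Finite G] [AddCommGroup V] [Module ℂ V] [FiniteDimensional ℂ V]

/-- `χ(g^k) = ∑ μ^k m_μ` over the eigenvalues `μ` of `ρ g`. -/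
theorem char_pow_eq_sum_eigen (ρ : Representation ℂ G V) (g : G) (k : ℕ) :
    ρ.character (g ^ k) =
      ∑ μ ∈ eigenFinset (ρ g), μ ^ k * (Module.finrank ℂ (Module.End.eigenspace (ρ g) μ) : ℂ) := by
  refine trace_eq_sum_of_eigen (ρ g) (ρ (g ^ k)) (rho_iSup_eigenspace ρ g) (fun μ => μ ^ k) ?_
  intro μ v hv
  rw [Module.End.mem_eigenspace_iff] at hv
  rw [map_pow]
  induction k with
  | zero => simp
  | succ j ih =>
    rw [pow_succ, Module.End.mul_apply, hv, map_smul, ih, smul_smul, pow_succ, mul_comm]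

theorem eigen_pow_card (ρ : Representation ℂ G V) (g : G) {μ : ℂ}
    (hμ : μ ∈ eigenFinset (ρ g)) : μ ^ Nat.card G = 1 := by
  have h1 := rho_eigenvalue_pow ρ g (mem_eigenFinset.mp hμ)
  obtain ⟨c, hc⟩ := orderOf_dvd_natCard g
  rw [hc, pow_mul, h1, one_pow]

theorem char_mem_cyclo (ρ : Representation ℂ G V) (g : G) :
    ρ.character g ∈ cyclo (Nat.card G) := by
  rw [char_eq_sum_eigen ρ g]
  refine sum_mem ?_
  intro μ hμ
  exact mul_mem (mem_cyclo (eigen_pow_card ρ g hμ)) (natCast_mem _ _)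

/-- Galois conjugates of character values are character values at powers. -/
theorem embedding_char (ρ : Representation ℂ G V) (σ : cyclo (Nat.card G) →ₐ[ℚ] ℂ) (k : ℕ)
    (hk : ∀ (μ : ℂ) (hμ : μ ^ Nat.card G = 1), σ ⟨μ, mem_cyclo hμ⟩ = μ ^ k) (g : G) :
    σ ⟨ρ.character g, char_mem_cyclo ρ g⟩ = ρ.character (g ^ k) := by
  classical
  have hx : (⟨ρ.character g, char_mem_cyclo ρ g⟩ : cyclo (Nat.card G)) =
      ∑ μ ∈ (eigenFinset (ρ g)).attach,
        (⟨μ.1, mem_cyclo (eigen_pow_card ρ g μ.2)⟩ : cyclo (Nat.card G)) *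
          ((Module.finrank ℂ (Module.End.eigenspace (ρ g) μ.1) : ℕ) : cyclo (Nat.card G)) := by
    apply Subtype.ext
    simp only
    rw [char_eq_sum_eigen ρ g]
    push_cast
    rw [← Finset.sum_attach (eigenFinset (ρ g))
      (fun μ => μ * (Module.finrank ℂ (Module.End.eigenspace (ρ g) μ) : ℂ))]
  rw [hx, map_sum, char_pow_eq_sum_eigen,
    ← Finset.sum_attach (eigenFinset (ρ g))
      (fun μ => μ ^ k * (Module.finrank ℂ (Module.End.eigenspace (ρ g) μ) : ℂ))]
  refine Finset.sum_congr rfl ?_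
  intro μ _
  rw [map_mul, map_natCast, hk μ.1 (eigen_pow_card ρ g μ.2)]

theorem char_isIntegral_cyclo (ρ : Representation ℂ G V) (g : G) :
    IsIntegral ℤ (⟨ρ.character g, char_mem_cyclo ρ g⟩ : cyclo (Nat.card G)) := by
  have : IsIntegral ℤ ((algebraMap (cyclo (Nat.card G)) ℂ) ⟨ρ.character g, char_mem_cyclo ρ g⟩) :=
    char_isIntegral ρ g
  exact (isIntegral_algebraMap_iff (algebraMap (cyclo (Nat.card G)) ℂ).injective).mp this

/-- If `‖χ g‖ = χ 1` then `‖χ (g^j)‖ = χ 1`. -/
theorem norm_char_pow_eq (ρ : Representation ℂ G V) (g : G) (j : ℕ)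
    (h : ‖ρ.character g‖ = (Module.finrank ℂ V : ℝ)) :
    ‖ρ.character (g ^ j)‖ = (Module.finrank ℂ V : ℝ) := by
  rw [norm_char_eq_iff] at h ⊢
  obtain ⟨ω, hω⟩ := h
  refine ⟨ω ^ j, ?_⟩
  rw [map_pow, hω]
  ext v
  induction j with
  | zero => simp
  | succ i ih =>
    rw [pow_succ, Module.End.mul_apply, LinearMap.smul_apply, LinearMap.id_apply, map_smul, ih,
      LinearMap.smul_apply, LinearMap.id_apply, smul_smul, pow_succ, mul_comm,
      LinearMap.smul_apply, LinearMap.id_apply, mul_comm]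

/-- Burnside-type bound: on the set `R` of elements where `χ` neither vanishes nor has full
norm, the mean of `‖χ‖²` is at least `1`. -/
theorem card_le_sum_norm_sq_char [Fintype G] [DecidableEq G] (ρ : Representation ℂ G V) :
    ((Finset.univ.filter (fun g : G => ρ.character g ≠ 0 ∧
        ‖ρ.character g‖ ≠ (Module.finrank ℂ V : ℝ))).card : ℝ) ≤
      ∑ g ∈ Finset.univ.filter (fun g : G => ρ.character g ≠ 0 ∧
        ‖ρ.character g‖ ≠ (Module.finrank ℂ V : ℝ)), ‖ρ.character g‖ ^ 2 := by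
  classical
  set N := Nat.card G with hN
  have hNpos : 0 < N := Nat.card_pos
  have hfd : FiniteDimensional ℚ (cyclo N) := finiteDimensional_cyclo N hNpos
  set R := Finset.univ.filter (fun g : G => ρ.character g ≠ 0 ∧
        ‖ρ.character g‖ ≠ (Module.finrank ℂ V : ℝ)) with hR
  let x : G → cyclo N := fun g => ⟨ρ.character g, char_mem_cyclo ρ g⟩
  set E := Fintype.card (cyclo N →ₐ[ℚ] ℂ) with hE
  have hEpos : 0 < E := Fintype.card_pos_iff.mpr ⟨(cyclo N).val⟩
  -- lower bound per element
  have h1 : ∀ g ∈ R, (E : ℝ) ≤ ∑ σ : cyclo N →ₐ[ℚ] ℂ, ‖σ (x g)‖ ^ 2 := by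
    intro g hg
    have hg' := (Finset.mem_filter.mp hg).2
    apply card_le_sum_norm_sq (cyclo N) (x g) _ (char_isIntegral_cyclo ρ g)
    intro h0
    apply hg'.1
    have := congrArg (fun y : cyclo N => (y : ℂ)) h0
    simpa [x] using this
  -- per embedding: reindex
  have h2 : ∀ σ : cyclo N →ₐ[ℚ] ℂ, ∑ g ∈ R, ‖σ (x g)‖ ^ 2 = ∑ g ∈ R, ‖ρ.character g‖ ^ 2 := by
    intro σ
    obtain ⟨k, hkcop, hk⟩ := exists_pow_of_embedding N hNpos σ
    have hσx : ∀ g, σ (x g) = ρ.character (g ^ k) := fun g => embedding_char ρ σ k hk g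
    have hcop : (Nat.card G).Coprime k := hkcop.symm
    let e : G ≃ G := powCoprime hcop
    have he : ∀ g, e g = g ^ k := fun g => rfl
    have hmem : ∀ g, g ∈ R ↔ e g ∈ R := by
      intro g
      simp only [hR, Finset.mem_filter, Finset.mem_univ, true_and, he]
      have hz : ρ.character (g ^ k) = 0 ↔ ρ.character g = 0 := by
        rw [← hσx g]
        constructor
        · intro h
          have : x g = 0 := by
            have h' : σ (x g) = σ 0 := by rw [h, map_zero]
            exact σ.toRingHom.injective h'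
          have := congrArg (fun y : cyclo N => (y : ℂ)) this
          simpa [x] using this
        · intro h
          have : x g = 0 := by
            apply Subtype.ext
            simpa [x] using h
          rw [this, map_zero]
      have hn : ‖ρ.character (g ^ k)‖ = (Module.finrank ℂ V : ℝ) ↔
          ‖ρ.character g‖ = (Module.finrank ℂ V : ℝ) := by
        constructor
        · intro h
          have hco : k.Coprime (orderOf g) :=
            Nat.Coprime.coprime_dvd_right (orderOf_dvd_natCard g) hkcop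
          obtain ⟨m, hm⟩ := exists_pow_eq_self_of_coprime hco
          have := norm_char_pow_eq ρ (g ^ k) m h
          rwa [hm] at this
        · intro h
          exact norm_char_pow_eq ρ g k h
      simp only [ne_eq, hz, hn]
    have := Finset.sum_equiv e (s := R) (t := R) (f := fun g => ‖σ (x g)‖ ^ 2)
      (g := fun g => ‖ρ.character g‖ ^ 2) hmem (by
        intro g _
        simp only [hσx g, he g])
    exact this
  have h3 : (R.card : ℝ) * E ≤ ∑ g ∈ R, ∑ σ : cyclo N →ₐ[ℚ] ℂ, ‖σ (x g)‖ ^ 2 := by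
    have := Finset.sum_le_sum h1
    rw [Finset.sum_const, nsmul_eq_mul] at this
    exact this
  rw [Finset.sum_comm, Finset.sum_congr rfl (fun σ _ => h2 σ), Finset.sum_const, Finset.card_univ,
    nsmul_eq_mul, ← hE, mul_comm] at h3
  have hE' : (0 : ℝ) < E := by exact_mod_cast hEpos
  exact le_of_mul_le_mul_left h3 hE'

end Cfsg.Agent.Helper23
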