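import Mathlib

set_option autoImplicit false

namespace Cfsg.Agent.Helper23

/-- In a cyclic subgroup, two subgroups of the same order coincide. -/
theorem eq_of_card_eq_of_isCyclic {G : Type*} [Group G] [Finite G] (P : Subgroup G)
    (hcyc : IsCyclic P) (Y Z : Subgroup G) (hY : Y ≤ P) (hZ : Z ≤ P)
    (hYZ : Nat.card Y = Nat.card Z) : Y = Z := by
  classical
  set p := Nat.card Z with hp
  have hp0 : 0 < p := Nat.card_pos
  have : Fintype P := Fintype.ofFinite P
  have hS : (Finset.univ.filter (fun a : P => a ^ p = 1)).card ≤ p :=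
    IsCyclic.card_pow_eq_one_le hp0
  have hZsub : (Finset.univ.filter (fun a : P => a ∈ Z.subgroupOf P)) ⊆
      (Finset.univ.filter (fun a : P => a ^ p = 1)) := by
    intro a ha
    simp only [Finset.mem_filter, Finset.mem_univ, true_and] at ha ⊢
    have : (⟨(a : G), ha⟩ : Z) ^ p = 1 := pow_card_eq_one'
    apply Subtype.ext
    have h2 := congrArg Subtype.val this
    simpa using h2
  have hZcard : (Finset.univ.filter (fun a : P => a ∈ Z.subgroupOf P)).card = p := by
    have : Nat.card (Z.subgroupOf P) = p :=
      Nat.card_congr (Subgroup.subgroupOfEquivOfLe hZ).toEquiv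
    rw [← this, Nat.card_eq_fintype_card, Fintype.card_subtype]
  have hEq : (Finset.univ.filter (fun a : P => a ∈ Z.subgroupOf P)) =
      (Finset.univ.filter (fun a : P => a ^ p = 1)) :=
    Finset.eq_of_subset_of_card_le hZsub (by rw [hZcard]; exact hS)
  have hle : Y ≤ Z := by
    intro y hy
    have hyP : y ∈ P := hY hy
    have : (⟨y, hyP⟩ : P) ∈ (Finset.univ.filter (fun a : P => a ^ p = 1)) := by
      simp only [Finset.mem_filter, Finset.mem_univ, true_and]
      have : (⟨y, hy⟩ : Y) ^ p = 1 := by
        rw [← hYZ]; exact pow_card_eq_one'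
      apply Subtype.ext
      have h2 := congrArg Subtype.val this
      simpa using h2
    rw [← hEq] at this
    simp only [Finset.mem_filter, Finset.mem_univ, true_and] at this
    exact this
  exact Subgroup.eq_of_le_of_card_ge hle (by rw [hYZ])

/-- Cardinality of the join of two elementwise commuting subgroups with trivial intersection. -/
theorem card_sup_of_commute_of_disjoint {G : Type*} [Group G] (H K : Subgroup G)
    (hcomm : ∀ a ∈ H, ∀ b ∈ K, a * b = b * a) (hdisj : H ⊓ K = ⊥) :
    Nat.card (H ⊔ K : Subgroup G) = Nat.card H * Nat.card K := by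
  have comm : ∀ (m : H) (n : K), Commute (H.subtype m) (K.subtype n) :=
    fun m n => hcomm m m.2 n n.2
  have hinj : Function.Injective (MonoidHom.noncommCoprod H.subtype K.subtype comm) := by
    rw [MonoidHom.noncommCoprod_injective]
    refine ⟨H.subtype_injective, K.subtype_injective, ?_⟩
    rw [Subgroup.range_subtype, Subgroup.range_subtype, disjoint_iff, hdisj]
  have hrange : (MonoidHom.noncommCoprod H.subtype K.subtype comm).range = H ⊔ K := by
    rw [MonoidHom.noncommCoprod_range, Subgroup.range_subtype, Subgroup.range_subtype]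
  rw [← hrange, ← Nat.card_prod]
  exact (Nat.card_congr (Equiv.ofInjective _ hinj)).symm

end Cfsg.Agent.Helper23
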