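import Mathlib

set_option autoImplicit false

namespace Cfsg.Agent.Helper23

open MulAction

/-- A nontrivial normal subgroup of a finite `p`-group meets the center nontrivially. -/
theorem exists_mem_inf_center_ne_one {Q : Type*} [Group Q] [Finite Q] {p : ℕ} [Fact p.Prime]
    (hQ : IsPGroup p Q) (N : Subgroup Q) [N.Normal] (hN : N ≠ ⊥) :
    ∃ b : Q, b ∈ N ∧ b ∈ Subgroup.center Q ∧ b ≠ 1 := by
  have hNp : IsPGroup p N := hQ.to_subgroup N
  have hdvd : p ∣ Nat.card N := by
    obtain ⟨n, hn⟩ := IsPGroup.iff_card.mp hNp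
    rcases n with _ | n
    · exfalso; apply hN
      rw [pow_zero] at hn
      exact Subgroup.card_eq_one.mp hn
    · rw [hn, pow_succ]; exact dvd_mul_left p _
  have h1 : (1 : N) ∈ fixedPoints (ConjAct Q) N := by
    intro g
    exact smul_one g
  obtain ⟨b, hb, hne⟩ := (hQ.of_equiv ConjAct.toConjAct).exists_fixed_point_of_prime_dvd_card_of_fixed_point
    (α := N) hdvd h1
  refine ⟨b, b.2, ?_, ?_⟩
  · rw [Subgroup.mem_center_iff]
    intro g
    have := hb (ConjAct.toConjAct g)
    have h2 := congrArg Subtype.val this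
    rw [ConjAct.Subgroup.val_conj_smul, ConjAct.smul_def] at h2
    simp only [ConjAct.ofConjAct_toConjAct] at h2
    calc g * (b : Q) = (g * b * g⁻¹) * g := by group
      _ = b * g := by rw [h2]
  · intro h
    apply hne
    exact Subtype.ext h.symm

/-- In a finite `p`-group there is a normal abelian subgroup containing its own centralizer. -/
theorem exists_normal_abelian_centralizer_le {R : Type*} [Group R] [Finite R] {p : ℕ}
    [Fact p.Prime] (hR : IsPGroup p R) :
    ∃ A : Subgroup R, A.Normal ∧ IsMulCommutative A ∧ Subgroup.centralizer (A : Set R) ≤ A := by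
  classical
  let S : Set (Subgroup R) := {A | A.Normal ∧ IsMulCommutative A}
  have hSfin : S.Finite := Set.toFinite S
  have hbot : (⊥ : Subgroup R) ∈ S := by
    refine ⟨inferInstance, ?_⟩
    exact ⟨⟨fun a b => by
      have ha : a = 1 := Subsingleton.elim _ _
      have hb : b = 1 := Subsingleton.elim _ _
      rw [ha, hb]⟩⟩
  obtain ⟨A, -, hAmax⟩ := hSfin.exists_le_maximal hbot
  obtain ⟨hAS, hAmax⟩ := hAmax
  obtain ⟨hAn, hAc⟩ := hAS
  refine ⟨A, hAn, hAc, ?_⟩
  by_contra hCA
  have := hAn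
  set C : Subgroup R := Subgroup.centralizer (A : Set R) with hC
  have hAC : A ≤ C := by
    intro a ha
    rw [hC, Subgroup.mem_centralizer_iff]
    intro b hb
    have := hAc.is_comm.comm (⟨b, hb⟩ : A) ⟨a, ha⟩
    exact congrArg Subtype.val this
  -- the quotient
  let π := QuotientGroup.mk' A
  have hQ : IsPGroup p (R ⧸ A) := hR.to_quotient A
  have hCn : C.Normal := by rw [hC]; infer_instance
  have hNn : (C.map π).Normal := hCn.map π (QuotientGroup.mk'_surjective A)
  have hN1 : C.map π ≠ ⊥ := by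
    intro h
    apply hCA
    intro c hc
    have : π c ∈ C.map π := Subgroup.mem_map_of_mem π hc
    rw [h, Subgroup.mem_bot] at this
    exact (QuotientGroup.eq_one_iff c).mp this
  obtain ⟨y, hyN, hyZ, hy1⟩ := exists_mem_inf_center_ne_one hQ (C.map π) hN1
  obtain ⟨x, hxC, rfl⟩ := hyN
  have hxA : x ∉ A := fun h => hy1 ((QuotientGroup.eq_one_iff x).mpr h)
  -- B = preimage of ⟨π x⟩
  set B : Subgroup R := (Subgroup.zpowers (π x)).comap π with hB
  have hBn : B.Normal := by
    have : (Subgroup.zpowers (π x)).Normal := by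
      constructor
      intro n hn g
      obtain ⟨k, rfl⟩ := hn
      have hk : (π x) ^ k ∈ Subgroup.center (R ⧸ A) := Subgroup.zpow_mem _ hyZ k
      rw [Subgroup.mem_center_iff] at hk
      have : g * (π x) ^ k * g⁻¹ = (π x) ^ k := by rw [hk g]; group
      rw [this]; exact ⟨k, rfl⟩
    exact this.comap π
  have hAB : A ≤ B := by
    intro a ha
    rw [hB, Subgroup.mem_comap]
    have : π a = 1 := (QuotientGroup.eq_one_iff a).mpr ha
    rw [this]; exact Subgroup.one_mem _
  have hxB : x ∈ B := by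
    rw [hB, Subgroup.mem_comap]; exact Subgroup.mem_zpowers _
  -- every element of B is x^k * a
  have hBform : ∀ b ∈ B, ∃ k : ℤ, ∃ a ∈ A, b = x ^ k * a := by
    intro b hb
    rw [hB, Subgroup.mem_comap] at hb
    obtain ⟨k, hk⟩ := hb
    refine ⟨k, (x ^ k)⁻¹ * b, ?_, by group⟩
    apply (QuotientGroup.eq_one_iff _).mp
    have : π ((x ^ k)⁻¹ * b) = ((π x) ^ k)⁻¹ * π b := by simp
    change π ((x ^ k)⁻¹ * b) = 1
    rw [this, ← hk]; simp
  have hxcomm : ∀ a ∈ A, a * x = x * a := by
    intro a ha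
    exact (Subgroup.mem_centralizer_iff.mp hxC) a ha
  have hxkcomm : ∀ (k : ℤ), ∀ a ∈ A, a * x ^ k = x ^ k * a := by
    intro k a ha
    exact ((Commute.zpow_right (show Commute a x from hxcomm a ha) k)).eq
  have hBc : IsMulCommutative B := by
    refine ⟨⟨fun b1 b2 => ?_⟩⟩
    obtain ⟨k1, a1, ha1, h1⟩ := hBform b1 b1.2
    obtain ⟨k2, a2, ha2, h2⟩ := hBform b2 b2.2
    apply Subtype.ext
    show (b1 : R) * b2 = b2 * b1
    rw [h1, h2]
    have ha12 : a1 * a2 = a2 * a1 := by
      have := hAc.is_comm.comm (⟨a1, ha1⟩ : A) ⟨a2, ha2⟩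
      exact congrArg Subtype.val this
    have hxx : x ^ k1 * x ^ k2 = x ^ k2 * x ^ k1 := by
      rw [← zpow_add, ← zpow_add, add_comm]
    calc x ^ k1 * a1 * (x ^ k2 * a2) = x ^ k1 * (a1 * x ^ k2) * a2 := by group
      _ = x ^ k1 * (x ^ k2 * a1) * a2 := by rw [hxkcomm k2 a1 ha1]
      _ = (x ^ k1 * x ^ k2) * (a1 * a2) := by group
      _ = (x ^ k2 * x ^ k1) * (a2 * a1) := by rw [hxx, ha12]
      _ = x ^ k2 * (x ^ k1 * a2) * a1 := by group
      _ = x ^ k2 * (a2 * x ^ k1) * a1 := by rw [hxkcomm k1 a2 ha2]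
      _ = x ^ k2 * a2 * (x ^ k1 * a1) := by group
  have hBS : B ∈ S := ⟨hBn, hBc⟩
  have := hAmax hBS hAB
  exact hxA (this hxB)

end Cfsg.Agent.Helper23
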