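import Mathlib
import Cfsg.Agent.Helper1.PGroup

/-!
For odd `p`, a `p'`-automorphism of a finite `p`-group fixing all elements of order dividing `p`
is trivial (Gorenstein 5.3.10).
-/

set_option autoImplicit false

namespace Cfsg.Agent.Helper23

open Subgroup
open scoped commutatorElement

/-- Restriction of an automorphism to an invariant subgroup. -/
def restrictAut {G : Type*} [Group G] (a : MulAut G) (K : Subgroup G)
    (hK : ∀ x, x ∈ K ↔ a x ∈ K) : MulAut K where
  toFun x := ⟨a x, (hK x).mp x.2⟩
  invFun x := ⟨a.symm x, (hK _).mpr (by simp)⟩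
  left_inv x := by apply Subtype.ext; simp
  right_inv x := by apply Subtype.ext; simp
  map_mul' x y := by apply Subtype.ext; simp

theorem restrictAut_apply {G : Type*} [Group G] (a : MulAut G) (K : Subgroup G)
    (hK : ∀ x, x ∈ K ↔ a x ∈ K) (x : K) : ((restrictAut a K hK x : K) : G) = a x := rfl

theorem restrictAut_pow_apply {G : Type*} [Group G] (a : MulAut G) (K : Subgroup G)
    (hK : ∀ x, x ∈ K ↔ a x ∈ K) (n : ℕ) (x : K) :
    (((restrictAut a K hK ^ n) x : K) : G) = (a ^ n) x := by
  induction n generalizing x with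
  | zero => simp
  | succ k ih =>
    rw [pow_succ, pow_succ, MulAut.mul_apply, MulAut.mul_apply, ih, restrictAut_apply]

theorem orderOf_restrictAut_dvd {G : Type*} [Group G] (a : MulAut G) (K : Subgroup G)
    (hK : ∀ x, x ∈ K ↔ a x ∈ K) : orderOf (restrictAut a K hK) ∣ orderOf a := by
  apply orderOf_dvd_of_pow_eq_one
  ext x
  rw [restrictAut_pow_apply, pow_orderOf_eq_one]
  rfl

/-- The stability trick: if the `p'`-automorphism `a` of a `p`-group fixes `x⁻¹ * a x`, it
fixes `x`. -/
theorem aut_fixes_of_fixes_comm {G : Type*} [Group G] {p : ℕ} (hG : IsPGroup p G) (a : MulAut G)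
    (ha : Nat.Coprime (orderOf a) p) (x : G) (h : a (x⁻¹ * a x) = x⁻¹ * a x) : a x = x := by
  set z := x⁻¹ * a x with hz
  have hax : a x = x * z := by rw [hz]; group
  have hpow : ∀ k : ℕ, (a ^ k) x = x * z ^ k := by
    intro k
    induction k with
    | zero => simp
    | succ k ih =>
      rw [pow_succ', MulAut.mul_apply, ih, map_mul, map_pow, h, hax, pow_succ']
      group
  have h1 : z ^ orderOf a = 1 := by
    have := hpow (orderOf a)
    rw [pow_orderOf_eq_one, MulAut.one_apply] at this
    have h2 : x * 1 = x * z ^ orderOf a := by rw [mul_one]; exact this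
    exact (mul_left_cancel h2).symm
  obtain ⟨j, hj⟩ := hG z
  have h3 := pow_gcd_eq_one.mpr ⟨h1, hj⟩
  have hg : (orderOf a).gcd (p ^ j) = 1 := Nat.Coprime.pow_right j ha
  rw [hg, pow_one] at h3
  rw [hax, h3, mul_one]

/-- In a group where `c = y⁻¹ x⁻¹ y x` is central: `(x y)^n = x^n y^n c^(n(n-1)/2)`. -/
theorem mul_pow_of_central_comm {G : Type*} [Group G] (x y c : G) (hc : y * x = x * y * c)
    (hcx : Commute c x) (hcy : Commute c y) (n : ℕ) :
    (x * y) ^ n = x ^ n * y ^ n * c ^ (n * (n - 1) / 2) := by
  have hyk : ∀ k : ℕ, y ^ k * x = x * y ^ k * c ^ k := by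
    intro k
    induction k with
    | zero => simp
    | succ k ih =>
      rw [pow_succ, mul_assoc, hc, ← mul_assoc, ← mul_assoc, ih]
      have h1 : x * y ^ k * c ^ k * y * c = x * y ^ k * y * (c ^ k * c) := by
        rw [mul_assoc (x * y ^ k) (c ^ k) y, (hcy.pow_left k).eq]
        group
      rw [h1, ← pow_succ, mul_assoc x (y ^ k) y, ← pow_succ]
  induction n with
  | zero => simp
  | succ n ih =>
    rw [pow_succ, ih]
    have h2 : (n + 1) * (n + 1 - 1) / 2 = n * (n - 1) / 2 + n := by
      rcases n with _ | m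
      · simp
      · simp only [Nat.add_sub_cancel]
        have : (m + 1 + 1) * (m + 1) = (m + 1) * m + 2 * (m + 1) := by ring
        rw [this, Nat.add_mul_div_left _ _ (by norm_num : 0 < 2)]
    rw [h2, pow_add c]
    have hcn : Commute (c ^ (n * (n - 1) / 2)) (x * y) :=
      ((hcx.mul_right hcy).pow_left _)
    calc x ^ n * y ^ n * c ^ (n * (n - 1) / 2) * (x * y)
        = x ^ n * y ^ n * ((x * y) * c ^ (n * (n - 1) / 2)) := by
          rw [mul_assoc (x ^ n * y ^ n), hcn.eq]
      _ = x ^ n * (y ^ n * x) * y * c ^ (n * (n - 1) / 2) := by group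
      _ = x ^ n * (x * y ^ n * c ^ n) * y * c ^ (n * (n - 1) / 2) := by rw [hyk n]
      _ = x ^ (n + 1) * y ^ (n + 1) * (c ^ (n * (n - 1) / 2) * c ^ n) := by
          have h3 : c ^ n * y = y * c ^ n := (hcy.pow_left n).eq
          have h4 : c ^ n * (y * c ^ (n * (n - 1) / 2)) = y * (c ^ (n * (n - 1) / 2) * c ^ n) := by
            rw [← mul_assoc, h3, mul_assoc, ← pow_add, ← pow_add, add_comm]
          rw [pow_succ, pow_succ]
          calc x ^ n * (x * y ^ n * c ^ n) * y * c ^ (n * (n - 1) / 2)
              = x ^ n * x * y ^ n * (c ^ n * (y * c ^ (n * (n - 1) / 2))) := by group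
            _ = x ^ n * x * y ^ n * (y * (c ^ (n * (n - 1) / 2) * c ^ n)) := by rw [h4]
            _ = x ^ n * x * (y ^ n * y) * (c ^ (n * (n - 1) / 2) * c ^ n) := by group

theorem aut_eq_one_of_fixes_omega_aux.{u} (p : ℕ) [hpf : Fact p.Prime] (hp : p ≠ 2) :
    ∀ n : ℕ, ∀ (G : Type u) [Group G] [Finite G], Nat.card G = n → IsPGroup p G →
    ∀ a : MulAut G, Nat.Coprime (orderOf a) p → (∀ x : G, x ^ p = 1 → a x = x) → a = 1 := by
  intro n
  induction n using Nat.strong_induction_on with
  | _ n ih =>
    intro G _ _ hcard hG a ha hfix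
    -- a fixes every proper invariant subgroup pointwise
    have IHsub : ∀ K : Subgroup G, K ≠ ⊤ → (∀ x, x ∈ K ↔ a x ∈ K) → ∀ x ∈ K, a x = x := by
      intro K hK hKa x hx
      have hlt : Nat.card K < n := by
        rw [← hcard]
        exact lt_of_le_of_ne (Subgroup.card_le_card_group K)
          (fun h => hK (Subgroup.eq_top_of_card_eq K h))
      have h1 := ih (Nat.card K) hlt K rfl (hG.to_subgroup K) (restrictAut a K hKa)
        (Nat.Coprime.coprime_dvd_left (orderOf_restrictAut_dvd a K hKa) ha)
        (by
          intro y hy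
          apply Subtype.ext
          rw [restrictAut_apply]
          apply hfix
          have := congrArg Subtype.val hy
          simpa using this)
      have h2 := congrArg (fun f : MulAut K => ((f ⟨x, hx⟩ : K) : G)) h1
      simpa [restrictAut_apply] using h2
    -- the subgroup generated by the x⁻¹ a(x)
    set N : Subgroup G := Subgroup.closure {z | ∃ x : G, z = x⁻¹ * a x} with hN
    have hNfwd : ∀ x ∈ N, a x ∈ N := by
      intro x hx
      have : N ≤ N.comap a.toMonoidHom := by
        rw [hN, Subgroup.closure_le]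
        rintro z ⟨x, rfl⟩
        show a (x⁻¹ * a x) ∈ N
        rw [map_mul, map_inv]
        exact Subgroup.subset_closure ⟨a x, rfl⟩
      exact this hx
    have hNbwd : ∀ x ∈ N, a.symm x ∈ N := by
      intro x hx
      have : N ≤ N.comap a.symm.toMonoidHom := by
        rw [hN, Subgroup.closure_le]
        rintro z ⟨x, rfl⟩
        show a.symm (x⁻¹ * a x) ∈ N
        rw [map_mul, map_inv, MulEquiv.symm_apply_apply]
        refine Subgroup.subset_closure ⟨a.symm x, ?_⟩
        rw [MulEquiv.apply_symm_apply]
      exact this hx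
    have hNa : ∀ x, x ∈ N ↔ a x ∈ N := by
      intro x
      refine ⟨hNfwd x, fun h => ?_⟩
      have := hNbwd _ h
      rwa [MulEquiv.symm_apply_apply] at this
    by_cases hNtop : N ≠ ⊤
    · ext x
      rw [MulAut.one_apply]
      apply aut_fixes_of_fixes_comm hG a ha x
      exact IHsub N hNtop hNa _ (Subgroup.subset_closure ⟨x, rfl⟩)
    push Not at hNtop
    -- Frattini subgroup
    by_cases htriv : Subsingleton G
    · ext x; exact Subsingleton.elim _ _
    rw [not_subsingleton_iff_nontrivial] at htriv
    have hΦtop : frattini G ≠ ⊤ := by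
      intro h
      have : (⊥ : Subgroup G) = ⊤ := frattini_nongenerating (by rw [bot_sup_eq, h])
      exact bot_ne_top this
    have hΦa : ∀ x, x ∈ frattini G ↔ a x ∈ frattini G := by
      intro x
      have := (inferInstance : (frattini G).Characteristic).fixed a
      constructor
      · intro h
        rw [← this] at h
        exact h
      · intro h
        rw [← this]
        exact h
    have hΦfix := IHsub (frattini G) hΦtop hΦa
    -- Φ is central
    have hΦZ : ∀ c ∈ frattini G, ∀ g : G, g * c = c * g := by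
      intro c hc
      have hcent : Subgroup.centralizer ({c} : Set G) = ⊤ := by
        rw [eq_top_iff, ← hNtop, hN, Subgroup.closure_le]
        rintro z ⟨g, rfl⟩
        rw [SetLike.mem_coe, Subgroup.mem_centralizer_iff]
        intro w hw
        rw [Set.mem_singleton_iff] at hw
        subst hw
        have h1 : a (g * w * g⁻¹) = g * w * g⁻¹ :=
          hΦfix _ ((inferInstance : (frattini G).Normal).conj_mem w hc g)
        rw [map_mul, map_mul, map_inv, hΦfix w hc] at h1
        -- a g * w * (a g)⁻¹ = g * w * g⁻¹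
        have h2 : w * (g⁻¹ * a g) = g⁻¹ * (g * w * g⁻¹) * a g := by group
        rw [h2, ← h1]; group
      intro g
      have : g ∈ Subgroup.centralizer ({c} : Set G) := by rw [hcent]; trivial
      exact ((Subgroup.mem_centralizer_iff.mp this) c rfl).symm
    -- p-th power map is multiplicative
    have hpowmul : ∀ x y : G, (x * y) ^ p = x ^ p * y ^ p := by
      intro x y
      set c := y⁻¹ * x⁻¹ * y * x with hc
      have hcΦ : c ∈ frattini G := by
        apply Cfsg.Agent.Helper1.IsPGroup.commutator_le_frattini hG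
        have : c = ⁅y⁻¹, x⁻¹⁆ := by rw [commutatorElement_def, hc]; group
        rw [this, _root_.commutator_def]
        exact Subgroup.commutator_mem_commutator (Subgroup.mem_top _) (Subgroup.mem_top _)
      have hyx : y * x = x * y * c := by rw [hc]; group
      have hcx : Commute c x := (hΦZ c hcΦ x).symm
      have hcy : Commute c y := (hΦZ c hcΦ y).symm
      have hcp : c ^ p = 1 := by
        have h1 : x⁻¹ * y * x = y * c := by rw [hc]; group
        have h2 : (x⁻¹ * y * x) ^ p = x⁻¹ * y ^ p * x := by
          have := conj_pow (i := p) (a := x⁻¹) (b := y)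
          rwa [inv_inv] at this
        have hypΦ : y ^ p ∈ frattini G := Cfsg.Agent.Helper1.IsPGroup.pow_mem_frattini hG y
        have h3 : x⁻¹ * y ^ p * x = y ^ p := by
          rw [mul_assoc, ← hΦZ _ hypΦ x, ← mul_assoc, inv_mul_cancel, one_mul]
        have h4 : (y * c) ^ p = y ^ p * c ^ p := (hcy.symm.mul_pow p)
        rw [h1, h4, h3] at h2
        have h5 : y ^ p * c ^ p = y ^ p * 1 := by rw [h2, mul_one]
        exact mul_left_cancel h5
      rw [mul_pow_of_central_comm x y c hyx hcx hcy p]
      have hodd : 2 ∣ p - 1 := by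
        have := hpf.out.eq_one_or_self_of_dvd 2
        rcases Nat.Prime.eq_two_or_odd hpf.out with h | h
        · exact absurd h hp
        · omega
      rw [Nat.mul_div_assoc p hodd, pow_mul, hcp, one_pow, mul_one]
    ext x
    rw [MulAut.one_apply]
    apply aut_fixes_of_fixes_comm hG a ha x
    apply hfix
    rw [hpowmul, inv_pow, ← map_pow, hΦfix _ (Cfsg.Agent.Helper1.IsPGroup.pow_mem_frattini hG x),
      inv_mul_cancel]

/-- For odd `p`, a `p'`-automorphism of a finite `p`-group fixing every `x` with `x ^ p = 1` is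
trivial. -/
theorem aut_eq_one_of_fixes_omega {G : Type*} [Group G] [Finite G] {p : ℕ} [Fact p.Prime]
    (hp : p ≠ 2) (hG : IsPGroup p G) (a : MulAut G) (ha : Nat.Coprime (orderOf a) p)
    (h : ∀ x : G, x ^ p = 1 → a x = x) : a = 1 :=
  aut_eq_one_of_fixes_omega_aux p hp _ G rfl hG a ha h

/-- Ambient form: for odd `p`, a `p'`-subgroup `A` normalizing the `p`-subgroup `K` and
centralizing every element of order `p` of `K` centralizes `K`. -/
theorem le_centralizer_of_centralizes_omega {G : Type*} [Group G] [Finite G] {p : ℕ}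
    [hpf : Fact p.Prime] (hp : p ≠ 2) (K A : Subgroup G) (hK : IsPGroup p K)
    (hAK : A ≤ Subgroup.normalizer (K : Set G)) (hcop : (Nat.card A).Coprime p)
    (h : ∀ x ∈ K, orderOf x = p → A ≤ Subgroup.centralizer ({x} : Set G)) :
    A ≤ Subgroup.centralizer (K : Set G) := by
  intro a ha
  have hKa : ∀ x, x ∈ K ↔ (MulAut.conj a) x ∈ K := by
    intro x
    rw [MulAut.conj_apply]
    exact Subgroup.mem_normalizer_iff.mp (hAK ha) x
  set α := restrictAut (MulAut.conj a) K hKa with hα
  have hord : Nat.Coprime (orderOf α) p := by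
    have h1 : orderOf α ∣ orderOf (MulAut.conj a) := orderOf_restrictAut_dvd _ K hKa
    have h2 : orderOf (MulAut.conj a) ∣ orderOf a := orderOf_map_dvd (MulAut.conj : G →* MulAut G) a
    have h3 : orderOf a ∣ Nat.card A := Subgroup.orderOf_dvd_natCard A ha
    exact Nat.Coprime.coprime_dvd_left (h1.trans (h2.trans h3)) hcop
  have hfix : ∀ y : K, y ^ p = 1 → α y = y := by
    intro y hy
    apply Subtype.ext
    rw [hα, restrictAut_apply, MulAut.conj_apply]
    by_cases hy1 : (y : G) = 1
    · rw [hy1]; group
    · have hyp : (y : G) ^ p = 1 := by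
        have := congrArg Subtype.val hy
        simpa using this
      have hord : orderOf (y : G) = p := orderOf_eq_prime hyp hy1
      have hc := h (y : G) y.2 hord ha
      have := (Subgroup.mem_centralizer_iff.mp hc) (y : G) rfl
      rw [← this]; group
  have hone := aut_eq_one_of_fixes_omega hp hK α hord hfix
  rw [Subgroup.mem_centralizer_iff]
  intro y hy
  have h1 := congrArg (fun f : MulAut K => ((f ⟨y, hy⟩ : K) : G)) hone
  simp only [hα, restrictAut_apply, MulAut.conj_apply, MulAut.one_apply] at h1
  -- a * y * a⁻¹ = y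
  have h2 : a * y = (a * y * a⁻¹) * a := by group
  rw [h2, h1]

end Cfsg.Agent.Helper23
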