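import Mathlib

/-!
Sums of invariant functions modulo `p` for actions with `p`-power orbits (index form: a subgroup
of `p`-power index acting trivially). Copy of the first version of `Helper24.OrbitSum`, kept because
`Helper24.PResidualCount` uses this form.
-/

set_option autoImplicit false

namespace Cfsg.Agent.Helper23.OSI

open MulAction

section OrbitSum

variable {G : Type*} [Group G] {X : Type*} [Fintype X] [DecidableEq X] [MulAction G X]

omit [Fintype X] [DecidableEq X] in
/-- If a subgroup `K` of `p`-power index acts trivially, every orbit has `p`-power size. -/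
theorem ncard_orbit_eq_prime_pow (p : ℕ) (hp : p.Prime) (K : Subgroup G) (a : ℕ)
    (hK : K.index = p ^ a) (htriv : ∀ k ∈ K, ∀ x : X, k • x = x) (x : X) :
    ∃ b : ℕ, (orbit G x).ncard = p ^ b := by
  have hle : K ≤ stabilizer G x := fun k hk => htriv k hk x
  have hdvd : (stabilizer G x).index ∣ K.index := Subgroup.index_dvd_of_le hle
  rw [hK, index_stabilizer] at hdvd
  obtain ⟨b, -, hb⟩ := (Nat.dvd_prime_pow hp).mp hdvd
  exact ⟨b, hb⟩

/-- The sum of an invariant function over a stable set without fixed points is divisible by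
`p`. -/
theorem dvd_sum_of_no_fixed (p : ℕ) (hp : p.Prime) (K : Subgroup G) (a : ℕ)
    (hK : K.index = p ^ a) (htriv : ∀ k ∈ K, ∀ x : X, k • x = x) (f : X → ℤ)
    (hf : ∀ (g : G) (x : X), f (g • x) = f x) :
    ∀ (n : ℕ) (Y : Finset X), Y.card = n → (∀ (g : G), ∀ y ∈ Y, g • y ∈ Y) →
      (∀ y ∈ Y, ∃ g : G, g • y ≠ y) → (p : ℤ) ∣ ∑ y ∈ Y, f y := by
  classical
  intro n
  induction n using Nat.strong_induction_on with
  | _ n ih =>
    intro Y hn hstab hnf
    by_cases hY : Y = ∅
    · rw [hY, Finset.sum_empty]; exact dvd_zero _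
    obtain ⟨x, hx⟩ := Finset.nonempty_iff_ne_empty.mpr hY
    haveI : Fintype (orbit G x) := Fintype.ofFinite _
    let O : Finset X := (orbit G x).toFinset
    have hOmem : ∀ y, y ∈ O ↔ y ∈ orbit G x := fun y => Set.mem_toFinset
    have hOY : O ⊆ Y := by
      intro y hy
      obtain ⟨g, rfl⟩ := (hOmem y).mp hy
      exact hstab g x hx
    have hsplit : ∑ y ∈ Y, f y = ∑ y ∈ O, f y + ∑ y ∈ Y \ O, f y := by
      rw [← Finset.sum_union Finset.disjoint_sdiff, Finset.union_sdiff_of_subset hOY]
    have hO : ∑ y ∈ O, f y = (O.card : ℤ) * f x := by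
      rw [Finset.sum_congr rfl (g := fun _ => f x), Finset.sum_const, nsmul_eq_mul]
      intro y hy
      obtain ⟨g, rfl⟩ := (hOmem y).mp hy
      exact hf g x
    have hcard : O.card = (orbit G x).ncard := by
      rw [Set.ncard_eq_toFinset_card']
    obtain ⟨b, hb⟩ := ncard_orbit_eq_prime_pow p hp K a hK htriv x
    have hb0 : b ≠ 0 := by
      intro h0
      rw [h0, pow_zero, ← hcard] at hb
      obtain ⟨g, hg⟩ := hnf x hx
      have h1 : x ∈ O := (hOmem x).mpr (mem_orbit_self x)
      have h2 : g • x ∈ O := (hOmem _).mpr (mem_orbit x g)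
      exact hg (Finset.card_le_one.mp hb.le _ h2 _ h1)
    have hpO : (p : ℤ) ∣ (O.card : ℤ) := by
      rw [hcard, hb]
      exact_mod_cast dvd_pow_self p hb0
    rw [hsplit, hO]
    apply dvd_add (Dvd.dvd.mul_right hpO _)
    have hlt : (Y \ O).card < n := by
      rw [← hn]
      apply Finset.card_lt_card
      refine ⟨Finset.sdiff_subset, fun h => ?_⟩
      have := h hx
      rw [Finset.mem_sdiff] at this
      exact this.2 ((hOmem x).mpr (mem_orbit_self x))
    refine ih _ hlt (Y \ O) rfl ?_ ?_
    · intro g y hy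
      rw [Finset.mem_sdiff] at hy ⊢
      refine ⟨hstab g y hy.1, fun h => hy.2 ?_⟩
      rw [hOmem] at h ⊢
      have : y = g⁻¹ • (g • y) := by rw [inv_smul_smul]
      rw [this]
      exact mem_orbit_of_mem_orbit g⁻¹ h
    · intro y hy
      exact hnf y (Finset.mem_sdiff.mp hy).1

/-- The sum of an invariant function is congruent mod `p` to the sum over the fixed points. -/
theorem sum_modEq_sum_fixed [DecidablePred fun x : X => ∀ g : G, g • x = x]
    (p : ℕ) (hp : p.Prime) (K : Subgroup G) (a : ℕ)
    (hK : K.index = p ^ a) (htriv : ∀ k ∈ K, ∀ x : X, k • x = x) (f : X → ℤ)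
    (hf : ∀ (g : G) (x : X), f (g • x) = f x) :
    (∑ x : X, f x) ≡ (∑ x ∈ Finset.univ.filter (fun x : X => ∀ g : G, g • x = x), f x)
      [ZMOD p] := by
  rw [← Finset.sum_filter_add_sum_filter_not Finset.univ (fun x : X => ∀ g : G, g • x = x) f]
  have h := dvd_sum_of_no_fixed p hp K a hK htriv f hf _
    (Finset.univ.filter (fun x : X => ¬ ∀ g : G, g • x = x)) rfl
    (by
      intro g y hy
      rw [Finset.mem_filter] at hy ⊢
      refine ⟨Finset.mem_univ _, fun hall => hy.2 fun g' => ?_⟩
      have := hall (g * g' * g⁻¹)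
      rw [mul_smul, mul_smul, inv_smul_smul] at this
      exact smul_left_cancel g this)
    (by
      intro y hy
      rw [Finset.mem_filter] at hy
      have := hy.2
      push Not at this
      exact this)
  have h2 : (∑ x ∈ Finset.univ.filter (fun x : X => ¬ ∀ g : G, g • x = x), f x) ≡ 0 [ZMOD p] :=
    (Int.modEq_zero_iff_dvd).mpr h
  have := Int.ModEq.add_left (∑ x ∈ Finset.univ.filter (fun x : X => ∀ g : G, g • x = x), f x) h2
  rwa [add_zero] at this

end OrbitSum

end Cfsg.Agent.Helper23.OSI
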