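import Cfsg.Agent.Helper23.TDNF3
import Cfsg.Agent.Helper8.Ind
import Cfsg.Agent.Helper8.CharComp
import Cfsg.Agent.Helper24.Linear

set_option autoImplicit false

/-!
# S4460 piece NF2: type I products are impossible
-/

namespace Cfsg.Agent.Helper23.TD

open Cfsg Cfsg.Agent.Helper24 Cfsg.Agent.Helper29.TwoDeg
open scoped ComplexConjugate commutatorElement

universe u

variable {G : Type u} [Group G] [Finite G]

open Cfsg.Agent.Helper5.TD

omit [Finite G] in
/-- Moving a conjugated factor across the inner product. -/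
theorem nf2_classInner_swap [Fintype G] (a b c : G → ℂ) :
    classInner (fun g => conj (a g) * b g) c =
      conj (classInner (fun g => a g * c g) b) := by
  unfold classInner
  rw [map_mul, map_sum, map_inv₀, Complex.conj_natCast]
  congr 1
  refine Finset.sum_congr rfl ?_
  intro g _
  rw [map_mul, map_mul, Complex.conj_conj]
  ring

/-- A faithful nonlinear irreducible character cannot vanish on the nonidentity elements
of the commutator subgroup. -/
theorem nf2_vanish_contra [Fintype G] (χ : IrrCharacter G) (hdeg : irrDeg χ ≠ 1)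
    (hfaith : ∀ g : G, (χ : G → ℂ) g = (χ : G → ℂ) 1 → g = 1)
    (hvan : ∀ g ∈ commutator G, g ≠ 1 → (χ : G → ℂ) g = 0) : False := by
  classical
  have hHn : (commutator G).Normal := inferInstance
  have : Fintype (commutator G) := Fintype.ofFinite _
  have hθ : IsIrrCharacter (commutator G) (fun _ => (1 : ℂ)) := isIrrCharacter_const_one
  have hχc : IsClassFunction G (χ : G → ℂ) :=
    IsCharacter.isClassFunction (IsIrrCharacter.isCharacter χ.2)
  have hfr := Cfsg.Agent.Helper8.frobenius_reciprocity (commutator G) (fun _ => (1 : ℂ))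
    (χ : G → ℂ) hχc
  have hdpos : (irrDeg χ : ℂ) ≠ 0 := by
    have := irrDeg_pos χ
    exact_mod_cast this.ne'
  have hval : classInner (fun _ : commutator G => (1 : ℂ))
      (fun h : commutator G => (χ : G → ℂ) h) =
      (Nat.card (commutator G) : ℂ)⁻¹ * (irrDeg χ : ℂ) := by
    unfold classInner
    congr 1
    rw [Finset.sum_eq_single (1 : commutator G)]
    · show (1 : ℂ) * conj ((χ : G → ℂ) ((1 : commutator G) : G)) = (irrDeg χ : ℂ)
      rw [one_mul, OneMemClass.coe_one, irrDeg_spec, Complex.conj_natCast]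
    · intro h _ hne
      have h1 : (h : G) ≠ 1 := by
        intro h'
        exact hne (Subtype.ext h')
      show (1 : ℂ) * conj ((χ : G → ℂ) (h : G)) = 0
      rw [hvan h h.2 h1, map_zero, mul_zero]
    · intro h
      exact absurd (Finset.mem_univ _) h
  have hcard : (Nat.card (commutator G) : ℂ) ≠ 0 := by
    have : 0 < Nat.card (commutator G) := Nat.card_pos
    exact_mod_cast this.ne'
  have hne : classInner (indFun (commutator G) (fun _ => (1 : ℂ))) (χ : G → ℂ) ≠ 0 := by
    rw [hfr, hval]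
    exact mul_ne_zero (inv_ne_zero hcard) hdpos
  have hres := Cfsg.Agent.Helper8.restrict_eq_of_invariant (commutator G)
    (fun _ => (1 : ℂ)) hθ (fun _ _ => rfl) (χ : G → ℂ) χ.2 hne
  have hconst : ∀ h : commutator G, (χ : G → ℂ) h = (χ : G → ℂ) 1 := by
    intro h
    have e1 := congrFun hres h
    have e2 := congrFun hres 1
    simp only [Pi.smul_apply, smul_eq_mul, mul_one, OneMemClass.coe_one] at e1 e2
    rw [e1, e2]
  have hcomm : ∀ a b : G, a * b = b * a := by
    intro a b
    have hmem : ⁅a, b⁆ ∈ commutator G :=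
      Subgroup.commutator_mem_commutator (Subgroup.mem_top a) (Subgroup.mem_top b)
    have h1 := hfaith _ (hconst ⟨_, hmem⟩)
    exact commutatorElement_eq_one_iff_mul_comm.mp h1
  have := (comm_iff_forall_irr_one.mp hcomm) χ
  exact hdeg ((irrDeg_eq_one_iff χ).mpr this)

theorem not_typeI [Fintype G] {m n : ℕ} (td : ThreeDeg G m n) (hcop : m.Coprime n)
    (hfaith : ∀ χ : IrrCharacter G, irrDeg χ ≠ 1 → ∀ g : G,
      (χ : G → ℂ) g = (χ : G → ℂ) 1 → g = 1)
    (hmm : ∀ χ₁ χ₂ : IrrCharacter G, irrDeg χ₁ = m → irrDeg χ₂ = m →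
      (∀ lam : G →* ℂˣ,
        (χ₂ : G → ℂ) ≠ fun g => ((lam g : ℂˣ) : ℂ) * conj ((χ₁ : G → ℂ) g)) →
      ∀ η : IrrCharacter G,
        classInner (fun g => (χ₁ : G → ℂ) g * (χ₂ : G → ℂ) g) (η : G → ℂ) ≠ 0 → irrDeg η = m)
    (χ ψ : IrrCharacter G) (hχ : irrDeg χ = m) (hψ : irrDeg ψ = n)
    (hI : ∀ η : IrrCharacter G,
      classInner (fun g => (χ : G → ℂ) g * (ψ : G → ℂ) g) (η : G → ℂ) ≠ 0 → irrDeg η = m) :
    False := by
  classical
  have : Fintype (IrrCharacter G) := Fintype.ofFinite _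
  have hmn : m ≠ n := ne_of_lt td.lt
  have hm1 : m ≠ 1 := ne_of_gt td.one_lt
  have hn1 : n ≠ 1 := ne_of_gt (lt_trans td.one_lt td.lt)
  have hm0 : (m : ℂ) ≠ 0 := by
    have : 0 < m := lt_trans Nat.zero_lt_one td.one_lt
    exact_mod_cast this.ne'
  -- every constituent is a twist of χ
  have htw : ∀ η : IrrCharacter G,
      classInner (fun g => (χ : G → ℂ) g * (ψ : G → ℂ) g) (η : G → ℂ) ≠ 0 →
      ∃ lam : G →* ℂˣ, ∀ g, (η : G → ℂ) g = ((lam g : ℂˣ) : ℂ) * (χ : G → ℂ) g := by
    intro η hη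
    by_contra hno
    push Not at hno
    have hηm : irrDeg η = m := hI η hη
    have hne : ∀ lam : G →* ℂˣ,
        (η : G → ℂ) ≠ fun g => ((lam g : ℂˣ) : ℂ) * conj ((irrStar χ : G → ℂ) g) := by
      intro lam h
      obtain ⟨g, hg⟩ := hno lam
      apply hg
      rw [h]
      simp
    have h1 := hmm (irrStar χ) η ((irrDeg_irrStar χ).trans hχ) hηm hne ψ
    have h2 : classInner (fun g => (irrStar χ : G → ℂ) g * (η : G → ℂ) g) (ψ : G → ℂ) ≠ 0 := by
      have := nf2_classInner_swap (χ : G → ℂ) (η : G → ℂ) (ψ : G → ℂ)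
      simp only [irrStar_apply]
      rw [this]
      intro h0
      apply hη
      have := congrArg conj h0
      rwa [Complex.conj_conj, map_zero] at this
    exact hmn ((h1 h2).symm.trans hψ)
  -- expansion
  have hchar : IsCharacter G (fun g => (χ : G → ℂ) g * (ψ : G → ℂ) g) :=
    IsCharacter.mul (IsIrrCharacter.isCharacter χ.2) (IsIrrCharacter.isCharacter ψ.2)
  have hexp := IsCharacter.eq_sum_classInner hchar
  have hsum : ∀ g ∈ commutator G, (χ : G → ℂ) g * (ψ : G → ℂ) g =
      (∑ η : IrrCharacter G,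
        classInner (fun g => (χ : G → ℂ) g * (ψ : G → ℂ) g) (η : G → ℂ)) * (χ : G → ℂ) g := by
    intro g hg
    have e := congrFun hexp g
    simp only [Finset.sum_apply, Pi.smul_apply, smul_eq_mul] at e
    rw [e, Finset.sum_mul]
    refine Finset.sum_congr rfl ?_
    intro η _
    by_cases hη : classInner (fun g => (χ : G → ℂ) g * (ψ : G → ℂ) g) (η : G → ℂ) = 0
    · rw [hη, zero_mul, zero_mul]
    · obtain ⟨lam, hlam⟩ := htw η hη
      have hk : g ∈ lam.ker := Abelianization.commutator_subset_ker lam hg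
      rw [hlam g, MonoidHom.mem_ker.mp hk, Units.val_one, one_mul]
  have hone := hsum 1 (Subgroup.one_mem _)
  rw [irrDeg_spec χ, irrDeg_spec ψ, hχ, hψ] at hone
  have htot : (∑ η : IrrCharacter G,
      classInner (fun g => (χ : G → ℂ) g * (ψ : G → ℂ) g) (η : G → ℂ)) = (n : ℂ) := by
    have : (m : ℂ) * ((n : ℂ) - ∑ η : IrrCharacter G,
        classInner (fun g => (χ : G → ℂ) g * (ψ : G → ℂ) g) (η : G → ℂ)) = 0 := by
      rw [mul_sub, hone]
      ring
    rcases mul_eq_zero.mp this with h | h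
    · exact absurd h hm0
    · exact (sub_eq_zero.mp h).symm
  -- χ vanishes on G' \ 1
  have hvan : ∀ g ∈ commutator G, g ≠ 1 → (χ : G → ℂ) g = 0 := by
    intro g hg hg1
    by_contra hne
    have e := hsum g hg
    rw [htot] at e
    have e2 : (ψ : G → ℂ) g = (n : ℂ) := by
      have : (χ : G → ℂ) g * ((ψ : G → ℂ) g - (n : ℂ)) = 0 := by
        rw [mul_sub, e]
        ring
      rcases mul_eq_zero.mp this with h | h
      · exact absurd h hne
      · exact sub_eq_zero.mp h
    apply hg1
    apply hfaith ψ (by rw [hψ]; exact hn1) g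
    rw [e2, irrDeg_spec ψ, hψ]
  exact nf2_vanish_contra χ (by rw [hχ]; exact hm1) (hfaith χ (by rw [hχ]; exact hm1)) hvan

end Cfsg.Agent.Helper23.TD
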