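import Mathlib
import Cfsg.Agent.Helper24.ColumnOrth
import Cfsg.Agent.Helper24.Regular

set_option autoImplicit false

namespace Cfsg.Agent.Helper23

open Cfsg.Agent.Helper24 in
theorem irr_one_ne_zero {G : Type*} [Group G] [Finite G] (χ : Cfsg.IrrCharacter G) :
    (χ : G → ℂ) 1 ≠ 0 := by
  obtain ⟨n, ρ, hρ, hχ⟩ := χ.2
  have := hρ
  rw [← hχ, Representation.char_one]
  have := finrank_pos_of_isIrreducible ρ
  exact_mod_cast this.ne'

open Cfsg.Agent.Helper24 in
/-- If every product of `x` with a conjugate of `y` is conjugate to `x y`, then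
`χ(1) χ(xy) = χ(x) χ(y)`. -/
theorem char_mul_of_class_product {G : Type*} [Group G] [Finite G] (x y : G)
    (H : ∀ b : G, IsConj (x * y) (x * (b * y * b⁻¹))) (χ : Cfsg.IrrCharacter G) :
    (χ : G → ℂ) 1 * (χ : G → ℂ) (x * y) = (χ : G → ℂ) x * (χ : G → ℂ) y := by
  classical
  have : Fintype G := Fintype.ofFinite G
  have hcf := isClassFunction_irr χ
  have key := irr_sum_mul_char_mul χ (classIndicator y) (isClassFunction_classIndicator y) x
  have h1 : ∀ g : G, classIndicator y g * (χ : G → ℂ) (g * x) =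
      classIndicator y g * (χ : G → ℂ) (x * y) := by
    intro g
    by_cases hg : IsConj y g
    · obtain ⟨b, hb⟩ := isConj_iff.mp hg
      have e1 : (χ : G → ℂ) (g * x) = (χ : G → ℂ) (x * g) := by
        have := hcf (x * g) g
        rw [← this]
        group
      rw [e1, ← hb]
      rw [IsClassFunction.eq_of_isConj hcf (H b)]
    · rw [classIndicator_of_not_isConj hg, zero_mul, zero_mul]
  have h2 : ∀ g : G, classIndicator y g * (χ : G → ℂ) g =
      classIndicator y g * (χ : G → ℂ) y := fun g => classIndicator_mul y _ hcf g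
  rw [Finset.sum_congr rfl (fun g _ => h1 g), Finset.sum_congr rfl (fun g _ => h2 g),
    ← Finset.sum_mul, ← Finset.sum_mul, sum_classIndicator] at key
  have hne : (Nat.card {z : G // IsConj y z} : ℂ) ≠ 0 := by
    have : Nonempty {z : G // IsConj y z} := ⟨⟨y, IsConj.refl y⟩⟩
    have : 0 < Nat.card {z : G // IsConj y z} := Nat.card_pos
    exact_mod_cast this.ne'
  have e : (Nat.card {z : G // IsConj y z} : ℂ) * ((χ : G → ℂ) 1 * (χ : G → ℂ) (x * y)) =
      (Nat.card {z : G // IsConj y z} : ℂ) * ((χ : G → ℂ) x * (χ : G → ℂ) y) := by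
    linear_combination key
  exact mul_left_cancel₀ hne e

open Cfsg.Agent.Helper24 in
/-- An irreducible character of degree one is a homomorphism. -/
theorem exists_monoidHom_of_irr_one_eq_one {G : Type*} [Group G] [Finite G]
    (χ : Cfsg.IrrCharacter G) (h1 : (χ : G → ℂ) 1 = 1) :
    ∃ φ : G →* ℂ, ∀ g, (χ : G → ℂ) g = φ g := by
  obtain ⟨n, ρ, hρ, hχ⟩ := χ.2
  have hd : Module.finrank ℂ (Fin n → ℂ) = 1 := by
    rw [← hχ, Representation.char_one] at h1
    exact_mod_cast h1
  have hsc : ∀ g : G, ρ g = ρ.character g • (LinearMap.id : (Fin n → ℂ) →ₗ[ℂ] (Fin n → ℂ)) := by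
    intro g
    obtain ⟨c, hc, -⟩ := LinearMap.existsUnique_eq_smul_id_of_finrank_eq_one hd (ρ g)
    have : ρ.character g = c := by
      unfold Representation.character
      rw [hc, map_smul, LinearMap.trace_id, hd]
      simp
    rw [this]; exact hc
  have hmul : ∀ g h : G, ρ.character (g * h) = ρ.character g * ρ.character h := by
    intro g h
    have e : ρ (g * h) = ρ g * ρ h := map_mul ρ g h
    rw [hsc (g * h), hsc g, hsc h, smul_mul_smul_comm, Module.End.mul_eq_comp,
      LinearMap.id_comp] at e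
    have := congrArg (LinearMap.trace ℂ (Fin n → ℂ)) e
    rw [map_smul, map_smul, LinearMap.trace_id, hd] at this
    simpa using this
  refine ⟨{ toFun := ρ.character, map_one' := by rw [hχ]; exact h1, map_mul' := hmul }, ?_⟩
  intro g
  exact (congrFun hχ g).symm

/-- A degree-one irreducible character is constant on cosets of the commutator subgroup. -/
theorem irr_linear_mul_commutator {G : Type*} [Group G] [Finite G]
    (χ : Cfsg.IrrCharacter G) (h1 : (χ : G → ℂ) 1 = 1) (g w : G) (hw : w ∈ commutator G) :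
    (χ : G → ℂ) (g * w) = (χ : G → ℂ) g := by
  obtain ⟨φ, hφ⟩ := exists_monoidHom_of_irr_one_eq_one χ h1
  have hk : w ∈ φ.toHomUnits.ker := Abelianization.commutator_subset_ker φ.toHomUnits hw
  have h2 : φ w = 1 := by
    have := congrArg Units.val (MonoidHom.mem_ker.mp hk)
    simpa using this
  rw [hφ, hφ, map_mul, h2, mul_one]

end Cfsg.Agent.Helper23
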