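import Cfsg.Agent.Helper5.TDDefs
import Cfsg.Agent.Helper24.BurnsideBrauer
import Cfsg.Agent.Helper24.RealChar
import Cfsg.Agent.Helper24.Product
import Cfsg.Agent.Helper8.CliffordAb
import Cfsg.Agent.Helper23.ClassProduct

set_option autoImplicit false

/-!
# S4460 piece NF3: type II products are impossible (Burnside–Brauer)
-/

namespace Cfsg.Agent.Helper23.TD

open Cfsg Cfsg.Agent.Helper24 Cfsg.Agent.Helper29.TwoDeg
open scoped ComplexConjugate commutatorElement

universe u

variable {G : Type u} [Group G] [Finite G]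

open Cfsg.Agent.Helper5.TD

omit [Finite G] in
/-- The degree of an irreducible character is determined by its value at `1`. -/
theorem nf3_irrDeg_eq_of_one (ξ : IrrCharacter G) (d : ℕ) (h : (ξ : G → ℂ) 1 = (d : ℂ)) :
    irrDeg ξ = d := by
  have h1 := irrDeg_spec ξ
  rw [h] at h1
  exact (Nat.cast_injective h1).symm

omit [Finite G] in
/-- Swapping a factor across the inner product. -/
theorem nf3_classInner_swap [Fintype G] (a b c : G → ℂ) :
    classInner (fun g => a g * b g) c =
      conj (classInner (fun g => conj (b g) * c g) a) := by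
  unfold classInner
  rw [map_mul, map_sum, map_inv₀, Complex.conj_natCast]
  congr 1
  refine Finset.sum_congr rfl ?_
  intro g _
  rw [map_mul, map_mul, Complex.conj_conj, Complex.conj_conj]
  ring

omit [Finite G] in
/-- Irreducible characters of different degrees are orthogonal. -/
theorem nf3_orth_of_deg_ne [Fintype G] (ξ ψ' : IrrCharacter G) (h : irrDeg ξ ≠ irrDeg ψ') :
    classInner (ξ : G → ℂ) (ψ' : G → ℂ) = 0 := by
  apply classInner_irr_ne
  intro h'
  exact h (congrArg irrDeg h')

/-- A linear character times an irreducible character of degree `m` is orthogonal to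
irreducible characters of other degrees. -/
theorem nf3_linear_mul_orth [Fintype G] (η χ ψ' : IrrCharacter G) (h1 : irrDeg η = 1)
    (hne : irrDeg χ ≠ irrDeg ψ') :
    classInner (fun g => (η : G → ℂ) g * (χ : G → ℂ) g) (ψ' : G → ℂ) = 0 := by
  obtain ⟨φ, hφ⟩ := Cfsg.Agent.Helper23.exists_monoidHom_of_irr_one_eq_one η
    ((irrDeg_eq_one_iff η).mp h1)
  have hirr := Cfsg.Agent.Helper8.isIrrCharacter_linear_mul φ.toHomUnits χ.2
  have hfun : (fun g => ((φ.toHomUnits g : ℂˣ) : ℂ) * (χ : G → ℂ) g) =
      fun g => (η : G → ℂ) g * (χ : G → ℂ) g := by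
    funext g
    rw [MonoidHom.coe_toHomUnits, hφ g]
  rw [hfun] at hirr
  have hdeg : irrDeg (⟨_, hirr⟩ : IrrCharacter G) = irrDeg χ := by
    apply nf3_irrDeg_eq_of_one
    show (η : G → ℂ) 1 * (χ : G → ℂ) 1 = (irrDeg χ : ℂ)
    rw [(irrDeg_eq_one_iff η).mp h1, one_mul, irrDeg_spec χ]
  have := nf3_orth_of_deg_ne (⟨_, hirr⟩ : IrrCharacter G) ψ' (by rw [hdeg]; exact hne)
  exact this

/-- The trivial character is orthogonal to irreducible characters of degree `≠ 1`. -/
theorem nf3_triv_orth [Fintype G] (ψ' : IrrCharacter G) (h : irrDeg ψ' ≠ 1) :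
    classInner (fun _ => (1 : ℂ)) (ψ' : G → ℂ) = 0 := by
  have hd : irrDeg (trivIrr G) = 1 := by
    apply nf3_irrDeg_eq_of_one
    simp
  have := nf3_orth_of_deg_ne (trivIrr G) ψ' (by rw [hd]; exact fun h' => h h'.symm)
  exact this

/-- Expansion of `θ * χ` along the irreducible constituents of a character `θ`. -/
theorem nf3_expand [Fintype G] [Fintype (IrrCharacter G)] (θ χ ψ' : G → ℂ)
    (hθ : IsCharacter G θ) :
    classInner (fun g => θ g * χ g) ψ' =
      ∑ η : IrrCharacter G, classInner θ (η : G → ℂ) *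
        classInner (fun g => (η : G → ℂ) g * χ g) ψ' := by
  have hexp := IsCharacter.eq_sum_classInner hθ
  have hfun : (fun g => θ g * χ g) =
      ∑ η : IrrCharacter G, classInner θ (η : G → ℂ) •
        (fun g => (η : G → ℂ) g * χ g) := by
    funext g
    have hg := congrFun hexp g
    rw [hg]
    simp only [Finset.sum_apply, Pi.smul_apply, smul_eq_mul]
    rw [Finset.sum_mul]
    refine Finset.sum_congr rfl ?_
    intro η _
    ring
  rw [hfun, classInner_sum_left]
  refine Finset.sum_congr rfl ?_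
  intro η _
  rw [classInner_smul_left]

theorem typeII_false [Fintype G] {m n : ℕ} (td : ThreeDeg G m n)
    (hfaith : ∀ χ : IrrCharacter G, irrDeg χ ≠ 1 → ∀ g : G,
      (χ : G → ℂ) g = (χ : G → ℂ) 1 → g = 1)
    (hII : ∀ χ ψ : IrrCharacter G, irrDeg χ = m → irrDeg ψ = n → ∀ η : IrrCharacter G,
      classInner (fun g => (χ : G → ℂ) g * (ψ : G → ℂ) g) (η : G → ℂ) ≠ 0 → irrDeg η = n) :
    False := by
  classical
  have : Fintype (IrrCharacter G) := Fintype.ofFinite _
  obtain ⟨χ, hχ⟩ := td.exm
  obtain ⟨ψ, hψ⟩ := td.exn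
  have hmn : m ≠ n := ne_of_lt td.lt
  have h1n : n ≠ 1 := ne_of_gt (lt_trans td.one_lt td.lt)
  -- key orthogonality
  have key : ∀ η : IrrCharacter G, irrDeg η ≠ n → ∀ ψ' : IrrCharacter G, irrDeg ψ' = n →
      classInner (fun g => (η : G → ℂ) g * (χ : G → ℂ) g) (ψ' : G → ℂ) = 0 := by
    intro η hη ψ' hψ'
    rcases td.cases η with h1 | h1 | h1
    · exact nf3_linear_mul_orth η χ ψ' h1 (by rw [hχ, hψ']; exact hmn)
    · -- degree m
      rw [nf3_classInner_swap]
      have h0 : classInner (fun g => conj ((χ : G → ℂ) g) * (ψ' : G → ℂ) g) (η : G → ℂ) = 0 := by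
        by_contra hne
        have := hII (irrStar χ) ψ' ((irrDeg_irrStar χ).trans hχ) hψ' η hne
        exact hη this
      rw [h0, map_zero]
    · exact absurd h1 hη
  -- induction on powers
  have ind : ∀ i : ℕ, ∀ ψ' : IrrCharacter G, irrDeg ψ' = n →
      classInner (fun g => (χ : G → ℂ) g ^ i) (ψ' : G → ℂ) = 0 := by
    intro i
    induction i with
    | zero =>
      intro ψ' hψ'
      have := nf3_triv_orth ψ' (by rw [hψ']; exact h1n)
      simpa using this
    | succ i ih =>
      intro ψ' hψ'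
      have hchar : IsCharacter G (fun g => (χ : G → ℂ) g ^ i) :=
        IsCharacter.pow (IsIrrCharacter.isCharacter χ.2) i
      have hfun : (fun g => (χ : G → ℂ) g ^ (i + 1)) =
          fun g => (fun g => (χ : G → ℂ) g ^ i) g * (χ : G → ℂ) g := by
        funext g
        rw [pow_succ]
      rw [hfun, nf3_expand _ _ _ hchar]
      refine Finset.sum_eq_zero ?_
      intro η _
      by_cases hη : irrDeg η = n
      · rw [ih η hη, zero_mul]
      · rw [key η hη ψ' hψ', mul_zero]
  -- Burnside–Brauer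
  obtain ⟨k, ρ, hρirr, hρχ⟩ := χ.2
  have hχne : irrDeg χ ≠ 1 := by
    rw [hχ]
    exact ne_of_gt td.one_lt
  have hker : ∀ g : G, ρ g = 1 → g = 1 := by
    intro g hg
    apply hfaith χ hχne g
    rw [← hρχ]
    unfold Representation.character
    rw [hg, map_one ρ]
  have hinj : Function.Injective ρ := by
    intro g h hgh
    have h1 : ρ (g * h⁻¹) = 1 := by
      rw [map_mul, hgh, ← map_mul, mul_inv_cancel, map_one]
    have h2 := hker _ h1
    exact mul_inv_eq_one.mp h2
  obtain ⟨i, _, hi⟩ := exists_pow_classInner_ne_zero ρ hinj (ψ : G → ℂ) ψ.2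
  rw [hρχ] at hi
  exact hi (ind i ψ hψ)

end Cfsg.Agent.Helper23.TD
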