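import Mathlib

set_option autoImplicit false

/-!
# S3782 (Alperin), piece A5: an abelian `p`-group of exponent `p ^ e` with an automorphism of
order dividing `p` having at most `p ^ n` fixed points has order at most `p ^ (e * (p * n))`.
-/

namespace Cfsg.Agent.Helper23.Alp

open Polynomial in
theorem sub_one_pow_eq (p : ℕ) [Fact p.Prime] {V : Type*} [AddCommGroup V] [Module (ZMod p) V]
    (F : Module.End (ZMod p) V) : (F - 1) ^ p = F ^ p - 1 := by
  have h : ((X - 1 : (ZMod p)[X])) ^ p = X ^ p - 1 := by
    rw [sub_pow_char, one_pow]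
  have h2 := congrArg (Polynomial.aeval F) h
  simpa using h2

theorem iterate_sub_one_aux (p : ℕ) [Fact p.Prime] {V : Type*} [AddCommGroup V]
    [Module (ZMod p) V] (f : V →+ V) (hfp : ∀ v, (f^[p]) v = v) (v : V) :
    ((fun x => f x - x)^[p]) v = 0 := by
  let F : Module.End (ZMod p) V := f.toZModLinearMap p
  have hFf : (⇑F : V → V) = ⇑f := rfl
  have hFp : F ^ p = 1 := by
    apply LinearMap.ext
    intro v
    rw [Module.End.pow_apply, hFf, hfp]
    rfl
  have h0 : (F - 1) ^ p = 0 := by rw [sub_one_pow_eq, hFp, sub_self]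
  have h1 : (⇑(F - 1) : V → V) = fun x => f x - x := rfl
  have h2 := Module.End.pow_apply (F - 1) p v
  rw [h0, h1] at h2
  exact h2.symm

/-- `(f - 1) ^ p = 0` on a group of exponent `p` when `f ^ p = 1`. -/
theorem iterate_sub_one (p : ℕ) [Fact p.Prime] {V : Type*} [AddCommGroup V]
    (hexp : ∀ v : V, p • v = 0)
    (f : V →+ V) (hfp : ∀ v, (f^[p]) v = v) (v : V) : ((fun x => f x - x)^[p]) v = 0 :=
  @iterate_sub_one_aux p _ V _ (AddCommGroup.zmodModule hexp) f hfp v

theorem card_eq_ker_mul_range {A B : Type*} [AddCommGroup A] [AddCommGroup B] [Finite A]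
    (φ : A →+ B) : Nat.card A = Nat.card φ.ker * Nat.card φ.range := by
  rw [AddSubgroup.card_eq_card_quotient_mul_card_addSubgroup φ.ker,
    Nat.card_congr (QuotientAddGroup.quotientKerEquivRange φ).toEquiv, mul_comm]

section Core

variable {V : Type*} [AddCommGroup V]

/-- iterates of an additive endomorphism, as additive homomorphisms -/
def iter (T : V →+ V) : ℕ → (V →+ V)
  | 0 => AddMonoidHom.id V
  | j + 1 => (iter T j).comp T

theorem iter_apply (T : V →+ V) (j : ℕ) (v : V) : iter T j v = (T^[j]) v := by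
  induction j generalizing v with
  | zero => rfl
  | succ j ih =>
    rw [Function.iterate_succ_apply]
    exact ih (T v)

theorem iter_succ_apply (T : V →+ V) (j : ℕ) (v : V) : iter T (j + 1) v = iter T j (T v) := rfl

variable [Finite V]

/-- kernels of the iterates of an endomorphism -/
theorem card_ker_iter_succ_le (T : V →+ V) (j : ℕ) :
    Nat.card (iter T (j + 1)).ker ≤ Nat.card T.ker * Nat.card (iter T j).ker := by
  let φ : (iter T (j + 1)).ker →+ V := T.comp (iter T (j + 1)).ker.subtype
  rw [card_eq_ker_mul_range φ]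
  apply Nat.mul_le_mul
  · refine Nat.card_le_card_of_injective
      (fun v : φ.ker => (⟨((v : (iter T (j + 1)).ker) : V), ?_⟩ : T.ker)) ?_
    · rw [AddMonoidHom.mem_ker]
      exact (AddMonoidHom.mem_ker).mp v.2
    · intro v w h
      apply Subtype.ext
      apply Subtype.ext
      have h' := congrArg Subtype.val h
      exact h'
  · apply AddSubgroup.card_le_of_le
    rintro _ ⟨v, rfl⟩
    rw [AddMonoidHom.mem_ker]
    have hv : iter T (j + 1) (v : V) = 0 := (AddMonoidHom.mem_ker).mp v.2
    rw [iter_succ_apply] at hv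
    exact hv

theorem card_ker_iter_le (T : V →+ V) (j : ℕ) :
    Nat.card (iter T j).ker ≤ Nat.card T.ker ^ j := by
  induction j with
  | zero =>
    rw [pow_zero]
    have : (iter T 0).ker = ⊥ := by
      ext v
      rw [AddMonoidHom.mem_ker, AddSubgroup.mem_bot]
      rfl
    rw [this]
    simp
  | succ j ih =>
    calc Nat.card (iter T (j + 1)).ker
        ≤ Nat.card T.ker * Nat.card (iter T j).ker := card_ker_iter_succ_le T j
      _ ≤ Nat.card T.ker * Nat.card T.ker ^ j := Nat.mul_le_mul_left _ ih
      _ = Nat.card T.ker ^ (j + 1) := by rw [pow_succ, mul_comm]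

/-- the case of exponent `p` -/
theorem card_le_of_fixed_one {p : ℕ} [Fact p.Prime] (f : V →+ V) (hfp : ∀ v, (f^[p]) v = v)
    (n : ℕ) (hfix : Nat.card {v : V // f v = v} ≤ p ^ n) (hexp : ∀ v : V, p • v = 0) :
    Nat.card V ≤ p ^ (p * n) := by
  set T : V →+ V := f - AddMonoidHom.id V with hT
  have hTf : (⇑T : V → V) = fun x => f x - x := rfl
  have hTp : (iter T p).ker = ⊤ := by
    rw [eq_top_iff]
    intro v _
    rw [AddMonoidHom.mem_ker, iter_apply, hTf]
    exact iterate_sub_one p hexp f hfp v
  have hker : Nat.card T.ker ≤ p ^ n := by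
    refine le_trans (Nat.card_le_card_of_injective
      (fun v : T.ker => (⟨(v : V), ?_⟩ : {v : V // f v = v})) ?_) hfix
    · have := (AddMonoidHom.mem_ker).mp v.2
      have h2 : f (v : V) - (v : V) = 0 := this
      exact sub_eq_zero.mp h2
    · intro v w h
      apply Subtype.ext
      have h' := congrArg Subtype.val h
      exact h'
  calc Nat.card V = Nat.card (⊤ : AddSubgroup V) :=
        (Nat.card_congr AddSubgroup.topEquiv.toEquiv).symm
    _ = Nat.card (iter T p).ker := by rw [hTp]
    _ ≤ Nat.card T.ker ^ p := card_ker_iter_le T p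
    _ ≤ (p ^ n) ^ p := Nat.pow_le_pow_left hker p
    _ = p ^ (p * n) := by rw [← pow_mul, mul_comm]

end Core

section Restrict

variable {V : Type*} [AddCommGroup V]

/-- restriction of an endomorphism to an invariant subgroup -/
def restr (f : V →+ V) (W : AddSubgroup V) (hW : ∀ w ∈ W, f w ∈ W) : W →+ W :=
  (f.comp W.subtype).codRestrict W (fun w => hW w w.2)

theorem restr_coe (f : V →+ V) (W : AddSubgroup V) (hW : ∀ w ∈ W, f w ∈ W) (w : W) :
    ((restr f W hW w : W) : V) = f w := rfl

theorem restr_iterate (f : V →+ V) (W : AddSubgroup V) (hW : ∀ w ∈ W, f w ∈ W) (k : ℕ) (w : W) :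
    ((((restr f W hW)^[k]) w : W) : V) = (f^[k]) w := by
  induction k generalizing w with
  | zero => rfl
  | succ k ih =>
    rw [Function.iterate_succ_apply, Function.iterate_succ_apply, ih, restr_coe]

theorem card_fixed_restr_le [Finite V] (f : V →+ V) (W : AddSubgroup V)
    (hW : ∀ w ∈ W, f w ∈ W) :
    Nat.card {w : W // restr f W hW w = w} ≤ Nat.card {v : V // f v = v} := by
  refine Nat.card_le_card_of_injective
    (fun w : {w : W // restr f W hW w = w} => (⟨((w : W) : V), ?_⟩ : {v : V // f v = v})) ?_
  · have := congrArg Subtype.val w.2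
    rwa [restr_coe] at this
  · intro v w h
    apply Subtype.ext
    apply Subtype.ext
    have h' := congrArg Subtype.val h
    exact h'

end Restrict

/-- (A5) RANK -/
theorem card_le_of_fixed {V : Type*} [AddCommGroup V] [Finite V] {p : ℕ} [Fact p.Prime]
    (f : V →+ V) (hfp : ∀ v, (f^[p]) v = v) (n e : ℕ)
    (hfix : Nat.card {v : V // f v = v} ≤ p ^ n) (hexp : ∀ v : V, (p ^ e) • v = 0) :
    Nat.card V ≤ p ^ (e * (p * n)) := by
  induction e generalizing V with
  | zero =>
    have : Subsingleton V := by
      constructor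
      intro a b
      have ha := hexp a
      have hb := hexp b
      rw [pow_zero, one_smul] at ha hb
      rw [ha, hb]
    rw [zero_mul, pow_zero]
    exact Finite.card_le_one_iff_subsingleton.mpr this
  | succ e ih =>
    set μ : V →+ V := nsmulAddMonoidHom p with hμ
    have hμa : ∀ v, μ v = p • v := fun v => rfl
    have hA : ∀ w ∈ μ.ker, f w ∈ μ.ker := by
      intro w hw
      rw [AddMonoidHom.mem_ker, hμa] at hw ⊢
      rw [← map_nsmul, hw, map_zero]
    have hR : ∀ w ∈ μ.range, f w ∈ μ.range := by
      rintro _ ⟨v, rfl⟩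
      refine ⟨f v, ?_⟩
      rw [hμa, hμa, map_nsmul]
    have h1 : Nat.card μ.ker ≤ p ^ (p * n) := by
      apply card_le_of_fixed_one (restr f μ.ker hA) _ n
        (le_trans (card_fixed_restr_le f μ.ker hA) hfix)
      · intro w
        apply Subtype.ext
        have := (AddMonoidHom.mem_ker).mp w.2
        rw [hμa] at this
        simpa using this
      · intro w
        apply Subtype.ext
        rw [restr_iterate, hfp]
    have h2 : Nat.card μ.range ≤ p ^ (e * (p * n)) := by
      apply ih (restr f μ.range hR) _ (le_trans (card_fixed_restr_le f μ.range hR) hfix)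
      · rintro ⟨_, v, rfl⟩
        apply Subtype.ext
        show p ^ e • (μ v) = 0
        rw [hμa, ← mul_smul, ← pow_succ]
        exact hexp v
      · intro w
        apply Subtype.ext
        rw [restr_iterate, hfp]
    rw [card_eq_ker_mul_range μ]
    calc Nat.card μ.ker * Nat.card μ.range ≤ p ^ (p * n) * p ^ (e * (p * n)) :=
          Nat.mul_le_mul h1 h2
      _ = p ^ ((e + 1) * (p * n)) := by rw [← pow_add]; congr 1; ring

end Cfsg.Agent.Helper23.Alp
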