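import Mathlib
import Cfsg.Prelude.Def_Local
import Cfsg.Prelude.Def_CaseTheorems
import Cfsg.Agent.Helper23.PSeries
import Cfsg.Agent.S0009
import Cfsg.Agent.S0044

set_option autoImplicit false

namespace Cfsg.Agent.Helper23

open Subgroup

section

variable (p : ℕ) [hp : Fact p.Prime] (G : Type*) [Group G] [Finite G]

/-- A normal `p'`-subgroup of `G / O_{p'}(G)` is trivial. -/
theorem eq_bot_of_normal_coprime_quotient_pPrimeCore
    (T : Subgroup (G ⧸ Cfsg.pPrimeCore p G)) (hT : T.Normal) (hcop : (Nat.card T).Coprime p) :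
    T = ⊥ := by
  have h1 : T.comap (QuotientGroup.mk' (Cfsg.pPrimeCore p G)) ≤ Cfsg.pPrimeCore p G := by
    apply le_sSup
    refine ⟨inferInstance, ?_⟩
    rw [card_comap_mk']
    exact Nat.Coprime.mul_left (pPrimeCore_card_coprime p G) hcop
  rw [eq_bot_iff]
  intro t ht
  obtain ⟨x, rfl⟩ := QuotientGroup.mk'_surjective _ t
  have : x ∈ Cfsg.pPrimeCore p G := h1 ht
  rw [Subgroup.mem_bot, QuotientGroup.mk'_apply, QuotientGroup.eq_one_iff]; exact this

/-- `O_p` is a `p`-group. -/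
theorem pCore_isPGroup : IsPGroup p (Cfsg.pCore p G) := by
  obtain ⟨a, ha⟩ := pCore_card p G
  exact IsPGroup.of_card ha

/-- In a group of `p`-length at most one, `O_p(G / O_{p'}(G))` has index prime to `p`. -/
theorem pCore_quotient_index_coprime (h : Cfsg.PLengthLE p 1 G) :
    ((Cfsg.pCore p (G ⧸ Cfsg.pPrimeCore p G)).index).Coprime p := by
  obtain ⟨S⟩ : Nonempty (Sylow p G) := inferInstance
  obtain ⟨K, hKn, hKcop, hKN, -⟩ := exists_normal_pPrime_of_pLengthLE_one p G h S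
  set π := QuotientGroup.mk' (Cfsg.pPrimeCore p G) with hπ
  have hKle : K ≤ Cfsg.pPrimeCore p G := le_sSup ⟨hKn, hKcop⟩
  have hKmap : K.map π = ⊥ := by
    rw [eq_bot_iff]
    rintro _ ⟨k, hk, rfl⟩
    rw [Subgroup.mem_bot, hπ, QuotientGroup.mk'_apply, QuotientGroup.eq_one_iff]
    exact hKle hk
  have hsurj : Function.Surjective π := QuotientGroup.mk'_surjective _
  have hnorm : ((S : Subgroup G).map π).Normal := by
    rw [← Subgroup.normalizer_eq_top_iff, eq_top_iff]
    have h1 : (⊤ : Subgroup G).map π = ⊤ := by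
      rw [← MonoidHom.range_eq_map]; exact MonoidHom.range_eq_top.mpr hsurj
    rw [← h1, ← hKN, Subgroup.map_sup, hKmap]
    exact sup_le bot_le (Subgroup.le_normalizer_map π)
  have hle : (S : Subgroup G).map π ≤ Cfsg.pCore p (G ⧸ Cfsg.pPrimeCore p G) :=
    le_sSup ⟨hnorm, S.isPGroup'.map π⟩
  have hd1 : (Cfsg.pCore p (G ⧸ Cfsg.pPrimeCore p G)).index ∣ ((S : Subgroup G).map π).index :=
    Subgroup.index_dvd_of_le hle
  have hd2 : ((S : Subgroup G).map π).index ∣ (S : Subgroup G).index :=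
    Subgroup.index_map_dvd _ hsurj
  have hS : ((S : Subgroup G).index).Coprime p := by
    rw [Nat.coprime_comm, Nat.Prime.coprime_iff_not_dvd hp.out]; exact S.not_dvd_index
  exact Nat.Coprime.coprime_dvd_left (hd1.trans hd2) hS

/-- Hall–Higman 1.2.3 for solvable groups: in `Ḡ = G / O_{p'}(G)` with `G` solvable,
`C_Ḡ(O_p(Ḡ)) ≤ O_p(Ḡ)`. -/
theorem centralizer_pCore_quotient_le [Group.IsSolvable G] :
    Subgroup.centralizer (Cfsg.pCore p (G ⧸ Cfsg.pPrimeCore p G) : Set (G ⧸ Cfsg.pPrimeCore p G)) ≤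
      Cfsg.pCore p (G ⧸ Cfsg.pPrimeCore p G) := by
  have hF : Cfsg.fittingSubgroup (G ⧸ Cfsg.pPrimeCore p G) =
      Cfsg.pCore p (G ⧸ Cfsg.pPrimeCore p G) := by
    rw [Cfsg.Agent.S0009.result]
    apply le_antisymm
    · apply iSup_le
      intro q
      by_cases hqp : (q : ℕ) = p
      · rw [hqp]
      · have hq : Fact (q : ℕ).Prime := ⟨q.2⟩
        have : Cfsg.pCore (q : ℕ) (G ⧸ Cfsg.pPrimeCore p G) = ⊥ := by
          apply eq_bot_of_normal_coprime_quotient_pPrimeCore p G _ inferInstance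
          obtain ⟨a, ha⟩ := pCore_card (q : ℕ) (G ⧸ Cfsg.pPrimeCore p G)
          rw [ha]
          apply Nat.Coprime.pow_left
          exact (Nat.coprime_primes q.2 hp.out).mpr hqp
        rw [this]; exact bot_le
    · exact le_iSup (fun q : Nat.Primes => Cfsg.pCore (q : ℕ) (G ⧸ Cfsg.pPrimeCore p G))
        ⟨p, hp.out⟩
  have := Cfsg.Agent.S0044.result (G := G ⧸ Cfsg.pPrimeCore p G)
  rw [hF] at this
  exact this

end

/-- Lift an element `c` of a subgroup `C` whose image mod `N` has prime order `r` to an `r`-element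
of `C` with the same image. -/
theorem exists_pElement_lift_mem {G : Type*} [Group G] [Finite G] (N : Subgroup G) [N.Normal]
    (r : ℕ) [hr : Fact r.Prime] (C : Subgroup G) (c : G) (hc : c ∈ C)
    (hy : orderOf ((QuotientGroup.mk' N) c) = r) :
    ∃ x ∈ C, (QuotientGroup.mk' N) x = (QuotientGroup.mk' N) c ∧ ∃ a : ℕ, x ^ (r ^ a) = 1 := by
  have ho : orderOf c ≠ 0 := (orderOf_pos c).ne'
  obtain ⟨a, m, hm, hom⟩ := Nat.exists_eq_pow_mul_and_not_dvd ho r hr.out.ne_one
  have hcop : Nat.Coprime m r := (Nat.Coprime.symm ((Nat.Prime.coprime_iff_not_dvd hr.out).mpr hm))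
  obtain ⟨m', -, hm'⟩ := Nat.exists_mul_mod_eq_one_of_coprime hcop hr.out.one_lt
  refine ⟨c ^ (m * m'), C.pow_mem hc _, ?_, a, ?_⟩
  · rw [map_pow, ← pow_mod_orderOf, hy, hm', pow_one]
  · rw [← pow_mul, show m * m' * r ^ a = (r ^ a * m) * m' by ring, ← hom, pow_mul, pow_orderOf_eq_one,
      one_pow]

end Cfsg.Agent.Helper23
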