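import Mathlib
import Cfsg.Prelude.Def_LieExceptional
import Cfsg.Agent.Helper1.MinNormal
import Cfsg.Agent.Helper20.Sylow
import Cfsg.Agent.Lead.Coprime3
import Cfsg.Agent.Helper23.PGroup
import Cfsg.Agent.Helper23.PSeries

/-!
CN-groups (every non-identity element has nilpotent centralizer): quotients by solvable normal
subgroups are again CN-groups.
-/

set_option autoImplicit false

namespace Cfsg.Agent.Helper23

open Subgroup

theorem isNilpotent_of_injective {K K' : Type*} [Group K] [Group K'] (f : K →* K')
    (hf : Function.Injective f) [Group.IsNilpotent K'] : Group.IsNilpotent K :=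
  Group.nilpotent_of_mulEquiv (MonoidHom.ofInjective hf).symm

theorem isNilpotent_of_le {G : Type*} [Group G] {A B : Subgroup G} (h : A ≤ B)
    (hB : Group.IsNilpotent B) : Group.IsNilpotent A :=
  isNilpotent_of_injective (Subgroup.inclusion h) (Subgroup.inclusion_injective h)

theorem isCNGroup_of_mulEquiv {G G' : Type*} [Group G] [Group G'] (e : G ≃* G')
    (h : Cfsg.IsCNGroup G) : Cfsg.IsCNGroup G' := by
  intro g' hg'
  have hg : e.symm g' ≠ 1 := by
    intro h1
    apply hg'
    have := congrArg e h1
    simpa using this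
  have hn := h (e.symm g') hg
  -- centralizer {g'} embeds in centralizer {e.symm g'}
  let f : Subgroup.centralizer ({g'} : Set G') →* Subgroup.centralizer ({e.symm g'} : Set G) :=
    { toFun := fun c => ⟨e.symm c, by
        rw [Subgroup.mem_centralizer_iff]
        intro y hy
        rw [Set.mem_singleton_iff] at hy
        subst hy
        have := (Subgroup.mem_centralizer_iff.mp c.2) g' rfl
        rw [← map_mul, ← map_mul, this]⟩
      map_one' := by apply Subtype.ext; simp
      map_mul' := fun a b => by apply Subtype.ext; simp }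
  have hf : Function.Injective f := by
    intro a b hab
    have := congrArg Subtype.val hab
    apply Subtype.ext
    exact e.symm.injective this
  exact isNilpotent_of_injective f hf

theorem isCNGroup_subgroup {G : Type*} [Group G] (h : Cfsg.IsCNGroup G) (C : Subgroup G) :
    Cfsg.IsCNGroup C := by
  intro w hw
  have hw' : (w : G) ≠ 1 := fun h1 => hw (Subtype.ext h1)
  have hn := h (w : G) hw'
  let f : Subgroup.centralizer ({w} : Set C) →* Subgroup.centralizer ({(w : G)} : Set G) :=
    { toFun := fun c => ⟨((c : C) : G), by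
        rw [Subgroup.mem_centralizer_iff]
        intro y hy
        rw [Set.mem_singleton_iff] at hy
        subst hy
        have := (Subgroup.mem_centralizer_iff.mp c.2) w rfl
        have := congrArg Subtype.val this
        simpa using this⟩
      map_one' := rfl
      map_mul' := fun a b => rfl }
  have hf : Function.Injective f := by
    intro a b hab
    have := congrArg Subtype.val hab
    apply Subtype.ext
    apply Subtype.ext
    exact this
  exact isNilpotent_of_injective f hf

/-- In a finite nilpotent group, a `p`-element and a `q`-element (`p ≠ q`) commute. -/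
theorem commute_of_isNilpotent {K : Type*} [Group K] [Finite K] [Group.IsNilpotent K] {p q : ℕ}
    [Fact p.Prime] [Fact q.Prime] (hpq : p ≠ q) (a b : K) (ha : IsPGroup p (zpowers a))
    (hb : IsPGroup q (zpowers b)) : Commute a b := by
  obtain ⟨P, hP⟩ := ha.exists_le_sylow
  obtain ⟨Q, hQ⟩ := hb.exists_le_sylow
  have hPn : (P : Subgroup K).Normal := inferInstance
  have hQn : (Q : Subgroup K).Normal := inferInstance
  exact Subgroup.commute_of_normal_of_disjoint _ _ hPn hQn
    (IsPGroup.disjoint_of_ne p q hpq _ _ P.isPGroup' Q.isPGroup') a b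
    (hP (mem_zpowers a)) (hQ (mem_zpowers b))

/-- Core lemma: a finite CN-group `C` with a nontrivial abelian normal `p`-subgroup `N` and a
`p`-element `x ∉ N` central modulo `N` is nilpotent. -/
theorem isNilpotent_of_central_mod {C : Type*} [Group C] [Finite C] (hCN : Cfsg.IsCNGroup C)
    (p : ℕ) [Fact p.Prime] (N : Subgroup C) [hNn : N.Normal]
    (hNp : IsPGroup p N) (hN1 : N ≠ ⊥)
    (x : C) (hx : IsPGroup p (zpowers x)) (hxN : x ∉ N)
    (hC : ∀ g : C, g * x * g⁻¹ * x⁻¹ ∈ N) : Group.IsNilpotent C := by
  have hL : IsPGroup p (N ⊔ zpowers x : Subgroup C) := IsPGroup.to_sup_of_normal_left hNp hx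
  obtain ⟨S, hLS⟩ := hL.exists_le_sylow
  have hNS : N ≤ (S : Subgroup C) := le_sup_left.trans hLS
  have hxS : x ∈ (S : Subgroup C) := hLS (mem_sup_right (mem_zpowers x))
  -- z in N ∩ Z(S)
  have hN'ne : N.subgroupOf (S : Subgroup C) ≠ ⊥ := by
    intro h
    apply hN1
    rw [eq_bot_iff]
    intro n hn
    have : (⟨n, hNS hn⟩ : (S : Subgroup C)) ∈ N.subgroupOf (S : Subgroup C) := hn
    rw [h, Subgroup.mem_bot] at this
    have := congrArg Subtype.val this
    simpa using this
  have hN'n : (N.subgroupOf (S : Subgroup C)).Normal := Subgroup.normal_subgroupOf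
  obtain ⟨b, hbN, hbZ, hb1⟩ := exists_mem_inf_center_ne_one S.isPGroup'
    (N.subgroupOf (S : Subgroup C)) hN'ne
  set z : C := (b : C) with hz
  have hzN : z ∈ N := hbN
  have hz1 : z ≠ 1 := fun h => hb1 (Subtype.ext h)
  have hzS : ∀ s ∈ (S : Subgroup C), s * z = z * s := by
    intro s hs
    have := (Subgroup.mem_center_iff.mp hbZ) ⟨s, hs⟩
    have := congrArg Subtype.val this
    simpa using this
  have hzp : IsPGroup p (zpowers z) := hNp.to_le ((zpowers_le).mpr hzN)
  -- the centralizer of z is everything
  have hD : Subgroup.centralizer ({z} : Set C) = ⊤ := by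
    apply Cfsg.Agent.Helper20.eq_top_of_forall_sylow_le
    intro q hq
    by_cases hqp : q = p
    · subst hqp
      refine ⟨S, ?_⟩
      intro s hs
      rw [Subgroup.mem_centralizer_iff]
      intro y hy
      rw [Set.mem_singleton_iff] at hy
      subst hy
      exact (hzS s hs).symm
    · have Q : Sylow q C := default
      refine ⟨Q, ?_⟩
      intro y hy
      -- y is a q-element
      have hyq : IsPGroup q (zpowers y) := Q.isPGroup'.to_le ((zpowers_le).mpr hy)
      have hcop : (Nat.card (zpowers y)).Coprime (Nat.card N) := by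
        obtain ⟨a, ha⟩ := (IsPGroup.iff_card).mp hyq
        obtain ⟨c, hc⟩ := (IsPGroup.iff_card).mp hNp
        rw [ha, hc]
        exact Nat.Coprime.pow _ _ ((Nat.coprime_primes hq.out (Fact.out : p.Prime)).mpr hqp)
      have hnorm : zpowers y ≤ Subgroup.normalizer (N : Set C) := by
        rw [Subgroup.normalizer_eq_top]; exact le_top
      have hsolv : Group.IsSolvable (zpowers y) ∨ Group.IsSolvable N :=
        Or.inl inferInstance
      obtain ⟨c, hcA, hcN⟩ := Cfsg.Agent.Lead.coprime_invariant_coset_fixed (zpowers y) N hnorm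
        hcop hsolv x (fun a _ => hC a)
      have hc1 : c ≠ 1 := by
        intro h
        rw [h, one_mul] at hcN
        exact hxN (by simpa using N.inv_mem hcN)
      have hcS : c ∈ (S : Subgroup C) := by
        have : c = (c * x⁻¹) * x := by group
        rw [this]
        exact (S : Subgroup C).mul_mem (hNS hcN) hxS
      have hK := hCN c hc1
      have hyK : y ∈ Subgroup.centralizer ({c} : Set C) := by
        rw [Subgroup.mem_centralizer_iff]
        intro w hw
        rw [Set.mem_singleton_iff] at hw
        subst hw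
        exact ((Subgroup.mem_centralizer_iff.mp hcA) y (mem_zpowers y)).symm
      have hzK : z ∈ Subgroup.centralizer ({c} : Set C) := by
        rw [Subgroup.mem_centralizer_iff]
        intro w hw
        rw [Set.mem_singleton_iff] at hw
        subst hw
        exact hzS w hcS
      -- commute inside the nilpotent group K
      have hzp' : IsPGroup p (zpowers (⟨z, hzK⟩ : Subgroup.centralizer ({c} : Set C))) := by
        intro ⟨w, hw⟩
        obtain ⟨k, rfl⟩ := mem_zpowers_iff.mp hw
        obtain ⟨n, hn⟩ := hzp ⟨z ^ k, zpow_mem (mem_zpowers z) k⟩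
        refine ⟨n, ?_⟩
        apply Subtype.ext; apply Subtype.ext
        have := congrArg Subtype.val hn
        simpa using this
      have hyq' : IsPGroup q (zpowers (⟨y, hyK⟩ : Subgroup.centralizer ({c} : Set C))) := by
        intro ⟨w, hw⟩
        obtain ⟨k, rfl⟩ := mem_zpowers_iff.mp hw
        obtain ⟨n, hn⟩ := hyq ⟨y ^ k, zpow_mem (mem_zpowers y) k⟩
        refine ⟨n, ?_⟩
        apply Subtype.ext; apply Subtype.ext
        have := congrArg Subtype.val hn
        simpa using this
      have hcomm := commute_of_isNilpotent (fun h => hqp h.symm) _ _ hzp' hyq'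
      have hcomm' : z * y = y * z := congrArg Subtype.val hcomm
      rw [Subgroup.mem_centralizer_iff]
      intro w hw
      rw [Set.mem_singleton_iff] at hw
      subst hw
      exact hcomm'
  have hnil := hCN z hz1
  rw [hD] at hnil
  exact Group.nilpotent_of_mulEquiv (Subgroup.topEquiv (G := C))

/-- Lift an element of prime order `r` of `G ⧸ N` to an `r`-element of `G`. -/
theorem exists_pElement_lift {G : Type*} [Group G] [Finite G] (N : Subgroup G) [N.Normal]
    (r : ℕ) [hr : Fact r.Prime] (y : G ⧸ N) (hy : orderOf y = r) :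
    ∃ x : G, (QuotientGroup.mk' N) x = y ∧ IsPGroup r (zpowers x) := by
  obtain ⟨x₀, hx₀⟩ := QuotientGroup.mk'_surjective N y
  have ho : orderOf x₀ ≠ 0 := (orderOf_pos x₀).ne'
  obtain ⟨a, m, hm, hom⟩ := Nat.exists_eq_pow_mul_and_not_dvd ho r hr.out.ne_one
  have hcop : Nat.Coprime m r := (Nat.Coprime.symm ((Nat.Prime.coprime_iff_not_dvd hr.out).mpr hm))
  obtain ⟨m', -, hm'⟩ := Nat.exists_mul_mod_eq_one_of_coprime hcop hr.out.one_lt
  refine ⟨x₀ ^ (m * m'), ?_, ?_⟩
  · rw [map_pow, hx₀, ← pow_mod_orderOf, hy, hm', pow_one]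
  · intro ⟨w, hw⟩
    obtain ⟨k, rfl⟩ := mem_zpowers_iff.mp hw
    refine ⟨a, ?_⟩
    apply Subtype.ext
    simp only [Subgroup.coe_pow, Subgroup.coe_one]
    have h1 : (x₀ ^ (m * m')) ^ (r ^ a) = 1 := by
      rw [← pow_mul, show m * m' * r ^ a = (r ^ a * m) * m' by ring, ← hom, pow_mul,
        pow_orderOf_eq_one, one_pow]
    rw [← zpow_natCast, ← zpow_mul, mul_comm k, zpow_mul, zpow_natCast, h1, one_zpow]

/-- Key lemma: the quotient of a finite CN-group by a nontrivial normal `p`-subgroup is a
CN-group. -/
theorem isCNGroup_quotient_pGroup {G : Type*} [Group G] [Finite G] (hCN : Cfsg.IsCNGroup G)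
    (p : ℕ) [Fact p.Prime] (N : Subgroup G) [hNn : N.Normal] (hNp : IsPGroup p N) (hN1 : N ≠ ⊥) :
    Cfsg.IsCNGroup (G ⧸ N) := by
  intro xb hxb
  -- reduce to prime order
  set n := orderOf xb with hn
  have hn1 : n ≠ 1 := fun h => hxb (orderOf_eq_one_iff.mp h)
  have hnpos : 0 < n := orderOf_pos xb
  set r := n.minFac with hr
  have hrp : r.Prime := Nat.minFac_prime hn1
  have : Fact r.Prime := ⟨hrp⟩
  have hrn : r ∣ n := Nat.minFac_dvd n
  set yb := xb ^ (n / r) with hyb
  have hybo : orderOf yb = r := orderOf_pow_orderOf_div hnpos.ne' hrn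
  have hyb1 : yb ≠ 1 := by
    intro h
    rw [← orderOf_eq_one_iff, hybo] at h
    exact hrp.ne_one h
  have hle : Subgroup.centralizer ({xb} : Set (G ⧸ N)) ≤ Subgroup.centralizer ({yb} : Set (G ⧸ N)) := by
    intro g hg
    rw [Subgroup.mem_centralizer_iff] at hg ⊢
    intro w hw
    rw [Set.mem_singleton_iff] at hw
    subst hw
    have h1 : Commute xb g := hg xb rfl
    exact (h1.pow_left (n / r)).eq
  refine isNilpotent_of_le hle ?_
  -- lift
  obtain ⟨x, hxy, hxr⟩ := exists_pElement_lift N r yb hybo
  have hx1 : x ≠ 1 := by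
    intro h
    apply hyb1
    rw [← hxy, h, map_one]
  have hxN : x ∉ N := by
    intro h
    apply hyb1
    rw [← hxy, QuotientGroup.mk'_apply, QuotientGroup.eq_one_iff]
    exact h
  have hmem : ∀ g : G, (QuotientGroup.mk' N) g ∈ Subgroup.centralizer ({yb} : Set (G ⧸ N)) ↔
      g * x * g⁻¹ * x⁻¹ ∈ N := by
    intro g
    rw [Subgroup.mem_centralizer_iff]
    constructor
    · intro h
      have h1 := h yb rfl
      rw [← hxy] at h1
      rw [← QuotientGroup.eq_one_iff, ← QuotientGroup.mk'_apply, map_mul, map_mul, map_mul,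
        map_inv, map_inv, ← h1]
      group
    · intro h w hw
      rw [Set.mem_singleton_iff] at hw
      subst hw
      rw [← QuotientGroup.eq_one_iff, ← QuotientGroup.mk'_apply, map_mul, map_mul, map_mul,
        map_inv, map_inv, hxy] at h
      have : (QuotientGroup.mk' N) g * yb = yb * (QuotientGroup.mk' N) g := by
        have h2 := congrArg (fun t => t * yb * (QuotientGroup.mk' N) g) h
        beta_reduce at h2
        rw [one_mul] at h2
        rw [← h2]; group
      exact this.symm
  by_cases hrp' : r = p
  · -- the p-case: the full preimage is nilpotent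
    subst hrp'
    set C : Subgroup G := (Subgroup.centralizer ({yb} : Set (G ⧸ N))).comap (QuotientGroup.mk' N)
      with hCdef
    have hNC : N ≤ C := by
      intro a ha
      rw [hCdef, Subgroup.mem_comap]
      have : (QuotientGroup.mk' N) a = 1 := by
        rw [QuotientGroup.mk'_apply, QuotientGroup.eq_one_iff]; exact ha
      rw [this]; exact Subgroup.one_mem _
    have hxC : x ∈ C := by
      rw [hCdef, Subgroup.mem_comap, hmem]
      have : x * x * x⁻¹ * x⁻¹ = 1 := by group
      rw [this]; exact N.one_mem
    have hCnil : Group.IsNilpotent C := by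
      have hN'n : (N.subgroupOf C).Normal := Subgroup.normal_subgroupOf
      apply isNilpotent_of_central_mod (isCNGroup_subgroup hCN C) r (N.subgroupOf C)
        hNp.comap_subtype ?_ ⟨x, hxC⟩ ?_ ?_ ?_
      · intro h
        apply hN1
        rw [eq_bot_iff]
        intro a ha
        have : (⟨a, hNC ha⟩ : C) ∈ N.subgroupOf C := ha
        rw [h, Subgroup.mem_bot] at this
        have := congrArg Subtype.val this
        simpa using this
      · intro ⟨w, hw⟩
        obtain ⟨k, rfl⟩ := mem_zpowers_iff.mp hw
        obtain ⟨j, hj⟩ := hxr ⟨x ^ k, zpow_mem (mem_zpowers x) k⟩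
        refine ⟨j, ?_⟩
        apply Subtype.ext; apply Subtype.ext
        have := congrArg Subtype.val hj
        simpa using this
      · exact hxN
      · intro g
        rw [Subgroup.mem_subgroupOf]
        have := (hmem (g : G)).mp g.2
        simpa using this
    let f : C →* Subgroup.centralizer ({yb} : Set (G ⧸ N)) :=
      { toFun := fun c => ⟨(QuotientGroup.mk' N) c, c.2⟩
        map_one' := by apply Subtype.ext; simp
        map_mul' := fun a b => by apply Subtype.ext; simp }
    have hf : Function.Surjective f := by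
      intro ⟨gb, hgb⟩
      obtain ⟨g, rfl⟩ := QuotientGroup.mk'_surjective N gb
      exact ⟨⟨g, hgb⟩, rfl⟩
    exact Group.nilpotent_of_surjective f hf
  · -- coprime case: centralizers lift
    have hnil := hCN x hx1
    let f : Subgroup.centralizer ({x} : Set G) →* Subgroup.centralizer ({yb} : Set (G ⧸ N)) :=
      { toFun := fun c => ⟨(QuotientGroup.mk' N) c, by
          rw [hmem]
          have h1 := (Subgroup.mem_centralizer_iff.mp c.2) x rfl
          have : (c : G) * x * (c : G)⁻¹ * x⁻¹ = 1 := by
            rw [← h1]; group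
          rw [this]; exact N.one_mem⟩
        map_one' := by apply Subtype.ext; simp
        map_mul' := fun a b => by apply Subtype.ext; simp }
    have hf : Function.Surjective f := by
      intro ⟨gb, hgb⟩
      obtain ⟨g, rfl⟩ := QuotientGroup.mk'_surjective N gb
      have hcop : (Nat.card (zpowers x)).Coprime (Nat.card N) := by
        obtain ⟨a, ha⟩ := (IsPGroup.iff_card).mp hxr
        obtain ⟨c, hc⟩ := (IsPGroup.iff_card).mp hNp
        rw [ha, hc]
        exact Nat.Coprime.pow _ _ ((Nat.coprime_primes hrp (Fact.out : p.Prime)).mpr hrp')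
      have hnorm : zpowers x ≤ Subgroup.normalizer (N : Set G) := by
        rw [Subgroup.normalizer_eq_top]; exact le_top
      have hfix : ∀ a ∈ zpowers x, a * g * a⁻¹ * g⁻¹ ∈ N := by
        intro a ha
        obtain ⟨k, rfl⟩ := mem_zpowers_iff.mp ha
        rw [← QuotientGroup.eq_one_iff, ← QuotientGroup.mk'_apply, map_mul, map_mul, map_mul,
          map_inv, map_inv, map_zpow, hxy]
        have h1 := (Subgroup.mem_centralizer_iff.mp hgb) yb rfl
        have h2 : Commute yb ((QuotientGroup.mk' N) g) := h1
        have h3 : Commute (yb ^ k) ((QuotientGroup.mk' N) g) := h2.zpow_left k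
        rw [h3.eq]; group
      obtain ⟨c, hcA, hcN⟩ := Cfsg.Agent.Lead.coprime_invariant_coset_fixed (zpowers x) N hnorm
        hcop (Or.inl inferInstance) g hfix
      have hcx : c ∈ Subgroup.centralizer ({x} : Set G) := by
        rw [Subgroup.mem_centralizer_iff]
        intro w hw
        rw [Set.mem_singleton_iff] at hw
        subst hw
        exact (Subgroup.mem_centralizer_iff.mp hcA) w (mem_zpowers w)
      refine ⟨⟨c, hcx⟩, ?_⟩
      apply Subtype.ext
      show (QuotientGroup.mk' N) c = (QuotientGroup.mk' N) g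
      rw [QuotientGroup.mk'_apply, QuotientGroup.mk'_apply, QuotientGroup.eq]
      have h5 : c⁻¹ * g = c⁻¹ * (c * g⁻¹)⁻¹ * c⁻¹⁻¹ := by group
      rw [h5]
      exact hNn.conj_mem _ (N.inv_mem hcN) c⁻¹
    exact Group.nilpotent_of_surjective f hf

/-- Quotients of finite CN-groups by solvable normal subgroups are CN-groups. -/
theorem isCNGroup_quotient_solvable_aux.{u} : ∀ n : ℕ, ∀ (G : Type u) [Group G] [Finite G],
    Cfsg.IsCNGroup G → ∀ (H : Subgroup G) [H.Normal], Group.IsSolvable H → Nat.card H = n →
    Cfsg.IsCNGroup (G ⧸ H) := by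
  intro n
  induction n using Nat.strong_induction_on with
  | _ n ih =>
    intro G _ _ hCN H hHn hHs hcard
    by_cases hH1 : H = ⊥
    · subst hH1
      exact isCNGroup_of_mulEquiv (QuotientGroup.quotientBot (G := G)).symm hCN
    -- a minimal nontrivial normal subgroup of G inside H
    let S : Set (Subgroup G) := {M | M.Normal ∧ M ≠ ⊥ ∧ M ≤ H}
    have hS : S.Nonempty := ⟨H, hHn, hH1, le_rfl⟩
    obtain ⟨N, ⟨hNn, hN1, hNH⟩, hNmin⟩ := wellFounded_lt.has_min S hS
    have hNs : Group.IsSolvable N :=
      Group.isSolvable_of_isSolvable_injective (f := Subgroup.inclusion hNH)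
        (Subgroup.inclusion_injective hNH)
    have hmin : ∀ M : Subgroup G, M.Normal → M ≤ N → M = ⊥ ∨ M = N := by
      intro M hMn hMN
      by_cases hM1 : M = ⊥
      · exact Or.inl hM1
      · right
        by_contra hne
        exact hNmin M ⟨hMn, hM1, hMN.trans hNH⟩ (lt_of_le_of_ne hMN hne)
    obtain ⟨-, p, hp, hpow⟩ := Cfsg.Agent.Helper1.minNormal_elementary N hN1 hNs hmin
    have : Fact p.Prime := ⟨hp⟩
    have hNp : IsPGroup p N := by
      intro ⟨a, ha⟩
      refine ⟨1, ?_⟩
      apply Subtype.ext
      simpa using hpow a ha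
    have hCN1 := isCNGroup_quotient_pGroup hCN p N hNp hN1
    -- the image of H in G ⧸ N
    set H₁ : Subgroup (G ⧸ N) := H.map (QuotientGroup.mk' N) with hH₁
    have hH₁n : H₁.Normal :=
      Subgroup.Normal.map hHn (QuotientGroup.mk' N) (QuotientGroup.mk'_surjective N)
    have hH₁s : Group.IsSolvable H₁ := by
      have hsurj : Function.Surjective ((QuotientGroup.mk' N).subgroupMap H) :=
        (QuotientGroup.mk' N).subgroupMap_surjective H
      exact Group.isSolvable_of_surjective hsurj
    have hcomap : H₁.comap (QuotientGroup.mk' N) = H := by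
      rw [hH₁, Subgroup.comap_map_eq, QuotientGroup.ker_mk', sup_eq_left.mpr hNH]
    have hcard1 : Nat.card H = Nat.card N * Nat.card H₁ := by
      rw [← card_comap_mk' N H₁, hcomap]
    have hNcard : 1 < Nat.card N := by
      rw [Subgroup.one_lt_card_iff_ne_bot]; exact hN1
    have hlt : Nat.card H₁ < n := by
      rw [← hcard, hcard1]
      have hpos : 0 < Nat.card H₁ := Nat.card_pos
      nlinarith
    have key := ih (Nat.card H₁) hlt (G ⧸ N) hCN1 H₁ hH₁s rfl
    exact isCNGroup_of_mulEquiv (QuotientGroup.quotientQuotientEquivQuotient N H hNH) key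

theorem isCNGroup_quotient_solvable {G : Type*} [Group G] [Finite G] (hCN : Cfsg.IsCNGroup G)
    (H : Subgroup G) [H.Normal] (hH : Group.IsSolvable H) : Cfsg.IsCNGroup (G ⧸ H) :=
  isCNGroup_quotient_solvable_aux (Nat.card H) G hCN H hH rfl

end Cfsg.Agent.Helper23
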