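import Mathlib

set_option autoImplicit false

namespace Cfsg.Agent.Helper23

open Subgroup
open scoped IsMulCommutative

/-- **Frobenius group acting on an abelian group.** Let `V` be an abelian normal subgroup of the finite
group `G`, and `N`, `Y` subgroups with `Y` normalizing `N` and acting fixed-point-freely on it (so
`N Y` is a Frobenius group with kernel `N`), `|N|` prime to `|V|`. If `C_V(N) = 1` and `C_V(Y) = 1`
then `V = 1`. -/
theorem frobenius_action {G : Type*} [Group G] [Finite G] (V : Subgroup G) [hVn : V.Normal]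
    [IsMulCommutative V] (N Y : Subgroup G)
    (hYN : ∀ a ∈ Y, ∀ n ∈ N, a * n * a⁻¹ ∈ N)
    (hfpf : ∀ a ∈ Y, a ≠ 1 → ∀ n ∈ N, a * n = n * a → n = 1)
    (hVN : ∀ v ∈ V, (∀ n ∈ N, n * v = v * n) → v = 1)
    (hVY : ∀ v ∈ V, (∀ a ∈ Y, a * v = v * a) → v = 1)
    (hcop : (Nat.card N).Coprime (Nat.card V)) : V = ⊥ := by
  classical
  have : Fintype N := Fintype.ofFinite N
  have : Fintype Y := Fintype.ofFinite Y
  rw [eq_bot_iff]
  intro v₀ hv₀
  set v : V := ⟨v₀, hv₀⟩ with hv
  let c : G →* MulAut V := MulAut.conjNormal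
  have hc : ∀ (g : G) (u : V), ((c g u : V) : G) = g * u * g⁻¹ :=
    fun g u => MulAut.conjNormal_apply g u
  -- a fixed vector is trivial
  have hcomm : ∀ (m : G) (w : V), c m w = w → m * (w : G) = (w : G) * m := by
    intro m w h1
    have h2 := congrArg Subtype.val h1
    rw [hc] at h2
    calc m * (w : G) = (m * w * m⁻¹) * m := by group
      _ = w * m := by rw [h2]
  have hTN : ∀ u : V, ∏ n : N, c (n : G) u = 1 := by
    intro u
    have hfix : ∀ m ∈ N, m * ((∏ n : N, c (n : G) u : V) : G) =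
        ((∏ n : N, c (n : G) u : V) : G) * m := by
      intro m hm
      apply hcomm
      rw [map_prod]
      refine Fintype.prod_equiv (Equiv.mulLeft (⟨m, hm⟩ : N)) _ _ (fun n => ?_)
      simp only [Equiv.coe_mulLeft, Subgroup.coe_mul, map_mul, MulAut.mul_apply]
    exact Subtype.ext (hVN _ (SetLike.coe_mem _) hfix)
  have hTY : ∀ u : V, ∏ a : Y, c (a : G) u = 1 := by
    intro u
    have hfix : ∀ m ∈ Y, m * ((∏ a : Y, c (a : G) u : V) : G) =
        ((∏ a : Y, c (a : G) u : V) : G) * m := by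
      intro m hm
      apply hcomm
      rw [map_prod]
      refine Fintype.prod_equiv (Equiv.mulLeft (⟨m, hm⟩ : Y)) _ _ (fun n => ?_)
      simp only [Equiv.coe_mulLeft, Subgroup.coe_mul, map_mul, MulAut.mul_apply]
    exact Subtype.ext (hVY _ (SetLike.coe_mem _) hfix)
  have hD1 : ∏ n : N, ∏ a : Y, c ((n : G) * a * (n : G)⁻¹) v = 1 := by
    apply Finset.prod_eq_one
    intro n _
    have h1 : ∀ a : Y, c ((n : G) * a * (n : G)⁻¹) v = c (n : G) (c (a : G) (c ((n : G)⁻¹) v)) := by
      intro a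
      rw [map_mul, map_mul]; rfl
    simp_rw [h1]
    rw [← map_prod, hTY, map_one]
  have hD2 : ∏ a : Y, ∏ n : N, c ((n : G) * a * (n : G)⁻¹) v = v ^ Nat.card N := by
    rw [Fintype.prod_eq_single (1 : Y)]
    · have h1 : ∀ n : N, c ((n : G) * ((1 : Y) : G) * (n : G)⁻¹) v = v := by
        intro n
        rw [Subgroup.coe_one, mul_one, mul_inv_cancel, map_one]; rfl
      simp_rw [h1]
      rw [Finset.prod_const, Finset.card_univ, Nat.card_eq_fintype_card]
    · intro a ha
      have ha1 : (a : G) ≠ 1 := fun h => ha (Subtype.ext h)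
      have hmem : ∀ n : N, (n : G) * a * (n : G)⁻¹ * (a : G)⁻¹ ∈ N := by
        intro n
        have h1 := hYN a a.2 (n : G)⁻¹ (N.inv_mem n.2)
        have e : (n : G) * a * (n : G)⁻¹ * (a : G)⁻¹ = n * ((a : G) * (n : G)⁻¹ * (a : G)⁻¹) := by
          group
        rw [e]; exact N.mul_mem n.2 h1
      let φ : N → N := fun n => ⟨(n : G) * a * (n : G)⁻¹ * (a : G)⁻¹, hmem n⟩
      have hφinj : Function.Injective φ := by
        intro n m hnm
        have h1 : (n : G) * a * (n : G)⁻¹ * (a : G)⁻¹ = (m : G) * a * (m : G)⁻¹ * (a : G)⁻¹ :=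
          congrArg Subtype.val hnm
        have h2 : (a : G) * ((m : G)⁻¹ * n) = ((m : G)⁻¹ * n) * a := by
          have h3 : (n : G) * a * (n : G)⁻¹ = (m : G) * a * (m : G)⁻¹ := mul_right_cancel h1
          calc (a : G) * ((m : G)⁻¹ * n) = (m : G)⁻¹ * ((m : G) * a * (m : G)⁻¹) * n := by group
            _ = (m : G)⁻¹ * ((n : G) * a * (n : G)⁻¹) * n := by rw [h3]
            _ = ((m : G)⁻¹ * n) * a := by group
        have h4 := hfpf a a.2 ha1 _ (N.mul_mem (N.inv_mem m.2) n.2) h2
        apply Subtype.ext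
        have : (n : G) = m * ((m : G)⁻¹ * n) := by group
        rw [this, h4, mul_one]
      have hφ : Function.Bijective φ := Finite.injective_iff_bijective.mp hφinj
      have h5 : ∀ n : N, c ((n : G) * a * (n : G)⁻¹) v = c ((φ n : N) : G) (c (a : G) v) := by
        intro n
        show _ = c ((n : G) * a * (n : G)⁻¹ * (a : G)⁻¹) (c (a : G) v)
        rw [← MulAut.mul_apply, ← map_mul]
        congr 2
        group
      rw [Fintype.prod_bijective φ hφ _ (fun m : N => c (m : G) (c (a : G) v)) h5]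
      exact hTN _
  rw [Finset.prod_comm, hD2] at hD1
  have h1 : orderOf v ∣ Nat.card N := orderOf_dvd_of_pow_eq_one hD1
  have h2 : orderOf v ∣ Nat.card V := orderOf_dvd_natCard v
  have h3 : orderOf v = 1 := Nat.eq_one_of_dvd_coprimes hcop h1 h2
  rw [orderOf_eq_one_iff] at h3
  rw [mem_bot]
  have := congrArg Subtype.val h3
  exact this

end Cfsg.Agent.Helper23
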