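import Mathlib
import Cfsg.Agent.Helper23.PSeries

set_option autoImplicit false

namespace Cfsg.Agent.Helper23

open Subgroup

/-- A finite group in which every Sylow subgroup has a normal complement is nilpotent. -/
theorem isNilpotent_of_forall_normal_complement {E : Type*} [Group E] [Finite E]
    (h : ∀ (r : ℕ) [Fact r.Prime] (R : Sylow r E),
      ∃ N : Subgroup E, N.Normal ∧ N.IsComplement' (R : Subgroup E)) : Group.IsNilpotent E := by
  classical
  apply (Group.isNilpotent_of_finite_tfae (G := E)).out 0 3 |>.mpr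
  intro s hs S
  -- choose a normal complement for every prime
  have hex : ∀ r : {r : ℕ // r.Prime}, ∃ N : Subgroup E, N.Normal ∧
      (Nat.card N).Coprime r.1 ∧ ∃ k : ℕ, N.index = r.1 ^ k := by
    intro r
    have : Fact r.1.Prime := ⟨r.2⟩
    obtain ⟨R⟩ : Nonempty (Sylow r.1 E) := inferInstance
    obtain ⟨N, hNn, hNc⟩ := h r.1 R
    refine ⟨N, hNn, ?_, ?_⟩
    · have h1 : Nat.card N = (R : Subgroup E).index := by
        have h2 := hNc.card_mul_card
        have h3 := (R : Subgroup E).card_mul_index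
        have hpos : 0 < Nat.card (R : Subgroup E) := Nat.card_pos
        apply Nat.eq_of_mul_eq_mul_left hpos
        rw [h3, mul_comm, h2]
      rw [h1, Nat.coprime_comm, Nat.Prime.coprime_iff_not_dvd r.2]
      exact R.not_dvd_index
    · rw [hNc.symm.index_eq_card]
      exact IsPGroup.iff_card.mp R.isPGroup'
  choose N hNn hNcop hNidx using hex
  set T : Subgroup E := ⨅ r : {r : {r : ℕ // r.Prime} // r.1 ≠ s}, N r.1 with hT
  have hTn : T.Normal := Subgroup.normal_iInf_normal (fun r => hNn r.1)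
  have hST : (S : Subgroup E) ≤ T := by
    rw [hT]
    apply le_iInf
    intro r
    have := hNn r.1
    apply le_of_isPGroup_of_index_coprime (p := s) (N r.1) _ _ S.isPGroup'
    obtain ⟨k, hk⟩ := hNidx r.1
    rw [hk]
    exact Nat.Coprime.pow_left k ((Nat.coprime_primes r.1.2 hs.out).mpr r.2)
  have hTs : IsPGroup s T := by
    rw [IsPGroup.iff_card]
    refine ⟨_, Nat.eq_prime_pow_of_unique_prime_dvd Nat.card_pos.ne' ?_⟩
    intro d hd hdT
    by_contra hds
    have hle : T ≤ N ⟨d, hd⟩ := iInf_le_of_le ⟨⟨d, hd⟩, hds⟩ le_rfl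
    have h1 : d ∣ Nat.card (N ⟨d, hd⟩) := hdT.trans (Subgroup.card_dvd_of_le hle)
    have h2 := hNcop ⟨d, hd⟩
    rw [Nat.coprime_comm, Nat.Prime.coprime_iff_not_dvd hd] at h2
    exact h2 h1
  have hTS : T = (S : Subgroup E) := S.is_maximal' hTs hST
  rw [← hTS]
  exact hTn

end Cfsg.Agent.Helper23
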