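import Mathlib
import Cfsg.Agent.Helper9.NilpotentHall
import Cfsg.Agent.Helper18.FocalFusion

set_option autoImplicit false

namespace Cfsg.Agent.Helper23

open Subgroup

section

variable {K : Type*} [Group K] [Finite K] [Group.IsNilpotent K]

/-- In a finite nilpotent group a `p`-element commutes with every element of order prime to `p`. -/
theorem commute_of_isNilpotent_of_coprime {p : ℕ} [Fact p.Prime] (a b : K)
    (ha : IsPGroup p (zpowers a)) (hb : (orderOf b).Coprime p) : Commute a b := by
  obtain ⟨P, hP⟩ := ha.exists_le_sylow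
  have hPn : (P : Subgroup K).Normal := inferInstance
  have hb' : b ∈ normalizer ((P : Subgroup K) : Set K) := by
    rw [normalizer_eq_top]; trivial
  have hcop : (orderOf b).Coprime (Nat.card (P : Subgroup K)) := by
    obtain ⟨k, hk⟩ := IsPGroup.iff_card.mp P.isPGroup'
    rw [hk]; exact Nat.Coprime.pow_right k hb
  have h1 := Cfsg.Agent.Helper9.mem_centralizer_of_nilpotent_of_coprime (P : Subgroup K) b hb' hcop
  exact (mem_centralizer_iff.mp h1) a (hP (mem_zpowers a))

/-- In a finite nilpotent group every `q`-element lies in every Sylow `q`-subgroup. -/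
theorem mem_sylow_of_isNilpotent {q : ℕ} [Fact q.Prime] (Q : Sylow q K) (a : K)
    (ha : IsPGroup q (zpowers a)) : a ∈ Q := by
  obtain ⟨Q', hQ'⟩ := ha.exists_le_sylow
  obtain ⟨g, hg⟩ := MulAction.exists_smul_eq K Q Q'
  have hQn : (Q : Subgroup K).Normal := inferInstance
  rw [Sylow.smul_eq_of_normal] at hg
  rw [hg]; exact hQ' (mem_zpowers a)

/-- In a finite nilpotent group the centre of a Sylow subgroup is central. -/
theorem mem_center_of_mem_center_sylow {q : ℕ} [Fact q.Prime] (Q : Sylow q K) (t : K) (ht : t ∈ Q)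
    (hc : ∀ u ∈ Q, u * t = t * u) : t ∈ center K := by
  rw [Subgroup.mem_center_iff]
  intro h
  obtain ⟨x, y, hxy, -, -, ⟨k, hk⟩, hy⟩ := Cfsg.Agent.Helper18.exists_pPart_decomp q h
  have hx : IsPGroup q (zpowers x) := IsPGroup.of_card (n := k) (by rw [Nat.card_zpowers, hk])
  have hxQ : x ∈ Q := mem_sylow_of_isNilpotent Q x hx
  have h1 : x * t = t * x := hc x hxQ
  have htq : IsPGroup q (zpowers t) := Q.isPGroup'.to_le (zpowers_le.mpr ht)
  have h2 : t * y = y * t := (commute_of_isNilpotent_of_coprime t y htq hy).eq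
  rw [hxy, mul_assoc, ← h2, ← mul_assoc, h1, mul_assoc]

/-- A finite nilpotent group of order divisible by `p` has a central element of order `p`. -/
theorem exists_mem_center_orderOf_eq {p : ℕ} [hp : Fact p.Prime] (hdvd : p ∣ Nat.card K) :
    ∃ t ∈ center K, orderOf t = p := by
  obtain ⟨Q⟩ : Nonempty (Sylow p K) := inferInstance
  have hQne : (Q : Subgroup K) ≠ ⊥ := Q.ne_bot_of_dvd_card hdvd
  have hnt : Nontrivial (Q : Subgroup K) := (Subgroup.nontrivial_iff_ne_bot _).mpr hQne
  have hcnt : Nontrivial (center (Q : Subgroup K)) := IsPGroup.center_nontrivial Q.isPGroup'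
  have hcp : IsPGroup p (center (Q : Subgroup K)) := Q.isPGroup'.to_subgroup _
  have hd : p ∣ Nat.card (center (Q : Subgroup K)) := by
    rcases hcp.card_eq_or_dvd with h | h
    · exfalso
      have := (Nat.card_eq_one_iff_unique.mp h).1
      exact not_subsingleton _ this
    · exact h
  obtain ⟨z, hz⟩ := exists_prime_orderOf_dvd_card' p hd
  refine ⟨((z : (Q : Subgroup K)) : K), mem_center_of_mem_center_sylow Q _ (z : (Q : Subgroup K)).2 ?_,
    ?_⟩
  · intro u hu
    have := (Subgroup.mem_center_iff.mp z.2) ⟨u, hu⟩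
    exact congrArg Subtype.val this
  · have h1 : orderOf ((z : (Q : Subgroup K)) : K) = orderOf z := by
      rw [Subgroup.orderOf_coe, Subgroup.orderOf_coe]
    rw [h1, hz]
end

end Cfsg.Agent.Helper23
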