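import Mathlib
import Cfsg.Agent.Helper23.CNGroup
import Cfsg.Agent.Helper23.NilpotentElts
import Cfsg.Agent.Helper23.NilpotentCrit
import Cfsg.Agent.Helper23.FrobeniusAction
import Cfsg.Agent.Helper23.FittingHall
import Cfsg.Agent.Helper23.PGroup
import Cfsg.Agent.Helper23.PLengthOne
import Cfsg.Agent.Helper7.Fitting
import Cfsg.Agent.Lead.Coprime3
import Cfsg.Agent.S0071
import Cfsg.Agent.S1477

set_option autoImplicit false

namespace Cfsg.Agent.Helper23

open Subgroup

section CNFrob

variable {G : Type*} [Group G] [Finite G]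

/-- In a CN-group, an `r`-element commuting with a nontrivial element of a nilpotent `r'`-subgroup
`N` centralizes `N`. -/
theorem cn_centralizes (hCN : Cfsg.IsCNGroup G) (N : Subgroup G) (hN : Group.IsNilpotent N)
    (r : ℕ) [Fact r.Prime] (a : G) (k : ℕ) (hak : orderOf a = r ^ k)
    (hcop : (Nat.card N).Coprime r) (n : G) (hn : n ∈ N) (hn1 : n ≠ 1) (hcomm : a * n = n * a) :
    ∀ m ∈ N, a * m = m * a := by
  have hcopm : ∀ m ∈ N, (orderOf m).Coprime r := by
    intro m hm
    apply Nat.Coprime.coprime_dvd_left _ hcop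
    have := orderOf_dvd_natCard (⟨m, hm⟩ : N)
    rwa [Subgroup.orderOf_mk] at this
  have hcard : Nat.card N ≠ 1 := by
    intro h1
    have := (Subgroup.card_eq_one.mp h1)
    rw [this] at hn
    exact hn1 (Subgroup.mem_bot.mp hn)
  obtain ⟨p, hp, hpN⟩ := Nat.exists_prime_and_dvd hcard
  have : Fact p.Prime := ⟨hp⟩
  obtain ⟨t, htN, hto, htc⟩ := Cfsg.Agent.S1477.exists_central N hN p hpN
  have ht1 : t ≠ 1 := by
    intro h1
    rw [h1, orderOf_one] at hto
    exact hp.one_lt.ne hto
  -- `a` commutes with `t`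
  have hat : a * t = t * a := by
    apply Cfsg.Agent.S1477.commute_in (centralizer ({n} : Set G)) (hCN n hn1) r a t _ _ k hak
      (hcopm t htN)
    · rw [mem_centralizer_iff]
      intro y hy
      rw [Set.mem_singleton_iff] at hy
      subst hy
      exact hcomm.symm
    · rw [mem_centralizer_iff]
      intro y hy
      rw [Set.mem_singleton_iff] at hy
      subst hy
      exact htc y hn
  intro m hm
  apply Cfsg.Agent.S1477.commute_in (centralizer ({t} : Set G)) (hCN t ht1) r a m _ _ k hak
    (hcopm m hm)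
  · rw [mem_centralizer_iff]
    intro y hy
    rw [Set.mem_singleton_iff] at hy
    subst hy
    exact hat.symm
  · rw [mem_centralizer_iff]
    intro y hy
    rw [Set.mem_singleton_iff] at hy
    subst hy
    exact (htc m hm).symm

/-- A normal Sylow subgroup lies in the largest normal nilpotent Hall subgroup. -/
theorem sylow_le_fittingHall {r : ℕ} [Fact r.Prime] (S : Sylow r G)
    (hS : (S : Subgroup G).Normal) : (S : Subgroup G) ≤ Cfsg.fittingHall G := by
  apply le_fittingHall _ hS S.isPGroup'.isNilpotent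
  obtain ⟨k, hk⟩ := IsPGroup.iff_card.mp S.isPGroup'
  rw [hk]
  apply Nat.Coprime.pow_left
  rw [Nat.Prime.coprime_iff_not_dvd Fact.out]
  exact S.not_dvd_index

/-- A Sylow subgroup of `G` contained in a normal nilpotent subgroup is normal in `G`. -/
theorem sylow_normal_of_le_nilpotent_normal {r : ℕ} [Fact r.Prime] (S : Sylow r G)
    (C : Subgroup G) [hCn : C.Normal] (hC : Group.IsNilpotent C) (hSC : (S : Subgroup G) ≤ C) :
    (S : Subgroup G).Normal := by
  obtain ⟨Q⟩ : Nonempty (Sylow r C) := inferInstance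
  have hmem : ∀ c : G, c ∈ C → IsPGroup r (zpowers c) → c ∈ (Q : Subgroup C).map C.subtype := by
    intro c hc hcr
    refine ⟨⟨c, hc⟩, ?_, rfl⟩
    apply mem_sylow_of_isNilpotent Q
    obtain ⟨j, hj⟩ := (IsPGroup.iff_card.mp hcr)
    apply IsPGroup.of_card (n := j)
    rw [Nat.card_zpowers, Subgroup.orderOf_mk, ← Nat.card_zpowers, hj]
  have hR : IsPGroup r ((Q : Subgroup C).map C.subtype) := Q.isPGroup'.map _
  have hSR : (S : Subgroup G) ≤ (Q : Subgroup C).map C.subtype := by
    intro s hs
    exact hmem s (hSC hs) (S.isPGroup'.to_le (zpowers_le.mpr hs))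
  have hRS : (Q : Subgroup C).map C.subtype = (S : Subgroup G) := S.is_maximal' hR hSR
  constructor
  intro s hs g
  rw [← hRS]
  apply hmem
  · exact hCn.conj_mem s (hSC hs) g
  · have h1 : IsPGroup r (zpowers s) := S.isPGroup'.to_le (zpowers_le.mpr hs)
    obtain ⟨j, hj⟩ := (IsPGroup.iff_card.mp h1)
    apply IsPGroup.of_card (n := j)
    rw [Nat.card_zpowers] at hj ⊢
    rw [← hj]
    exact (MulAut.conj g).orderOf_eq s

theorem fittingHall_isNilpotent : Group.IsNilpotent (Cfsg.fittingHall G) := by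
  have hle : Cfsg.fittingHall G ≤ Cfsg.fittingSubgroup G := by
    apply sSup_le
    intro N hN
    exact le_sSup ⟨hN.1, hN.2.1⟩
  exact isNilpotent_of_le hle Cfsg.Agent.Helper7.fittingSubgroup_isNilpotent

/-- In a CN-group with `fittingHall G ≠ ⊥`, `C_G(H) ≤ H` for `H = fittingHall G`. -/
theorem centralizer_fittingHall_le (hCN : Cfsg.IsCNGroup G) (hH1 : Cfsg.fittingHall G ≠ ⊥) :
    centralizer (Cfsg.fittingHall G : Set G) ≤ Cfsg.fittingHall G := by
  set H := Cfsg.fittingHall G with hH
  have hHnil : Group.IsNilpotent H := fittingHall_isNilpotent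
  have hHcop : (Nat.card H).Coprime H.index := fittingHall_coprime G
  have hcard : Nat.card H ≠ 1 := fun h1 => hH1 (Subgroup.card_eq_one.mp h1)
  obtain ⟨p, hp, hpH⟩ := Nat.exists_prime_and_dvd hcard
  have : Fact p.Prime := ⟨hp⟩
  obtain ⟨z, hzH, hzo, hzc⟩ := Cfsg.Agent.S1477.exists_central H hHnil p hpH
  have hz1 : z ≠ 1 := by
    intro h1
    rw [h1, orderOf_one] at hzo
    exact hp.one_lt.ne hzo
  set C := centralizer (H : Set G) with hC
  have hCz : C ≤ centralizer ({z} : Set G) := by
    intro c hc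
    rw [mem_centralizer_iff]
    intro y hy
    rw [Set.mem_singleton_iff] at hy
    subst hy
    exact (mem_centralizer_iff.mp hc) y hzH
  have hCnil : Group.IsNilpotent C := isNilpotent_of_le hCz (hCN z hz1)
  have hCn : C.Normal := inferInstance
  intro x hxC
  by_contra hxH
  -- the image of `x` in `G ⧸ H` is nontrivial
  have hxb : (QuotientGroup.mk' H) x ≠ 1 := by
    intro h1
    apply hxH
    rwa [QuotientGroup.mk'_apply, QuotientGroup.eq_one_iff] at h1
  have hon : orderOf ((QuotientGroup.mk' H) x) ≠ 1 := fun h => hxb (orderOf_eq_one_iff.mp h)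
  obtain ⟨r, hr, hrn⟩ := Nat.exists_prime_and_dvd hon
  have : Fact r.Prime := ⟨hr⟩
  obtain ⟨m, hm⟩ := hrn
  have hmpos : 0 < m := by
    rcases Nat.eq_zero_or_pos m with h0 | h0
    · exfalso
      rw [h0, mul_zero] at hm
      exact (orderOf_pos ((QuotientGroup.mk' H) x)).ne' hm
    · exact h0
  have hor : orderOf ((QuotientGroup.mk' H) (x ^ m)) = r := by
    rw [map_pow]
    rw [orderOf_pow' _ hmpos.ne', hm, Nat.gcd_eq_right (Dvd.intro_left r rfl)]
    exact Nat.mul_div_cancel _ hmpos
  have hrI : r ∣ H.index := by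
    rw [Subgroup.index_eq_card, ← hor]
    exact orderOf_dvd_natCard _
  have hrH : (Nat.card H).Coprime r := by
    have := Nat.Coprime.coprime_dvd_right hrI hHcop
    exact this
  obtain ⟨x', hx'C, hx'eq, a, hx'a⟩ :=
    exists_pElement_lift_mem H r C (x ^ m) (C.pow_mem hxC m) hor
  have hx'H : x' ∉ H := by
    intro hmem
    have h1 : (QuotientGroup.mk' H) x' = 1 := by
      rw [QuotientGroup.mk'_apply, QuotientGroup.eq_one_iff]; exact hmem
    rw [hx'eq] at h1
    rw [h1, orderOf_one] at hor
    exact hr.one_lt.ne hor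
  have hx'1 : x' ≠ 1 := fun h => hx'H (h ▸ H.one_mem)
  have hx'r : IsPGroup r (zpowers x') :=
    Cfsg.Agent.S1477.isPGroup_zpowers_of_pow_eq_one x' a hx'a
  obtain ⟨S, hS⟩ := hx'r.exists_le_sylow
  have hx'S : x' ∈ (S : Subgroup G) := hS (mem_zpowers x')
  -- a nontrivial element of `C ∩ Z(S)`
  have hSr : IsPGroup r (S : Subgroup G) := S.isPGroup'
  have hne : C.subgroupOf (S : Subgroup G) ≠ ⊥ := by
    intro hbot
    have : (⟨x', hx'S⟩ : (S : Subgroup G)) ∈ C.subgroupOf (S : Subgroup G) := by
      rw [mem_subgroupOf]; exact hx'C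
    rw [hbot, mem_bot] at this
    exact hx'1 (congrArg Subtype.val this)
  obtain ⟨y, hyC, hyZ, hy1⟩ := exists_mem_inf_center_ne_one hSr (C.subgroupOf (S : Subgroup G)) hne
  have hy1' : (y : G) ≠ 1 := fun h => hy1 (Subtype.ext h)
  have hyC' : (y : G) ∈ C := mem_subgroupOf.mp hyC
  -- `S` and `H` lie in the nilpotent `C_G(y)`, so commute elementwise
  have hSC : (S : Subgroup G) ≤ C := by
    intro s hs
    rw [hC, mem_centralizer_iff]
    intro h hh
    obtain ⟨k, hk⟩ := (IsPGroup.iff_orderOf.mp hSr) ⟨s, hs⟩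
    rw [Subgroup.orderOf_mk] at hk
    symm
    apply Cfsg.Agent.S1477.commute_in (centralizer ({(y : G)} : Set G)) (hCN _ hy1') r s h _ _ k hk
    · apply Nat.Coprime.coprime_dvd_left _ hrH
      have := orderOf_dvd_natCard (⟨h, hh⟩ : H)
      rwa [Subgroup.orderOf_mk] at this
    · rw [mem_centralizer_iff]
      intro w hw
      rw [Set.mem_singleton_iff] at hw
      subst hw
      have := (Subgroup.mem_center_iff.mp hyZ) ⟨s, hs⟩
      exact (congrArg Subtype.val this).symm
    · rw [mem_centralizer_iff]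
      intro w hw
      rw [Set.mem_singleton_iff] at hw
      subst hw
      exact ((mem_centralizer_iff.mp hyC') h hh).symm
  have hSn : (S : Subgroup G).Normal := sylow_normal_of_le_nilpotent_normal S C hCnil hSC
  exact hx'H (sylow_le_fittingHall S hSn hx'S)

omit [Finite G] in
theorem mem_centralizer_singleton {a b : G} : a ∈ centralizer ({b} : Set G) ↔ b * a = a * b := by
  rw [mem_centralizer_iff]
  constructor
  · intro h; exact h b rfl
  · intro h y hy
    rw [Set.mem_singleton_iff] at hy
    subst hy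
    exact h

/-- In a CN-group, a subgroup `E` acting fixed-point-freely (by conjugation) on a nontrivial abelian
normal subgroup `V` of coprime order is nilpotent. -/
theorem isNilpotent_of_fpf (hCN : Cfsg.IsCNGroup G) (V : Subgroup G) [hVn : V.Normal]
    [IsMulCommutative V] (hV : V ≠ ⊥) (E : Subgroup G)
    (hcop : (Nat.card E).Coprime (Nat.card V))
    (hfpf : ∀ e ∈ E, e ≠ 1 → ∀ v ∈ V, e * v = v * e → v = 1) : Group.IsNilpotent E := by
  apply isNilpotent_of_forall_normal_complement
  intro r _ R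
  rw [Cfsg.Agent.S0071.result R]
  intro Q hQR g hg hgcop
  by_contra hgC
  have hr : r.Prime := Fact.out
  set QG : Subgroup G := Q.map E.subtype with hQG
  set Y : Subgroup G := zpowers (g : G) with hY
  have hQE : QG ≤ E := Subgroup.map_subtype_le _
  have hYE : Y ≤ E := zpowers_le.mpr g.2
  have hQr : IsPGroup r QG := (R.isPGroup'.to_le hQR).map _
  have hgn : (g : G) ∈ normalizer (QG : Set G) := by
    apply Subgroup.le_normalizer_map E.subtype
    exact ⟨g, hg, rfl⟩
  have hYQ : Y ≤ normalizer (QG : Set G) := zpowers_le.mpr hgn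
  have hog : orderOf (g : G) = orderOf g := Subgroup.orderOf_coe g
  have hYcard : Nat.card Y = orderOf g := by rw [hY, Nat.card_zpowers, hog]
  obtain ⟨kQ, hkQ⟩ := IsPGroup.iff_card.mp hQr
  have hYQcop : (Nat.card Y).Coprime (Nat.card QG) := by
    rw [hYcard, hkQ]; exact Nat.Coprime.pow_right kQ hgcop
  have hYsolv : Group.IsSolvable Y := by
    have : IsMulCommutative Y := by rw [hY]; infer_instance
    infer_instance
  set N : Subgroup G := ⁅QG, Y⁆ with hN
  have hNQ : N ≤ QG := Cfsg.Agent.Lead.commutator_le_of_le_normalizer hYQ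
  have hNr : IsPGroup r N := hQr.to_le hNQ
  have hNE : N ≤ E := hNQ.trans hQE
  have hNY : ⁅N, Y⁆ = N :=
    Cfsg.Agent.Lead.coprime_commutator_commutator Y QG hYQ hYQcop (Or.inl hYsolv)
  have hYN : Y ≤ normalizer (N : Set G) := Cfsg.Agent.Lead.le_normalizer_commutator_right QG Y
  have hN1 : N ≠ ⊥ := by
    intro hbot
    rw [hN, Subgroup.commutator_eq_bot_iff_le_centralizer] at hbot
    apply hgC
    rw [mem_centralizer_iff]
    intro q hq
    have h1 : (q : G) ∈ QG := ⟨q, hq, rfl⟩
    have h2 := (mem_centralizer_iff.mp (hbot h1)) (g : G) (mem_zpowers _)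
    apply Subtype.ext
    simp only [Subgroup.coe_mul]
    exact h2.symm
  have hg1 : (g : G) ≠ 1 := by
    intro h1
    apply hgC
    have : g = 1 := Subtype.ext h1
    rw [this]
    exact Subgroup.one_mem _
  obtain ⟨kN, hkN⟩ := IsPGroup.iff_card.mp hNr
  -- `Y` acts fixed-point-freely on `N`
  have hfpfN : ∀ a ∈ Y, a ≠ 1 → ∀ n ∈ N, a * n = n * a → n = 1 := by
    intro a haY ha1 n hnN han
    by_contra hn1
    have hoa : orderOf a ≠ 1 := fun h => ha1 (orderOf_eq_one_iff.mp h)
    obtain ⟨s, hs, hsa⟩ := Nat.exists_prime_and_dvd hoa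
    have : Fact s.Prime := ⟨hs⟩
    obtain ⟨m, hm⟩ := hsa
    have hmpos : 0 < m := by
      rcases Nat.eq_zero_or_pos m with h0 | h0
      · exfalso
        rw [h0, mul_zero] at hm
        exact (orderOf_pos a).ne' hm
      · exact h0
    have hoa' : orderOf (a ^ m) = s ^ 1 := by
      rw [pow_one, orderOf_pow' _ hmpos.ne', hm, Nat.gcd_eq_right (Dvd.intro_left s rfl)]
      exact Nat.mul_div_cancel _ hmpos
    have ha'1 : a ^ m ≠ 1 := by
      intro h1
      rw [h1, orderOf_one, pow_one] at hoa'
      exact hs.one_lt.ne hoa'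
    have ha'Y : a ^ m ∈ Y := Y.pow_mem haY m
    have hsY : s ∣ Nat.card Y := by
      have h1 : orderOf a ∣ Nat.card Y := by
        have := orderOf_dvd_natCard (⟨a, haY⟩ : Y)
        rwa [Subgroup.orderOf_mk] at this
      exact (Dvd.intro _ hm.symm).trans h1
    have hsr : (Nat.card N).Coprime s := by
      rw [hkN]
      apply Nat.Coprime.pow_left
      rw [hYcard] at hsY
      exact Nat.Coprime.symm (Nat.Coprime.coprime_dvd_left hsY hgcop)
    have ha'n : a ^ m * n = n * a ^ m := (Commute.pow_left (show Commute a n from han) m).eq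
    have hcent := cn_centralizes hCN N hNr.isNilpotent s (a ^ m) 1 hoa' hsr n hnN hn1 ha'n
    -- now `g` and `N` lie in the nilpotent `C_G(a^m)`
    have hga : (g : G) ∈ centralizer ({a ^ m} : Set G) := by
      rw [mem_centralizer_singleton]
      obtain ⟨i, hi⟩ := mem_zpowers_iff.mp ha'Y
      rw [← hi]
      exact ((Commute.refl (g : G)).zpow_left i).eq
    apply hN1
    rw [← hNY, Subgroup.commutator_eq_bot_iff_le_centralizer]
    intro u hu
    rw [mem_centralizer_iff]
    intro b hb
    obtain ⟨i, hi⟩ := mem_zpowers_iff.mp hb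
    have hug : u * (g : G) = (g : G) * u := by
      obtain ⟨k, hk⟩ := (IsPGroup.iff_orderOf.mp hNr) ⟨u, hu⟩
      rw [Subgroup.orderOf_mk] at hk
      apply Cfsg.Agent.S1477.commute_in (centralizer ({a ^ m} : Set G)) (hCN _ ha'1) r u (g : G)
        _ hga k hk (by rw [hog]; exact hgcop)
      rw [mem_centralizer_singleton]
      exact hcent u hu
    rw [← hi]
    exact ((show Commute (g : G) u from hug.symm).zpow_left i).eq
  -- apply the Frobenius action lemma
  have hVbot : V = ⊥ := by
    apply frobenius_action V N Y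
    · intro a ha n hn
      exact (mem_normalizer_iff.mp (hYN ha) n).mp hn
    · exact hfpfN
    · intro v hv hcomm
      obtain ⟨⟨n₀, hn₀⟩, hn₀1⟩ := (Subgroup.ne_bot_iff_exists_ne_one.mp hN1)
      have hn₀1' : n₀ ≠ 1 := fun h => hn₀1 (Subtype.ext h)
      exact hfpf n₀ (hNE hn₀) hn₀1' v hv (hcomm n₀ hn₀)
    · intro v hv hcomm
      exact hfpf (g : G) g.2 hg1 v hv (hcomm _ (mem_zpowers _))
    · exact Nat.Coprime.coprime_dvd_left (Subgroup.card_dvd_of_le hNE) hcop
  exact hV hVbot

end CNFrob

end Cfsg.Agent.Helper23
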