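import Mathlib
import Cfsg.Prelude.Def_OddOrderLocal
import Cfsg.Agent.Helper23.FittingHall

set_option autoImplicit false

namespace Cfsg.Agent.Helper23

/-- `|M| = |A| |B|` when `A`, `B` are complements in `M`. -/
theorem card_of_isComplIn {G : Type*} [Group G] (A B M : Subgroup G)
    (h : Cfsg.IsComplIn A B M) : Nat.card M = Nat.card A * Nat.card B := by
  obtain ⟨hA, hB, hdisj, hprod⟩ := h
  rw [← Nat.card_prod]
  symm
  apply Nat.card_congr
  refine Equiv.ofBijective
    (fun ab : A × B => (⟨ab.1 * ab.2, mul_mem (hA ab.1.2) (hB ab.2.2)⟩ : M)) ⟨?_, ?_⟩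
  · rintro ⟨⟨a, ha⟩, ⟨b, hb⟩⟩ ⟨⟨a', ha'⟩, ⟨b', hb'⟩⟩ heq
    have heq' : a * b = a' * b' := congrArg Subtype.val heq
    have h1 : a'⁻¹ * a = b' * b⁻¹ := by
      have := congrArg (fun t => a'⁻¹ * t * b⁻¹) heq'
      beta_reduce at this
      rw [show a'⁻¹ * (a * b) * b⁻¹ = a'⁻¹ * a by group,
        show a'⁻¹ * (a' * b') * b⁻¹ = b' * b⁻¹ by group] at this
      exact this
    have h2 : a'⁻¹ * a ∈ A ⊓ B :=
      ⟨A.mul_mem (A.inv_mem ha') ha, by rw [h1]; exact B.mul_mem hb' (B.inv_mem hb)⟩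
    rw [hdisj, Subgroup.mem_bot] at h2
    have ha_eq : a = a' := by
      have := congrArg (fun t => a' * t) h2
      beta_reduce at this
      rw [mul_inv_cancel_left, mul_one] at this
      exact this
    have hb_eq : b = b' := by
      rw [h2] at h1
      have := congrArg (fun t => t * b) h1
      beta_reduce at this
      rw [one_mul, inv_mul_cancel_right] at this
      exact this
    subst ha_eq; subst hb_eq; rfl
  · rintro ⟨m, hm⟩
    obtain ⟨a, ha, b, hb, rfl⟩ := hprod m hm
    exact ⟨(⟨a, ha⟩, ⟨b, hb⟩), rfl⟩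

section TypeP

variable {G : Type*} [Group G] {M W₁ U W₂ : Subgroup G}

theorem typeP_U_le (hP : Cfsg.IsTypePWith M W₁ U W₂) : U ≤ M :=
  hP.U_compl.2.1.trans (Subgroup.commutator_le_self M)

variable [Finite G]

theorem typeP_card_U_coprime (hP : Cfsg.IsTypePWith M W₁ U W₂) :
    (Nat.card U).Coprime (Nat.card (Cfsg.fittingHallOf M)) :=
  card_coprime_of_isComplIn_fittingHallOf M U ⁅M, M⁆ (Subgroup.commutator_le_self M) hP.U_compl

/-- F(M) = H (U ∩ C(H)) for type-P data. -/
theorem typeP_fitting_eq (hP : Cfsg.IsTypePWith M W₁ U W₂) :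
    Cfsg.fittingOf M = Cfsg.fittingHallOf M ⊔
      (U ⊓ Subgroup.centralizer (Cfsg.fittingHallOf M : Set G)) := by
  rw [← hP.fitting_eq]
  obtain ⟨hHM', hUM', hdisj, hprod⟩ := hP.U_compl
  apply le_antisymm
  · apply sup_le le_sup_left
    intro c hc
    have hcF : c ∈ Cfsg.fittingOf M := by
      rw [← hP.fitting_eq]; exact Subgroup.mem_sup_right hc
    have hcM' := hP.fitting_le hcF
    obtain ⟨h, hh, u, hu, rfl⟩ := hprod c hcM'
    have hcop : (orderOf u).Coprime (Nat.card (Cfsg.fittingHallOf M)) :=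
      Nat.Coprime.coprime_dvd_left (Subgroup.orderOf_dvd_natCard U hu) (typeP_card_U_coprime hP)
    have huc := mem_centralizer_of_mul_mem_centralizer (Cfsg.fittingHallOf M) hh hcop hc.2
    exact Subgroup.mul_mem _ (Subgroup.mem_sup_left hh) (Subgroup.mem_sup_right ⟨hu, huc⟩)
  · exact sup_le_sup_left (inf_le_inf_right _ (typeP_U_le hP)) _

/-- U' centralizes H. -/
theorem typeP_commutator_U_le (hP : Cfsg.IsTypePWith M W₁ U W₂) :
    ⁅U, U⁆ ≤ Subgroup.centralizer (Cfsg.fittingHallOf M : Set G) := by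
  obtain ⟨hHM', hUM', hdisj, hprod⟩ := hP.U_compl
  intro x hx
  have hxU : x ∈ U := Subgroup.commutator_le_self U hx
  have hx2 : x ∈ ⁅⁅M, M⁆, ⁅M, M⁆⁆ := Subgroup.commutator_mono hUM' hUM' hx
  have hx3 := hP.derived_two_le hx2
  rw [hP.fitting_eq, typeP_fitting_eq hP] at hx3
  have hnorm : U ⊓ Subgroup.centralizer (Cfsg.fittingHallOf M : Set G) ≤
      Subgroup.normalizer ((Cfsg.fittingHallOf M : Subgroup G) : Set G) :=
    (inf_le_left.trans (typeP_U_le hP)).trans (le_normalizer_fittingHallOf M)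
  have hx4 : x ∈ ((Cfsg.fittingHallOf M ⊔
      (U ⊓ Subgroup.centralizer (Cfsg.fittingHallOf M : Set G)) : Subgroup G) : Set G) := hx3
  rw [Subgroup.coe_mul_of_right_le_normalizer_left _ _ hnorm] at hx4
  obtain ⟨h, hh, c, hc, hhc⟩ := hx4
  have hhc' : h * c = x := hhc
  subst hhc'
  have hhU : h ∈ U := by
    have := U.mul_mem hxU (U.inv_mem hc.1)
    rwa [mul_inv_cancel_right] at this
  have : h ∈ Cfsg.fittingHallOf M ⊓ U := ⟨hh, hhU⟩
  rw [hdisj, Subgroup.mem_bot] at this
  rw [this, one_mul]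
  exact hc.2

/-- If U ≠ 1 then U does not centralize H. -/
theorem typeP_U_not_le_centralizer (hP : Cfsg.IsTypePWith M W₁ U W₂) (hU : U ≠ ⊥) :
    ¬ U ≤ Subgroup.centralizer (Cfsg.fittingHallOf M : Set G) := by
  intro hUC
  obtain ⟨hHM', hUM', hdisj, hprod⟩ := hP.U_compl
  obtain ⟨-, hW₁M, -, hprod'⟩ := hP.W₁_compl
  have hUM := typeP_U_le hP
  -- M normalizes U
  have hMN : M ≤ Subgroup.normalizer (U : Set G) := by
    intro m hm
    obtain ⟨a, ha, w, hw, rfl⟩ := hprod' m hm
    obtain ⟨h, hh, u, hu, rfl⟩ := hprod a ha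
    refine Subgroup.mul_mem _ (Subgroup.mul_mem _ ?_ (Subgroup.le_normalizer hu)) (hP.U_normal hw)
    rw [Subgroup.mem_set_normalizer_iff]
    intro y
    constructor
    · intro hy
      have := (Subgroup.mem_centralizer_iff.mp (hUC hy)) h hh
      -- h * y = y * h
      rw [this, mul_inv_cancel_right]; exact hy
    · intro hy
      have hc := (Subgroup.mem_centralizer_iff.mp (hUC hy)) h hh
      -- h * (h y h⁻¹) = (h y h⁻¹) * h
      have : y = h * y * h⁻¹ := by
        have := congrArg (fun t => h⁻¹ * t) hc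
        beta_reduce at this
        rw [inv_mul_cancel_left] at this
        rw [this]; group
      rw [this]; exact hy
  have hnormal : (U.subgroupOf M).Normal :=
    (Subgroup.normal_subgroupOf_iff_le_normalizer hUM).mpr hMN
  have hnil : Group.IsNilpotent (U.subgroupOf M) := by
    have := hP.U_nilpotent
    exact Group.nilpotent_of_mulEquiv (Subgroup.subgroupOfEquivOfLe hUM).symm
  -- cardinalities
  have hc1 := card_of_isComplIn _ _ _ hP.U_compl
  have hc2 := card_of_isComplIn _ _ _ hP.W₁_compl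
  have hcardU : Nat.card (U.subgroupOf M) = Nat.card U :=
    Nat.card_congr (Subgroup.subgroupOfEquivOfLe hUM).toEquiv
  have hidxU : (U.subgroupOf M).index * Nat.card U = Nat.card M := by
    rw [← hcardU]; exact Subgroup.index_mul_card _
  have hidxW : W₁.relIndex M * Nat.card W₁ = Nat.card M := by
    have : Nat.card (W₁.subgroupOf M) = Nat.card W₁ :=
      Nat.card_congr (Subgroup.subgroupOfEquivOfLe hW₁M).toEquiv
    rw [← this]; exact Subgroup.index_mul_card _
  have hW₁pos : 0 < Nat.card W₁ := Nat.card_pos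
  have hUpos : 0 < Nat.card U := Nat.card_pos
  have hrelW : W₁.relIndex M = Nat.card (Cfsg.fittingHallOf M) * Nat.card U := by
    apply Nat.eq_of_mul_eq_mul_right hW₁pos
    rw [hidxW, hc2, hc1]
  have hidx : (U.subgroupOf M).index = Nat.card (Cfsg.fittingHallOf M) * Nat.card W₁ := by
    apply Nat.eq_of_mul_eq_mul_right hUpos
    rw [hidxU, hc2, hc1]; ring
  have hcopW : (Nat.card U).Coprime (Nat.card W₁) := by
    have := hP.W₁_hall
    rw [hrelW] at this
    exact (Nat.Coprime.coprime_mul_left_right this).symm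
  have hcop : (Nat.card (U.subgroupOf M)).Coprime (U.subgroupOf M).index := by
    rw [hcardU, hidx]
    exact Nat.Coprime.mul_right (typeP_card_U_coprime hP) hcopW
  have hle := le_fittingHall (U.subgroupOf M) hnormal hnil hcop
  have hUH : U ≤ Cfsg.fittingHallOf M := by
    have := Subgroup.map_mono (f := M.subtype) hle
    rwa [Subgroup.map_subgroupOf_eq_of_le hUM] at this
  apply hU
  rw [eq_bot_iff, ← hdisj]
  exact le_inf hUH le_rfl

end TypeP

end Cfsg.Agent.Helper23
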