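import Mathlib

/-!
# Counting the class support of a TI-like set, and a counting contradiction

`card_class_support`: if `W` is a subset of a subgroup `Z`, stable under conjugation by `Z`, and
every element conjugating an element of `W` into `W` lies in `Z`, then the class support of `W`
has `|W| |G| / |Z|` elements.

`count_contra`: the arithmetic at the end of the counting argument of B&G 14.7.
-/

set_option autoImplicit false
set_option linter.unusedSectionVars false
set_option linter.unusedVariables false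

namespace Cfsg.Agent.Helper23.ClassCount

open Subgroup

/-- the class support of a set -/
def classSupport {G : Type*} [Group G] (W : Set G) : Set G :=
  {a : G | ∃ g : G, ∃ z ∈ W, a = g * z * g⁻¹}

section equiv

variable {G : Type*} [Group G] (Z : Subgroup G) (W : Set G)

/-- a chosen conjugating element for a member of the class support -/
noncomputable def repG (a : classSupport W) : G := a.2.choose

/-- a chosen element of `W` conjugate to a member of the class support -/
noncomputable def repW (a : classSupport W) : G := a.2.choose_spec.choose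

theorem repW_mem (a : classSupport W) : repW W a ∈ W := a.2.choose_spec.choose_spec.1

theorem rep_spec (a : classSupport W) : (a : G) = repG W a * repW W a * (repG W a)⁻¹ :=
  a.2.choose_spec.choose_spec.2

/-- `G × W ≃ classSupport W × Z` -/
noncomputable def fibreEquiv (hinv : ∀ w ∈ W, ∀ t ∈ Z, t * w * t⁻¹ ∈ W)
    (hTI : ∀ w ∈ W, ∀ g : G, g * w * g⁻¹ ∈ W → g ∈ Z) : (G × W) ≃ (classSupport W × Z) where
  toFun p := (⟨p.1 * (p.2 : G) * p.1⁻¹, ⟨p.1, p.2, p.2.2, rfl⟩⟩,
    ⟨(repG W ⟨p.1 * (p.2 : G) * p.1⁻¹, ⟨p.1, p.2, p.2.2, rfl⟩⟩)⁻¹ * p.1, by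
      apply hTI (p.2 : G) p.2.2
      have h := rep_spec W ⟨p.1 * (p.2 : G) * p.1⁻¹, ⟨p.1, p.2, p.2.2, rfl⟩⟩
      have hm := repW_mem W ⟨p.1 * (p.2 : G) * p.1⁻¹, ⟨p.1, p.2, p.2.2, rfl⟩⟩
      simp only at h
      set g0 := repG W ⟨p.1 * (p.2 : G) * p.1⁻¹, ⟨p.1, p.2, p.2.2, rfl⟩⟩ with hg0
      set w0 := repW W ⟨p.1 * (p.2 : G) * p.1⁻¹, ⟨p.1, p.2, p.2.2, rfl⟩⟩ with hw0
      have e : g0⁻¹ * p.1 * (p.2 : G) * (g0⁻¹ * p.1)⁻¹ = g0⁻¹ * (p.1 * (p.2 : G) * p.1⁻¹) * g0 := by
        group
      rw [e, h]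
      have e2 : g0⁻¹ * (g0 * w0 * g0⁻¹) * g0 = w0 := by group
      rw [e2]
      exact hm⟩)
  invFun q := (repG W q.1 * (q.2 : G), ⟨(q.2 : G)⁻¹ * repW W q.1 * (q.2 : G), by
    have := hinv (repW W q.1) (repW_mem W q.1) (q.2 : G)⁻¹ (Z.inv_mem q.2.2)
    rwa [inv_inv] at this⟩)
  left_inv p := by
    obtain ⟨g, w, hw⟩ := p
    have h := rep_spec W ⟨g * w * g⁻¹, ⟨g, w, hw, rfl⟩⟩
    simp only at h
    refine Prod.ext ?_ (Subtype.ext ?_)
    · simp only
      group
    · simp only
      set g0 := repG W ⟨g * w * g⁻¹, ⟨g, w, hw, rfl⟩⟩ with hg0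
      set w0 := repW W ⟨g * w * g⁻¹, ⟨g, w, hw, rfl⟩⟩ with hw0
      have e : (g0⁻¹ * g)⁻¹ * w0 * (g0⁻¹ * g) = g⁻¹ * (g0 * w0 * g0⁻¹) * g := by group
      rw [e, ← h]
      group
  right_inv q := by
    obtain ⟨a, t⟩ := q
    have h := rep_spec W a
    have key : repG W a * (t : G) * ((t : G)⁻¹ * repW W a * (t : G)) * (repG W a * (t : G))⁻¹ =
        (a : G) := by
      rw [h]; group
    refine Prod.ext (Subtype.ext ?_) (Subtype.ext ?_)
    · simp only
      exact key
    · simp only
      have e : (⟨repG W a * (t : G) * ((t : G)⁻¹ * repW W a * (t : G)) * (repG W a * (t : G))⁻¹,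
          ⟨repG W a * (t : G), (t : G)⁻¹ * repW W a * (t : G), by
            have := hinv (repW W a) (repW_mem W a) (t : G)⁻¹ (Z.inv_mem t.2)
            rwa [inv_inv] at this, rfl⟩⟩ : classSupport W) = a := Subtype.ext key
      rw [e]
      group

end equiv

/-- **T2.** the size of the class support of a TI-like set -/
theorem card_class_support {G : Type*} [Group G] [Finite G] (Z : Subgroup G) (W : Set G)
    (hW : W ⊆ (Z : Set G))
    (hinv : ∀ w ∈ W, ∀ t ∈ Z, t * w * t⁻¹ ∈ W)
    (hTI : ∀ w ∈ W, ∀ g : G, g * w * g⁻¹ ∈ W → g ∈ Z) :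
    Nat.card Z * Set.ncard {a : G | ∃ g : G, ∃ z ∈ W, a = g * z * g⁻¹} =
      Set.ncard W * Nat.card G := by
  have h := Nat.card_congr (fibreEquiv Z W hinv hTI)
  rw [Nat.card_prod, Nat.card_prod] at h
  change _ = Nat.card (classSupport W) * _ at h
  rw [Nat.card_coe_set_eq, Nat.card_coe_set_eq] at h
  unfold classSupport at h
  rw [mul_comm, ← h, mul_comm]

end Cfsg.Agent.Helper23.ClassCount
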