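import Mathlib
import Cfsg.Agent.Helper23.ClassCount

/-!
# The counting contradiction of B&G 14.7 (`count_contra`)
-/

set_option autoImplicit false
set_option linter.unusedSectionVars false
set_option linter.unusedVariables false

namespace Cfsg.Agent.Helper23.ClassCount

open Subgroup

/-- pairwise disjoint sets, all disjoint from a further set, have total size at most `|G|` -/
theorem sum_ncard_add_ncard_le {G : Type*} [Finite G] {ι : Type*} (S : Finset ι) (T : ι → Set G)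
    (C : Set G) (hdisj : ∀ L ∈ S, ∀ L' ∈ S, L ≠ L' → Disjoint (T L) (T L'))
    (hC : ∀ L ∈ S, Disjoint (T L) C) :
    (∑ L ∈ S, (T L).ncard) + C.ncard ≤ Nat.card G := by
  classical
  have : Fintype G := Fintype.ofFinite G
  have e1 : ∀ L, (T L).ncard = ((Set.toFinite (T L)).toFinset).card := fun L =>
    Set.ncard_eq_toFinset_card (T L) (Set.toFinite (T L))
  have e2 : C.ncard = ((Set.toFinite C).toFinset).card :=
    Set.ncard_eq_toFinset_card C (Set.toFinite C)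
  have e3 : (S.biUnion (fun L => (Set.toFinite (T L)).toFinset)).card =
      ∑ L ∈ S, ((Set.toFinite (T L)).toFinset).card := by
    apply Finset.card_biUnion
    intro L hL L' hL' hne
    exact Set.Finite.disjoint_toFinset.mpr (hdisj L hL L' hL' hne)
  have e4 : Disjoint (S.biUnion (fun L => (Set.toFinite (T L)).toFinset))
      ((Set.toFinite C).toFinset) := by
    rw [Finset.disjoint_biUnion_left]
    intro L hL
    exact Set.Finite.disjoint_toFinset.mpr (hC L hL)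
  have e5 := Finset.card_union_of_disjoint e4
  have e6 : (S.biUnion (fun L => (Set.toFinite (T L)).toFinset) ∪
      (Set.toFinite C).toFinset).card ≤ Fintype.card G := Finset.card_le_univ _
  rw [Nat.card_eq_fintype_card]
  calc (∑ L ∈ S, (T L).ncard) + C.ncard
      = (∑ L ∈ S, ((Set.toFinite (T L)).toFinset).card) + ((Set.toFinite C).toFinset).card := by
        rw [e2]; congr 1; exact Finset.sum_congr rfl (fun L _ => e1 L)
    _ = _ := by rw [← e3, ← e5]
    _ ≤ Fintype.card G := e6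

/-- **T3.** the arithmetic contradiction -/
theorem count_contra {G : Type*} [Group G] [Finite G] (Z : Subgroup G) (W : Set G)
    (S : Finset (Subgroup G)) (T : Subgroup G → Set G) (m z : Subgroup G → ℕ)
    (hcs : Nat.card Z * Set.ncard {a : G | ∃ g : G, ∃ w ∈ W, a = g * w * g⁻¹} =
      Set.ncard W * Nat.card G)
    (hdisj : ∀ L ∈ S, ∀ L' ∈ S, L ≠ L' → Disjoint (T L) (T L'))
    (hWT : ∀ L ∈ S, ∀ w ∈ W, ∀ g : G, g * w * g⁻¹ ∉ T L)
    (hT : ∀ L ∈ S, (T L).ncard = (m L - 1) * L.index)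
    (hL : ∀ L ∈ S, Nat.card L * z L = m L * Nat.card Z)
    (hm : ∀ L ∈ S, 3 * z L ≤ m L) (hz : ∀ L ∈ S, 1 ≤ z L)
    (hWc : Nat.card Z ≤ Set.ncard W + 1 + ∑ L ∈ S, (z L - 1)) (hn : 2 ≤ S.card) : False := by
  classical
  have hg : (0 : ℚ) < (Nat.card G : ℚ) := by exact_mod_cast Nat.card_pos
  have hζ : (0 : ℚ) < (Nat.card Z : ℚ) := by exact_mod_cast Nat.card_pos
  -- step 1: the disjoint union fits in `G`
  have h1 : (∑ L ∈ S, (T L).ncard) +
      Set.ncard {a : G | ∃ g : G, ∃ w ∈ W, a = g * w * g⁻¹} ≤ Nat.card G := by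
    apply sum_ncard_add_ncard_le S T _ hdisj
    intro L hLS
    rw [Set.disjoint_left]
    rintro a haT ⟨g, w, hw, rfl⟩
    exact hWT L hLS w hw g haT
  -- step 2: the contribution of each `L`
  have h2 : ∀ L ∈ S, (Nat.card G : ℚ) * (3 * (z L : ℚ) - 1) ≤
      3 * ((T L).ncard : ℚ) * (Nat.card Z : ℚ) := by
    intro L hLS
    have hm3 := hm L hLS
    have hz1 := hz L hLS
    have hmpos : 1 ≤ m L := by omega
    have hidx : Nat.card L * L.index = Nat.card G := Subgroup.card_mul_index L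
    have e1 : ((T L).ncard : ℚ) = ((m L : ℚ) - 1) * (L.index : ℚ) := by
      rw [hT L hLS]; push_cast [Nat.cast_sub hmpos]; ring
    have e2 : (Nat.card L : ℚ) * (z L : ℚ) = (m L : ℚ) * (Nat.card Z : ℚ) := by
      exact_mod_cast hL L hLS
    have e3 : (Nat.card L : ℚ) * (L.index : ℚ) = (Nat.card G : ℚ) := by exact_mod_cast hidx
    have hmq : (3 : ℚ) * (z L : ℚ) ≤ (m L : ℚ) := by exact_mod_cast hm3
    have hmq0 : (0 : ℚ) < (m L : ℚ) := by exact_mod_cast hmpos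
    have e4 : 3 * ((T L).ncard : ℚ) * (Nat.card Z : ℚ) * (m L : ℚ) =
        3 * ((m L : ℚ) - 1) * (z L : ℚ) * (Nat.card G : ℚ) := by
      rw [e1, ← e3]
      linear_combination (-3 * ((m L : ℚ) - 1) * (L.index : ℚ)) * e2
    have e5 : (Nat.card G : ℚ) * (3 * (z L : ℚ) - 1) * (m L : ℚ) ≤
        3 * ((T L).ncard : ℚ) * (Nat.card Z : ℚ) * (m L : ℚ) := by
      rw [e4]
      nlinarith [mul_nonneg hg.le (sub_nonneg.mpr hmq)]
    exact le_of_mul_le_mul_right e5 hmq0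
  -- step 3: sum up
  have h3 : (Nat.card G : ℚ) * (3 * (∑ L ∈ S, (z L : ℚ)) - (S.card : ℚ)) ≤
      3 * (∑ L ∈ S, ((T L).ncard : ℚ)) * (Nat.card Z : ℚ) := by
    have h := Finset.sum_le_sum h2
    have el : ∑ L ∈ S, (Nat.card G : ℚ) * (3 * (z L : ℚ) - 1) =
        (Nat.card G : ℚ) * (3 * (∑ L ∈ S, (z L : ℚ)) - (S.card : ℚ)) := by
      rw [← Finset.mul_sum, Finset.sum_sub_distrib, ← Finset.mul_sum, Finset.sum_const,
        nsmul_eq_mul, mul_one]
    have er : ∑ L ∈ S, 3 * ((T L).ncard : ℚ) * (Nat.card Z : ℚ) =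
        3 * (∑ L ∈ S, ((T L).ncard : ℚ)) * (Nat.card Z : ℚ) := by
      rw [← Finset.sum_mul, ← Finset.mul_sum]
    rw [el, er] at h
    exact h
  -- casts of the hypotheses
  have h1q : (∑ L ∈ S, ((T L).ncard : ℚ)) +
      (Set.ncard {a : G | ∃ g : G, ∃ w ∈ W, a = g * w * g⁻¹} : ℚ) ≤ (Nat.card G : ℚ) := by
    exact_mod_cast h1
  have hcsq : (Nat.card Z : ℚ) * (Set.ncard {a : G | ∃ g : G, ∃ w ∈ W, a = g * w * g⁻¹} : ℚ) =
      (Set.ncard W : ℚ) * (Nat.card G : ℚ) := by exact_mod_cast hcs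
  have hsub : ((∑ L ∈ S, (z L - 1) : ℕ) : ℚ) = (∑ L ∈ S, (z L : ℚ)) - (S.card : ℚ) := by
    rw [Nat.cast_sum]
    have : ∀ L ∈ S, ((z L - 1 : ℕ) : ℚ) = (z L : ℚ) - 1 := by
      intro L hLS
      rw [Nat.cast_sub (hz L hLS), Nat.cast_one]
    rw [Finset.sum_congr rfl this, Finset.sum_sub_distrib, Finset.sum_const, nsmul_eq_mul,
      mul_one]
  have hWcq : (Nat.card Z : ℚ) ≤ (Set.ncard W : ℚ) + 1 +
      ((∑ L ∈ S, (z L : ℚ)) - (S.card : ℚ)) := by
    rw [← hsub]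
    exact_mod_cast hWc
  have hnq : (2 : ℚ) ≤ (S.card : ℚ) := by exact_mod_cast hn
  -- final arithmetic
  have a0 := mul_le_mul_of_nonneg_right h1q hζ.le
  rw [add_mul] at a0
  have a1 : 3 * (∑ L ∈ S, ((T L).ncard : ℚ)) * (Nat.card Z : ℚ) ≤
      (Nat.card G : ℚ) * (3 * (Nat.card Z : ℚ) - 3 * (Set.ncard W : ℚ)) := by
    linarith [hcsq, mul_comm (Nat.card Z : ℚ)
      (Set.ncard {a : G | ∃ g : G, ∃ w ∈ W, a = g * w * g⁻¹} : ℚ)]
  have a2 : 3 * (∑ L ∈ S, (z L : ℚ)) - (S.card : ℚ) ≤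
      3 * (Nat.card Z : ℚ) - 3 * (Set.ncard W : ℚ) :=
    le_of_mul_le_mul_left (h3.trans a1) hg
  linarith

end Cfsg.Agent.Helper23.ClassCount
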