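import Mathlib
import Cfsg.Agent.Helper17.Basic
import Cfsg.Agent.Helper10.Alperin

/-!
# B&G 13.1 / 13.2(c): general lemmas on factorizations `H = A B` with `A` normal in `H`
-/

set_option autoImplicit false
set_option linter.unusedSectionVars false
set_option linter.unusedVariables false

namespace Cfsg.Agent.Helper23.BG132

open Subgroup
open Cfsg.Agent.Helper14 (IsSylowIn cj exists_isSylowIn exists_isSylowIn_ge)
open scoped commutatorElement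

variable {G : Type*} [Group G]

theorem exists_mul_of_mem_sup {A B : Subgroup G} (h : B ≤ normalizer (A : Set G)) {x : G}
    (hx : x ∈ A ⊔ B) : ∃ a ∈ A, ∃ b ∈ B, x = a * b := by
  have h1 := coe_mul_of_right_le_normalizer_left A B h
  have hx' : x ∈ ((A ⊔ B : Subgroup G) : Set G) := hx
  rw [h1] at hx'
  obtain ⟨a, ha, b, hb, rfl⟩ := hx'
  exact ⟨a, ha, b, hb, rfl⟩

theorem conj_mem_of_mem_normalizer {A : Subgroup G} {h a : G} (hh : h ∈ normalizer (A : Set G))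
    (ha : a ∈ A) : h * a * h⁻¹ ∈ A := (mem_normalizer_iff.mp hh a).mp ha

/-- if `H = A B` with `A` normalized by `H`, then `H' ≤ A B'` -/
theorem commutator_le_sup_commutator {A B H : Subgroup G} (hBH : B ≤ H)
    (hHA : H ≤ normalizer (A : Set G)) (hH : H ≤ A ⊔ B) : ⁅H, H⁆ ≤ A ⊔ ⁅B, B⁆ := by
  rw [commutator_le]
  intro h1 hh1 h2 hh2
  obtain ⟨a1, ha1, b1, hb1, rfl⟩ := exists_mul_of_mem_sup (hBH.trans hHA) (hH hh1)
  obtain ⟨a2, ha2, b2, hb2, rfl⟩ := exists_mul_of_mem_sup (hBH.trans hHA) (hH hh2)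
  have e : ⁅a1 * b1, a2 * b2⁆ = a1 * (b1 * a2 * b1⁻¹) *
      ((b1 * b2 * b1⁻¹) * a1⁻¹ * (b1 * b2 * b1⁻¹)⁻¹) * (⁅b1, b2⁆ * a2⁻¹ * ⁅b1, b2⁆⁻¹) *
      ⁅b1, b2⁆ := by
    simp only [commutatorElement_def]; group
  rw [e]
  have hb1H : b1 ∈ H := hBH hb1
  have hb2H : b2 ∈ H := hBH hb2
  have hcH : ⁅b1, b2⁆ ∈ H := by
    rw [commutatorElement_def]
    exact H.mul_mem (H.mul_mem (H.mul_mem hb1H hb2H) (H.inv_mem hb1H)) (H.inv_mem hb2H)
  have m1 : b1 * a2 * b1⁻¹ ∈ A := conj_mem_of_mem_normalizer (hHA hb1H) ha2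
  have m2 : (b1 * b2 * b1⁻¹) * a1⁻¹ * (b1 * b2 * b1⁻¹)⁻¹ ∈ A :=
    conj_mem_of_mem_normalizer
      (hHA (H.mul_mem (H.mul_mem hb1H hb2H) (H.inv_mem hb1H))) (A.inv_mem ha1)
  have m3 : ⁅b1, b2⁆ * a2⁻¹ * ⁅b1, b2⁆⁻¹ ∈ A :=
    conj_mem_of_mem_normalizer (hHA hcH) (A.inv_mem ha2)
  exact mul_mem_sup (A.mul_mem (A.mul_mem (A.mul_mem ha1 m1) m2) m3)
    (commutator_mem_commutator hb1 hb2)

variable [Finite G]

/-- if `H = A B` with `A ≤ H` normalized by `H`, then `|H : B|` divides `|A|` -/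
theorem relIndex_dvd_card_of_le_sup {A B H : Subgroup G} (hAH : A ≤ H) (hBH : B ≤ H)
    (hHA : H ≤ normalizer (A : Set G)) (hH : H ≤ A ⊔ B) : B.relIndex H ∣ Nat.card A := by
  have hHeq : A ⊔ B = H := le_antisymm (sup_le hAH hBH) hH
  have h1 := Cfsg.Agent.Helper17.card_sup_mul_card_inf A B (hBH.trans hHA)
  rw [hHeq] at h1
  have h2 : B.relIndex H * Nat.card B = Nat.card H := by
    have := (B.subgroupOf H).index_mul_card
    rwa [Nat.card_congr (subgroupOfEquivOfLe hBH).toEquiv] at this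
  have hB0 : 0 < Nat.card B := Nat.card_pos
  have h3 : B.relIndex H * Nat.card (A ⊓ B : Subgroup G) = Nat.card A := by
    apply Nat.eq_of_mul_eq_mul_right hB0
    calc B.relIndex H * Nat.card (A ⊓ B : Subgroup G) * Nat.card B
        = (B.relIndex H * Nat.card B) * Nat.card (A ⊓ B : Subgroup G) := by ring
      _ = Nat.card A * Nat.card B := by rw [h2, h1]
  exact Dvd.intro _ h3

/-- if `H = A (H ∩ N)` with `A ≤ H` normalized by `H` and `s ∤ |A|`, then `N` contains a Sylow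
`s`-subgroup of `H` -/
theorem exists_isSylowIn_le_of_le_sup {A N H : Subgroup G} {s : ℕ} [Fact s.Prime] (hAH : A ≤ H)
    (hHA : H ≤ normalizer (A : Set G)) (hH : H ≤ A ⊔ (H ⊓ N)) (hs : ¬ s ∣ Nat.card A) :
    ∃ T : Subgroup G, IsSylowIn s T H ∧ T ≤ N := by
  have hs' : s.Prime := Fact.out
  obtain ⟨T, hT⟩ := exists_isSylowIn (p := s) (H ⊓ N)
  refine ⟨T, ?_, hT.1.trans inf_le_right⟩
  apply Cfsg.Agent.Helper10.isSylowIn_of_not_dvd_relIndex (hT.1.trans inf_le_left) hT.2.1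
  rw [← Subgroup.relIndex_mul_relIndex T (H ⊓ N) H hT.1 inf_le_left]
  intro hdvd
  rcases (Nat.Prime.dvd_mul hs').mp hdvd with h1 | h1
  · exact Cfsg.Agent.Helper10.not_dvd_relIndex_of_isSylowIn hT h1
  · exact hs (h1.trans (relIndex_dvd_card_of_le_sup hAH inf_le_left hHA hH))

/-- if `H = A (H ∩ N)` with `A` normalized by `H` and `s ∤ |A|`, then `s ∣ |H'|` implies
`s ∣ |(H ∩ N)'|` -/
theorem dvd_card_commutator_inf {A N H : Subgroup G} {s : ℕ} (hs' : s.Prime)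
    (hHA : H ≤ normalizer (A : Set G)) (hH : H ≤ A ⊔ (H ⊓ N)) (hs : ¬ s ∣ Nat.card A)
    (hd : s ∣ Nat.card ↥⁅H, H⁆) : s ∣ Nat.card ↥⁅H ⊓ N, H ⊓ N⁆ := by
  have h1 : ⁅H, H⁆ ≤ A ⊔ ⁅H ⊓ N, H ⊓ N⁆ := commutator_le_sup_commutator inf_le_left hHA hH
  have hBH : ⁅H ⊓ N, H ⊓ N⁆ ≤ H := (commutator_mono inf_le_left inf_le_left).trans
    (commutator_le_self H)
  have h2 := Cfsg.Agent.Helper17.card_sup_mul_card_inf A ⁅H ⊓ N, H ⊓ N⁆ (hBH.trans hHA)
  have h3 : s ∣ Nat.card A * Nat.card ↥⁅H ⊓ N, H ⊓ N⁆ := by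
    rw [← h2]
    exact (hd.trans (card_dvd_of_le h1)).mul_right _
  rcases (Nat.Prime.dvd_mul hs').mp h3 with h4 | h4
  · exact absurd h4 hs
  · exact h4

end Cfsg.Agent.Helper23.BG132
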