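import Mathlib
import Cfsg.Prelude.Def_OddOrderLocal
import Cfsg.Agent.Lead.PiHall
import Cfsg.Agent.Lead.CoprimeAbelian
import Cfsg.Agent.Helper9.BG12f
import Cfsg.Agent.Helper9.BG12c
import Cfsg.Agent.Helper9.TateNormal
import Cfsg.Agent.Helper14.Quadratic
import Cfsg.Agent.Helper17.Basic
import Cfsg.Agent.Helper23.BG132A
import Cfsg.Agent.S1350
import Cfsg.Agent.S1415
import Cfsg.Agent.S1426

/-!
# B&G 13.9 (σ-partition), part A: the structure of a complement `E` of `M_σ` when `τ₂(M) = ∅`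

`E = E₃ ⋊ E₁` with `E₃ ≤ E'` cyclic normal, `E₁` cyclic, `C_{E₃}(E₁) = 1`, `C_E(E₁) = E₁`,
`E₁ ≠ 1`.
-/

set_option autoImplicit false
set_option linter.unusedSectionVars false
set_option linter.unusedVariables false
set_option linter.style.haveILetI false

namespace Cfsg.Agent.Helper23.BG13SO

open Subgroup Cfsg
open Cfsg.Agent.Lead (IsPiNum isPiHallOf_iff pi_split_unique relIndex_mul_card')
open Cfsg.Agent.H9.BG12 (St1350 isPiHallOf_compl card_mul_of_isComplIn)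

universe u
variable {G : Type u} [Group G] [Finite G]

/-- `τ₂(M) = ∅`, in the form used by `Lead.BG142.Tau3` -/
def NoTau2 (M : Subgroup G) : Prop :=
  ∀ p : ℕ, p.Prime → p ∉ Cfsg.sigma M → Cfsg.PRankLE p 1 M

theorem st1350 (hG : Cfsg.IsMinSimpleOddOrder G) : St1350 G :=
  fun M hM => Cfsg.Agent.S1350.result hG M hM

theorem isSolvable_of_le_coatom (hG : Cfsg.IsMinSimpleOddOrder G) {M E : Subgroup G}
    (hM : IsCoatom M) (hEM : E ≤ M) : Group.IsSolvable E :=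
  hG.2.2.2 E (fun h => hM.1 (top_le_iff.mp (h ▸ hEM)))

/-- the primes of a complement lie in `τ₁(M) ∪ τ₃(M)` when `τ₂(M) = ∅` -/
theorem mem_tau1_or_mem_tau3 (hG : Cfsg.IsMinSimpleOddOrder G) {M E : Subgroup G}
    (hM : IsCoatom M) (hE : Cfsg.IsComplIn E (Cfsg.sigmaCore M) M) (h2 : NoTau2 M) {p : ℕ}
    (hp : p.Prime) (hd : p ∣ Nat.card E) : p ∈ Cfsg.tau1 M ∨ p ∈ Cfsg.tau3 M := by
  have hH := isPiHallOf_compl (st1350 hG) hM hE
  have hpσ : p ∉ Cfsg.sigma M := hH.2.1 p hp hd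
  have hpM : p ∣ Nat.card M := hd.trans (Subgroup.card_dvd_of_le hE.1)
  by_cases h : p ∣ Nat.card ↥⁅M, M⁆
  · exact Or.inr ⟨hp, hpσ, h, h2 p hp hpσ⟩
  · exact Or.inl ⟨hp, hpσ, hpM, h, h2 p hp hpσ⟩

theorem tau1_disjoint_tau3 {M : Subgroup G} {p : ℕ} (h1 : p ∈ Cfsg.tau1 M) (h3 : p ∈ Cfsg.tau3 M) :
    False := h1.2.2.2.1 h3.2.2.1

/-- `|E₁| |E₃| = |E|` -/
theorem card_mul_card_hall (hG : Cfsg.IsMinSimpleOddOrder G) {M E E₁ E₃ : Subgroup G}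
    (hM : IsCoatom M) (hE : Cfsg.IsComplIn E (Cfsg.sigmaCore M) M) (h2 : NoTau2 M)
    (hE₁ : Cfsg.IsPiHallOf (Cfsg.tau1 M) E₁ E) (hE₃ : Cfsg.IsPiHallOf (Cfsg.tau3 M) E₃ E) :
    Nat.card E₁ * Nat.card E₃ = Nat.card E := by
  have h1 := isPiHallOf_iff.mp hE₁
  have h3 := isPiHallOf_iff.mp hE₃
  have e1 : E₁.relIndex E * Nat.card E₁ = Nat.card E := relIndex_mul_card' h1.1
  have e3 : E₃.relIndex E * Nat.card E₃ = Nat.card E := relIndex_mul_card' h3.1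
  have hm' : IsPiNum (Cfsg.tau1 M) (E₃.relIndex E) := by
    intro p hp hd
    have hdE : p ∣ Nat.card E := e3 ▸ Dvd.dvd.mul_right hd _
    rcases mem_tau1_or_mem_tau3 hG hM hE h2 hp hdE with h | h
    · exact h
    · exact absurd h (h3.2.2 p hp hd)
  have hn' : IsPiNum (Cfsg.tau1 M)ᶜ (Nat.card E₃) := by
    intro p hp hd h
    exact tau1_disjoint_tau3 h (h3.2.1 p hp hd)
  have key : Nat.card E₁ = E₃.relIndex E := by
    apply pi_split_unique (π := Cfsg.tau1 M) (n := E₁.relIndex E) (n' := Nat.card E₃) _ h1.2.1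
      h1.2.2 hm' hn'
    rw [mul_comm, e1, e3]
  rw [key, e3]

/-- `E₃ ⊔ E₁ = E` and `E₃ ⊓ E₁ = ⊥` -/
theorem sup_eq_of_hall (hG : Cfsg.IsMinSimpleOddOrder G) {M E E₁ E₃ : Subgroup G}
    (hM : IsCoatom M) (hE : Cfsg.IsComplIn E (Cfsg.sigmaCore M) M) (h2 : NoTau2 M)
    (hE₁ : Cfsg.IsPiHallOf (Cfsg.tau1 M) E₁ E) (hE₃ : Cfsg.IsPiHallOf (Cfsg.tau3 M) E₃ E) :
    (Nat.card E₁).Coprime (Nat.card E₃) ∧ E₃ ⊓ E₁ = ⊥ ∧ E₃ ⊔ E₁ = E := by
  have hcop : (Nat.card E₁).Coprime (Nat.card E₃) := by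
    apply Nat.coprime_of_dvd
    intro p hp h1 h3
    exact tau1_disjoint_tau3 (hE₁.2.1 p hp h1) (hE₃.2.1 p hp h3)
  have hinf : E₃ ⊓ E₁ = ⊥ := (Subgroup.disjoint_of_coprime_natCard hcop.symm).eq_bot
  refine ⟨hcop, hinf, ?_⟩
  have hn : E ≤ normalizer (E₃ : Set G) := (Cfsg.Agent.S1415.result hG M hM E hE).2.2 E₃ hE₃ |>.2.2
  have hc := Cfsg.Agent.Helper17.card_sup_mul_card_inf E₃ E₁ (hE₁.1.trans hn)
  rw [hinf, Subgroup.card_bot, mul_one] at hc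
  have hle : E₃ ⊔ E₁ ≤ E := sup_le hE₃.1 hE₁.1
  have hcard : Nat.card E = Nat.card ↥(E₃ ⊔ E₁) := by
    rw [hc, mul_comm]; exact (card_mul_card_hall hG hM hE h2 hE₁ hE₃).symm
  exact Subgroup.eq_of_le_of_card_ge hle hcard.le

/-- `C_{E₃}(E₁) = 1` -/
theorem hall3_inf_centralizer_eq_bot (hG : Cfsg.IsMinSimpleOddOrder G) {M E E₁ E₃ : Subgroup G}
    (hM : IsCoatom M) (hE : Cfsg.IsComplIn E (Cfsg.sigmaCore M) M) (h2 : NoTau2 M)
    (hE₁ : Cfsg.IsPiHallOf (Cfsg.tau1 M) E₁ E) (hE₃ : Cfsg.IsPiHallOf (Cfsg.tau3 M) E₃ E) :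
    E₃ ⊓ centralizer (E₁ : Set G) = ⊥ := by
  obtain ⟨hcop, hinf, hsup⟩ := sup_eq_of_hall hG hM hE h2 hE₁ hE₃
  have h1415 := Cfsg.Agent.S1415.result hG M hM E hE
  have hE₁c : IsCyclic E₁ := h1415.2.1 E₁ hE₁
  obtain ⟨hE₃c, hE₃d, hE₃n⟩ := h1415.2.2 E₃ hE₃
  haveI : IsMulCommutative E₃ := ⟨⟨fun a b => by
    letI := hE₃c
    letI : CommGroup E₃ := IsCyclic.commGroup
    exact mul_comm a b⟩⟩
  have hE₁ab : E₁ ≤ centralizer (E₁ : Set G) := by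
    intro a ha
    rw [mem_centralizer_iff]
    intro b hb
    letI := hE₁c
    letI : CommGroup E₁ := IsCyclic.commGroup
    exact congrArg Subtype.val (mul_comm (⟨b, hb⟩ : E₁) ⟨a, ha⟩)
  have hE₃ab : E₃ ≤ centralizer (E₃ : Set G) := by
    intro a ha
    rw [mem_centralizer_iff]
    intro b hb
    letI := hE₃c
    letI : CommGroup E₃ := IsCyclic.commGroup
    exact congrArg Subtype.val (mul_comm (⟨b, hb⟩ : E₃) ⟨a, ha⟩)
  have hAV : E₁ ≤ normalizer (E₃ : Set G) := hE₁.1.trans hE₃n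
  obtain ⟨hd1, hd2⟩ := Cfsg.Agent.Lead.coprime_abelian_decomp E₁ E₃ hAV hcop
  set C := E₃ ⊓ centralizer (E₁ : Set G) with hC
  set D := ⁅E₃, E₁⁆ with hD
  -- `E` normalizes `D`
  have hnD : E ≤ normalizer (D : Set G) := by
    rw [← hsup]
    exact sup_le (Cfsg.Agent.Helper14.le_normalizer_commutator_left E₃ E₁)
      (Cfsg.Agent.Helper14.le_normalizer_commutator_right E₃ E₁)
  -- `C ⊔ E₁` is abelian
  have hCE₁ : C ≤ centralizer (E₁ : Set G) := inf_le_right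
  have hCE₃ : C ≤ centralizer (C : Set G) :=
    (inf_le_left : C ≤ E₃).trans (hE₃ab.trans (centralizer_le (by exact_mod_cast (inf_le_left : C ≤ E₃))))
  have hab : ⁅C ⊔ E₁, C ⊔ E₁⁆ = ⊥ := by
    rw [commutator_eq_bot_iff_le_centralizer]
    apply sup_le
    · rw [le_centralizer_iff]
      exact sup_le hCE₃ (le_centralizer_iff.mp hCE₁)
    · rw [le_centralizer_iff]
      exact sup_le hCE₁ hE₁ab
  have hBE : C ⊔ E₁ ≤ E := sup_le (inf_le_left.trans hE₃.1) hE₁.1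
  have hEle : E ≤ D ⊔ (C ⊔ E₁) := by
    rw [← hsup, ← hd2]
    apply sup_le
    · apply sup_le
      · exact le_sup_of_le_right le_sup_left
      · exact le_sup_left
    · exact le_sup_of_le_right le_sup_right
  have hder := Cfsg.Agent.Helper23.BG132.commutator_le_sup_commutator hBE hnD hEle
  rw [hab, sup_bot_eq] at hder
  have h3D : E₃ ≤ D := hE₃d.trans hder
  rw [eq_bot_iff, ← hd1]
  exact le_inf le_rfl ((inf_le_left : C ≤ E₃).trans h3D)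

/-- `C_E(E₁) = E₁` -/
theorem compl_inf_centralizer_hall1 (hG : Cfsg.IsMinSimpleOddOrder G) {M E E₁ : Subgroup G}
    (hM : IsCoatom M) (hE : Cfsg.IsComplIn E (Cfsg.sigmaCore M) M) (h2 : NoTau2 M)
    (hE₁ : Cfsg.IsPiHallOf (Cfsg.tau1 M) E₁ E) :
    E ⊓ centralizer (E₁ : Set G) = E₁ := by
  have hsolv : Group.IsSolvable E := isSolvable_of_le_coatom hG hM hE.1
  obtain ⟨E₃, hE₃⟩ := Cfsg.Agent.Lead.exists_isPiHallOf (Cfsg.tau3 M) hsolv
  obtain ⟨hcop, hinf, hsup⟩ := sup_eq_of_hall hG hM hE h2 hE₁ hE₃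
  have h1415 := Cfsg.Agent.S1415.result hG M hM E hE
  have hE₁c : IsCyclic E₁ := h1415.2.1 E₁ hE₁
  obtain ⟨hE₃c, hE₃d, hE₃n⟩ := h1415.2.2 E₃ hE₃
  have hE₁ab : E₁ ≤ centralizer (E₁ : Set G) := by
    intro a ha
    rw [mem_centralizer_iff]
    intro b hb
    letI := hE₁c
    letI : CommGroup E₁ := IsCyclic.commGroup
    exact congrArg Subtype.val (mul_comm (⟨b, hb⟩ : E₁) ⟨a, ha⟩)
  have hbot := hall3_inf_centralizer_eq_bot hG hM hE h2 hE₁ hE₃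
  apply le_antisymm
  · rintro x ⟨hxE, hxC⟩
    rw [SetLike.mem_coe, ← hsup] at hxE
    obtain ⟨a, ha, b, hb, rfl⟩ := Cfsg.Agent.Helper23.BG132.exists_mul_of_mem_sup (hE₁.1.trans hE₃n) hxE
    have haC : a ∈ centralizer (E₁ : Set G) := by
      have : a * b * b⁻¹ ∈ centralizer (E₁ : Set G) :=
        mul_mem hxC (inv_mem (hE₁ab hb))
      rwa [mul_inv_cancel_right] at this
    have : a ∈ E₃ ⊓ centralizer (E₁ : Set G) := ⟨ha, haC⟩
    rw [hbot, mem_bot] at this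
    rw [this, one_mul]; exact hb
  · exact le_inf hE₁.1 hE₁ab

/-- `E₁ ≠ 1` -/
theorem hall1_ne_bot (hG : Cfsg.IsMinSimpleOddOrder G) {M E E₁ : Subgroup G}
    (hM : IsCoatom M) (hE : Cfsg.IsComplIn E (Cfsg.sigmaCore M) M) (h2 : NoTau2 M)
    (hE₁ : Cfsg.IsPiHallOf (Cfsg.tau1 M) E₁ E) : E₁ ≠ ⊥ := by
  intro h1
  have hsolv : Group.IsSolvable E := isSolvable_of_le_coatom hG hM hE.1
  obtain ⟨E₃, hE₃⟩ := Cfsg.Agent.Lead.exists_isPiHallOf (Cfsg.tau3 M) hsolv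
  obtain ⟨hcop, hinf, hsup⟩ := sup_eq_of_hall hG hM hE h2 hE₁ hE₃
  rw [h1, sup_bot_eq] at hsup
  have h1415 := Cfsg.Agent.S1415.result hG M hM E hE
  obtain ⟨hE₃c, hE₃d, hE₃n⟩ := h1415.2.2 E₃ hE₃
  rw [hsup] at hE₃d
  haveI := hsolv
  have hEbot : E = ⊥ := Cfsg.Agent.Helper9.eq_bot_of_le_commutator_of_isSolvable E hE₃d
  have h1426 := (Cfsg.Agent.S1426.result hG M hM E hE).2.1
  rw [hEbot] at h1426
  have hσ : Cfsg.sigmaCore M = ⊥ := by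
    rw [← h1426, eq_bot_iff, commutator_le]
    intro a ha b hb
    rw [mem_bot] at hb
    rw [hb, commutatorElement_one_right]
    exact one_mem _
  apply Cfsg.Agent.H9.BG12.coatom_ne_bot hG hM
  rw [eq_bot_iff]
  intro m hm
  obtain ⟨a, ha, b, hb, rfl⟩ := hE.2.2.2 m hm
  rw [hEbot, mem_bot] at ha
  rw [hσ, mem_bot] at hb
  rw [ha, hb, mul_one]; exact one_mem _

end Cfsg.Agent.Helper23.BG13SO
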