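import Mathlib
import Cfsg.Agent.Helper27.BG15A1
import Cfsg.Agent.Helper27.BG15A2

/-!
# A Frobenius-like group acting on an `s`-group with cyclic fixed point subgroups (part A)

Preparations for `isCyclic_of_frob_fixed`: elementary facts about cyclic groups and about
subgroups normalized by the acting groups.
-/

set_option autoImplicit false
set_option linter.unusedSectionVars false
set_option linter.unusedVariables false

namespace Cfsg.Agent.Helper23.FrobFix

open Subgroup Cfsg.Agent.Lead Cfsg.Agent.Helper27.BG15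

/-- in a finite cyclic group two elements of the same prime order generate the same subgroup -/
theorem mem_zpowers_of_orderOf_eq_prime {C : Type*} [Group C] [Finite C] [IsCyclic C] {s : ℕ}
    (hs : s.Prime) (x t : C) (hx : orderOf x = s) (ht : orderOf t = s) : x ∈ zpowers t := by
  classical
  have : Fintype C := Fintype.ofFinite C
  have h1 : (Finset.univ.filter (fun a : C => a ^ s = 1)).card ≤ s :=
    IsCyclic.card_pow_eq_one_le hs.pos
  have h2 : ((zpowers t : Set C).toFinset) ⊆ Finset.univ.filter (fun a : C => a ^ s = 1) := by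
    intro a ha
    rw [Set.mem_toFinset] at ha
    rw [Finset.mem_filter]
    refine ⟨Finset.mem_univ _, ?_⟩
    obtain ⟨k, rfl⟩ := ha
    rw [← zpow_natCast, ← zpow_mul, mul_comm, zpow_mul, zpow_natCast, ← ht, pow_orderOf_eq_one,
      one_zpow]
  have h3 : ((zpowers t : Set C).toFinset).card = s := by
    rw [Set.toFinset_card, ← Nat.card_eq_fintype_card]
    exact (Nat.card_zpowers t).trans ht
  have h4 : (zpowers t : Set C).toFinset = Finset.univ.filter (fun a : C => a ^ s = 1) :=
    Finset.eq_of_subset_of_card_le h2 (by rw [h3]; exact h1)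
  have h5 : x ∈ Finset.univ.filter (fun a : C => a ^ s = 1) := by
    rw [Finset.mem_filter]
    exact ⟨Finset.mem_univ _, by rw [← hx, pow_orderOf_eq_one]⟩
  rw [← h4, Set.mem_toFinset] at h5
  exact h5

variable {X : Type*} [Group X] [Finite X]

/-- a nontrivial `s`-subgroup of a cyclic subgroup contains every element of order `s` of it -/
theorem mem_of_le_cyclic (C T : Subgroup X) [IsCyclic C] (s : ℕ) [hs : Fact s.Prime] (hTC : T ≤ C)
    (hT : IsPGroup s T) (hT1 : T ≠ ⊥) (x : X) (hxC : x ∈ C) (hx : orderOf x = s) : x ∈ T := by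
  have hnt : Nontrivial T := (Subgroup.nontrivial_iff_ne_bot T).mpr hT1
  obtain ⟨n, hn⟩ := (IsPGroup.iff_card (p := s)).mp hT
  have hn0 : n ≠ 0 := by
    rintro rfl
    rw [pow_zero] at hn
    have := (Nat.card_eq_one_iff_unique.mp hn).1
    exact not_nontrivial T hnt
  have hdvd : s ∣ Nat.card T := by
    rw [hn]; exact dvd_pow_self s hn0
  obtain ⟨t, ht⟩ := exists_prime_orderOf_dvd_card' s hdvd
  have htC : (t : X) ∈ C := hTC t.2
  have hto : orderOf (⟨(t : X), htC⟩ : C) = s := by
    rw [← ht, ← Subgroup.orderOf_coe t]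
    exact Subgroup.orderOf_mk _ _
  have hxo : orderOf (⟨x, hxC⟩ : C) = s := by
    rw [← hx]
    exact Subgroup.orderOf_mk _ _
  obtain ⟨k, hk⟩ := mem_zpowers_of_orderOf_eq_prime hs.out (⟨x, hxC⟩ : C) ⟨(t : X), htC⟩ hxo hto
  have hk' : (t : X) ^ k = x := by
    have := congrArg (Subtype.val) hk
    simpa using this
  rw [← hk']
  exact T.zpow_mem t.2 k

/-- a group of order prime to `s` has order prime to the order of an `s`-group -/
theorem coprime_card_of_isPGroup {s : ℕ} [Fact s.Prime] {A T : Subgroup X} (hT : IsPGroup s T)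
    (h : (Nat.card A).Coprime s) : (Nat.card A).Coprime (Nat.card T) := by
  obtain ⟨n, hn⟩ := (IsPGroup.iff_card (p := s)).mp hT
  rw [hn]
  exact Nat.Coprime.pow_right n h

theorem isSolvable_of_isPGroup {s : ℕ} [Fact s.Prime] {T : Subgroup X} (hT : IsPGroup s T) :
    Group.IsSolvable T := by
  have := hT.isNilpotent
  infer_instance

/-- a subgroup centralizing `T` normalizes it -/
theorem le_normalizer_of_le_centralizer {A T : Subgroup X} (h : T ≤ centralizer (A : Set X)) :
    A ≤ normalizer (T : Set X) :=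
  (le_centralizer_iff.mp h).trans (centralizer_le_normalizer _)

/-- an element of order `s` in a nontrivial `s`-subgroup -/
theorem exists_orderOf_eq_of_ne_bot {s : ℕ} [hs : Fact s.Prime] {T : Subgroup X}
    (hT : IsPGroup s T) (hT1 : T ≠ ⊥) : ∃ x ∈ T, orderOf x = s := by
  have hnt : Nontrivial T := (Subgroup.nontrivial_iff_ne_bot T).mpr hT1
  obtain ⟨n, hn⟩ := (IsPGroup.iff_card (p := s)).mp hT
  have hn0 : n ≠ 0 := by
    rintro rfl
    rw [pow_zero] at hn
    have := (Nat.card_eq_one_iff_unique.mp hn).1
    exact not_nontrivial T hnt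
  have hdvd : s ∣ Nat.card T := by
    rw [hn]; exact dvd_pow_self s hn0
  obtain ⟨t, ht⟩ := exists_prime_orderOf_dvd_card' s hdvd
  exact ⟨(t : X), t.2, by rw [← ht, Subgroup.orderOf_coe]⟩

end Cfsg.Agent.Helper23.FrobFix
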