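import Mathlib
import Cfsg.Agent.Helper23.FrobFixA

/-!
# A Frobenius-like group acting on an `s`-group with cyclic fixed point subgroups (part B)

Steps (i) and (ii): every nontrivial invariant subgroup contains the chosen fixed element of order
`s`, and every abelian invariant subgroup is centralized by the kernel `Q`.
-/

set_option autoImplicit false
set_option linter.unusedSectionVars false
set_option linter.unusedVariables false

namespace Cfsg.Agent.Helper23.FrobFix

open Subgroup Cfsg.Agent.Lead Cfsg.Agent.Helper27.BG15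

variable {X : Type*} [Group X] [Finite X]

/-- step (i): a nontrivial invariant subgroup of `S` contains the fixed element `x` of order `s` -/
theorem step_i (S Q P : Subgroup X) (s : ℕ) [Fact s.Prime]
    (hPQ : P ≤ normalizer (Q : Set X))
    (hQs : (Nat.card Q).Coprime s) (hPs : (Nat.card P).Coprime s)
    (hfpf : ∀ k ∈ P, k ≠ 1 → Q ⊓ centralizer ({k} : Set X) = ⊥)
    (hCP : IsCyclic ↥(S ⊓ centralizer (P : Set X)))
    (hCQ : IsCyclic ↥(S ⊓ centralizer (Q : Set X)))
    (x : X) (hxS : x ∈ S) (hxP : x ∈ centralizer (P : Set X)) (hxQ : x ∈ centralizer (Q : Set X))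
    (hxo : orderOf x = s)
    (T : Subgroup X) (hTS : T ≤ S) (hT : IsPGroup s T) (hT1 : T ≠ ⊥)
    (hQT : Q ≤ normalizer (T : Set X)) (hPT : P ≤ normalizer (T : Set X)) : x ∈ T := by
  by_cases hTP : T ⊓ centralizer (P : Set X) = ⊥
  · have h1 : Q ≤ centralizer (T : Set X) :=
      frob_centralizes T Q P s hT hQT hPT hPQ hQs hPs hfpf hTP
    have h2 : T ≤ S ⊓ centralizer (Q : Set X) := le_inf hTS (le_centralizer_iff.mp h1)
    exact mem_of_le_cyclic (S ⊓ centralizer (Q : Set X)) T s h2 hT hT1 x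
      (mem_inf.mpr ⟨hxS, hxQ⟩) hxo
  · have h2 : T ⊓ centralizer (P : Set X) ≤ S ⊓ centralizer (P : Set X) :=
      inf_le_inf_right _ hTS
    have h3 : x ∈ T ⊓ centralizer (P : Set X) :=
      mem_of_le_cyclic (S ⊓ centralizer (P : Set X)) (T ⊓ centralizer (P : Set X)) s h2
        (hT.to_le inf_le_left) hTP x (mem_inf.mpr ⟨hxS, hxP⟩) hxo
    exact (mem_inf.mp h3).1

/-- step (ii): an abelian invariant subgroup of `S` is centralized by `Q` -/
theorem step_ii (S Q P : Subgroup X) (s : ℕ) [Fact s.Prime]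
    (hPQ : P ≤ normalizer (Q : Set X))
    (hQs : (Nat.card Q).Coprime s) (hPs : (Nat.card P).Coprime s)
    (hfpf : ∀ k ∈ P, k ≠ 1 → Q ⊓ centralizer ({k} : Set X) = ⊥)
    (hCP : IsCyclic ↥(S ⊓ centralizer (P : Set X)))
    (hCQ : IsCyclic ↥(S ⊓ centralizer (Q : Set X)))
    (x : X) (hxS : x ∈ S) (hxP : x ∈ centralizer (P : Set X)) (hxQ : x ∈ centralizer (Q : Set X))
    (hxo : orderOf x = s)
    (T : Subgroup X) (hTS : T ≤ S) (hT : IsPGroup s T) (hTab : IsMulCommutative T)
    (hQT : Q ≤ normalizer (T : Set X)) (hPT : P ≤ normalizer (T : Set X)) :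
    T ≤ centralizer (Q : Set X) := by
  rw [← commutator_eq_bot_iff_le_centralizer]
  by_contra hne
  have hWT : ⁅T, Q⁆ ≤ T := commutator_le_of_le_normalizer hQT
  have hx1 : x ≠ 1 := by
    rintro rfl
    rw [orderOf_one] at hxo
    exact (Fact.out : s.Prime).one_lt.ne hxo
  have hxW : x ∈ ⁅T, Q⁆ :=
    step_i S Q P s hPQ hQs hPs hfpf hCP hCQ x hxS hxP hxQ hxo ⁅T, Q⁆ (hWT.trans hTS)
      (hT.to_le hWT) hne (le_normalizer_commutator_right T Q)
      (le_normalizer_commutator_of_le hPT hPQ)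
  have hdec := (coprime_abelian_decomp Q T hQT (coprime_card_of_isPGroup hT hQs)).1
  have hmem : x ∈ (T ⊓ centralizer (Q : Set X)) ⊓ ⁅T, Q⁆ :=
    mem_inf.mpr ⟨mem_inf.mpr ⟨hWT hxW, hxQ⟩, hxW⟩
  rw [hdec, mem_bot] at hmem
  exact hx1 hmem

end Cfsg.Agent.Helper23.FrobFix
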