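import Mathlib
import Cfsg.Agent.Helper23.FrobFixB

/-!
# A Frobenius-like group acting on an `s`-group with cyclic fixed point subgroups (part C)

The quotient step: if all fixed points of `P` on `S` lie in an invariant normal subgroup `C0` of
`S`, then `P` has no fixed points on `S / C0`, hence `Q` centralizes `S / C0`.
-/

set_option autoImplicit false
set_option linter.unusedSectionVars false
set_option linter.unusedVariables false

namespace Cfsg.Agent.Helper23.FrobFix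

open Subgroup Cfsg.Agent.Lead Cfsg.Agent.Helper27.BG15
open scoped commutatorElement

variable {X : Type*} [Group X] [Finite X]

/-- the quotient step -/
theorem step_h (S Q P C0 : Subgroup X) (s : ℕ) [Fact s.Prime] (hS : IsPGroup s S)
    (hQS : Q ≤ normalizer (S : Set X)) (hPS : P ≤ normalizer (S : Set X))
    (hPQ : P ≤ normalizer (Q : Set X))
    (hQs : (Nat.card Q).Coprime s) (hPs : (Nat.card P).Coprime s)
    (hfpf : ∀ k ∈ P, k ≠ 1 → Q ⊓ centralizer ({k} : Set X) = ⊥)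
    (hC0S : C0 ≤ S) (hSC0 : S ≤ normalizer (C0 : Set X)) (hQC0 : Q ≤ normalizer (C0 : Set X))
    (hPC0 : P ≤ normalizer (C0 : Set X))
    (hY : S ⊓ centralizer (P : Set X) ≤ C0) : ⁅S, Q⁆ ≤ C0 := by
  have hC0 : IsPGroup s C0 := hS.to_le hC0S
  have hQC0bot : Q ⊓ C0 = ⊥ := (disjoint_of_coprime_natCard (coprime_card_of_isPGroup hC0 hQs)).eq_bot
  have hbS : IsPGroup s (bar C0 S) := isPGroup_bar C0 S hS
  have hbQS : bar C0 Q ≤ normalizer (bar C0 S : Set (RelQ C0)) := bar_le_normalizer_bar C0 hQS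
  have hbPS : bar C0 P ≤ normalizer (bar C0 S : Set (RelQ C0)) := bar_le_normalizer_bar C0 hPS
  have hbPQ : bar C0 P ≤ normalizer (bar C0 Q : Set (RelQ C0)) := bar_le_normalizer_bar C0 hPQ
  have hbQs : (Nat.card (bar C0 Q)).Coprime s :=
    Nat.Coprime.coprime_dvd_left (card_bar_dvd C0 Q) hQs
  have hbPs : (Nat.card (bar C0 P)).Coprime s :=
    Nat.Coprime.coprime_dvd_left (card_bar_dvd C0 P) hPs
  have hbfpf := bar_fpf C0 Q P hQC0 hPC0 hPQ hQC0bot hfpf
  have hbfix : bar C0 S ⊓ centralizer (bar C0 P : Set (RelQ C0)) = ⊥ := by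
    rw [eq_bot_iff]
    intro r hr
    obtain ⟨hrS, hrC⟩ := mem_inf.mp hr
    obtain ⟨y, hyN, hyS, rfl⟩ := (mem_bar_iff C0 S r).mp hrS
    obtain ⟨c, hc, hyc⟩ := exists_fixed_of_bar_centralized P S C0 hPS
      (coprime_card_of_isPGroup hS hPs) (Or.inr (isSolvable_of_isPGroup hS)) hC0S hSC0 hPC0 y hyS hrC
    have hcC0 : c ∈ C0 := hY hc
    have hyC0 : y ∈ C0 := by
      have e : y = c * (y⁻¹ * c)⁻¹ := by group
      rw [e]
      exact C0.mul_mem hcC0 (C0.inv_mem hyc)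
    rw [mem_bot, relMk_eq_one_iff]
    exact hyC0
  have hcent : bar C0 Q ≤ centralizer (bar C0 S : Set (RelQ C0)) :=
    frob_centralizes (bar C0 S) (bar C0 Q) (bar C0 P) s hbS hbQS hbPS hbPQ hbQs hbPs hbfpf hbfix
  rw [commutator_le]
  intro g hg q hq
  have h1 : relMk C0 ⟨q, hQC0 hq⟩ ∈ centralizer (bar C0 S : Set (RelQ C0)) :=
    hcent (relMk_mem_bar C0 Q (hQC0 hq) hq)
  rw [mem_centralizer_iff] at h1
  have h2 := h1 _ (relMk_mem_bar C0 S (hSC0 hg) hg)
  have h3 : q * g * q⁻¹ * g⁻¹ ∈ C0 := (relMk_commute_iff C0 q g (hQC0 hq) (hSC0 hg)).mp h2.symm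
  have e : ⁅g, q⁆ = (q * g * q⁻¹ * g⁻¹)⁻¹ := by
    rw [commutatorElement_def]; group
  rw [e]
  exact C0.inv_mem h3

end Cfsg.Agent.Helper23.FrobFix
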