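import Mathlib
import Cfsg.Agent.Helper23.FrobFixC

/-!
# A Frobenius-like group acting on an `s`-group with cyclic fixed point subgroups

`isCyclic_of_frob_fixed`: let `Q P` act on the `s`-group `S` (inside a finite group `X`), `P`
normalizing `Q` and every non-identity element of `P` acting fixed-point-freely on `Q`, the orders
of `Q` and `P` prime to `s`.  If `C_S(P)` and `C_S(Q)` are cyclic and `C_S(Q P) ≠ 1`, then `S` is
cyclic.
-/

set_option autoImplicit false
set_option linter.unusedSectionVars false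
set_option linter.unusedVariables false

namespace Cfsg.Agent.Helper23.FrobFix

open Subgroup Cfsg.Agent.Lead Cfsg.Agent.Helper27.BG15
open scoped commutatorElement

variable {X : Type*} [Group X] [Finite X]

/-- a subgroup of `S` containing the derived subgroup of `S` is normal in `S` -/
theorem le_normalizer_of_commutator_le {S C0 : Subgroup X} (hC0S : C0 ≤ S) (h : ⁅S, S⁆ ≤ C0) :
    S ≤ normalizer (C0 : Set X) := by
  have key : ∀ g ∈ S, ∀ c ∈ C0, g * c * g⁻¹ ∈ C0 := by
    intro g hg c hc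
    have h1 : ⁅g, c⁆ ∈ C0 := h (commutator_mem_commutator hg (hC0S hc))
    have e : g * c * g⁻¹ = ⁅g, c⁆ * c := by rw [commutatorElement_def]; group
    rw [e]
    exact C0.mul_mem h1 hc
  intro g hg
  rw [mem_normalizer_iff]
  intro c
  constructor
  · exact key g hg c
  · intro hc
    have := key g⁻¹ (S.inv_mem hg) _ hc
    have e : g⁻¹ * (g * c * g⁻¹) * g⁻¹⁻¹ = c := by group
    rwa [e] at this

/-- the derived subgroup of a nontrivial `s`-subgroup is a proper subgroup -/
theorem commutator_ne_self_of_isPGroup {s : ℕ} [Fact s.Prime] {S : Subgroup X} (hS : IsPGroup s S)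
    (hS1 : S ≠ ⊥) : ⁅S, S⁆ ≠ S := by
  intro heq
  have hnt : Nontrivial S := (nontrivial_iff_ne_bot S).mpr hS1
  have hsolv := isSolvable_of_isPGroup hS
  have hlt := Group.IsSolvable.commutator_lt_top_of_nontrivial ↥S
  have h1 : (commutator ↥S).map S.subtype = (⊤ : Subgroup S).map S.subtype := by
    rw [map_subtype_commutator, heq, ← MonoidHom.range_eq_map, range_subtype]
  exact hlt.ne (map_injective (subtype_injective S) h1)

theorem isCyclic_of_frob_fixed_aux (Q P : Subgroup X) (s : ℕ) [Fact s.Prime]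
    (hPQ : P ≤ normalizer (Q : Set X))
    (hQs : (Nat.card Q).Coprime s) (hPs : (Nat.card P).Coprime s)
    (hfpf : ∀ k ∈ P, k ≠ 1 → Q ⊓ centralizer ({k} : Set X) = ⊥) :
    ∀ (n : ℕ) (S : Subgroup X), Nat.card S = n → IsPGroup s S →
      Q ≤ normalizer (S : Set X) → P ≤ normalizer (S : Set X) →
      IsCyclic ↥(S ⊓ centralizer (P : Set X)) → IsCyclic ↥(S ⊓ centralizer (Q : Set X)) →
      S ⊓ centralizer (P : Set X) ⊓ centralizer (Q : Set X) ≠ ⊥ → IsCyclic ↥S := by
  intro n
  induction n using Nat.strong_induction_on with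
  | _ n ih =>
  intro S hn hS hQS hPS hCP hCQ hfix
  by_contra hnc
  -- the fixed element of order `s`
  obtain ⟨x, hxmem, hxo⟩ :=
    exists_orderOf_eq_of_ne_bot (hS.to_le (inf_le_left.trans inf_le_left)) hfix
  obtain ⟨hxSP, hxQ⟩ := mem_inf.mp hxmem
  obtain ⟨hxS, hxP⟩ := mem_inf.mp hxSP
  have hx1 : x ≠ 1 := by
    rintro rfl
    rw [orderOf_one] at hxo
    exact (Fact.out : s.Prime).one_lt.ne hxo
  have hC0S : S ⊓ centralizer (Q : Set X) ≤ S := inf_le_left
  have hC0Q : S ⊓ centralizer (Q : Set X) ≤ centralizer (Q : Set X) := inf_le_right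
  have hQC0 : Q ≤ normalizer ((S ⊓ centralizer (Q : Set X) : Subgroup X) : Set X) :=
    le_normalizer_inf_of_le hQS (le_normalizer_centralizer le_normalizer)
  have hPC0 : P ≤ normalizer ((S ⊓ centralizer (Q : Set X) : Subgroup X) : Set X) :=
    le_normalizer_inf_of_le hPS (le_normalizer_centralizer hPQ)
  have hC0ne : S ⊓ centralizer (Q : Set X) ≠ S := by
    intro h
    apply hnc
    rw [← h]
    exact hCQ
  -- (a) proper invariant subgroups lie in `C_S(Q)`
  have h_a : ∀ T : Subgroup X, T ≤ S → T ≠ S → Q ≤ normalizer (T : Set X) →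
      P ≤ normalizer (T : Set X) → T ≤ S ⊓ centralizer (Q : Set X) := by
    intro T hTS hTne hQT hPT
    have hT : IsPGroup s T := hS.to_le hTS
    by_cases hT1 : T = ⊥
    · rw [hT1]; exact bot_le
    have hxT : x ∈ T :=
      step_i S Q P s hPQ hQs hPs hfpf hCP hCQ x hxS hxP hxQ hxo T hTS hT hT1 hQT hPT
    have hlt : Nat.card T < n := by
      rw [← hn]
      by_contra hge
      push Not at hge
      exact hTne (eq_of_le_of_card_ge hTS hge)
    have hcyc : IsCyclic T := ih (Nat.card T) hlt T rfl hT hQT hPT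
      (Subgroup.isCyclic_of_le (inf_le_inf_right _ hTS :
        T ⊓ centralizer (P : Set X) ≤ S ⊓ centralizer (P : Set X)))
      (Subgroup.isCyclic_of_le (inf_le_inf_right _ hTS :
        T ⊓ centralizer (Q : Set X) ≤ S ⊓ centralizer (Q : Set X)))
      (by
        intro hbot
        have : x ∈ T ⊓ centralizer (P : Set X) ⊓ centralizer (Q : Set X) :=
          mem_inf.mpr ⟨mem_inf.mpr ⟨hxT, hxP⟩, hxQ⟩
        rw [hbot, mem_bot] at this
        exact hx1 this)
    have hab : IsMulCommutative T := IsCyclic.isMulCommutative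
    exact le_inf hTS
      (step_ii S Q P s hPQ hQs hPs hfpf hCP hCQ x hxS hxP hxQ hxo T hTS hT hab hQT hPT)
  -- (c) `P` centralizes `C_S(Q)`
  have hC0P : S ⊓ centralizer (Q : Set X) ≤ centralizer (P : Set X) := by
    have hab : IsMulCommutative ↥(S ⊓ centralizer (Q : Set X)) := IsCyclic.isMulCommutative
    rw [← commutator_eq_bot_iff_le_centralizer]
    by_contra hne
    have hW : ⁅S ⊓ centralizer (Q : Set X), P⁆ ≤ S ⊓ centralizer (Q : Set X) :=
      commutator_le_of_le_normalizer hPC0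
    have hxW : x ∈ ⁅S ⊓ centralizer (Q : Set X), P⁆ :=
      step_i S Q P s hPQ hQs hPs hfpf hCP hCQ x hxS hxP hxQ hxo _ (hW.trans hC0S)
        (hS.to_le (hW.trans hC0S)) hne (le_normalizer_of_le_centralizer (hW.trans hC0Q))
        (le_normalizer_commutator_right _ P)
    have hdec := (coprime_abelian_decomp P (S ⊓ centralizer (Q : Set X)) hPC0
      (coprime_card_of_isPGroup (hS.to_le hC0S) hPs)).1
    have hmem : x ∈ ((S ⊓ centralizer (Q : Set X)) ⊓ centralizer (P : Set X)) ⊓
        ⁅S ⊓ centralizer (Q : Set X), P⁆ :=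
      mem_inf.mpr ⟨mem_inf.mpr ⟨hW hxW, hxP⟩, hxW⟩
    rw [hdec, mem_bot] at hmem
    exact hx1 hmem
  -- (d) `[S, Q] = S`
  have hSQ : ⁅S, Q⁆ = S := by
    by_contra hne
    have hW : ⁅S, Q⁆ ≤ S := commutator_le_of_le_normalizer hQS
    have h1 : ⁅S, Q⁆ ≤ S ⊓ centralizer (Q : Set X) :=
      h_a ⁅S, Q⁆ hW hne (le_normalizer_commutator_right S Q)
        (le_normalizer_commutator_of_le hPS hPQ)
    have h2 : ⁅⁅S, Q⁆, Q⁆ = ⊥ := commutator_eq_bot_iff_le_centralizer.mpr (h1.trans hC0Q)
    have h3 := coprime_commutator_commutator Q S hQS (coprime_card_of_isPGroup hS hQs)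
      (Or.inr (isSolvable_of_isPGroup hS))
    rw [h2] at h3
    have h4 : S ≤ centralizer (Q : Set X) := commutator_eq_bot_iff_le_centralizer.mp h3.symm
    exact hC0ne (le_antisymm hC0S (le_inf le_rfl h4))
  -- (e) the derived subgroup lies in `C_S(Q)`, so the latter is normal in `S`
  have hS1 : S ≠ ⊥ := by
    intro h
    apply hnc
    rw [h]
    infer_instance
  have hder : ⁅S, S⁆ ≤ S ⊓ centralizer (Q : Set X) :=
    h_a ⁅S, S⁆ (commutator_le_self S) (commutator_ne_self_of_isPGroup hS hS1)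
      (le_normalizer_commutator_of_le hQS hQS) (le_normalizer_commutator_of_le hPS hPS)
  have hSC0 : S ≤ normalizer ((S ⊓ centralizer (Q : Set X) : Subgroup X) : Set X) :=
    le_normalizer_of_commutator_le hC0S hder
  -- (h) some fixed point of `P` lies outside `C_S(Q)`
  have hY : ¬ (S ⊓ centralizer (P : Set X) ≤ S ⊓ centralizer (Q : Set X)) := by
    intro hY
    have h1 := step_h S Q P (S ⊓ centralizer (Q : Set X)) s hS hQS hPS hPQ hQs hPs hfpf hC0S hSC0
      hQC0 hPC0 hY
    rw [hSQ] at h1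
    exact hC0ne (le_antisymm hC0S h1)
  -- (i) the fixed points of `P` are central in `S`
  have hYab : S ⊓ centralizer (P : Set X) ≤
      centralizer ((S ⊓ centralizer (P : Set X) : Subgroup X) : Set X) :=
    le_centralizer_iff_isMulCommutative.mpr IsCyclic.isMulCommutative
  have h3 : ⁅⁅S, P⁆, S ⊓ centralizer (P : Set X)⁆ = ⊥ := by
    apply commutator_commutator_eq_bot_of_rotate
    · have h4 : ⁅P, S ⊓ centralizer (P : Set X)⁆ = ⊥ := by
        rw [commutator_comm]
        exact commutator_eq_bot_iff_le_centralizer.mpr inf_le_right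
      rw [h4, commutator_bot_left]
    · apply commutator_eq_bot_iff_le_centralizer.mpr
      exact ((commutator_mono inf_le_left le_rfl).trans hder).trans hC0P
  have hsup : ⁅S, P⁆ ⊔ (S ⊓ centralizer (P : Set X)) = S :=
    coprime_commutator_sup_centralizer P S hPS (coprime_card_of_isPGroup hS hPs)
      (Or.inr (isSolvable_of_isPGroup hS))
  have hSY : S ≤ centralizer ((S ⊓ centralizer (P : Set X) : Subgroup X) : Set X) :=
    hsup.symm.le.trans (sup_le (commutator_eq_bot_iff_le_centralizer.mp h3) hYab)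
  have hYZ : S ⊓ centralizer (P : Set X) ≤ S ⊓ centralizer (S : Set X) :=
    le_inf inf_le_left (le_centralizer_iff.mp hSY)
  -- hence `S` is abelian
  have hZ : S ⊓ centralizer (S : Set X) = S := by
    by_contra hne
    have h5 := h_a (S ⊓ centralizer (S : Set X)) inf_le_left hne (le_normalizer_center_inf hQS)
      (le_normalizer_center_inf hPS)
    exact hY (hYZ.trans h5)
  have hSab : IsMulCommutative S := le_centralizer_iff_isMulCommutative.mp (inf_eq_left.mp hZ)
  have h6 := step_ii S Q P s hPQ hQs hPs hfpf hCP hCQ x hxS hxP hxQ hxo S le_rfl hS hSab hQS hPS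
  exact hC0ne (le_antisymm hC0S (le_inf le_rfl h6))

/-- **LEMMA X.**  A Frobenius-like group `Q P` acting on an `s`-group `S` with `C_S(P)` and
`C_S(Q)` cyclic and `C_S(Q P) ≠ 1`: then `S` is cyclic. -/
theorem isCyclic_of_frob_fixed {X : Type*} [Group X] [Finite X] (S Q P : Subgroup X) (s : ℕ)
    [Fact s.Prime] (hS : IsPGroup s S) (hQS : Q ≤ normalizer (S : Set X))
    (hPS : P ≤ normalizer (S : Set X)) (hPQ : P ≤ normalizer (Q : Set X))
    (hQs : (Nat.card Q).Coprime s) (hPs : (Nat.card P).Coprime s)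
    (hfpf : ∀ k ∈ P, k ≠ 1 → Q ⊓ centralizer ({k} : Set X) = ⊥)
    (hCP : IsCyclic ↥(S ⊓ centralizer (P : Set X)))
    (hCQ : IsCyclic ↥(S ⊓ centralizer (Q : Set X)))
    (hfix : S ⊓ centralizer (P : Set X) ⊓ centralizer (Q : Set X) ≠ ⊥) : IsCyclic ↥S :=
  isCyclic_of_frob_fixed_aux Q P s hPQ hQs hPs hfpf (Nat.card S) S rfl hS hQS hPS hCP hCQ hfix

end Cfsg.Agent.Helper23.FrobFix
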