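import Mathlib
import Cfsg.Prelude.Def_OddOrderLocal
import Cfsg.Agent.Helper23.BG132A
import Cfsg.Agent.Helper21.BG12h
import Cfsg.Agent.S1408
import Cfsg.Agent.S1409
import Cfsg.Agent.S1414
import Cfsg.Agent.S1415
import Cfsg.Agent.S1417

/-!
# B&G 13.1(b),(c) and 13.2(c), part B: the set-up

`M`, `H` nonconjugate maximal subgroups, `q ∈ σ(M)` dividing `|H'|`.  We construct a Sylow
`q`-subgroup `Q` of `H'` with `H = H_β N_H(Q)` and collect the consequences.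
-/

set_option autoImplicit false
set_option linter.unusedSectionVars false
set_option linter.unusedVariables false

namespace Cfsg.Agent.Helper23.BG132

open Subgroup Cfsg
open Cfsg.Agent.Helper14 (IsSylowIn cj map_cj_le_iff map_cj_mul map_cj_one map_cj_normalizer
  mem_normalizer_iff_map_cj map_cj_eq_self_of_mem le_normalizer_of_map_cj_le mem_map_cj
  exists_isSylowIn_ge exists_isSylowIn isSylowIn_of_sylow map_cj_map_cj_inv)

universe u

/-- Corollary E of B&G 12.15 (hypothesis form) -/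
def CorE (G : Type u) [Group G] : Prop :=
  ∀ (M L : Subgroup G), IsCoatom M → IsCoatom L → L ≠ M → ∀ (q : ℕ) [Fact q.Prime],
    q ∈ Cfsg.sigma M → ∀ (X : Subgroup G), IsPGroup q X → X ≠ ⊥ → X ≤ M →
    normalizer (X : Set G) ≤ L → ∀ (s : ℕ), s.Prime → s ∣ Nat.card M →
      s ∈ Cfsg.beta L ∨ ∃ T : Subgroup G, IsSylowIn s T L ∧ T ≤ M

/-- B&G 12.15 (e2) (hypothesis form) -/
def E2 (G : Type u) [Group G] : Prop :=
  ∀ (M L : Subgroup G), IsCoatom M → IsCoatom L → L ≠ M → ∀ (q : ℕ) [Fact q.Prime],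
    q ∈ Cfsg.sigma M → ∀ (X : Subgroup G), IsPGroup q X → X ≠ ⊥ → X ≤ M →
    normalizer (X : Set G) ≤ L → q ∉ Cfsg.sigma L → ∀ (s : ℕ), s.Prime → s ∣ Nat.card M →
      s ∈ Cfsg.sigma L → s ∈ Cfsg.beta L

variable {G : Type u} [Group G] [Finite G]

/-! ### `H_β` -/

theorem betaCore_le (H : Subgroup G) : Cfsg.piCoreOf (Cfsg.beta H) H ≤ H :=
  Cfsg.Agent.Lead.TT.piCoreOf_le _ H

theorem le_normalizer_betaCore (H : Subgroup G) :
    H ≤ normalizer ((Cfsg.piCoreOf (Cfsg.beta H) H : Subgroup G) : Set G) :=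
  Cfsg.Agent.Lead.TT.le_normalizer_map_subtype_of_normal H (Cfsg.piCore (Cfsg.beta H) ↥H)

theorem not_dvd_card_betaCore (hG : Cfsg.IsMinSimpleOddOrder G) {H : Subgroup G}
    (hH : IsCoatom H) {s : ℕ} (hs : s.Prime) (hsβ : s ∉ Cfsg.beta H) :
    ¬ s ∣ Nat.card ↥(Cfsg.piCoreOf (Cfsg.beta H) H) := fun hd =>
  hsβ ((Cfsg.Agent.S1414.result hG H hH).1.2.1 s hs hd)

theorem isSylowIn_ne_bot {T H : Subgroup G} {p : ℕ} [Fact p.Prime] (hT : IsSylowIn p T H)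
    (hd : p ∣ Nat.card H) : T ≠ ⊥ := by
  rintro rfl
  apply Cfsg.Agent.Helper10.not_dvd_relIndex_of_isSylowIn hT
  rw [Subgroup.relIndex_bot_left]
  exact hd

theorem ne_of_nc {M H : Subgroup G} (hnc : ∀ g : G, H ≠ M.map (cj g)) : H ≠ M := by
  intro h
  apply hnc 1
  rw [map_cj_one]
  exact h

/-- a maximal subgroup containing the normalizer of a nontrivial subgroup of `H` -/
theorem exists_coatom_normalizer_le (hG : Cfsg.IsMinSimpleOddOrder G) {H Q : Subgroup G}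
    (hH : IsCoatom H) (hQH : Q ≤ H) (hQ1 : Q ≠ ⊥) :
    ∃ N : Subgroup G, IsCoatom N ∧ normalizer (Q : Set G) ≤ N := by
  have hQt : Q ≠ ⊤ := fun h => hH.1 (top_le_iff.mp (h ▸ hQH))
  have hN : normalizer (Q : Set G) ≠ ⊤ :=
    Cfsg.Agent.Lead.TT.normalizer_ne_top_of_simple hG.2.1 hQ1 hQt
  exact (eq_top_or_exists_le_coatom (normalizer (Q : Set G))).resolve_left hN

/-! ### the Sylow `q`-subgroup `Q` of `H'` -/

theorem exists_Q (hG : Cfsg.IsMinSimpleOddOrder G) {H : Subgroup G} (hH : IsCoatom H) {q : ℕ}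
    [Fact q.Prime] (hqβ : q ∉ Cfsg.beta H) (hqd : q ∣ Nat.card ↥⁅H, H⁆) :
    ∃ Q : Subgroup G, IsPGroup q Q ∧ Q ≠ ⊥ ∧ Q ≤ ⁅H, H⁆ ∧
      H ≤ Cfsg.piCoreOf (Cfsg.beta H) H ⊔ (H ⊓ normalizer (Q : Set G)) := by
  have hq : q.Prime := Fact.out
  obtain ⟨hβ, -, ⟨N₀, hN₀, hN₀nil⟩, -, -⟩ := Cfsg.Agent.S1414.result hG H hH
  set Hβ := Cfsg.piCoreOf (Cfsg.beta H) H with hHβ
  set K : Subgroup G := ⁅H, H⁆ with hK
  have hKH : K ≤ H := commutator_le_self H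
  have hHK : H ≤ normalizer (K : Set G) :=
    Cfsg.Agent.Helper27.BG15.le_normalizer_commutator_of_le le_normalizer le_normalizer
  have hKsolv : Group.IsSolvable ↥K := Cfsg.Agent.H9.BG12.solvable_of_le_coatom hG hH hKH
  have hcop : (Nat.card N₀).Coprime (N₀.relIndex K) := by
    apply Nat.coprime_of_dvd
    intro k hk hk1 hk2
    exact hN₀.2.2 k hk (hN₀.2.1 k hk hk1) hk2
  obtain ⟨Q, hQ⟩ := exists_isSylowIn (p := q) N₀
  have hQK : Q ≤ K := hQ.1.trans hN₀.1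
  have hQrel : ¬ q ∣ Q.relIndex K := by
    rw [← Subgroup.relIndex_mul_relIndex Q N₀ K hQ.1 hN₀.1]
    intro hdvd
    rcases (Nat.Prime.dvd_mul hq).mp hdvd with h1 | h1
    · exact Cfsg.Agent.Helper10.not_dvd_relIndex_of_isSylowIn hQ h1
    · exact hN₀.2.2 q hq ⟨hq, hqβ⟩ h1
  have hQ1 : Q ≠ ⊥ := by
    rintro rfl
    apply hQrel
    rw [Subgroup.relIndex_bot_left]
    exact hqd
  have hNN : normalizer (N₀ : Set G) ≤ normalizer (Q : Set G) :=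
    Cfsg.Agent.Helper4.BG12SD.normalizer_le_normalizer_of_nilpotent_sylow hN₀nil hQ
  have hfr := Cfsg.Agent.Helper4.BG12SD.hall_frattini_cj hKH hHK hKsolv hN₀.1 hcop
  have hβK : Hβ ≤ K :=
    (Cfsg.Agent.Helper4.BG12SD.betaCore_le_sigmaCore hG hH).trans
      (Cfsg.Agent.Helper21.BG10.sigmaCore_le_commutator hG (Cfsg.Agent.Helper21.BG12.ctl hG) hH)
  have hKβN : K ≤ Hβ ⊔ N₀ := by
    rw [← Subgroup.relIndex_eq_one]
    apply Nat.eq_one_iff_not_exists_prime_dvd.2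
    intro p hp hpd
    have hd1 : p ∣ N₀.relIndex K :=
      hpd.trans (Subgroup.relIndex_dvd_of_le_left K (le_sup_right : N₀ ≤ Hβ ⊔ N₀))
    have hd2 : p ∣ Hβ.relIndex H := by
      have h1 : p ∣ Hβ.relIndex K :=
        hpd.trans (Subgroup.relIndex_dvd_of_le_left K (le_sup_left : Hβ ≤ Hβ ⊔ N₀))
      exact h1.trans (Dvd.intro _ (Subgroup.relIndex_mul_relIndex Hβ K H hβK hKH))
    have hpβ : p ∈ Cfsg.beta H := by
      by_contra hcon
      exact hN₀.2.2 p hp ⟨hp, hcon⟩ hd1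
    exact hβ.2.2 p hp hpβ hd2
  refine ⟨Q, hQ.2.1, hQ1, hQK, ?_⟩
  refine hfr.trans (sup_le (hKβN.trans (sup_le le_sup_left ?_)) ?_)
  · exact le_trans (le_inf (hN₀.1.trans hKH) (le_normalizer.trans hNN)) le_sup_right
  · exact le_trans (inf_le_inf_left _ hNN) le_sup_right

/-! ### the basic contradiction -/

/-- an elementary abelian `p`-subgroup of order `p²` of `M ∩ N'` (`p ∉ σ(M)`, `N' ≠ M`) and a
nontrivial `q`-subgroup of `M ∩ N'`, `q ∈ σ(M)`, cannot coexist -/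
theorem false_of_elementary_sq_le (hG : Cfsg.IsMinSimpleOddOrder G) {M N' : Subgroup G}
    (hM : IsCoatom M) (hN' : IsCoatom N') (hne : N' ≠ M) {q : ℕ} [Fact q.Prime]
    (hqM : q ∈ Cfsg.sigma M) {Q : Subgroup G} (hQq : IsPGroup q Q) (hQ1 : Q ≠ ⊥) (hQM : Q ≤ M)
    (hQN : Q ≤ N') {p : ℕ} [hp : Fact p.Prime] (hpM : p ∉ Cfsg.sigma M) {A : Subgroup G}
    (hAM : A ≤ M) (hAN : A ≤ N') (hAe : Cfsg.IsElementaryAbelian p A)
    (hAc : Nat.card A = p ^ 2) : False := by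
  have hlt : p ^ 1 < Nat.card A := by
    rw [hAc]
    exact Nat.pow_lt_pow_right hp.out.one_lt (by norm_num)
  have hτ : p ∈ Cfsg.tau2 M :=
    ⟨hp.out, hpM,
      Cfsg.Agent.Helper4.BG10.sigma'_pRankLE_two hG (Cfsg.Agent.Helper21.BG12.uniq hG) hM hpM,
      Cfsg.Agent.Lead.BG9.not_pRankLE_of_elementary hAM hAe hlt⟩
  have h := (Cfsg.Agent.S1417.result hG M hM p hτ A ⟨hAM, hAe, hAc⟩).2.2.2.2.1 N' hN' hne hAN
  have hQσ : Q ≤ Cfsg.sigmaCore M :=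
    Cfsg.Agent.H9.BG12.le_sigmaCore_of_isPGroup (Cfsg.Agent.Helper21.BG12.st1350 hG) hM hqM hQM
      hQq
  apply hQ1
  rw [eq_bot_iff, ← h]
  exact le_inf hQσ hQN

/-! ### divisibility of the order of a derived subgroup -/

/-- `p ∈ σ(H) ∪ τ₃(H)` dividing `|H|` divides `|H'|` -/
theorem dvd_card_commutator_of_sigma_or_tau3 (hG : Cfsg.IsMinSimpleOddOrder G) {H : Subgroup G}
    (hH : IsCoatom H) {p : ℕ} [Fact p.Prime] (hστ : p ∈ Cfsg.sigma H ∨ p ∈ Cfsg.tau3 H)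
    (hpdH : p ∣ Nat.card H) : p ∣ Nat.card ↥⁅H, H⁆ := by
  obtain ⟨T, hT⟩ := exists_isSylowIn (p := p) H
  have hT1 := isSylowIn_ne_bot hT hpdH
  have hTc := Cfsg.Agent.Helper21.BG13.le_commutator_of_mem_sigma_or_tau3 hG hH hστ hT.2.1 hT.1
  exact (Cfsg.Agent.Helper21.BG12.dvd_card_of_isPGroup_ne_bot hT.2.1 hT1).trans
    (card_dvd_of_le hTc)

/-- for `p ∈ τ₃(H)` and a complement `E` of `H_σ`: `p ∣ |E'|` -/
theorem dvd_card_commutator_compl (hG : Cfsg.IsMinSimpleOddOrder G) {H E : Subgroup G}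
    (hH : IsCoatom H) (hE : Cfsg.IsComplIn E (Cfsg.sigmaCore H) H) {p : ℕ} [Fact p.Prime]
    (hτ3 : p ∈ Cfsg.tau3 H) (hpdH : p ∣ Nat.card H) : p ∣ Nat.card ↥⁅E, E⁆ := by
  have hp : p.Prime := Fact.out
  have hcard := Cfsg.Agent.H9.BG12.card_mul_of_isComplIn hE
  have hpE : p ∣ Nat.card E := by
    rw [← hcard] at hpdH
    rcases (Nat.Prime.dvd_mul hp).mp hpdH with h | h
    · exact h
    · exact absurd h (Cfsg.Agent.Helper16.BG11.not_dvd_card_sigmaCore hτ3.2.1)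
  obtain ⟨T, hT⟩ := exists_isSylowIn (p := p) E
  have hT1 := isSylowIn_ne_bot hT hpE
  have hEsolv : Group.IsSolvable ↥E := Cfsg.Agent.H9.BG12.solvable_of_le_coatom hG hH hE.1
  obtain ⟨E₃, hE₃, hTE₃⟩ := Cfsg.Agent.Lead.exists_isPiHallOf_ge hEsolv hT.1
    (Cfsg.Agent.Helper21.BG13.isPiNum_of_isPGroup hτ3 hT.2.1)
  have h3 := ((Cfsg.Agent.S1415.result hG H hH E hE).2.2 E₃ hE₃).2.1
  exact (Cfsg.Agent.Helper21.BG12.dvd_card_of_isPGroup_ne_bot hT.2.1 hT1).trans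
    (card_dvd_of_le (hTE₃.trans h3))

end Cfsg.Agent.Helper23.BG132
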