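import Mathlib
import Cfsg.Prelude.Def_OddOrderLocal
import Cfsg.Agent.Helper23.BG132B

/-!
# B&G 13.1(b),(c)

`M`, `H` nonconjugate maximal subgroups, `q ∈ σ(M)` dividing `|H'|`, `p ∉ σ(M)` dividing `|M|` and
`|H|`.  Then (b) `p ∉ τ₂(H)`, and (c) if `p ∤ |M'|` and `p ∉ τ₁(H)` then `p` is an ideal prime.
-/

set_option autoImplicit false
set_option linter.unusedSectionVars false
set_option linter.unusedVariables false

namespace Cfsg.Agent.Helper23.BG132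

open Subgroup Cfsg
open Cfsg.Agent.Helper14 (IsSylowIn cj map_cj_le_iff map_cj_mul map_cj_one map_cj_normalizer
  mem_normalizer_iff_map_cj map_cj_eq_self_of_mem le_normalizer_of_map_cj_le mem_map_cj
  exists_isSylowIn_ge exists_isSylowIn isSylowIn_of_sylow map_cj_map_cj_inv)

universe u
variable {G : Type u} [Group G] [Finite G]

/-- **13.1(b)** with `Q ≤ M` -/
theorem not_mem_tau2 (hG : Cfsg.IsMinSimpleOddOrder G) (hE : CorE G) {M H : Subgroup G}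
    (hM : IsCoatom M) (hH : IsCoatom H) (hnc : ∀ g : G, H ≠ M.map (cj g)) {q : ℕ} [Fact q.Prime]
    (hqM : q ∈ Cfsg.sigma M) {Q : Subgroup G} (hQq : IsPGroup q Q) (hQ1 : Q ≠ ⊥) (hQM : Q ≤ M)
    (hQH : Q ≤ H)
    (hfac : H ≤ Cfsg.piCoreOf (Cfsg.beta H) H ⊔ (H ⊓ normalizer (Q : Set G)))
    {p : ℕ} [hp : Fact p.Prime] (hpM : p ∉ Cfsg.sigma M) (hpdM : p ∣ Nat.card M) :
    p ∉ Cfsg.tau2 H := by
  intro hτ
  have hni : ¬ Cfsg.IsIdealPrime p G :=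
    (Cfsg.Agent.S1408.result hG H hH p hτ.2.1 hτ.2.2.1 hτ.2.2.2).1
  have hpβ : ∀ N : Subgroup G, p ∉ Cfsg.beta N := fun N h => hni h.2
  have hHM : H ≠ M := ne_of_nc hnc
  obtain ⟨N, hN, hNQ⟩ := exists_coatom_normalizer_le hG hH hQH hQ1
  have hQN : Q ≤ N := le_normalizer.trans hNQ
  have hfacN : H ≤ Cfsg.piCoreOf (Cfsg.beta H) H ⊔ (H ⊓ N) :=
    hfac.trans (sup_le_sup_left (inf_le_inf_left _ hNQ) _)
  obtain ⟨T, hT, hTN⟩ := exists_isSylowIn_le_of_le_sup (betaCore_le H) (le_normalizer_betaCore H)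
    hfacN (not_dvd_card_betaCore hG hH hp.out (hpβ H))
  obtain ⟨A, hAT, hAe, hAc⟩ :=
    Cfsg.Agent.Helper21.BG12.exists_elementary_sq_le_sylow hτ.2.2.1 hτ.2.2.2 hT
  have hAH : A ≤ H := hAT.trans hT.1
  have hAN : A ≤ N := hAT.trans hTN
  by_cases hNM : N = M
  · subst hNM
    exact false_of_elementary_sq_le hG hN hH hHM hqM hQq hQ1 hQM hQH hpM hAN hAH hAe hAc
  by_cases hNH : N = H
  · subst hNH
    obtain ⟨S, hS, hQS⟩ := exists_isSylowIn_ge (le_inf hQM hQH) hQq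
    by_cases hqH : q ∈ Cfsg.sigma N
    · have hnil := (Cfsg.Agent.S1417.result hG N hH p hτ A ⟨hAH, hAe, hAc⟩).1
      exact Cfsg.Agent.Helper4.BG12SD.sigma_disjoint_of_nilpotent hG hM hH hnc hnil hqH hqM
    · obtain ⟨-, hcompl, -⟩ := Cfsg.Agent.Helper21.BG12.lem_12_15_e13 hG
        (Cfsg.Agent.Helper21.BG13.st1417 hG) (Cfsg.Agent.Helper21.BG13.st1418 hG)
        (Cfsg.Agent.Helper21.BG12.nc1210 hG) hM hH hHM hqM hQq hQ1 hQM hNQ hS hQS hqH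
      obtain ⟨A', hA'F, hA'e, hA'c⟩ :=
        Cfsg.Agent.Helper21.BG13.exists_elementary_sq_le_compl hG hH hcompl hτ
      exact false_of_elementary_sq_le hG hM hH hHM hqM hQq hQ1 hQM hQH hpM
        (hA'F.trans inf_le_left) (hA'F.trans inf_le_right) hA'e hA'c
  · rcases hE M N hM hN hNM q hqM Q hQq hQ1 hQM hNQ p hp.out hpdM with hβ | ⟨T', hT', hT'M⟩
    · exact hpβ N hβ
    · obtain ⟨U, hU, hAU⟩ :=
        exists_isSylowIn_ge hAN (Cfsg.Agent.Helper4.BG10.isPGroup_of_elementary hAe)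
      obtain ⟨n, hn, rfl⟩ := hT'.exists_conj hU
      have h1 : A.map (cj n⁻¹) ≤ T' := by
        rw [map_cj_le_iff, inv_inv]; exact hAU
      have h2 : A.map (cj n⁻¹) ≤ N := by
        have := Subgroup.map_mono (f := cj n⁻¹) hAN
        rwa [map_cj_eq_self_of_mem (N.inv_mem hn)] at this
      have h3 : Nat.card ↥(A.map (cj n⁻¹)) = p ^ 2 := by
        rw [Cfsg.Agent.Helper21.BG12.card_map_cj]; exact hAc
      exact false_of_elementary_sq_le hG hM hN hNM hqM hQq hQ1 hQM hQN hpM (h1.trans hT'M) h2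
        (Cfsg.Agent.Helper26.isElementaryAbelian_map (cj n⁻¹) hAe) h3

/-- **13.1(c)** with `Q ≤ M` -/
theorem ideal_of_not_dvd (hG : Cfsg.IsMinSimpleOddOrder G) (hE : CorE G) (hE2 : E2 G)
    {M H : Subgroup G}
    (hM : IsCoatom M) (hH : IsCoatom H) (hnc : ∀ g : G, H ≠ M.map (cj g)) {q : ℕ} [Fact q.Prime]
    (hqM : q ∈ Cfsg.sigma M) {Q : Subgroup G} (hQq : IsPGroup q Q) (hQ1 : Q ≠ ⊥) (hQM : Q ≤ M)
    (hQH : Q ≤ H)
    (hfac : H ≤ Cfsg.piCoreOf (Cfsg.beta H) H ⊔ (H ⊓ normalizer (Q : Set G)))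
    {p : ℕ} [hp : Fact p.Prime] (hpM : p ∉ Cfsg.sigma M) (hpdM : p ∣ Nat.card M)
    (hpdH : p ∣ Nat.card H) (hpc : ¬ p ∣ Nat.card ↥⁅M, M⁆) (hpτ1 : p ∉ Cfsg.tau1 H) :
    Cfsg.IsIdealPrime p G := by
  by_contra hni
  have hU := Cfsg.Agent.Helper21.BG12.uniq hG
  have hpβ : ∀ N : Subgroup G, p ∉ Cfsg.beta N := fun N h => hni h.2
  have hHM : H ≠ M := ne_of_nc hnc
  have hpτ2 : p ∉ Cfsg.tau2 H :=
    not_mem_tau2 hG hE hM hH hnc hqM hQq hQ1 hQM hQH hfac hpM hpdM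
  -- `p ∈ σ(H) ∪ τ₃(H)`
  have hστ : p ∈ Cfsg.sigma H ∨ p ∈ Cfsg.tau3 H := by
    by_cases hσ : p ∈ Cfsg.sigma H
    · exact Or.inl hσ
    · right
      have hr2 := Cfsg.Agent.Helper4.BG10.sigma'_pRankLE_two hG hU hH hσ
      have hr1 : Cfsg.PRankLE p 1 H := by
        by_contra h
        exact hpτ2 ⟨hp.out, hσ, hr2, h⟩
      have hd : p ∣ Nat.card ↥⁅H, H⁆ := by
        by_contra h
        exact hpτ1 ⟨hp.out, hσ, hpdH, h, hr1⟩
      exact ⟨hp.out, hσ, hd, hr1⟩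
  have hpd' : p ∣ Nat.card ↥⁅H, H⁆ := dvd_card_commutator_of_sigma_or_tau3 hG hH hστ hpdH
  obtain ⟨N, hN, hNQ⟩ := exists_coatom_normalizer_le hG hH hQH hQ1
  have hQN : Q ≤ N := le_normalizer.trans hNQ
  have hfacN : H ≤ Cfsg.piCoreOf (Cfsg.beta H) H ⊔ (H ⊓ N) :=
    hfac.trans (sup_le_sup_left (inf_le_inf_left _ hNQ) _)
  have hC3 : p ∣ Nat.card ↥⁅H ⊓ N, H ⊓ N⁆ :=
    dvd_card_commutator_inf hp.out (le_normalizer_betaCore H) hfacN
      (not_dvd_card_betaCore hG hH hp.out (hpβ H)) hpd'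
  by_cases hNM : N = M
  · subst hNM
    exact hpc (hC3.trans (card_dvd_of_le (commutator_mono inf_le_right inf_le_right)))
  by_cases hNH : N = H
  · subst hNH
    obtain ⟨S, hS, hQS⟩ := exists_isSylowIn_ge (le_inf hQM hQH) hQq
    by_cases hqH : q ∈ Cfsg.sigma N
    · obtain ⟨-, hNS, hSH⟩ := Cfsg.Agent.H9.BG12.lem_12_15 (Cfsg.Agent.Helper21.BG12.ctl hG)
        (Cfsg.Agent.Helper21.BG12.nc1210 hG) hM hqM hQq hQ1 hQM hH hHM hNQ hS hQS
      have hd1 := Cfsg.Agent.Helper4.BG12SD.lem_12_15_d1 hG hM hH hnc hqM hqH hSH hNS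
      rw [inf_comm] at hd1
      have h4 : p ∣ Nat.card ↥⁅N ⊓ M, N ⊓ M⁆ :=
        dvd_card_commutator_inf hp.out (le_normalizer_betaCore N) hd1
          (not_dvd_card_betaCore hG hH hp.out (hpβ N)) hpd'
      exact hpc (h4.trans (card_dvd_of_le (commutator_mono inf_le_right inf_le_right)))
    · obtain ⟨-, hcompl, -⟩ := Cfsg.Agent.Helper21.BG12.lem_12_15_e13 hG
        (Cfsg.Agent.Helper21.BG13.st1417 hG) (Cfsg.Agent.Helper21.BG13.st1418 hG)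
        (Cfsg.Agent.Helper21.BG12.nc1210 hG) hM hH hHM hqM hQq hQ1 hQM hNQ hS hQS hqH
      have hpσH : p ∉ Cfsg.sigma N := fun h =>
        hpβ N (hE2 M N hM hH hHM q hqM Q hQq hQ1 hQM hNQ hqH p hp.out hpdM h)
      have hτ3 : p ∈ Cfsg.tau3 N := hστ.resolve_left hpσH
      have h4 := dvd_card_commutator_compl hG hH hcompl hτ3 hpdH
      exact hpc (h4.trans (card_dvd_of_le (commutator_mono inf_le_left inf_le_left)))
  · have hpdN' : p ∣ Nat.card ↥⁅N, N⁆ :=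
      hC3.trans (card_dvd_of_le (commutator_mono inf_le_right inf_le_right))
    have hpdN : p ∣ Nat.card N := hpdN'.trans (card_dvd_of_le (commutator_le_self N))
    obtain ⟨S, hS, hQS⟩ := exists_isSylowIn_ge (le_inf hQM hQN) hQq
    by_cases hqN : q ∈ Cfsg.sigma N
    · obtain ⟨hnc', hNS, hSN⟩ := Cfsg.Agent.H9.BG12.lem_12_15 (Cfsg.Agent.Helper21.BG12.ctl hG)
        (Cfsg.Agent.Helper21.BG12.nc1210 hG) hM hqM hQq hQ1 hQM hN hNM hNQ hS hQS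
      have hd1 := Cfsg.Agent.Helper4.BG12SD.lem_12_15_d1 hG hM hN hnc' hqM hqN hSN hNS
      rw [inf_comm] at hd1
      have h4 : p ∣ Nat.card ↥⁅N ⊓ M, N ⊓ M⁆ :=
        dvd_card_commutator_inf hp.out (le_normalizer_betaCore N) hd1
          (not_dvd_card_betaCore hG hN hp.out (hpβ N)) hpdN'
      exact hpc (h4.trans (card_dvd_of_le (commutator_mono inf_le_right inf_le_right)))
    · obtain ⟨-, hcompl, -⟩ := Cfsg.Agent.Helper21.BG12.lem_12_15_e13 hG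
        (Cfsg.Agent.Helper21.BG13.st1417 hG) (Cfsg.Agent.Helper21.BG13.st1418 hG)
        (Cfsg.Agent.Helper21.BG12.nc1210 hG) hM hN hNM hqM hQq hQ1 hQM hNQ hS hQS hqN
      have hpσN : p ∉ Cfsg.sigma N := fun h =>
        hpβ N (hE2 M N hM hN hNM q hqM Q hQq hQ1 hQM hNQ hqN p hp.out hpdM h)
      have hr2 := Cfsg.Agent.Helper4.BG10.sigma'_pRankLE_two hG hU hN hpσN
      have hr1 : Cfsg.PRankLE p 1 N := by
        by_contra h
        have hτN : p ∈ Cfsg.tau2 N := ⟨hp.out, hpσN, hr2, h⟩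
        obtain ⟨A', hA'F, hA'e, hA'c⟩ :=
          Cfsg.Agent.Helper21.BG13.exists_elementary_sq_le_compl hG hN hcompl hτN
        exact false_of_elementary_sq_le hG hM hN hNM hqM hQq hQ1 hQM hQN hpM
          (hA'F.trans inf_le_left) (hA'F.trans inf_le_right) hA'e hA'c
      have hτ3 : p ∈ Cfsg.tau3 N := ⟨hp.out, hpσN, hpdN', hr1⟩
      have h4 := dvd_card_commutator_compl hG hN hcompl hτ3 hpdN
      exact hpc (h4.trans (card_dvd_of_le (commutator_mono inf_le_left inf_le_left)))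

/-- **B&G 13.1(b),(c)** -/
theorem lemma_13_1_bc (hG : Cfsg.IsMinSimpleOddOrder G) (hE : CorE G) (hE2 : E2 G)
    {M H : Subgroup G}
    (hM : IsCoatom M) (hH : IsCoatom H) (hnc : ∀ g : G, H ≠ M.map (cj g)) {q : ℕ} [Fact q.Prime]
    (hqM : q ∈ Cfsg.sigma M) (hqd : q ∣ Nat.card ↥⁅H, H⁆)
    {p : ℕ} [hp : Fact p.Prime] (hpM : p ∉ Cfsg.sigma M) (hpdM : p ∣ Nat.card M)
    (hpdH : p ∣ Nat.card H) :
    p ∉ Cfsg.tau2 H ∧
      (¬ p ∣ Nat.card ↥⁅M, M⁆ → p ∉ Cfsg.tau1 H → Cfsg.IsIdealPrime p G) := by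
  have hqβ : q ∉ Cfsg.beta H := fun h =>
    Cfsg.Agent.Helper4.BG12SD.alpha_sigma_disjoint hG hM hH hnc h.1 hqM
  obtain ⟨Q, hQq, hQ1, hQK, hfac⟩ := exists_Q hG hH hqβ hqd
  have hQH : Q ≤ H := hQK.trans (commutator_le_self H)
  obtain ⟨g, Q', hQ', hQg⟩ := Cfsg.Agent.Helper4.BG12SD.exists_conj_ge_of_mem_sigma hqM hQq
  have hQM1 : Q ≤ M.map (cj g) := hQg.trans (Subgroup.map_mono hQ'.1)
  have hM1 : IsCoatom (M.map (cj g)) := Cfsg.Agent.Lead.BG9.isCoatom_map_cj hM g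
  have hqM1 : q ∈ Cfsg.sigma (M.map (cj g)) := Cfsg.Agent.Helper16.BG11.mem_sigma_map_cj g hqM
  have hpM1 : p ∉ Cfsg.sigma (M.map (cj g)) := by
    intro h
    have h1 := Cfsg.Agent.Helper16.BG11.mem_sigma_map_cj g⁻¹ h
    rw [map_cj_map_cj_inv] at h1
    exact hpM h1
  have hcard1 : Nat.card ↥(M.map (cj g)) = Nat.card M := Cfsg.Agent.Helper21.BG12.card_map_cj M g
  have hnc1 : ∀ g' : G, H ≠ (M.map (cj g)).map (cj g') := by
    intro g'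
    rw [map_cj_mul]
    exact hnc (g' * g)
  have hcomm1 : Nat.card ↥⁅M.map (cj g), M.map (cj g)⁆ = Nat.card ↥⁅M, M⁆ := by
    rw [← Subgroup.map_commutator]
    exact Cfsg.Agent.Helper21.BG12.card_map_cj _ g
  refine ⟨?_, ?_⟩
  · exact not_mem_tau2 hG hE hM1 hH hnc1 hqM1 hQq hQ1 hQM1 hQH hfac hpM1 (hcard1 ▸ hpdM)
  · intro hpc hpτ1
    exact ideal_of_not_dvd hG hE hE2 hM1 hH hnc1 hqM1 hQq hQ1 hQM1 hQH hfac hpM1
      (hcard1 ▸ hpdM) hpdH (hcomm1 ▸ hpc) hpτ1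

end Cfsg.Agent.Helper23.BG132
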