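import Mathlib
import Cfsg.Prelude.Def_OddOrderLocal
import Cfsg.Agent.Helper23.BG132C
import Cfsg.Agent.Helper4.BG12E

/-!
# B&G Lemma 13.2(c)

`p ∈ τ₁(M) ∪ τ₃(M)`, `P ≤ M` of order `p`, `N_G(P) ≤ H`, and `M ∩ H` does not centralize
`M_σ ∩ H`.  Then `p ∈ σ(H)`, and `p ∈ β(H)` if `p ∈ τ₁(M)`.
-/

set_option autoImplicit false
set_option linter.unusedSectionVars false
set_option linter.unusedVariables false

namespace Cfsg.Agent.Helper23.BG132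

open Subgroup Cfsg
open Cfsg.Agent.Helper14 (IsSylowIn cj map_cj_le_iff map_cj_mul map_cj_one map_cj_normalizer
  mem_normalizer_iff_map_cj map_cj_eq_self_of_mem le_normalizer_of_map_cj_le mem_map_cj
  exists_isSylowIn_ge exists_isSylowIn isSylowIn_of_sylow map_cj_map_cj_inv)

universe u
variable {G : Type u} [Group G] [Finite G]

/-- a maximal subgroup containing a Sylow `p`-subgroup of `G` has the `p`-rank of `G` -/
theorem not_pRankLE_two_of_sigma {H : Subgroup G} {p : ℕ} [hp : Fact p.Prime]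
    (hσ : p ∈ Cfsg.sigma H) (h : ¬ Cfsg.PRankLE p 2 G) : ¬ Cfsg.PRankLE p 2 H := by
  unfold Cfsg.PRankLE at h
  push Not at h
  obtain ⟨A, hAc, hAe, hAcard⟩ := h
  have hAel : Cfsg.IsElementaryAbelian p A := ⟨hAc, hAe⟩
  obtain ⟨T, hT⟩ := exists_isSylowIn (p := p) H
  have hTtop := Cfsg.Agent.Helper4.BG10.sigma_isSylowIn_top hσ hT
  obtain ⟨U, hU, hAU⟩ := exists_isSylowIn_ge (le_top : A ≤ ⊤)
    (Cfsg.Agent.Helper4.BG10.isPGroup_of_elementary hAel)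
  have : Finite ↥(⊤ : Subgroup G) := inferInstance
  obtain ⟨g, -, rfl⟩ := hTtop.exists_conj hU
  have h1 : A.map (cj g⁻¹) ≤ T := by
    rw [map_cj_le_iff, inv_inv]; exact hAU
  exact Cfsg.Agent.Lead.BG9.not_pRankLE_of_elementary (h1.trans hT.1)
    (Cfsg.Agent.Helper26.isElementaryAbelian_map (cj g⁻¹) hAel)
    (by rw [Cfsg.Agent.Helper21.BG12.card_map_cj]; exact hAcard)

/-- **B&G Lemma 13.2(c)**, relative to Corollary E of 12.15 -/
theorem lemma_13_2_c_of (hG : Cfsg.IsMinSimpleOddOrder G) (hE : CorE G) (hE2 : E2 G)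
    {M H : Subgroup G} (hM : IsCoatom M) (hH : IsCoatom H) {p : ℕ} [hp : Fact p.Prime]
    (hp' : p ∈ Cfsg.tau1 M ∨ p ∈ Cfsg.tau3 M) {P : Subgroup G} (hPM : P ≤ M)
    (hPc : Nat.card P = p) (hNP : normalizer (P : Set G) ≤ H)
    (hne : ¬ (M ⊓ H ≤ centralizer ((Cfsg.sigmaCore M ⊓ H : Subgroup G) : Set G))) :
    p ∈ Cfsg.sigma H ∧ (p ∈ Cfsg.tau1 M → p ∈ Cfsg.beta H) := by
  have hpM : p ∉ Cfsg.sigma M := by
    rcases hp' with h | h
    · exact h.2.1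
    · exact h.2.1
  have hr1 : Cfsg.PRankLE p 1 M := by
    rcases hp' with h | h
    · exact h.2.2.2.2
    · exact h.2.2.2
  have hpdM : p ∣ Nat.card M := by
    have := card_dvd_of_le hPM
    rwa [hPc] at this
  have hPH : P ≤ H := le_normalizer.trans hNP
  have hpdH : p ∣ Nat.card H := by
    have := card_dvd_of_le hPH
    rwa [hPc] at this
  -- the prime `q`
  obtain ⟨q, hq, hqM, hqd⟩ : ∃ q : ℕ, q.Prime ∧ q ∈ Cfsg.sigma M ∧ q ∣ Nat.card ↥⁅H, H⁆ := by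
    have hID : M ⊓ H ≤ normalizer ((Cfsg.sigmaCore M ⊓ H : Subgroup G) : Set G) := by
      refine le_trans ?_ (Cfsg.Agent.Helper7.normalizer_inf_normalizer_le_normalizer_inf _ _)
      exact le_inf (inf_le_left.trans (Cfsg.Agent.Helper21.BG10.le_normalizer_sigmaCore M))
        (inf_le_right.trans le_normalizer)
    have hW : ⁅Cfsg.sigmaCore M ⊓ H, M ⊓ H⁆ ≠ ⊥ := by
      intro h
      rw [commutator_comm, commutator_eq_bot_iff_le_centralizer] at h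
      exact hne h
    have hWD : ⁅Cfsg.sigmaCore M ⊓ H, M ⊓ H⁆ ≤ Cfsg.sigmaCore M ⊓ H :=
      Cfsg.Agent.Lead.commutator_le_of_le_normalizer hID
    have hWc : ⁅Cfsg.sigmaCore M ⊓ H, M ⊓ H⁆ ≤ ⁅H, H⁆ :=
      commutator_mono inf_le_right inf_le_right
    have hcard : Nat.card ↥⁅Cfsg.sigmaCore M ⊓ H, M ⊓ H⁆ ≠ 1 :=
      fun h => hW (Subgroup.card_eq_one.mp h)
    obtain ⟨q, hq, hqd⟩ := Nat.exists_prime_and_dvd hcard
    exact ⟨q, hq, Cfsg.Agent.H9.BG12.mem_sigma_of_dvd_card_sigmaCore hq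
      (hqd.trans (card_dvd_of_le (hWD.trans inf_le_left))), hqd.trans (card_dvd_of_le hWc)⟩
  have : Fact q.Prime := ⟨hq⟩
  by_cases hσH : p ∈ Cfsg.sigma H
  · refine ⟨hσH, fun hτ1 => ?_⟩
    have hnc : ∀ g : G, H ≠ M.map (cj g) := by
      intro g h
      apply hpM
      have h1 : p ∈ Cfsg.sigma (M.map (cj g)) := h ▸ hσH
      have h2 := Cfsg.Agent.Helper16.BG11.mem_sigma_map_cj g⁻¹ h1
      rwa [map_cj_map_cj_inv] at h2
    have hbc := lemma_13_1_bc hG hE hE2 hM hH hnc hqM hqd hpM hpdM hpdH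
    have hideal := hbc.2 hτ1.2.2.2.1 (fun h => h.2.1 hσH)
    exact ⟨⟨hp.out, not_pRankLE_two_of_sigma hσH hideal.2.1⟩, hideal⟩
  · exfalso
    obtain ⟨⟨hr2H, hr1H⟩, -, -⟩ := Cfsg.Agent.S1409.result hG H hH p hσH P hPc hNP
    have hnc : ∀ g : G, H ≠ M.map (cj g) := by
      intro g h
      apply hr1H
      rw [h]
      exact Cfsg.Agent.H9.BG12.pRankLE_map_cj g hr1
    exact (lemma_13_1_bc hG hE hE2 hM hH hnc hqM hqd hpM hpdM hpdH).1
      ⟨hp.out, hσH, hr2H, hr1H⟩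

theorem corE (hG : Cfsg.IsMinSimpleOddOrder G) : CorE G :=
  fun M L hM hL hLM q _ hqM X hXq hX1 hXM hNX s hs hsM =>
    Cfsg.Agent.Helper4.BG12E.cor_12_15_E hG hM hL hLM hqM hXq hX1 hXM hNX hs hsM

theorem e2 (hG : Cfsg.IsMinSimpleOddOrder G) : E2 G :=
  fun M L hM hL hLM q _ hqM X hXq hX1 hXM hNX hqL s hs hsM hsL =>
    Cfsg.Agent.Helper4.BG12E.lem_12_15_e2 hG hM hL hLM hqM hXq hX1 hXM hNX hqL hs hsM hsL

/-- **B&G Lemma 13.2(c)** -/
theorem lemma_13_2_c (hG : Cfsg.IsMinSimpleOddOrder G) {M H : Subgroup G} (hM : IsCoatom M)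
    (hH : IsCoatom H) {p : ℕ} [Fact p.Prime] (hp : p ∈ Cfsg.tau1 M ∨ p ∈ Cfsg.tau3 M)
    {P : Subgroup G} (hPM : P ≤ M) (hPc : Nat.card P = p) (hNP : normalizer (P : Set G) ≤ H)
    (hne : ¬ (M ⊓ H ≤ centralizer ((Cfsg.sigmaCore M ⊓ H : Subgroup G) : Set G))) :
    p ∈ Cfsg.sigma H ∧ (p ∈ Cfsg.tau1 M → p ∈ Cfsg.beta H) :=
  lemma_13_2_c_of hG (corE hG) (e2 hG) hM hH hp hPM hPc hNP hne

end Cfsg.Agent.Helper23.BG132
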