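import Mathlib
import Cfsg.Prelude.Def_OddOrderLocal
import Cfsg.Agent.Helper23.BG13SOa
import Cfsg.Agent.Lead.BG142b
import Cfsg.Agent.S1427
import Cfsg.Agent.S1428

/-!
# B&G 13.9 (σ-partition), part B: prime action of `E₁` on `M_σ` (B&G 13.5) and `C_M(E₁)`
-/

set_option autoImplicit false
set_option linter.unusedSectionVars false
set_option linter.unusedVariables false
set_option linter.style.haveILetI false

namespace Cfsg.Agent.Helper23.BG13SO

open Subgroup Cfsg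
open Cfsg.Agent.Lead (IsPiNum isPiHallOf_iff pi_split_unique relIndex_mul_card')
open Cfsg.Agent.H9.BG12 (St1350 isPiHallOf_compl card_mul_of_isComplIn)

universe u
variable {G : Type u} [Group G] [Finite G]

theorem hall1_le_centralizer_self (hG : Cfsg.IsMinSimpleOddOrder G) {M E E₁ : Subgroup G}
    (hM : IsCoatom M) (hE : Cfsg.IsComplIn E (Cfsg.sigmaCore M) M)
    (hE₁ : Cfsg.IsPiHallOf (Cfsg.tau1 M) E₁ E) : E₁ ≤ centralizer (E₁ : Set G) := by
  have hE₁c : IsCyclic E₁ := (Cfsg.Agent.S1415.result hG M hM E hE).2.1 E₁ hE₁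
  intro a ha
  rw [mem_centralizer_iff]
  intro b hb
  letI := hE₁c
  letI : CommGroup E₁ := IsCyclic.commGroup
  exact congrArg Subtype.val (mul_comm (⟨b, hb⟩ : E₁) ⟨a, ha⟩)

/-- **B&G 13.5**: `E₁` acts in a prime manner on `M_σ` (when `τ₂(M) = ∅`) -/
theorem prime_action (hG : Cfsg.IsMinSimpleOddOrder G) {M E E₁ : Subgroup G}
    (hM : IsCoatom M) (hE : Cfsg.IsComplIn E (Cfsg.sigmaCore M) M) (h2 : NoTau2 M)
    (hE₁ : Cfsg.IsPiHallOf (Cfsg.tau1 M) E₁ E) :
    ∀ k ∈ E₁, k ≠ 1 → Cfsg.sigmaCore M ⊓ centralizer ({k} : Set G) =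
      Cfsg.sigmaCore M ⊓ centralizer (E₁ : Set G) := by
  have hH := isPiHallOf_compl (st1350 hG) hM hE
  have hab := hall1_le_centralizer_self hG hM hE hE₁
  apply Cfsg.Agent.Lead.BG142.semiprime_of_prime hG
    (fun M hM E hE p _ S h1 h2 => Cfsg.Agent.S1427.result hG M hM E hE p S h1 h2) hM hE hE₁.1
  · intro q hq hd
    exact h2 q hq (hH.2.1 q hq (hd.trans (Subgroup.card_dvd_of_le hE₁.1)))
  · intro R₁ R₂ hR₁ hR₂ hc₁ hc₂
    have hτ : Nat.card R₁ ∈ Cfsg.tau1 M := hE₁.2.1 _ hc₁ (Subgroup.card_dvd_of_le hR₁)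
    refine Cfsg.Agent.S1428.result hG M hM E hE (Nat.card R₁) hτ R₁ (hR₁.trans hE₁.1) rfl R₂ ?_ hc₂
    refine le_inf (hR₂.trans hE₁.1) ?_
    exact (hR₂.trans hab).trans (centralizer_le (by exact_mod_cast hR₁))

/-- `C_{M_σ}(E₁) ≠ 1` when the primes of `τ₁(M)` lie in `κ(M)` -/
theorem hall1_inf_centralizer_ne_bot (hG : Cfsg.IsMinSimpleOddOrder G) {M E E₁ : Subgroup G}
    (hM : IsCoatom M) (hE : Cfsg.IsComplIn E (Cfsg.sigmaCore M) M) (h2 : NoTau2 M)
    (hE₁ : Cfsg.IsPiHallOf (Cfsg.tau1 M) E₁ E)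
    (hκ : ∀ p : ℕ, p ∈ Cfsg.tau1 M → p ∈ Cfsg.kappa M) :
    Cfsg.sigmaCore M ⊓ centralizer (E₁ : Set G) ≠ ⊥ := by
  have h1 := hall1_ne_bot hG hM hE h2 hE₁
  have hcard : Nat.card E₁ ≠ 1 := fun h => h1 (Subgroup.card_eq_one.mp h)
  obtain ⟨p, hp, hpd⟩ := Nat.exists_prime_and_dvd hcard
  haveI : Fact p.Prime := ⟨hp⟩
  obtain ⟨x, hx⟩ := exists_prime_orderOf_dvd_card' (G := E₁) p hpd
  have hxG : orderOf (x : G) = p := by rw [Subgroup.orderOf_coe]; exact hx
  have hx1 : (x : G) ≠ 1 := by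
    intro h
    rw [h, orderOf_one] at hxG
    exact hp.one_lt.ne hxG
  have hpτ : p ∈ Cfsg.tau1 M := hE₁.2.1 p hp hpd
  have hcardX : Nat.card (zpowers (x : G)) = p := by rw [Nat.card_zpowers, hxG]
  have hXM : zpowers (x : G) ≤ M := zpowers_le.mpr (hE.1 (hE₁.1 x.2))
  have := Cfsg.Agent.Lead.BG142.kappa_inf_centralizer_ne_bot (hκ p hpτ) hXM hcardX
  rw [Cfsg.Agent.Helper4.BG10.centralizer_zpowers_eq, prime_action hG hM hE h2 hE₁ x x.2 hx1] at this
  exact this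

/-- `C_M(E₁) = C_{M_σ}(E₁) E₁` -/
theorem inf_centralizer_hall1 (hG : Cfsg.IsMinSimpleOddOrder G) {M E E₁ : Subgroup G}
    (hM : IsCoatom M) (hE : Cfsg.IsComplIn E (Cfsg.sigmaCore M) M) (h2 : NoTau2 M)
    (hE₁ : Cfsg.IsPiHallOf (Cfsg.tau1 M) E₁ E) :
    M ⊓ centralizer (E₁ : Set G) = (Cfsg.sigmaCore M ⊓ centralizer (E₁ : Set G)) ⊔ E₁ := by
  have hab := hall1_le_centralizer_self hG hM hE hE₁
  have hCE := compl_inf_centralizer_hall1 hG hM hE h2 hE₁
  have hσn : M ≤ normalizer ((Cfsg.sigmaCore M : Subgroup G) : Set G) :=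
    Cfsg.Agent.H9.BG12.le_normalizer_sigmaCore M
  apply le_antisymm
  · rintro x ⟨hxM, hxC⟩
    obtain ⟨a, ha, b, hb, rfl⟩ := hE.2.2.2 x hxM
    -- every `z ∈ E₁` commutes with `a` and with `b`
    have key : ∀ z ∈ E₁, z * a = a * z ∧ z * b = b * z := by
      intro z hz
      have hzE : z ∈ E := hE₁.1 hz
      have hcomm : z * (a * b) = (a * b) * z := mem_centralizer_iff.mp hxC z hz
      have h1 : z * a * z⁻¹ ∈ E := E.mul_mem (E.mul_mem hzE ha) (E.inv_mem hzE)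
      have h2' : z * b * z⁻¹ ∈ Cfsg.sigmaCore M :=
        (mem_normalizer_iff.mp (hσn (hE.1 hzE)) b).mp hb
      have h3 : (z * a * z⁻¹) * (z * b * z⁻¹) = a * b := by
        have : (z * a * z⁻¹) * (z * b * z⁻¹) = z * (a * b) * z⁻¹ := by group
        rw [this, hcomm]; group
      -- uniqueness of the decomposition
      have h4 : a⁻¹ * (z * a * z⁻¹) = b * (z * b * z⁻¹)⁻¹ := by
        have : (z * a * z⁻¹) = a * b * (z * b * z⁻¹)⁻¹ := by rw [← h3]; group
        rw [this]; group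
      have h5 : a⁻¹ * (z * a * z⁻¹) ∈ E ⊓ Cfsg.sigmaCore M := by
        refine ⟨E.mul_mem (E.inv_mem ha) h1, ?_⟩
        rw [SetLike.mem_coe, h4]
        exact (Cfsg.sigmaCore M).mul_mem hb ((Cfsg.sigmaCore M).inv_mem h2')
      rw [hE.2.2.1, mem_bot] at h5
      have h6 : z * a * z⁻¹ = a := by
        have := congrArg (fun t => a * t) h5
        simpa using this
      have h7 : z * b * z⁻¹ = b := by
        rw [h6] at h3
        exact mul_left_cancel h3
      constructor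
      · have := congrArg (fun t => t * z) h6
        simpa using this
      · have := congrArg (fun t => t * z) h7
        simpa using this
    have haC : a ∈ E ⊓ centralizer (E₁ : Set G) :=
      ⟨ha, mem_centralizer_iff.mpr fun z hz => (key z hz).1⟩
    rw [hCE] at haC
    have hbC : b ∈ Cfsg.sigmaCore M ⊓ centralizer (E₁ : Set G) :=
      ⟨hb, mem_centralizer_iff.mpr fun z hz => (key z hz).2⟩
    exact mul_mem (mem_sup_right haC) (mem_sup_left hbC)
  · apply sup_le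
    · exact inf_le_inf_right _ (Cfsg.Agent.H9.BG12.sigmaCore_le M)
    · exact le_inf (hE₁.1.trans hE.1) hab

end Cfsg.Agent.Helper23.BG13SO
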