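import Mathlib
import Cfsg.Prelude.Def_OddOrderLocal
import Cfsg.Agent.Helper23.BG13SOb
import Cfsg.Agent.Helper28.BG13T1b
import Cfsg.Agent.Helper28.BG11SIG
import Cfsg.Agent.Helper9.BG12h
import Cfsg.Agent.Helper9.BG12i
import Cfsg.Agent.Helper10.SylInt
import Cfsg.Agent.Helper7.RankSylow
import Cfsg.Agent.S1414

/-!
# B&G 13.9 (σ-partition), part C: a maximal subgroup `M` and a Sylow `q`-subgroup `T` of `G`
with `q ∈ σ(M) ∖ α(M)`, `T` abelian, `N_G(T) ≤ M`.
-/

set_option autoImplicit false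
set_option linter.unusedSectionVars false
set_option linter.unusedVariables false
set_option linter.style.haveILetI false

namespace Cfsg.Agent.Helper23.BG13SO

open Subgroup Cfsg
open Cfsg.Agent.Helper14 (IsSylowIn cj)
open Cfsg.Agent.Lead (IsPiNum isPiHallOf_iff pi_split_unique relIndex_mul_card')
open Cfsg.Agent.H9.BG12 (St1350 isPiHallOf_compl card_mul_of_isComplIn)

universe u
variable {G : Type u} [Group G] [Finite G]

/-- the one-sided data of the σ-overlap configuration -/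
structure SOData (q : ℕ) (M T : Subgroup G) : Prop where
  hq : q ∈ Cfsg.sigma M
  hqα : q ∉ Cfsg.alpha M
  hT : IsSylowIn q T ⊤
  hTM : T ≤ M
  hN : normalizer (T : Set G) ≤ M
  hTab : T ≤ centralizer (T : Set G)
  hT1 : T ≠ ⊥

namespace SOData

variable {q : ℕ} {M T : Subgroup G}

theorem le_sigmaCore (d : SOData q M T) (hG : Cfsg.IsMinSimpleOddOrder G) (hM : IsCoatom M) :
    T ≤ Cfsg.sigmaCore M := by
  haveI : Fact q.Prime := ⟨d.hq.1⟩
  exact Cfsg.Agent.H9.BG12.le_sigmaCore_of_isPGroup (st1350 hG) hM d.hq d.hTM d.hT.2.1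

theorem isSylowIn_sigmaCore (d : SOData q M T) (hG : Cfsg.IsMinSimpleOddOrder G)
    (hM : IsCoatom M) : IsSylowIn q T (Cfsg.sigmaCore M) :=
  Cfsg.Agent.Helper10.isSylowIn_of_le d.hT (d.le_sigmaCore hG hM) le_top

theorem npc (d : SOData q M T) (hG : Cfsg.IsMinSimpleOddOrder G) (hM : IsCoatom M) :
    Cfsg.HasNormalPComplement q ↥(Cfsg.sigmaCore M) :=
  ((Cfsg.Agent.S1414.result hG M hM).2.2.2.2 q d.hq.1 d.hq.2.1 (fun h => d.hqα h.1)).2.1

/-- `N_{M_σ}(T) ≤ C_G(T)` -/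
theorem sigmaCore_inf_normalizer_le (d : SOData q M T) (hG : Cfsg.IsMinSimpleOddOrder G)
    (hM : IsCoatom M) :
    Cfsg.sigmaCore M ⊓ normalizer (T : Set G) ≤ centralizer (T : Set G) := by
  haveI : Fact q.Prime := ⟨d.hq.1⟩
  exact (Cfsg.Agent.Helper28.BG13T1.normalizer_le_sup_centralizer_of_npc
    (d.isSylowIn_sigmaCore hG hM) (d.npc hG hM)).trans (sup_le d.hTab le_rfl)

/-- a Hall `σ(M)'`-subgroup of `N_G(T)` is a complement of `M_σ` in `M` -/
theorem isComplIn_of_hall (d : SOData q M T) (hG : Cfsg.IsMinSimpleOddOrder G) (hM : IsCoatom M)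
    {E : Subgroup G} (hE : Cfsg.IsPiHallOf (Cfsg.sigma M)ᶜ E (normalizer (T : Set G))) :
    Cfsg.IsComplIn E (Cfsg.sigmaCore M) M := by
  haveI : Fact q.Prime := ⟨d.hq.1⟩
  set N := normalizer (T : Set G) with hN
  set S := Cfsg.sigmaCore M with hS
  obtain ⟨hSH, -, -⟩ := st1350 hG M hM
  have hSM : S ≤ M := hSH.1
  have hSn : M ≤ normalizer (S : Set G) := Cfsg.Agent.H9.BG12.le_normalizer_sigmaCore M
  have hEM : E ≤ M := hE.1.trans d.hN
  -- Frattini
  have hfr : M ≤ S ⊔ N := by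
    refine (Cfsg.Agent.H9.BG12.le_sup_normalizer_of_isSylowIn hSM hSn
      (d.isSylowIn_sigmaCore hG hM)).trans ?_
    exact sup_le_sup_left inf_le_left _
  have hsup : S ⊔ N = M := le_antisymm (sup_le hSM d.hN) hfr
  have c1 := Cfsg.Agent.Helper17.card_sup_mul_card_inf S N (d.hN.trans hSn)
  rw [hsup] at c1
  have c2 : S.relIndex M * Nat.card S = Nat.card M := relIndex_mul_card' hSM
  have c3 : E.relIndex N * Nat.card E = Nat.card N := relIndex_mul_card' hE.1
  have hSpos : 0 < Nat.card S := Nat.card_pos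
  -- `r * x = i * e`
  have c4 : Nat.card ↥(S ⊓ N) * S.relIndex M = E.relIndex N * Nat.card E := by
    have : Nat.card S * (Nat.card ↥(S ⊓ N) * S.relIndex M) =
        Nat.card S * (E.relIndex N * Nat.card E) := by
      rw [c3, ← c1, ← c2]; ring
    exact Nat.eq_of_mul_eq_mul_left hSpos this
  have hSπ := (isPiHallOf_iff.mp hSH)
  have hEπ := (isPiHallOf_iff.mp hE)
  have hx : IsPiNum (Cfsg.sigma M) (Nat.card ↥(S ⊓ N)) :=
    hSπ.2.1.of_dvd (Subgroup.card_dvd_of_le inf_le_left)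
  have hi : IsPiNum (Cfsg.sigma M) (E.relIndex N) := by
    have := hEπ.2.2
    rwa [compl_compl] at this
  have hxi : Nat.card ↥(S ⊓ N) = E.relIndex N :=
    pi_split_unique c4 hx hSπ.2.2 hi hEπ.2.1
  have hxpos : 0 < Nat.card ↥(S ⊓ N) := Nat.card_pos
  have hre : S.relIndex M = Nat.card E := by
    rw [hxi] at c4
    exact Nat.eq_of_mul_eq_mul_left (hxi ▸ hxpos) c4
  have hcard : Nat.card S * Nat.card E = Nat.card M := by rw [← hre, mul_comm]; exact c2
  have hcop : (Nat.card S).Coprime (Nat.card E) := hSπ.2.1.coprime hEπ.2.1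
  have hinf : S ⊓ E = ⊥ := (Subgroup.disjoint_of_coprime_natCard hcop).eq_bot
  have c5 := Cfsg.Agent.Helper17.card_sup_mul_card_inf S E (hEM.trans hSn)
  rw [hinf, Subgroup.card_bot, mul_one, hcard] at c5
  have hSE : S ⊔ E = M := Subgroup.eq_of_le_of_card_ge (sup_le hSM hEM) c5.ge
  refine ⟨hEM, hSM, by rw [inf_comm]; exact hinf, ?_⟩
  intro m hm
  have hm' : m⁻¹ ∈ S ⊔ E := by rw [hSE]; exact M.inv_mem hm
  obtain ⟨s, hs, e, he, hse⟩ :=
    Cfsg.Agent.Helper23.BG132.exists_mul_of_mem_sup (hEM.trans hSn) hm'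
  refine ⟨e⁻¹, E.inv_mem he, s⁻¹, S.inv_mem hs, ?_⟩
  rw [← mul_inv_rev, ← hse, inv_inv]

theorem pRankLE_two (d : SOData q M T) : Cfsg.PRankLE q 2 ↥T := by
  have h1 : Cfsg.PRankLE q 2 ↥M := by
    by_contra h
    exact d.hqα ⟨d.hq.1, h⟩
  exact Cfsg.Agent.Helper7.PRankLE.of_injective (Subgroup.inclusion d.hTM)
    (Subgroup.inclusion_injective d.hTM) h1

/-- `E₃` centralizes `T` -/
theorem hall3_le_centralizer (d : SOData q M T) (hG : Cfsg.IsMinSimpleOddOrder G) (hM : IsCoatom M)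
    {E E₃ : Subgroup G} (hEN : E ≤ normalizer (T : Set G))
    (hE : Cfsg.IsComplIn E (Cfsg.sigmaCore M) M) (hE₃ : Cfsg.IsPiHallOf (Cfsg.tau3 M) E₃ E) :
    E₃ ≤ centralizer (T : Set G) := by
  haveI : Fact q.Prime := ⟨d.hq.1⟩
  obtain ⟨-, hE₃d, -⟩ := (Cfsg.Agent.S1415.result hG M hM E hE).2.2 E₃ hE₃
  have hH := isPiHallOf_compl (st1350 hG) hM hE
  have hqG : q ∣ Nat.card G := d.hq.2.1.trans (Subgroup.card_subgroup_dvd_card M)
  have hq2 : q ≠ 2 := Cfsg.Agent.H9.BG12.prime_ne_two_of_dvd hG hqG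
  have hqE₃ : ¬ q ∣ Nat.card E₃ := fun h =>
    hH.2.1 q d.hq.1 (h.trans (Subgroup.card_dvd_of_le hE₃.1)) d.hq
  apply Cfsg.Agent.Lead.BG9.le_of_forall_sylow_le
  intro p hp
  haveI := hp
  obtain ⟨S⟩ : Nonempty (Sylow p ↥E₃) := inferInstance
  refine ⟨S, ?_⟩
  by_cases hpq : q = p
  · subst hpq
    have hS1 : (S : Subgroup ↥E₃) = ⊥ := by
      rcases S.isPGroup'.card_eq_or_dvd with h | h
      · exact Subgroup.card_eq_one.mp h
      · exact absurd (h.trans (Subgroup.card_subgroup_dvd_card _)) hqE₃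
    rw [hS1, Subgroup.map_bot]; exact bot_le
  · apply Cfsg.Agent.Helper28.BG11.le_centralizer_of_isNarrow hG.1 hpq hq2 d.hT.2.1
      (Or.inl d.pRankLE_two) (S.isPGroup'.map _)
    refine (Cfsg.Agent.Helper14.map_subtype_le _).trans (hE₃d.trans ?_)
    exact commutator_mono hEN hEN

/-- a complement of `M_σ` does not centralize `T` -/
theorem not_compl_le_centralizer (d : SOData q M T) (hG : Cfsg.IsMinSimpleOddOrder G)
    (hM : IsCoatom M) {E : Subgroup G} (hE : Cfsg.IsComplIn E (Cfsg.sigmaCore M) M) :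
    ¬ E ≤ centralizer (T : Set G) := by
  haveI : Fact q.Prime := ⟨d.hq.1⟩
  intro hEC
  have hTσ := d.le_sigmaCore hG hM
  have h1 : T ≤ ⁅Cfsg.sigmaCore M, Cfsg.sigmaCore M⁆ :=
    (le_inf hTσ (le_centralizer_iff.mp hEC)).trans (Cfsg.Agent.S1426.result hG M hM E hE).1
  obtain ⟨K, hKL, hLK, hfac, hcop⟩ :=
    Cfsg.Agent.Helper28.BG13T1.npc_ambient (d.isSylowIn_sigmaCore hG hM) (d.npc hG hM)
  have hle : Cfsg.sigmaCore M ≤ K ⊔ T := by
    intro n hn
    obtain ⟨k, hk, t, ht, rfl⟩ := hfac n hn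
    exact mul_mem (mem_sup_left hk) (mem_sup_right ht)
  have h2 := Cfsg.Agent.Helper23.BG132.commutator_le_sup_commutator hTσ hLK hle
  have hTT : ⁅T, T⁆ = ⊥ := by
    rw [commutator_eq_bot_iff_le_centralizer]; exact d.hTab
  rw [hTT, sup_bot_eq] at h2
  have h3 : T ≤ T ⊓ K := le_inf le_rfl (h1.trans h2)
  rw [(Subgroup.disjoint_of_coprime_natCard hcop).eq_bot] at h3
  exact d.hT1 (eq_bot_iff.mpr h3)

/-- no nonidentity element of `E₁` centralizes `T` -/
theorem hall1_faithful (d : SOData q M T) (hG : Cfsg.IsMinSimpleOddOrder G) (hM : IsCoatom M)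
    (h2 : NoTau2 M) {E E₁ : Subgroup G} (hEN : E ≤ normalizer (T : Set G))
    (hE : Cfsg.IsComplIn E (Cfsg.sigmaCore M) M) (hE₁ : Cfsg.IsPiHallOf (Cfsg.tau1 M) E₁ E) :
    ∀ x ∈ E₁, x ≠ 1 → x ∉ centralizer (T : Set G) := by
  intro x hx hx1 hxC
  have hsolv : Group.IsSolvable E := isSolvable_of_le_coatom hG hM hE.1
  obtain ⟨E₃, hE₃⟩ := Cfsg.Agent.Lead.exists_isPiHallOf (Cfsg.tau3 M) hsolv
  obtain ⟨-, -, hsup⟩ := sup_eq_of_hall hG hM hE h2 hE₁ hE₃
  have h3 := d.hall3_le_centralizer hG hM hEN hE hE₃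
  have hT1 : T ≤ Cfsg.sigmaCore M ⊓ centralizer ({x} : Set G) := by
    refine le_inf (d.le_sigmaCore hG hM) ?_
    intro t ht
    rw [mem_centralizer_singleton_iff]
    exact (mem_centralizer_iff.mp hxC t ht)
  rw [prime_action hG hM hE h2 hE₁ x hx hx1] at hT1
  have h1 : E₁ ≤ centralizer (T : Set G) := le_centralizer_iff.mp (hT1.trans inf_le_right)
  apply d.not_compl_le_centralizer hG hM hE
  rw [← hsup]
  exact sup_le h3 h1

/-- `|N_G(T)| = |C_G(T)| |E₁|` -/
theorem card_normalizer (d : SOData q M T) (hG : Cfsg.IsMinSimpleOddOrder G) (hM : IsCoatom M)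
    (h2 : NoTau2 M) {E E₁ : Subgroup G} (hEN : E ≤ normalizer (T : Set G))
    (hE : Cfsg.IsComplIn E (Cfsg.sigmaCore M) M) (hE₁ : Cfsg.IsPiHallOf (Cfsg.tau1 M) E₁ E) :
    Nat.card (normalizer (T : Set G)) = Nat.card (centralizer (T : Set G)) * Nat.card E₁ := by
  have hsolv : Group.IsSolvable E := isSolvable_of_le_coatom hG hM hE.1
  obtain ⟨E₃, hE₃⟩ := Cfsg.Agent.Lead.exists_isPiHallOf (Cfsg.tau3 M) hsolv
  obtain ⟨-, -, hsup⟩ := sup_eq_of_hall hG hM hE h2 hE₁ hE₃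
  obtain ⟨-, -, hE₃n⟩ := (Cfsg.Agent.S1415.result hG M hM E hE).2.2 E₃ hE₃
  have h3 := d.hall3_le_centralizer hG hM hEN hE hE₃
  have hCN : centralizer (T : Set G) ≤ normalizer (T : Set G) := by
    intro c hc
    rw [mem_normalizer_iff]
    intro t
    constructor
    · intro ht
      have : c * t * c⁻¹ = t := by
        rw [← mem_centralizer_iff.mp hc t ht]; group
      rw [this]; exact ht
    · intro ht
      have hc' := (centralizer (T : Set G)).inv_mem hc
      have h4 := mem_centralizer_iff.mp hc' _ ht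
      have : t = c⁻¹ * (c * t * c⁻¹) * c := by group
      rw [this, ← h4]
      simpa using ht
  -- `N_G(T)` normalizes `C_G(T)`
  have hNC : normalizer (T : Set G) ≤ normalizer ((centralizer (T : Set G) : Subgroup G) : Set G) := by
    intro n hn
    rw [mem_normalizer_iff]
    have key : ∀ m : G, m ∈ normalizer (T : Set G) → ∀ c ∈ centralizer (T : Set G),
        m * c * m⁻¹ ∈ centralizer (T : Set G) := by
      intro m hm c hc
      rw [mem_centralizer_iff]
      intro t ht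
      have ht' : m⁻¹ * t * m ∈ T := by
        have := (mem_normalizer_iff.mp ((normalizer (T : Set G)).inv_mem hm) t).mp ht
        simpa using this
      have h5 := mem_centralizer_iff.mp hc _ ht'
      calc t * (m * c * m⁻¹) = m * ((m⁻¹ * t * m) * c) * m⁻¹ := by group
        _ = m * (c * (m⁻¹ * t * m)) * m⁻¹ := by rw [h5]
        _ = m * c * m⁻¹ * t := by group
    intro c
    constructor
    · exact key n hn c
    · intro hc
      have := key n⁻¹ ((normalizer (T : Set G)).inv_mem hn) _ hc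
      have e : n⁻¹ * (n * c * n⁻¹) * n⁻¹⁻¹ = c := by group
      rwa [e] at this
  have hE₁N : E₁ ≤ normalizer (T : Set G) := hE₁.1.trans hEN
  have hinf : centralizer (T : Set G) ⊓ E₁ = ⊥ := by
    rw [eq_bot_iff]
    rintro x ⟨hxC, hxE⟩
    rw [mem_bot]
    by_contra hx1
    exact d.hall1_faithful hG hM h2 hEN hE hE₁ x hxE hx1 hxC
  have hsupN : centralizer (T : Set G) ⊔ E₁ = normalizer (T : Set G) := by
    apply le_antisymm (sup_le hCN hE₁N)
    intro n hn
    obtain ⟨a, ha, b, hb, rfl⟩ := hE.2.2.2 n (d.hN hn)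
    have hbN : b ∈ normalizer (T : Set G) := by
      have : a⁻¹ * (a * b) ∈ normalizer (T : Set G) :=
        mul_mem (inv_mem (hEN ha)) hn
      rwa [inv_mul_cancel_left] at this
    have hbC : b ∈ centralizer (T : Set G) :=
      d.sigmaCore_inf_normalizer_le hG hM ⟨hb, hbN⟩
    rw [← hsup] at ha
    obtain ⟨a₃, ha₃, a₁, ha₁, rfl⟩ :=
      Cfsg.Agent.Helper23.BG132.exists_mul_of_mem_sup (hE₁.1.trans hE₃n) ha
    exact mul_mem (mul_mem (mem_sup_left (h3 ha₃)) (mem_sup_right ha₁)) (mem_sup_left hbC)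
  have c := Cfsg.Agent.Helper17.card_sup_mul_card_inf (centralizer (T : Set G)) E₁
    (hE₁N.trans hNC)
  rw [hinf, Subgroup.card_bot, mul_one, hsupN] at c
  exact c

end SOData

end Cfsg.Agent.Helper23.BG13SO
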