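import Mathlib
import Cfsg.Prelude.Def_OddOrderLocal
import Cfsg.Agent.Helper23.BG13SOc
import Cfsg.Agent.Helper4.BG12SD
import Cfsg.Agent.Helper10.BG13L
import Cfsg.Agent.Helper10.BG13M
import Cfsg.Agent.Lead.BG143a
import Cfsg.Agent.Lead.BG9d
import Cfsg.Agent.S1422
import Cfsg.Agent.S1429

/-!
# B&G 13.9: the σ-partition theorem (unconditional, independent of S1430)

For nonconjugate maximal subgroups `M`, `H`: `σ(M) ∩ σ(H) = ∅`.
Structure part + alignment + helper10's uniqueness lemma (13.6) and counting lemma.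
-/

set_option autoImplicit false
set_option linter.unusedSectionVars false
set_option linter.unusedVariables false
set_option linter.style.haveILetI false

namespace Cfsg.Agent.Helper23.BG13SO

open Subgroup Cfsg
open Cfsg.Agent.Helper14 (IsSylowIn cj map_cj_mul map_cj_one map_cj_normalizer map_cj_map_cj_inv)
open Cfsg.Agent.Lead (IsPiNum isPiHallOf_iff pi_split_unique relIndex_mul_card')
open Cfsg.Agent.H9.BG12 (St1350 isPiHallOf_compl card_mul_of_isComplIn)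

universe u
variable {G : Type u} [Group G] [Finite G]

/-- `q ∈ σ(H)` from a Sylow `q`-subgroup of `G` inside `H` with normalizer inside `H` -/
theorem mem_sigma_of_sylow {q : ℕ} [hq : Fact q.Prime] {H T : Subgroup G} (hT : IsSylowIn q T ⊤)
    (hT1 : T ≠ ⊥) (hTH : T ≤ H) (hN : normalizer (T : Set G) ≤ H) : q ∈ Cfsg.sigma H := by
  have hTH' : IsSylowIn q T H := Cfsg.Agent.Helper10.isSylowIn_of_le hT hTH le_top
  refine ⟨hq.out, ?_, hTH'.toSylow, ?_⟩
  · obtain ⟨k, hk⟩ := IsPGroup.iff_card.mp hT.2.1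
    have hk0 : k ≠ 0 := by
      intro h0
      rw [h0, pow_zero] at hk
      exact hT1 (Subgroup.card_eq_one.mp hk)
    exact (hk ▸ dvd_pow_self q hk0 : q ∣ Nat.card T).trans (Subgroup.card_dvd_of_le hTH)
  · rw [hTH'.toSylow_map]; exact hN

theorem nonconj_symm {M H : Subgroup G} (hnc : ∀ g : G, H ≠ M.map (cj g)) :
    ∀ g : G, M ≠ H.map (cj g) := by
  intro g h
  apply hnc g⁻¹
  rw [h, map_cj_map_cj_inv]

/-- the one-sided data from a common Sylow subgroup -/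
theorem soData_of (hG : Cfsg.IsMinSimpleOddOrder G) {M H : Subgroup G} (hM : IsCoatom M)
    (hH : IsCoatom H) (hnc : ∀ g : G, H ≠ M.map (cj g)) {q : ℕ} {T : Subgroup G}
    (hqM : q ∈ Cfsg.sigma M) (hqH : q ∈ Cfsg.sigma H) (hT : IsSylowIn q T ⊤) (hT1 : T ≠ ⊥)
    (hTM : T ≤ M) (hTH : T ≤ H) (hNM : normalizer (T : Set G) ≤ M) : SOData q M T := by
  haveI : Fact q.Prime := ⟨hqM.1⟩
  refine ⟨hqM, ?_, hT, hTM, hNM, ?_, hT1⟩
  · intro hα
    exact Cfsg.Agent.Helper4.BG12SD.alpha_sigma_disjoint hG hH hM (nonconj_symm hnc) hα hqH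
  · by_contra hab
    have hna : ¬ IsMulCommutative T := by
      intro hc
      apply hab
      intro a ha
      rw [mem_centralizer_iff]
      intro b hb
      exact congrArg Subtype.val (hc.is_comm.comm (⟨b, hb⟩ : T) ⟨a, ha⟩)
    obtain ⟨L, -, hL⟩ := Cfsg.Agent.S1422.result hG q T hT.2.1 hna
    have h1 : M = L := hL M ⟨hM, hTM⟩
    have h2 : H = L := hL H ⟨hH, hTH⟩
    apply hnc 1
    rw [map_cj_one, h1, h2]

/-- if `M_σ` is not nilpotent then all primes of `π(M) ∖ σ(M)` are in `κ(M)` -/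
theorem kappa_of_not_nilpotent (hG : Cfsg.IsMinSimpleOddOrder G) {M : Subgroup G} (hM : IsCoatom M)
    (hnil : ¬ Group.IsNilpotent (Cfsg.sigmaCore M)) :
    ∀ p : ℕ, p.Prime → p ∣ Nat.card M → p ∉ Cfsg.sigma M → p ∈ Cfsg.kappa M := by
  by_contra hP1
  have hP1' := hP1
  push Not at hP1'
  obtain ⟨p, hp, hpM, hpσ, hpκ⟩ := hP1'
  haveI : Fact p.Prime := ⟨hp⟩
  obtain ⟨S⟩ : Nonempty (Sylow p ↥M) := inferInstance
  have hpu : p ∉ Cfsg.sigma M ∪ Cfsg.kappa M := by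
    intro h
    rcases h with h | h
    · exact hpσ h
    · exact hpκ h
  exact hnil (Cfsg.Agent.S1429.result hG M hM hP1 p hpM hpu S).2.2

theorem noTau2_of_kappa {M : Subgroup G}
    (hκ : ∀ p : ℕ, p.Prime → p ∣ Nat.card M → p ∉ Cfsg.sigma M → p ∈ Cfsg.kappa M) : NoTau2 M := by
  intro p hp hpσ
  haveI : Fact p.Prime := ⟨hp⟩
  by_cases hd : p ∣ Nat.card M
  · exact Cfsg.Agent.Lead.BG143.pRankLE_one_of_mem_kappa (hκ p hp hd hpσ)
  · exact Cfsg.Agent.Helper21.BG10.pRankLE_of_not_dvd 1 hd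

/-- **the σ-overlap configuration is impossible** -/
theorem false_of_soData (hG : Cfsg.IsMinSimpleOddOrder G) {M H : Subgroup G} (hM : IsCoatom M)
    (hH : IsCoatom H) (hnc : ∀ g : G, H ≠ M.map (cj g)) {q : ℕ} {T : Subgroup G}
    (dM : SOData q M T) (dH : SOData q H T) : False := by
  haveI : Fact q.Prime := ⟨dM.hq.1⟩
  have h1350 := st1350 hG
  -- `M_σ`, `H_σ` are not nilpotent
  have hnilH : ¬ Group.IsNilpotent (Cfsg.sigmaCore H) := fun hnil =>
    Cfsg.Agent.Helper4.BG12SD.sigma_disjoint_of_nilpotent hG hM hH hnc hnil dH.hq dM.hq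
  have hnilM : ¬ Group.IsNilpotent (Cfsg.sigmaCore M) := fun hnil =>
    Cfsg.Agent.Helper4.BG12SD.sigma_disjoint_of_nilpotent hG hH hM (nonconj_symm hnc) hnil
      dM.hq dH.hq
  have hκM := kappa_of_not_nilpotent hG hM hnilM
  have hκH := kappa_of_not_nilpotent hG hH hnilH
  have h2M := noTau2_of_kappa hκM
  have h2H := noTau2_of_kappa hκH
  have hκM1 : ∀ p : ℕ, p ∈ Cfsg.tau1 M → p ∈ Cfsg.kappa M := fun p hp =>
    hκM p hp.1 hp.2.2.1 hp.2.1
  have hκH1 : ∀ p : ℕ, p ∈ Cfsg.tau1 H → p ∈ Cfsg.kappa H := fun p hp =>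
    hκH p hp.1 hp.2.2.1 hp.2.1
  set N := normalizer (T : Set G) with hN
  have hsolvN : Group.IsSolvable N := isSolvable_of_le_coatom hG hM dM.hN
  -- the complement `E ≤ N` of `M_σ`, and `Z := E₁`
  obtain ⟨E, hEhall⟩ := Cfsg.Agent.Lead.exists_isPiHallOf (Cfsg.sigma M)ᶜ hsolvN
  have hE := dM.isComplIn_of_hall hG hM hEhall
  have hEN : E ≤ N := hEhall.1
  have hsolvE : Group.IsSolvable E := isSolvable_of_le_coatom hG hM hE.1
  obtain ⟨Z, hZ⟩ := Cfsg.Agent.Lead.exists_isPiHallOf (Cfsg.tau1 M) hsolvE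
  obtain ⟨E₃, hE₃⟩ := Cfsg.Agent.Lead.exists_isPiHallOf (Cfsg.tau3 M) hsolvE
  have hZN : Z ≤ N := hZ.1.trans hEN
  have hfaith := dM.hall1_faithful hG hM h2M hEN hE hZ
  -- `Z` is a `σ(H)'`-group
  have hZπ : IsPiNum (Cfsg.sigma H)ᶜ (Nat.card Z) := by
    intro p hp hd hpσ
    haveI : Fact p.Prime := ⟨hp⟩
    obtain ⟨x, hx⟩ := exists_prime_orderOf_dvd_card' (G := Z) p hd
    have hxG : orderOf (x : G) = p := by rw [Subgroup.orderOf_coe]; exact hx
    have hx1 : (x : G) ≠ 1 := by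
      intro h
      rw [h, orderOf_one] at hxG
      exact hp.one_lt.ne hxG
    have hxH : zpowers (x : G) ≤ H := zpowers_le.mpr (dH.hN (hZN x.2))
    have hxp : IsPGroup p (zpowers (x : G)) := by
      apply IsPGroup.of_card (n := 1)
      rw [Nat.card_zpowers, hxG, pow_one]
    have hxσ : (x : G) ∈ Cfsg.sigmaCore H :=
      Cfsg.Agent.H9.BG12.le_sigmaCore_of_isPGroup h1350 hH hpσ hxH hxp (mem_zpowers _)
    exact hfaith x x.2 hx1 (dH.sigmaCore_inf_normalizer_le hG hH ⟨hxσ, hZN x.2⟩)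
  -- the complement `E' ≤ N` of `H_σ` containing `Z`
  obtain ⟨E', hE'hall, hZE'⟩ := Cfsg.Agent.Lead.exists_isPiHallOf_ge hsolvN hZN hZπ
  have hE' := dH.isComplIn_of_hall hG hH hE'hall
  have hE'N : E' ≤ N := hE'hall.1
  have hsolvE' : Group.IsSolvable E' := isSolvable_of_le_coatom hG hH hE'.1
  obtain ⟨Z', hZ'⟩ := Cfsg.Agent.Lead.exists_isPiHallOf (Cfsg.tau1 H) hsolvE'
  obtain ⟨E₃', hE₃'⟩ := Cfsg.Agent.Lead.exists_isPiHallOf (Cfsg.tau3 H) hsolvE'
  -- `|Z| = |Z'|`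
  have hc1 := dM.card_normalizer hG hM h2M hEN hE hZ
  have hc2 := dH.card_normalizer hG hH h2H hE'N hE' hZ'
  have hcard : Nat.card Z = Nat.card Z' := by
    have hpos : 0 < Nat.card (centralizer (T : Set G)) := Nat.card_pos
    have : Nat.card (centralizer (T : Set G)) * Nat.card Z =
        Nat.card (centralizer (T : Set G)) * Nat.card Z' := by rw [← hc1, ← hc2]
    exact Nat.eq_of_mul_eq_mul_left hpos this
  -- `Z` is a Hall `τ₁(H)`-subgroup of `E'`
  have hZH : Cfsg.IsPiHallOf (Cfsg.tau1 H) Z E' := by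
    refine ⟨hZE', ?_, ?_⟩
    · intro p hp hd
      exact hZ'.2.1 p hp (hcard ▸ hd)
    · intro p hp hpτ hd
      apply hZ'.2.2 p hp hpτ
      have e1 : Z.relIndex E' * Nat.card Z = Nat.card E' := relIndex_mul_card' hZE'
      have e2 : Z'.relIndex E' * Nat.card Z' = Nat.card E' := relIndex_mul_card' hZ'.1
      have hpos : 0 < Nat.card Z' := Nat.card_pos
      have : Z.relIndex E' = Z'.relIndex E' := by
        rw [hcard, ← e2] at e1
        exact Nat.eq_of_mul_eq_mul_right hpos e1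
      rwa [← this]
  -- the counting lemma
  have hSM := (h1350 M hM).1
  have hSH := (h1350 H hH).1
  have hEπ := isPiHallOf_compl h1350 hM hE
  have hE'π := isPiHallOf_compl h1350 hH hE'
  obtain ⟨-, -, hsupM⟩ := sup_eq_of_hall hG hM hE h2M hZ hE₃
  obtain ⟨-, -, hsupH⟩ := sup_eq_of_hall hG hH hE' h2H hZH hE₃'
  have hE₃d := ((Cfsg.Agent.S1415.result hG M hM E hE).2.2 E₃ hE₃).2.1
  have hE₃'d := ((Cfsg.Agent.S1415.result hG H hH E' hE').2.2 E₃' hE₃').2.1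
  apply Cfsg.Agent.Helper10.BG13K.counting_lemma hM hH
    (fun g h => Cfsg.Agent.H9.BG12.mem_of_map_cj_eq hG hM h)
    (fun g h => Cfsg.Agent.H9.BG12.mem_of_map_cj_eq hG hH h) hnc
    (hall1_le_centralizer_self hG hM hE hZ)
    (inf_le_right : Cfsg.sigmaCore M ⊓ centralizer (Z : Set G) ≤ centralizer (Z : Set G))
    (inf_le_right : Cfsg.sigmaCore H ⊓ centralizer (Z : Set G) ≤ centralizer (Z : Set G))
  · rw [inf_comm, inf_centralizer_hall1 hG hM hE h2M hZ]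
  · rw [inf_comm, inf_centralizer_hall1 hG hH hE' h2H hZH]
  · exact hall1_inf_centralizer_ne_bot hG hM hE h2M hZ hκM1
  · exact hall1_inf_centralizer_ne_bot hG hH hE' h2H hZH hκH1
  · have h1 : IsPiNum (Cfsg.sigma M) (Nat.card ↥(Cfsg.sigmaCore M ⊓ centralizer (Z : Set G))) :=
      (isPiHallOf_iff.mp hSM).2.1.of_dvd (Subgroup.card_dvd_of_le inf_le_left)
    have h2 : IsPiNum (Cfsg.sigma M)ᶜ (Nat.card Z) :=
      (isPiHallOf_iff.mp hEπ).2.1.of_dvd (Subgroup.card_dvd_of_le hZ.1)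
    exact h1.coprime h2
  · have h1 : IsPiNum (Cfsg.sigma H) (Nat.card ↥(Cfsg.sigmaCore H ⊓ centralizer (Z : Set G))) :=
      (isPiHallOf_iff.mp hSH).2.1.of_dvd (Subgroup.card_dvd_of_le inf_le_left)
    exact h1.coprime hZπ
  · intro y hy hyp
    exact Cfsg.Agent.Helper10.BG13M.centralizer_unique_of_fix hG hM hE hE₃d hZ.1 hsupM.ge hy.1 hy.2
      hyp
  · intro y hy hyp
    exact Cfsg.Agent.Helper10.BG13M.centralizer_unique_of_fix hG hH hE' hE₃'d hZH.1 hsupH.ge hy.1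
      hy.2 hyp

/-- **B&G Theorem 13.9 (σ-partition)**, unconditional: nonconjugate maximal subgroups have
disjoint `σ`-sets. -/
theorem sigma_partition (hG : Cfsg.IsMinSimpleOddOrder G) {M H : Subgroup G} (hM : IsCoatom M)
    (hH : IsCoatom H) (hnc : ∀ g : G, H ≠ M.map (cj g)) {q : ℕ} (hqM : q ∈ Cfsg.sigma M) :
    q ∉ Cfsg.sigma H := by
  intro hqH
  haveI : Fact q.Prime := ⟨hqM.1⟩
  obtain ⟨T, hTM⟩ := Cfsg.Agent.Helper4.BG12SD.exists_isSylowIn_of_mem_sigma hqM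
  obtain ⟨T', hT'H⟩ := Cfsg.Agent.Helper4.BG12SD.exists_isSylowIn_of_mem_sigma hqH
  have hTtop := Cfsg.Agent.Helper4.BG10.sigma_isSylowIn_top hqM hTM
  have hT'top := Cfsg.Agent.Helper4.BG10.sigma_isSylowIn_top hqH hT'H
  have hT1 := Cfsg.Agent.Helper4.BG10.sigma_ne_bot hqM hTM
  have hNM := Cfsg.Agent.Helper4.BG10.sigma_normalizer_le hqM hTM
  have hN'H := Cfsg.Agent.Helper4.BG10.sigma_normalizer_le hqH hT'H
  obtain ⟨g, -, hg⟩ := hT'top.exists_conj hTtop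
  set H₁ := H.map (cj g) with hH₁
  have hH₁c : IsCoatom H₁ := Cfsg.Agent.Lead.BG9.isCoatom_map_cj hH g
  have hTH₁ : T ≤ H₁ := by rw [hg]; exact Subgroup.map_mono hT'H.1
  have hNH₁ : normalizer (T : Set G) ≤ H₁ := by
    rw [hg, ← map_cj_normalizer]; exact Subgroup.map_mono hN'H
  have hnc₁ : ∀ x : G, H₁ ≠ M.map (cj x) := by
    intro x h
    apply hnc (g⁻¹ * x)
    rw [← map_cj_mul, ← h, hH₁, map_cj_map_cj_inv]
  have hqH₁ : q ∈ Cfsg.sigma H₁ := mem_sigma_of_sylow hTtop hT1 hTH₁ hNH₁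
  have dM := soData_of hG hM hH₁c hnc₁ hqM hqH₁ hTtop hT1 hTM.1 hTH₁ hNM
  have dH := soData_of hG hH₁c hM (nonconj_symm hnc₁) hqH₁ hqM hTtop hT1 hTH₁ hTM.1 hNH₁
  exact false_of_soData hG hM hH₁c hnc₁ dM dH

end Cfsg.Agent.Helper23.BG13SO
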