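import Mathlib

/-! S0406 piece Q5a: a binary code of length 24 and minimum weight at least 8 has at most 759
words of weight 8 (two distinct octads share at most four points, so the 5-subsets of the octads
are pairwise distinct). -/

set_option autoImplicit false

namespace Cfsg.Agent.Helper23.LCh

open Finset

theorem zmod_two_eq_one : ∀ x : ZMod 2, x ≠ 0 → x = 1 := by decide

theorem zmod_two_eq_of_add : ∀ x y : ZMod 2, x + y = 0 → x = y := by decide

theorem octad_count_le (C : Submodule (ZMod 2) (Fin 24 → ZMod 2))
    (hmin : ∀ c ∈ C, c ≠ 0 → 8 ≤ hammingNorm c) :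
    {c | c ∈ C ∧ hammingNorm c = 8}.ncard ≤ 759 := by
  classical
  set S : Finset (Fin 24 → ZMod 2) :=
    Finset.univ.filter (fun c => c ∈ C ∧ hammingNorm c = 8) with hS
  have hSset : {c | c ∈ C ∧ hammingNorm c = 8} = (S : Set (Fin 24 → ZMod 2)) := by
    ext c; simp [hS]
  rw [hSset, Set.ncard_coe_finset]
  -- supports
  let supp : (Fin 24 → ZMod 2) → Finset (Fin 24) :=
    fun c => Finset.univ.filter (fun i => c i ≠ 0)
  have hnorm : ∀ c : Fin 24 → ZMod 2, hammingNorm c = (supp c).card := fun c => rfl
  have hmemS : ∀ c, c ∈ S ↔ c ∈ C ∧ hammingNorm c = 8 := by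
    intro c; simp [hS]
  have hsupp_card : ∀ c ∈ S, (supp c).card = 8 := by
    intro c hc
    rw [← hnorm]
    exact ((hmemS c).mp hc).2
  have hinter : ∀ c ∈ S, ∀ c' ∈ S, c ≠ c' → (supp c ∩ supp c').card ≤ 4 := by
    intro c hc c' hc' hne
    by_contra hcon
    push Not at hcon
    have hsum_mem : c + c' ∈ C := C.add_mem ((hmemS c).mp hc).1 ((hmemS c').mp hc').1
    have hsum_ne : c + c' ≠ 0 := by
      intro h
      apply hne
      funext i
      exact zmod_two_eq_of_add _ _ (congrFun h i)
    have h8 := hmin _ hsum_mem hsum_ne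
    have hsub : supp (c + c') ⊆ (supp c \ supp c') ∪ (supp c' \ supp c) := by
      intro i hi
      have hi' : c i + c' i ≠ 0 := by simpa [supp] using hi
      by_cases h1 : c i = 0
      · have h2 : c' i ≠ 0 := by
          intro h2; apply hi'; rw [h1, h2, add_zero]
        simp [supp, h1, h2]
      · by_cases h2 : c' i = 0
        · simp [supp, h1, h2]
        · exfalso
          apply hi'
          rw [zmod_two_eq_one _ h1, zmod_two_eq_one _ h2]
          decide
    have hle := Finset.card_le_card hsub
    have hun := Finset.card_union_le (supp c \ supp c') (supp c' \ supp c)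
    have e1 := Finset.card_sdiff_add_card_inter (supp c) (supp c')
    have e2 := Finset.card_sdiff_add_card_inter (supp c') (supp c)
    rw [Finset.inter_comm] at e2
    rw [hsupp_card c hc] at e1
    rw [hsupp_card c' hc'] at e2
    rw [hnorm] at h8
    omega
  have hdisj : (S : Set (Fin 24 → ZMod 2)).PairwiseDisjoint
      (fun c => (supp c).powersetCard 5) := by
    intro c hc c' hc' hne
    rw [Function.onFun, Finset.disjoint_left]
    intro T hT hT'
    rw [Finset.mem_powersetCard] at hT hT'
    have hTsub : T ⊆ supp c ∩ supp c' := Finset.subset_inter hT.1 hT'.1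
    have h1 := Finset.card_le_card hTsub
    have h2 := hinter c hc c' hc' hne
    omega
  have hcard := Finset.card_biUnion hdisj
  have hsub : S.biUnion (fun c => (supp c).powersetCard 5) ⊆
      (Finset.univ : Finset (Fin 24)).powersetCard 5 := by
    intro T hT
    rw [Finset.mem_biUnion] at hT
    obtain ⟨c, _, hT⟩ := hT
    rw [Finset.mem_powersetCard] at hT ⊢
    exact ⟨Finset.subset_univ _, hT.2⟩
  have hle := Finset.card_le_card hsub
  rw [hcard, Finset.card_powersetCard, Finset.card_univ, Fintype.card_fin] at hle
  have hsum : ∑ c ∈ S, ((supp c).powersetCard 5).card = S.card * 56 := by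
    rw [Finset.sum_const_nat (m := 56)]
    intro c hc
    rw [Finset.card_powersetCard, hsupp_card c hc]
    decide
  have h24 : Nat.choose 24 5 = 42504 := by decide
  rw [hsum, h24] at hle
  omega

end Cfsg.Agent.Helper23.LCh
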