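import Mathlib
import Cfsg.Prelude.Def_RootSubgroups

set_option autoImplicit false

/-! QUADPAIR-2 (blueprint `departures/helper18_QUADPAIR2_blueprint.md`), piece FIN, generic form:
pairwise commuting subgroups `L i` of `GL(M)`, each containing an element `σ i` which is not
central in `L i`, give a linearly independent family `σ i - 1` of endomorphisms; hence there
are only finitely many of them when `M` is finite-dimensional. -/

namespace Cfsg.Agent.QP2

open Cfsg

variable {k : Type*} [Field k] {M : Type*} [AddCommGroup M] [Module k M]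

local notation "GLkM" => LinearMap.GeneralLinearGroup k M

theorem FIN_aux_conj (g x : GLkM) :
    (g : Module.End k M) * ((x : Module.End k M) - 1) * ((g⁻¹ : GLkM) : Module.End k M)
      = ((g * x * g⁻¹ : GLkM) : Module.End k M) - 1 := by
  have e : (g : Module.End k M) * ((g⁻¹ : GLkM) : Module.End k M) = 1 := by
    rw [← Units.val_mul, mul_inv_cancel, Units.val_one]
  rw [mul_sub, sub_mul, mul_one, e, Units.val_mul, Units.val_mul]

theorem FIN_linearIndependent {ι : Type*} (L : ι → Subgroup GLkM) (σ : ι → GLkM)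
    (hσ : ∀ i, σ i ∈ L i)
    (hcomm : ∀ i j, i ≠ j → ∀ x ∈ L i, ∀ y ∈ L j, x * y = y * x)
    (hnc : ∀ i, ∃ g ∈ L i, g * σ i ≠ σ i * g) :
    LinearIndependent k (fun i => ((σ i : Module.End k M) - 1)) := by
  classical
  rw [linearIndependent_iff']
  intro s c hsum i₀ hi₀
  by_contra hc
  obtain ⟨g, hg, hgσ⟩ := hnc i₀
  apply hgσ
  -- conjugate the relation by `g`
  have h1 : ∑ i ∈ s, c i • (((g * σ i * g⁻¹ : GLkM) : Module.End k M) - 1) = 0 := by
    have h2 : (g : Module.End k M) * (∑ i ∈ s, c i • ((σ i : Module.End k M) - 1))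
        * ((g⁻¹ : GLkM) : Module.End k M) = 0 := by
      rw [hsum, mul_zero, zero_mul]
    rw [Finset.mul_sum, Finset.sum_mul] at h2
    rw [← h2]
    refine Finset.sum_congr rfl fun i _ => ?_
    rw [mul_smul_comm, smul_mul_assoc, FIN_aux_conj]
  have h3 : ∑ i ∈ s, c i • ((((g * σ i * g⁻¹ : GLkM) : Module.End k M) - 1)
      - ((σ i : Module.End k M) - 1)) = 0 := by
    have e : ∑ i ∈ s, c i • ((((g * σ i * g⁻¹ : GLkM) : Module.End k M) - 1)
        - ((σ i : Module.End k M) - 1))
        = ∑ i ∈ s, c i • (((g * σ i * g⁻¹ : GLkM) : Module.End k M) - 1)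
          - ∑ i ∈ s, c i • ((σ i : Module.End k M) - 1) := by
      rw [← Finset.sum_sub_distrib]
      exact Finset.sum_congr rfl (fun i _ => smul_sub _ _ _)
    rw [e, h1, hsum, sub_zero]
  have h4 : ∀ i ∈ s, i ≠ i₀ → c i • ((((g * σ i * g⁻¹ : GLkM) : Module.End k M) - 1)
      - ((σ i : Module.End k M) - 1)) = 0 := by
    intro i _ hne
    have e : g * σ i * g⁻¹ = σ i := by
      rw [hcomm i₀ i (Ne.symm hne) g hg (σ i) (hσ i), mul_assoc, mul_inv_cancel, mul_one]
    rw [e, sub_self, smul_zero]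
  rw [Finset.sum_eq_single_of_mem i₀ hi₀ h4] at h3
  rcases smul_eq_zero.mp h3 with h5 | h5
  · exact absurd h5 hc
  · have h6 : ((g * σ i₀ * g⁻¹ : GLkM) : Module.End k M) = (σ i₀ : Module.End k M) := by
      have := sub_eq_zero.mp h5
      exact sub_left_injective this
    have h7 : g * σ i₀ * g⁻¹ = σ i₀ := Units.ext h6
    calc g * σ i₀ = g * σ i₀ * g⁻¹ * g := by group
      _ = σ i₀ * g := by rw [h7]

theorem FIN_finite [FiniteDimensional k M] {ι : Type*} (L : ι → Subgroup GLkM) (σ : ι → GLkM)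
    (hσ : ∀ i, σ i ∈ L i)
    (hcomm : ∀ i j, i ≠ j → ∀ x ∈ L i, ∀ y ∈ L j, x * y = y * x)
    (hnc : ∀ i, ∃ g ∈ L i, g * σ i ≠ σ i * g) : Finite ι :=
  (FIN_linearIndependent L σ hσ hcomm hnc).finite_of_isNoetherian

end Cfsg.Agent.QP2
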