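import Mathlib
import Cfsg.Prelude.Def_RootSubgroups
import Cfsg.Agent.Helper25.QuadPair
import Cfsg.Agent.Helper23.QP2FIN

set_option autoImplicit false

/-! QUADPAIR-2 (blueprint `departures/helper18_QUADPAIR2_blueprint.md`), interface lemmas IF1, IF2:
conjugation invariance of `𝒬(G)`, `𝒬_d(G)`, `E(σ)`, `Σ(G)` under `G`, and the description of the
members of `Σ(G)` through any of their non-identity elements. -/

namespace Cfsg.Agent.QP2

open Cfsg

variable {k : Type*} [Field k] {M : Type*} [AddCommGroup M] [Module k M]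

local notation "GLkM" => LinearMap.GeneralLinearGroup k M

theorem IF1_aux_val (g x : GLkM) :
    ((g * x * g⁻¹ : GLkM) : Module.End k M) - 1
      = (g : Module.End k M) * ((x : Module.End k M) - 1) * ((g⁻¹ : GLkM) : Module.End k M) :=
  (FIN_aux_conj g x).symm

theorem IF1_aux_inv_apply (g : GLkM) (m : M) :
    (g : Module.End k M) (((g⁻¹ : GLkM) : Module.End k M) m) = m := by
  have e : (g : Module.End k M) * ((g⁻¹ : GLkM) : Module.End k M) = 1 := by
    rw [← Units.val_mul, mul_inv_cancel, Units.val_one]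
  exact LinearMap.congr_fun e m

theorem IF1_aux_apply_inv (g : GLkM) (m : M) :
    ((g⁻¹ : GLkM) : Module.End k M) ((g : Module.End k M) m) = m := by
  have := IF1_aux_inv_apply g⁻¹ m
  rwa [inv_inv] at this

theorem IF1_aux_apply (g x : GLkM) (m : M) :
    (((g * x * g⁻¹ : GLkM) : Module.End k M) - 1) m
      = (g : Module.End k M) (((x : Module.End k M) - 1) (((g⁻¹ : GLkM) : Module.End k M) m)) := by
  rw [IF1_aux_val]
  rfl

theorem IF1_aux_mem_ker (g x : GLkM) (m : M) :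
    m ∈ LinearMap.ker (((g * x * g⁻¹ : GLkM) : M →ₗ[k] M) - 1) ↔
      ((g⁻¹ : GLkM) : M →ₗ[k] M) m ∈ LinearMap.ker ((x : M →ₗ[k] M) - 1) := by
  rw [LinearMap.mem_ker, LinearMap.mem_ker]
  have h := IF1_aux_apply g x m
  constructor
  · intro h0
    have h1 : (g : Module.End k M) (((x : Module.End k M) - 1)
        (((g⁻¹ : GLkM) : Module.End k M) m)) = 0 := by rw [← h]; exact h0
    have h2 := congrArg (fun y => ((g⁻¹ : GLkM) : Module.End k M) y) h1
    simp only [IF1_aux_apply_inv, map_zero] at h2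
    exact h2
  · intro h0
    have h1 : (((g * x * g⁻¹ : GLkM) : Module.End k M) - 1) m = 0 := by
      rw [h]
      have h0' : ((x : Module.End k M) - 1) (((g⁻¹ : GLkM) : Module.End k M) m) = 0 := h0
      rw [h0', map_zero]
    exact h1

theorem IF1_aux_mem_range (g x : GLkM) (m : M) :
    m ∈ LinearMap.range (((g * x * g⁻¹ : GLkM) : M →ₗ[k] M) - 1) ↔
      ((g⁻¹ : GLkM) : M →ₗ[k] M) m ∈ LinearMap.range ((x : M →ₗ[k] M) - 1) := by
  constructor
  · rintro ⟨m', hm'⟩
    refine ⟨((g⁻¹ : GLkM) : Module.End k M) m', ?_⟩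
    have h := IF1_aux_apply g x m'
    have h1 : (g : Module.End k M) (((x : Module.End k M) - 1)
        (((g⁻¹ : GLkM) : Module.End k M) m')) = m := by rw [← h]; exact hm'
    have h2 := congrArg (fun y => ((g⁻¹ : GLkM) : Module.End k M) y) h1
    simp only [IF1_aux_apply_inv] at h2
    exact h2
  · rintro ⟨m', hm'⟩
    refine ⟨(g : Module.End k M) m', ?_⟩
    have h := IF1_aux_apply g x ((g : Module.End k M) m')
    have h1 : (((g * x * g⁻¹ : GLkM) : Module.End k M) - 1) ((g : Module.End k M) m') = m := by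
      rw [h, IF1_aux_apply_inv]
      have hm'' : ((x : Module.End k M) - 1) m' = ((g⁻¹ : GLkM) : Module.End k M) m := hm'
      rw [hm'', IF1_aux_inv_apply]
    exact h1

theorem IF1_aux_ker_congr (g : GLkM) {x y : GLkM}
    (h : LinearMap.ker ((x : M →ₗ[k] M) - 1) = LinearMap.ker ((y : M →ₗ[k] M) - 1)) :
    LinearMap.ker (((g * x * g⁻¹ : GLkM) : M →ₗ[k] M) - 1)
      = LinearMap.ker (((g * y * g⁻¹ : GLkM) : M →ₗ[k] M) - 1) := by
  ext m
  rw [IF1_aux_mem_ker, IF1_aux_mem_ker, h]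

theorem IF1_aux_range_congr (g : GLkM) {x y : GLkM}
    (h : LinearMap.range ((x : M →ₗ[k] M) - 1) = LinearMap.range ((y : M →ₗ[k] M) - 1)) :
    LinearMap.range (((g * x * g⁻¹ : GLkM) : M →ₗ[k] M) - 1)
      = LinearMap.range (((g * y * g⁻¹ : GLkM) : M →ₗ[k] M) - 1) := by
  ext m
  rw [IF1_aux_mem_range, IF1_aux_mem_range, h]

theorem IF1_aux_rank (g x : GLkM) : commutatorRank (g * x * g⁻¹) = commutatorRank x := by
  unfold commutatorRank
  have e : LinearMap.range (((g * x * g⁻¹ : GLkM) : M →ₗ[k] M) - 1)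
      = (LinearMap.range ((x : M →ₗ[k] M) - 1)).map
          ((LinearMap.GeneralLinearGroup.toLinearEquiv g : M ≃ₗ[k] M) : M →ₗ[k] M) := by
    ext m
    rw [IF1_aux_mem_range, Submodule.mem_map]
    constructor
    · intro h
      exact ⟨_, h, IF1_aux_inv_apply g m⟩
    · rintro ⟨y, hy, rfl⟩
      have : ((g⁻¹ : GLkM) : M →ₗ[k] M)
          (((LinearMap.GeneralLinearGroup.toLinearEquiv g : M ≃ₗ[k] M) : M →ₗ[k] M) y) = y :=
        IF1_aux_apply_inv g y
      rw [this]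
      exact hy
  rw [e]
  exact LinearEquiv.finrank_map_eq _ _

theorem IF1_quad {G : Subgroup GLkM} {σ g : GLkM} (hσ : σ ∈ quadraticElements G) (hg : g ∈ G) :
    g * σ * g⁻¹ ∈ quadraticElements G := by
  obtain ⟨hσG, ⟨hsq, hne⟩, hfam⟩ := hσ
  have egg : (g : Module.End k M) * ((g⁻¹ : GLkM) : Module.End k M) = 1 := by
    rw [← Units.val_mul, mul_inv_cancel, Units.val_one]
  have egg' : ((g⁻¹ : GLkM) : Module.End k M) * (g : Module.End k M) = 1 := by
    rw [← Units.val_mul, inv_mul_cancel, Units.val_one]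
  have hsq' : ((σ : Module.End k M) - 1) * ((σ : Module.End k M) - 1) = 0 := hsq
  have hne' : (σ : Module.End k M) - 1 ≠ 0 := hne
  refine ⟨G.mul_mem (G.mul_mem hg hσG) (G.inv_mem hg), ⟨?_, ?_⟩, ?_⟩
  · show (((g * σ * g⁻¹ : GLkM) : Module.End k M) - 1)
        * (((g * σ * g⁻¹ : GLkM) : Module.End k M) - 1) = 0
    rw [IF1_aux_val]
    calc (g : Module.End k M) * ((σ : Module.End k M) - 1) * ((g⁻¹ : GLkM) : Module.End k M)
          * ((g : Module.End k M) * ((σ : Module.End k M) - 1) * ((g⁻¹ : GLkM) : Module.End k M))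
        = (g : Module.End k M) * ((σ : Module.End k M) - 1)
            * (((g⁻¹ : GLkM) : Module.End k M) * (g : Module.End k M))
            * ((σ : Module.End k M) - 1) * ((g⁻¹ : GLkM) : Module.End k M) := by
          simp only [mul_assoc]
      _ = 0 := by
          rw [egg', mul_one, mul_assoc (g : Module.End k M), hsq', mul_zero, zero_mul]
  · show ((g * σ * g⁻¹ : GLkM) : Module.End k M) - 1 ≠ 0
    rw [IF1_aux_val]
    intro h0
    apply hne'
    have h1 := congrArg (fun y => ((g⁻¹ : GLkM) : Module.End k M) * y * (g : Module.End k M)) h0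
    simp only [mul_zero, zero_mul] at h1
    rw [← h1]
    calc (σ : Module.End k M) - 1
        = (((g⁻¹ : GLkM) : Module.End k M) * (g : Module.End k M)) * ((σ : Module.End k M) - 1)
            * (((g⁻¹ : GLkM) : Module.End k M) * (g : Module.End k M)) := by
          rw [egg', one_mul, mul_one]
      _ = _ := by simp only [mul_assoc]
  · rintro τ ⟨c, hc⟩
    -- `g⁻¹ τ g` lies in the scalar family of `σ`
    have hc' : (τ : Module.End k M) = 1 + c • (((g * σ * g⁻¹ : GLkM) : Module.End k M) - 1) := hc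
    have hρ : g⁻¹ * τ * g ∈ scalarFamily σ := by
      refine ⟨c, ?_⟩
      show ((g⁻¹ * τ * g : GLkM) : Module.End k M) = 1 + c • ((σ : Module.End k M) - 1)
      rw [Units.val_mul, Units.val_mul, hc', IF1_aux_val, mul_add, add_mul, mul_one, egg',
        mul_smul_comm, smul_mul_assoc]
      congr 2
      calc ((g⁻¹ : GLkM) : Module.End k M)
            * ((g : Module.End k M) * ((σ : Module.End k M) - 1) * ((g⁻¹ : GLkM) : Module.End k M))
            * (g : Module.End k M)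
          = (((g⁻¹ : GLkM) : Module.End k M) * (g : Module.End k M)) * ((σ : Module.End k M) - 1)
              * (((g⁻¹ : GLkM) : Module.End k M) * (g : Module.End k M)) := by
            simp only [mul_assoc]
        _ = (σ : Module.End k M) - 1 := by rw [egg', one_mul, mul_one]
    have hρG := hfam hρ
    have e : τ = g * (g⁻¹ * τ * g) * g⁻¹ := by group
    show τ ∈ G
    rw [e]
    exact G.mul_mem (G.mul_mem hg hρG) (G.inv_mem hg)

/-- IF1: conjugates of members of `𝒬_d(G)` by elements of `G` are members. -/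
theorem IF1_min {G : Subgroup GLkM} {σ g : GLkM} (hσ : σ ∈ minimalQuadraticElements G)
    (hg : g ∈ G) : g * σ * g⁻¹ ∈ minimalQuadraticElements G := by
  refine ⟨IF1_quad hσ.1 hg, fun τ hτ => ?_⟩
  rw [IF1_aux_rank]
  exact hσ.2 τ hτ

theorem IF1_class {G : Subgroup GLkM} {σ τ g : GLkM} (hg : g ∈ G)
    (hτ : τ ∈ sameActionClass G σ) : g * τ * g⁻¹ ∈ sameActionClass G (g * σ * g⁻¹) :=
  ⟨IF1_min hτ.1 hg, IF1_aux_ker_congr g hτ.2.1, IF1_aux_range_congr g hτ.2.2⟩

theorem IF1_conj_le {G : Subgroup GLkM} (σ : GLkM) {g : GLkM} (hg : g ∈ G) :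
    conjBy (sameActionSubgroup G σ) g ≤ sameActionSubgroup G (g * σ * g⁻¹) := by
  unfold sameActionSubgroup
  show Subgroup.map _ _ ≤ _
  rw [MonoidHom.map_closure, Subgroup.closure_le]
  rintro _ ⟨τ, hτ, rfl⟩
  apply Subgroup.subset_closure
  exact IF1_class hg hτ

/-- IF1: `g E(σ) g⁻¹ = E(g σ g⁻¹)` for `g ∈ G`. -/
theorem IF1_conj {G : Subgroup GLkM} (σ : GLkM) {g : GLkM} (hg : g ∈ G) :
    conjBy (sameActionSubgroup G σ) g = sameActionSubgroup G (g * σ * g⁻¹) := by
  refine le_antisymm (IF1_conj_le σ hg) ?_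
  intro x hx
  have h1 : g⁻¹ * x * g⁻¹⁻¹ ∈ conjBy (sameActionSubgroup G (g * σ * g⁻¹)) g⁻¹ :=
    ⟨x, hx, rfl⟩
  have h2 := IF1_conj_le (g * σ * g⁻¹) (G.inv_mem hg) h1
  have e : g⁻¹ * (g * σ * g⁻¹) * g⁻¹⁻¹ = σ := by group
  rw [e] at h2
  refine ⟨g⁻¹ * x * g⁻¹⁻¹, h2, ?_⟩
  show g * (g⁻¹ * x * g⁻¹⁻¹) * g⁻¹ = x
  group

/-- IF1: `Σ(G)` is invariant under conjugation by `G`. -/
theorem IF1_mem {G : Subgroup GLkM} {A : Subgroup GLkM} (hA : A ∈ quadraticRootSubgroups G)
    {g : GLkM} (hg : g ∈ G) : conjBy A g ∈ quadraticRootSubgroups G := by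
  obtain ⟨σ, hσ, rfl⟩ := hA
  exact ⟨g * σ * g⁻¹, IF1_min hσ hg, IF1_conj σ hg⟩

theorem IF1_le_of_min {G : Subgroup GLkM} (σ : GLkM) : sameActionSubgroup G σ ≤ G := by
  unfold sameActionSubgroup
  rw [Subgroup.closure_le]
  intro τ hτ
  exact hτ.1.1.1

/-- IF1: the members of `Σ(G)` lie in `G`. -/
theorem IF1_le {G : Subgroup GLkM} {A : Subgroup GLkM} (hA : A ∈ quadraticRootSubgroups G) :
    A ≤ G := by
  obtain ⟨σ, -, rfl⟩ := hA
  exact IF1_le_of_min σ

theorem IF1_self_mem {G : Subgroup GLkM} {σ : GLkM} (hσ : σ ∈ minimalQuadraticElements G) :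
    σ ∈ sameActionSubgroup G σ :=
  Subgroup.subset_closure ⟨hσ, rfl, rfl⟩

theorem IF1_ne_one {G : Subgroup GLkM} {σ : GLkM} (hσ : σ ∈ minimalQuadraticElements G) :
    σ ≠ 1 := by
  rintro rfl
  apply hσ.1.2.1.2
  show ((1 : GLkM) : Module.End k M) - 1 = 0
  rw [Units.val_one, sub_self]

/-- IF1: the members of `Σ(G)` are not trivial. -/
theorem IF1_ne_bot {G : Subgroup GLkM} {A : Subgroup GLkM} (hA : A ∈ quadraticRootSubgroups G) :
    A ≠ ⊥ := by
  obtain ⟨σ, hσ, rfl⟩ := hA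
  intro h
  have h1 := IF1_self_mem hσ
  rw [h, Subgroup.mem_bot] at h1
  exact IF1_ne_one hσ h1

/-- the subgroup generated by `Σ(G)` lies in `G` -/
theorem IF1_gen_le {G : Subgroup GLkM} : (⨆ A ∈ quadraticRootSubgroups G, A) ≤ G :=
  iSup₂_le fun _ hA => IF1_le hA

/-- the subgroup generated by `Σ(G)` is normalised by `G` -/
theorem IF1_gen_conj_mem {G : Subgroup GLkM} {g : GLkM} (hg : g ∈ G) {x : GLkM}
    (hx : x ∈ ⨆ A ∈ quadraticRootSubgroups G, A) :
    g * x * g⁻¹ ∈ ⨆ A ∈ quadraticRootSubgroups G, A := by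
  have key : conjBy (⨆ A ∈ quadraticRootSubgroups G, A) g ≤ ⨆ A ∈ quadraticRootSubgroups G, A := by
    show Subgroup.map _ _ ≤ _
    simp only [Subgroup.map_iSup]
    exact iSup₂_le fun A hA => le_iSup₂_of_le (conjBy A g) (IF1_mem hA hg) le_rfl
  exact key ⟨x, hx, rfl⟩

theorem IF1_gen_conj {G : Subgroup GLkM} {g : GLkM} (hg : g ∈ G) :
    conjBy (⨆ A ∈ quadraticRootSubgroups G, A) g = ⨆ A ∈ quadraticRootSubgroups G, A := by
  apply le_antisymm
  · rintro _ ⟨x, hx, rfl⟩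
    exact IF1_gen_conj_mem hg hx
  · intro x hx
    refine ⟨g⁻¹ * x * g⁻¹⁻¹, IF1_gen_conj_mem (G.inv_mem hg) hx, ?_⟩
    show g * (g⁻¹ * x * g⁻¹⁻¹) * g⁻¹ = x
    group

section IF2

variable [FiniteDimensional k M] {G : Subgroup (LinearMap.GeneralLinearGroup k M)}

theorem IF2_mem_iff {σ : GLkM} (hσ : σ ∈ minimalQuadraticElements G) (x : GLkM) :
    x ∈ sameActionSubgroup G σ ↔ x ∈ sameActionClass G σ ∨ x = 1 := by
  rw [Cfsg.Agent.Helper25.QuadPair.sameActionSubgroup_eq hσ]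
  exact Iff.rfl

omit [FiniteDimensional k M] in
theorem IF2_class_eq {σ τ : GLkM}
    (hk : LinearMap.ker ((τ : M →ₗ[k] M) - 1) = LinearMap.ker ((σ : M →ₗ[k] M) - 1))
    (hr : LinearMap.range ((τ : M →ₗ[k] M) - 1) = LinearMap.range ((σ : M →ₗ[k] M) - 1)) :
    sameActionClass G τ = sameActionClass G σ := by
  ext ρ
  constructor
  · rintro ⟨h1, h2, h3⟩
    exact ⟨h1, h2.trans hk, h3.trans hr⟩
  · rintro ⟨h1, h2, h3⟩
    exact ⟨h1, h2.trans hk.symm, h3.trans hr.symm⟩

omit [FiniteDimensional k M] in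
theorem IF2_subgroup_eq {σ τ : GLkM}
    (hk : LinearMap.ker ((τ : M →ₗ[k] M) - 1) = LinearMap.ker ((σ : M →ₗ[k] M) - 1))
    (hr : LinearMap.range ((τ : M →ₗ[k] M) - 1) = LinearMap.range ((σ : M →ₗ[k] M) - 1)) :
    sameActionSubgroup G τ = sameActionSubgroup G σ := by
  unfold sameActionSubgroup
  rw [IF2_class_eq hk hr]

/-- IF2: a member of `Σ(G)` is `E(x)` for each of its non-identity elements `x`, and these lie in
`𝒬_d(G)`. -/
theorem IF2 {A : Subgroup GLkM} (hA : A ∈ quadraticRootSubgroups G) {x : GLkM} (hx : x ∈ A)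
    (hx1 : x ≠ 1) : x ∈ minimalQuadraticElements G ∧ A = sameActionSubgroup G x := by
  obtain ⟨σ, hσ, rfl⟩ := hA
  rcases (IF2_mem_iff hσ x).1 hx with h | h
  · exact ⟨h.1, (IF2_subgroup_eq h.2.1 h.2.2).symm⟩
  · exact absurd h hx1

/-- two members of `Σ(G)` with a common non-identity element coincide -/
theorem IF2_eq_of_mem {A B : Subgroup GLkM} (hA : A ∈ quadraticRootSubgroups G)
    (hB : B ∈ quadraticRootSubgroups G) {x : GLkM} (hxA : x ∈ A) (hxB : x ∈ B) (hx1 : x ≠ 1) :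
    A = B := by
  rw [(IF2 hA hxA hx1).2, (IF2 hB hxB hx1).2]

end IF2

end Cfsg.Agent.QP2
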