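import Mathlib
import Cfsg.Agent.Helper25.QPDefs

set_option autoImplicit false

/-! Board `qppieces`, piece TRANS: translation from the Prelude notions
(`minimalQuadraticElements`, `commutatorRank`, `scalarFamily`) to the working predicates
`MinRank`, `Qd`, `Hgrp`. -/

noncomputable section

namespace Cfsg.Agent.QPP

open Cfsg Cfsg.Agent.Helper25.QP Cfsg.Agent.Helper25.QuadPair Polynomial

variable {k : Type*} [Field k] {M : Type*} [AddCommGroup M] [Module k M]

local notation "GLkM" => LinearMap.GeneralLinearGroup k M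

theorem TRANS_Qd [FiniteDimensional k M] {G : Subgroup GLkM} {σ : GLkM}
    (hσ : σ ∈ minimalQuadraticElements G) :
    MinRank G (commutatorRank σ) ∧ Qd G (commutatorRank σ) ((σ : Module.End k M) - 1) := by
  refine ⟨?_, QFam.of_mem_quadraticElements hσ.1, rfl⟩
  intro a ha h0
  have hmem := QFam.mem_quadraticElements ha h0
  have hle := hσ.2 _ hmem
  have hval : ((unipUnit a ha.1 : GLkM) : Module.End k M) - 1 = a := by
    rw [val_unipUnit]; abel
  have hr : commutatorRank (unipUnit a ha.1 : GLkM) = Module.finrank k (LinearMap.range a) := by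
    unfold commutatorRank
    have hval' : (((unipUnit a ha.1 : GLkM) : M →ₗ[k] M) - 1) = a := hval
    rw [hval']
  rw [hr] at hle
  exact hle

theorem TRANS_rank [FiniteDimensional k M] {G : Subgroup GLkM} {σ τ : GLkM}
    (hσ : σ ∈ minimalQuadraticElements G) (hτ : τ ∈ minimalQuadraticElements G) :
    commutatorRank σ = commutatorRank τ :=
  le_antisymm (hσ.2 τ hτ.1) (hτ.2 σ hσ.1)

theorem TRANS_aux_family (σ : GLkM)
    (ha : ((σ : Module.End k M) - 1) * ((σ : Module.End k M) - 1) = 0) :
    scalarFamily σ = Set.range (uu ((σ : Module.End k M) - 1) ha) := by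
  ext ρ
  constructor
  · rintro ⟨c, hc⟩
    refine ⟨c, ?_⟩
    apply Units.ext
    rw [val_uu]
    exact hc.symm
  · rintro ⟨c, rfl⟩
    exact ⟨c, rfl⟩

theorem TRANS_Hgrp (σ τ : GLkM) (ha : ((σ : Module.End k M) - 1) * ((σ : Module.End k M) - 1) = 0)
    (hb : ((τ : Module.End k M) - 1) * ((τ : Module.End k M) - 1) = 0) :
    Subgroup.closure (scalarFamily σ ∪ scalarFamily τ)
      = Hgrp ((σ : Module.End k M) - 1) ((τ : Module.End k M) - 1) ha hb := by
  rw [TRANS_aux_family σ ha, TRANS_aux_family τ hb]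
  rfl

end Cfsg.Agent.QPP

end
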