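import Cfsg.Agent.Helper5.S0518Defs

/-! # S0518, piece TCONJ: the conjugates of `c₁` inside `T` lie in `c₁T₀`. -/

set_option autoImplicit false

universe u

namespace Cfsg.Agent.S0518P

open Cfsg Subgroup

variable {G : Type u} [Group G]

/-- the conjugates of `c₁` in `T` lie in `c₁T₀` -/
theorem TCONJ [Finite G] {C : Cfg G} {z : G} (d : TData C z) (g : G) (hg : g * C.c₁ * g⁻¹ ∈ C.T) :
    C.c₁⁻¹ * (g * C.c₁ * g⁻¹) ∈ C.T₀ := by
  have hsq : C.c₁ * C.c₁ = 1 := d.base.b₁.c_sq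
  have hinv : C.c₁⁻¹ = C.c₁ := inv_eq_of_mul_eq_one_left hsq
  rcases d.d2.T_cover _ hg with h | h
  · exfalso
    have hbsq : (g * C.c₁ * g⁻¹) * (g * C.c₁ * g⁻¹) = 1 := by
      have : (g * C.c₁ * g⁻¹) * (g * C.c₁ * g⁻¹) = g * (C.c₁ * C.c₁) * g⁻¹ := by group
      rw [this, hsq]; group
    have hbne : g * C.c₁ * g⁻¹ ≠ 1 := by
      intro h1
      apply d.base.b₁.c_ne
      have : C.c₁ = g⁻¹ * (g * C.c₁ * g⁻¹) * g := by group
      rw [this, h1]; group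
    obtain ⟨k, hk⟩ := d.d2.fuse _ h hbsq hbne
    apply d.d3.not_conj₁ (k⁻¹ * g)
    have : k⁻¹ * g * C.c₁ * (k⁻¹ * g)⁻¹ = k⁻¹ * (g * C.c₁ * g⁻¹) * k := by group
    rw [this, ← hk]; group
  · rw [hinv]; exact h

end Cfsg.Agent.S0518P
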