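import Cfsg.Agent.Helper5.S0518Defs
import Cfsg.Agent.Helper1.S0518TRANSFER
import Cfsg.Agent.Helper23.S0518TCONJ

/-! # S0518, piece TS: the case `T = S` (`T` a Sylow 2-subgroup of `G`): `c₁ ∉ O^2(G)` by transfer. -/

set_option autoImplicit false

universe u

namespace Cfsg.Agent.S0518P

open Cfsg Subgroup

variable {G : Type u} [Group G]

/-- `c₁` is central in `T` -/
theorem TS_aux_central {C : Cfg G} {z : G} (d : TData C z) : ∀ x ∈ C.T, x * C.c₁ = C.c₁ * x :=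
  fun x hx => d.base.b₁.c_central x (d.base.b₁.T_le hx)

/-- every element of `T` is `a'` or `c₁a'` with `a' ∈ T₀` -/
theorem TS_aux_decomp {C : Cfg G} {z : G} (d : TData C z) (a : G) (ha : a ∈ C.T) :
    ∃ a' ∈ C.T₀, a = a' ∨ a = C.c₁ * a' := by
  rcases d.d2.T_cover a ha with h | h
  · exact ⟨a, h, Or.inl rfl⟩
  · refine ⟨C.c₁ * a, h, Or.inr ?_⟩
    have hsq : C.c₁ * C.c₁ = 1 := d.base.b₁.c_sq
    rw [← mul_assoc, hsq, one_mul]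

/-- `[T,T] ≤ T₀` -/
theorem TS_aux_comm {C : Cfg G} {z : G} (d : TData C z) (a : G) (ha : a ∈ C.T) (b : G) (hb : b ∈ C.T) :
    a * b * a⁻¹ * b⁻¹ ∈ C.T₀ := by
  have hc := TS_aux_central d
  have hT₀ := d.d2.T₀_le
  have hA : ∀ a ∈ C.T, ∀ b ∈ C.T, (C.c₁ * a) * b * (C.c₁ * a)⁻¹ * b⁻¹ = a * b * a⁻¹ * b⁻¹ := by
    intro a ha b hb
    have hm : a * b * a⁻¹ ∈ C.T := C.T.mul_mem (C.T.mul_mem ha hb) (C.T.inv_mem ha)
    calc (C.c₁ * a) * b * (C.c₁ * a)⁻¹ * b⁻¹ = C.c₁ * (a * b * a⁻¹) * C.c₁⁻¹ * b⁻¹ := by group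
      _ = (a * b * a⁻¹) * C.c₁ * C.c₁⁻¹ * b⁻¹ := by rw [← hc _ hm]
      _ = a * b * a⁻¹ * b⁻¹ := by group
  have hB : ∀ a ∈ C.T, ∀ b ∈ C.T, a * (C.c₁ * b) * a⁻¹ * (C.c₁ * b)⁻¹ = a * b * a⁻¹ * b⁻¹ := by
    intro a ha b hb
    have hm : a * b * a⁻¹ * b⁻¹ ∈ C.T :=
      C.T.mul_mem (C.T.mul_mem (C.T.mul_mem ha hb) (C.T.inv_mem ha)) (C.T.inv_mem hb)
    calc a * (C.c₁ * b) * a⁻¹ * (C.c₁ * b)⁻¹ = (a * C.c₁) * b * a⁻¹ * b⁻¹ * C.c₁⁻¹ := by group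
      _ = (C.c₁ * a) * b * a⁻¹ * b⁻¹ * C.c₁⁻¹ := by rw [hc a ha]
      _ = C.c₁ * (a * b * a⁻¹ * b⁻¹) * C.c₁⁻¹ := by group
      _ = (a * b * a⁻¹ * b⁻¹) * C.c₁ * C.c₁⁻¹ := by rw [← hc _ hm]
      _ = a * b * a⁻¹ * b⁻¹ := by group
  have hfin : ∀ a' ∈ C.T₀, ∀ b' ∈ C.T₀, a' * b' * a'⁻¹ * b'⁻¹ ∈ C.T₀ := fun a' ha' b' hb' =>
    C.T₀.mul_mem (C.T₀.mul_mem (C.T₀.mul_mem ha' hb') (C.T₀.inv_mem ha')) (C.T₀.inv_mem hb')
  obtain ⟨a', ha', h1 | h1⟩ := TS_aux_decomp d a ha <;>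
  obtain ⟨b', hb', h2 | h2⟩ := TS_aux_decomp d b hb
  · rw [h1, h2]; exact hfin a' ha' b' hb'
  · rw [h1, h2, hB a' (hT₀ ha') b' (hT₀ hb')]; exact hfin a' ha' b' hb'
  · rw [h1, h2, hA a' (hT₀ ha') b' (hT₀ hb')]; exact hfin a' ha' b' hb'
  · have hcb : C.c₁ * b' ∈ C.T := by
      have hc₁ : C.c₁ ∈ C.T := d.base.b₁.Q_le d.d1.c₁_mem.1
      exact C.T.mul_mem hc₁ (hT₀ hb')
    rw [h1, h2, hA a' (hT₀ ha') _ hcb, hB a' (hT₀ ha') b' (hT₀ hb')]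
    exact hfin a' ha' b' hb'

/-- `T₀ ⊴ T` -/
theorem TS_aux_normal {C : Cfg G} {z : G} (d : TData C z) : C.T ≤ normalizer (C.T₀ : Set G) := by
  have key : ∀ t ∈ C.T, ∀ x ∈ C.T₀, t * x * t⁻¹ ∈ C.T₀ := by
    intro t ht x hx
    have h1 := TS_aux_comm d t ht x (d.d2.T₀_le hx)
    have : t * x * t⁻¹ = (t * x * t⁻¹ * x⁻¹) * x := by group
    rw [this]
    exact C.T₀.mul_mem h1 hx
  intro t ht
  rw [mem_normalizer_iff]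
  intro x
  constructor
  · exact key t ht x
  · intro h
    have := key t⁻¹ (C.T.inv_mem ht) _ h
    have e : t⁻¹ * (t * x * t⁻¹) * t⁻¹⁻¹ = x := by group
    rwa [e] at this

/-- `T = S` -/
theorem TS [Finite G] {C : Cfg G} {z : G} (d : TData C z) (S : Sylow 2 G) (hS : (S : Subgroup G) = C.T) :
    C.c₁ ∉ O2 G := by
  have hodd : Odd (C.T).index := by
    rw [← hS]
    have : Fact (Nat.Prime 2) := ⟨Nat.prime_two⟩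
    have := S.not_dvd_index
    exact Nat.odd_iff.mpr (Nat.two_dvd_ne_zero.mp this)
  have h2 : IsPGroup 2 ↥C.T := IsPGroup.of_card (n := 4) (by rw [d.base.b₁.card_T]; norm_num)
  have hsq : C.c₁ * C.c₁ = 1 := d.base.b₁.c_sq
  refine TRANSFER C.T hodd C.T₀ (TS_aux_normal d) (TS_aux_comm d) ?_ C.c₁
    (d.base.b₁.Q_le d.d1.c₁_mem.1) (by rw [pow_two]; exact hsq) d.d2.c₁_not_mem
    (fun g hg => TCONJ d g hg)
  intro a ha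
  obtain ⟨k, hk⟩ := h2 ⟨a, ha⟩
  refine ⟨k, ?_⟩
  have := congrArg Subtype.val hk
  simp only [SubgroupClass.coe_pow, OneMemClass.coe_one] at this
  rw [this]
  exact C.T₀.one_mem

end Cfsg.Agent.S0518P
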