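import Mathlib

set_option autoImplicit false

/-! # S4504, piece M-REDKER: an integral matrix of finite order prime to `p` that reduces to `1`
modulo the maximal ideal is `1`. -/

namespace Cfsg.Agent.S4504P

/-- M-REDKER -/
theorem eq_one_of_residue_eq_one (A : ValuationSubring ℂ) (p : ℕ) [Fact p.Prime]
    (hpA : (p : ℂ) ∈ A.nonunits) (n : ℕ) (M : Matrix (Fin n) (Fin n) A) (m : ℕ)
    (hm : M ^ m = 1) (hpm : ¬ p ∣ m) (hres : M.map (IsLocalRing.residue A) = 1) : M = 1 := by
  classical
  have hp : p.Prime := Fact.out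
  set r := IsLocalRing.residue A with hr
  -- `p = 0` in the residue field
  have hp0 : ((p : ℕ) : IsLocalRing.ResidueField A) = 0 := by
    obtain ⟨ha, hmem⟩ := ValuationSubring.mem_nonunits_iff_exists_mem_maximalIdeal.mp hpA
    have h1 : (⟨(p : ℂ), ha⟩ : A) = ((p : ℕ) : A) := by
      apply Subtype.ext
      simp
    rw [h1] at hmem
    have := (IsLocalRing.residue_eq_zero_iff _).mpr hmem
    rwa [map_natCast] at this
  -- `m` is a unit in the residue field
  have hm0 : ((m : ℕ) : IsLocalRing.ResidueField A) ≠ 0 := by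
    have hcop : Nat.Coprime m p := ((Nat.Prime.coprime_iff_not_dvd hp).mpr hpm).symm
    have h1 : IsCoprime (m : ℤ) (p : ℤ) := Nat.isCoprime_iff_coprime.mpr hcop
    have h2 := h1.map (Int.castRingHom (IsLocalRing.ResidueField A))
    simp only [eq_intCast, Int.cast_natCast] at h2
    rw [hp0, isCoprime_zero_right] at h2
    exact h2.ne_zero
  -- the geometric sum
  set S : Matrix (Fin n) (Fin n) A := ∑ i ∈ Finset.range m, M ^ i with hS
  have hSM : S * (M - 1) = 0 := by
    rw [hS, geom_sum_mul, hm, sub_self]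
  have hSres : r.mapMatrix S = ((m : ℕ) : Matrix (Fin n) (Fin n) (IsLocalRing.ResidueField A)) := by
    have hM1 : r.mapMatrix M = 1 := hres
    rw [hS, map_sum]
    simp only [map_pow, hM1, one_pow, Finset.sum_const, Finset.card_range, nsmul_eq_mul, mul_one]
  have hdet : IsUnit S.det := by
    have h1 : r S.det = ((m : ℕ) : IsLocalRing.ResidueField A) ^ n := by
      rw [RingHom.map_det, hSres, ← Matrix.diagonal_natCast, Matrix.det_diagonal,
        Finset.prod_const, Finset.card_univ, Fintype.card_fin]
    by_contra hnu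
    have hmem : S.det ∈ IsLocalRing.maximalIdeal A := (IsLocalRing.mem_maximalIdeal _).mpr hnu
    have h0 := (IsLocalRing.residue_eq_zero_iff _).mpr hmem
    rw [← hr, h1] at h0
    exact pow_ne_zero n hm0 h0
  have hSu : IsUnit S := (Matrix.isUnit_iff_isUnit_det S).mpr hdet
  have := hSu.mul_right_eq_zero.mp hSM
  exact sub_eq_zero.mp this

end Cfsg.Agent.S4504P
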