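import Mathlib
import Cfsg.Agent.Helper20.TiClaim
import Cfsg.Agent.Helper20.TiLattice
import Cfsg.Agent.Helper10.S4504REDAC
import Cfsg.Agent.Helper23.S4504REDKER
import Cfsg.Agent.Helper10.S4504REDLAT

set_option autoImplicit false

/-! # S4504, piece M-RED: reduction modulo `p` of a faithful complex representation. -/

namespace Cfsg.Agent.Helper23.S4504RED

open Module

/-- the integral matrices of a representation with respect to an integral basis, as a monoid
hom -/
noncomputable def intMat (A : ValuationSubring ℂ) {G : Type*} [Group G] (n : ℕ)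
    (ρ : Representation ℂ G (Fin n → ℂ)) (b : Basis (Fin n) ℂ (Fin n → ℂ))
    (h : ∀ (g : G) (i j : Fin n), LinearMap.toMatrix b b (ρ g) i j ∈ A) :
    G →* Matrix (Fin n) (Fin n) A where
  toFun g := Matrix.of fun i j => ⟨LinearMap.toMatrix b b (ρ g) i j, h g i j⟩
  map_one' := by
    ext i j
    rw [Matrix.of_apply]
    simp only [map_one, LinearMap.toMatrix_one, Matrix.one_apply]
    split_ifs <;> rfl
  map_mul' g g' := by
    ext i j
    rw [Matrix.of_apply, Matrix.mul_apply]
    simp only [map_mul, LinearMap.toMatrix_mul, Matrix.mul_apply, Matrix.of_apply]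
    rw [AddSubmonoidClass.coe_finsetSum]
    rfl

theorem intMat_map (A : ValuationSubring ℂ) {G : Type*} [Group G] (n : ℕ)
    (ρ : Representation ℂ G (Fin n → ℂ)) (b : Basis (Fin n) ℂ (Fin n → ℂ))
    (h : ∀ (g : G) (i j : Fin n), LinearMap.toMatrix b b (ρ g) i j ∈ A) (g : G) :
    (intMat A n ρ b h g).map A.subtype = LinearMap.toMatrix b b (ρ g) := by
  ext i j
  rfl

end Cfsg.Agent.Helper23.S4504RED

namespace Cfsg.Agent.S4504P

open Module Cfsg.Agent.Helper23.S4504RED

/-- M-RED -/
theorem exists_modular_rep {G : Type*} [Group G] [Finite G] (p : ℕ) [Fact p.Prime] (n : ℕ)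
    (ρ : Representation ℂ G (Fin n → ℂ)) (hinj : ∀ g : G, ρ g = 1 → g = 1) :
    ∃ (k : Type) (_ : Field k) (_ : IsAlgClosed k) (_ : CharP k p)
      (σ : Representation k G (Fin n → k)),
      ∀ g : G, σ g = 1 → ¬ p ∣ orderOf g → g = 1 := by
  classical
  obtain ⟨A, hpA⟩ := Cfsg.Agent.Helper20.TiClaim.exists_valuationSubring p
  obtain ⟨b, hb⟩ := exists_integral_basis A n ρ
  let Mg := intMat A n ρ b hb
  let r := IsLocalRing.residue A
  let σ : Representation (IsLocalRing.ResidueField A) G (Fin n → IsLocalRing.ResidueField A) :=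
    (Matrix.toLinAlgEquiv' : Matrix (Fin n) (Fin n) (IsLocalRing.ResidueField A) ≃ₐ[_] _).toAlgHom.toRingHom.toMonoidHom.comp
      (r.mapMatrix.toMonoidHom.comp Mg)
  refine ⟨IsLocalRing.ResidueField A, inferInstance, isAlgClosed_residueField A,
    Cfsg.Agent.Helper20.TiLattice.charP_residue p A hpA, σ, ?_⟩
  intro g hg hpg
  have h1 : r.mapMatrix (Mg g) = 1 := by
    have : Matrix.toLinAlgEquiv' (r.mapMatrix (Mg g)) = 1 := hg
    exact (Matrix.toLinAlgEquiv' : Matrix (Fin n) (Fin n) (IsLocalRing.ResidueField A) ≃ₐ[_] _).injective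
      (by rw [this, map_one])
  have h2 : Mg g ^ orderOf g = 1 := by
    rw [← map_pow, pow_orderOf_eq_one, map_one]
  have h3 : Mg g = 1 := eq_one_of_residue_eq_one A p hpA n (Mg g) (orderOf g) h2 hpg h1
  have h4 : LinearMap.toMatrix b b (ρ g) = 1 := by
    rw [← intMat_map A n ρ b hb g]
    change (Mg g).map A.subtype = 1
    rw [h3]
    ext i j
    simp [Matrix.one_apply]
    split_ifs <;> rfl
  apply hinj
  apply (LinearMap.toMatrix b b).injective
  rw [h4]
  exact (LinearMap.toMatrix_one b).symm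

end Cfsg.Agent.S4504P
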