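import Mathlib
import Cfsg.Agent.Helper23.S4504RED

set_option autoImplicit false

/-! # S0997, piece T-RED2: reduction modulo `p` of a faithful complex representation carrying an
invariant symmetric form. -/

namespace Cfsg.Agent.Helper23.S0997TRED2

open Module

/-- In a valuation subring, a nonzero finite matrix can be scaled by one of its entries so that all
entries become integral. -/
theorem exists_pivot (A : ValuationSubring ℂ) (n : ℕ) (T : Matrix (Fin n) (Fin n) ℂ)
    (hT : T ≠ 0) :
    ∃ i₀ j₀ : Fin n, T i₀ j₀ ≠ 0 ∧ ∀ i j : Fin n, T i j / T i₀ j₀ ∈ A := by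
  classical
  have hne : ∃ i j : Fin n, T i j ≠ 0 := by
    by_contra hcon
    apply hT
    ext i j
    by_contra hij
    exact hcon ⟨i, j, hij⟩
  obtain ⟨i₁, j₁, h₁⟩ := hne
  obtain ⟨q, -, hq⟩ := Finset.exists_max_image (Finset.univ : Finset (Fin n × Fin n))
    (fun q => A.valuation (T q.1 q.2)) ⟨(i₁, j₁), Finset.mem_univ _⟩
  have hpos : 0 < A.valuation (T q.1 q.2) := by
    have h2 : A.valuation (T i₁ j₁) ≤ A.valuation (T q.1 q.2) := hq (i₁, j₁) (Finset.mem_univ _)
    have h3 : 0 < A.valuation (T i₁ j₁) := by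
      rw [zero_lt_iff]
      exact (map_ne_zero _).mpr h₁
    exact lt_of_lt_of_le h3 h2
  have hq0 : T q.1 q.2 ≠ 0 := by
    intro h0
    rw [h0, map_zero] at hpos
    exact lt_irrefl _ hpos
  refine ⟨q.1, q.2, hq0, fun i j => ?_⟩
  rw [← A.valuation_le_one_iff, map_div₀]
  exact (div_le_one₀ hpos).mpr (hq (i, j) (Finset.mem_univ _))

end Cfsg.Agent.Helper23.S0997TRED2

namespace Cfsg.Agent.S0997P

open Module Cfsg.Agent.Helper23.S4504RED Cfsg.Agent.S4504P

/-- T-RED2 -/
theorem exists_modular_rep_form {G : Type*} [Group G] [Finite G] (p : ℕ) [Fact p.Prime] (n : ℕ)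
    (ρ : Representation ℂ G (Fin n → ℂ)) (hinj : ∀ g : G, ρ g = 1 → g = 1)
    (S : Matrix (Fin n) (Fin n) ℂ) (hS0 : S ≠ 0) (hSs : S.transpose = S)
    (hSinv : ∀ g : G,
      (LinearMap.toMatrix' (ρ g)).transpose * S * LinearMap.toMatrix' (ρ g) = S) :
    ∃ (k : Type) (_ : Field k) (_ : IsAlgClosed k) (_ : CharP k p)
      (σ : Representation k G (Fin n → k)) (β : LinearMap.BilinForm k (Fin n → k)),
      (∀ g : G, σ g = 1 → ¬ p ∣ orderOf g → g = 1) ∧ β ≠ 0 ∧ (∀ v w, β v w = β w v) ∧
      ∀ g v w, β (σ g v) (σ g w) = β v w := by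
  classical
  obtain ⟨A, hpA⟩ := Cfsg.Agent.Helper20.TiClaim.exists_valuationSubring p
  obtain ⟨b, hb⟩ := exists_integral_basis A n ρ
  -- the matrix of the basis `b` and the Gram matrix of `S`
  let B : Matrix (Fin n) (Fin n) ℂ := (Pi.basisFun ℂ (Fin n)).toMatrix b
  have hBinv : IsUnit B.det := by
    have : Invertible B := (Pi.basisFun ℂ (Fin n)).invertibleToMatrix b
    exact (Matrix.isUnit_iff_isUnit_det B).mp (isUnit_of_invertible B)
  let T : Matrix (Fin n) (Fin n) ℂ := B.transpose * S * B
  have hTs : T.transpose = T := by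
    simp only [T, Matrix.transpose_mul, Matrix.transpose_transpose, hSs, Matrix.mul_assoc]
  have hT0 : T ≠ 0 := by
    intro h0
    apply hS0
    have hBu : IsUnit B := (Matrix.isUnit_iff_isUnit_det B).mpr hBinv
    have hBtu : IsUnit B.transpose := by
      rw [Matrix.isUnit_iff_isUnit_det, Matrix.det_transpose]
      exact hBinv
    have h1 : B.transpose * (S * B) = B.transpose * 0 := by
      rw [Matrix.mul_zero, ← Matrix.mul_assoc]
      exact h0
    have h2 : S * B = 0 := hBtu.mul_left_cancel h1
    have h3 : S * B = 0 * B := by rw [h2, Matrix.zero_mul]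
    exact hBu.mul_right_cancel h3
  -- relation between the two matrices of `ρ g`
  have hconj : ∀ g : G, LinearMap.toMatrix' (ρ g) * B = B * LinearMap.toMatrix b b (ρ g) := by
    intro g
    have e1 : LinearMap.toMatrix' (ρ g) =
        LinearMap.toMatrix (Pi.basisFun ℂ (Fin n)) (Pi.basisFun ℂ (Fin n)) (ρ g) := by
      rw [LinearMap.toMatrix_eq_toMatrix']
    rw [e1]
    change LinearMap.toMatrix (Pi.basisFun ℂ (Fin n)) (Pi.basisFun ℂ (Fin n)) (ρ g) *
        (Pi.basisFun ℂ (Fin n)).toMatrix b =
      (Pi.basisFun ℂ (Fin n)).toMatrix b * LinearMap.toMatrix b b (ρ g)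
    rw [basis_toMatrix_mul_linearMap_toMatrix, linearMap_toMatrix_mul_basis_toMatrix]
  have hTinv : ∀ g : G, (LinearMap.toMatrix b b (ρ g)).transpose * T *
      LinearMap.toMatrix b b (ρ g) = T := by
    intro g
    set Mg := LinearMap.toMatrix b b (ρ g) with hMg
    set R := LinearMap.toMatrix' (ρ g) with hR
    have h1 : B * Mg = R * B := (hconj g).symm
    calc Mg.transpose * T * Mg = (B * Mg).transpose * S * (B * Mg) := by
          simp only [T, Matrix.transpose_mul, Matrix.mul_assoc]
      _ = (R * B).transpose * S * (R * B) := by rw [h1]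
      _ = B.transpose * (R.transpose * S * R) * B := by
          simp only [Matrix.transpose_mul, Matrix.mul_assoc]
      _ = T := by rw [hSinv g]
  -- scale
  obtain ⟨i₀, j₀, ht0, hdiv⟩ := Cfsg.Agent.Helper23.S0997TRED2.exists_pivot A n T hT0
  let T' : Matrix (Fin n) (Fin n) A := Matrix.of fun i j => ⟨T i j / T i₀ j₀, hdiv i j⟩
  have hT'map : T'.map A.subtype = (T i₀ j₀)⁻¹ • T := by
    ext i j
    simp only [T', Matrix.map_apply, Matrix.of_apply, Matrix.smul_apply, smul_eq_mul]
    change T i j / T i₀ j₀ = _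
    rw [div_eq_inv_mul]
  let Mg := intMat A n ρ b hb
  have hsubinj : Function.Injective (fun M : Matrix (Fin n) (Fin n) A => M.map A.subtype) := by
    intro M N hMN
    ext i j
    have := congrFun (congrFun hMN i) j
    simpa using this
  have hT's : T'.transpose = T' := by
    apply hsubinj
    change (T'.transpose).map A.subtype = T'.map A.subtype
    rw [Matrix.transpose_map, hT'map, Matrix.transpose_smul, hTs]
  have hT'inv : ∀ g : G, (Mg g).transpose * T' * Mg g = T' := by
    intro g
    apply hsubinj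
    change ((Mg g).transpose * T' * Mg g).map A.subtype = T'.map A.subtype
    have hmul : ∀ X Y : Matrix (Fin n) (Fin n) A,
        (X * Y).map A.subtype = X.map A.subtype * Y.map A.subtype := by
      intro X Y
      exact Matrix.map_mul (f := A.subtype)
    rw [hmul, hmul, Matrix.transpose_map, hT'map, intMat_map A n ρ b hb g, Matrix.mul_smul,
      Matrix.smul_mul, hTinv g]
  let r := IsLocalRing.residue A
  let Tbar : Matrix (Fin n) (Fin n) (IsLocalRing.ResidueField A) := r.mapMatrix T'
  let σ : Representation (IsLocalRing.ResidueField A) G (Fin n → IsLocalRing.ResidueField A) :=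
    (Matrix.toLinAlgEquiv' : Matrix (Fin n) (Fin n) (IsLocalRing.ResidueField A) ≃ₐ[_] _).toAlgHom.toRingHom.toMonoidHom.comp
      (r.mapMatrix.toMonoidHom.comp Mg)
  let β : LinearMap.BilinForm (IsLocalRing.ResidueField A) (Fin n → IsLocalRing.ResidueField A) :=
    Matrix.toBilin' Tbar
  have hTbars : Tbar.transpose = Tbar := by
    change (r.mapMatrix T').transpose = r.mapMatrix T'
    rw [RingHom.mapMatrix_apply, ← Matrix.transpose_map, hT's]
  have hTbarinv : ∀ g : G, (r.mapMatrix (Mg g)).transpose * Tbar * r.mapMatrix (Mg g) = Tbar := by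
    intro g
    change (r.mapMatrix (Mg g)).transpose * r.mapMatrix T' * r.mapMatrix (Mg g) = r.mapMatrix T'
    have : (r.mapMatrix (Mg g)).transpose = r.mapMatrix (Mg g).transpose := by
      rw [RingHom.mapMatrix_apply, RingHom.mapMatrix_apply, ← Matrix.transpose_map]
    rw [this, ← map_mul, ← map_mul, hT'inv g]
  refine ⟨IsLocalRing.ResidueField A, inferInstance, isAlgClosed_residueField A,
    Cfsg.Agent.Helper20.TiLattice.charP_residue p A hpA, σ, β, ?_, ?_, ?_, ?_⟩
  · intro g hg hpg
    have h1 : r.mapMatrix (Mg g) = 1 := by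
      have : Matrix.toLinAlgEquiv' (r.mapMatrix (Mg g)) = 1 := hg
      exact (Matrix.toLinAlgEquiv' : Matrix (Fin n) (Fin n) (IsLocalRing.ResidueField A) ≃ₐ[_] _).injective
        (by rw [this, map_one])
    have h2 : Mg g ^ orderOf g = 1 := by
      rw [← map_pow, pow_orderOf_eq_one, map_one]
    have h3 : Mg g = 1 := eq_one_of_residue_eq_one A p hpA n (Mg g) (orderOf g) h2 hpg h1
    have h4 : LinearMap.toMatrix b b (ρ g) = 1 := by
      rw [← intMat_map A n ρ b hb g]
      change (Mg g).map A.subtype = 1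
      rw [h3]
      ext i j
      simp [Matrix.one_apply]
      split_ifs <;> rfl
    apply hinj
    apply (LinearMap.toMatrix b b).injective
    rw [h4]
    exact (LinearMap.toMatrix_one b).symm
  · intro h0
    have h1 : Tbar = 0 := by
      have : Matrix.toBilin' Tbar = Matrix.toBilin' (0 : Matrix (Fin n) (Fin n) _) := by
        rw [map_zero]
        exact h0
      exact Matrix.toBilin'.injective this
    have h2 : Tbar i₀ j₀ = 1 := by
      change r (T' i₀ j₀) = 1
      have : T' i₀ j₀ = 1 := by
        apply Subtype.ext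
        change T i₀ j₀ / T i₀ j₀ = 1
        exact div_self ht0
      rw [this, map_one]
    rw [h1] at h2
    exact zero_ne_one h2
  · intro v w
    change Matrix.toBilin' Tbar v w = Matrix.toBilin' Tbar w v
    rw [Matrix.toBilin'_apply', Matrix.toBilin'_apply']
    have : v ⬝ᵥ Tbar.mulVec w = w ⬝ᵥ Tbar.transpose.mulVec v := by
      rw [Matrix.mulVec_transpose, Matrix.dotProduct_mulVec, dotProduct_comm]
    rw [this, hTbars]
  · intro g v w
    have hσ : ∀ u, σ g u = (r.mapMatrix (Mg g)).mulVec u := fun u => rfl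
    change Matrix.toBilin' Tbar (σ g v) (σ g w) = Matrix.toBilin' Tbar v w
    rw [Matrix.toBilin'_apply', Matrix.toBilin'_apply', hσ, hσ]
    set N := r.mapMatrix (Mg g) with hN
    have h1 : N.mulVec v ⬝ᵥ Tbar.mulVec (N.mulVec w) =
        v ⬝ᵥ (N.transpose * Tbar * N).mulVec w := by
      rw [← Matrix.mulVec_mulVec, ← Matrix.mulVec_mulVec, Matrix.dotProduct_mulVec v N.transpose,
        Matrix.vecMul_transpose]
    rw [h1, hTbarinv g]

end Cfsg.Agent.S0997P
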