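import Mathlib
import Cfsg.Prelude.Def_Transfer
import Cfsg.Agent.Helper8.S1904Defs
import Cfsg.Agent.Helper10.PGroupBasic

/-! Board `s1904pieces`, row T4: an invariant normal elementary abelian subgroup is central. -/

set_option autoImplicit false

namespace Cfsg.Agent.S1904P

variable {X : Type*} [Group X] [Finite X] {A : Subgroup (MulAut X)} {B : Subgroup X}

/-- (own copy of the argument of row T2) a normal subgroup fixed pointwise by `A` is central. -/
theorem T4_aux_fixed_central (H : Hyp A) (N : Subgroup X) (hN : N.Normal)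
    (hfix : ∀ φ ∈ A, ∀ n ∈ N, φ n = n) : N ≤ Subgroup.center X := by
  have hcl : Subgroup.closure {g : X | ∃ φ ∈ A, ∃ x : X, g = x⁻¹ * φ x} ≤
      Subgroup.centralizer (N : Set X) := by
    rw [Subgroup.closure_le]
    rintro g ⟨φ, hφ, y, rfl⟩
    rw [SetLike.mem_coe, Subgroup.mem_centralizer_iff]
    intro n hn
    have h1 : y * n * y⁻¹ ∈ N := hN.conj_mem n hn y
    have h2 := hfix φ hφ _ h1
    rw [map_mul, map_mul, map_inv, hfix φ hφ n hn] at h2
    calc n * (y⁻¹ * φ y) = y⁻¹ * (y * n * y⁻¹) * φ y := by group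
      _ = y⁻¹ * (φ y * n * (φ y)⁻¹) * φ y := by rw [h2]
      _ = y⁻¹ * φ y * n := by group
  rw [H.gen] at hcl
  intro n hn
  rw [Subgroup.mem_center_iff]
  intro g
  have h3 := hcl (Subgroup.mem_top g)
  rw [Subgroup.mem_centralizer_iff] at h3
  exact (h3 n hn).symm

/-- automorphisms preserve the centre -/
theorem T4_aux_center (φ : MulAut X) {z : X} (hz : z ∈ Subgroup.center X) : φ z ∈ Subgroup.center X := by
  rw [Subgroup.mem_center_iff] at hz ⊢
  intro g
  have h2 := congrArg φ (hz (φ.symm g))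
  simpa using h2

/-- powers of an automorphism moving `v` to `v z₀` and fixing `z₀`. -/
theorem T4_aux_pow (φ : MulAut X) (v z₀ : X) (h1 : φ v = v * z₀) (h2 : φ z₀ = z₀) (n : ℕ) :
    (φ ^ n) z₀ = z₀ ∧ (φ ^ n) v = v * z₀ ^ n := by
  induction n with
  | zero => simp
  | succ n ih =>
    obtain ⟨ih1, ih2⟩ := ih
    constructor
    · rw [pow_succ, MulAut.mul_apply, h2, ih1]
    · rw [pow_succ, MulAut.mul_apply, h1, map_mul, ih1, ih2, pow_succ, mul_assoc]

/-- T4: an invariant normal elementary abelian subgroup is central. -/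
theorem T4 (H : Hyp A) (V : Subgroup X) (hV : V.Normal) (hI : Inv A V)
    (hc : ∀ a ∈ V, ∀ b ∈ V, a * b = b * a) (hs : ∀ a ∈ V, a * a = 1) : V ≤ Subgroup.center X := by
  by_cases hVZ : V ≤ Subgroup.center X
  · exact hVZ
  have hbot : V ≠ ⊥ := by
    rintro rfl
    exact hVZ bot_le
  haveI := hV
  haveI : Fact (Nat.Prime 2) := ⟨Nat.prime_two⟩
  obtain ⟨z₀, hz₀V, hz₀1, hz₀Z⟩ := Cfsg.Agent.Helper10.exists_ne_one_mem_inf_center H.pX V hbot
  have hcard : Nat.card V ≤ 4 := H.noE8 V hV hc hs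
  obtain ⟨V₀, hV₀⟩ : ∃ V₀ : Subgroup X, V₀ = V ⊓ Subgroup.center X := ⟨_, rfl⟩
  have hle : V₀ ≤ V := hV₀ ▸ inf_le_left
  have hz₀V₀ : z₀ ∈ V₀ := by rw [hV₀]; exact ⟨hz₀V, hz₀Z⟩
  have hmemV₀ : ∀ w : X, w ∈ V₀ ↔ w ∈ V ∧ w ∈ Subgroup.center X := by
    intro w; rw [hV₀]; exact Subgroup.mem_inf
  -- cardinalities
  have e1 : Nat.card (V₀.subgroupOf V) = Nat.card V₀ :=
    Nat.card_congr (Subgroup.subgroupOfEquivOfLe hle).toEquiv
  have e2 := (V₀.subgroupOf V).card_mul_index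
  have hidx1 : (V₀.subgroupOf V).index ≠ 1 := by
    intro h1
    rw [Subgroup.index_eq_one, Subgroup.subgroupOf_eq_top] at h1
    exact hVZ (fun v hv => ((hmemV₀ v).1 (h1 hv)).2)
  have hidx0 : (V₀.subgroupOf V).index ≠ 0 := Subgroup.index_ne_zero_of_finite
  have hV₀2 : 2 ≤ Nat.card V₀ := by
    have hne : V₀ ≠ ⊥ := by
      intro h
      rw [h, Subgroup.mem_bot] at hz₀V₀
      exact hz₀1 hz₀V₀
    have := (Subgroup.one_lt_card_iff_ne_bot V₀).2 hne
    omega
  rw [e1] at e2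
  have hcV₀ : Nat.card V₀ = 2 ∧ (V₀.subgroupOf V).index = 2 := by
    have h4 : Nat.card V₀ * (V₀.subgroupOf V).index ≤ 4 := by rw [e2]; exact hcard
    have hi2 : 2 ≤ (V₀.subgroupOf V).index := by omega
    constructor <;> nlinarith
  obtain ⟨hcV₀2, hidx2⟩ := hcV₀
  -- the elements of `V₀`
  have hV₀el : ∀ w ∈ V₀, w = 1 ∨ w = z₀ := by
    intro w hw
    by_contra hcon
    push Not at hcon
    obtain ⟨y, _, hy⟩ := (Nat.card_eq_two_iff' (1 : ↥V₀)).1 hcV₀2
    have h1 : (⟨w, hw⟩ : ↥V₀) = y := hy _ (fun h => hcon.1 (congrArg Subtype.val h))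
    have h2 : (⟨z₀, hz₀V₀⟩ : ↥V₀) = y := hy _ (fun h => hz₀1 (congrArg Subtype.val h))
    exact hcon.2 (congrArg Subtype.val (h1.trans h2.symm))
  -- `A` leaves `V₀` invariant
  have hIV₀ : ∀ φ ∈ A, ∀ w ∈ V₀, φ w ∈ V₀ := by
    intro φ hφ w hw
    obtain ⟨hw1, hw2⟩ := (hmemV₀ w).1 hw
    exact (hmemV₀ _).2 ⟨hI φ hφ w hw1, T4_aux_center φ hw2⟩
  apply T4_aux_fixed_central H V hV
  intro φ hφ v hv
  have hφz₀ : φ z₀ = z₀ := by
    rcases hV₀el _ (hIV₀ φ hφ z₀ hz₀V₀) with h | h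
    · exfalso
      apply hz₀1
      have : φ z₀ = φ 1 := by rw [h, map_one]
      exact φ.injective this
    · exact h
  by_cases hvV₀ : v ∈ V₀
  · rcases hV₀el v hvV₀ with h | h
    · rw [h, map_one]
    · rw [h]; exact hφz₀
  -- `v ∉ V₀`
  have hφvV : φ v ∈ V := hI φ hφ v hv
  have hφvV₀ : φ v ∉ V₀ := by
    intro h
    have := hIV₀ φ⁻¹ (inv_mem hφ) _ h
    rw [MulAut.inv_apply_self] at this
    exact hvV₀ this
  have hmem : (⟨v, hv⟩ : ↥V)⁻¹ * ⟨φ v, hφvV⟩ ∈ V₀.subgroupOf V := by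
    rw [Subgroup.mul_mem_iff_of_index_two hidx2]
    constructor
    · intro h
      exfalso
      have h' : (⟨v, hv⟩ : ↥V) ∈ V₀.subgroupOf V := by
        have := inv_mem h
        rwa [inv_inv] at this
      exact hvV₀ (Subgroup.mem_subgroupOf.1 h')
    · intro h
      exfalso
      exact hφvV₀ (Subgroup.mem_subgroupOf.1 h)
  have hmem' : v⁻¹ * φ v ∈ V₀ := by
    have := Subgroup.mem_subgroupOf.1 hmem
    simpa using this
  rcases hV₀el _ hmem' with h | h
  · calc φ v = v * (v⁻¹ * φ v) := by group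
      _ = v := by rw [h, mul_one]
  · exfalso
    have h1 : φ v = v * z₀ := by
      calc φ v = v * (v⁻¹ * φ v) := by group
        _ = v * z₀ := by rw [h]
    have hp := (T4_aux_pow φ v z₀ h1 hφz₀ (orderOf φ)).2
    rw [pow_orderOf_eq_one, MulAut.one_apply] at hp
    have hz : z₀ ^ orderOf φ = 1 := by
      have := congrArg (fun t => v⁻¹ * t) hp
      simp only [inv_mul_cancel, inv_mul_cancel_left] at this
      exact this.symm
    have hodd : Odd (orderOf φ) := by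
      have hdvd : orderOf φ ∣ Nat.card A := by
        have := orderOf_dvd_natCard (⟨φ, hφ⟩ : ↥A)
        rwa [← Subgroup.orderOf_coe] at this
      exact Odd.of_dvd_nat H.oddA hdvd
    have hz2 : z₀ ^ 2 = 1 := by rw [pow_two]; exact hs z₀ hz₀V
    have hd1 : orderOf z₀ ∣ orderOf φ := orderOf_dvd_of_pow_eq_one hz
    have hd2 : orderOf z₀ ∣ 2 := orderOf_dvd_of_pow_eq_one hz2
    have hcop : Nat.Coprime (orderOf φ) 2 := Nat.Coprime.symm (Nat.coprime_two_left.2 hodd)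
    have : orderOf z₀ = 1 := Nat.eq_one_of_dvd_coprimes hcop hd1 hd2
    exact hz₀1 (orderOf_eq_one_iff.1 this)

end Cfsg.Agent.S1904P
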