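import Mathlib
import Cfsg.Prelude.Def_LieClassical
import Cfsg.Agent.Helper29.S2263Defs

/-! S2263 pieces UPFACTS, WQFACTS (helper23): basic facts on `Up` and `wq`. -/

set_option autoImplicit false

namespace Cfsg.Agent.S2263P

namespace UPFACTS

theorem le_two_pow_pred (m : ℕ) (hm : 1 ≤ m) : m ≤ 2 ^ (m - 1) := by
  have h := Nat.lt_two_pow_self (n := m - 1)
  omega

theorem add_four_le (n : ℕ) : n + 4 ≤ 2 ^ (n + 2) := by
  induction n with
  | zero => norm_num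
  | succ n ih =>
    have h : 2 ^ (n + 1 + 2) = 2 * 2 ^ (n + 2) := by rw [pow_succ]; ring
    omega

end UPFACTS

theorem Up_one (p : ℕ) : Up p 1 = 1 := by
  unfold Up
  rw [Nat.clog_one_right, pow_zero]

theorem Up_two {p : ℕ} (hp : p.Prime) : Up p 2 = p := by
  unfold Up
  rw [Nat.clog_eq_one le_rfl hp.two_le, pow_one]

theorem Up_three {p : ℕ} (hp : p.Prime) : Up p 3 = if p = 2 then 4 else p := by
  unfold Up
  split_ifs with h2
  · subst h2
    have h1 : Nat.clog 2 3 ≤ 2 := Nat.clog_le_of_le_pow (by norm_num)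
    have h3 : 1 < Nat.clog 2 3 := (Nat.lt_clog_iff_pow_lt (by norm_num)).mpr (by norm_num)
    have : Nat.clog 2 3 = 2 := by omega
    rw [this]
    norm_num
  · have h3 : 3 ≤ p := by
      have := hp.two_le
      omega
    rw [Nat.clog_eq_one (by norm_num) h3, pow_one]

theorem Up_pos {p : ℕ} (hp : p.Prime) (m : ℕ) : 0 < Up p m := by
  unfold Up
  exact pow_pos hp.pos _

theorem Up_le {p m : ℕ} (hp : p.Prime) (hm : 1 ≤ m) : Up p m ≤ p ^ (m - 1) := by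
  unfold Up
  apply Nat.pow_le_pow_right hp.pos
  apply Nat.clog_le_of_le_pow
  calc m ≤ 2 ^ (m - 1) := UPFACTS.le_two_pow_pred m hm
    _ ≤ p ^ (m - 1) := Nat.pow_le_pow_left hp.two_le _

theorem Up_le' {p m : ℕ} (hp : p.Prime) (hm : 4 ≤ m) : Up p m ≤ p ^ (m - 2) := by
  unfold Up
  apply Nat.pow_le_pow_right hp.pos
  apply Nat.clog_le_of_le_pow
  obtain ⟨n, rfl⟩ : ∃ n, m = n + 4 := ⟨m - 4, by omega⟩
  have h : n + 4 - 2 = n + 2 := by omega
  rw [h]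
  calc n + 4 ≤ 2 ^ (n + 2) := UPFACTS.add_four_le n
    _ ≤ p ^ (n + 2) := Nat.pow_le_pow_left hp.two_le _

theorem Up_dvd {p a b : ℕ} (_hp : p.Prime) (hab : a ≤ b) : Up p a ∣ Up p b := by
  unfold Up
  exact pow_dvd_pow p (Nat.clog_mono_right p hab)

namespace WQFACTS

theorem dvd_even {q s : ℕ} (hs : Even s) : q + 1 ∣ q ^ s - 1 := by
  obtain ⟨k, rfl⟩ := hs
  have h1 : q ^ (k + k) - 1 = (q ^ 2) ^ k - 1 := by
    rw [← pow_mul, two_mul]
  rw [h1]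
  have h2 : q ^ 2 - 1 ∣ (q ^ 2) ^ k - 1 := Nat.sub_one_dvd_pow_sub_one (q ^ 2) k
  have h3 : q + 1 ∣ q ^ 2 - 1 := by
    have := Nat.sq_sub_sq q 1
    rw [one_pow] at this
    rw [this]
    exact dvd_mul_right _ _
  exact h3.trans h2

theorem dvd_odd {q s : ℕ} (hs : ¬ Even s) : q + 1 ∣ q ^ s + 1 := by
  have h := Odd.nat_add_dvd_pow_add_pow q 1 (Nat.not_even_iff_odd.mp hs)
  rwa [one_pow] at h

end WQFACTS

theorem wq_mul {q : ℕ} (_hq : 2 ≤ q) (s : ℕ) :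
    (q + 1) * wq q s = if Even s then q ^ s - 1 else q ^ s + 1 := by
  unfold wq
  split_ifs with hs
  · exact Nat.mul_div_cancel' (WQFACTS.dvd_even hs)
  · exact Nat.mul_div_cancel' (WQFACTS.dvd_odd hs)

theorem wq_pos {q s : ℕ} (hq : 2 ≤ q) (hs : 1 ≤ s) : 1 ≤ wq q s := by
  by_contra hcon
  have h0 : wq q s = 0 := by omega
  have hmul := wq_mul hq s
  rw [h0, mul_zero] at hmul
  have hqs : 2 ≤ q ^ s := by
    calc 2 ≤ q := hq
      _ = q ^ 1 := (pow_one q).symm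
      _ ≤ q ^ s := Nat.pow_le_pow_right (by omega) hs
  split_ifs at hmul
  all_goals omega

theorem wq_le {q s : ℕ} (hq : 2 ≤ q) (hs : 1 ≤ s) : wq q s ≤ q ^ (s - 1) := by
  have hmul := wq_mul hq s
  obtain ⟨n, rfl⟩ : ∃ n, s = n + 1 := ⟨s - 1, by omega⟩
  have hA : q ^ (n + 1) = q * q ^ n := by rw [pow_succ]; ring
  have hA1 : 1 ≤ q ^ n := Nat.one_le_pow _ _ (by omega)
  rw [Nat.add_sub_cancel]
  apply Nat.le_of_mul_le_mul_left (c := q + 1) _ (by omega)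
  rw [hmul, hA]
  split_ifs
  · have : q * q ^ n - 1 ≤ q * q ^ n := Nat.sub_le _ _
    nlinarith
  · nlinarith

theorem wq_le_single {q s : ℕ} (hq : 2 ≤ q) (hs : 3 ≤ s) : wq q s ≤ q ^ (s - 1) - 1 := by
  have hmul := wq_mul hq s
  obtain ⟨n, rfl⟩ : ∃ n, s = n + 1 := ⟨s - 1, by omega⟩
  have hA : q ^ (n + 1) = q * q ^ n := by rw [pow_succ]; ring
  have hA2 : q ^ 2 ≤ q ^ n := Nat.pow_le_pow_right (by omega) (by omega)
  have hq2 : q + 2 ≤ q ^ n := by nlinarith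
  rw [Nat.add_sub_cancel]
  obtain ⟨B, hB⟩ : ∃ B, q ^ n = B + 1 := ⟨q ^ n - 1, by omega⟩
  rw [hB, Nat.add_sub_cancel]
  apply Nat.le_of_mul_le_mul_left (c := q + 1) _ (by omega)
  rw [hmul, hA, hB]
  have hBq : q + 1 ≤ B := by omega
  split_ifs
  · have : q * (B + 1) - 1 ≤ q * (B + 1) + 1 := by omega
    nlinarith
  · nlinarith

end Cfsg.Agent.S2263P
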