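import Mathlib
import Cfsg.Agent.Helper12.S2999Basic

/-! Board `s2999pieces`, piece STRONG (blueprint section 3 (a)+(b)): core lemma, with the pieces OPP and V1EQ
taken as explicit hypotheses. -/

set_option autoImplicit false

namespace Cfsg.Agent.S2999P

open Cfsg.Agent.S2789P
open scoped commutatorElement

variable {G : Type*} [Group G] {p : ℕ} {V P Mg Tg R A : Subgroup G}

theorem STRONG_core (S : Setup p V P Mg Tg R A)
    (hOPP : ∀ {g h : G}, g ∈ P → h ∈ P → g⁻¹ * h ∉ Mg →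
      cjs g A ⊔ cjs h A = P ∧ fixV V (cjs g A) ⊓ fixV V (cjs h A) = fixV V P)
    (hV1EQ : ∀ {g h : G}, g ∈ P → h ∈ P → g⁻¹ * h ∉ Mg →
      fixV V (cjs g A) ⊔ fixV V (cjs h A) = V1 V P A)
    {g h c v : G} (hg : g ∈ P) (hh : h ∈ P) (hgh : g⁻¹ * h ∉ Mg)
    (hc : c ∈ cjs g A) (hcm : c ∉ cjs h Mg) (hv : v ∈ V1 V P A) (hcv : ⁅c, v⁆ ∈ fixV V P) :
    v ∈ fixV V (cjs g A) := by
  have hcP : c ∈ P := S.cjA_le hg hc
  -- decompose `v`
  rw [← hV1EQ hg hh hgh] at hv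
  obtain ⟨u1, hu1, u2, hu2, rfl⟩ := (S.mem_sup (fix_le V _) (fix_le V _)).mp hv
  have hu1V : u1 ∈ V := fix_le V _ hu1
  have hu2V : u2 ∈ V := fix_le V _ hu2
  -- `c` commutes with `u1`
  have hcu1 : c * u1 = u1 * c := (mem_fix.mp hu1).2 c hc
  -- `w := c u2 c⁻¹`
  have hwV : c * u2 * c⁻¹ ∈ V := S.conj_mem_V hu2V hcP
  have hcomm : ⁅c, u1 * u2⁆ = ⁅c, u2⁆ := by
    rw [commutatorElement_def, commutatorElement_def]
    have e1 : c * (u1 * u2) * c⁻¹ * (u1 * u2)⁻¹ = u1 * ((c * u2 * c⁻¹) * u2⁻¹) * u1⁻¹ := by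
      have : c * (u1 * u2) = u1 * (c * u2) := by rw [← mul_assoc, hcu1, mul_assoc]
      rw [this]; group
    rw [e1]
    have h3 : (c * u2 * c⁻¹) * u2⁻¹ ∈ V := V.mul_mem hwV (V.inv_mem hu2V)
    rw [S.V_comm hu1V h3]
    group
  rw [hcomm] at hcv
  -- `w ∈ U(hA)`
  have hV0h : fixV V P ≤ fixV V (cjs h A) := S.V0_le_fix (S.cjA_le hh)
  have hw1 : c * u2 * c⁻¹ ∈ fixV V (cjs h A) := by
    have : c * u2 * c⁻¹ = ⁅c, u2⁆ * u2 := by rw [commutatorElement_def]; group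
    rw [this]
    exact Subgroup.mul_mem _ (hV0h hcv) hu2
  -- `w ∈ U(chA)`
  have hw2 : c * u2 * c⁻¹ ∈ fixV V (cjs (c * h) A) := by
    rw [← cj_mul, S.cjfix _ hcP]
    exact cj_mem_conj.mpr hu2
  -- the points `hM` and `chM` are different
  have hne : h⁻¹ * (c * h) ∉ Mg := by
    intro hm
    apply hcm
    rw [cj_mem]
    rwa [← mul_assoc] at hm
  have hw0 : c * u2 * c⁻¹ ∈ fixV V P := by
    rw [← (hOPP hh (P.mul_mem hcP hh) hne).2]
    exact ⟨hw1, hw2⟩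
  -- `u2 = w`
  have hu2' : u2 ∈ fixV V P := by
    have h1 : c * (c * u2 * c⁻¹) = (c * u2 * c⁻¹) * c := S.V0_comm hw0 hcP
    have h2 : c * u2 * c⁻¹ = u2 := by
      have e : c * u2 * c⁻¹ * c = c * u2 := by group
      rw [e] at h1
      exact mul_left_cancel h1
    rwa [h2] at hw0
  exact Subgroup.mul_mem _ hu1 (S.V0_le_fix (S.cjA_le hg) hu2')

end Cfsg.Agent.S2999P
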