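import Mathlib
import Cfsg.Agent.Helper12.S2999Basic
import Cfsg.Agent.Helper20.S2999OPP
import Cfsg.Agent.Helper10.S2999V1EQ
import Cfsg.Agent.Helper23.S2999STRONGcore

/-! Board `s2999pieces`, piece STRONG (blueprint section 3 (a)+(b)): exact-signature wrapper of `STRONG_core`. -/

set_option autoImplicit false

namespace Cfsg.Agent.S2999P

open Cfsg.Agent.S2789P
open scoped commutatorElement

variable {G : Type*} [Group G] [Finite G] {p : ℕ} [Fact p.Prime] {V P Mg Tg R A : Subgroup G}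

/-- STRONG (M): blueprint section 3 (a)+(b). `c ∉ cjs h Mg` says that `c` moves the point `hM`. -/
theorem STRONG (S : Setup p V P Mg Tg R A) {g h c v : G} (hg : g ∈ P) (hh : h ∈ P) (hgh : g⁻¹ * h ∉ Mg)
    (hc : c ∈ cjs g A) (hcm : c ∉ cjs h Mg) (hv : v ∈ V1 V P A) (hcv : ⁅c, v⁆ ∈ fixV V P) :
    v ∈ fixV V (cjs g A) :=
  STRONG_core S (fun hg hh hgh => OPP S hg hh hgh) (fun hg hh hgh => V1EQ S hg hh hgh) hg hh hgh hc hcm hv hcv

end Cfsg.Agent.S2999P
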