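import Mathlib
import Cfsg.Agent.Helper28.S3000Defs

/-! Board `s3000pieces`, row ZPT (core, stub-free): `Zpt e = cjs e (Zpt 1)` and `Zpt e ≤ C_V(ᵉA)` for `e ∈ E` (uses J2CENT and COVER). -/

set_option autoImplicit false

namespace Cfsg.Agent.S3000P

open Cfsg.Agent.S2789P Cfsg.Agent.S2999P Cfsg.Agent.S3000P
open scoped commutatorElement

variable {G : Type*} [Group G] [Finite G] {p : ℕ} [Fact p.Prime] {V P : Subgroup G} {T : Sylow p ↥P} {M : Subgroup ↥P} {q : ℕ}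
variable {A E H : Subgroup G} {w : G}

omit [Finite G] in
/-- conjugation by `e` (normalising `V`, centralising `J₂`, lying in `P`) maps the generators of `Zpt x` to generators of `Zpt (e x)`. -/
theorem ZPT_aux_gen {Mg J₂ : Subgroup G} {z₀ e x v : G} (heP : e ∈ P)
    (heV : e ∈ Subgroup.normalizer (V : Set G)) (hec : ∀ y ∈ J₂, y * e = e * y)
    (hv : ∃ g ∈ P, v = g * z₀ * g⁻¹ ∧ v ∈ fixV V J₂ ∧ g⁻¹ * x ∈ Mg) :
    ∃ g ∈ P, e * v * e⁻¹ = g * z₀ * g⁻¹ ∧ e * v * e⁻¹ ∈ fixV V J₂ ∧ g⁻¹ * (e * x) ∈ Mg := by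
  obtain ⟨g, hgP, rfl, hfix, hpt⟩ := hv
  refine ⟨e * g, P.mul_mem heP hgP, by group, ?_, ?_⟩
  · unfold fixV at hfix ⊢
    rw [Subgroup.mem_inf] at hfix ⊢
    refine ⟨?_, ?_⟩
    · exact (Subgroup.mem_normalizer_iff.mp heV _).mp hfix.1
    · rw [Subgroup.mem_centralizer_iff] at *
      intro y hy
      have h1 := hfix.2 y hy
      have h2 := hec y hy
      have h3 : y * e⁻¹ = e⁻¹ * y := by
        have : e⁻¹ * (y * e) * e⁻¹ = e⁻¹ * (e * y) * e⁻¹ := by rw [h2]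
        exact (by simpa [mul_assoc] using this : e⁻¹ * y = y * e⁻¹).symm
      calc y * (e * (g * z₀ * g⁻¹) * e⁻¹) = (y * e) * (g * z₀ * g⁻¹) * e⁻¹ := by group
        _ = e * (y * (g * z₀ * g⁻¹)) * e⁻¹ := by rw [h2]; group
        _ = e * ((g * z₀ * g⁻¹) * y) * e⁻¹ := by rw [h1]
        _ = e * (g * z₀ * g⁻¹) * (y * e⁻¹) := by group
        _ = e * (g * z₀ * g⁻¹) * e⁻¹ * y := by rw [h3]; group
  · have : (e * g)⁻¹ * (e * x) = g⁻¹ * x := by group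
    rw [this]; exact hpt

omit [Finite G] in
theorem ZPT_aux_le {Mg J₂ : Subgroup G} {z₀ e x : G} (heP : e ∈ P)
    (heV : e ∈ Subgroup.normalizer (V : Set G)) (hec : ∀ y ∈ J₂, y * e = e * y) :
    cjs e (Zpt P Mg J₂ V z₀ x) ≤ Zpt P Mg J₂ V z₀ (e * x) := by
  unfold cjs Zpt
  rw [Subgroup.map_le_iff_le_comap, Subgroup.closure_le]
  intro v hv
  rw [SetLike.mem_coe, Subgroup.mem_comap]
  apply Subgroup.subset_closure
  exact ZPT_aux_gen heP heV hec hv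

omit [Finite G] in
/-- ZPT, core: the statements of J2CENT (`hcen`) and COVER (`hcov`) are hypotheses. -/
theorem ZPT_aux_core {Mg J₂ : Subgroup G} {z₀ : G} (hEP : E ≤ P) (hPV : P ≤ Subgroup.normalizer (V : Set G))
    (hcen : ∀ x ∈ J₂, ∀ e ∈ E, x * e = e * x)
    (hcov : ∀ g ∈ P, g * z₀ * g⁻¹ ∈ fixV V J₂ → ∀ e ∈ E, (g * z₀ * g⁻¹ ∈ fixV V (cjs e A) ↔ g⁻¹ * e ∈ Mg))
    {e : G} (he : e ∈ E) :
    Zpt P Mg J₂ V z₀ e = cjs e (Zpt P Mg J₂ V z₀ 1) ∧ Zpt P Mg J₂ V z₀ e ≤ fixV V (cjs e A) := by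
  have heP : e ∈ P := hEP he
  have heV : e ∈ Subgroup.normalizer (V : Set G) := hPV heP
  have hec : ∀ y ∈ J₂, y * e = e * y := fun y hy => hcen y hy e he
  have heP' : e⁻¹ ∈ P := P.inv_mem heP
  have heV' : e⁻¹ ∈ Subgroup.normalizer (V : Set G) := Subgroup.inv_mem _ heV
  have hec' : ∀ y ∈ J₂, y * e⁻¹ = e⁻¹ * y := by
    intro y hy
    have h2 := hec y hy
    have : e⁻¹ * (y * e) * e⁻¹ = e⁻¹ * (e * y) * e⁻¹ := by rw [h2]
    exact (by simpa [mul_assoc] using this : e⁻¹ * y = y * e⁻¹).symm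
  refine ⟨?_, ?_⟩
  · apply le_antisymm
    · have h1 := ZPT_aux_le (Mg := Mg) (z₀ := z₀) (x := e) heP' heV' hec'
      rw [inv_mul_cancel] at h1
      have h2 := cj_mono (g := e) h1
      rwa [cj_mul, mul_inv_cancel, cj_one] at h2
    · have h1 := ZPT_aux_le (Mg := Mg) (z₀ := z₀) (x := 1) heP heV hec
      rwa [mul_one] at h1
  · unfold Zpt
    rw [Subgroup.closure_le]
    rintro v ⟨g, hgP, rfl, hfix, hpt⟩
    exact ((hcov g hgP hfix) e he).mpr hpt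

end Cfsg.Agent.S3000P
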