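import Mathlib
import Cfsg.Agent.Helper1.S3401Defs
import Cfsg.Agent.Helper28.S3401CARD
import Cfsg.Agent.Helper29.S3401LTRANS

/-! # S3401 piece FCARD (helper23)

`|Fix Q| = 2 f` with `f` odd: `L := M ⊓ N(Q)` is transitive on `Fix Q` (`LTRANS`), `S` is a Sylow 2-subgroup
of `L`, `Q` of `L_a`, and `|S| = 2 |Q|` (`CARD`). -/

set_option autoImplicit false
set_option linter.unusedSectionVars false
set_option linter.unusedVariables false

namespace Cfsg.Agent.S3401P

variable {G : Type*} [Group G] [Finite G] {Ω : Type*} [Fintype Ω] [MulAction G Ω]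

/-- private copy of `SYL.mono` (so that this piece does not wait for the `SYL` module). -/
theorem FCARD.aux_mono {G : Type*} [Group G] [Finite G] {X Y P : Subgroup G} (hP : IsSyl2 X P)
    (hPY : P ≤ Y) (hYX : Y ≤ X) : IsSyl2 Y P := by
  refine ⟨hPY, ?_⟩
  have hX0 : Nat.card X ≠ 0 := Nat.card_pos.ne'
  have hY0 : Nat.card Y ≠ 0 := Nat.card_pos.ne'
  have hP0 : Nat.card P ≠ 0 := Nat.card_pos.ne'
  have h1 : Nat.card P ∣ Nat.card Y := Subgroup.card_dvd_of_le hPY
  have h2 : Nat.card Y ∣ Nat.card X := Subgroup.card_dvd_of_le hYX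
  have hvP : (Nat.card P).factorization 2 = (Nat.card X).factorization 2 := by
    rw [hP.2, Nat.Prime.factorization_pow Nat.prime_two, Finsupp.single_eq_same]
  have h3 : (Nat.card P).factorization 2 ≤ (Nat.card Y).factorization 2 :=
    (Nat.factorization_le_iff_dvd hP0 hY0).mpr h1 2
  have h4 : (Nat.card Y).factorization 2 ≤ (Nat.card X).factorization 2 :=
    (Nat.factorization_le_iff_dvd hY0 hX0).mpr h2 2
  have h5 : (Nat.card Y).factorization 2 = (Nat.card X).factorization 2 := by omega
  rw [h5]; exact hP.2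

/-- FCARD: `|Fix Q| = 2 f` with `f` odd. -/
theorem FCARD {M : Subgroup G} (h : Hyp Ω M) {a : Ω} {Q S : Subgroup G} {t : G}
    (c : Config M a Q S t) : ∃ f : ℕ, Odd f ∧ Nat.card (Fix Ω Q) = 2 * f := by
  classical
  -- basic inclusions
  have hQM : Q ≤ M := fun x hx => (c.hQ.1 hx).1
  have hQa : ∀ s ∈ Q, s • a = a := fun s hs => MulAction.mem_stabilizer_iff.mp (c.hQ.1 hs).2
  have hQN : Q ≤ Subgroup.normalizer (Q : Set G) := Subgroup.le_normalizer
  have haF : a ∈ Fix Ω Q := hQa
  -- the group `L` and its stabiliser `La`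
  set L : Subgroup G := M ⊓ Subgroup.normalizer (Q : Set G) with hL
  set La : Subgroup G := L ⊓ MulAction.stabilizer G a with hLa
  -- the orbit of `a` under `L` is `Fix Q`
  have horb : MulAction.orbit L a = Fix Ω Q := by
    ext γ
    constructor
    · rintro ⟨l, rfl⟩
      intro s hs
      have hlN : (l : G) ∈ Subgroup.normalizer (Q : Set G) := l.2.2
      have hmem : (l : G)⁻¹ * s * (l : G) ∈ Q := by
        have h1 := (Subgroup.mem_normalizer_iff.mp (Subgroup.inv_mem _ hlN)) s
        have h2 := h1.mp hs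
        simpa using h2
      have hfix := hQa _ hmem
      show s • ((l : G) • a) = (l : G) • a
      calc s • ((l : G) • a) = (l : G) • (((l : G)⁻¹ * s * (l : G)) • a) := by
            rw [← mul_smul, ← mul_smul]; congr 1; group
        _ = (l : G) • a := by rw [hfix]
    · intro hγ
      obtain ⟨l, hl, hla⟩ := LTRANS h c hγ
      exact ⟨⟨l, hl⟩, hla⟩
  -- orbit-stabiliser
  have hos : Nat.card (Fix Ω Q) * Nat.card La = Nat.card L := by
    have h1 := Subgroup.index_mul_card (MulAction.stabilizer L a)
    rw [MulAction.index_stabilizer, horb] at h1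
    have h2 : Nat.card (MulAction.stabilizer L a) = Nat.card La := by
      have hst : MulAction.stabilizer L a = La.subgroupOf L := by
        ext x
        rw [MulAction.mem_stabilizer_iff, Subgroup.mem_subgroupOf, hLa, Subgroup.mem_inf,
          MulAction.mem_stabilizer_iff]
        constructor
        · intro hx; exact ⟨x.2, hx⟩
        · intro hx; exact hx.2
      rw [hst]
      exact Nat.card_congr (Subgroup.subgroupOfEquivOfLe (inf_le_left : La ≤ L)).toEquiv
    rw [h2] at h1
    rw [← h1, Nat.card_coe_set_eq]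
  -- Sylow subgroups
  have hLaQ : IsSyl2 La Q := by
    apply FCARD.aux_mono c.hQ
    · intro x hx
      exact ⟨⟨hQM hx, hQN hx⟩, (c.hQ.1 hx).2⟩
    · intro x hx
      exact ⟨hx.1.1, hx.2⟩
  have hSL : S ≤ L := by
    intro s hs
    refine ⟨c.hS.1 hs, ?_⟩
    rcases c.hcov s hs with hq | hq
    · exact hQN hq
    · have : s = t * (t⁻¹ * s) := by group
      rw [this]
      exact Subgroup.mul_mem _ c.htN (hQN hq)
  have hLS : IsSyl2 L S := FCARD.aux_mono c.hS hSL inf_le_left
  -- valuations
  have hv1 : (Nat.card La).factorization 2 =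
      (Nat.card (M ⊓ MulAction.stabilizer G a : Subgroup G)).factorization 2 := by
    have := hLaQ.2.symm.trans c.hQ.2
    exact Nat.pow_right_injective (le_refl 2) this
  have hv2 : (Nat.card L).factorization 2 = (Nat.card M).factorization 2 := by
    have := hLS.2.symm.trans c.hS.2
    exact Nat.pow_right_injective (le_refl 2) this
  have hv3 := CARD h a
  have hFpos : Nat.card (Fix Ω Q) ≠ 0 := by
    haveI : Nonempty (Fix Ω Q) := ⟨⟨a, haF⟩⟩
    exact Nat.card_pos.ne'
  have hLapos : Nat.card La ≠ 0 := Nat.card_pos.ne'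
  have hv4 : (Nat.card (Fix Ω Q)).factorization 2 = 1 := by
    have := congrArg (fun n => n.factorization 2) hos
    simp only [Nat.factorization_mul hFpos hLapos, Finsupp.add_apply] at this
    omega
  -- conclusion
  obtain ⟨k, f, hf, hkf⟩ := Nat.exists_eq_two_pow_mul_odd hFpos
  have hk : k = 1 := by
    have hf0 : f ≠ 0 := fun h0 => by rw [h0] at hf; exact (Nat.not_odd_iff_even.mpr (by decide)) hf
    have h2f : f.factorization 2 = 0 :=
      Nat.factorization_eq_zero_of_not_dvd (fun hd => (Nat.not_even_iff_odd.mpr hf) (even_iff_two_dvd.mpr hd))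
    rw [hkf, Nat.factorization_mul (pow_ne_zero k (by norm_num)) hf0, Finsupp.add_apply,
      Nat.Prime.factorization_pow Nat.prime_two, Finsupp.single_eq_same, h2f, add_zero] at hv4
    exact hv4
  refine ⟨f, hf, ?_⟩
  rw [hkf, hk, pow_one]

end Cfsg.Agent.S3401P
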