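import Mathlib

/-!
# Free modules over a finite group: decompositions `V = ⊕ₕ σ(h) W`

Basic definitions (`Dec`, `Free`), conversion to `DirectSum.IsInternal`, the extension lemma
(`free_of_sub_quot`) and induction from a subgroup (`free_of_induce`).
-/

set_option autoImplicit false
set_option linter.dupNamespace false

namespace Cfsg.Agent.Helper23.Free

open Module

variable {k : Type*} [Field k] {V : Type*} [AddCommGroup V] [Module k V]

/-- `V` is the direct sum of the translates `T i W`. -/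
structure Dec {ι : Type*} [Fintype ι] (T : ι → V →ₗ[k] V) (W : Submodule k V) : Prop where
  span : ∀ v : V, ∃ x : ι → V, (∀ i, x i ∈ W) ∧ ∑ i, T i (x i) = v
  indep : ∀ x : ι → V, (∀ i, x i ∈ W) → ∑ i, T i (x i) = 0 → ∀ i, x i = 0

/-- `V` is a free module over the group algebra of `H`. -/
def Free {H : Type*} [Group H] [Fintype H] (σ : Representation k H V) : Prop :=
  ∃ W : Submodule k V, Dec (fun h => σ h) W

theorem Dec.isInternal {ι : Type*} [Fintype ι] [DecidableEq ι] {T : ι → V →ₗ[k] V}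
    {W : Submodule k V} (h : Dec T W) : DirectSum.IsInternal (fun i => W.map (T i)) := by
  classical
  rw [DirectSum.isInternal_submodule_iff_iSupIndep_and_iSup_eq_top]
  constructor
  · rw [iSupIndep_iff_finsetSum_eq_zero_imp_eq_zero]
    intro s v hv hv0 i hi
    have hex : ∀ j, ∃ x ∈ W, j ∈ s → T j x = v j := by
      intro j
      by_cases hj : j ∈ s
      · obtain ⟨x, hx, hxv⟩ := hv j hj
        exact ⟨x, hx, fun _ => hxv⟩
      · exact ⟨0, W.zero_mem, fun h' => absurd h' hj⟩
    choose x hx hxv using hex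
    let x' : ι → V := fun j => if j ∈ s then x j else 0
    have hx' : ∀ j, x' j ∈ W := by
      intro j
      simp only [x']
      split_ifs
      · exact hx j
      · exact W.zero_mem
    have hsum : ∑ j, T j (x' j) = 0 := by
      rw [← hv0, ← Finset.sum_subset (Finset.subset_univ s)]
      · refine Finset.sum_congr rfl fun j hj => ?_
        simp only [x', if_pos hj]
        exact hxv j hj
      · intro j _ hj
        simp only [x', if_neg hj, map_zero]
    have := h.indep x' hx' hsum i
    simp only [x', if_pos hi] at this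
    rw [← hxv i hi, this, map_zero]
  · rw [eq_top_iff]
    intro v _
    obtain ⟨x, hx, rfl⟩ := h.span v
    refine Submodule.sum_mem _ fun i _ => ?_
    exact Submodule.mem_iSup_of_mem i (Submodule.mem_map_of_mem (hx i))

/-- Extension lemma: if a subrepresentation and the quotient by it are free, so is the
representation. -/
theorem free_of_sub_quot {H : Type*} [Group H] [Fintype H] {V₁ V₂ : Type*}
    [AddCommGroup V₁] [Module k V₁] [AddCommGroup V₂] [Module k V₂]
    (σ : Representation k H V) (σ₁ : Representation k H V₁) (σ₂ : Representation k H V₂)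
    (i : V₁ →ₗ[k] V) (π : V →ₗ[k] V₂) (hπ : Function.Surjective π)
    (hex : ∀ v, π v = 0 → ∃ u, i u = v) (hπi : ∀ x, π (i x) = 0) (hi : Function.Injective i)
    (hiσ : ∀ h x, i (σ₁ h x) = σ h (i x)) (hπσ : ∀ h v, π (σ h v) = σ₂ h (π v))
    (F₁ : Free σ₁) (F₂ : Free σ₂) : Free σ := by
  obtain ⟨W₁, d₁⟩ := F₁
  obtain ⟨W₂, d₂⟩ := F₂
  obtain ⟨s, hs⟩ := π.exists_rightInverse_of_surjective (LinearMap.range_eq_top.mpr hπ)
  have hs' : ∀ y, π (s y) = y := fun y => by simpa using LinearMap.congr_fun hs y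
  refine ⟨W₁.map i ⊔ W₂.map s, ?_, ?_⟩
  · intro v
    obtain ⟨y, hy, hysum⟩ := d₂.span (π v)
    have h0 : π (v - ∑ h, σ h (s (y h))) = 0 := by
      rw [map_sub, map_sum, ← hysum, sub_eq_zero]
      refine Finset.sum_congr rfl fun h _ => ?_
      rw [hπσ, hs']
    obtain ⟨u, hu⟩ := hex _ h0
    obtain ⟨x, hx, hxsum⟩ := d₁.span u
    refine ⟨fun h => i (x h) + s (y h), fun h => ?_, ?_⟩
    · exact Submodule.add_mem_sup (Submodule.mem_map_of_mem (hx h))
        (Submodule.mem_map_of_mem (hy h))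
    · simp only [map_add, Finset.sum_add_distrib]
      have h1 : ∑ h, σ h (i (x h)) = i u := by
        rw [← hxsum, map_sum]
        exact Finset.sum_congr rfl fun h _ => (hiσ h _).symm
      rw [h1, hu]
      abel
  · intro z hz hsum
    have hdec : ∀ h, ∃ x ∈ W₁, ∃ y ∈ W₂, i x + s y = z h := by
      intro h
      obtain ⟨a, ha, b, hb, hab⟩ := Submodule.mem_sup.mp (hz h)
      obtain ⟨x, hx, rfl⟩ := ha
      obtain ⟨y, hy, rfl⟩ := hb
      exact ⟨x, hx, y, hy, hab⟩
    choose x hx y hy hxy using hdec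
    have hy0 : ∀ h, y h = 0 := by
      apply d₂.indep y hy
      have := congrArg π hsum
      rw [map_sum, map_zero] at this
      rw [← this]
      refine Finset.sum_congr rfl fun h _ => ?_
      rw [hπσ, ← hxy h, map_add, hπi, zero_add, hs']
    have hx0 : ∀ h, x h = 0 := by
      apply d₁.indep x hx
      apply hi
      rw [map_sum, map_zero, ← hsum]
      refine Finset.sum_congr rfl fun h _ => ?_
      rw [hiσ, ← hxy h, hy0 h, map_zero, add_zero]
    intro h
    rw [← hxy h, hx0 h, hy0 h, map_zero, map_zero, add_zero]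

/-- Coset decomposition `H ≃ (H ⧸ H₀) × H₀` with explicit formula. -/
noncomputable def cosetEquiv {H : Type*} [Group H] (H₀ : Subgroup H) : (H ⧸ H₀) × H₀ ≃ H :=
  Equiv.ofBijective (fun p => Quotient.out p.1 * (p.2 : H)) (by
    constructor
    · rintro ⟨q, h⟩ ⟨q', h'⟩ heq
      simp only at heq
      have hq : q = q' := by
        have h1 : ((Quotient.out q * (h : H) : H) : H ⧸ H₀) = q := by
          rw [QuotientGroup.mk_mul_of_mem _ h.2]; exact QuotientGroup.out_eq' q
        have h2 : ((Quotient.out q' * (h' : H) : H) : H ⧸ H₀) = q' := by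
          rw [QuotientGroup.mk_mul_of_mem _ h'.2]; exact QuotientGroup.out_eq' q'
        rw [← h1, ← h2, heq]
      subst hq
      have := mul_left_cancel heq
      rw [Subtype.ext this]
    · intro h
      refine ⟨((h : H ⧸ H₀), ⟨(Quotient.out (h : H ⧸ H₀))⁻¹ * h, ?_⟩), ?_⟩
      · rw [← QuotientGroup.eq]; exact QuotientGroup.out_eq' _
      · simp)

theorem cosetEquiv_apply {H : Type*} [Group H] (H₀ : Subgroup H) (p : (H ⧸ H₀) × H₀) :
    cosetEquiv H₀ p = Quotient.out p.1 * (p.2 : H) := rfl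

/-- Induction from a subgroup: if `V = ⊕_{t ∈ H/H₀} σ(t) C` and `C` is free over `H₀`, then `V`
is free over `H`. -/
theorem free_of_induce {H : Type*} [Group H] [Fintype H] (H₀ : Subgroup H) [Fintype H₀]
    [Fintype (H ⧸ H₀)] {C : Type*} [AddCommGroup C] [Module k C]
    (σ : Representation k H V) (σ₀ : Representation k H₀ C) (i : C →ₗ[k] V)
    (hi : Function.Injective i) (hiσ : ∀ (h : H₀) x, i (σ₀ h x) = σ (h : H) (i x))
    (hc : Dec (fun q : H ⧸ H₀ => σ (Quotient.out q)) (LinearMap.range i))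
    (F₀ : Free σ₀) : Free σ := by
  obtain ⟨W₀, d₀⟩ := F₀
  have key : ∀ x : H → C, ∑ h, σ h (i (x h)) =
      ∑ q : H ⧸ H₀, σ (Quotient.out q) (i (∑ h₀ : H₀, σ₀ h₀ (x (Quotient.out q * (h₀ : H))))) := by
    intro x
    rw [← Equiv.sum_comp (cosetEquiv H₀), Fintype.sum_prod_type]
    refine Finset.sum_congr rfl fun q _ => ?_
    rw [map_sum, map_sum]
    refine Finset.sum_congr rfl fun h₀ _ => ?_
    rw [cosetEquiv_apply, hiσ, map_mul, Module.End.mul_apply]
  refine ⟨W₀.map i, ?_, ?_⟩
  · intro v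
    obtain ⟨y, hy, hysum⟩ := hc.span v
    have hyc : ∀ q, ∃ c, i c = y q := fun q => hy q
    choose c hcq using hyc
    have hx : ∀ q, ∃ x : H₀ → C, (∀ h₀, x h₀ ∈ W₀) ∧ ∑ h₀, σ₀ h₀ (x h₀) = c q :=
      fun q => d₀.span (c q)
    choose x hxW hxsum using hx
    let z : H → C := fun h => x ((cosetEquiv H₀).symm h).1 ((cosetEquiv H₀).symm h).2
    refine ⟨fun h => i (z h), fun h => Submodule.mem_map_of_mem (hxW _ _), ?_⟩
    rw [key z, ← hysum]
    refine Finset.sum_congr rfl fun q _ => ?_
    congr 1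
    rw [← hcq q, ← hxsum q]
    congr 1
    refine Finset.sum_congr rfl fun h₀ _ => ?_
    have : (cosetEquiv H₀).symm (Quotient.out q * (h₀ : H)) = (q, h₀) := by
      rw [Equiv.symm_apply_eq]; rfl
    simp only [z, this]
  · intro z hz hsum
    have hzx : ∀ h, ∃ x ∈ W₀, i x = z h := fun h => hz h
    choose x hxW hxz using hzx
    have hsum' : ∑ h, σ h (i (x h)) = 0 := by
      rw [← hsum]; exact Finset.sum_congr rfl fun h _ => by rw [hxz]
    rw [key x] at hsum'
    have h1 := hc.indep (fun q => i (∑ h₀ : H₀, σ₀ h₀ (x (Quotient.out q * (h₀ : H)))))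
      (fun q => LinearMap.mem_range_self _ _) hsum'
    have h2 : ∀ (q : H ⧸ H₀) (h₀ : H₀), x (Quotient.out q * (h₀ : H)) = 0 := by
      intro q
      apply d₀.indep (fun h₀ : H₀ => x (Quotient.out q * (h₀ : H))) (fun h₀ => hxW _)
      apply hi
      rw [map_zero]
      exact h1 q
    intro h
    obtain ⟨⟨q, h₀⟩, rfl⟩ := (cosetEquiv H₀).surjective h
    rw [← hxz, cosetEquiv_apply, h2 q h₀, map_zero]

end Cfsg.Agent.Helper23.Free
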