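import Mathlib
import Cfsg.Agent.Helper23.FreeA

/-!
# Semilinear descent: a vector space over a field `K` with a semilinear action of a finite group
acting faithfully on `K` is free over the group.
-/

set_option autoImplicit false
set_option linter.dupNamespace false

namespace Cfsg.Agent.Helper23.Free

open Module

section descent

variable {K : Type*} [Field K] {G : Type*} [Group G] [Fintype G] [MulSemiringAction G K]
  [FaithfulSMul G K]

/-- Dedekind independence of the automorphisms `a ↦ g • a`. -/
theorem dedekind (c : G → K) (h : ∀ a : K, ∑ g, c g * (g • a) = 0) : ∀ g, c g = 0 := by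
  have hinj : Function.Injective
      (fun g : G => ((MulSemiringAction.toRingHom G K g : K →+* K) : K →* K)) := by
    intro g₁ g₂ h12
    apply FaithfulSMul.eq_of_smul_eq_smul (α := K)
    intro a
    have := DFunLike.congr_fun h12 a
    simpa using this
  have hli := (linearIndependent_monoidHom K K).comp _ hinj
  rw [Fintype.linearIndependent_iff] at hli
  apply hli c
  funext a
  simpa using h a

/-- the matrix `(g • j • θ)` -/
def galMat (G K : Type*) [Field K] [Group G] [MulSemiringAction G K] (θ : K) : Matrix G G K :=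
  fun g j => g • (j • θ)

theorem exists_normal (G K : Type*) [Field K] [Group G] [Fintype G] [MulSemiringAction G K]
    [FaithfulSMul G K] :
    ∃ θ : K, ∃ b : Basis G (FixedPoints.subfield G K) K, ∀ g, b g = g • θ := by
  obtain ⟨θ, hθ⟩ := exists_linearIndependent_algEquiv_apply (FixedPoints.subfield G K) K
  have hθ' : LinearIndependent (FixedPoints.subfield G K) (fun g : G => g • θ) := by
    have := hθ.comp (FixedPoints.toAlgAutMulEquiv G K) (FixedPoints.toAlgAutMulEquiv G K).injective
    exact this
  have hcard : Fintype.card G = finrank (FixedPoints.subfield G K) K :=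
    (FixedPoints.finrank_eq_card G K).symm
  refine ⟨θ, basisOfLinearIndependentOfCardEqFinrank hθ' hcard, fun g => ?_⟩
  simp

theorem isUnit_galMat [DecidableEq G] (θ : K) (b : Basis G (FixedPoints.subfield G K) K)
    (hb : ∀ g, b g = g • θ) : IsUnit (galMat G K θ) := by
  rw [← Matrix.vecMul_injective_iff_isUnit]
  intro v w hvw
  have hvw' : Matrix.vecMul v (galMat G K θ) = Matrix.vecMul w (galMat G K θ) := hvw
  have h0 : Matrix.vecMul (v - w) (galMat G K θ) = 0 := by
    rw [Matrix.sub_vecMul, hvw', sub_self]
  have hj : ∀ j : G, ∑ g : G, (v - w) g * (g • (j • θ)) = 0 := by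
    intro j
    have := congrFun h0 j
    simpa [Matrix.vecMul, dotProduct, galMat] using this
  -- the L-linear map
  let Φ : K →ₗ[FixedPoints.subfield G K] K :=
    ∑ g, (LinearMap.mulLeft (FixedPoints.subfield G K) ((v - w) g)) ∘ₗ
      (MulSemiringAction.toAlgHom (FixedPoints.subfield G K) K g).toLinearMap
  have hΦ : ∀ a, Φ a = ∑ g, (v - w) g * (g • a) := by
    intro a
    simp [Φ, LinearMap.sum_apply]
  have hΦ0 : Φ = 0 := by
    apply b.ext
    intro j
    rw [hΦ, hb, hj, LinearMap.zero_apply]
  have := dedekind (v - w) (fun a => by rw [← hΦ, hΦ0, LinearMap.zero_apply])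
  funext g
  have := this g
  rwa [Pi.sub_apply, sub_eq_zero] at this

end descent

variable {k : Type*} [Field k] {V : Type*} [AddCommGroup V] [Module k V]

/-- scalar multiplication by `a : K` as a `k`-linear map -/
def smulEnd {K : Type*} [Field K] [Algebra k K] [Module K V] [IsScalarTower k K V] (a : K) :
    V →ₗ[k] V where
  toFun v := a • v
  map_add' := smul_add a
  map_smul' c v := smul_comm a c v

/-- **Semilinear descent plus normal basis.** -/
theorem free_of_semilinear {K : Type*} [Field K] [Algebra k K] {G : Type*} [Group G] [Fintype G]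
    [MulSemiringAction G K] [FaithfulSMul G K] [Module K V] [IsScalarTower k K V]
    (σ : Representation k G V) (hσ : ∀ g (a : K) v, σ g (a • v) = (g • a) • σ g v) : Free σ := by
  classical
  obtain ⟨θ, b, hb⟩ := exists_normal G K
  have hM := isUnit_galMat θ b hb
  set M := galMat G K θ with hMdef
  have hdet : IsUnit M.det := (Matrix.isUnit_iff_isUnit_det M).mp hM
  set N := M⁻¹ with hNdef
  have hMN : M * N = 1 := Matrix.mul_nonsing_inv M hdet
  have hNM : N * M = 1 := Matrix.nonsing_inv_mul M hdet
  have hMNe : ∀ g g', ∑ j, M g j * N j g' = if g = g' then 1 else 0 := by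
    intro g g'
    have := congrFun (congrFun hMN g) g'
    rwa [Matrix.mul_apply, Matrix.one_apply] at this
  have hNMe : ∀ g g', ∑ j, N g j * M j g' = if g = g' then 1 else 0 := by
    intro g g'
    have := congrFun (congrFun hNM g) g'
    rwa [Matrix.mul_apply, Matrix.one_apply] at this
  have hMe : ∀ g j, M g j = g • (j • θ) := fun g j => rfl
  -- fixed space
  let U : Submodule k V :=
    { carrier := {v | ∀ g, σ g v = v}
      add_mem' := fun {a b} ha hb g => by rw [map_add, ha g, hb g]
      zero_mem' := fun g => map_zero _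
      smul_mem' := fun c v hv g => by rw [map_smul, hv g] }
  have hUmem : ∀ v, v ∈ U ↔ ∀ g, σ g v = v := fun v => Iff.rfl
  have htr : ∀ v, ∑ g, σ g v ∈ U := by
    intro v h
    rw [map_sum]
    rw [← Equiv.sum_comp (Equiv.mulLeft h) (fun g => σ g v)]
    refine Finset.sum_congr rfl fun g _ => ?_
    rw [Equiv.coe_mulLeft, map_mul, Module.End.mul_apply]
  have hUL : ∀ (l : FixedPoints.subfield G K) (u : V), u ∈ U → (l : K) • u ∈ U := by
    intro l u hu g
    rw [hσ, hu g, l.2 g]
  have hUsum : ∀ (s : Finset G) (f : G → V), (∀ j, f j ∈ U) → ∑ j ∈ s, f j ∈ U :=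
    fun s f hf => Submodule.sum_mem _ fun j _ => hf j
  refine ⟨U.map (smulEnd (k := k) θ), ?_, ?_⟩
  · intro v
    -- the traces
    let u : G → V := fun j => ∑ g, σ g ((j • θ) • v)
    have hu : ∀ j, u j ∈ U := fun j => htr _
    have hu' : ∀ j, u j = ∑ g, M g j • σ g v := by
      intro j
      refine Finset.sum_congr rfl fun g _ => ?_
      rw [hσ, hMe]
    have hv : v = ∑ j, N j 1 • u j := by
      have h1 : ∑ j, N j 1 • u j = ∑ g, (∑ j, M g j * N j 1) • σ g v := by
        simp_rw [hu', Finset.smul_sum, Finset.sum_smul]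
        rw [Finset.sum_comm]
        refine Finset.sum_congr rfl fun g _ => Finset.sum_congr rfl fun j _ => ?_
        rw [smul_smul, mul_comm]
      rw [h1]
      simp_rw [hMNe]
      simp
    -- expand N j 1 in the normal basis
    let l : G → G → FixedPoints.subfield G K := fun j g => b.repr (N j 1) g
    have hl : ∀ j, N j 1 = ∑ g, (l j g : K) * (g • θ) := by
      intro j
      conv_lhs => rw [← b.sum_repr (N j 1)]
      refine Finset.sum_congr rfl fun g _ => ?_
      rw [hb]
      rfl
    let w : G → V := fun g => ∑ j, (l j g : K) • u j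
    have hw : ∀ g, w g ∈ U := fun g => hUsum _ _ fun j => hUL _ _ (hu j)
    refine ⟨fun g => θ • w g, fun g => ⟨w g, hw g, rfl⟩, ?_⟩
    have h2 : ∀ g, σ g (θ • w g) = (g • θ) • w g := by
      intro g
      rw [hσ, hw g g]
    simp_rw [h2]
    conv_rhs => rw [hv]
    simp_rw [hl, w, Finset.smul_sum, Finset.sum_smul]
    rw [Finset.sum_comm]
    refine Finset.sum_congr rfl fun j _ => Finset.sum_congr rfl fun g _ => ?_
    rw [smul_smul, mul_comm]
  · intro x hx hsum
    have hxw : ∀ g, ∃ w ∈ U, θ • w = x g := fun g => hx g
    choose w hw hwx using hxw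
    have hE : ∑ g, (g • θ) • w g = 0 := by
      rw [← hsum]
      refine Finset.sum_congr rfl fun g _ => ?_
      rw [← hwx g, hσ, hw g g]
    have hEh : ∀ h, ∑ g, M h g • w g = 0 := by
      intro h
      have := congrArg (σ h) hE
      rw [map_sum, map_zero] at this
      rw [← this]
      refine Finset.sum_congr rfl fun g _ => ?_
      rw [hσ, hw g h, hMe]
    have hw0 : ∀ g₀, w g₀ = 0 := by
      intro g₀
      have h1 : w g₀ = ∑ g, (∑ h, N g₀ h * M h g) • w g := by
        simp_rw [hNMe]
        simp
      rw [h1]
      simp_rw [Finset.sum_smul]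
      rw [Finset.sum_comm]
      have h2 : ∀ h, ∑ g, (N g₀ h * M h g) • w g = N g₀ h • ∑ g, M h g • w g := by
        intro h
        rw [Finset.smul_sum]
        refine Finset.sum_congr rfl fun g _ => ?_
        rw [smul_smul]
      simp_rw [h2, hEh, smul_zero]
      simp
    intro g
    rw [← hwx g, hw0 g, smul_zero]

end Cfsg.Agent.Helper23.Free
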