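import Mathlib
import Cfsg.Agent.Helper23.FreeA

/-!
# Clifford decomposition along the maximal ideals of a commutative algebra of endomorphisms
-/

set_option autoImplicit false
set_option linter.dupNamespace false

namespace Cfsg.Agent.Helper23.Free

open Module

variable {k : Type*} [Field k] {V : Type*} [AddCommGroup V] [Module k V]
variable {R : Type*} [CommRing R] [Algebra k R] [Module R V] [IsScalarTower k R V]
variable {H : Type*} [Group H] [MulSemiringAction H R]

/-- the vectors killed by an ideal, as a `k`-subspace -/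
def killed (I : Ideal R) : Submodule k V where
  carrier := {v | ∀ r ∈ I, r • v = 0}
  add_mem' := fun {a b} ha hb r hr => by rw [smul_add, ha r hr, hb r hr, add_zero]
  zero_mem' := fun r _ => smul_zero r
  smul_mem' := fun c v hv r hr => by rw [smul_comm, hv r hr, smul_zero]

theorem mem_killed {I : Ideal R} {v : V} : v ∈ killed (k := k) I ↔ ∀ r ∈ I, r • v = 0 := Iff.rfl

/-- the stabilizer of an ideal -/
def stab (H : Type*) [Group H] [MulSemiringAction H R] (m₀ : Ideal R) : Subgroup H where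
  carrier := {h | ∀ r, h • r ∈ m₀ ↔ r ∈ m₀}
  mul_mem' := fun {a b} ha hb r => by rw [mul_smul, ha, hb]
  one_mem' := fun r => by rw [one_smul]
  inv_mem' := fun {a} ha r => by rw [← ha (a⁻¹ • r), smul_inv_smul]

theorem mem_stab {m₀ : Ideal R} {h : H} : h ∈ stab H m₀ ↔ ∀ r, h • r ∈ m₀ ↔ r ∈ m₀ := Iff.rfl

/-- the conjugate ideal `h • m₀` -/
def conjIdeal (m₀ : Ideal R) (h : H) : Ideal R :=
  Ideal.comap (MulSemiringAction.toRingHom H R h⁻¹) m₀

theorem mem_conjIdeal {m₀ : Ideal R} {h : H} {r : R} :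
    r ∈ conjIdeal m₀ h ↔ h⁻¹ • r ∈ m₀ := by
  rw [conjIdeal, Ideal.mem_comap, MulSemiringAction.toRingHom_apply]

theorem conjIdeal_isMaximal {m₀ : Ideal R} (hm : m₀.IsMaximal) (h : H) :
    (conjIdeal m₀ h).IsMaximal :=
  Ideal.comap_isMaximal_of_surjective _ (MulAction.surjective (h⁻¹ : H))

theorem conjIdeal_mul_stab {m₀ : Ideal R} (t : H) {h₀ : H} (h₀m : h₀ ∈ stab H m₀) :
    conjIdeal m₀ (t * h₀) = conjIdeal m₀ t := by
  ext r
  rw [mem_conjIdeal, mem_conjIdeal, mul_inv_rev, mul_smul]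
  exact (inv_mem h₀m) _

theorem conjIdeal_out {m₀ : Ideal R} (h : H) :
    conjIdeal m₀ (Quotient.out (h : H ⧸ stab H m₀)) = conjIdeal m₀ h := by
  have hmem : (Quotient.out (h : H ⧸ stab H m₀))⁻¹ * h ∈ stab H m₀ := by
    rw [← QuotientGroup.eq]; exact QuotientGroup.out_eq' _
  rw [← conjIdeal_mul_stab _ hmem, mul_inv_cancel_left]

section transport

variable (σ : Representation k H V) (hσ : ∀ h (r : R) v, σ h (r • v) = (h • r) • σ h v)
include hσ

theorem apply_mem_torsion {m₀ : Ideal R} (t : H) {v : V} (hv : v ∈ killed (k := k) m₀) :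
    σ t v ∈ Submodule.torsionBySet R V (conjIdeal m₀ t : Set R) := by
  rw [Submodule.mem_torsionBySet_iff]
  rintro ⟨a, ha⟩
  have ha' : t⁻¹ • a ∈ m₀ := mem_conjIdeal.mp ha
  have := hσ t (t⁻¹ • a) v
  rw [smul_inv_smul, hv _ ha', map_zero] at this
  exact this.symm

theorem inv_apply_mem_killed {m₀ : Ideal R} (t : H) {w : V}
    (hw : w ∈ Submodule.torsionBySet R V (conjIdeal m₀ t : Set R)) :
    σ t⁻¹ w ∈ killed (k := k) m₀ := by
  intro r hr
  rw [Submodule.mem_torsionBySet_iff] at hw
  have hmem : t • r ∈ conjIdeal m₀ t := by rw [mem_conjIdeal, inv_smul_smul]; exact hr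
  have := hσ t⁻¹ (t • r) w
  rw [inv_smul_smul, hw ⟨_, hmem⟩, map_zero] at this
  exact this.symm

theorem stab_apply_mem_killed {m₀ : Ideal R} {h : H} (hh : h ∈ stab H m₀) {v : V}
    (hv : v ∈ killed (k := k) m₀) : σ h v ∈ killed (k := k) m₀ := by
  intro r hr
  have h1 : h⁻¹ • r ∈ m₀ := ((inv_mem hh) r).mpr hr
  have := hσ h (h⁻¹ • r) v
  rw [smul_inv_smul, hv _ h1, map_zero] at this
  exact this.symm

end transport

theorem rho_inv_apply' (σ : Representation k H V) (h : H) (v : V) : σ h⁻¹ (σ h v) = v := by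
  rw [← Module.End.mul_apply, ← map_mul, inv_mul_cancel, map_one, Module.End.one_apply]

theorem rho_apply_inv' (σ : Representation k H V) (h : H) (v : V) : σ h (σ h⁻¹ v) = v := by
  rw [← Module.End.mul_apply, ← map_mul, mul_inv_cancel, map_one, Module.End.one_apply]

/-- **Clifford decomposition.** -/
theorem clifford [Fintype H] [Module.Finite k V] [Nontrivial V]
    (hfaith : ∀ r : R, (∀ v : V, r • v = 0) → r = 0)
    (σ : Representation k H V) (hσ : ∀ h (r : R) v, σ h (r • v) = (h • r) • σ h v)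
    (𝓕 : Set (V →ₗ[k] V)) (h𝓕 : ∀ f ∈ 𝓕, ∀ (r : R) v, f (r • v) = r • f v)
    (hsimple : ∀ N : Submodule k V, (∀ r : R, ∀ v ∈ N, r • v ∈ N) → (∀ h, ∀ v ∈ N, σ h v ∈ N) →
      (∀ f ∈ 𝓕, ∀ v ∈ N, f v ∈ N) → N = ⊥ ∨ N = ⊤)
    (m₀ : Ideal R) (hm : m₀.IsMaximal) [Fintype (H ⧸ stab H m₀)] :
    Dec (fun q : H ⧸ stab H m₀ => σ (Quotient.out q)) (killed (k := k) m₀) ∧
      (stab H m₀ = ⊤ → m₀ = ⊥) := by
  classical
  let p : H ⧸ stab H m₀ → Ideal R := fun q => conjIdeal m₀ (Quotient.out q)
  have hpmax : ∀ q, (p q).IsMaximal := fun q => conjIdeal_isMaximal hm _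
  have hpne : ∀ q q', q ≠ q' → p q ≠ p q' := by
    intro q q' hqq' heq
    apply hqq'
    have hs : (Quotient.out q)⁻¹ * Quotient.out q' ∈ stab H m₀ := by
      intro r
      rw [mul_smul, ← mem_conjIdeal]
      change _ ∈ p q ↔ _
      rw [heq]
      change _ ∈ conjIdeal m₀ (Quotient.out q') ↔ _
      rw [mem_conjIdeal, inv_smul_smul]
    have := QuotientGroup.eq.mpr hs
    rwa [QuotientGroup.out_eq', QuotientGroup.out_eq'] at this
  have hpair : ((Finset.univ : Finset (H ⧸ stab H m₀)) : Set (H ⧸ stab H m₀)).Pairwise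
      fun i j => p i ⊔ p j = ⊤ := by
    intro q _ q' _ hqq'
    exact Ideal.IsMaximal.coprime_of_ne (hpmax q) (hpmax q') (hpne q q' hqq')
  set J : Ideal R := ⨅ i ∈ (Finset.univ : Finset (H ⧸ stab H m₀)), p i with hJ
  have hJmem : ∀ r, r ∈ J ↔ ∀ h : H, r ∈ conjIdeal m₀ h := by
    intro r
    rw [hJ]
    simp only [Finset.mem_univ, iInf_pos, Ideal.mem_iInf]
    constructor
    · intro hr h
      have := hr (h : H ⧸ stab H m₀)
      simp only [p] at this
      rwa [conjIdeal_out] at this
    · intro hr q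
      exact hr _
  have hJstab : ∀ (g : H) r, r ∈ J → g • r ∈ J := by
    intro g r hr
    rw [hJmem] at hr ⊢
    intro h
    have := hr (g⁻¹ * h)
    rw [mem_conjIdeal] at this ⊢
    rwa [mul_inv_rev, inv_inv, mul_smul] at this
  -- the submodule J V
  let JV : Submodule R V := J • (⊤ : Submodule R V)
  have hJVσ : ∀ h, ∀ v ∈ JV, σ h v ∈ JV := by
    intro h v hv
    refine Submodule.smul_induction_on hv ?_ ?_
    · intro r hr n _
      rw [hσ]
      exact Submodule.smul_mem_smul (hJstab h r hr) Submodule.mem_top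
    · intro x y hx hy
      rw [map_add]; exact JV.add_mem hx hy
  have hJV𝓕 : ∀ f ∈ 𝓕, ∀ v ∈ JV, f v ∈ JV := by
    intro f hf v hv
    refine Submodule.smul_induction_on hv ?_ ?_
    · intro r hr n _
      rw [h𝓕 f hf]
      exact Submodule.smul_mem_smul hr Submodule.mem_top
    · intro x y hx hy
      rw [map_add]; exact JV.add_mem hx hy
  have hfin : Module.Finite R V := Module.Finite.of_restrictScalars_finite k R V
  have hdich := hsimple (JV.restrictScalars k) (fun r v hv => JV.smul_mem r hv) hJVσ hJV𝓕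
  have hJle : J ≤ p ((1 : H) : H ⧸ stab H m₀) := by
    rw [hJ]
    exact iInf₂_le _ (Finset.mem_univ _)
  have hJV : JV = ⊥ := by
    rcases hdich with h | h
    · exact (Submodule.restrictScalars_eq_bot_iff k R V).mp h
    · exfalso
      have htop : (⊤ : Submodule R V) ≤ J • (⊤ : Submodule R V) := by
        intro v _
        have : v ∈ JV.restrictScalars k := by rw [h]; trivial
        exact this
      obtain ⟨r, hr1, hr0⟩ := Submodule.exists_sub_one_mem_and_smul_eq_zero_of_fg_of_le_smul J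
        (⊤ : Submodule R V) Module.Finite.fg_top htop
      have hr : r = 0 := hfaith r fun v => hr0 v Submodule.mem_top
      rw [hr, zero_sub] at hr1
      have h1 : (1 : R) ∈ J := by
        have := J.neg_mem hr1
        rwa [neg_neg] at this
      exact (hpmax _).ne_top ((Ideal.eq_top_iff_one _).mpr (hJle h1))
  have hJkill : ∀ a ∈ J, ∀ v : V, a • v = 0 := by
    intro a ha v
    have : a • v ∈ JV := Submodule.smul_mem_smul ha Submodule.mem_top
    rw [hJV] at this
    exact (Submodule.mem_bot R).mp this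
  have hJbot : ∀ a ∈ J, a = 0 := fun a ha => hfaith a (hJkill a ha)
  have htors : Module.IsTorsionBySet R V (J : Set R) := by
    intro x a
    exact hJkill a a.2 x
  have hsup : ⨆ i ∈ (Finset.univ : Finset (H ⧸ stab H m₀)), Submodule.torsionBySet R V (p i : Set R) = ⊤ := by
    rw [Submodule.iSup_torsionBySet_ideal_eq_torsionBySet_iInf hpair]
    exact (Module.isTorsionBySet_iff_torsionBySet_eq_top _).mp htors
  have hind : iSupIndep fun i : H ⧸ stab H m₀ => Submodule.torsionBySet R V (p i : Set R) := by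
    rw [iSupIndep_iff_supIndep_univ]
    exact Submodule.supIndep_torsionBySet_ideal hpair
  refine ⟨?_, ?_⟩
  constructor
  · intro v
    have hv : v ∈ ⨆ i ∈ (Finset.univ : Finset (H ⧸ stab H m₀)),
        Submodule.torsionBySet R V (p i : Set R) := by rw [hsup]; trivial
    rw [Submodule.mem_iSup_finset_iff_exists_sum] at hv
    obtain ⟨μ, hμ⟩ := hv
    refine ⟨fun q => σ (Quotient.out q)⁻¹ (μ q : V), fun q => ?_, ?_⟩
    · exact inv_apply_mem_killed σ hσ _ (μ q).2
    · rw [← hμ]
      refine Finset.sum_congr rfl fun q _ => ?_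
      exact rho_apply_inv' σ _ _
  · intro x hx hsum
    rw [iSupIndep_iff_finsetSum_eq_zero_imp_eq_zero] at hind
    have := hind Finset.univ (fun q => σ (Quotient.out q) (x q))
      (fun q _ => apply_mem_torsion σ hσ _ (hx q)) hsum
    intro q
    have h0 := this q (Finset.mem_univ q)
    have := congrArg (σ (Quotient.out q)⁻¹) h0
    rwa [rho_inv_apply', map_zero] at this
  · intro htop
    rw [eq_bot_iff]
    intro r hr
    rw [Ideal.mem_bot]
    apply hJbot
    rw [hJmem]
    intro h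
    rw [mem_conjIdeal]
    have hh : h⁻¹ ∈ stab H m₀ := by rw [htop]; trivial
    exact (hh r).mpr hr

end Cfsg.Agent.Helper23.Free
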