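import Mathlib
import Cfsg.Agent.Helper23.FreeA
import Cfsg.Agent.Helper23.FreeB
import Cfsg.Agent.Helper23.FreeC

/-!
# Freeness for a pair of representations `(σ, τ)` of `H` and a nilpotent group `F` acted on
fixed-point-freely by `H`
-/

set_option autoImplicit false
set_option linter.dupNamespace false
set_option linter.style.haveILetI false
set_option linter.deprecated false

namespace Cfsg.Agent.Helper23.Free

open Module
open scoped commutatorElement

/-- a fixed-point-free automorphism stays fixed-point-free modulo an invariant subgroup -/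
theorem fpf_quot {F : Type*} [Group F] [Finite F] (α : MulAut F) (hα : ∀ f, α f = f → f = 1)
    (N : Subgroup F) (hN : ∀ n ∈ N, α n ∈ N) (z : F) (hz : z⁻¹ * α z ∈ N) : z ∈ N := by
  let ψ : N → N := fun n => ⟨(n : F)⁻¹ * α n, N.mul_mem (N.inv_mem n.2) (hN n n.2)⟩
  have hinj : Function.Injective ψ := by
    intro n m hnm
    have h1 : (n : F)⁻¹ * α n = (m : F)⁻¹ * α m := congrArg Subtype.val hnm
    have h2 : α ((n : F) * (m : F)⁻¹) = (n : F) * (m : F)⁻¹ := by
      have hn : α n = (n : F) * ((m : F)⁻¹ * α m) := by rw [← h1, mul_inv_cancel_left]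
      rw [map_mul, map_inv, hn]
      group
    have h3 := hα _ h2
    exact Subtype.ext (mul_inv_eq_one.mp h3)
  obtain ⟨n, hn⟩ := (Finite.injective_iff_surjective.mp hinj) ⟨_, hz⟩
  have h1 : (n : F)⁻¹ * α n = z⁻¹ * α z := congrArg Subtype.val hn
  have h2 : α (z * (n : F)⁻¹) = z * (n : F)⁻¹ := by
    have hn' : α n = (n : F) * (z⁻¹ * α z) := by rw [← h1, mul_inv_cancel_left]
    rw [map_mul, map_inv, hn']
    group
  have h3 := hα _ h2
  rw [mul_inv_eq_one] at h3
  rw [h3]; exact n.2

/-- in a nilpotent group, a proper normal subgroup has a noncentral-modulo-it element -/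
theorem exists_central_mod {F : Type*} [Group F] (hnil : Group.IsNilpotent F) (N : Subgroup F)
    (hN : N ≠ ⊤) : ∃ z, z ∉ N ∧ ∀ f : F, ⁅z, f⁆ ∈ N := by
  classical
  obtain ⟨n, hn⟩ := Subgroup.nilpotent_iff_lowerCentralSeries.mp hnil
  have hex : ∃ j, (⊤ : Subgroup F).lowerCentralSeries j ≤ N := ⟨n, by rw [hn]; exact bot_le⟩
  have hj0 : Nat.find hex ≠ 0 := by
    intro h0
    have := Nat.find_spec hex
    rw [h0, Subgroup.lowerCentralSeries_zero] at this
    exact hN (top_le_iff.mp this)
  obtain ⟨i, hi⟩ := Nat.exists_eq_succ_of_ne_zero hj0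
  have hnot : ¬ (⊤ : Subgroup F).lowerCentralSeries i ≤ N :=
    Nat.find_min hex (by rw [hi]; exact Nat.lt_succ_self i)
  have hsucc : (⊤ : Subgroup F).lowerCentralSeries (i + 1) ≤ N := by
    have := Nat.find_spec hex
    rwa [hi] at this
  obtain ⟨z, hz, hzN⟩ := SetLike.not_le_iff_exists.mp hnot
  refine ⟨z, hzN, fun f => hsucc ?_⟩
  rw [Subgroup.lowerCentralSeries_succ]
  exact Subgroup.commutator_mem_commutator hz (Subgroup.mem_top f)

variable {k : Type*} [Field k] {F : Type*} [Group F]

/-- the hypotheses on a pair of representations -/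
structure Hyp {H V : Type*} [Group H] [AddCommGroup V] [Module k V]
    (σ : Representation k H V) (τ : Representation k F V) (φ : H →* MulAut F) : Prop where
  comm : ∀ h f v, σ h (τ f v) = τ (φ h f) (σ h v)
  fpf : ∀ h f, φ h f = f → h = 1 ∨ f = 1
  fix : ∀ v, (∀ f, τ f v = v) → v = 0

section conj

variable {H V : Type*} [Group H] [AddCommGroup V] [Module k V]

/-- the conjugation action of `H` on a stable subalgebra of endomorphisms -/
@[instance_reducible]
def conjAction (σ : Representation k H V) (R : Subalgebra k (Module.End k V))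
    (hstab : ∀ h, ∀ a ∈ R, σ h * a * σ h⁻¹ ∈ R) : MulSemiringAction H R where
  smul h a := ⟨σ h * a * σ h⁻¹, hstab h a a.2⟩
  one_smul a := Subtype.ext (by change σ 1 * (a : Module.End k V) * σ 1⁻¹ = a; simp)
  mul_smul g h a := Subtype.ext (by
    change σ (g * h) * (a : Module.End k V) * σ (g * h)⁻¹ = σ g * (σ h * a * σ h⁻¹) * σ g⁻¹
    rw [mul_inv_rev, map_mul, map_mul]; simp only [mul_assoc])
  smul_zero h := Subtype.ext (by change σ h * ((0 : R) : Module.End k V) * σ h⁻¹ = _; simp)
  smul_add h a b := Subtype.ext (by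
    change σ h * ((a + b : R) : Module.End k V) * σ h⁻¹ = σ h * a * σ h⁻¹ + σ h * b * σ h⁻¹
    rw [Subalgebra.coe_add, mul_add, add_mul])
  smul_one h := Subtype.ext (by
    change σ h * ((1 : R) : Module.End k V) * σ h⁻¹ = _
    rw [Subalgebra.coe_one, mul_one, ← map_mul, mul_inv_cancel, map_one])
  smul_mul h a b := Subtype.ext (by
    change σ h * ((a * b : R) : Module.End k V) * σ h⁻¹ =
      (σ h * a * σ h⁻¹) * (σ h * b * σ h⁻¹)
    have h1 : σ h⁻¹ * σ h = 1 := by rw [← map_mul, inv_mul_cancel, map_one]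
    rw [Subalgebra.coe_mul]
    calc σ h * ((a : Module.End k V) * b) * σ h⁻¹
        = σ h * a * (1 * (b * σ h⁻¹)) := by rw [one_mul]; simp only [mul_assoc]
      _ = σ h * a * σ h⁻¹ * (σ h * b * σ h⁻¹) := by rw [← h1]; simp only [mul_assoc])

end conj

section main

variable {H V : Type*} [Group H] [AddCommGroup V] [Module k V]

/-- version of `free_of_semilinear` for a commutative ring that is a field -/
theorem free_of_semilinear' {K : Type*} [CommRing K] (hK : IsField K) [Algebra k K]
    {G : Type*} [Group G] [Fintype G] [MulSemiringAction G K]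
    (hfaithful : ∀ g : G, g ≠ 1 → ∃ a : K, g • a ≠ a) [Module K V] [IsScalarTower k K V]
    (σ : Representation k G V) (hσ : ∀ g (a : K) v, σ g (a • v) = (g • a) • σ g v) : Free σ := by
  letI : Field K := hK.toField
  haveI : FaithfulSMul G K := ⟨fun {g₁ g₂} h => by
    by_contra hne
    obtain ⟨a, ha⟩ := hfaithful (g₂⁻¹ * g₁) (by
      intro h1; apply hne; rw [inv_mul_eq_one] at h1; exact h1.symm)
    apply ha
    rw [mul_smul, h a, inv_smul_smul]⟩
  exact free_of_semilinear σ hσ

variable [Finite F]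

theorem simple_case [Fintype H] [Module.Finite k V] [Nontrivial V] (hnil : Group.IsNilpotent F)
    (σ : Representation k H V) (τ : Representation k F V) (φ : H →* MulAut F) (hyp : Hyp σ τ φ)
    (hsimple : ∀ U : Submodule k V, (∀ h, ∀ u ∈ U, σ h u ∈ U) → (∀ f, ∀ u ∈ U, τ f u ∈ U) →
      U = ⊥ ∨ U = ⊤)
    (IH : ∀ (H₀ : Subgroup H) [Fintype H₀], H₀ ≠ ⊤ → ∀ (c : Submodule k V)
        (hcσ : ∀ h : H₀, c ≤ c.comap ((σ.comp H₀.subtype) h)) (_ : ∀ f, c ≤ c.comap (τ f)),
        Free (Representation.subrepresentation (σ.comp H₀.subtype) c hcσ)) : Free σ := by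
  classical
  -- kernel of τ
  let N : Subgroup F := MonoidHom.ker (τ : F →* Module.End k V)
  have hNmem : ∀ f, f ∈ N ↔ τ f = 1 := fun f => MonoidHom.mem_ker
  have hNtop : N ≠ ⊤ := by
    intro htop
    obtain ⟨v, hv⟩ := exists_ne (0 : V)
    apply hv
    apply hyp.fix
    intro f
    have : f ∈ N := by rw [htop]; trivial
    rw [(hNmem f).mp this, Module.End.one_apply]
  obtain ⟨z₁, hz₁N, hz₁c⟩ := exists_central_mod hnil N hNtop
  have hcomm : ∀ h f, σ h * τ f = τ (φ h f) * σ h :=
    fun h f => LinearMap.ext fun v => hyp.comm h f v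
  have hσ1 : ∀ h, σ h⁻¹ * σ h = 1 := fun h => by rw [← map_mul, inv_mul_cancel, map_one]
  have hσ2 : ∀ h, σ h * σ h⁻¹ = 1 := fun h => by rw [← map_mul, mul_inv_cancel, map_one]
  have hconj : ∀ h f, σ h * τ f * σ h⁻¹ = τ (φ h f) := by
    intro h f
    rw [hcomm, mul_assoc, hσ2, mul_one]
  have hconjmul : ∀ h (x y : Module.End k V),
      σ h * (x * y) * σ h⁻¹ = (σ h * x * σ h⁻¹) * (σ h * y * σ h⁻¹) := by
    intro h x y
    calc σ h * (x * y) * σ h⁻¹ = σ h * x * (1 * (y * σ h⁻¹)) := by
          rw [one_mul]; simp only [mul_assoc]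
      _ = (σ h * x * σ h⁻¹) * (σ h * y * σ h⁻¹) := by rw [← hσ1 h]; simp only [mul_assoc]
  let Zs : Set F := {z | ∀ f, τ z * τ f = τ f * τ z}
  have hz₁Z : z₁ ∈ Zs := by
    intro f
    have h1 := (hNmem _).mp (hz₁c f)
    have h2 : z₁ * f = ⁅z₁, f⁆ * (f * z₁) := by rw [commutatorElement_def]; group
    rw [← map_mul, h2, map_mul, h1, one_mul, map_mul]
  have hZφ : ∀ h, ∀ z ∈ Zs, φ h z ∈ Zs := by
    intro h z hz f
    obtain ⟨f', rfl⟩ := (φ h).surjective f
    rw [← hconj h z, ← hconj h f', ← hconjmul, ← hconjmul, hz f']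
  let S₀ : Set (Module.End k V) := τ '' Zs
  have hS₀comm : ∀ a ∈ S₀, ∀ b ∈ S₀, a * b = b * a := by
    rintro _ ⟨z, hz, rfl⟩ _ ⟨z', _, rfl⟩
    exact hz z'
  let R : Subalgebra k (Module.End k V) := Algebra.adjoin k S₀
  have hRcent : ∀ a ∈ R, ∀ f, a * τ f = τ f * a := by
    have hle : R ≤ Subalgebra.centralizer k (Set.range τ) := by
      apply Algebra.adjoin_le
      rintro _ ⟨z, hz, rfl⟩
      rw [SetLike.mem_coe, Subalgebra.mem_centralizer_iff k]
      rintro _ ⟨f, rfl⟩
      exact (hz f).symm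
    intro a ha f
    have := ((Subalgebra.mem_centralizer_iff k).mp (hle ha)) (τ f) ⟨f, rfl⟩
    exact this.symm
  have hRstab : ∀ h, ∀ a ∈ R, σ h * a * σ h⁻¹ ∈ R := by
    intro h a ha
    refine Algebra.adjoin_induction (p := fun a _ => σ h * a * σ h⁻¹ ∈ R) ?_ ?_ ?_ ?_ ha
    · rintro _ ⟨z, hz, rfl⟩
      rw [hconj]
      exact Algebra.subset_adjoin ⟨_, hZφ h z hz, rfl⟩
    · intro r
      rw [← Algebra.commutes r (σ h), mul_assoc, hσ2, mul_one]
      exact Subalgebra.algebraMap_mem _ r
    · intro x y _ _ hx hy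
      rw [mul_add, add_mul]; exact R.add_mem hx hy
    · intro x y _ _ hx hy
      rw [hconjmul]; exact R.mul_mem hx hy
  letI : CommRing R := Algebra.adjoinCommRingOfComm k hS₀comm
  letI : MulSemiringAction H R := conjAction σ R hRstab
  have hsmul : ∀ (a : R) (v : V), a • v = (a : Module.End k V) v := fun a v => rfl
  have hact : ∀ (h : H) (a : R), ((h • a : R) : Module.End k V) = σ h * a * σ h⁻¹ :=
    fun h a => rfl
  have hσR : ∀ h (r : R) v, σ h (r • v) = (h • r) • σ h v := by
    intro h r v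
    rw [hsmul, hsmul, hact]
    simp only [Module.End.mul_apply]
    rw [rho_inv_apply']
  have hfaith : ∀ r : R, (∀ v : V, r • v = 0) → r = 0 := by
    intro r hr
    apply Subtype.ext
    apply LinearMap.ext
    intro v
    exact hr v
  have h𝓕 : ∀ f ∈ Set.range τ, ∀ (r : R) v, f (r • v) = r • f v := by
    rintro _ ⟨f, rfl⟩ r v
    rw [hsmul, hsmul]
    exact (LinearMap.congr_fun (hRcent r r.2 f) v).symm
  haveI : Nontrivial R := by
    refine ⟨⟨0, 1, ?_⟩⟩
    intro h01
    obtain ⟨v, hv⟩ := exists_ne (0 : V)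
    apply hv
    have h2 : ((0 : R) : Module.End k V) v = ((1 : R) : Module.End k V) v := by rw [h01]
    exact h2.symm
  obtain ⟨m₀, hm⟩ := Ideal.exists_maximal R
  obtain ⟨hdec, hfield⟩ := clifford (k := k) hfaith σ hσR (Set.range τ) h𝓕
    (fun U _ h1 h2 => hsimple U h1 (fun f u hu => h2 (τ f) ⟨f, rfl⟩ u hu)) m₀ hm
  by_cases htop : stab H m₀ = ⊤
  · -- the field case
    have hbot := hfield htop
    have hF : IsField R := by
      rw [Ring.isField_iff_maximal_bot, ← hbot]; exact hm
    refine free_of_semilinear' (K := R) hF ?_ σ hσR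
    intro h hne
    refine ⟨⟨τ z₁, Algebra.subset_adjoin ⟨z₁, hz₁Z, rfl⟩⟩, ?_⟩
    intro heq
    have h1 : σ h * τ z₁ * σ h⁻¹ = τ z₁ := congrArg Subtype.val heq
    rw [hconj] at h1
    apply hz₁N
    refine fpf_quot (φ h) (fun f hf => (hyp.fpf h f hf).resolve_left hne) N ?_ z₁ ?_
    · intro n hn
      rw [hNmem] at hn ⊢
      rw [← hconj, hn, mul_one, hσ2]
    · rw [hNmem, map_mul, h1, ← map_mul, inv_mul_cancel, map_one]
  · -- induction from the stabilizer
    have hcσ : ∀ h : stab H m₀, killed (k := k) m₀ ≤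
        (killed (k := k) m₀).comap ((σ.comp (stab H m₀).subtype) h) :=
      fun h v hv => stab_apply_mem_killed σ hσR h.2 hv
    have hcτ : ∀ f, killed (k := k) m₀ ≤ (killed (k := k) m₀).comap (τ f) := by
      intro f v hv r hr
      change r • τ f v = 0
      rw [← h𝓕 (τ f) ⟨f, rfl⟩, hv r hr, map_zero]
    have F₀ := IH (stab H m₀) htop (killed (k := k) m₀) hcσ hcτ
    refine free_of_induce (stab H m₀) σ _ (killed (k := k) m₀).subtype
      (Submodule.subtype_injective _) ?_ ?_ F₀
    · intro h x; rfl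
    · rw [Submodule.range_subtype]; exact hdec

end main

universe u v

/-- **Main induction.** -/
theorem free_main {k : Type*} [Field k] {F : Type*} [Group F] [Finite F]
    (hnil : Group.IsNilpotent F) (hcard : (Nat.card F : k) ≠ 0) :
    ∀ (n : ℕ) (H : Type u) [Group H] [Fintype H] (V : Type v) [AddCommGroup V] [Module k V]
      [Module.Finite k V] (σ : Representation k H V) (τ : Representation k F V)
      (φ : H →* MulAut F), Hyp σ τ φ → Fintype.card H + finrank k V = n → Free σ := by
  intro n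
  induction n using Nat.strong_induction_on with
  | _ n IH =>
  intro H _ _ V _ _ _ σ τ φ hyp hn
  classical
  by_cases hV : Subsingleton V
  · refine ⟨⊥, ?_, ?_⟩
    · intro v; exact ⟨fun _ => 0, fun _ => Submodule.zero_mem _, Subsingleton.elim _ _⟩
    · intro x _ _ i; exact Subsingleton.elim _ _
  rw [not_subsingleton_iff_nontrivial] at hV
  by_cases hred : ∃ U : Submodule k V, U ≠ ⊥ ∧ U ≠ ⊤ ∧ (∀ h, ∀ u ∈ U, σ h u ∈ U) ∧
      (∀ f, ∀ u ∈ U, τ f u ∈ U)
  · obtain ⟨U, hU0, hU1, hUσ, hUτ⟩ := hred
    have hUσ' : ∀ h, U ≤ U.comap (σ h) := fun h u hu => hUσ h u hu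
    have hUτ' : ∀ f, U ≤ U.comap (τ f) := fun f u hu => hUτ f u hu
    have hyp₁ : Hyp (σ.subrepresentation U hUσ') (τ.subrepresentation U hUτ') φ :=
      { comm := fun h f v => Subtype.ext (hyp.comm h f v)
        fpf := hyp.fpf
        fix := fun v hv => Subtype.ext (hyp.fix v fun f => congrArg Subtype.val (hv f)) }
    have hlt₁ : finrank k U < finrank k V := Submodule.finrank_lt hU1
    have F₁ : Free (σ.subrepresentation U hUσ') :=
      IH _ (by omega) H U (σ.subrepresentation U hUσ') (τ.subrepresentation U hUτ') φ hyp₁ rfl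
    have hyp₂ : Hyp (σ.quotient U hUσ') (τ.quotient U hUτ') φ :=
      { comm := by
          intro h f x
          obtain ⟨v, rfl⟩ := U.mkQ_surjective x
          change U.mkQ (σ h (τ f v)) = U.mkQ (τ (φ h f) (σ h v))
          rw [hyp.comm]
        fpf := hyp.fpf
        fix := by
          intro x hx
          obtain ⟨v, rfl⟩ := U.mkQ_surjective x
          have h1 : ∀ f, τ f v - v ∈ U := by
            intro f
            have := hx f
            change U.mkQ (τ f v) = U.mkQ v at this
            rwa [Submodule.mkQ_apply, Submodule.mkQ_apply, Submodule.Quotient.eq] at this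
          haveI := Fintype.ofFinite F
          have ha : ∑ f : F, τ f v = 0 := by
            apply hyp.fix
            intro g
            rw [map_sum]
            rw [← Equiv.sum_comp (Equiv.mulLeft g) (fun f => τ f v)]
            refine Finset.sum_congr rfl fun f _ => ?_
            rw [Equiv.coe_mulLeft, map_mul, Module.End.mul_apply]
          have h2 : ∑ f : F, τ f v - (Nat.card F : k) • v ∈ U := by
            have : ∑ f : F, τ f v - (Nat.card F : k) • v = ∑ f : F, (τ f v - v) := by
              rw [Finset.sum_sub_distrib, Finset.sum_const, Finset.card_univ,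
                Nat.card_eq_fintype_card, Nat.cast_smul_eq_nsmul]
            rw [this]; exact Submodule.sum_mem _ fun f _ => h1 f
          rw [ha, zero_sub, Submodule.neg_mem_iff] at h2
          have h3 : v ∈ U := by
            have := U.smul_mem (Nat.card F : k)⁻¹ h2
            rwa [smul_smul, inv_mul_cancel₀ hcard, one_smul] at this
          rw [Submodule.mkQ_apply, Submodule.Quotient.mk_eq_zero]; exact h3 }
    have hlt₂ : finrank k (V ⧸ U) < finrank k V := by
      have h1 := Submodule.finrank_quotient_add_finrank U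
      have h2 : 0 < finrank k U := by
        rw [Nat.pos_iff_ne_zero]
        intro h0
        exact hU0 (Submodule.finrank_eq_zero.mp h0)
      omega
    have F₂ : Free (σ.quotient U hUσ') :=
      IH _ (by omega) H (V ⧸ U) (σ.quotient U hUσ') (τ.quotient U hUτ') φ hyp₂ rfl
    refine free_of_sub_quot σ _ _ U.subtype U.mkQ (Submodule.mkQ_surjective U) ?_ ?_
      (Submodule.subtype_injective U) ?_ ?_ F₁ F₂
    · intro v hv
      rw [Submodule.mkQ_apply, Submodule.Quotient.mk_eq_zero] at hv
      exact ⟨⟨v, hv⟩, rfl⟩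
    · intro x
      rw [Submodule.mkQ_apply, Submodule.Quotient.mk_eq_zero]
      exact x.2
    · intro h x; rfl
    · intro h v; rfl
  · push Not at hred
    apply simple_case hnil σ τ φ hyp
    · intro U h1 h2
      by_contra hcon
      push Not at hcon
      obtain ⟨f, u, hu, hfu⟩ := hred U hcon.1 hcon.2 h1
      exact hfu (h2 f u hu)
    · intro H₀ _ hne c hcσ hcτ
      have hcardlt : Fintype.card H₀ < Fintype.card H := by
        rw [← Nat.card_eq_fintype_card, ← Nat.card_eq_fintype_card]
        exact lt_of_le_of_ne (Subgroup.card_le_card_group H₀)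
          (fun h => hne ((Subgroup.card_eq_iff_eq_top H₀).mp h))
      have hfr : finrank k c ≤ finrank k V := Submodule.finrank_le c
      refine IH (Fintype.card H₀ + finrank k c) (by omega) H₀ c _
        (τ.subrepresentation c hcτ) (φ.comp H₀.subtype) ?_ rfl
      exact
        { comm := fun h f v => Subtype.ext (hyp.comm h f v)
          fpf := fun h f hf => (hyp.fpf h f hf).imp (fun h1 => Subtype.ext h1) id
          fix := fun v hv => Subtype.ext (hyp.fix v fun f => congrArg Subtype.val (hv f)) }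

end Cfsg.Agent.Helper23.Free
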