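import Mathlib
import Cfsg.Agent.Helper23.FreeD
import Cfsg.Agent.Helper23.NilpotentElts

/-!
# Freeness over a Frobenius complement: ambient-group form and the reduction to the
`p'`-part of the kernel
-/

set_option autoImplicit false
set_option linter.dupNamespace false
set_option linter.style.haveILetI false

namespace Cfsg.Agent.Helper23.Free

open Module

/-- a `p`-group acting on a nonzero invariant subspace in characteristic `p` fixes a nonzero
vector of it -/
theorem exists_fixed_of_pgroup {k A V : Type*} [Field k] [Group A] [AddCommGroup V] [Module k V]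
    (p : ℕ) [hp : Fact p.Prime] [CharP k p] (ρ : Representation k A V) (P : Subgroup A) [Finite P]
    (hP : IsPGroup p P) (C : Submodule k V) (hC : ∀ g ∈ P, ∀ v ∈ C, ρ g v ∈ C) (hC0 : C ≠ ⊥) :
    ∃ v ∈ C, v ≠ 0 ∧ ∀ g ∈ P, ρ g v = v := by
  classical
  obtain ⟨v₀, hv₀C, hv₀⟩ := Submodule.exists_mem_ne_zero_of_ne_bot hC0
  let S : Set V := Set.range fun g : P => ρ (g : A) v₀
  let M : AddSubgroup V := AddSubgroup.closure S
  have hSstab : ∀ g : P, ∀ s ∈ S, ρ (g : A) s ∈ S := by
    rintro g _ ⟨g', rfl⟩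
    refine ⟨g * g', ?_⟩
    simp only [Subgroup.coe_mul, map_mul, Module.End.mul_apply]
  have hMstab : ∀ g : P, ∀ m ∈ M, ρ (g : A) m ∈ M := by
    intro g m hm
    refine AddSubgroup.closure_induction (p := fun m _ => ρ (g : A) m ∈ M) ?_ ?_ ?_ ?_ hm
    · intro s hs; exact AddSubgroup.subset_closure (hSstab g s hs)
    · rw [map_zero]; exact M.zero_mem
    · intro x y _ _ hx hy; rw [map_add]; exact M.add_mem hx hy
    · intro x _ hx; rw [map_neg]; exact M.neg_mem hx
  have hMC : ∀ m ∈ M, m ∈ C := by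
    intro m hm
    have hle : M ≤ C.toAddSubgroup := (AddSubgroup.closure_le _).mpr (by
      rintro _ ⟨g, rfl⟩; exact hC g g.2 v₀ hv₀C)
    exact hle hm
  letI : MulAction P M :=
    { smul := fun g m => ⟨ρ (g : A) m, hMstab g m m.2⟩
      one_smul := fun m => Subtype.ext (by
        change ρ ((1 : P) : A) (m : V) = m
        rw [Subgroup.coe_one, map_one, Module.End.one_apply])
      mul_smul := fun g h m => Subtype.ext (by
        change ρ ((g * h : P) : A) (m : V) = ρ g (ρ h m)
        rw [Subgroup.coe_mul, map_mul, Module.End.mul_apply]) }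
  have hsmul : ∀ (g : P) (m : M), ((g • m : M) : V) = ρ (g : A) m := fun g m => rfl
  haveI : Finite S := Set.finite_range _
  have hpM : ∀ x : M, p • x = 0 := by
    intro x
    apply Subtype.ext
    rw [AddSubgroup.coe_nsmul, ← Nat.cast_smul_eq_nsmul k, CharP.cast_eq_zero, zero_smul]
    rfl
  haveI : Finite M := by
    haveI : AddGroup.FG M := AddGroup.closure_finite_fg S
    apply AddCommGroup.finite_of_fg_isAddTorsion
    intro x
    rw [isOfFinAddOrder_iff_nsmul_eq_zero]
    exact ⟨p, hp.out.pos, hpM x⟩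
  have hv₀M : v₀ ∈ M := by
    apply AddSubgroup.subset_closure
    refine ⟨1, ?_⟩
    change ρ ((1 : P) : A) v₀ = v₀
    rw [Subgroup.coe_one, map_one, Module.End.one_apply]
  have hcard : p ∣ Nat.card M := by
    set x : M := ⟨v₀, hv₀M⟩ with hx
    have h2 : addOrderOf x ∣ p := addOrderOf_dvd_of_nsmul_eq_zero (hpM x)
    have h3 : addOrderOf x ≠ 1 := by
      rw [Ne, AddMonoid.addOrderOf_eq_one_iff]
      intro h0
      exact hv₀ (congrArg Subtype.val h0)
    have h4 : addOrderOf x = p := by
      rcases (Nat.dvd_prime hp.out).1 h2 with h | h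
      · exact absurd h h3
      · exact h
    rw [← h4]
    exact addOrderOf_dvd_natCard _
  have h0 : (0 : M) ∈ MulAction.fixedPoints P M := by
    intro g
    apply Subtype.ext
    rw [hsmul, AddSubgroup.coe_zero, map_zero]
  obtain ⟨b, hb, hb0⟩ := hP.exists_fixed_point_of_prime_dvd_card_of_fixed_point M hcard h0
  refine ⟨(b : V), hMC b b.2, ?_, ?_⟩
  · intro hb'
    apply hb0
    exact (Subtype.ext hb').symm
  · intro g hg
    have := hb ⟨g, hg⟩
    exact congrArg Subtype.val this

/-- the `p'`-part of a normal nilpotent subgroup -/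
theorem exists_pprime_part {A : Type*} [Group A] [Finite A] (Fk : Subgroup A) [Fk.Normal]
    (hnil : Group.IsNilpotent Fk) (p : ℕ) [hp : Fact p.Prime] :
    ∃ (F₁ P : Subgroup A), F₁.Normal ∧ F₁ ≤ Fk ∧ P ≤ Fk ∧ IsPGroup p P ∧
      (Nat.card F₁).Coprime p ∧ (∀ f ∈ Fk, ∃ x ∈ P, ∃ y ∈ F₁, f = x * y) := by
  classical
  haveI := hnil
  obtain ⟨P₀⟩ : Nonempty (Sylow p Fk) := inferInstance
  haveI hPn : (P₀ : Subgroup Fk).Normal := inferInstance
  obtain ⟨Q₀, hQ₀⟩ := Subgroup.exists_right_complement'_of_coprime P₀.card_coprime_index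
  have hcardQ : (Nat.card Q₀).Coprime p := by
    have h1 := hQ₀.card_mul_card
    have h2 := (P₀ : Subgroup Fk).card_mul_index
    have h3 : Nat.card Q₀ = (P₀ : Subgroup Fk).index := by
      have hpos : 0 < Nat.card (P₀ : Subgroup Fk) := Nat.card_pos
      apply Nat.eq_of_mul_eq_mul_left hpos
      rw [h1, h2]
    rw [h3]
    have hnd := P₀.not_dvd_index
    exact ((Nat.Prime.coprime_iff_not_dvd hp.out).mpr hnd).symm
  -- characterization of Q₀
  have hchar : ∀ y : Fk, y ∈ Q₀ ↔ (orderOf y).Coprime p := by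
    intro y
    constructor
    · intro hy
      have h1 : orderOf (⟨y, hy⟩ : Q₀) ∣ Nat.card Q₀ := orderOf_dvd_natCard _
      have h2 : orderOf (⟨y, hy⟩ : Q₀) = orderOf y := by
        rw [← Subgroup.orderOf_coe]
      rw [h2] at h1
      exact Nat.Coprime.coprime_dvd_left h1 hcardQ
    · intro hy
      obtain ⟨⟨a, b⟩, hab, -⟩ := (Subgroup.isComplement'_def.mp hQ₀).existsUnique y
      simp only at hab
      have hap : IsPGroup p (Subgroup.zpowers (a : Fk)) :=
        P₀.isPGroup'.to_le (Subgroup.zpowers_le.mpr a.2)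
      have hb : (orderOf (b : Fk)).Coprime p := by
        have h1 : orderOf b ∣ Nat.card Q₀ := orderOf_dvd_natCard _
        rw [Subgroup.orderOf_coe] at *
        exact Nat.Coprime.coprime_dvd_left h1 hcardQ
      have hcomm : Commute (a : Fk) (b : Fk) := commute_of_isNilpotent_of_coprime _ _ hap hb
      set m := Nat.card Q₀ with hm
      have hbm : (b : Fk) ^ m = 1 := by
        have : b ^ m = 1 := pow_card_eq_one'
        have := congrArg Subtype.val this
        simpa using this
      have hym : y ^ m = (a : Fk) ^ m := by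
        rw [← hab, hcomm.mul_pow, hbm, mul_one]
      have h1 : (orderOf (y ^ m)).Coprime p :=
        Nat.Coprime.coprime_dvd_left (orderOf_pow_dvd m) hy
      obtain ⟨j, hj⟩ := (IsPGroup.iff_orderOf.mp P₀.isPGroup') ⟨a.1, a.2⟩
      have hoa : orderOf (a : Fk) = p ^ j := by
        rw [← hj]; exact (Subgroup.orderOf_mk (a : Fk) a.2).symm
      have h2 : orderOf ((a : Fk) ^ m) ∣ p ^ j := by
        rw [← hoa]; exact orderOf_pow_dvd m
      have h3 : orderOf ((a : Fk) ^ m) = 1 := by
        rw [hym] at h1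
        exact Nat.Coprime.eq_one_of_dvd (Nat.Coprime.pow_right j h1) h2
      have h4 : (a : Fk) ^ m = 1 := orderOf_eq_one_iff.mp h3
      have h5 : p ^ j ∣ m := by rw [← hoa]; exact orderOf_dvd_of_pow_eq_one h4
      have h6 : p ^ j = 1 :=
        Nat.Coprime.eq_one_of_dvd (Nat.Coprime.pow_left j hcardQ.symm) h5
      have h7 : (a : Fk) = 1 := by rw [← orderOf_eq_one_iff, hoa, h6]
      rw [← hab, h7, one_mul]
      exact b.2
  refine ⟨Q₀.map Fk.subtype, (P₀ : Subgroup Fk).map Fk.subtype, ?_, Subgroup.map_subtype_le _,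
    Subgroup.map_subtype_le _, P₀.isPGroup'.map _, ?_, ?_⟩
  · constructor
    rintro _ ⟨y, hy, rfl⟩ a
    have hmem : a * (y : A) * a⁻¹ ∈ Fk := ‹Fk.Normal›.conj_mem _ y.2 a
    refine ⟨⟨_, hmem⟩, ?_, rfl⟩
    rw [SetLike.mem_coe, hchar]
    have h1 : orderOf (⟨_, hmem⟩ : Fk) = orderOf (a * (y : A) * a⁻¹) := by
      rw [← Subgroup.orderOf_coe]
    have h2 : orderOf (a * (y : A) * a⁻¹) = orderOf (y : A) :=
      (MulAut.conj a).orderOf_eq (y : A)
    rw [h1, h2, Subgroup.orderOf_coe]
    exact (hchar y).mp hy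
  · rw [Subgroup.card_map_of_injective Fk.subtype_injective]
    exact hcardQ
  · intro f hf
    obtain ⟨⟨a, b⟩, hab, -⟩ := (Subgroup.isComplement'_def.mp hQ₀).existsUnique ⟨f, hf⟩
    simp only at hab
    refine ⟨((a : Fk) : A), ⟨a, a.2, rfl⟩, ((b : Fk) : A), ⟨b, b.2, rfl⟩, ?_⟩
    have := congrArg Subtype.val hab
    simpa using this.symm

universe u v

/-- **Ambient form**: a subgroup `Hc` acting fixed-point-freely on a normal nilpotent subgroup
`F₁` of order invertible in `k` with `C_V(F₁) = 0` makes `V` a free module over `Hc`. -/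
theorem core_amb {k : Type*} {V : Type v} {A : Type u} [Field k] [AddCommGroup V] [Module k V]
    [FiniteDimensional k V] [Group A] [Finite A] [DecidableEq A]
    (ρ : Representation k A V) (F₁ Hc : Subgroup A) [F₁.Normal]
    (hfpf : ∀ h ∈ Hc, ∀ f ∈ F₁, h * f = f * h → h = 1 ∨ f = 1)
    (hnil : Group.IsNilpotent F₁) (hcard : (Nat.card F₁ : k) ≠ 0)
    (hCF : ∀ v : V, (∀ f ∈ F₁, ρ f v = v) → v = 0) :
    ∃ W : Submodule k V, DirectSum.IsInternal (fun h : ↥Hc => W.map (ρ (h : A))) := by
  letI : Fintype Hc := Fintype.ofFinite _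
  let σ : Representation k Hc V := ρ.comp Hc.subtype
  let τ : Representation k F₁ V := ρ.comp F₁.subtype
  let φ : Hc →* MulAut F₁ := (MulAut.conjNormal (H := F₁)).comp Hc.subtype
  have hφ : ∀ (h : Hc) (f : F₁), ((φ h f : F₁) : A) = (h : A) * f * (h : A)⁻¹ :=
    fun h f => MulAut.conjNormal_apply _ _
  have hyp : Hyp σ τ φ :=
    { comm := by
        intro h f v
        change ρ (h : A) (ρ (f : A) v) = ρ ((φ h f : F₁) : A) (ρ (h : A) v)
        rw [hφ, ← Module.End.mul_apply, ← map_mul, ← Module.End.mul_apply, ← map_mul]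
        congr 2; group
      fpf := by
        intro h f hf
        have h1 := hφ h f
        rw [hf] at h1
        have h2 : (h : A) * f = f * h := by
          conv_rhs => rw [h1]
          group
        rcases hfpf h h.2 f f.2 h2 with h3 | h3
        · left; exact Subtype.ext h3
        · right; exact Subtype.ext h3
      fix := fun v hv => hCF v fun f hf => hv ⟨f, hf⟩ }
  obtain ⟨W, hW⟩ := free_main hnil hcard _ Hc V σ τ φ hyp rfl
  exact ⟨W, hW.isInternal⟩

/-- **Full ambient form**, no assumption on the characteristic. -/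
theorem core_amb' {k : Type*} {V : Type v} {A : Type u} [Field k] [AddCommGroup V] [Module k V]
    [FiniteDimensional k V] [Group A] [Finite A] [DecidableEq A]
    (ρ : Representation k A V) (Fk Hc : Subgroup A) [Fk.Normal]
    (hfpf : ∀ h ∈ Hc, ∀ f ∈ Fk, h * f = f * h → h = 1 ∨ f = 1)
    (hnil : Group.IsNilpotent Fk)
    (hCF : ∀ v : V, (∀ f ∈ Fk, ρ f v = v) → v = 0) :
    ∃ W : Submodule k V, DirectSum.IsInternal (fun h : ↥Hc => W.map (ρ (h : A))) := by
  by_cases hchar : (Nat.card Fk : k) ≠ 0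
  · exact core_amb ρ Fk Hc hfpf hnil hchar hCF
  · push Not at hchar
    obtain ⟨p, hpchar⟩ := CharP.exists k
    have hp0 : p ≠ 0 := by
      intro h0
      subst h0
      haveI := CharP.charP_to_charZero k
      exact (Nat.card_pos (α := Fk)).ne' (Nat.cast_eq_zero.mp hchar)
    have hpp : p.Prime := (CharP.char_is_prime_or_zero k p).resolve_right hp0
    haveI : Fact p.Prime := ⟨hpp⟩
    obtain ⟨F₁, P, hF₁n, hF₁le, hPle, hPp, hcop, hdec⟩ := exists_pprime_part Fk hnil p
    haveI := hF₁n
    have hnil₁ : Group.IsNilpotent F₁ := by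
      haveI := hnil
      exact Group.nilpotent_of_mulEquiv (Subgroup.subgroupOfEquivOfLe hF₁le)
    have hcard₁ : (Nat.card F₁ : k) ≠ 0 := by
      rw [Ne, CharP.cast_eq_zero_iff k p]
      intro hdvd
      have := Nat.Coprime.eq_one_of_dvd hcop.symm hdvd
      exact hpp.one_lt.ne' this
    refine core_amb ρ F₁ Hc (fun h hh f hf => hfpf h hh f (hF₁le hf)) hnil₁ hcard₁ ?_
    intro v hv
    by_contra hv0
    let C : Submodule k V :=
      { carrier := {w | ∀ f ∈ F₁, ρ f w = w}
        add_mem' := fun {a b} ha hb f hf => by rw [map_add, ha f hf, hb f hf]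
        zero_mem' := fun f _ => map_zero _
        smul_mem' := fun c w hw f hf => by rw [map_smul, hw f hf] }
    have hC0 : C ≠ ⊥ := by
      intro hbot
      have : v ∈ C := hv
      rw [hbot] at this
      exact hv0 ((Submodule.mem_bot k).mp this)
    have hCinv : ∀ g ∈ P, ∀ w ∈ C, ρ g w ∈ C := by
      intro g _ w hw f hf
      have hconj : g⁻¹ * f * g ∈ F₁ := by
        have := hF₁n.conj_mem f hf g⁻¹
        rwa [inv_inv] at this
      have h1 : f * g = g * (g⁻¹ * f * g) := by group
      rw [← Module.End.mul_apply, ← map_mul, h1, map_mul, Module.End.mul_apply, hw _ hconj]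
    obtain ⟨w, hwC, hw0, hwP⟩ := exists_fixed_of_pgroup p ρ P hPp C hCinv hC0
    apply hw0
    apply hCF
    intro f hf
    obtain ⟨x, hx, y, hy, rfl⟩ := hdec f hf
    rw [map_mul, Module.End.mul_apply, hwC y hy, hwP x hx]

end Cfsg.Agent.Helper23.Free
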