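import Mathlib
import Cfsg.Prelude.Def_Transfer
import Cfsg.Prelude.Def_Solvable
import Cfsg.Agent.Helper11.S4409Defs
import Cfsg.Agent.Helper9.S4415Defs

/-! Board `s4415pieces`, row MOD3. -/

set_option autoImplicit false
set_option linter.unusedVariables false

namespace Cfsg.Agent.S4415P

open Subgroup

variable {S : Type*} [Group S] [Finite S] {E : Type*} [AddCommGroup E] [Module (ZMod 3) E] [Finite E]

theorem MOD3_aux_mul (ρ : Representation (ZMod 3) S E) (g h : S) (v : E) :
    ρ (g * h) v = ρ g (ρ h v) := by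
  rw [map_mul]; rfl

/-- MOD3 : an element normalising `Y` leaves `C_E(Y)` and `[E,Y]` invariant. -/
theorem inv_of_normalizer (ρ : Representation (ZMod 3) S E) (Y : Subgroup S) (g : S)
    (hg : g ∈ normalizer (Y : Set S)) :
    (∀ v ∈ CE ρ Y, ρ g v ∈ CE ρ Y) ∧ (∀ v ∈ ComE ρ Y, ρ g v ∈ ComE ρ Y) := by
  have hgi : g⁻¹ ∈ normalizer (Y : Set S) := inv_mem hg
  constructor
  · intro v hv y hy
    have h1 : g⁻¹ * y * g⁻¹⁻¹ ∈ Y := (mem_normalizer_iff.mp hgi y).mp hy
    rw [inv_inv] at h1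
    have h2 : y * g = g * (g⁻¹ * y * g) := by group
    rw [← MOD3_aux_mul, h2, MOD3_aux_mul, hv _ h1]
  · intro v hv
    unfold ComE at hv ⊢
    refine Submodule.span_induction ?_ ?_ ?_ ?_ hv
    · rintro w ⟨y, hy, u, rfl⟩
      apply Submodule.subset_span
      refine ⟨g * y * g⁻¹, (mem_normalizer_iff.mp hg y).mp hy, ρ g u, ?_⟩
      rw [map_sub, ← MOD3_aux_mul, ← MOD3_aux_mul]
      congr 2
      group
    · rw [map_zero]; exact Submodule.zero_mem _
    · intro x y _ _ hx hy
      rw [map_add]; exact Submodule.add_mem _ hx hy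
    · intro c x _ hx
      rw [map_smul]; exact Submodule.smul_mem _ c hx

end Cfsg.Agent.S4415P
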