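import Mathlib
import Cfsg.Prelude.Def_Blocks
import Cfsg.Agent.Helper5.BlockBasic
import Cfsg.Agent.Helper8.CharComp
import Cfsg.Agent.Helper24.Linear

set_option autoImplicit false

/-!
# Transport of irreducible characters and blocks along group isomorphisms
-/

namespace Cfsg.Agent.Helper23.BT

open Cfsg Cfsg.Agent.Helper24 Cfsg.Agent.Helper5 Cfsg.Agent.Helper5.Loc Cfsg.Agent.Helper5.CC

variable {X Y : Type*} [Group X] [Group Y] {M : Ideal AlgInt}

/-- Pull an irreducible character back along an isomorphism. -/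
noncomputable def pullIrr (φ : X ≃* Y) (χ : IrrCharacter Y) : IrrCharacter X :=
  ⟨fun x => (χ : Y → ℂ) (φ x),
    Cfsg.Agent.Helper8.isIrrCharacter_comp_surjective φ.toMonoidHom φ.surjective χ.2⟩

theorem pullIrr_apply (φ : X ≃* Y) (χ : IrrCharacter Y) (x : X) :
    (pullIrr φ χ : X → ℂ) x = (χ : Y → ℂ) (φ x) := rfl

theorem pullIrr_symm_pullIrr (φ : X ≃* Y) (χ : IrrCharacter Y) :
    pullIrr φ.symm (pullIrr φ χ) = χ := by
  apply Subtype.ext
  funext y
  rw [pullIrr_apply, pullIrr_apply, MulEquiv.apply_symm_apply]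

theorem pullIrr_pullIrr_symm (φ : X ≃* Y) (χ : IrrCharacter X) :
    pullIrr φ (pullIrr φ.symm χ) = χ := by
  apply Subtype.ext
  funext y
  rw [pullIrr_apply, pullIrr_apply, MulEquiv.symm_apply_apply]

/-- Central characters transform under group isomorphisms. -/
theorem centralChar_comp_mulEquiv (φ : X ≃* Y) (χ : Y → ℂ) (k : X) :
    centralChar (fun x => χ (φ x)) k = centralChar χ (φ k) := by
  rw [centralChar_def, centralChar_def, map_one]
  congr 2
  have h : Subgroup.centralizer ({k} : Set X) =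
      (Subgroup.centralizer ({φ k} : Set Y)).comap φ.toMonoidHom := by
    ext x
    rw [Subgroup.mem_comap, Subgroup.mem_centralizer_iff, Subgroup.mem_centralizer_iff]
    constructor
    · intro h y hy
      rw [Set.mem_singleton_iff] at hy
      subst hy
      have := h k (Set.mem_singleton k)
      show φ k * φ x = φ x * φ k
      rw [← map_mul, ← map_mul, this]
    · intro h y hy
      rw [Set.mem_singleton_iff] at hy
      subst hy
      have := h (φ y) (Set.mem_singleton _)
      apply φ.injective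
      rw [map_mul, map_mul]
      exact this
  rw [h, Subgroup.index_comap_of_surjective _ φ.surjective]

theorem sameBlock_comp_iff (φ : X ≃* Y) (χ ψ : Y → ℂ) :
    SameBlock M (fun x => χ (φ x)) (fun x => ψ (φ x)) ↔ SameBlock M χ ψ := by
  constructor
  · intro h y
    have := h (φ.symm y)
    rwa [centralChar_comp_mulEquiv, centralChar_comp_mulEquiv, MulEquiv.apply_symm_apply] at this
  · intro h x
    rw [centralChar_comp_mulEquiv, centralChar_comp_mulEquiv]
    exact h (φ x)

theorem sameBlock_pullIrr_iff (φ : X ≃* Y) (χ ψ : IrrCharacter Y) :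
    SameBlock M (pullIrr φ χ : X → ℂ) (pullIrr φ ψ : X → ℂ) ↔
      SameBlock M (χ : Y → ℂ) (ψ : Y → ℂ) :=
  sameBlock_comp_iff φ _ _

theorem pullIrr_mem_principalBlock_iff (φ : X ≃* Y) (χ : IrrCharacter Y) :
    pullIrr φ χ ∈ principalBlock M X ↔ χ ∈ principalBlock M Y :=
  sameBlock_comp_iff φ (fun _ => (1 : ℂ)) (χ : Y → ℂ)

/-- The pull-back of a set of irreducible characters. -/
def pullBlock (φ : X ≃* Y) (b : Set (IrrCharacter Y)) : Set (IrrCharacter X) :=
  {ξ | pullIrr φ.symm ξ ∈ b}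

theorem mem_pullBlock_iff (φ : X ≃* Y) (b : Set (IrrCharacter Y)) (ξ : IrrCharacter X) :
    ξ ∈ pullBlock φ b ↔ pullIrr φ.symm ξ ∈ b := Iff.rfl

theorem pullIrr_mem_pullBlock_iff (φ : X ≃* Y) (b : Set (IrrCharacter Y)) (χ : IrrCharacter Y) :
    pullIrr φ χ ∈ pullBlock φ b ↔ χ ∈ b := by
  rw [mem_pullBlock_iff, pullIrr_symm_pullIrr]

theorem pullBlock_blockOf (φ : X ≃* Y) (χ : IrrCharacter Y) :
    pullBlock φ (blockOf M (χ : Y → ℂ)) = blockOf M (pullIrr φ χ : X → ℂ) := by
  ext ξ
  rw [mem_pullBlock_iff, mem_blockOf_iff, mem_blockOf_iff]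
  have := sameBlock_pullIrr_iff (M := M) φ χ (pullIrr φ.symm ξ)
  rw [pullIrr_pullIrr_symm] at this
  exact this.symm

theorem isPBlock_pullBlock (φ : X ≃* Y) {b : Set (IrrCharacter Y)} (hb : IsPBlock M b) :
    IsPBlock M (pullBlock φ b) := by
  obtain ⟨χ, rfl⟩ := hb
  exact ⟨pullIrr φ χ, pullBlock_blockOf φ χ⟩

theorem pullBlock_principalBlock (φ : X ≃* Y) :
    pullBlock φ (principalBlock M Y) = principalBlock M X := by
  ext ξ
  rw [mem_pullBlock_iff, pullIrr_mem_principalBlock_iff]

theorem pullBlock_symm_pullBlock (φ : X ≃* Y) (b : Set (IrrCharacter Y)) :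
    pullBlock φ.symm (pullBlock φ b) = b := by
  ext ξ
  rw [mem_pullBlock_iff, mem_pullBlock_iff, MulEquiv.symm_symm]
  have := pullIrr_symm_pullIrr φ ξ
  rw [this]

theorem pullBlock_injective (φ : X ≃* Y) {b b' : Set (IrrCharacter Y)}
    (h : pullBlock φ b = pullBlock φ b') : b = b' := by
  rw [← pullBlock_symm_pullBlock φ b, ← pullBlock_symm_pullBlock φ b', h]

end Cfsg.Agent.Helper23.BT
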