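import Mathlib
import Cfsg.Prelude.Def_Blocks
import Cfsg.Agent.Helper5.Passman
import Cfsg.Agent.Helper5.BrauerMap
import Cfsg.Agent.Helper23.BlockTransport
import Cfsg.Agent.S0933

set_option autoImplicit false

/-!
# Calculus of induced blocks: functional form, uniqueness, transitivity
-/

namespace Cfsg.Agent.Helper23.IC

open Cfsg Cfsg.Agent.Helper24 Cfsg.Agent.Helper5 Cfsg.Agent.Helper5.Loc Cfsg.Agent.Helper5.CC
open Cfsg.Agent.Helper23.BT

variable {G : Type*} [Group G] {M : Ideal AlgInt}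

section Fin

variable [Fintype G]

/-- **Functional form of block induction.** -/
theorem act_restrict_sub_act_of_induced (hMp : M.IsPrime) (H : Subgroup G) [Fintype H]
    {b : Set (IrrCharacter H)} {B : Set (IrrCharacter G)} (hind : IsInducedBlock M H b B)
    {ξ : IrrCharacter H} (hξ : ξ ∈ b) {χ : IrrCharacter G} (hχ : χ ∈ B)
    {c : G → ℂ} (hc : IsClassFunction G c) (hcM : ∀ t, MemLocalRing M (c t)) :
    MemLocalIdeal M (act (fun h : H => c (h : G)) ξ - act c χ) := by
  classical
  have : Fintype (ConjClasses G) := Fintype.ofFinite _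
  have h1 := restrict_act_eq_sum_inducedCentralChar H hc ξ
  rw [act_eq_sum_centralChar hc, act, h1, ← Finset.sum_sub_distrib]
  apply li_sum hMp
  intro K _
  rw [← mul_sub]
  exact li_mul_left hMp (hcM _) (hind.2.2 ξ hξ χ hχ (rep K))

omit [Fintype G] in
/-- An induced block is determined by the inducing block. -/
theorem induced_unique (hMp : M.IsPrime) (H : Subgroup G)
    {b : Set (IrrCharacter H)} {B B' : Set (IrrCharacter G)} (h1 : IsInducedBlock M H b B)
    (h2 : IsInducedBlock M H b B') : B = B' := by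
  obtain ⟨ξ, hξ⟩ := IsPBlock.nonempty hMp h1.1
  obtain ⟨χ, hχ⟩ := IsPBlock.nonempty hMp h1.2.1
  obtain ⟨χ', hχ'⟩ := IsPBlock.nonempty hMp h2.2.1
  have hs : SameBlock M (χ : G → ℂ) (χ' : G → ℂ) := by
    intro g
    have a1 := h1.2.2 ξ hξ χ hχ g
    have a2 := h2.2.2 ξ hξ χ' hχ' g
    have := li_sub hMp a2 a1
    convert this using 1
    ring
  rw [IsPBlock_eq_blockOf hMp h1.2.1 hχ, IsPBlock_eq_blockOf hMp h2.2.1 hχ']
  exact blockOf_eq_of_sameBlock hMp hs

/-- Block induction from a single pair of characters. -/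
theorem isInducedBlock_of_congr (hMp : M.IsPrime) (H : Subgroup G) [Fintype H]
    (ξ : IrrCharacter H) (χ : IrrCharacter G)
    (h : ∀ g : G, MemLocalIdeal M (inducedCentralChar H (ξ : H → ℂ) g -
      centralChar (χ : G → ℂ) g)) :
    IsInducedBlock M H (blockOf M (ξ : H → ℂ)) (blockOf M (χ : G → ℂ)) := by
  classical
  refine ⟨isPBlock_blockOf ξ, isPBlock_blockOf χ, ?_⟩
  intro ξ' hξ' χ' hχ' g
  have a1 : MemLocalIdeal M (inducedCentralChar H (ξ' : H → ℂ) g -
      inducedCentralChar H (ξ : H → ℂ) g) := by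
    rw [Cfsg.Agent.S0933.inducedCentralChar_eq_act, Cfsg.Agent.S0933.inducedCentralChar_eq_act]
    exact act_sub_act_memLocalIdeal hMp (Cfsg.Agent.S0933.isClassFunction_fusionIndicator H g)
      (fun t => memLocalRing_classIndicator hMp g _) (sameBlock_symm hξ')
  have a2 := hχ' g
  have := li_add hMp (li_add hMp a1 (h g)) a2
  convert this using 1
  ring

end Fin

/-- **Transitivity of block induction.** `A ≤ B ≤ G` (with `A` a subgroup of `↥B`), and `A₂` the
image of `A` in `G`, given through an isomorphism compatible with the inclusions. -/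
theorem isInducedBlock_trans [Fintype G] (hMp : M.IsPrime) (B : Subgroup G) [Fintype B]
    (A : Subgroup B) [Fintype A]
    (A₂ : Subgroup G) [Fintype A₂] (φ : A ≃* A₂) (hφ : ∀ a : A, ((φ a : A₂) : G) = ((a : B) : G))
    {β : Set (IrrCharacter A)} {b : Set (IrrCharacter B)} {𝔅 : Set (IrrCharacter G)}
    (h1 : IsInducedBlock M A β b) (h2 : IsInducedBlock M B b 𝔅) :
    IsInducedBlock M A₂ (pullBlock φ.symm β) 𝔅 := by
  classical
  refine ⟨isPBlock_pullBlock φ.symm h1.1, h2.2.1, ?_⟩
  intro ξ₂ hξ₂ χ hχ g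
  rw [mem_pullBlock_iff, MulEquiv.symm_symm] at hξ₂
  obtain ⟨ψ, hψ⟩ := IsPBlock.nonempty hMp h2.1
  have a1 := h2.2.2 ψ hψ χ hχ g
  -- the induced central character of `ξ₂` computed through `A`
  have e1 : inducedCentralChar A₂ (ξ₂ : A₂ → ℂ) g =
      act (fun a : A => Cfsg.Agent.S0933.fusionIndicator B g (a : B)) (pullIrr φ ξ₂) := by
    rw [Cfsg.Agent.S0933.inducedCentralChar_eq_act, act, act]
    rw [pullIrr_apply, map_one]
    congr 1
    rw [← Equiv.sum_comp φ.toEquiv]
    refine Finset.sum_congr rfl fun a _ => ?_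
    rw [pullIrr_apply]
    simp only [Cfsg.Agent.S0933.fusionIndicator]
    rw [show ((φ.toEquiv a : A₂) : G) = ((a : B) : G) from hφ a]
    rfl
  have a2 := act_restrict_sub_act_of_induced hMp A h1 hξ₂ hψ
    (Cfsg.Agent.S0933.isClassFunction_fusionIndicator B g)
    (fun t => memLocalRing_classIndicator hMp g _)
  rw [← e1, ← Cfsg.Agent.S0933.inducedCentralChar_eq_act] at a2
  have := li_add hMp a2 a1
  convert this using 1
  ring

end Cfsg.Agent.Helper23.IC
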