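import Mathlib
import Cfsg.Prelude.Def_BrauerPairs
import Cfsg.Agent.Helper5.BrauerMap2
import Cfsg.Agent.Helper5.BlockBasic

set_option autoImplicit false

/-!
# Basic facts on Brauer pairs (ordinary-character formulation)
-/

namespace Cfsg.Agent.Helper23.BP

open Cfsg Cfsg.Agent.Helper24 Cfsg.Agent.Helper5 Cfsg.Agent.Helper5.Loc Cfsg.Agent.Helper5.CC

variable {G : Type*} [Group G] {M : Ideal AlgInt}

/-- `brauerOmega` as the action of the Brauer-map image on `ξ`. -/
theorem brauerOmega_eq_act (P : Subgroup G) [Fintype (Subgroup.centralizer (P : Set G))]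
    (β : G → ℂ) (ξ : IrrCharacter (Subgroup.centralizer (P : Set G))) :
    brauerOmega P β (ξ : Subgroup.centralizer (P : Set G) → ℂ) =
      act (brRes P (Subgroup.centralizer (P : Set G)) β) ξ := by
  rw [brauerOmega, act, finsum_eq_sum_of_fintype, Finset.sum_div]
  refine Finset.sum_congr rfl fun h _ => ?_
  rw [brRes, cut_of_mem _ h.2]

variable [Fintype G]

/-- For a Brauer pair `(P, e)`, a member `ξ₀` of `e` and a Brauer correspondent `χ₀` of `ξ₀`:
`(P, e)` is a Brauer pair of the block `B` iff `χ₀ ∈ B`. -/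
theorem isBrauerPairOf_iff {p : ℕ} [Fact p.Prime] (hM : IsPModular p M) (P : Subgroup G)
    [Fintype (Subgroup.centralizer (P : Set G))]
    (e : Set (IrrCharacter (Subgroup.centralizer (P : Set G)))) (hPe : IsBrauerPair p M P e)
    (ξ₀ : IrrCharacter (Subgroup.centralizer (P : Set G))) (hξ₀ : ξ₀ ∈ e) (χ₀ : IrrCharacter G)
    (hχ₀ : ∀ c, IsClassFunction G c → (∀ t, MemLocalRing M (c t)) →
      MemLocalIdeal M (act (brRes P (Subgroup.centralizer (P : Set G)) c) ξ₀ - act c χ₀))
    (B : Set (IrrCharacter G)) (hB : IsPBlock M B) :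
    IsBrauerPairOf p M B P e ↔ χ₀ ∈ B := by
  classical
  have : Fintype (IrrCharacter G) := Fintype.ofFinite _
  have hMp := isPrime_of_isPModular hM
  have he := isClassFunction_blockCoeff B
  have heM : ∀ t, MemLocalRing M (blockCoeff B t) := osima hMp B hB
  have h0 := hχ₀ _ he heM
  rw [act_blockCoeff] at h0
  constructor
  · rintro ⟨-, -, h⟩
    by_contra hcon
    rw [if_neg hcon, sub_zero] at h0
    have h1 := h ξ₀ hξ₀
    rw [brauerOmega_eq_act] at h1
    have := li_sub hMp h0 h1
    rw [sub_sub_cancel] at this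
    exact not_memLocalIdeal_one hMp this
  · intro hχB
    rw [if_pos hχB] at h0
    refine ⟨hPe, hB, ?_⟩
    intro ξ hξ
    rw [brauerOmega_eq_act]
    have hsb := sameBlock_of_mem hMp hPe.2 hξ hξ₀
    have h1 := act_sub_act_memLocalIdeal hMp
      (isClassFunction_brRes (P := P) (H := Subgroup.centralizer (P : Set G))
        (Subgroup.centralizer_le_normalizer _) he)
      (lr_brRes hMp heM) hsb
    have := li_add hMp h1 h0
    convert this using 1
    ring

/-- **Every Brauer pair belongs to exactly one block.** -/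
theorem existsUnique_isBrauerPairOf {p : ℕ} [Fact p.Prime] (hM : IsPModular p M)
    (P : Subgroup G) (e : Set (IrrCharacter (Subgroup.centralizer (P : Set G))))
    (hPe : IsBrauerPair p M P e) : ∃! B : Set (IrrCharacter G), IsBrauerPairOf p M B P e := by
  classical
  have : Fintype (IrrCharacter G) := Fintype.ofFinite _
  have : Fintype (Subgroup.centralizer (P : Set G)) := Fintype.ofFinite _
  have hMp := isPrime_of_isPModular hM
  obtain ⟨ξ₀, hξ₀⟩ := IsPBlock.nonempty hMp hPe.2
  obtain ⟨χ₀, hχ₀⟩ := exists_irr_brauer hM P (Subgroup.centralizer (P : Set G)) hPe.1 le_rfl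
    (Subgroup.centralizer_le_normalizer _) ξ₀
  refine ⟨blockOf M (χ₀ : G → ℂ), ?_, ?_⟩
  · exact (isBrauerPairOf_iff hM P e hPe ξ₀ hξ₀ χ₀ hχ₀ _ (isPBlock_blockOf χ₀)).mpr
      (mem_blockOf_self hMp χ₀)
  · intro B' hB'
    exact IsPBlock_eq_blockOf hMp hB'.2.1
      ((isBrauerPairOf_iff hM P e hPe ξ₀ hξ₀ χ₀ hχ₀ B' hB'.2.1).mp hB')

end Cfsg.Agent.Helper23.BP
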