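import Mathlib
import Cfsg.Prelude.Def_Blocks
import Cfsg.Prelude.Def_BlockLocal
import Cfsg.Prelude.Def_BrauerPairs
import Cfsg.Agent.Helper23.BrauerPairs
import Cfsg.Agent.Helper24.Linear
import Cfsg.Agent.Helper24.Classes
import Cfsg.Agent.Helper8.CharComp

set_option autoImplicit false

/-!
# The easy half of Brauer's third main theorem, for Brauer pairs

`(Q, B₀(C_G(Q)))` is a Brauer pair of the principal block `B₀(G)` for every `p`-subgroup `Q`, and
it is stabilized by all of `N_G(Q)`.
-/

namespace Cfsg.Agent.Helper23.TM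

open Cfsg Cfsg.Agent.Helper24 Cfsg.Agent.Helper5 Cfsg.Agent.Helper5.Loc Cfsg.Agent.Helper5.CC

variable {G : Type*} [Group G] {M : Ideal AlgInt}

/-- Conjugation by an element normalizing `K`, as an automorphism of `K`
(`k ↦ g⁻¹ * k * g`). -/
noncomputable def conjEquiv (K : Subgroup G) (g : G)
    (hg : g ∈ Subgroup.normalizer (K : Set G)) : K ≃* K where
  toFun k := ⟨g⁻¹ * (k : G) * g, by
    have h := (Subgroup.mem_normalizer_iff'' (H := K)).mp hg (k : G)
    exact h.mp k.2⟩
  invFun k := ⟨g * (k : G) * g⁻¹, by
    have h := (Subgroup.mem_normalizer_iff (H := K)).mp hg (k : G)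
    exact h.mp k.2⟩
  left_inv k := Subtype.ext (by simp [mul_assoc])
  right_inv k := Subtype.ext (by simp [mul_assoc])
  map_mul' a b := Subtype.ext (by simp [mul_assoc])

theorem conjEquiv_apply (K : Subgroup G) (g : G) (hg : g ∈ Subgroup.normalizer (K : Set G))
    (k : K) : ((conjEquiv K g hg k : K) : G) = g⁻¹ * (k : G) * g := rfl

/-- The conjugate of an irreducible character of `K` by an element normalizing `K`. -/
noncomputable def conjIrrN (K : Subgroup G) (g : G) (hg : g ∈ Subgroup.normalizer (K : Set G))
    (χ : IrrCharacter K) : IrrCharacter K :=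
  ⟨fun k => (χ : K → ℂ) (conjEquiv K g hg k),
    Cfsg.Agent.Helper8.isIrrCharacter_comp_surjective (conjEquiv K g hg).toMonoidHom
      (conjEquiv K g hg).surjective χ.2⟩

theorem conjIrrN_apply (K : Subgroup G) (g : G) (hg : g ∈ Subgroup.normalizer (K : Set G))
    (χ : IrrCharacter K) (k : K) :
    (conjIrrN K g hg χ : K → ℂ) k = (χ : K → ℂ) (conjEquiv K g hg k) := rfl

theorem isConjCharOf_conjIrrN (K : Subgroup G) (g : G)
    (hg : g ∈ Subgroup.normalizer (K : Set G)) (χ : IrrCharacter K) :
    IsConjCharOf K g (χ : K → ℂ) (conjIrrN K g hg χ : K → ℂ) := by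
  intro k k' hk
  rw [conjIrrN_apply]
  have : conjEquiv K g hg k' = k := by
    apply Subtype.ext
    rw [conjEquiv_apply, hk]
    group
  rw [this]

/-- Central characters transform under group automorphisms. -/
theorem centralChar_comp_equiv {K : Type*} [Group K] (φ : K ≃* K) (χ : K → ℂ) (k : K) :
    centralChar (fun x => χ (φ x)) k = centralChar χ (φ k) := by
  rw [centralChar_def, centralChar_def, map_one]
  congr 2
  have h : Subgroup.centralizer ({k} : Set K) =
      (Subgroup.centralizer ({φ k} : Set K)).comap φ.toMonoidHom := by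
    ext x
    rw [Subgroup.mem_comap, Subgroup.mem_centralizer_iff, Subgroup.mem_centralizer_iff]
    constructor
    · intro h y hy
      rw [Set.mem_singleton_iff] at hy
      subst hy
      have := h k (Set.mem_singleton k)
      show φ k * φ x = φ x * φ k
      rw [← map_mul, ← map_mul, this]
    · intro h y hy
      rw [Set.mem_singleton_iff] at hy
      subst hy
      have := h (φ y) (Set.mem_singleton _)
      apply φ.injective
      rw [map_mul, map_mul]
      exact this
  rw [h, Subgroup.index_comap_of_surjective _ φ.surjective]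

/-- Every element normalizing `K` stabilizes the principal block of `K`. -/
theorem stabilizesBlock_principalBlock (K : Subgroup G) (g : G)
    (hg : g ∈ Subgroup.normalizer (K : Set G)) :
    StabilizesBlock K (principalBlock M K) g := by
  refine ⟨hg, fun χ hχ => ⟨conjIrrN K g hg χ, ?_, isConjCharOf_conjIrrN K g hg χ⟩⟩
  intro k
  have h1 := hχ (conjEquiv K g hg k)
  have h2 := centralChar_comp_equiv (conjEquiv K g hg) (χ : K → ℂ) k
  have h3 := centralChar_comp_equiv (conjEquiv K g hg) (fun _ : K => (1 : ℂ)) k
  show MemLocalIdeal M (centralChar (fun _ : K => (1 : ℂ)) k -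
    centralChar (fun x => (χ : K → ℂ) (conjEquiv K g hg x)) k)
  rw [h2]
  rw [show centralChar (fun _ : K => (1 : ℂ)) k =
    centralChar (fun _ : K => (1 : ℂ)) (conjEquiv K g hg k) from h3]
  exact h1

/-- A `p`-group acting by conjugation on a conjugacy class: the class size is congruent to the
number of its members centralizing the `p`-group. -/
theorem card_conj_modEq [Finite G] {p : ℕ} [Fact p.Prime] (Q : Subgroup G) (hQ : IsPGroup p Q)
    (g : G) :
    Nat.card {t : G // IsConj g t} ≡
      Nat.card {t : G // IsConj g t ∧ t ∈ Subgroup.centralizer (Q : Set G)} [MOD p] := by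
  let inst : MulAction Q {t : G // IsConj g t} :=
    { smul := fun q t => ⟨(q : G) * t * (q : G)⁻¹, t.2.trans (isConj_iff.mpr ⟨q, rfl⟩)⟩
      one_smul := fun t => Subtype.ext (by
        show ((1 : Q) : G) * (t : G) * ((1 : Q) : G)⁻¹ = t
        simp)
      mul_smul := fun a b t => Subtype.ext (by
        show ((a * b : Q) : G) * (t : G) * ((a * b : Q) : G)⁻¹ =
          (a : G) * ((b : G) * (t : G) * (b : G)⁻¹) * (a : G)⁻¹
        simp [mul_assoc]) }
  have hsmul : ∀ (q : Q) (t : {t : G // IsConj g t}),
      ((q • t : {t : G // IsConj g t}) : G) = (q : G) * t * (q : G)⁻¹ := fun _ _ => rfl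
  have h := hQ.card_modEq_card_fixedPoints {t : G // IsConj g t}
  refine h.trans ?_
  have e : (MulAction.fixedPoints Q {t : G // IsConj g t}) ≃
      {t : G // IsConj g t ∧ t ∈ Subgroup.centralizer (Q : Set G)} :=
    { toFun := fun t => ⟨(t : {t : G // IsConj g t}), (t : {t : G // IsConj g t}).2, by
        rw [Subgroup.mem_centralizer_iff]
        intro q hq
        have := t.2 ⟨q, hq⟩
        have h2 := congrArg (fun z : {t : G // IsConj g t} => (z : G)) this
        simp only [hsmul] at h2
        calc q * ((t : {t : G // IsConj g t}) : G)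
            = (q * ((t : {t : G // IsConj g t}) : G) * q⁻¹) * q := by group
          _ = ((t : {t : G // IsConj g t}) : G) * q := by rw [h2]⟩
      invFun := fun t => ⟨⟨t, t.2.1⟩, by
        intro q
        apply Subtype.ext
        rw [hsmul]
        have := (Subgroup.mem_centralizer_iff.mp t.2.2) q q.2
        show (q : G) * (t : G) * (q : G)⁻¹ = t
        rw [this]
        group⟩
      left_inv := fun t => rfl
      right_inv := fun t => rfl }
  rw [Nat.card_congr e]

variable [Fintype G]

/-- The value of the Brauer functional of the trivial character of `C_G(Q)` on a class sum. -/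
theorem act_brRes_classIndicator_triv (Q : Subgroup G)
    [Fintype (Subgroup.centralizer (Q : Set G))] (g : G) :
    act (brRes Q (Subgroup.centralizer (Q : Set G)) (classIndicator g))
      (trivIrr (Subgroup.centralizer (Q : Set G))) =
      (Nat.card {t : G // IsConj g t ∧ t ∈ Subgroup.centralizer (Q : Set G)} : ℂ) := by
  classical
  rw [act]
  simp only [trivIrr_apply, mul_one, div_one]
  have h1 : ∀ h : Subgroup.centralizer (Q : Set G),
      brRes Q (Subgroup.centralizer (Q : Set G)) (classIndicator g) h =
        classIndicator g (h : G) := by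
    intro h
    rw [brRes, cut_of_mem _ h.2]
  simp_rw [h1]
  have h2 : ∀ h : Subgroup.centralizer (Q : Set G),
      classIndicator g (h : G) = if IsConj g (h : G) then 1 else 0 := by
    intro h
    by_cases hc : IsConj g (h : G)
    · rw [classIndicator_of_isConj hc, if_pos hc]
    · rw [classIndicator_of_not_isConj hc, if_neg hc]
  simp_rw [h2]
  rw [Finset.sum_boole]
  congr 1
  rw [← Fintype.card_subtype, ← Nat.card_eq_fintype_card]
  exact Nat.card_congr
    { toFun := fun h => ⟨((h : Subgroup.centralizer (Q : Set G)) : G), h.2, h.1.2⟩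
      invFun := fun t => ⟨⟨t, t.2.2⟩, t.2.1⟩
      left_inv := fun _ => rfl
      right_inv := fun _ => rfl }

/-- **Third main theorem, easy half**: for a `p`-subgroup `Q`, the principal block of `C_G(Q)`
together with `Q` is a Brauer pair of the principal block of `G`. -/
theorem isBrauerPairOf_principalBlock {p : ℕ} [Fact p.Prime] (hM : IsPModular p M)
    (Q : Subgroup G) (hQ : IsPGroup p Q) :
    IsBrauerPairOf p M (principalBlock M G) Q
      (principalBlock M (Subgroup.centralizer (Q : Set G))) := by
  classical
  have : Fintype (IrrCharacter G) := Fintype.ofFinite _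
  have : Fintype (Subgroup.centralizer (Q : Set G)) := Fintype.ofFinite _
  have hMp := isPrime_of_isPModular hM
  have hPe : IsBrauerPair p M Q (principalBlock M (Subgroup.centralizer (Q : Set G))) :=
    ⟨hQ, ⟨trivIrr _, rfl⟩⟩
  have hξ₀ : trivIrr (Subgroup.centralizer (Q : Set G)) ∈
      principalBlock M (Subgroup.centralizer (Q : Set G)) := sameBlock_refl hMp _
  obtain ⟨χ₀, hχ₀⟩ := exists_irr_brauer hM Q (Subgroup.centralizer (Q : Set G)) hQ le_rfl
    (Subgroup.centralizer_le_normalizer _) (trivIrr (Subgroup.centralizer (Q : Set G)))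
  refine (Cfsg.Agent.Helper23.BP.isBrauerPairOf_iff hM Q _ hPe _ hξ₀ χ₀ hχ₀ _
    ⟨trivIrr G, rfl⟩).mpr ?_
  intro g
  have h1 := hχ₀ (classIndicator g) (isClassFunction_classIndicator g)
    (memLocalRing_classIndicator hMp g)
  rw [act_classIndicator, act_brRes_classIndicator_triv] at h1
  have h2 : MemLocalIdeal M (((Subgroup.centralizer ({g} : Set G)).index : ℂ) -
      (Nat.card {t : G // IsConj g t ∧ t ∈ Subgroup.centralizer (Q : Set G)} : ℂ)) := by
    rw [index_centralizer_eq_card_conj]
    have hmod := card_conj_modEq Q hQ g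
    obtain ⟨k, hk⟩ := (Nat.modEq_iff_dvd.mp hmod.symm)
    have : ((Nat.card {t : G // IsConj g t} : ℂ) -
        (Nat.card {t : G // IsConj g t ∧ t ∈ Subgroup.centralizer (Q : Set G)} : ℂ)) =
        (p : ℂ) * (k : ℂ) := by
      have := congrArg (fun z : ℤ => (z : ℂ)) hk
      push_cast at this
      exact this
    rw [this]
    exact li_mul_right hMp ((memLocalIdeal_natCast_iff hM p).mpr dvd_rfl)
      (memLocalRing_intCast hMp k)
  have h3 := li_add hMp h2 h1
  rw [centralChar_def]
  convert h3 using 1
  simp

end Cfsg.Agent.Helper23.TM
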