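import Mathlib
import Cfsg.Prelude.Def_Blocks
import Cfsg.Prelude.Def_BrauerPairs
import Cfsg.Agent.Helper23.ThirdMain
import Cfsg.Agent.Helper23.InducedCalc
import Cfsg.Agent.Helper5.FirstMain
import Cfsg.Agent.S0918
import Cfsg.Agent.S0919
import Cfsg.Agent.S0958
import Cfsg.Agent.S0971
import Cfsg.Agent.S0964
import Cfsg.Agent.S0963
import Cfsg.Agent.S0906
import Cfsg.Agent.S0912

set_option autoImplicit false

/-!
# Brauer's third main theorem (local form): the hard direction
-/

namespace Cfsg.Agent.Helper23.TMH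

open Cfsg Cfsg.Agent.Helper24 Cfsg.Agent.Helper5 Cfsg.Agent.Helper5.Loc Cfsg.Agent.Helper5.CC
open Cfsg.Agent.Helper23.BT Cfsg.Agent.Helper23.IC Cfsg.Agent.Helper23.TM

variable {G : Type*} [Group G] {M : Ideal AlgInt}

/-- The value of the Brauer functional of the trivial character of `H ⊇ C_G(P)` on a class
sum. -/
theorem act_brRes_classIndicator_trivH [Fintype G] (P H : Subgroup G) [Fintype H]
    (hCH : Subgroup.centralizer (P : Set G) ≤ H) (g : G) :
    act (brRes P H (classIndicator g)) (trivIrr H) =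
      (Nat.card {t : G // IsConj g t ∧ t ∈ Subgroup.centralizer (P : Set G)} : ℂ) := by
  classical
  rw [act]
  simp only [trivIrr_apply, mul_one, div_one]
  have h2 : ∀ h : H, brRes P H (classIndicator g) h =
      if (IsConj g (h : G) ∧ (h : G) ∈ Subgroup.centralizer (P : Set G)) then 1 else 0 := by
    intro h
    by_cases hh : (h : G) ∈ Subgroup.centralizer (P : Set G)
    · rw [brRes, cut_of_mem _ hh]
      by_cases hc : IsConj g (h : G)
      · rw [classIndicator_of_isConj hc, if_pos ⟨hc, hh⟩]
      · rw [classIndicator_of_not_isConj hc, if_neg (fun h' => hc h'.1)]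
    · rw [brRes, cut_of_not_mem _ hh, if_neg (fun h' => hh h'.2)]
  simp_rw [h2]
  rw [Finset.sum_boole]
  congr 1
  rw [← Fintype.card_subtype, ← Nat.card_eq_fintype_card]
  exact Nat.card_congr
    { toFun := fun h => ⟨((h : H) : G), h.2⟩
      invFun := fun t => ⟨⟨t, hCH t.2.2⟩, t.2⟩
      left_inv := fun _ => rfl
      right_inv := fun _ => rfl }

/-- **Third main theorem, easy half, induced-block form.** -/
theorem isInducedBlock_principal [Fintype G] {p : ℕ} [Fact p.Prime] (hM : IsPModular p M)
    (P H : Subgroup G) (hP : IsPGroup p P) (hPH : P ≤ H)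
    (hCH : Subgroup.centralizer (P : Set G) ≤ H) (hHN : H ≤ Subgroup.normalizer (P : Set G)) :
    IsInducedBlock M H (principalBlock M H) (principalBlock M G) := by
  classical
  have : Fintype H := Fintype.ofFinite _
  have hMp := isPrime_of_isPModular hM
  refine (Cfsg.Agent.S0918.result p M hM P H hP hPH hCH hHN (principalBlock M H)
    ⟨trivIrr H, rfl⟩ (principalBlock M G) ⟨trivIrr G, rfl⟩).mpr ?_
  intro ξ hξ χ hχ g
  rw [brauerCentralChar_eq_act]
  have a1 : MemLocalIdeal M (act (brRes P H (classIndicator g)) ξ -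
      act (brRes P H (classIndicator g)) (trivIrr H)) :=
    act_sub_act_memLocalIdeal hMp (isClassFunction_brRes hHN (isClassFunction_classIndicator g))
      (lr_brRes hMp (memLocalRing_classIndicator hMp g)) (sameBlock_symm hξ)
  rw [act_brRes_classIndicator_trivH P H hCH g] at a1
  have a2 : MemLocalIdeal M
      ((Nat.card {t : G // IsConj g t ∧ t ∈ Subgroup.centralizer (P : Set G)} : ℂ) -
      ((Subgroup.centralizer ({g} : Set G)).index : ℂ)) := by
    rw [index_centralizer_eq_card_conj]
    have hmod := card_conj_modEq P hP g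
    obtain ⟨k, hk⟩ := (Nat.modEq_iff_dvd.mp hmod)
    have : ((Nat.card {t : G // IsConj g t ∧ t ∈ Subgroup.centralizer (P : Set G)} : ℂ) -
        (Nat.card {t : G // IsConj g t} : ℂ)) = (p : ℂ) * (k : ℂ) := by
      have := congrArg (fun z : ℤ => (z : ℂ)) hk
      push_cast at this
      exact this
    rw [this]
    exact li_mul_right hMp ((memLocalIdeal_natCast_iff hM p).mpr dvd_rfl)
      (memLocalRing_intCast hMp k)
  have a3 := hχ g
  rw [centralChar_def] at a3
  have := li_add hMp (li_add hMp a1 a2) a3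
  convert this using 1
  simp

/-- The principal block covers only the principal block of a normal subgroup. -/
theorem constituent_mem_principalBlock {X : Type*} [Group X] [Fintype X] {p : ℕ}
    [Fact p.Prime] (hM : IsPModular p M) (K : Subgroup X) [hK : K.Normal] [Fintype K]
    (χ : IrrCharacter X) (hχ0 : χ ∈ principalBlock M X) (θ : IrrCharacter K)
    (hχ : classInner (fun n : K => (χ : X → ℂ) n) (θ : K → ℂ) ≠ 0) :
    θ ∈ principalBlock M K := by
  classical
  have hMp := isPrime_of_isPModular hM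
  have hcon : classInner (fun n : K => ((trivIrr X : IrrCharacter X) : X → ℂ) n)
      ((trivIrr K : IrrCharacter K) : K → ℂ) ≠ 0 := by
    have := classInner_irr_self (trivIrr K)
    have e : (fun n : K => ((trivIrr X : IrrCharacter X) : X → ℂ) n) =
        ((trivIrr K : IrrCharacter K) : K → ℂ) := rfl
    rw [e, this]
    exact one_ne_zero
  obtain ⟨g, θ', hθ', hconj⟩ := Cfsg.Agent.S0964.result p M hM
    K (principalBlock M X) ⟨trivIrr X, rfl⟩
    (principalBlock M K) ⟨trivIrr _, rfl⟩
    (trivIrr X) (sameBlock_refl hMp _) (trivIrr _) (sameBlock_refl hMp _) hcon χ hχ0 θ hχ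
  have hfun : (θ : K → ℂ) =
      fun n => (θ' : K → ℂ) ((MulAut.conjNormal g : MulAut K) n) := by
    funext n
    rw [hconj n]
    rfl
  show SameBlock M (fun _ => (1 : ℂ)) (θ : K → ℂ)
  rw [hfun]
  exact (sameBlock_comp_iff (M := M) (MulAut.conjNormal g : MulAut K)
    (fun _ => (1 : ℂ)) (θ' : K → ℂ)).mpr hθ'

/-- If `Q` is a normal `p`-subgroup, the only block of `Q C(Q)` inducing the principal block is
the principal block. -/
theorem eq_principal_of_induces_principal {X : Type*} [Group X] [Fintype X] {p : ℕ}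
    [Fact p.Prime] (hM : IsPModular p M) (Q : Subgroup X) [hQn : Q.Normal] (hQ : IsPGroup p Q)
    (β : Set (IrrCharacter ↥(Q ⊔ Subgroup.centralizer (Q : Set X))))
    (h : IsInducedBlock M (Q ⊔ Subgroup.centralizer (Q : Set X)) β (principalBlock M X)) :
    β = principalBlock M ↥(Q ⊔ Subgroup.centralizer (Q : Set X)) := by
  classical
  have hMp := isPrime_of_isPModular hM
  have : Fintype ↥(Q ⊔ Subgroup.centralizer (Q : Set X)) := Fintype.ofFinite _
  have : Fintype (IrrCharacter X) := Fintype.ofFinite _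
  have hLn : (Q ⊔ Subgroup.centralizer (Q : Set X)).Normal := inferInstance
  obtain ⟨θ, hθ⟩ := IsPBlock.nonempty hMp h.1
  obtain ⟨χ, hχ⟩ := Cfsg.Agent.S0963.exists_irr_over (Q ⊔ Subgroup.centralizer (Q : Set X)) θ
  have h971 := (Cfsg.Agent.S0971.result p M hM Q hQ β h.1).2 (blockOf M (χ : X → ℂ))
    (isPBlock_blockOf χ) ⟨χ, mem_blockOf_self hMp χ, θ, hθ, hχ⟩
  have hB : blockOf M (χ : X → ℂ) = principalBlock M X := induced_unique hMp _ h971 h
  have hχ0 : χ ∈ principalBlock M X := by rw [← hB]; exact mem_blockOf_self hMp χ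
  have hcon : classInner (fun n : ↥(Q ⊔ Subgroup.centralizer (Q : Set X)) =>
      ((trivIrr X : IrrCharacter X) : X → ℂ) n)
      ((trivIrr ↥(Q ⊔ Subgroup.centralizer (Q : Set X)) : IrrCharacter _) : _ → ℂ) ≠ 0 := by
    have := classInner_irr_self (trivIrr ↥(Q ⊔ Subgroup.centralizer (Q : Set X)))
    have e : (fun n : ↥(Q ⊔ Subgroup.centralizer (Q : Set X)) =>
        ((trivIrr X : IrrCharacter X) : X → ℂ) n) =
        ((trivIrr ↥(Q ⊔ Subgroup.centralizer (Q : Set X)) : IrrCharacter _) : _ → ℂ) := rfl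
    rw [e, this]
    exact one_ne_zero
  obtain ⟨g, θ', hθ', hconj⟩ := Cfsg.Agent.S0964.result p M hM
    (Q ⊔ Subgroup.centralizer (Q : Set X)) (principalBlock M X) ⟨trivIrr X, rfl⟩
    (principalBlock M ↥(Q ⊔ Subgroup.centralizer (Q : Set X))) ⟨trivIrr _, rfl⟩
    (trivIrr X) (sameBlock_refl hMp _) (trivIrr _) (sameBlock_refl hMp _) hcon χ hχ0 θ hχ
  -- `θ` is a conjugate of a member of the principal block
  have hθ0 : θ ∈ principalBlock M ↥(Q ⊔ Subgroup.centralizer (Q : Set X)) := by
    have hfun : (θ : ↥(Q ⊔ Subgroup.centralizer (Q : Set X)) → ℂ) =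
        fun n => (θ' : ↥(Q ⊔ Subgroup.centralizer (Q : Set X)) → ℂ)
          ((MulAut.conjNormal g : MulAut ↥(Q ⊔ Subgroup.centralizer (Q : Set X))) n) := by
      funext n
      rw [hconj n]
      rfl
    show SameBlock M (fun _ => (1 : ℂ)) (θ : ↥(Q ⊔ Subgroup.centralizer (Q : Set X)) → ℂ)
    rw [hfun]
    exact (sameBlock_comp_iff (M := M)
      (MulAut.conjNormal g : MulAut ↥(Q ⊔ Subgroup.centralizer (Q : Set X)))
      (fun _ => (1 : ℂ)) (θ' : ↥(Q ⊔ Subgroup.centralizer (Q : Set X)) → ℂ)).mpr hθ'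
  rw [IsPBlock_eq_blockOf hMp h.1 hθ]
  exact (IsPBlock_eq_blockOf hMp ⟨trivIrr _, rfl⟩ hθ0).symm

/-- The isomorphism between a subgroup of a subgroup and its image. -/
noncomputable def liftEquiv (N : Subgroup G) (A : Subgroup N) (A₂ : Subgroup G)
    (hA : A.map N.subtype = A₂) : A ≃* A₂ :=
  (A.equivMapOfInjective N.subtype (Subgroup.subtype_injective N)).trans
    (MulEquiv.subgroupCongr hA)

theorem coe_liftEquiv (N : Subgroup G) (A : Subgroup N) (A₂ : Subgroup G)
    (hA : A.map N.subtype = A₂) (a : A) :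
    ((liftEquiv N A A₂ hA a : A₂) : G) = ((a : N) : G) := rfl

theorem map_centralizer_subtype (N : Subgroup G) (P₁ : Subgroup N)
    (hC : Subgroup.centralizer ((P₁.map N.subtype : Subgroup G) : Set G) ≤ N) :
    (Subgroup.centralizer (P₁ : Set N)).map N.subtype =
      Subgroup.centralizer ((P₁.map N.subtype : Subgroup G) : Set G) := by
  ext x
  constructor
  · rintro ⟨y, hy, rfl⟩
    rw [Subgroup.mem_centralizer_iff]
    rintro _ ⟨q, hq, rfl⟩
    have := (Subgroup.mem_centralizer_iff.mp hy) q hq
    have h2 := congrArg (fun z : N => (z : G)) this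
    simpa using h2
  · intro hx
    refine ⟨⟨x, hC hx⟩, ?_, rfl⟩
    show (⟨x, hC hx⟩ : N) ∈ Subgroup.centralizer (P₁ : Set N)
    rw [Subgroup.mem_centralizer_iff]
    intro q hq
    apply Subtype.ext
    have := (Subgroup.mem_centralizer_iff.mp hx) (q : G) ⟨q, hq, rfl⟩
    simpa using this

theorem map_sup_centralizer (N : Subgroup G) (P₁ : Subgroup N)
    (hC : Subgroup.centralizer ((P₁.map N.subtype : Subgroup G) : Set G) ≤ N) :
    (P₁ ⊔ Subgroup.centralizer (P₁ : Set N)).map N.subtype =
      P₁.map N.subtype ⊔ Subgroup.centralizer ((P₁.map N.subtype : Subgroup G) : Set G) := by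
  rw [Subgroup.map_sup, map_centralizer_subtype N P₁ hC]

/-- **Third main theorem, hard half, induced-block form** (induction on the index of `Q`). -/
theorem principal_of_induces_principal_aux [Fintype G] {p : ℕ} [Fact p.Prime]
    (hM : IsPModular p M) :
    ∀ (n : ℕ) (Q : Subgroup G), IsPGroup p Q → Nat.card G - Nat.card Q = n →
      ∀ β : Set (IrrCharacter ↥(Q ⊔ Subgroup.centralizer (Q : Set G))),
        IsInducedBlock M (Q ⊔ Subgroup.centralizer (Q : Set G)) β (principalBlock M G) →
        β = principalBlock M ↥(Q ⊔ Subgroup.centralizer (Q : Set G)) := by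
  intro n
  induction n using Nat.strong_induction_on with
  | _ n ih =>
    intro Q hQ hn β hβ
    classical
    have hMp := isPrime_of_isPModular hM
    set N : Subgroup G := Subgroup.normalizer (Q : Set G) with hNdef
    have : Fintype N := Fintype.ofFinite _
    have : Fintype (IrrCharacter N) := Fintype.ofFinite _
    have hQN : Q ≤ N := Subgroup.le_normalizer
    have hCN : Subgroup.centralizer (Q : Set G) ≤ N := Subgroup.centralizer_le_normalizer _
    set Q' : Subgroup N := Q.subgroupOf N with hQ'def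
    have hQ'n : Q'.Normal := (Subgroup.normal_subgroupOf_iff_le_normalizer hQN).mpr le_rfl
    have hQ'p : IsPGroup p Q' := hQ.comap_subtype
    have hQ'map : Q'.map N.subtype = Q := Subgroup.map_subgroupOf_eq_of_le hQN
    have hL : (Q' ⊔ Subgroup.centralizer (Q' : Set N)).map N.subtype =
        Q ⊔ Subgroup.centralizer (Q : Set G) := by
      rw [map_sup_centralizer N Q' (by rw [hQ'map]; exact hCN), hQ'map]
    have : Fintype ↥(Q' ⊔ Subgroup.centralizer (Q' : Set N)) := Fintype.ofFinite _
    have : Fintype ↥(Q ⊔ Subgroup.centralizer (Q : Set G)) := Fintype.ofFinite _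
    set φL := liftEquiv N _ _ hL with hφL
    set β'' := pullBlock φL β with hβ''
    have hβ''b : IsPBlock M β'' := isPBlock_pullBlock φL hβ.1
    obtain ⟨b, hb⟩ := (Cfsg.Agent.S0971.result p M hM Q' hQ'p β'' hβ''b).1
    obtain ⟨𝔅, h𝔅⟩ := Cfsg.Agent.S0919.result p M hM Q N hQ hQN hCN le_rfl b hb.2.1
    have htr := isInducedBlock_trans hMp N (Q' ⊔ Subgroup.centralizer (Q' : Set N))
      (Q ⊔ Subgroup.centralizer (Q : Set G)) φL (coe_liftEquiv N _ _ hL) hb h𝔅
    rw [hβ'', pullBlock_symm_pullBlock] at htr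
    have h𝔅eq : 𝔅 = principalBlock M G := induced_unique hMp _ htr hβ
    rw [h𝔅eq] at h𝔅
    -- `b` is the principal block of `N`
    have hbN : b = principalBlock M N := by
      obtain ⟨y, hy⟩ := Cfsg.Agent.S0906.result p M hM b hb.2.1
      obtain ⟨S⟩ : Nonempty (Sylow p (Subgroup.centralizer ({y} : Set N))) := inferInstance
      set D₁ : Subgroup N :=
        (S : Subgroup _).map (Subgroup.centralizer ({y} : Set N)).subtype with hD₁def
      have hD₁ : IsDefectGroup p M b D₁ := ⟨y, hy, S, rfl⟩
      have hD₁p : IsPGroup p D₁ := S.2.map _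
      have hQD : Q' ≤ D₁ :=
        le_trans (le_sSup (show Q' ∈ {K : Subgroup N | K.Normal ∧ IsPGroup p K} from
          ⟨hQ'n, hQ'p⟩)) (Cfsg.Agent.S0912.result p M hM b hb.2.1 D₁ hD₁)
      have hEN : IsInducedBlock M N (principalBlock M N) (principalBlock M G) :=
        isInducedBlock_principal hM Q N hQ hQN hCN le_rfl
      by_cases hcase : D₁ = Q'
      · rw [hcase] at hD₁
        exact block_eq_of_induced_eq hM Q hQ hb.2.1 ⟨trivIrr N, rfl⟩ hD₁ h𝔅 hEN
      · set D : Subgroup G := D₁.map N.subtype with hDdef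
        have hDp : IsPGroup p D := hD₁p.map _
        have hQD' : Q ≤ D := by rw [← hQ'map]; exact Subgroup.map_mono hQD
        have hcard : Nat.card Q < Nat.card D := by
          have e1 : Nat.card D = Nat.card D₁ :=
            Subgroup.card_map_of_injective (Subgroup.subtype_injective N)
          have e2 : Nat.card Q = Nat.card Q' := by
            rw [← hQ'map]
            exact Subgroup.card_map_of_injective (Subgroup.subtype_injective N)
          rw [e1, e2]
          by_contra hle
          push Not at hle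
          exact hcase (Subgroup.eq_of_le_of_card_ge hQD hle).symm
        have hCD : Subgroup.centralizer (D : Set G) ≤ N :=
          le_trans (Subgroup.centralizer_le hQD') hCN
        have hK₁ : (D₁ ⊔ Subgroup.centralizer (D₁ : Set N)).map N.subtype =
            D ⊔ Subgroup.centralizer (D : Set G) := map_sup_centralizer N D₁ hCD
        have : Fintype ↥(D₁ ⊔ Subgroup.centralizer (D₁ : Set N)) := Fintype.ofFinite _
        have : Fintype ↥(D ⊔ Subgroup.centralizer (D : Set G)) := Fintype.ofFinite _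
        set φ₁ := liftEquiv N _ _ hK₁ with hφ₁
        have hK₁N : D₁ ⊔ Subgroup.centralizer (D₁ : Set N) ≤
            Subgroup.normalizer (D₁ : Set N) :=
          sup_le Subgroup.le_normalizer (Subgroup.centralizer_le_normalizer _)
        obtain ⟨β', hβ'⟩ := (Cfsg.Agent.S0958.result p M hM D₁
          (D₁ ⊔ Subgroup.centralizer (D₁ : Set N)) hD₁p le_rfl hK₁N b hb.2.1).mpr
          ⟨D₁, hD₁, 1, by
            rintro _ ⟨d, hd, rfl⟩
            simpa using hd⟩
        have htr₁ := isInducedBlock_trans hMp N (D₁ ⊔ Subgroup.centralizer (D₁ : Set N))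
          (D ⊔ Subgroup.centralizer (D : Set G)) φ₁ (coe_liftEquiv N _ _ hK₁) hβ' h𝔅
        have hDG : Nat.card D ≤ Nat.card G := Subgroup.card_le_card_group D
        have hih := ih (Nat.card G - Nat.card D) (by omega) D hDp rfl _ htr₁
        have hβ'0 : β' = principalBlock M ↥(D₁ ⊔ Subgroup.centralizer (D₁ : Set N)) := by
          have h1 := congrArg (pullBlock φ₁) hih
          rw [pullBlock_principalBlock] at h1
          rw [← h1]
          have h2 := pullBlock_symm_pullBlock φ₁.symm β'
          rw [MulEquiv.symm_symm] at h2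
          exact h2.symm
        rw [hβ'0] at hβ'
        have hE₁ : IsInducedBlock M (D₁ ⊔ Subgroup.centralizer (D₁ : Set N))
            (principalBlock M ↥(D₁ ⊔ Subgroup.centralizer (D₁ : Set N)))
            (principalBlock M N) :=
          isInducedBlock_principal hM D₁ _ hD₁p le_sup_left le_sup_right hK₁N
        exact induced_unique hMp _ hβ' hE₁
    rw [hbN] at hb
    have h1 := eq_principal_of_induces_principal hM Q' hQ'p β'' hb
    have h2 := congrArg (pullBlock φL.symm) h1
    rw [hβ'', pullBlock_symm_pullBlock, pullBlock_principalBlock] at h2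
    exact h2

/-- **Brauer's third main theorem for Brauer pairs, hard half.** -/
theorem eq_principal_of_isBrauerPairOf [Fintype G] {p : ℕ} [Fact p.Prime]
    (hM : IsPModular p M) (Q : Subgroup G) (hQ : IsPGroup p Q)
    (e : Set (IrrCharacter (Subgroup.centralizer (Q : Set G)))) (he : IsPBlock M e)
    (h : IsBrauerPairOf p M (principalBlock M G) Q e) :
    e = principalBlock M (Subgroup.centralizer (Q : Set G)) := by
  classical
  have hMp := isPrime_of_isPModular hM
  have : Fintype (IrrCharacter G) := Fintype.ofFinite _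
  have : Fintype (Subgroup.centralizer (Q : Set G)) := Fintype.ofFinite _
  have : Fintype ↥(Q ⊔ Subgroup.centralizer (Q : Set G)) := Fintype.ofFinite _
  have : Fintype (IrrCharacter ↥(Q ⊔ Subgroup.centralizer (Q : Set G))) := Fintype.ofFinite _
  obtain ⟨ξ₀, hξ₀⟩ := IsPBlock.nonempty hMp he
  obtain ⟨χ₀, hχ₀⟩ := exists_irr_brauer hM Q (Subgroup.centralizer (Q : Set G)) hQ le_rfl
    (Subgroup.centralizer_le_normalizer _) ξ₀
  have hχ₀B : χ₀ ∈ principalBlock M G :=
    (Cfsg.Agent.Helper23.BP.isBrauerPairOf_iff hM Q e ⟨hQ, he⟩ ξ₀ hξ₀ χ₀ hχ₀ _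
      ⟨trivIrr G, rfl⟩).mp h
  have hCL : Subgroup.centralizer (Q : Set G) ≤ Q ⊔ Subgroup.centralizer (Q : Set G) :=
    le_sup_right
  have hLN : Q ⊔ Subgroup.centralizer (Q : Set G) ≤ Subgroup.normalizer (Q : Set G) :=
    sup_le Subgroup.le_normalizer (Subgroup.centralizer_le_normalizer _)
  have hC'n : ((Subgroup.centralizer (Q : Set G)).subgroupOf
      (Q ⊔ Subgroup.centralizer (Q : Set G))).Normal := by
    rw [Subgroup.normal_subgroupOf_iff_le_normalizer hCL]
    intro x hx
    rw [Subgroup.mem_normalizer_iff]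
    intro c
    exact (conj_mem_centralizer_iff (P := Q) (h := c) (hLN hx)).symm
  have hC'map : ((Subgroup.centralizer (Q : Set G)).subgroupOf
      (Q ⊔ Subgroup.centralizer (Q : Set G))).map
      (Q ⊔ Subgroup.centralizer (Q : Set G)).subtype = Subgroup.centralizer (Q : Set G) :=
    Subgroup.map_subgroupOf_eq_of_le hCL
  have : Fintype ↥((Subgroup.centralizer (Q : Set G)).subgroupOf
      (Q ⊔ Subgroup.centralizer (Q : Set G))) := Fintype.ofFinite _
  set φC := liftEquiv (Q ⊔ Subgroup.centralizer (Q : Set G)) _ _ hC'map with hφC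
  have hφCcoe : ∀ t, ((φC t : Subgroup.centralizer (Q : Set G)) : G) =
      ((t : ↥(Q ⊔ Subgroup.centralizer (Q : Set G))) : G) := fun t => rfl
  set ξ₀' := pullIrr φC ξ₀ with hξ₀'
  obtain ⟨ψ, hψ⟩ := Cfsg.Agent.S0963.exists_irr_over
    ((Subgroup.centralizer (Q : Set G)).subgroupOf (Q ⊔ Subgroup.centralizer (Q : Set G))) ξ₀'
  have hcongr : ∀ g : G, MemLocalIdeal M
      (inducedCentralChar (Q ⊔ Subgroup.centralizer (Q : Set G))
        (ψ : ↥(Q ⊔ Subgroup.centralizer (Q : Set G)) → ℂ) g - centralChar (χ₀ : G → ℂ) g) := by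
    intro g
    have a1 := inducedCentralChar_sub_brauerCentralChar hM Q
      (Q ⊔ Subgroup.centralizer (Q : Set G)) hQ le_sup_left hLN ψ g
    have a2 : brauerCentralChar Q (Q ⊔ Subgroup.centralizer (Q : Set G))
        (ψ : ↥(Q ⊔ Subgroup.centralizer (Q : Set G)) → ℂ) g =
        act (brRes Q (Subgroup.centralizer (Q : Set G)) (classIndicator g)) ξ₀ := by
      rw [brauerCentralChar_eq_act]
      have h1 := Cfsg.Agent.Helper5.RS.restrict_scalar_eq
        ((Subgroup.centralizer (Q : Set G)).subgroupOf (Q ⊔ Subgroup.centralizer (Q : Set G)))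
        ψ ξ₀' hψ
        (Cfsg.Agent.S0933.fusionIndicator (Q ⊔ Subgroup.centralizer (Q : Set G)) g)
        (Cfsg.Agent.S0933.isClassFunction_fusionIndicator _ g)
      rw [act, act]
      have e1 : ∑ t : ↥(Q ⊔ Subgroup.centralizer (Q : Set G)),
          brRes Q (Q ⊔ Subgroup.centralizer (Q : Set G)) (classIndicator g) t *
            (ψ : ↥(Q ⊔ Subgroup.centralizer (Q : Set G)) → ℂ) t =
          ∑ t : ↥((Subgroup.centralizer (Q : Set G)).subgroupOf
            (Q ⊔ Subgroup.centralizer (Q : Set G))),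
            Cfsg.Agent.S0933.fusionIndicator (Q ⊔ Subgroup.centralizer (Q : Set G)) g t *
              (ψ : ↥(Q ⊔ Subgroup.centralizer (Q : Set G)) → ℂ) t := by
        rw [← Cfsg.Agent.Helper5.RS.sum_subgroup_eq_sum'
          ((Subgroup.centralizer (Q : Set G)).subgroupOf (Q ⊔ Subgroup.centralizer (Q : Set G)))
          (fun t => brRes Q (Q ⊔ Subgroup.centralizer (Q : Set G)) (classIndicator g) t *
            (ψ : ↥(Q ⊔ Subgroup.centralizer (Q : Set G)) → ℂ) t)
          (fun t ht => by
            have : (t : G) ∉ Subgroup.centralizer (Q : Set G) := fun h' =>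
              ht (Subgroup.mem_subgroupOf.mpr h')
            rw [brRes, cut_of_not_mem _ this, zero_mul])]
        refine Finset.sum_congr rfl fun t _ => ?_
        have : (((t : ↥(Q ⊔ Subgroup.centralizer (Q : Set G)))) : G) ∈
            Subgroup.centralizer (Q : Set G) := Subgroup.mem_subgroupOf.mp t.2
        rw [brRes, cut_of_mem _ this]
        rfl
      have e2 : ∑ u : Subgroup.centralizer (Q : Set G),
          brRes Q (Subgroup.centralizer (Q : Set G)) (classIndicator g) u *
            (ξ₀ : Subgroup.centralizer (Q : Set G) → ℂ) u =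
          ∑ t : ↥((Subgroup.centralizer (Q : Set G)).subgroupOf
            (Q ⊔ Subgroup.centralizer (Q : Set G))),
            Cfsg.Agent.S0933.fusionIndicator (Q ⊔ Subgroup.centralizer (Q : Set G)) g t *
              (ξ₀' : ↥((Subgroup.centralizer (Q : Set G)).subgroupOf
              (Q ⊔ Subgroup.centralizer (Q : Set G))) → ℂ) t := by
        rw [← Equiv.sum_comp φC.toEquiv]
        refine Finset.sum_congr rfl fun t _ => ?_
        rw [brRes, cut_of_mem _ (φC.toEquiv t).2]
        rfl
      have e3 : (ξ₀' : ↥((Subgroup.centralizer (Q : Set G)).subgroupOf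
              (Q ⊔ Subgroup.centralizer (Q : Set G))) → ℂ) 1 = (ξ₀ : Subgroup.centralizer (Q : Set G) → ℂ) 1 := by
        rw [hξ₀', pullIrr_apply, map_one]
      rw [e1, e2, ← e3]
      exact h1.symm
    have a3 := hχ₀ (classIndicator g) (isClassFunction_classIndicator g)
      (memLocalRing_classIndicator hMp g)
    rw [act_classIndicator] at a3
    rw [a2] at a1
    have := li_add hMp a1 a3
    convert this using 1
    ring
  have hind := isInducedBlock_of_congr hMp (Q ⊔ Subgroup.centralizer (Q : Set G)) ψ χ₀ hcongr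
  have hB0 : blockOf M (χ₀ : G → ℂ) = principalBlock M G :=
    (IsPBlock_eq_blockOf hMp ⟨trivIrr G, rfl⟩ hχ₀B).symm
  rw [hB0] at hind
  have hβ := principal_of_induces_principal_aux hM _ Q hQ rfl _ hind
  have hψ0 : ψ ∈ principalBlock M ↥(Q ⊔ Subgroup.centralizer (Q : Set G)) := by
    rw [← hβ]; exact mem_blockOf_self hMp ψ
  have hξ₀'0 := constituent_mem_principalBlock hM
    ((Subgroup.centralizer (Q : Set G)).subgroupOf (Q ⊔ Subgroup.centralizer (Q : Set G)))
    ψ hψ0 ξ₀' hψ
  have hξ₀0 : ξ₀ ∈ principalBlock M (Subgroup.centralizer (Q : Set G)) :=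
    (pullIrr_mem_principalBlock_iff φC ξ₀).mp hξ₀'0
  rw [IsPBlock_eq_blockOf hMp he hξ₀]
  exact (IsPBlock_eq_blockOf hMp ⟨trivIrr _, rfl⟩ hξ₀0).symm

end Cfsg.Agent.Helper23.TMH
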