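import Mathlib
import Cfsg.Prelude.Def_Characters
import Cfsg.Agent.Helper23.Schur
import Cfsg.Agent.Helper24.Regular

set_option autoImplicit false

namespace Cfsg.Agent.Helper23

open Cfsg

/-- The central character of an irreducible character: a hom `ω : Z(G) →* ℂ` with
`χ (g z) = ω z * χ g`. -/
theorem exists_central_character {G : Type*} [Group G] (χ : IrrCharacter G) :
    ∃ ω : Subgroup.center G →* ℂ, ∀ (z : Subgroup.center G) (g : G),
      (χ : G → ℂ) (g * z) = ω z * (χ : G → ℂ) g := by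
  obtain ⟨d, ρ, hρ, hχ⟩ := χ.2
  have := hρ
  have hex : ∀ z : Subgroup.center G, ∃ c : ℂ,
      ρ (z : G) = c • (LinearMap.id : (Fin d → ℂ) →ₗ[ℂ] (Fin d → ℂ)) :=
    fun z => exists_scalar_of_mem_center ρ z z.2
  choose c hc using hex
  have hd : 0 < Module.finrank ℂ (Fin d → ℂ) := Cfsg.Agent.Helper24.finrank_pos_of_isIrreducible ρ
  have hinj : ∀ a b : ℂ, a • (LinearMap.id : (Fin d → ℂ) →ₗ[ℂ] (Fin d → ℂ)) = b • LinearMap.id →
      a = b := by
    intro a b hab
    have h1 := congrArg (LinearMap.trace ℂ (Fin d → ℂ)) hab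
    rw [map_smul, map_smul, LinearMap.trace_id, smul_eq_mul, smul_eq_mul] at h1
    have hne : ((Module.finrank ℂ (Fin d → ℂ) : ℕ) : ℂ) ≠ 0 := by exact_mod_cast hd.ne'
    exact mul_right_cancel₀ hne h1
  refine ⟨{ toFun := c, map_one' := ?_, map_mul' := ?_ }, ?_⟩
  · apply hinj
    rw [← hc, Subgroup.coe_one, map_one, one_smul]; rfl
  · intro z w
    apply hinj
    rw [← hc, Subgroup.coe_mul, map_mul, hc, hc]
    ext v
    simp [mul_smul]
    ring
  · intro z g
    show (χ : G → ℂ) (g * z) = c z * (χ : G → ℂ) g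
    rw [← hχ]
    simp only [Representation.character]
    rw [map_mul, hc]
    rw [show ρ g * c z • (LinearMap.id : (Fin d → ℂ) →ₗ[ℂ] (Fin d → ℂ)) = c z • ρ g by
      ext v; simp]
    rw [map_smul, smul_eq_mul]

end Cfsg.Agent.Helper23
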