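import Mathlib
import Cfsg.Prelude.Def_Blocks
import Cfsg.Agent.Helper5.PPrimeNormal
import Cfsg.Agent.Helper5.RestrictScalar
import Cfsg.Agent.Helper5.BlockBasic
import Cfsg.Agent.Helper5.ClaimN
import Cfsg.Agent.Helper24.Expansion
import Cfsg.Agent.Helper24.OddInduced
import Cfsg.Agent.S0963

set_option autoImplicit false

/-!
# Block idempotents are supported on the centralizer of a normal `p`-subgroup

Generalities on idempotents of `G`-stable sets of irreducible characters of a normal subgroup,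
seen as class functions on `G`.
-/

namespace Cfsg.Agent.Helper23.NS

open Cfsg Cfsg.Agent.Helper24 Cfsg.Agent.Helper5 Cfsg.Agent.Helper5.Loc Cfsg.Agent.Helper5.CC
  Cfsg.Agent.Helper5.RS

variable {G : Type*} [Group G]

open Classical in
/-- Extension by zero of the idempotent coefficients of a set of characters of `N`. -/
noncomputable def cutCoeff (N : Subgroup G) (Θ : Set (IrrCharacter N)) : G → ℂ :=
  fun g => if h : g ∈ N then blockCoeff Θ (⟨g, h⟩ : N) else 0

theorem cutCoeff_of_mem (N : Subgroup G) (Θ : Set (IrrCharacter N)) {g : G} (h : g ∈ N) :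
    cutCoeff N Θ g = blockCoeff Θ (⟨g, h⟩ : N) := by
  unfold cutCoeff
  rw [dif_pos h]

theorem cutCoeff_of_not_mem (N : Subgroup G) (Θ : Set (IrrCharacter N)) {g : G} (h : g ∉ N) :
    cutCoeff N Θ g = 0 := by
  unfold cutCoeff
  rw [dif_neg h]

/-- A set of irreducible characters of the normal subgroup `N` stable under `G`-conjugation. -/
def IsStable (N : Subgroup G) [hN : N.Normal] (Θ : Set (IrrCharacter N)) : Prop :=
  ∀ θ ∈ Θ, ∀ x : G, conjIrr N x θ ∈ Θ

theorem bijOn_conjIrr_of_isStable (N : Subgroup G) [hN : N.Normal] {Θ : Set (IrrCharacter N)}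
    (hΘ : IsStable N Θ) (x : G) : Set.BijOn (conjIrr N x) Θ Θ := by
  refine ⟨fun θ hθ => hΘ θ hθ x, ?_, ?_⟩
  · intro η₁ _ η₂ _ h
    have h' : conjFun N (η₁ : N → ℂ) x = conjFun N (η₂ : N → ℂ) x := congrArg Subtype.val h
    have h2 := congrArg (fun f => conjFun N f x⁻¹) h'
    simp only [conjFun_conjFun, mul_inv_cancel, conjFun_one'] at h2
    exact Subtype.ext h2
  · intro η hη
    refine ⟨conjIrr N x⁻¹ η, hΘ η hη x⁻¹, ?_⟩
    apply Subtype.ext
    show conjFun N (conjFun N (η : N → ℂ) x⁻¹) x = _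
    rw [conjFun_conjFun, inv_mul_cancel, conjFun_one']

theorem blockCoeff_conj_of_isStable (N : Subgroup G) [hN : N.Normal] [Fintype N]
    {Θ : Set (IrrCharacter N)} (hΘ : IsStable N Θ) (x : G) (n : N) :
    blockCoeff Θ ⟨x * n * x⁻¹, hN.conj_mem n n.2 x⟩ = blockCoeff Θ n := by
  rw [blockCoeff, blockCoeff]
  congr 1
  apply finsum_mem_eq_of_bijOn (conjIrr N x) (bijOn_conjIrr_of_isStable N hΘ x)
  intro η _
  have h1 : ((conjIrr N x η : IrrCharacter N) : N → ℂ) 1 = (η : N → ℂ) 1 := by
    show conjFun N (η : N → ℂ) x 1 = _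
    rw [conjFun_apply]
    exact congrArg (η : N → ℂ) (Subtype.ext (by simp))
  have h2 : ((conjIrr N x η : IrrCharacter N) : N → ℂ) n =
      (η : N → ℂ) ⟨x * n * x⁻¹, hN.conj_mem n n.2 x⟩ := rfl
  rw [h1, h2]

theorem isClassFunction_cutCoeff (N : Subgroup G) [hN : N.Normal] [Fintype N]
    {Θ : Set (IrrCharacter N)} (hΘ : IsStable N Θ) : IsClassFunction G (cutCoeff N Θ) := by
  intro g x
  have hiff : x * g * x⁻¹ ∈ N ↔ g ∈ N := by
    constructor
    · intro hx
      have := hN.conj_mem _ hx x⁻¹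
      simpa [mul_assoc] using this
    · intro hg
      exact hN.conj_mem g hg x
  by_cases hg : g ∈ N
  · rw [cutCoeff_of_mem N Θ hg, cutCoeff_of_mem N Θ (hiff.mpr hg)]
    exact blockCoeff_conj_of_isStable N hΘ x ⟨g, hg⟩
  · rw [cutCoeff_of_not_mem N Θ hg, cutCoeff_of_not_mem N Θ (fun h => hg (hiff.mp h))]

variable [Fintype G]

/-- The sum defining the action of `cutCoeff` in terms of inner products of restrictions. -/
theorem sum_cutCoeff_mul (N : Subgroup G) [Fintype N] [Fintype (IrrCharacter N)]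
    (Θ : Set (IrrCharacter N)) [DecidablePred (· ∈ Θ)] (χ : G → ℂ) :
    ∑ t : G, cutCoeff N Θ t * χ t =
      ∑ θ : IrrCharacter N, if θ ∈ Θ then
        (θ : N → ℂ) 1 * classInner (fun n : N => χ n) (θ : N → ℂ) else 0 := by
  rw [← sum_subgroup_eq_sum' N (fun t => cutCoeff N Θ t * χ t)
    (fun t ht => by simp only [cutCoeff_of_not_mem N Θ ht, zero_mul])]
  have h1 : ∀ t : N, cutCoeff N Θ (t : G) * χ t =
      ∑ θ : IrrCharacter N, if θ ∈ Θ then (Nat.card N : ℂ)⁻¹ *
        ((θ : N → ℂ) 1 * ((fun n : N => χ n) t * (starRingEnd ℂ) ((θ : N → ℂ) t))) else 0 := by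
    intro t
    rw [cutCoeff_of_mem N Θ t.2, blockCoeff, finsum_mem_eq_sum_ite, Finset.mul_sum, Finset.sum_mul]
    refine Finset.sum_congr rfl fun θ _ => ?_
    by_cases hθ : θ ∈ Θ
    · rw [if_pos hθ, if_pos hθ]
      ring
    · rw [if_neg hθ, if_neg hθ, mul_zero, zero_mul]
  rw [Finset.sum_congr rfl (fun t _ => h1 t), Finset.sum_comm]
  refine Finset.sum_congr rfl fun θ _ => ?_
  by_cases hθ : θ ∈ Θ
  · simp only [if_pos hθ]
    rw [classInner, ← Finset.mul_sum, ← Finset.mul_sum]
    ring
  · simp only [if_neg hθ]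
    exact Finset.sum_const_zero

/-- The degree of a character in terms of the degrees of the constituents of its restriction. -/
theorem apply_one_eq_sum_restrict (N : Subgroup G) [Fintype N] [Fintype (IrrCharacter N)]
    (χ : IrrCharacter G) :
    (χ : G → ℂ) 1 = ∑ θ : IrrCharacter N,
      (θ : N → ℂ) 1 * classInner (fun n : N => (χ : G → ℂ) n) (θ : N → ℂ) := by
  have hres : IsCharacter N (fun n : N => (χ : G → ℂ) n) :=
    Cfsg.Agent.Helper8.isCharacter_restrict _ (IsIrrCharacter.isCharacter χ.2)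
  have hexp := IsCharacter.eq_sum_classInner hres
  have h1 := congrFun hexp 1
  simp only [Finset.sum_apply, Pi.smul_apply, smul_eq_mul] at h1
  rw [show ((1 : N) : G) = 1 from rfl] at h1
  rw [h1]
  refine Finset.sum_congr rfl fun θ _ => ?_
  ring

theorem act_cutCoeff_of_subset (N : Subgroup G) [Fintype N]
    (Θ : Set (IrrCharacter N)) (χ : IrrCharacter G)
    (h : ∀ θ : IrrCharacter N,
      classInner (fun n : N => (χ : G → ℂ) n) (θ : N → ℂ) ≠ 0 → θ ∈ Θ) :
    act (cutCoeff N Θ) χ = 1 := by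
  classical
  have : Fintype (IrrCharacter N) := Fintype.ofFinite _
  have h1 : (χ : G → ℂ) 1 ≠ 0 := irr_one_ne_zero χ
  rw [act, div_eq_iff h1, one_mul, sum_cutCoeff_mul, apply_one_eq_sum_restrict N χ]
  refine Finset.sum_congr rfl fun θ _ => ?_
  by_cases hθ : θ ∈ Θ
  · rw [if_pos hθ]
  · rw [if_neg hθ]
    have : classInner (fun n : N => (χ : G → ℂ) n) (θ : N → ℂ) = 0 := by
      by_contra hne
      exact hθ (h θ hne)
    rw [this, mul_zero]

theorem act_cutCoeff_of_disjoint (N : Subgroup G) [Fintype N]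
    (Θ : Set (IrrCharacter N)) (χ : IrrCharacter G)
    (h : ∀ θ ∈ Θ, classInner (fun n : N => (χ : G → ℂ) n) (θ : N → ℂ) = 0) :
    act (cutCoeff N Θ) χ = 0 := by
  classical
  have : Fintype (IrrCharacter N) := Fintype.ofFinite _
  have h1 : (χ : G → ℂ) 1 ≠ 0 := irr_one_ne_zero χ
  rw [act, div_eq_iff h1, zero_mul, sum_cutCoeff_mul]
  apply Finset.sum_eq_zero
  intro θ _
  by_cases hθ : θ ∈ Θ
  · rw [if_pos hθ, h θ hθ, mul_zero]
  · rw [if_neg hθ]

/-- Two class functions acting identically on all irreducible characters are equal. -/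
theorem eq_of_act_eq {c d : G → ℂ} (hc : IsClassFunction G c) (hd : IsClassFunction G d)
    (h : ∀ χ : IrrCharacter G, act c χ = act d χ) : c = d := by
  have : Fintype (IrrCharacter G) := Fintype.ofFinite _
  funext g
  rw [← coeff_act hc g, ← coeff_act hd g]
  congr 1
  refine Finset.sum_congr rfl fun χ _ => ?_
  rw [h χ]

/-- The set of irreducible constituents of the restrictions to `N` of the members of `B`. -/
def constituents (N : Subgroup G) [Fintype N] (B : Set (IrrCharacter G)) :
    Set (IrrCharacter N) :=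
  {θ | ∃ χ ∈ B, classInner (fun n : N => (χ : G → ℂ) n) (θ : N → ℂ) ≠ 0}

omit [Fintype G] in
theorem isStable_constituents (N : Subgroup G) [hN : N.Normal] [Fintype N]
    (B : Set (IrrCharacter G)) : IsStable N (constituents N B) := by
  rintro θ ⟨χ, hχ, hne⟩ x
  refine ⟨χ, hχ, ?_⟩
  show classInner (fun n : N => (χ : G → ℂ) n) (conjFun N (θ : N → ℂ) x) ≠ 0
  rw [classInner_restrict_conjFun N (isClassFunction_irr χ)]
  exact hne

/-- If `B` is closed under "lying over a common constituent on `N`", then the idempotent of `B`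
is the idempotent of the constituents on `N`, extended by zero. -/
theorem blockCoeff_eq_cutCoeff (N : Subgroup G) [hN : N.Normal] [Fintype N]
    (B : Set (IrrCharacter G))
    (hB : ∀ χ ∈ B, ∀ χ' : IrrCharacter G, ∀ θ : IrrCharacter N,
      classInner (fun n : N => (χ : G → ℂ) n) (θ : N → ℂ) ≠ 0 →
      classInner (fun n : N => (χ' : G → ℂ) n) (θ : N → ℂ) ≠ 0 → χ' ∈ B) :
    blockCoeff B = cutCoeff N (constituents N B) := by
  classical
  have : Fintype (IrrCharacter G) := Fintype.ofFinite _
  apply eq_of_act_eq (isClassFunction_blockCoeff B)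
    (isClassFunction_cutCoeff N (isStable_constituents N B))
  intro χ
  rw [act_blockCoeff]
  by_cases hχ : χ ∈ B
  · rw [if_pos hχ, act_cutCoeff_of_subset]
    intro θ hθ
    exact ⟨χ, hχ, hθ⟩
  · rw [if_neg hχ, act_cutCoeff_of_disjoint]
    rintro θ ⟨χ', hχ', hne⟩
    by_contra hne'
    exact hχ (hB χ' hχ' χ θ hne hne')

variable {M : Ideal AlgInt}

/-- Two irreducible characters lying over a common irreducible character of `C_G(P)`, `P` a normal
`p`-subgroup, lie in the same block. -/
theorem sameBlock_of_common_constituent {p : ℕ} [Fact p.Prime] (hM : IsPModular p M)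
    (P : Subgroup G) [hPn : P.Normal] (hP : IsPGroup p P)
    [Fintype (Subgroup.centralizer (P : Set G))]
    (χ χ' : IrrCharacter G) (θ : IrrCharacter (Subgroup.centralizer (P : Set G)))
    (h : classInner (fun n : Subgroup.centralizer (P : Set G) => (χ : G → ℂ) n)
      (θ : Subgroup.centralizer (P : Set G) → ℂ) ≠ 0)
    (h' : classInner (fun n : Subgroup.centralizer (P : Set G) => (χ' : G → ℂ) n)
      (θ : Subgroup.centralizer (P : Set G) → ℂ) ≠ 0) :
    SameBlock M (χ : G → ℂ) (χ' : G → ℂ) := by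
  have hMp := isPrime_of_isPModular hM
  have hCn : (Subgroup.centralizer (P : Set G)).Normal := Subgroup.normal_centralizer
  intro g
  by_cases hg : g ∈ Subgroup.centralizer (P : Set G)
  · have e1 := Cfsg.Agent.S0963.centralChar_eq_of_constituent _ χ θ h ⟨g, hg⟩
    have e2 := Cfsg.Agent.S0963.centralChar_eq_of_constituent _ χ' θ h' ⟨g, hg⟩
    simp only at e1 e2
    rw [e1, e2, sub_self]
    exact memLocalIdeal_zero hMp
  · exact li_sub hMp (centralChar_memLocalIdeal_of_not_mem_centralizer hM P hP χ g hg)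
      (centralChar_memLocalIdeal_of_not_mem_centralizer hM P hP χ' g hg)

/-- **Block idempotents are supported on the centralizer of a normal `p`-subgroup.** -/
theorem blockCoeff_eq_zero_of_not_mem_centralizer {p : ℕ} [Fact p.Prime] (hM : IsPModular p M)
    (P : Subgroup G) [hPn : P.Normal] (hP : IsPGroup p P) (B : Set (IrrCharacter G))
    (hB : IsPBlock M B) (g : G) (hg : g ∉ Subgroup.centralizer (P : Set G)) :
    blockCoeff B g = 0 := by
  classical
  have hMp := isPrime_of_isPModular hM
  have hCn : (Subgroup.centralizer (P : Set G)).Normal := Subgroup.normal_centralizer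
  have : Fintype (Subgroup.centralizer (P : Set G)) := Fintype.ofFinite _
  obtain ⟨χ₀, rfl⟩ := hB
  rw [blockCoeff_eq_cutCoeff (Subgroup.centralizer (P : Set G))]
  · exact cutCoeff_of_not_mem _ _ hg
  · intro χ hχ χ' θ hθ hθ'
    exact sameBlock_trans hMp hχ (sameBlock_of_common_constituent hM P hP χ χ' θ hθ hθ')

end Cfsg.Agent.Helper23.NS
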