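import Mathlib
import Cfsg.Prelude.Def_Blocks
import Cfsg.Prelude.Def_BlockLocal
import Cfsg.Prelude.Def_BrauerPairs
import Cfsg.Agent.Helper23.ThirdMainHard
import Cfsg.Agent.Helper5.BlockSupport
import Cfsg.Agent.Helper5.FixedSum

set_option autoImplicit false

/-!
# Stable Brauer correspondents

For a `p`-subgroup `P` normalizing a subgroup `K ⊇ C_G(P)`, the Brauer functional at `P` of an
irreducible character of `C_G(P)`, on `P`-stable central elements of the group ring of `K`, is a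
central character of `K` modulo `M`.
-/

namespace Cfsg.Agent.Helper23.SC

open Cfsg Cfsg.Agent.Helper24 Cfsg.Agent.Helper5 Cfsg.Agent.Helper5.Loc Cfsg.Agent.Helper5.CC
open Cfsg.Agent.Helper23.BT Cfsg.Agent.Helper23.IC Cfsg.Agent.Helper23.TM
open Cfsg.Agent.Helper23.TMH

variable {G : Type*} [Group G] {M : Ideal AlgInt}

/-- A function invariant under conjugation by `P` and by `K` is invariant under `P ⊔ K`. -/
theorem invariant_sup (P K : Subgroup G) (D : G → ℂ)
    (hDP : ∀ x ∈ P, ∀ g, D (x * g * x⁻¹) = D g) (hDK : ∀ x ∈ K, ∀ g, D (x * g * x⁻¹) = D g) :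
    ∀ x ∈ P ⊔ K, ∀ g, D (x * g * x⁻¹) = D g := by
  let S : Subgroup G :=
    { carrier := {x | ∀ g, D (x * g * x⁻¹) = D g}
      one_mem' := by intro g; simp
      mul_mem' := by
        intro a b ha hb g
        have : a * b * g * (a * b)⁻¹ = a * (b * g * b⁻¹) * a⁻¹ := by group
        rw [this, ha, hb]
      inv_mem' := by
        intro a ha g
        have := ha (a⁻¹ * g * a⁻¹⁻¹)
        rw [← this]
        congr 1
        group }
  have h : P ⊔ K ≤ S := sup_le (fun x hx => hDP x hx) (fun x hx => hDK x hx)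
  exact fun x hx => h hx

theorem exists_stable_correspondent [Fintype G] {p : ℕ} [Fact p.Prime] (hM : IsPModular p M)
    (P K : Subgroup G) (hP : IsPGroup p P) (hPK : P ≤ Subgroup.normalizer (K : Set G))
    (hCK : Subgroup.centralizer (P : Set G) ≤ K)
    [Fintype (Subgroup.centralizer (P : Set G))] [Fintype K]
    (ξ : IrrCharacter (Subgroup.centralizer (P : Set G))) :
    ∃ θ : IrrCharacter K, ∀ D : G → ℂ, (∀ g, g ∉ K → D g = 0) →
      (∀ x ∈ P, ∀ g, D (x * g * x⁻¹) = D g) → (∀ x ∈ K, ∀ g, D (x * g * x⁻¹) = D g) →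
      (∀ g, MemLocalRing M (D g)) →
      MemLocalIdeal M (brauerOmega P D (ξ : Subgroup.centralizer (P : Set G) → ℂ) -
        (∑ k : K, D k * (θ : K → ℂ) k) / (θ : K → ℂ) 1) := by
  classical
  have hMp := isPrime_of_isPModular hM
  have hPX : P ≤ P ⊔ K := le_sup_left
  have hKX : K ≤ P ⊔ K := le_sup_right
  have : Fintype ↥(P ⊔ K) := Fintype.ofFinite _
  have : Fintype (IrrCharacter ↥(P ⊔ K)) := Fintype.ofFinite _
  have hP'p : IsPGroup p (P.subgroupOf (P ⊔ K)) := hP.comap_subtype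
  have hP'map : (P.subgroupOf (P ⊔ K)).map (P ⊔ K).subtype = P :=
    Subgroup.map_subgroupOf_eq_of_le hPX
  have hCX : Subgroup.centralizer
      (((P.subgroupOf (P ⊔ K)).map (P ⊔ K).subtype : Subgroup G) : Set G) ≤ P ⊔ K := by
    rw [hP'map]; exact hCK.trans hKX
  have hH'map : (Subgroup.centralizer ((P.subgroupOf (P ⊔ K) : Subgroup ↥(P ⊔ K)) :
      Set ↥(P ⊔ K))).map (P ⊔ K).subtype = Subgroup.centralizer (P : Set G) := by
    rw [map_centralizer_subtype (P ⊔ K) (P.subgroupOf (P ⊔ K)) hCX, hP'map]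
  have : Fintype ↥(Subgroup.centralizer ((P.subgroupOf (P ⊔ K) : Subgroup ↥(P ⊔ K)) :
      Set ↥(P ⊔ K))) := Fintype.ofFinite _
  set φH := liftEquiv (P ⊔ K) _ _ hH'map with hφH
  set ξ' := pullIrr φH ξ with hξ'
  obtain ⟨η, hη⟩ := exists_irr_brauer hM (P.subgroupOf (P ⊔ K))
    (Subgroup.centralizer ((P.subgroupOf (P ⊔ K) : Subgroup ↥(P ⊔ K)) : Set ↥(P ⊔ K)))
    hP'p le_rfl (Subgroup.centralizer_le_normalizer _) ξ'
  have hXN : P ⊔ K ≤ Subgroup.normalizer (K : Set G) := sup_le hPK Subgroup.le_normalizer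
  have hK'n : (K.subgroupOf (P ⊔ K)).Normal :=
    (Subgroup.normal_subgroupOf_iff_le_normalizer hKX).mpr hXN
  have hK'map : (K.subgroupOf (P ⊔ K)).map (P ⊔ K).subtype = K :=
    Subgroup.map_subgroupOf_eq_of_le hKX
  have : Fintype ↥(K.subgroupOf (P ⊔ K)) := Fintype.ofFinite _
  set φK := liftEquiv (P ⊔ K) (K.subgroupOf (P ⊔ K)) K hK'map with hφK
  obtain ⟨θ', hθ'⟩ := exists_constituent_restrict (K.subgroupOf (P ⊔ K)) η
  refine ⟨pullIrr φK.symm θ', ?_⟩
  intro D hsupp hDP hDK hDM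
  have hDX := invariant_sup P K D hDP hDK
  set c : ↥(P ⊔ K) → ℂ := fun x => D (x : G) with hc_def
  have hc : IsClassFunction ↥(P ⊔ K) c := by
    intro g x
    show D ((x * g * x⁻¹ : ↥(P ⊔ K)) : G) = D (g : G)
    rw [Subgroup.coe_mul, Subgroup.coe_mul, Subgroup.coe_inv]
    exact hDX x x.2 g
  have hcM : ∀ t, MemLocalRing M (c t) := fun t => hDM _
  have h0 := hη c hc hcM
  have e1 : act (brRes (P.subgroupOf (P ⊔ K))
      (Subgroup.centralizer ((P.subgroupOf (P ⊔ K) : Subgroup ↥(P ⊔ K)) : Set ↥(P ⊔ K))) c) ξ' =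
      brauerOmega P D (ξ : Subgroup.centralizer (P : Set G) → ℂ) := by
    rw [brauerOmega, finsum_eq_sum_of_fintype, act, Finset.sum_div]
    rw [← Equiv.sum_comp φH.toEquiv]
    refine Finset.sum_congr rfl fun t _ => ?_
    rw [brRes, cut_of_mem _ t.2]
    have e3 : (ξ' : ↥(Subgroup.centralizer ((P.subgroupOf (P ⊔ K) : Subgroup ↥(P ⊔ K)) :
        Set ↥(P ⊔ K))) → ℂ) 1 = (ξ : Subgroup.centralizer (P : Set G) → ℂ) 1 := by
      rw [hξ', pullIrr_apply, map_one]
    rw [e3]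
    rfl
  have e2 : act c η = (∑ k : K, D k * ((pullIrr φK.symm θ' : IrrCharacter K) : K → ℂ) k) /
      ((pullIrr φK.symm θ' : IrrCharacter K) : K → ℂ) 1 := by
    have h1 := Cfsg.Agent.Helper5.RS.restrict_scalar_eq (K.subgroupOf (P ⊔ K)) η θ' hθ' c hc
    rw [act]
    rw [← Cfsg.Agent.Helper5.RS.sum_subgroup_eq_sum' (K.subgroupOf (P ⊔ K))
      (fun t => c t * (η : ↥(P ⊔ K) → ℂ) t)
      (fun t ht => by
        have : (t : G) ∉ K := fun h' => ht (Subgroup.mem_subgroupOf.mpr h')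
        show D (t : G) * _ = 0
        rw [hsupp _ this, zero_mul])]
    rw [← h1]
    have e4 : ((pullIrr φK.symm θ' : IrrCharacter K) : K → ℂ) 1 =
        (θ' : ↥(K.subgroupOf (P ⊔ K)) → ℂ) 1 := by
      rw [pullIrr_apply, map_one]
    rw [e4]
    congr 1
    rw [← Equiv.sum_comp φK.toEquiv]
    refine Finset.sum_congr rfl fun t _ => ?_
    rw [pullIrr_apply]
    have : φK.symm (φK.toEquiv t) = t := φK.symm_apply_apply t
    rw [this]
    rfl
  rw [e1, e2] at h0
  exact h0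

end Cfsg.Agent.Helper23.SC
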