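import Mathlib
import Cfsg.Prelude.Def_Blocks
import Cfsg.Prelude.Def_BlockLocal
import Cfsg.Prelude.Def_BrauerPairs
import Cfsg.Agent.Helper23.StableCorr
import Cfsg.Agent.Helper5.FixedSum
import Cfsg.Agent.Helper5.MinMax

set_option autoImplicit false

/-!
# The action of a normalizing subgroup on the blocks of a subgroup
-/

namespace Cfsg.Agent.Helper23.SB

open Cfsg Cfsg.Agent.Helper24 Cfsg.Agent.Helper5 Cfsg.Agent.Helper5.Loc Cfsg.Agent.Helper5.CC
open Cfsg.Agent.Helper23.BT Cfsg.Agent.Helper23.TM
open scoped Pointwise ComplexConjugate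

variable {G : Type*} [Group G] {M : Ideal AlgInt}

section Transport

variable {X Y : Type*} [Group X] [Group Y]

theorem bijOn_pullIrr_symm (φ : X ≃* Y) (b : Set (IrrCharacter Y)) :
    Set.BijOn (pullIrr φ.symm) (pullBlock φ b) b := by
  refine ⟨fun ξ hξ => hξ, ?_, ?_⟩
  · intro ξ₁ _ ξ₂ _ h
    have := congrArg (pullIrr φ) h
    rwa [pullIrr_pullIrr_symm, pullIrr_pullIrr_symm] at this
  · intro χ hχ
    exact ⟨pullIrr φ χ, (pullIrr_mem_pullBlock_iff φ b χ).mpr hχ, pullIrr_symm_pullIrr φ χ⟩

theorem blockCoeff_pullBlock (φ : X ≃* Y) (b : Set (IrrCharacter Y)) (x : X) :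
    blockCoeff (pullBlock φ b) x = blockCoeff b (φ x) := by
  rw [blockCoeff, blockCoeff, Nat.card_congr φ.toEquiv]
  congr 1
  apply finsum_mem_eq_of_bijOn (pullIrr φ.symm) (bijOn_pullIrr_symm φ b)
  intro ξ _
  rw [pullIrr_apply, pullIrr_apply, map_one, MulEquiv.symm_apply_apply]

theorem pullBlock_eq_image (φ : X ≃* Y) (b : Set (IrrCharacter Y)) :
    pullBlock φ b = pullIrr φ '' b := by
  ext ξ
  constructor
  · intro h
    exact ⟨pullIrr φ.symm ξ, h, pullIrr_pullIrr_symm φ ξ⟩
  · rintro ⟨χ, hχ, rfl⟩
    exact (pullIrr_mem_pullBlock_iff φ b χ).mpr hχ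

theorem isPBlock_pullBlock_iff (φ : X ≃* Y) (b : Set (IrrCharacter Y)) :
    IsPBlock M (pullBlock φ b) ↔ IsPBlock M b := by
  constructor
  · intro h
    have := isPBlock_pullBlock φ.symm h
    rwa [pullBlock_symm_pullBlock] at this
  · exact isPBlock_pullBlock φ

end Transport

/-- The conjugation action of a subgroup `P ≤ N_G(K)` on the irreducible characters of `K`:
`(u • χ)(k) = χ(u⁻¹ k u)`. -/
@[instance_reducible]
noncomputable def conjMulAction (K P : Subgroup G) (hPK : P ≤ Subgroup.normalizer (K : Set G)) :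
    MulAction P (IrrCharacter K) where
  smul u χ := pullIrr (conjEquiv K (u : G) (hPK u.2)) χ
  one_smul χ := by
    apply Subtype.ext
    funext k
    show (χ : K → ℂ) (conjEquiv K ((1 : P) : G) _ k) = (χ : K → ℂ) k
    have : conjEquiv K ((1 : P) : G) (hPK (1 : P).2) k = k := by
      apply Subtype.ext
      rw [conjEquiv_apply]
      simp
    rw [this]
  mul_smul u v χ := by
    apply Subtype.ext
    funext k
    show (χ : K → ℂ) (conjEquiv K ((u * v : P) : G) _ k) =
      (χ : K → ℂ) (conjEquiv K (v : G) _ (conjEquiv K (u : G) _ k))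
    have : conjEquiv K ((u * v : P) : G) (hPK (u * v).2) k =
        conjEquiv K (v : G) (hPK v.2) (conjEquiv K (u : G) (hPK u.2) k) := by
      apply Subtype.ext
      rw [conjEquiv_apply, conjEquiv_apply, conjEquiv_apply]
      simp [mul_assoc]
    rw [this]

theorem smul_irr_def (K P : Subgroup G) (hPK : P ≤ Subgroup.normalizer (K : Set G)) (u : P)
    (χ : IrrCharacter K) :
    (letI := conjMulAction K P hPK; u • χ) = pullIrr (conjEquiv K (u : G) (hPK u.2)) χ := rfl

theorem smul_set_eq_pullBlock (K P : Subgroup G) (hPK : P ≤ Subgroup.normalizer (K : Set G))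
    (u : P) (b : Set (IrrCharacter K)) :
    (letI := conjMulAction K P hPK; u • b) = pullBlock (conjEquiv K (u : G) (hPK u.2)) b := by
  rw [pullBlock_eq_image]
  rfl

/-- The sum of all block idempotents is the identity. -/
theorem sum_blockCoeff_eq_deltaOne {X : Type*} [Group X] [Fintype X]
    [Fintype (IrrCharacter X)] [Fintype (Set (IrrCharacter X))] (hMp : M.IsPrime)
    [DecidablePred (fun b : Set (IrrCharacter X) => IsPBlock M b)] :
    ∑ b : Set (IrrCharacter X), (if IsPBlock M b then blockCoeff b else 0) = deltaOne := by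
  classical
  apply eq_of_act_eq
  · apply isClassFunction_sum
    intro b _
    split_ifs
    · exact isClassFunction_blockCoeff b
    · exact isClassFunction_zero
  · exact isClassFunction_classIndicator 1
  intro χ
  rw [act_sum, act_deltaOne, Finset.sum_eq_single (blockOf M (χ : X → ℂ))]
  · rw [if_pos (isPBlock_blockOf χ), act_blockCoeff, if_pos (mem_blockOf_self hMp χ)]
  · intro b _ hb
    split_ifs with h
    · rw [act_blockCoeff, if_neg]
      intro hχ
      exact hb (IsPBlock_eq_blockOf hMp h hχ)
    · simp [act]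
  · intro h; exact absurd (Finset.mem_univ _) h

/-- `b` is stable under conjugation by `P`. -/
def IsStableSet (K P : Subgroup G) (hPK : P ≤ Subgroup.normalizer (K : Set G))
    (b : Set (IrrCharacter K)) : Prop :=
  ∀ u : P, pullBlock (conjEquiv K (u : G) (hPK u.2)) b = b

theorem mem_fixedPoints_iff (K P : Subgroup G) (hPK : P ≤ Subgroup.normalizer (K : Set G))
    (b : Set (IrrCharacter K)) :
    (letI := conjMulAction K P hPK; b ∈ MulAction.fixedPoints P (Set (IrrCharacter K))) ↔
      IsStableSet K P hPK b := by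
  letI := conjMulAction K P hPK
  constructor
  · intro h u
    rw [← smul_set_eq_pullBlock K P hPK u b]
    exact h u
  · intro h u
    rw [smul_set_eq_pullBlock K P hPK u b]
    exact h u

theorem conjEquiv_eq_self_of_mem_centralizer (K P : Subgroup G)
    (hPK : P ≤ Subgroup.normalizer (K : Set G)) (u : P) (n : K)
    (hn : (n : G) ∈ Subgroup.centralizer (P : Set G)) :
    conjEquiv K (u : G) (hPK u.2) n = n := by
  apply Subtype.ext
  rw [conjEquiv_apply]
  have := (Subgroup.mem_centralizer_iff.mp hn) (u : G) u.2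
  calc (u : G)⁻¹ * (n : G) * (u : G) = (u : G)⁻¹ * ((n : G) * (u : G)) := by group
    _ = (u : G)⁻¹ * ((u : G) * (n : G)) := by rw [this]
    _ = (n : G) := by group

/-- On elements centralizing the `p`-group `P`, the identity is congruent to the sum of the
`P`-stable block idempotents. -/
theorem deltaOne_sub_sum_stable [Fintype G] {p : ℕ} [Fact p.Prime] (hM : IsPModular p M)
    (K P : Subgroup G) (hP : IsPGroup p P) (hPK : P ≤ Subgroup.normalizer (K : Set G))
    [Fintype K] [Fintype (IrrCharacter K)] [Fintype (Set (IrrCharacter K))]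
    [DecidablePred (fun b : Set (IrrCharacter K) => IsPBlock M b)]
    [DecidablePred (fun b : Set (IrrCharacter K) => IsStableSet K P hPK b)]
    (n : K) (hn : (n : G) ∈ Subgroup.centralizer (P : Set G)) :
    MemLocalIdeal M ((deltaOne : K → ℂ) n -
      ∑ b ∈ Finset.univ.filter (fun b : Set (IrrCharacter K) => IsStableSet K P hPK b),
        (if IsPBlock M b then blockCoeff b n else 0)) := by
  classical
  have hMp := isPrime_of_isPModular hM
  letI := conjMulAction K P hPK
  have hf : ∀ (u : P) (b : Set (IrrCharacter K)),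
      (if IsPBlock M (u • b) then blockCoeff (u • b) n else 0) =
        (if IsPBlock M b then blockCoeff b n else 0) := by
    intro u b
    rw [smul_set_eq_pullBlock K P hPK u b]
    have h1 := isPBlock_pullBlock_iff (M := M) (conjEquiv K (u : G) (hPK u.2)) b
    have h2 : blockCoeff (pullBlock (conjEquiv K (u : G) (hPK u.2)) b) n = blockCoeff b n := by
      rw [blockCoeff_pullBlock, conjEquiv_eq_self_of_mem_centralizer K P hPK u n hn]
    by_cases hb : IsPBlock M b
    · rw [if_pos hb, if_pos (h1.mpr hb), h2]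
    · rw [if_neg hb, if_neg (fun h => hb (h1.mp h))]
  have hfM : ∀ b : Set (IrrCharacter K),
      MemLocalRing M (if IsPBlock M b then blockCoeff b n else 0) := by
    intro b
    split_ifs with hb
    · exact osima hMp b hb n
    · exact memLocalRing_zero hMp
  have h := sum_sub_sum_fixedPoints_memLocalIdeal hM hP
    (fun b : Set (IrrCharacter K) => if IsPBlock M b then blockCoeff b n else 0) hf hfM
  have e1 : ∑ b : Set (IrrCharacter K), (if IsPBlock M b then blockCoeff b n else 0) =
      (deltaOne : K → ℂ) n := by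
    have := congrFun (sum_blockCoeff_eq_deltaOne (M := M) (X := K) hMp) n
    rw [Finset.sum_apply] at this
    rw [← this]
    refine Finset.sum_congr rfl fun b _ => ?_
    split_ifs <;> rfl
  have e2 : Finset.univ.filter (fun b : Set (IrrCharacter K) =>
      b ∈ MulAction.fixedPoints P (Set (IrrCharacter K))) =
      Finset.univ.filter (fun b : Set (IrrCharacter K) => IsStableSet K P hPK b) := by
    ext b
    rw [Finset.mem_filter, Finset.mem_filter]
    exact and_congr_right fun _ => mem_fixedPoints_iff K P hPK b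
  rw [e1, e2] at h
  exact h

/-- Extension by zero of a function on a subgroup. -/
noncomputable def ext0 (K : Subgroup G) (d : K → ℂ) : G → ℂ :=
  fun g => by classical exact if h : g ∈ K then d ⟨g, h⟩ else 0

theorem ext0_of_mem (K : Subgroup G) (d : K → ℂ) {g : G} (h : g ∈ K) :
    ext0 K d g = d ⟨g, h⟩ := by
  classical
  exact dif_pos h

theorem ext0_of_not_mem (K : Subgroup G) (d : K → ℂ) {g : G} (h : g ∉ K) :
    ext0 K d g = 0 := by
  classical
  exact dif_neg h

theorem ext0_coe (K : Subgroup G) (d : K → ℂ) (k : K) : ext0 K d (k : G) = d k :=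
  ext0_of_mem K d k.2

theorem subgroupBlockCoeff_eq_ext0 (K : Subgroup G) (e : Set (IrrCharacter K)) :
    subgroupBlockCoeff K e = ext0 K (blockCoeff e) := rfl

/-- `θ` is a `P`-stable Brauer correspondent of `ξ`. -/
def IsStableCorr (M : Ideal AlgInt) (P K : Subgroup G) [Fintype K]
    (ξ : IrrCharacter (Subgroup.centralizer (P : Set G))) (θ : IrrCharacter K) : Prop :=
  ∀ D : G → ℂ, (∀ g, g ∉ K → D g = 0) →
    (∀ x ∈ P, ∀ g, D (x * g * x⁻¹) = D g) → (∀ x ∈ K, ∀ g, D (x * g * x⁻¹) = D g) →
    (∀ g, MemLocalRing M (D g)) →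
    MemLocalIdeal M (brauerOmega P D (ξ : Subgroup.centralizer (P : Set G) → ℂ) -
      (∑ k : K, D k * (θ : K → ℂ) k) / (θ : K → ℂ) 1)

theorem exists_isStableCorr [Fintype G] {p : ℕ} [Fact p.Prime] (hM : IsPModular p M)
    (P K : Subgroup G) (hP : IsPGroup p P) (hPK : P ≤ Subgroup.normalizer (K : Set G))
    (hCK : Subgroup.centralizer (P : Set G) ≤ K)
    [Fintype (Subgroup.centralizer (P : Set G))] [Fintype K]
    (ξ : IrrCharacter (Subgroup.centralizer (P : Set G))) :
    ∃ θ : IrrCharacter K, IsStableCorr M P K ξ θ :=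
  Cfsg.Agent.Helper23.SC.exists_stable_correspondent hM P K hP hPK hCK ξ

theorem mem_normalizer_conj_iff {K : Subgroup G} {u g : G}
    (hu : u ∈ Subgroup.normalizer (K : Set G)) : u * g * u⁻¹ ∈ K ↔ g ∈ K :=
  ((Subgroup.mem_normalizer_iff.mp hu) g).symm

/-- The defining congruence of a stable correspondent, for functions on `K`. -/
theorem IsStableCorr.apply_ext0 [Fintype G] (hMp : M.IsPrime) {P K : Subgroup G} [Fintype K]
    (hPK : P ≤ Subgroup.normalizer (K : Set G))
    {ξ : IrrCharacter (Subgroup.centralizer (P : Set G))} {θ : IrrCharacter K}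
    (h : IsStableCorr M P K ξ θ) (d : K → ℂ) (hd : IsClassFunction K d)
    (hdP : ∀ (u : P) (k : K), d (conjEquiv K (u : G) (hPK u.2) k) = d k)
    (hdM : ∀ k, MemLocalRing M (d k)) :
    MemLocalIdeal M (brauerOmega P (ext0 K d) (ξ : Subgroup.centralizer (P : Set G) → ℂ) -
      act d θ) := by
  have h1 := h (ext0 K d) (fun g hg => ext0_of_not_mem K d hg) ?_ ?_ ?_
  · have e : (∑ k : K, ext0 K d k * (θ : K → ℂ) k) / (θ : K → ℂ) 1 = act d θ := by
      rw [act]
      congr 1
      refine Finset.sum_congr rfl fun k _ => ?_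
      rw [ext0_coe]
    rw [e] at h1
    exact h1
  · intro x hx g
    have hxN := hPK hx
    by_cases hg : g ∈ K
    · have hg' : x * g * x⁻¹ ∈ K := (mem_normalizer_conj_iff hxN).mpr hg
      rw [ext0_of_mem K d hg', ext0_of_mem K d hg]
      have hx' : x⁻¹ ∈ P := P.inv_mem hx
      have := hdP ⟨x⁻¹, hx'⟩ ⟨g, hg⟩
      rw [← this]
      congr 1
      apply Subtype.ext
      rw [conjEquiv_apply]
      simp
    · have hg' : x * g * x⁻¹ ∉ K := fun h' => hg ((mem_normalizer_conj_iff hxN).mp h')
      rw [ext0_of_not_mem K d hg', ext0_of_not_mem K d hg]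
  · intro x hx g
    have hxN : x ∈ Subgroup.normalizer (K : Set G) := Subgroup.le_normalizer hx
    by_cases hg : g ∈ K
    · have hg' : x * g * x⁻¹ ∈ K := (mem_normalizer_conj_iff hxN).mpr hg
      rw [ext0_of_mem K d hg', ext0_of_mem K d hg]
      exact hd ⟨g, hg⟩ ⟨x, hx⟩
    · have hg' : x * g * x⁻¹ ∉ K := fun h' => hg ((mem_normalizer_conj_iff hxN).mp h')
      rw [ext0_of_not_mem K d hg', ext0_of_not_mem K d hg]
  · intro g
    by_cases hg : g ∈ K
    · rw [ext0_of_mem K d hg]; exact hdM _
    · rw [ext0_of_not_mem K d hg]; exact memLocalRing_zero hMp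

/-- The Brauer functional of a function with values in the local ideal on `C_G(P)` lies in the
local ideal. -/
theorem brauerOmega_li [Fintype G] (hMp : M.IsPrime) {P K : Subgroup G}
    [Fintype (Subgroup.centralizer (P : Set G))]
    (hCK : Subgroup.centralizer (P : Set G) ≤ K) (d : K → ℂ) (hd : IsClassFunction K d)
    (hli : ∀ k : K, (k : G) ∈ Subgroup.centralizer (P : Set G) → MemLocalIdeal M (d k))
    (ξ : IrrCharacter (Subgroup.centralizer (P : Set G))) :
    MemLocalIdeal M (brauerOmega P (ext0 K d) (ξ : Subgroup.centralizer (P : Set G) → ℂ)) := by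
  have e : brauerOmega P (ext0 K d) (ξ : Subgroup.centralizer (P : Set G) → ℂ) =
      act (fun x : Subgroup.centralizer (P : Set G) => d ⟨x, hCK x.2⟩) ξ := by
    rw [brauerOmega, finsum_eq_sum_of_fintype, act, Finset.sum_div]
    refine Finset.sum_congr rfl fun x _ => ?_
    rw [ext0_of_mem K d (hCK x.2)]
  rw [e]
  apply act_li hMp
  · intro g x
    exact hd ⟨g, hCK g.2⟩ ⟨x, hCK x.2⟩
  · intro t
    exact hli _ t.2

theorem blockCoeff_conjEquiv_of_isStableSet {K P : Subgroup G}
    {hPK : P ≤ Subgroup.normalizer (K : Set G)} {b : Set (IrrCharacter K)}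
    (hb : IsStableSet K P hPK b) (u : P) (k : K) :
    blockCoeff b (conjEquiv K (u : G) (hPK u.2) k) = blockCoeff b k := by
  rw [← blockCoeff_pullBlock, hb u]

theorem deltaOne_conjEquiv (K : Subgroup G) (g : G) (hg : g ∈ Subgroup.normalizer (K : Set G))
    (k : K) : (deltaOne : K → ℂ) (conjEquiv K g hg k) = (deltaOne : K → ℂ) k := by
  by_cases hk : k = 1
  · subst hk
    rw [map_one]
  · have : conjEquiv K g hg k ≠ 1 := fun h => hk ((conjEquiv K g hg).injective (by rw [h, map_one]))
    rw [deltaOne_apply_ne hk, deltaOne_apply_ne this]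

/-- **The block of a stable correspondent is stable.** -/
theorem isStableSet_blockOf_of_isStableCorr [Fintype G] {p : ℕ} [Fact p.Prime]
    (hM : IsPModular p M) (K P : Subgroup G) (hP : IsPGroup p P)
    (hPK : P ≤ Subgroup.normalizer (K : Set G)) (hCK : Subgroup.centralizer (P : Set G) ≤ K)
    [Fintype (Subgroup.centralizer (P : Set G))] [Fintype K]
    {ξ : IrrCharacter (Subgroup.centralizer (P : Set G))} {θ : IrrCharacter K}
    (h : IsStableCorr M P K ξ θ) : IsStableSet K P hPK (blockOf M (θ : K → ℂ)) := by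
  classical
  have hMp := isPrime_of_isPModular hM
  have : Fintype (IrrCharacter K) := Fintype.ofFinite _
  have : Fintype (Set (IrrCharacter K)) := Fintype.ofFinite _
  by_contra hns
  set S := Finset.univ.filter (fun b : Set (IrrCharacter K) => IsStableSet K P hPK b) with hS
  set d : K → ℂ := deltaOne - ∑ b ∈ S, (if IsPBlock M b then blockCoeff b else 0) with hd_def
  have hd : IsClassFunction K d := by
    apply isClassFunction_sub (isClassFunction_classIndicator 1)
    apply isClassFunction_sum
    intro b _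
    split_ifs
    · exact isClassFunction_blockCoeff b
    · exact isClassFunction_zero
  have hdk : ∀ k : K, d k = (deltaOne : K → ℂ) k -
      ∑ b ∈ S, (if IsPBlock M b then blockCoeff b k else 0) := by
    intro k
    rw [hd_def, Pi.sub_apply, Finset.sum_apply]
    congr 1
    refine Finset.sum_congr rfl fun b _ => ?_
    split_ifs <;> rfl
  have hdP : ∀ (u : P) (k : K), d (conjEquiv K (u : G) (hPK u.2) k) = d k := by
    intro u k
    rw [hdk, hdk, deltaOne_conjEquiv]
    congr 1
    refine Finset.sum_congr rfl fun b hb => ?_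
    have hbS : IsStableSet K P hPK b := (Finset.mem_filter.mp hb).2
    split_ifs
    · exact blockCoeff_conjEquiv_of_isStableSet hbS u k
    · rfl
  have hdM : ∀ k, MemLocalRing M (d k) := by
    intro k
    rw [hdk]
    apply lr_sub hMp (memLocalRing_classIndicator hMp 1 k)
    apply lr_sum hMp
    intro b _
    split_ifs with hb
    · exact osima hMp b hb k
    · exact memLocalRing_zero hMp
  have a1 := h.apply_ext0 hMp hPK d hd hdP hdM
  have a2 := brauerOmega_li hMp hCK d hd (fun k hk => by
    rw [hdk]
    exact deltaOne_sub_sum_stable hM K P hP hPK k hk) ξ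
  have e : act d θ = 1 := by
    rw [hd_def, act_sub, act_deltaOne, act_sum, Finset.sum_eq_zero, sub_zero]
    intro b hb
    have hbS : IsStableSet K P hPK b := (Finset.mem_filter.mp hb).2
    split_ifs with hbb
    · rw [act_blockCoeff, if_neg]
      intro hθb
      apply hns
      rw [← IsPBlock_eq_blockOf hMp hbb hθb]
      exact hbS
    · exact act_zero θ
  rw [e] at a1
  have := li_sub hMp a2 a1
  rw [sub_sub_cancel] at this
  exact not_memLocalIdeal_one hMp this

end Cfsg.Agent.Helper23.SB
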