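import Mathlib
import Cfsg.Prelude.Def_Blocks
import Cfsg.Prelude.Def_BrauerPairs
import Cfsg.Agent.Helper23.ThirdMainHard
import Cfsg.Agent.Helper23.StableBlocks
import Cfsg.Agent.Helper23.NormalSupport
import Cfsg.Agent.Helper5.FirstMain
import Cfsg.Agent.Helper5.BrauerMap2
import Cfsg.Agent.S0920

set_option autoImplicit false
set_option linter.unusedSectionVars false

/-!
# The Brauer correspondence through the normalizer: idempotent form
-/

namespace Cfsg.Agent.Helper23.BC

open Cfsg Cfsg.Agent.Helper24 Cfsg.Agent.Helper5 Cfsg.Agent.Helper5.Loc Cfsg.Agent.Helper5.CC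
open Cfsg.Agent.Helper14
open Cfsg.Agent.Helper23.BT Cfsg.Agent.Helper23.IC Cfsg.Agent.Helper23.TM
open Cfsg.Agent.Helper23.SB Cfsg.Agent.Helper23.TMH

variable {G : Type*} [Group G] {M : Ideal AlgInt}

section Idem

variable [Fintype G] [Fintype (IrrCharacter G)]

/-- Two idempotents modulo `M` of the centre (with local-integer coefficients) which act in the
same way modulo `M` on every irreducible character are congruent modulo `M`. -/
theorem li_sub_of_act_congr (hMp : M.IsPrime) {f g : G → ℂ}
    (hf : IsClassFunction G f) (hg : IsClassFunction G g)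
    (hfM : ∀ t, MemLocalRing M (f t)) (hgM : ∀ t, MemLocalRing M (g t))
    (hfi : ∀ t, MemLocalIdeal M (conv f f t - f t))
    (hgi : ∀ t, MemLocalIdeal M (conv g g t - g t))
    (hact : ∀ ξ : IrrCharacter G, MemLocalIdeal M (act f ξ - act g ξ)) (t : G) :
    MemLocalIdeal M (f t - g t) := by
  have hvf : IsRep M (fun ξ : IrrCharacter G => act f ξ) := ⟨f, hf, hfM, fun _ => rfl⟩
  have hvg : IsRep M (fun ξ : IrrCharacter G => act g ξ) := ⟨g, hg, hgM, fun _ => rfl⟩
  have hif : IsRepI M (fun ξ : IrrCharacter G => act f ξ * act f ξ - act f ξ) :=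
    ⟨conv f f - f, isClassFunction_sub (isClassFunction_conv hf hf) hf, hfi, fun ξ => by
      rw [act_sub, act_conv hf]⟩
  have hig : IsRepI M (fun ξ : IrrCharacter G => act g ξ * act g ξ - act g ξ) :=
    ⟨conv g g - g, isClassFunction_sub (isClassFunction_conv hg hg) hg, hgi, fun ξ => by
      rw [act_sub, act_conv hg]⟩
  have h1f : IsRep M (fun ξ : IrrCharacter G => 1 - act f ξ) := isRep_sub hMp (isRep_one hMp) hvf
  have h1g : IsRep M (fun ξ : IrrCharacter G => 1 - act g ξ) := isRep_sub hMp (isRep_one hMp) hvg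
  have lrf : ∀ ξ : IrrCharacter G, MemLocalRing M (act f ξ) := fun ξ => act_lr hMp hf hfM ξ
  have lrg : ∀ ξ : IrrCharacter G, MemLocalRing M (act g ξ) := fun ξ => act_lr hMp hg hgM ξ
  have lif : ∀ ξ : IrrCharacter G, MemLocalIdeal M (act f ξ * act f ξ - act f ξ) :=
    fun ξ => hif.li hMp ξ
  have lig : ∀ ξ : IrrCharacter G, MemLocalIdeal M (act g ξ * act g ξ - act g ξ) :=
    fun ξ => hig.li hMp ξ
  -- `u = f (1 - g)`
  have hu : IsRepI M (fun ξ : IrrCharacter G => act f ξ * (1 - act g ξ)) := by
    apply isRepI_of_idem hMp (isRep_mul hMp hvf h1g)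
    · have a1 := isRepI_mul_left hMp hif.isRep hig
      have a2 := isRepI_mul_left hMp h1g hif
      have a3 := isRepI_mul_left hMp hvf hig
      have := isRepI_add hMp (isRepI_add hMp a1 a2) a3
      refine isRepI_congr (fun ξ => ?_) this
      ring
    · intro ξ
      have e : act f ξ * (1 - act g ξ) =
          (act f ξ - act g ξ) * (1 - act g ξ) - (act g ξ * act g ξ - act g ξ) := by ring
      rw [e]
      exact li_sub hMp (li_mul_right hMp (hact ξ) (lr_sub hMp (memLocalRing_one hMp) (lrg ξ)))
        (lig ξ)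
  have hw : IsRepI M (fun ξ : IrrCharacter G => act g ξ * (1 - act f ξ)) := by
    apply isRepI_of_idem hMp (isRep_mul hMp hvg h1f)
    · have a1 := isRepI_mul_left hMp hig.isRep hif
      have a2 := isRepI_mul_left hMp h1f hig
      have a3 := isRepI_mul_left hMp hvg hif
      have := isRepI_add hMp (isRepI_add hMp a1 a2) a3
      refine isRepI_congr (fun ξ => ?_) this
      ring
    · intro ξ
      have e : act g ξ * (1 - act f ξ) =
          (act f ξ * act f ξ - act f ξ) * (-1) - (act f ξ - act g ξ) * (1 - act f ξ) := by ring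
      rw [e]
      exact li_sub hMp (li_mul_right hMp (lif ξ) (lr_neg (memLocalRing_one hMp)))
        (li_mul_right hMp (hact ξ) (lr_sub hMp (memLocalRing_one hMp) (lrf ξ)))
  have hd : IsRepI M (fun ξ : IrrCharacter G => act (f - g) ξ) := by
    refine isRepI_congr (fun ξ => ?_) (isRepI_sub hMp hu hw)
    rw [act_sub]
    ring
  exact IsRepI.values (isClassFunction_sub hf hg) hd t

end Idem

section Orth

variable [Fintype G] [Fintype (IrrCharacter G)]

/-- Two blocks whose idempotents are congruent modulo `M` coincide. -/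
theorem block_eq_of_blockCoeff_congr (hMp : M.IsPrime) {b₁ b₂ : Set (IrrCharacter G)}
    (hb₁ : IsPBlock M b₁) (hb₂ : IsPBlock M b₂)
    (h : ∀ x : G, MemLocalIdeal M (blockCoeff b₁ x - blockCoeff b₂ x)) : b₁ = b₂ := by
  classical
  obtain ⟨ξ₁, hξ₁⟩ := IsPBlock.nonempty hMp hb₁
  have h1 : MemLocalIdeal M (act (blockCoeff b₁ - blockCoeff b₂) ξ₁) :=
    act_li hMp (isClassFunction_sub (isClassFunction_blockCoeff b₁) (isClassFunction_blockCoeff b₂))
      h ξ₁
  rw [act_sub, act_blockCoeff, act_blockCoeff, if_pos hξ₁] at h1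
  have hξ₂ : ξ₁ ∈ b₂ := by
    by_contra hne
    rw [if_neg hne, sub_zero] at h1
    exact not_memLocalIdeal_one hMp h1
  rw [IsPBlock_eq_blockOf hMp hb₁ hξ₁, IsPBlock_eq_blockOf hMp hb₂ hξ₂]

/-- Two blocks of a group with a normal `p`-subgroup `Q` whose idempotents are congruent modulo
`M` on `C(Q)` coincide. -/
theorem block_eq_of_congr_centralizer {p : ℕ} [Fact p.Prime] (hM : IsPModular p M)
    (Q : Subgroup G) [hQn : Q.Normal] (hQ : IsPGroup p Q) {b₁ b₂ : Set (IrrCharacter G)}
    (hb₁ : IsPBlock M b₁) (hb₂ : IsPBlock M b₂)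
    (h : ∀ x : G, x ∈ Subgroup.centralizer (Q : Set G) →
      MemLocalIdeal M (blockCoeff b₁ x - blockCoeff b₂ x)) : b₁ = b₂ := by
  have hMp := isPrime_of_isPModular hM
  apply block_eq_of_blockCoeff_congr hMp hb₁ hb₂
  intro x
  by_cases hx : x ∈ Subgroup.centralizer (Q : Set G)
  · exact h x hx
  · rw [Cfsg.Agent.Helper23.NS.blockCoeff_eq_zero_of_not_mem_centralizer hM Q hQ b₁ hb₁ x hx,
      Cfsg.Agent.Helper23.NS.blockCoeff_eq_zero_of_not_mem_centralizer hM Q hQ b₂ hb₂ x hx,
      sub_self]
    exact memLocalIdeal_zero hMp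

end Orth

section Transport

variable {X Y : Type*} [Group X] [Group Y]

theorem centralizer_singleton_comap (φ : X ≃* Y) (k : X) :
    Subgroup.centralizer ({k} : Set X) =
      (Subgroup.centralizer ({φ k} : Set Y)).comap φ.toMonoidHom := by
  ext x
  rw [Subgroup.mem_comap, Subgroup.mem_centralizer_iff, Subgroup.mem_centralizer_iff]
  constructor
  · intro h y hy
    rw [Set.mem_singleton_iff] at hy
    subst hy
    have := h k (Set.mem_singleton k)
    show φ k * φ x = φ x * φ k
    rw [← map_mul, ← map_mul, this]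
  · intro h y hy
    rw [Set.mem_singleton_iff] at hy
    subst hy
    have := h (φ y) (Set.mem_singleton _)
    apply φ.injective
    rw [map_mul, map_mul]
    exact this

theorem isSylowIn_comap {p : ℕ} (φ : X ≃* Y) {U H : Subgroup Y} (h : IsSylowIn p U H) :
    IsSylowIn p (U.comap φ.toMonoidHom) (H.comap φ.toMonoidHom) := by
  refine ⟨Subgroup.comap_mono h.1, ?_, ?_⟩
  · exact h.2.1.comap_of_injective φ.toMonoidHom φ.injective
  · intro Q hQH hQp hUQ
    have h1 : Q.map φ.toMonoidHom ≤ H := by
      rintro _ ⟨q, hq, rfl⟩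
      exact hQH hq
    have h2 : U ≤ Q.map φ.toMonoidHom := by
      intro u hu
      refine ⟨φ.symm u, hUQ ?_, ?_⟩
      · show φ.toMonoidHom (φ.symm u) ∈ U
        simpa using hu
      · simp
    have h3 := h.2.2 _ h1 (hQp.map _) h2
    rw [← h3]
    exact (Subgroup.comap_map_eq_self_of_injective φ.injective Q).symm

/-- Defect groups transport along group isomorphisms. -/
theorem isDefectGroup_pullBlock {p : ℕ} (φ : X ≃* Y) {b : Set (IrrCharacter Y)}
    {D : Subgroup Y} (h : IsDefectGroup p M b D) :
    IsDefectGroup p M (pullBlock φ b) (D.comap φ.toMonoidHom) := by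
  obtain ⟨g, hg, hS⟩ := isDefectGroup_iff.mp h
  rw [isDefectGroup_iff]
  refine ⟨φ.symm g, ?_, ?_⟩
  · refine ⟨?_, ?_, ?_⟩
    · rw [blockCoeff_pullBlock, MulEquiv.apply_symm_apply]
      exact hg.1
    · rw [blockCoeff_pullBlock, MulEquiv.apply_symm_apply]
      exact hg.2.1
    · intro χ hχ
      have h1 := hg.2.2 _ ((mem_pullBlock_iff φ b χ).mp hχ)
      have h2 := centralChar_comp_mulEquiv φ (pullIrr φ.symm χ : Y → ℂ) (φ.symm g)
      rw [MulEquiv.apply_symm_apply] at h2
      rw [← h2] at h1
      have h3 : (fun x => (pullIrr φ.symm χ : Y → ℂ) (φ x)) = (χ : X → ℂ) := by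
        funext x
        rw [pullIrr_apply, MulEquiv.symm_apply_apply]
      rwa [h3] at h1
  · have := isSylowIn_comap φ hS
    rw [centralizer_singleton_comap φ (φ.symm g), MulEquiv.apply_symm_apply]
    exact this

end Transport

section BrId

variable [Fintype G] [Fintype (IrrCharacter G)]

/-- **The Brauer map sends the idempotent of a block with defect group `D` to the idempotent of
its Brauer correspondent in `N_G(D)`.** -/
theorem blockCoeff_sub_of_induced {p : ℕ} [Fact p.Prime] (hM : IsPModular p M)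
    (D : Subgroup G) (hD : IsPGroup p D) [Fintype (Subgroup.normalizer (D : Set G))]
    [Fintype (IrrCharacter (Subgroup.normalizer (D : Set G)))]
    {b : Set (IrrCharacter (Subgroup.normalizer (D : Set G)))} {B : Set (IrrCharacter G)}
    (hbD : IsDefectGroup p M b (D.subgroupOf (Subgroup.normalizer (D : Set G))))
    (hind : IsInducedBlock M (Subgroup.normalizer (D : Set G)) b B)
    (x : Subgroup.normalizer (D : Set G)) (hx : (x : G) ∈ Subgroup.centralizer (D : Set G)) :
    MemLocalIdeal M (blockCoeff B (x : G) - blockCoeff b x) := by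
  classical
  have hMp := isPrime_of_isPModular hM
  have hb := hind.1
  have hB := hind.2.1
  have hDN : D ≤ Subgroup.normalizer (D : Set G) := Subgroup.le_normalizer
  have hCN : Subgroup.centralizer (D : Set G) ≤ Subgroup.normalizer (D : Set G) :=
    Subgroup.centralizer_le_normalizer _
  have heB := isClassFunction_blockCoeff B
  have heBM : ∀ t, MemLocalRing M (blockCoeff B t) := osima hMp B hB
  have heb := isClassFunction_blockCoeff b
  have hebM : ∀ t, MemLocalRing M (blockCoeff b t) := osima hMp b hb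
  have hf : IsClassFunction (Subgroup.normalizer (D : Set G))
      (brRes D (Subgroup.normalizer (D : Set G)) (blockCoeff B)) :=
    isClassFunction_brRes le_rfl heB
  have hfM : ∀ t, MemLocalRing M (brRes D (Subgroup.normalizer (D : Set G)) (blockCoeff B) t) :=
    lr_brRes hMp heBM
  have key := li_sub_of_act_congr hMp hf heb hfM hebM ?_ ?_ ?_ x
  · rwa [brRes, cut_of_mem _ hx] at key
  · intro t
    have := brRes_conv hM D (Subgroup.normalizer (D : Set G)) hD hCN heB heB heBM heBM t
    rw [conv_blockCoeff_self] at this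
    have h2 := li_neg this
    rwa [neg_sub] at h2
  · intro t
    rw [conv_blockCoeff_self, sub_self]
    exact memLocalIdeal_zero hMp
  · intro ξ
    obtain ⟨χ, hχ⟩ := exists_irr_brauer hM D (Subgroup.normalizer (D : Set G)) hD hCN le_rfl ξ
    have hindξ := isInducedBlock_of_brauer hM D (Subgroup.normalizer (D : Set G)) hD hDN le_rfl
      ξ χ hχ
    have h1 := hχ (blockCoeff B) heB heBM
    have hiff : χ ∈ B ↔ ξ ∈ b := by
      constructor
      · intro hχB
        have e1 : B = blockOf M (χ : G → ℂ) := IsPBlock_eq_blockOf hMp hB hχB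
        rw [← e1] at hindξ
        have := block_eq_of_induced_eq hM D hD hb (isPBlock_blockOf ξ) hbD hind hindξ
        rw [this]
        exact mem_blockOf_self hMp ξ
      · intro hξb
        have e1 : b = blockOf M (ξ : Subgroup.normalizer (D : Set G) → ℂ) :=
          IsPBlock_eq_blockOf hMp hb hξb
        rw [← e1] at hindξ
        have := induced_unique hMp _ hind hindξ
        rw [this]
        exact mem_blockOf_self hMp χ
    rw [act_blockCoeff] at h1
    rw [act_blockCoeff]
    by_cases hξb : ξ ∈ b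
    · rw [if_pos hξb]
      rwa [if_pos (hiff.mpr hξb)] at h1
    · rw [if_neg hξb]
      rwa [if_neg (fun h => hξb (hiff.mp h))] at h1

/-- **A block with defect group `D` is determined by the image of its idempotent under the
Brauer map at `D`.** -/
theorem block_eq_of_defect_congr {p : ℕ} [Fact p.Prime] (hM : IsPModular p M)
    (D : Subgroup G) (hD : IsPGroup p D) {c₁ c₂ : Set (IrrCharacter G)}
    (hc₁ : IsPBlock M c₁) (hc₂ : IsPBlock M c₂)
    (hD₁ : IsDefectGroup p M c₁ D) (hD₂ : IsDefectGroup p M c₂ D)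
    (h : ∀ x : G, x ∈ Subgroup.centralizer (D : Set G) →
      MemLocalIdeal M (blockCoeff c₁ x - blockCoeff c₂ x)) : c₁ = c₂ := by
  classical
  have hMp := isPrime_of_isPModular hM
  have : Fintype (Subgroup.normalizer (D : Set G)) := Fintype.ofFinite _
  have : Fintype (IrrCharacter (Subgroup.normalizer (D : Set G))) := Fintype.ofFinite _
  have hDN : D ≤ Subgroup.normalizer (D : Set G) := Subgroup.le_normalizer
  obtain ⟨b₁, ⟨hb₁, hb₁D, hind₁⟩, -⟩ := (Cfsg.Agent.S0920.result p M hM D hD).2 c₁ hc₁ hD₁
  obtain ⟨b₂, ⟨hb₂, hb₂D, hind₂⟩, -⟩ := (Cfsg.Agent.S0920.result p M hM D hD).2 c₂ hc₂ hD₂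
  have hQn : (D.subgroupOf (Subgroup.normalizer (D : Set G))).Normal :=
    (Subgroup.normal_subgroupOf_iff_le_normalizer hDN).mpr le_rfl
  have hQ : IsPGroup p (D.subgroupOf (Subgroup.normalizer (D : Set G))) := hD.comap_subtype
  have hbb : b₁ = b₂ := by
    apply block_eq_of_congr_centralizer hM (D.subgroupOf (Subgroup.normalizer (D : Set G))) hQ
      hb₁ hb₂
    intro x hx
    have hxC : (x : G) ∈ Subgroup.centralizer (D : Set G) :=
      mem_centralizer_of_mem_centralizer_subgroupOf hDN hx
    have a1 := blockCoeff_sub_of_induced hM D hD hb₁D hind₁ x hxC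
    have a2 := blockCoeff_sub_of_induced hM D hD hb₂D hind₂ x hxC
    have a3 := h (x : G) hxC
    have := li_sub hMp (li_add hMp a2 a3) a1
    convert this using 1
    ring
  subst hbb
  exact induced_unique hMp _ hind₁ hind₂

end BrId

section Over

variable [Fintype G]

/-- The normalizer of `P` computed inside `H ⊇ N_G(P)` is `N_G(P)`. -/
theorem map_normalizer_subgroupOf (P H : Subgroup G)
    (hH : Subgroup.normalizer (P : Set G) ≤ H) :
    (Subgroup.normalizer ((P.subgroupOf H : Subgroup H) : Set H)).map H.subtype =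
      Subgroup.normalizer (P : Set G) := by
  have hPH : P ≤ H := Subgroup.le_normalizer.trans hH
  rw [← Subgroup.subgroupOf_normalizer_eq hPH]
  exact map_subtype_subgroupOf hH

/-- The isomorphism `N_H(P) ≃ N_G(P)` for `H ⊇ N_G(P)`. -/
noncomputable def normEquiv (P H : Subgroup G) (hH : Subgroup.normalizer (P : Set G) ≤ H) :
    Subgroup.normalizer ((P.subgroupOf H : Subgroup H) : Set H) ≃*
      Subgroup.normalizer (P : Set G) :=
  liftEquiv H _ _ (map_normalizer_subgroupOf P H hH)

theorem coe_normEquiv (P H : Subgroup G) (hH : Subgroup.normalizer (P : Set G) ≤ H)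
    (y : Subgroup.normalizer ((P.subgroupOf H : Subgroup H) : Set H)) :
    ((normEquiv P H hH y : Subgroup.normalizer (P : Set G)) : G) = ((y : H) : G) := rfl

theorem coe_normEquiv_symm (P H : Subgroup G) (hH : Subgroup.normalizer (P : Set G) ≤ H)
    (y : Subgroup.normalizer (P : Set G)) :
    ((((normEquiv P H hH).symm y :
      Subgroup.normalizer ((P.subgroupOf H : Subgroup H) : Set H)) : H) : G) = (y : G) := by
  rw [← coe_normEquiv P H hH, MulEquiv.apply_symm_apply]

theorem comap_normEquiv (P H : Subgroup G) (hH : Subgroup.normalizer (P : Set G) ≤ H) :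
    (P.subgroupOf (Subgroup.normalizer (P : Set G))).comap (normEquiv P H hH).toMonoidHom =
      (P.subgroupOf H).subgroupOf
        (Subgroup.normalizer ((P.subgroupOf H : Subgroup H) : Set H)) := by
  ext y
  rw [Subgroup.mem_comap, Subgroup.mem_subgroupOf, Subgroup.mem_subgroupOf,
    Subgroup.mem_subgroupOf]
  rfl

theorem comap_normEquiv_symm (P H : Subgroup G) (hH : Subgroup.normalizer (P : Set G) ≤ H) :
    ((P.subgroupOf H).subgroupOf
        (Subgroup.normalizer ((P.subgroupOf H : Subgroup H) : Set H))).comap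
      (normEquiv P H hH).symm.toMonoidHom = P.subgroupOf (Subgroup.normalizer (P : Set G)) := by
  ext y
  rw [Subgroup.mem_comap, Subgroup.mem_subgroupOf, Subgroup.mem_subgroupOf,
    Subgroup.mem_subgroupOf]
  show ((((normEquiv P H hH).symm y :
      Subgroup.normalizer ((P.subgroupOf H : Subgroup H) : Set H)) : H) : G) ∈ P ↔ _
  rw [coe_normEquiv_symm]

/-- Compatibility of the two Brauer correspondences through `N_G(P)`. -/
theorem blockCoeff_sub_subgroupBlockCoeff {p : ℕ} [Fact p.Prime] (hM : IsPModular p M)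
    (P H : Subgroup G) (hP : IsPGroup p P) (hH : Subgroup.normalizer (P : Set G) ≤ H)
    {b : Set (IrrCharacter (Subgroup.normalizer (P : Set G)))} {B : Set (IrrCharacter G)}
    {c : Set (IrrCharacter H)}
    (hbD : IsDefectGroup p M b (P.subgroupOf (Subgroup.normalizer (P : Set G))))
    (hind : IsInducedBlock M (Subgroup.normalizer (P : Set G)) b B)
    (hind' : IsInducedBlock M (Subgroup.normalizer ((P.subgroupOf H : Subgroup H) : Set H))
      (pullBlock (normEquiv P H hH) b) c)
    (x : G) (hx : x ∈ Subgroup.centralizer (P : Set G)) :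
    MemLocalIdeal M (blockCoeff B x - subgroupBlockCoeff H c x) := by
  classical
  have hMp := isPrime_of_isPModular hM
  have : Fintype (IrrCharacter G) := Fintype.ofFinite _
  have : Fintype (Subgroup.normalizer (P : Set G)) := Fintype.ofFinite _
  have : Fintype (IrrCharacter (Subgroup.normalizer (P : Set G))) := Fintype.ofFinite _
  have : Fintype H := Fintype.ofFinite _
  have : Fintype (IrrCharacter H) := Fintype.ofFinite _
  have : Fintype (Subgroup.normalizer ((P.subgroupOf H : Subgroup H) : Set H)) :=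
    Fintype.ofFinite _
  have : Fintype (IrrCharacter (Subgroup.normalizer ((P.subgroupOf H : Subgroup H) : Set H))) :=
    Fintype.ofFinite _
  have hxN : x ∈ Subgroup.normalizer (P : Set G) := Subgroup.centralizer_le_normalizer _ hx
  have hxH : x ∈ H := hH hxN
  set φ := normEquiv P H hH with hφ
  set x' := φ.symm ⟨x, hxN⟩ with hx'
  have hx'G : ((x' : H) : G) = x := coe_normEquiv_symm P H hH ⟨x, hxN⟩
  have hx'H : (x' : H) = ⟨x, hxH⟩ := Subtype.ext hx'G
  have hx'C : (x' : H) ∈ Subgroup.centralizer ((P.subgroupOf H : Subgroup H) : Set H) := by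
    apply mem_centralizer_subgroupOf_of_mem_centralizer
    rw [hx'G]
    exact hx
  have hb'D := isDefectGroup_pullBlock φ hbD
  rw [hφ, comap_normEquiv] at hb'D
  have a1 := blockCoeff_sub_of_induced hM (P.subgroupOf H) hP.comap_subtype hb'D hind' x' hx'C
  rw [blockCoeff_pullBlock, hx', MulEquiv.apply_symm_apply, ← hx', hx'H] at a1
  have a2 := blockCoeff_sub_of_induced hM P hP hbD hind ⟨x, hxN⟩ hx
  have e : subgroupBlockCoeff H c x = blockCoeff c ⟨x, hxH⟩ := by
    rw [subgroupBlockCoeff]
    exact dif_pos hxH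
  rw [e]
  have := li_sub hMp a2 a1
  convert this using 1
  ring

end Over

end Cfsg.Agent.Helper23.BC
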