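import Mathlib
import Cfsg.Prelude.Def_Blocks
import Cfsg.Prelude.Def_BlockLocal
import Cfsg.Prelude.Def_BrauerPairs
import Cfsg.Agent.Helper23.StableBlocks

set_option autoImplicit false

/-!
# Normal inclusion of Brauer pairs
-/

namespace Cfsg.Agent.Helper23.SP

open Cfsg Cfsg.Agent.Helper24 Cfsg.Agent.Helper5 Cfsg.Agent.Helper5.Loc Cfsg.Agent.Helper5.CC
open Cfsg.Agent.Helper23.BT Cfsg.Agent.Helper23.TM Cfsg.Agent.Helper23.SB

variable {G : Type*} [Group G] {M : Ideal AlgInt}

/-- A stable set is stabilized elementwise in the sense of `StabilizesBlock`. -/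
theorem stabilizesBlock_of_isStableSet {K P : Subgroup G}
    {hPK : P ≤ Subgroup.normalizer (K : Set G)} {f : Set (IrrCharacter K)}
    (hf : IsStableSet K P hPK f) (x : G) (hx : x ∈ P) : StabilizesBlock K f x := by
  refine ⟨hPK hx, fun χ hχ => ⟨pullIrr (conjEquiv K x (hPK hx)) χ, ?_, ?_⟩⟩
  · have := hf ⟨x, hx⟩
    rw [← this]
    exact (pullIrr_mem_pullBlock_iff _ f χ).mpr hχ
  · exact isConjCharOf_conjIrrN K x (hPK hx) χ

theorem eq_pullIrr_of_isConjCharOf {K : Subgroup G} {x : G}
    (hx : x ∈ Subgroup.normalizer (K : Set G)) {χ χ' : IrrCharacter K}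
    (h : IsConjCharOf K x (χ : K → ℂ) (χ' : K → ℂ)) :
    χ' = pullIrr (conjEquiv K x hx) χ := by
  apply Subtype.ext
  funext k
  rw [pullIrr_apply]
  apply h
  rw [conjEquiv_apply]
  group

/-- Elementwise stability implies stability as a set (finiteness). -/
theorem isStableSet_of_stabilizesBlock [Finite G] {K P : Subgroup G}
    (hPK : P ≤ Subgroup.normalizer (K : Set G)) {f : Set (IrrCharacter K)}
    (hf : ∀ x ∈ P, StabilizesBlock K f x) : IsStableSet K P hPK f := by
  intro u
  have hsub : pullBlock (conjEquiv K (u : G) (hPK u.2)) f ⊆ f := by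
    rw [pullBlock_eq_image]
    rintro _ ⟨χ, hχ, rfl⟩
    obtain ⟨χ', hχ', hc⟩ := (hf u u.2).2 χ hχ
    rw [← eq_pullIrr_of_isConjCharOf (hPK u.2) hc]
    exact hχ'
  apply Set.eq_of_subset_of_ncard_le hsub _ (Set.toFinite f)
  rw [pullBlock_eq_image, Set.ncard_image_of_injective]
  intro χ₁ χ₂ h
  have := congrArg (pullIrr (conjEquiv K (u : G) (hPK u.2)).symm) h
  rwa [pullIrr_symm_pullIrr, pullIrr_symm_pullIrr] at this

theorem brauerOmega_ext0_eq_act {P K : Subgroup G}
    [Fintype (Subgroup.centralizer (P : Set G))]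
    (hCK : Subgroup.centralizer (P : Set G) ≤ K) (d : K → ℂ)
    (ξ : IrrCharacter (Subgroup.centralizer (P : Set G))) :
    brauerOmega P (ext0 K d) (ξ : Subgroup.centralizer (P : Set G) → ℂ) =
      act (fun x : Subgroup.centralizer (P : Set G) => d ⟨x, hCK x.2⟩) ξ := by
  rw [brauerOmega, finsum_eq_sum_of_fintype, act, Finset.sum_div]
  refine Finset.sum_congr rfl fun x _ => ?_
  rw [ext0_of_mem K d (hCK x.2)]

/-- The Brauer functional of a central element of `K` only depends on the block of `ξ`. -/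
theorem brauerOmega_ext0_sub_li (hMp : M.IsPrime) {P K : Subgroup G}
    [Fintype (Subgroup.centralizer (P : Set G))]
    (hCK : Subgroup.centralizer (P : Set G) ≤ K) (d : K → ℂ) (hd : IsClassFunction K d)
    (hdM : ∀ k, MemLocalRing M (d k))
    {ξ ξ' : IrrCharacter (Subgroup.centralizer (P : Set G))}
    (h : SameBlock M (ξ : Subgroup.centralizer (P : Set G) → ℂ)
      (ξ' : Subgroup.centralizer (P : Set G) → ℂ)) :
    MemLocalIdeal M (brauerOmega P (ext0 K d) (ξ : Subgroup.centralizer (P : Set G) → ℂ) -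
      brauerOmega P (ext0 K d) (ξ' : Subgroup.centralizer (P : Set G) → ℂ)) := by
  rw [brauerOmega_ext0_eq_act hCK, brauerOmega_ext0_eq_act hCK]
  apply act_sub_act_memLocalIdeal hMp _ (fun t => hdM _) h
  intro g x
  exact hd ⟨g, hCK g.2⟩ ⟨x, hCK x.2⟩

variable [Fintype G]

/-- Membership of a pair in a block can be tested on one member. -/
theorem isBrauerPairOf_iff_one {p : ℕ} [Fact p.Prime] (hM : IsPModular p M) (P : Subgroup G)
    [Fintype (Subgroup.centralizer (P : Set G))]
    (e : Set (IrrCharacter (Subgroup.centralizer (P : Set G)))) (hPe : IsBrauerPair p M P e)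
    (ξ₀ : IrrCharacter (Subgroup.centralizer (P : Set G))) (hξ₀ : ξ₀ ∈ e)
    (B : Set (IrrCharacter G)) (hB : IsPBlock M B) :
    IsBrauerPairOf p M B P e ↔
      MemLocalIdeal M (brauerOmega P (blockCoeff B)
        (ξ₀ : Subgroup.centralizer (P : Set G) → ℂ) - 1) := by
  classical
  have : Fintype (IrrCharacter G) := Fintype.ofFinite _
  have hMp := isPrime_of_isPModular hM
  have he := isClassFunction_blockCoeff B
  have heM : ∀ t, MemLocalRing M (blockCoeff B t) := osima hMp B hB
  constructor
  · rintro ⟨-, -, h⟩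
    exact h ξ₀ hξ₀
  · intro h0
    refine ⟨hPe, hB, ?_⟩
    intro ξ hξ
    rw [Cfsg.Agent.Helper23.BP.brauerOmega_eq_act] at h0 ⊢
    have hsb := sameBlock_of_mem hMp hPe.2 hξ hξ₀
    have h1 := act_sub_act_memLocalIdeal hMp
      (isClassFunction_brRes (P := P) (H := Subgroup.centralizer (P : Set G))
        (Subgroup.centralizer_le_normalizer _) he)
      (lr_brRes hMp heM) hsb
    have := li_add hMp h1 h0
    convert this using 1
    ring

/-- The normal-subpair condition at `ξ₀`, for a stable block `f`, says that the stable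
correspondent of `ξ₀` lies in `f`. -/
theorem normalSubpair_cond_iff {p : ℕ} [Fact p.Prime] (hM : IsPModular p M) (P K : Subgroup G)
    (hPK : P ≤ Subgroup.normalizer (K : Set G))
    [Fintype (Subgroup.centralizer (P : Set G))] [Fintype K]
    {ξ₀ : IrrCharacter (Subgroup.centralizer (P : Set G))} {θ : IrrCharacter K}
    (hθ : IsStableCorr M P K ξ₀ θ) (f : Set (IrrCharacter K)) (hf : IsPBlock M f)
    (hfs : IsStableSet K P hPK f) :
    MemLocalIdeal M (brauerOmega P (subgroupBlockCoeff K f)
      (ξ₀ : Subgroup.centralizer (P : Set G) → ℂ) - 1) ↔ θ ∈ f := by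
  classical
  have : Fintype (IrrCharacter K) := Fintype.ofFinite _
  have hMp := isPrime_of_isPModular hM
  have a := hθ.apply_ext0 hMp hPK (blockCoeff f) (isClassFunction_blockCoeff f)
    (blockCoeff_conjEquiv_of_isStableSet hfs) (osima hMp f hf)
  rw [act_blockCoeff] at a
  rw [subgroupBlockCoeff_eq_ext0]
  constructor
  · intro h
    by_contra hcon
    rw [if_neg hcon, sub_zero] at a
    have := li_sub hMp a h
    rw [sub_sub_cancel] at this
    exact not_memLocalIdeal_one hMp this
  · intro h
    rw [if_pos h] at a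
    exact a

omit [Fintype G] in
theorem le_normalizer_centralizer {P Q : Subgroup G}
    (hPN : P ≤ Subgroup.normalizer (Q : Set G)) :
    P ≤ Subgroup.normalizer ((Subgroup.centralizer (Q : Set G) : Subgroup G) : Set G) := by
  intro x hx
  rw [Subgroup.mem_normalizer_iff]
  intro c
  exact (conj_mem_centralizer_iff (P := Q) (h := c) (hPN hx)).symm

/-- **Uniqueness of normal subpairs** (= S4656). -/
theorem existsUnique_normalSubpair {p : ℕ} [Fact p.Prime] (hM : IsPModular p M)
    (P Q : Subgroup G) (e : Set (IrrCharacter (Subgroup.centralizer (P : Set G))))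
    (hPe : IsBrauerPair p M P e) (hQP : Q ≤ P)
    (hPN : P ≤ Subgroup.normalizer (Q : Set G)) :
    ∃! f : Set (IrrCharacter (Subgroup.centralizer (Q : Set G))),
      IsNormalSubpair p M Q f P e := by
  classical
  have hMp := isPrime_of_isPModular hM
  have : Fintype (Subgroup.centralizer (P : Set G)) := Fintype.ofFinite _
  have : Fintype (Subgroup.centralizer (Q : Set G)) := Fintype.ofFinite _
  have : Fintype (IrrCharacter (Subgroup.centralizer (Q : Set G))) := Fintype.ofFinite _
  have hPK := le_normalizer_centralizer hPN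
  have hCK : Subgroup.centralizer (P : Set G) ≤ Subgroup.centralizer (Q : Set G) :=
    Subgroup.centralizer_le hQP
  obtain ⟨ξ₀, hξ₀⟩ := IsPBlock.nonempty hMp hPe.2
  obtain ⟨θ, hθ⟩ := exists_isStableCorr hM P (Subgroup.centralizer (Q : Set G)) hPe.1 hPK hCK ξ₀
  have hst := isStableSet_blockOf_of_isStableCorr hM (Subgroup.centralizer (Q : Set G)) P hPe.1
    hPK hCK hθ
  have hQ : IsPGroup p Q := hPe.1.to_le hQP
  refine ⟨blockOf M (θ : Subgroup.centralizer (Q : Set G) → ℂ), ?_, ?_⟩
  · refine ⟨⟨hQ, isPBlock_blockOf θ⟩, hPe, hQP, hPN,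
      fun x hx => stabilizesBlock_of_isStableSet hst x hx, ?_⟩
    intro ξ hξ
    have h1 := (normalSubpair_cond_iff hM P (Subgroup.centralizer (Q : Set G)) hPK hθ _
      (isPBlock_blockOf θ) hst).mpr (mem_blockOf_self hMp θ)
    rw [subgroupBlockCoeff_eq_ext0] at h1 ⊢
    have h2 := brauerOmega_ext0_sub_li hMp hCK (blockCoeff (blockOf M
      (θ : Subgroup.centralizer (Q : Set G) → ℂ))) (isClassFunction_blockCoeff _)
      (osima hMp _ (isPBlock_blockOf θ)) (sameBlock_of_mem hMp hPe.2 hξ hξ₀)
    have := li_add hMp h2 h1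
    convert this using 1
    ring
  · intro f' hf'
    have hf's := isStableSet_of_stabilizesBlock hPK hf'.2.2.2.2.1
    have hθf' := (normalSubpair_cond_iff hM P (Subgroup.centralizer (Q : Set G)) hPK hθ f'
      hf'.1.2 hf's).mp (hf'.2.2.2.2.2 ξ₀ hξ₀)
    exact IsPBlock_eq_blockOf hMp hf'.1.2 hθf'

/-- **A normal subpair belongs to the same block** (one step of S4658). -/
theorem isBrauerPairOf_iff_of_normalSubpair {p : ℕ} [Fact p.Prime] (hM : IsPModular p M)
    (P R : Subgroup G) (e : Set (IrrCharacter (Subgroup.centralizer (P : Set G))))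
    (g : Set (IrrCharacter (Subgroup.centralizer (R : Set G))))
    (h : IsNormalSubpair p M R g P e) (B : Set (IrrCharacter G)) (hB : IsPBlock M B) :
    IsBrauerPairOf p M B P e ↔ IsBrauerPairOf p M B R g := by
  classical
  have hMp := isPrime_of_isPModular hM
  have : Fintype (IrrCharacter G) := Fintype.ofFinite _
  have : Fintype (Subgroup.centralizer (P : Set G)) := Fintype.ofFinite _
  have : Fintype (Subgroup.centralizer (R : Set G)) := Fintype.ofFinite _
  obtain ⟨hRg, hPe, hRP, hPN, hstab, hlast⟩ := h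
  have hPK := le_normalizer_centralizer hPN
  have hCK : Subgroup.centralizer (P : Set G) ≤ Subgroup.centralizer (R : Set G) :=
    Subgroup.centralizer_le hRP
  obtain ⟨ξ₀, hξ₀⟩ := IsPBlock.nonempty hMp hPe.2
  obtain ⟨θ, hθ⟩ := exists_isStableCorr hM P (Subgroup.centralizer (R : Set G)) hPe.1 hPK hCK ξ₀
  have hgs := isStableSet_of_stabilizesBlock hPK hstab
  have hθg : θ ∈ g := (normalSubpair_cond_iff hM P (Subgroup.centralizer (R : Set G)) hPK hθ g
    hRg.2 hgs).mp (hlast ξ₀ hξ₀)
  rw [isBrauerPairOf_iff_one hM P e hPe ξ₀ hξ₀ B hB, isBrauerPairOf_iff_one hM R g hRg θ hθg B hB]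
  have he := isClassFunction_blockCoeff B
  have heM : ∀ t, MemLocalRing M (blockCoeff B t) := osima hMp B hB
  have a := hθ.apply_ext0 hMp hPK (fun k : Subgroup.centralizer (R : Set G) =>
    blockCoeff B (k : G))
    (fun k x => by
      show blockCoeff B ((x * k * x⁻¹ : Subgroup.centralizer (R : Set G)) : G) = _
      rw [Subgroup.coe_mul, Subgroup.coe_mul, Subgroup.coe_inv]
      exact he _ _)
    (fun u k => by
      show blockCoeff B ((conjEquiv _ (u : G) (hPK u.2) k : Subgroup.centralizer (R : Set G)) : G)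
        = blockCoeff B (k : G)
      rw [conjEquiv_apply]
      have := he (k : G) ((u : G)⁻¹)
      rwa [inv_inv] at this)
    (fun k => heM _)
  have e1 : brauerOmega P (ext0 (Subgroup.centralizer (R : Set G))
      (fun k : Subgroup.centralizer (R : Set G) => blockCoeff B (k : G)))
      (ξ₀ : Subgroup.centralizer (P : Set G) → ℂ) =
      brauerOmega P (blockCoeff B) (ξ₀ : Subgroup.centralizer (P : Set G) → ℂ) := by
    rw [brauerOmega, brauerOmega]
    refine finsum_congr fun x => ?_
    rw [ext0_of_mem _ _ (hCK x.2)]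
  have e2 : act (fun k : Subgroup.centralizer (R : Set G) => blockCoeff B (k : G)) θ =
      brauerOmega R (blockCoeff B) (θ : Subgroup.centralizer (R : Set G) → ℂ) := by
    rw [brauerOmega, finsum_eq_sum_of_fintype, act, Finset.sum_div]
  rw [e1, e2] at a
  constructor
  · intro h1
    have := li_sub hMp h1 a
    convert this using 1
    ring
  · intro h1
    have := li_add hMp a h1
    convert this using 1
    ring

/-- **Pairs below a pair of `B` are pairs of `B`, and conversely** (= S4658). -/
theorem isBrauerPairOf_iff_of_subpairLE {p : ℕ} [Fact p.Prime] (hM : IsPModular p M)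
    (B : Set (IrrCharacter G)) (hB : IsPBlock M B) (a b : BrauerPairIdx G)
    (hle : Relation.ReflTransGen (NormalSubpairRel p M) a b) :
    IsBrauerPairOf p M B b.1 b.2 ↔ IsBrauerPairOf p M B a.1 a.2 := by
  induction hle with
  | refl => exact Iff.rfl
  | tail _ hbc ih =>
    exact (isBrauerPairOf_iff_of_normalSubpair hM _ _ _ _ hbc B hB).trans ih

end Cfsg.Agent.Helper23.SP
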