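import Mathlib
import Cfsg.Prelude.Def_Blocks
import Cfsg.Prelude.Def_BlockLocal
import Cfsg.Prelude.Def_BrauerPairs
import Cfsg.Agent.Helper23.Subpairs
import Cfsg.Agent.Helper23.BrauerCorr
import Cfsg.Agent.Helper23.NormalSupport
import Cfsg.Agent.Helper5.BrauerMap2
import Cfsg.Agent.Helper5.FixedSum
import Cfsg.Agent.Helper5.MinMax
import Cfsg.Agent.S0964
import Cfsg.Agent.S0909

set_option autoImplicit false
set_option linter.unusedSectionVars false
set_option linter.unusedVariables false

/-!
# Maximal Brauer pairs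

Tools: multiplicativity of the Brauer map on `P`-invariant functions, existence of normal
superpairs, stable blocks inside a stable union of blocks.
-/

namespace Cfsg.Agent.Helper23.MP

open Cfsg Cfsg.Agent.Helper24 Cfsg.Agent.Helper5 Cfsg.Agent.Helper5.Loc Cfsg.Agent.Helper5.CC
open Cfsg.Agent.Helper14
open Cfsg.Agent.Helper23.BT Cfsg.Agent.Helper23.IC Cfsg.Agent.Helper23.TM
open Cfsg.Agent.Helper23.SB Cfsg.Agent.Helper23.TMH Cfsg.Agent.Helper23.SP
open Cfsg.Agent.Helper23.BC
open scoped Pointwise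

variable {G : Type*} [Group G] {M : Ideal AlgInt}

section Mult

variable [Fintype G]

/-- **The Brauer map is multiplicative modulo `M`** on `P`-invariant functions. -/
theorem brRes_conv_of_invariant {p : ℕ} [Fact p.Prime] (hM : IsPModular p M) (P H : Subgroup G)
    [Fintype H] (hP : IsPGroup p P) (hCH : Subgroup.centralizer (P : Set G) ≤ H)
    {c d : G → ℂ} (hc : ∀ x ∈ P, ∀ g, c (x * g * x⁻¹) = c g)
    (hd : ∀ x ∈ P, ∀ g, d (x * g * x⁻¹) = d g)
    (hcM : ∀ t, MemLocalRing M (c t)) (hdM : ∀ t, MemLocalRing M (d t)) (h : H) :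
    MemLocalIdeal M (brRes P H (conv c d) h - conv (brRes P H c) (brRes P H d) h) := by
  classical
  have hMp := isPrime_of_isPModular hM
  by_cases hh : (h : G) ∈ Subgroup.centralizer (P : Set G)
  · have e1 : brRes P H (conv c d) h = ∑ t : G, c t * d (t⁻¹ * (h : G)) := by
      rw [brRes, cut_of_mem _ hh]
      rfl
    have e2 : conv (brRes P H c) (brRes P H d) h =
        ∑ t ∈ Finset.univ.filter (fun t : G => t ∈ Subgroup.centralizer (P : Set G)),
          c t * d (t⁻¹ * (h : G)) := by
      simp only [conv]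
      have hterm : ∀ t : H, brRes P H c t * brRes P H d (t⁻¹ * h) =
          (fun s : G => if s ∈ Subgroup.centralizer (P : Set G) then c s * d (s⁻¹ * (h : G))
            else 0) (t : G) := by
        intro t
        beta_reduce
        by_cases ht : (t : G) ∈ Subgroup.centralizer (P : Set G)
        · have ht' : ((t⁻¹ * h : H) : G) ∈ Subgroup.centralizer (P : Set G) := by
            rw [Subgroup.coe_mul, Subgroup.coe_inv]
            exact Subgroup.mul_mem _ (Subgroup.inv_mem _ ht) hh
          rw [if_pos ht, brRes, cut_of_mem _ ht, brRes, cut_of_mem _ ht']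
          simp only [Subgroup.coe_mul, Subgroup.coe_inv]
        · rw [if_neg ht, brRes, cut_of_not_mem _ ht, zero_mul]
      rw [Finset.sum_congr rfl (fun t _ => hterm t)]
      rw [sum_subgroup_eq_sum H (fun s : G => if s ∈ Subgroup.centralizer (P : Set G)
          then c s * d (s⁻¹ * (h : G)) else 0)
          (fun t ht => if_neg (fun h' => ht (hCH h'))), Finset.sum_filter]
    rw [e1, e2]
    let _ := conjActAll P
    have hsmul : ∀ (x : P) (t : G), x • t = (x : G) * t * (x : G)⁻¹ := fun _ _ => rfl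
    have hinv : ∀ (x : P) (t : G), c (x • t) * d ((x • t)⁻¹ * (h : G)) =
        c t * d (t⁻¹ * (h : G)) := by
      intro x t
      rw [hsmul, hc (x : G) x.2 t]
      congr 1
      have hxw : (x : G) * (h : G) = (h : G) * (x : G) := by
        rw [Subgroup.mem_centralizer_iff] at hh
        exact hh x x.2
      have : ((x : G) * t * (x : G)⁻¹)⁻¹ * (h : G) = (x : G) * (t⁻¹ * (h : G)) * (x : G)⁻¹ := by
        have hxw' : (h : G) * (x : G)⁻¹ = (x : G)⁻¹ * (h : G) := by
          rw [eq_inv_mul_iff_mul_eq, ← mul_assoc, hxw, mul_assoc, mul_inv_cancel, mul_one]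
        calc ((x : G) * t * (x : G)⁻¹)⁻¹ * (h : G) = (x : G) * t⁻¹ * ((x : G)⁻¹ * (h : G)) := by
              group
          _ = (x : G) * t⁻¹ * ((h : G) * (x : G)⁻¹) := by rw [hxw']
          _ = (x : G) * (t⁻¹ * (h : G)) * (x : G)⁻¹ := by group
      rw [this]
      exact hd (x : G) x.2 _
    have hfix := sum_sub_sum_fixedPoints_memLocalIdeal hM (P := P) hP
      (fun t : G => c t * d (t⁻¹ * (h : G))) hinv (fun t => lr_mul hMp (hcM t) (hdM _))
    have hfilter : Finset.univ.filter (fun t : G => t ∈ MulAction.fixedPoints P G) =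
        Finset.univ.filter (fun t : G => t ∈ Subgroup.centralizer (P : Set G)) := by
      ext t
      simp only [Finset.mem_filter, Finset.mem_univ, true_and]
      exact mem_fixedPoints_conjActAll_iff P t
    rw [hfilter] at hfix
    exact hfix
  · have e1 : brRes P H (conv c d) h = 0 := by rw [brRes, cut_of_not_mem _ hh]
    have e2 : conv (brRes P H c) (brRes P H d) h = 0 := by
      simp only [conv]
      apply Finset.sum_eq_zero
      intro t _
      by_cases ht : (t : G) ∈ Subgroup.centralizer (P : Set G)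
      · have ht' : ((t⁻¹ * h : H) : G) ∉ Subgroup.centralizer (P : Set G) := by
          intro hcon
          apply hh
          have := Subgroup.mul_mem _ ht hcon
          rw [Subgroup.coe_mul, Subgroup.coe_inv, mul_inv_cancel_left] at this
          exact this
        rw [brRes, brRes, cut_of_not_mem _ ht', mul_zero]
      · rw [brRes, cut_of_not_mem _ ht, zero_mul]
    rw [e1, e2, sub_zero]
    exact memLocalIdeal_zero hMp

/-- Convolution commutes with extension by zero from a subgroup. -/
theorem conv_ext0 (K : Subgroup G) [Fintype K] (c d : K → ℂ) :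
    conv (ext0 K c) (ext0 K d) = ext0 K (conv c d) := by
  classical
  funext g
  simp only [conv]
  by_cases hg : g ∈ K
  · rw [ext0_of_mem K _ hg]
    simp only [conv]
    rw [← Cfsg.Agent.Helper5.RS.sum_subgroup_eq_sum' K
      (fun t => ext0 K c t * ext0 K d (t⁻¹ * g))
      (fun t ht => by simp only [ext0_of_not_mem K c ht, zero_mul])]
    refine Finset.sum_congr rfl fun t _ => ?_
    rw [ext0_coe]
    have : (t : G)⁻¹ * g = ((t⁻¹ * ⟨g, hg⟩ : K) : G) := by
      rw [Subgroup.coe_mul, Subgroup.coe_inv]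
    rw [this, ext0_coe]
  · rw [ext0_of_not_mem K _ hg]
    apply Finset.sum_eq_zero
    intro t _
    by_cases ht : t ∈ K
    · have : t⁻¹ * g ∉ K := by
        intro h
        apply hg
        have := K.mul_mem ht h
        rwa [mul_inv_cancel_left] at this
      rw [ext0_of_not_mem K d this, mul_zero]
    · rw [ext0_of_not_mem K c ht, zero_mul]

/-- Conjugation invariance of the extension by zero of a stable function. -/
theorem ext0_conj_of_stable {P K : Subgroup G} (hPK : P ≤ Subgroup.normalizer (K : Set G))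
    (d : K → ℂ) (hdP : ∀ (u : P) (k : K), d (conjEquiv K (u : G) (hPK u.2) k) = d k)
    (x : G) (hx : x ∈ P) (g : G) : ext0 K d (x * g * x⁻¹) = ext0 K d g := by
  have hxN := hPK hx
  by_cases hg : g ∈ K
  · have hg' : x * g * x⁻¹ ∈ K := (mem_normalizer_conj_iff hxN).mpr hg
    rw [ext0_of_mem K d hg', ext0_of_mem K d hg]
    have hx' : x⁻¹ ∈ P := P.inv_mem hx
    have := hdP ⟨x⁻¹, hx'⟩ ⟨g, hg⟩
    rw [← this]
    congr 1
    apply Subtype.ext
    rw [conjEquiv_apply]
    simp
  · have hg' : x * g * x⁻¹ ∉ K := fun h' => hg ((mem_normalizer_conj_iff hxN).mp h')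
    rw [ext0_of_not_mem K d hg', ext0_of_not_mem K d hg]

/-- **Existence of a normal superpair**: if the stable block `f` of `C_G(Q)` has an idempotent
coefficient outside the local ideal at an element centralizing `R ⊵ Q`, some block `g` of
`C_G(R)` satisfies `(Q, f) ⊴ (R, g)`. -/
theorem exists_normalSubpair_above {p : ℕ} [Fact p.Prime] (hM : IsPModular p M)
    (Q R : Subgroup G) (hQR : Q ≤ R) (hRN : R ≤ Subgroup.normalizer (Q : Set G))
    (hR : IsPGroup p R) (f : Set (IrrCharacter (Subgroup.centralizer (Q : Set G))))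
    (hf : IsPBlock M f)
    (hst : ∀ x ∈ R, StabilizesBlock (Subgroup.centralizer (Q : Set G)) f x)
    (y : G) (hy : y ∈ Subgroup.centralizer (R : Set G))
    (hne : ¬ MemLocalIdeal M (subgroupBlockCoeff (Subgroup.centralizer (Q : Set G)) f y)) :
    ∃ g : Set (IrrCharacter (Subgroup.centralizer (R : Set G))),
      IsNormalSubpair p M Q f R g ∧ ¬ MemLocalIdeal M (blockCoeff g ⟨y, hy⟩) := by
  classical
  have hMp := isPrime_of_isPModular hM
  have : Fintype (Subgroup.centralizer (R : Set G)) := Fintype.ofFinite _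
  have : Fintype (Subgroup.centralizer (Q : Set G)) := Fintype.ofFinite _
  have : Fintype (IrrCharacter (Subgroup.centralizer (Q : Set G))) := Fintype.ofFinite _
  have : Fintype (IrrCharacter (Subgroup.centralizer (R : Set G))) := Fintype.ofFinite _
  have hRK := le_normalizer_centralizer hRN
  have hCK : Subgroup.centralizer (R : Set G) ≤ Subgroup.centralizer (Q : Set G) :=
    Subgroup.centralizer_le hQR
  have hfs := isStableSet_of_stabilizesBlock hRK hst
  set D₁ : G → ℂ := ext0 (Subgroup.centralizer (Q : Set G)) (blockCoeff f) with hD₁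
  have hD₁inv : ∀ x ∈ R, ∀ g, D₁ (x * g * x⁻¹) = D₁ g := fun x hx g =>
    ext0_conj_of_stable hRK (blockCoeff f) (blockCoeff_conjEquiv_of_isStableSet hfs) x hx g
  have hD₁M : ∀ t, MemLocalRing M (D₁ t) := by
    intro t
    by_cases ht : t ∈ Subgroup.centralizer (Q : Set G)
    · rw [hD₁, ext0_of_mem _ _ ht]
      exact osima hMp f hf _
    · rw [hD₁, ext0_of_not_mem _ _ ht]
      exact memLocalRing_zero hMp
  have hD₁conv : conv D₁ D₁ = D₁ := by
    rw [hD₁, conv_ext0, conv_blockCoeff_self]
  set φ : Subgroup.centralizer (R : Set G) → ℂ := fun x => blockCoeff f ⟨x, hCK x.2⟩ with hφ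
  have hbr : brRes R (Subgroup.centralizer (R : Set G)) D₁ = φ := by
    funext x
    rw [brRes, cut_of_mem _ x.2, hD₁, ext0_of_mem _ _ (hCK x.2)]
  have hφc : IsClassFunction (Subgroup.centralizer (R : Set G)) φ := by
    intro g x
    exact isClassFunction_blockCoeff f ⟨g, hCK g.2⟩ ⟨x, hCK x.2⟩
  have hφM : ∀ t, MemLocalRing M (φ t) := fun t => osima hMp f hf _
  have hidem : ∀ t, MemLocalIdeal M (conv φ φ t - φ t) := by
    intro t
    have := brRes_conv_of_invariant hM R (Subgroup.centralizer (R : Set G)) hR le_rfl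
      hD₁inv hD₁inv hD₁M hD₁M t
    rw [hD₁conv, hbr] at this
    have h2 := li_neg this
    rwa [neg_sub] at h2
  have hney : ¬ MemLocalIdeal M (φ ⟨y, hy⟩) := by
    intro h
    apply hne
    rw [subgroupBlockCoeff_eq_ext0, ext0_of_mem _ _ (hCK hy)]
    exact h
  obtain ⟨ξ, hξ1, hξ2⟩ := exists_block_of_idem hMp hφc hφM hidem ⟨y, hy⟩ hney
  have hξone : MemLocalIdeal M (act φ ξ - 1) := by
    have h1 : MemLocalIdeal M (act (conv φ φ - φ) ξ) :=
      act_li hMp (isClassFunction_sub (isClassFunction_conv hφc hφc) hφc) hidem ξ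
    rw [act_sub, act_conv hφc] at h1
    have h2 : act φ ξ * act φ ξ - act φ ξ = act φ ξ * (act φ ξ - 1) := by ring
    rw [h2] at h1
    have lr1 := act_lr hMp hφc hφM ξ
    rcases li_of_mul hMp lr1 (lr_sub hMp lr1 (memLocalRing_one hMp)) h1 with h3 | h3
    · exact absurd h3 hξ1
    · exact h3
  refine ⟨blockOf M (ξ : Subgroup.centralizer (R : Set G) → ℂ), ?_, hξ2⟩
  refine ⟨⟨hR.to_le hQR, hf⟩, ⟨hR, isPBlock_blockOf ξ⟩, hQR, hRN, hst, ?_⟩
  intro ξ' hξ'
  rw [subgroupBlockCoeff_eq_ext0, brauerOmega_ext0_eq_act hCK]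
  have h1 : MemLocalIdeal M (act φ ξ - act φ ξ') :=
    act_sub_act_memLocalIdeal hMp hφc hφM hξ'
  have := li_sub hMp hξone h1
  convert this using 1
  ring

/-- The idempotent of a union of blocks is the sum of the idempotents of the blocks inside. -/
theorem blockCoeff_eq_sum_blocks {X : Type*} [Group X] [Fintype X]
    [Fintype (IrrCharacter X)] [Fintype (Set (IrrCharacter X))] (hMp : M.IsPrime)
    (Θ : Set (IrrCharacter X)) (hΘ : ∀ θ ∈ Θ, blockOf M (θ : X → ℂ) ⊆ Θ)
    [DecidablePred (fun b : Set (IrrCharacter X) => IsPBlock M b ∧ b ⊆ Θ)] :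
    ∑ b : Set (IrrCharacter X), (if IsPBlock M b ∧ b ⊆ Θ then blockCoeff b else 0) =
      blockCoeff Θ := by
  classical
  apply eq_of_act_eq
  · apply isClassFunction_sum
    intro b _
    split_ifs
    · exact isClassFunction_blockCoeff b
    · exact isClassFunction_zero
  · exact isClassFunction_blockCoeff Θ
  intro χ
  rw [act_sum, act_blockCoeff, Finset.sum_eq_single (blockOf M (χ : X → ℂ))]
  · by_cases hχ : χ ∈ Θ
    · rw [if_pos ⟨isPBlock_blockOf χ, hΘ χ hχ⟩, act_blockCoeff,
        if_pos (mem_blockOf_self hMp χ), if_pos hχ]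
    · rw [if_neg hχ, if_neg, act_zero]
      rintro ⟨-, h⟩
      exact hχ (h (mem_blockOf_self hMp χ))
  · intro b _ hb
    split_ifs with h
    · rw [act_blockCoeff, if_neg]
      intro hχ
      exact hb (IsPBlock_eq_blockOf hMp h.1 hχ)
    · exact act_zero χ
  · intro h; exact absurd (Finset.mem_univ _) h

/-- **A stable union of blocks with a unit idempotent coefficient at an element centralizing the
`p`-group `D` contains a `D`-stable block with a unit coefficient there.** -/
theorem exists_stable_block_of_coeff {p : ℕ} [Fact p.Prime] (hM : IsPModular p M)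
    (K D : Subgroup G) (hD : IsPGroup p D) (hDK : D ≤ Subgroup.normalizer (K : Set G))
    [Fintype K] [Fintype (IrrCharacter K)]
    (Θ : Set (IrrCharacter K)) (hΘ : ∀ θ ∈ Θ, blockOf M (θ : K → ℂ) ⊆ Θ)
    (hΘs : IsStableSet K D hDK Θ)
    (n : K) (hn : (n : G) ∈ Subgroup.centralizer (D : Set G))
    (hne : ¬ MemLocalIdeal M (blockCoeff Θ n)) :
    ∃ b : Set (IrrCharacter K), IsPBlock M b ∧ b ⊆ Θ ∧ IsStableSet K D hDK b ∧
      ¬ MemLocalIdeal M (blockCoeff b n) := by
  classical
  have hMp := isPrime_of_isPModular hM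
  have : Fintype (Set (IrrCharacter K)) := Fintype.ofFinite _
  by_contra hcon
  push Not at hcon
  apply hne
  let _ := conjMulAction K D hDK
  have hsub : ∀ (u : D) (b : Set (IrrCharacter K)), b ⊆ Θ → u • b ⊆ Θ := by
    intro u b hb
    rw [smul_set_eq_pullBlock K D hDK u b, ← hΘs u]
    intro ξ hξ
    exact hb hξ
  have hsub' : ∀ (u : D) (b : Set (IrrCharacter K)), u • b ⊆ Θ → b ⊆ Θ := by
    intro u b hb
    have := hsub u⁻¹ (u • b) hb
    rwa [inv_smul_smul] at this
  have hf : ∀ (u : D) (b : Set (IrrCharacter K)),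
      (if IsPBlock M (u • b) ∧ u • b ⊆ Θ then blockCoeff (u • b) n else 0) =
        (if IsPBlock M b ∧ b ⊆ Θ then blockCoeff b n else 0) := by
    intro u b
    have h1 : IsPBlock M (u • b) ↔ IsPBlock M b := by
      rw [smul_set_eq_pullBlock K D hDK u b]
      exact isPBlock_pullBlock_iff (M := M) (conjEquiv K (u : G) (hDK u.2)) b
    have h2 : blockCoeff (u • b) n = blockCoeff b n := by
      rw [smul_set_eq_pullBlock K D hDK u b, blockCoeff_pullBlock,
        conjEquiv_eq_self_of_mem_centralizer K D hDK u n hn]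
    have h3 : u • b ⊆ Θ ↔ b ⊆ Θ := ⟨hsub' u b, hsub u b⟩
    by_cases hb : IsPBlock M b ∧ b ⊆ Θ
    · rw [if_pos hb, if_pos ⟨h1.mpr hb.1, h3.mpr hb.2⟩, h2]
    · rw [if_neg hb, if_neg (fun h => hb ⟨h1.mp h.1, h3.mp h.2⟩)]
  have hfM : ∀ b : Set (IrrCharacter K),
      MemLocalRing M (if IsPBlock M b ∧ b ⊆ Θ then blockCoeff b n else 0) := by
    intro b
    split_ifs with hb
    · exact osima hMp b hb.1 n
    · exact memLocalRing_zero hMp
  have h := sum_sub_sum_fixedPoints_memLocalIdeal hM hD
    (fun b : Set (IrrCharacter K) => if IsPBlock M b ∧ b ⊆ Θ then blockCoeff b n else 0) hf hfM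
  have e1 : ∑ b : Set (IrrCharacter K), (if IsPBlock M b ∧ b ⊆ Θ then blockCoeff b n else 0) =
      blockCoeff Θ n := by
    have := congrFun (blockCoeff_eq_sum_blocks (M := M) (X := K) hMp Θ hΘ) n
    rw [Finset.sum_apply] at this
    rw [← this]
    refine Finset.sum_congr rfl fun b _ => ?_
    split_ifs <;> rfl
  rw [e1] at h
  have h2 : MemLocalIdeal M (∑ b ∈ Finset.univ.filter (fun b : Set (IrrCharacter K) =>
      b ∈ MulAction.fixedPoints D (Set (IrrCharacter K))),
      (if IsPBlock M b ∧ b ⊆ Θ then blockCoeff b n else 0)) := by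
    apply li_sum hMp
    intro b hb
    rw [Finset.mem_filter] at hb
    have hbs := (mem_fixedPoints_iff K D hDK b).mp hb.2
    split_ifs with hb'
    · exact hcon b hb'.1 hb'.2 hbs
    · exact memLocalIdeal_zero hMp
  have := li_add hMp h h2
  rwa [sub_add_cancel] at this

end Mult

section Rel

/-- Inner products transport along group isomorphisms. -/
theorem classInner_comp_mulEquiv {X Y : Type*} [Group X] [Group Y] [Fintype X] [Fintype Y]
    (φ : X ≃* Y) (a b : Y → ℂ) :
    classInner (fun x => a (φ x)) (fun x => b (φ x)) = classInner a b := by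
  rw [classInner, classInner, Nat.card_congr φ.toEquiv]
  congr 1
  exact Equiv.sum_comp φ.toEquiv (fun y => a y * (starRingEnd ℂ) (b y))

variable [Fintype G]

/-- The centralizer of `P` computed inside `H ⊇ P·C_G(P)` maps onto `C_G(P)`. -/
theorem map_centralizer_subgroupOf (P H : Subgroup G) (hPH : P ≤ H)
    (hCH : Subgroup.centralizer (P : Set G) ≤ H) :
    (Subgroup.centralizer ((P.subgroupOf H : Subgroup H) : Set H)).map H.subtype =
      Subgroup.centralizer (P : Set G) := by
  have hmap : (P.subgroupOf H).map H.subtype = P := map_subtype_subgroupOf hPH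
  have := map_centralizer_subtype H (P.subgroupOf H) (by rw [hmap]; exact hCH)
  rw [hmap] at this
  exact this

/-- The isomorphism `C_H(P) ≃ C_G(P)` for `H ⊇ P·C_G(P)`. -/
noncomputable def centEquiv (P H : Subgroup G) (hPH : P ≤ H)
    (hCH : Subgroup.centralizer (P : Set G) ≤ H) :
    Subgroup.centralizer ((P.subgroupOf H : Subgroup H) : Set H) ≃*
      Subgroup.centralizer (P : Set G) :=
  liftEquiv H _ _ (map_centralizer_subgroupOf P H hPH hCH)

theorem coe_centEquiv (P H : Subgroup G) (hPH : P ≤ H)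
    (hCH : Subgroup.centralizer (P : Set G) ≤ H)
    (y : Subgroup.centralizer ((P.subgroupOf H : Subgroup H) : Set H)) :
    ((centEquiv P H hPH hCH y : Subgroup.centralizer (P : Set G)) : G) = ((y : H) : G) := rfl

/-- The relative constituents: irreducible characters of `C_G(P)` under the members of a set of
characters of `H`. -/
def relConst (P H : Subgroup G) (hCH : Subgroup.centralizer (P : Set G) ≤ H)
    [Fintype (Subgroup.centralizer (P : Set G))] (b : Set (IrrCharacter H)) :
    Set (IrrCharacter (Subgroup.centralizer (P : Set G))) :=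
  {θ | ∃ ψ ∈ b, classInner (fun c : Subgroup.centralizer (P : Set G) =>
    (ψ : H → ℂ) ⟨c, hCH c.2⟩) (θ : Subgroup.centralizer (P : Set G) → ℂ) ≠ 0}

theorem classInner_centEquiv (P H : Subgroup G) (hPH : P ≤ H)
    (hCH : Subgroup.centralizer (P : Set G) ≤ H)
    [Fintype (Subgroup.centralizer (P : Set G))]
    [Fintype (Subgroup.centralizer ((P.subgroupOf H : Subgroup H) : Set H))]
    (ψ : H → ℂ) (θ : IrrCharacter (Subgroup.centralizer (P : Set G))) :
    classInner (fun n : Subgroup.centralizer ((P.subgroupOf H : Subgroup H) : Set H) =>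
        ψ (n : H))
      ((pullIrr (centEquiv P H hPH hCH) θ : IrrCharacter _) :
        Subgroup.centralizer ((P.subgroupOf H : Subgroup H) : Set H) → ℂ) =
    classInner (fun c : Subgroup.centralizer (P : Set G) => ψ ⟨c, hCH c.2⟩)
      (θ : Subgroup.centralizer (P : Set G) → ℂ) := by
  rw [← classInner_comp_mulEquiv (centEquiv P H hPH hCH)
    (fun c : Subgroup.centralizer (P : Set G) => ψ ⟨c, hCH c.2⟩)
    (θ : Subgroup.centralizer (P : Set G) → ℂ)]
  rfl

/-- Every irreducible character of `C_G(P)` lies under an irreducible character of `H`. -/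
theorem exists_irr_over_rel (P H : Subgroup G) (hPH : P ≤ H)
    (hCH : Subgroup.centralizer (P : Set G) ≤ H) [Fintype H]
    [Fintype (Subgroup.centralizer (P : Set G))]
    (ξ : IrrCharacter (Subgroup.centralizer (P : Set G))) :
    ∃ ψ : IrrCharacter H, classInner (fun c : Subgroup.centralizer (P : Set G) =>
      (ψ : H → ℂ) ⟨c, hCH c.2⟩) (ξ : Subgroup.centralizer (P : Set G) → ℂ) ≠ 0 := by
  classical
  have : Fintype (IrrCharacter H) := Fintype.ofFinite _
  have : Fintype (Subgroup.centralizer ((P.subgroupOf H : Subgroup H) : Set H)) :=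
    Fintype.ofFinite _
  obtain ⟨ψ, hψ⟩ := Cfsg.Agent.S0963.exists_irr_over
    (Subgroup.centralizer ((P.subgroupOf H : Subgroup H) : Set H))
    (pullIrr (centEquiv P H hPH hCH) ξ)
  refine ⟨ψ, ?_⟩
  rwa [classInner_centEquiv] at hψ

/-- The constituents on `C_H(P)` are the pull-back of the relative constituents. -/
theorem constituents_eq_pullBlock (P H : Subgroup G) (hPH : P ≤ H)
    (hCH : Subgroup.centralizer (P : Set G) ≤ H) [Fintype H]
    [Fintype (Subgroup.centralizer (P : Set G))]
    [Fintype (Subgroup.centralizer ((P.subgroupOf H : Subgroup H) : Set H))]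
    (b : Set (IrrCharacter H)) :
    Cfsg.Agent.Helper23.NS.constituents
      (Subgroup.centralizer ((P.subgroupOf H : Subgroup H) : Set H)) b =
      pullBlock (centEquiv P H hPH hCH) (relConst P H hCH b) := by
  ext θ'
  rw [mem_pullBlock_iff]
  constructor
  · rintro ⟨ψ, hψ, hne⟩
    refine ⟨ψ, hψ, ?_⟩
    rw [← classInner_centEquiv P H hPH hCH, pullIrr_pullIrr_symm]
    exact hne
  · rintro ⟨ψ, hψ, hne⟩
    refine ⟨ψ, hψ, ?_⟩
    rw [← classInner_centEquiv P H hPH hCH, pullIrr_pullIrr_symm] at hne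
    exact hne

/-- **The idempotent of a block of `H`, `P·C_G(P) ≤ H ≤ N_G(P)`, is the idempotent of its
constituents on `C_G(P)` extended by zero.** -/
theorem blockCoeff_eq_ext0_rel {p : ℕ} [Fact p.Prime] (hM : IsPModular p M)
    (P H : Subgroup G) (hP : IsPGroup p P) (hPH : P ≤ H)
    (hCH : Subgroup.centralizer (P : Set G) ≤ H) (hHN : H ≤ Subgroup.normalizer (P : Set G))
    [Fintype H] [Fintype (Subgroup.centralizer (P : Set G))]
    (b : Set (IrrCharacter H)) (hb : IsPBlock M b) (h : H) :
    blockCoeff b h =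
      ext0 (Subgroup.centralizer (P : Set G)) (blockCoeff (relConst P H hCH b)) (h : G) := by
  classical
  have hMp := isPrime_of_isPModular hM
  have : Fintype (Subgroup.centralizer ((P.subgroupOf H : Subgroup H) : Set H)) :=
    Fintype.ofFinite _
  have hPn : (P.subgroupOf H).Normal :=
    (Subgroup.normal_subgroupOf_iff_le_normalizer hPH).mpr hHN
  have hP' : IsPGroup p (P.subgroupOf H) := hP.comap_subtype
  have hCn : (Subgroup.centralizer ((P.subgroupOf H : Subgroup H) : Set H)).Normal :=
    Subgroup.normal_centralizer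
  obtain ⟨χ₀, rfl⟩ := hb
  have h1 := Cfsg.Agent.Helper23.NS.blockCoeff_eq_cutCoeff
    (Subgroup.centralizer ((P.subgroupOf H : Subgroup H) : Set H))
    (blockOf M (χ₀ : H → ℂ)) (by
      intro χ hχ χ' θ hθ hθ'
      exact sameBlock_trans hMp hχ
        (Cfsg.Agent.Helper23.NS.sameBlock_of_common_constituent hM (P.subgroupOf H) hP' χ χ' θ
          hθ hθ'))
  rw [h1, constituents_eq_pullBlock P H hPH hCH]
  by_cases hh : (h : G) ∈ Subgroup.centralizer (P : Set G)
  · have hh' : h ∈ Subgroup.centralizer ((P.subgroupOf H : Subgroup H) : Set H) :=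
      mem_centralizer_subgroupOf_of_mem_centralizer hh
    rw [Cfsg.Agent.Helper23.NS.cutCoeff_of_mem _ _ hh', blockCoeff_pullBlock,
      ext0_of_mem _ _ hh]
    rfl
  · have hh' : h ∉ Subgroup.centralizer ((P.subgroupOf H : Subgroup H) : Set H) :=
      fun h' => hh (mem_centralizer_of_mem_centralizer_subgroupOf hPH h')
    rw [Cfsg.Agent.Helper23.NS.cutCoeff_of_not_mem _ _ hh', ext0_of_not_mem _ _ hh]

/-- **Covering, relative form**: the constituents on `C_G(P)` of the members of a block of `H`
lie in the `H`-conjugates of a single block of `C_G(P)`. -/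
theorem covering_rel {p : ℕ} [Fact p.Prime] (hM : IsPModular p M)
    (P H : Subgroup G) (hPH : P ≤ H)
    (hCH : Subgroup.centralizer (P : Set G) ≤ H) (hHN : H ≤ Subgroup.normalizer (P : Set G))
    [Fintype H] [Fintype (Subgroup.centralizer (P : Set G))]
    (b : Set (IrrCharacter H)) (hb : IsPBlock M b)
    (e : Set (IrrCharacter (Subgroup.centralizer (P : Set G)))) (he : IsPBlock M e)
    (ψ₁ : IrrCharacter H) (hψ₁ : ψ₁ ∈ b)
    (ξ : IrrCharacter (Subgroup.centralizer (P : Set G))) (hξ : ξ ∈ e)
    (h₁ : classInner (fun c : Subgroup.centralizer (P : Set G) => (ψ₁ : H → ℂ) ⟨c, hCH c.2⟩)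
      (ξ : Subgroup.centralizer (P : Set G) → ℂ) ≠ 0)
    (θ₂ : IrrCharacter (Subgroup.centralizer (P : Set G)))
    (hθ₂ : θ₂ ∈ relConst P H hCH b) :
    ∃ (x : G) (hx : x ∈ H), θ₂ ∈ pullBlock
      (conjEquiv (Subgroup.centralizer (P : Set G)) x
        (le_normalizer_centralizer hHN hx)) e := by
  classical
  have : Fintype (Subgroup.centralizer ((P.subgroupOf H : Subgroup H) : Set H)) :=
    Fintype.ofFinite _
  have hPn : (P.subgroupOf H).Normal :=
    (Subgroup.normal_subgroupOf_iff_le_normalizer hPH).mpr hHN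
  have hCn : (Subgroup.centralizer ((P.subgroupOf H : Subgroup H) : Set H)).Normal :=
    Subgroup.normal_centralizer
  obtain ⟨ψ₂, hψ₂, h₂⟩ := hθ₂
  obtain ⟨ss, hss⟩ : ∃ ss, ss = centEquiv P H hPH hCH := ⟨_, rfl⟩
  have hcoe : ∀ y, ((ss y : Subgroup.centralizer (P : Set G)) : G) = ((y : H) : G) := by
    intro y
    rw [hss]
    rfl
  have h₁' := h₁
  rw [← classInner_centEquiv P H hPH hCH, ← hss] at h₁'
  have h₂' := h₂
  rw [← classInner_centEquiv P H hPH hCH, ← hss] at h₂'
  obtain ⟨g, θ', hθ', hconj⟩ := Cfsg.Agent.S0964.result p M hM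
    (Subgroup.centralizer ((P.subgroupOf H : Subgroup H) : Set H)) b hb
    (pullBlock ss e) (isPBlock_pullBlock ss he) ψ₁ hψ₁ (pullIrr ss ξ)
    ((pullIrr_mem_pullBlock_iff ss e ξ).mpr hξ) h₁' ψ₂ hψ₂ (pullIrr ss θ₂) h₂'
  refine ⟨((g⁻¹ : H) : G), (g⁻¹ : H).2, ?_⟩
  rw [mem_pullBlock_iff]
  have hθ'' : pullIrr ss.symm θ' ∈ e := (mem_pullBlock_iff ss e θ').mp hθ'
  convert hθ'' using 1
  apply Subtype.ext
  funext c
  rw [pullIrr_apply, pullIrr_apply]
  obtain ⟨cc, hcc⟩ : ∃ cc, cc = (conjEquiv (Subgroup.centralizer (P : Set G)) ((g⁻¹ : H) : G)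
    (le_normalizer_centralizer hHN (g⁻¹ : H).2)).symm c := ⟨_, rfl⟩
  have hccG : (cc : G) = (g : G)⁻¹ * (c : G) * (g : G) := by
    rw [hcc]
    show ((g⁻¹ : H) : G) * (c : G) * ((g⁻¹ : H) : G)⁻¹ = _
    rw [Subgroup.coe_inv, inv_inv]
  rw [← hcc]
  have h3 := hconj (ss.symm cc)
  rw [pullIrr_apply, MulEquiv.apply_symm_apply] at h3
  rw [h3]
  refine congrArg (θ' : Subgroup.centralizer ((P.subgroupOf H : Subgroup H) : Set H) → ℂ) ?_
  apply ss.injective
  rw [MulEquiv.apply_symm_apply]
  apply Subtype.ext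
  rw [hcoe]
  have h4 : (((ss.symm cc : Subgroup.centralizer ((P.subgroupOf H : Subgroup H) : Set H)) : H)
      : G) = (cc : G) := by
    rw [← hcoe, MulEquiv.apply_symm_apply]
  show (g : G) * (((ss.symm cc : Subgroup.centralizer ((P.subgroupOf H : Subgroup H) : Set H)) :
    H) : G) * ((g⁻¹ : H) : G) = (c : G)
  rw [h4, hccG, Subgroup.coe_inv]
  group

/-- The relative constituents are stable under conjugation by elements of `H`. -/
theorem relConst_stable (P H : Subgroup G)
    (hCH : Subgroup.centralizer (P : Set G) ≤ H) (hHN : H ≤ Subgroup.normalizer (P : Set G))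
    [Fintype H] [Fintype (Subgroup.centralizer (P : Set G))]
    (b : Set (IrrCharacter H)) (D : Subgroup G) (hDH : D ≤ H)
    (hDK : D ≤ Subgroup.normalizer
      ((Subgroup.centralizer (P : Set G) : Subgroup G) : Set G)) :
    IsStableSet (Subgroup.centralizer (P : Set G)) D hDK (relConst P H hCH b) := by
  intro u
  ext θ
  rw [mem_pullBlock_iff]
  have key : ∀ ψ : IrrCharacter H,
      classInner (fun c : Subgroup.centralizer (P : Set G) => (ψ : H → ℂ) ⟨c, hCH c.2⟩)
        ((pullIrr (conjEquiv (Subgroup.centralizer (P : Set G)) (u : G) (hDK u.2)).symm θ :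
          IrrCharacter _) : Subgroup.centralizer (P : Set G) → ℂ) =
      classInner (fun c : Subgroup.centralizer (P : Set G) => (ψ : H → ℂ) ⟨c, hCH c.2⟩)
        (θ : Subgroup.centralizer (P : Set G) → ℂ) := by
    intro ψ
    rw [← classInner_comp_mulEquiv (conjEquiv (Subgroup.centralizer (P : Set G)) (u : G)
      (hDK u.2))
      (fun c : Subgroup.centralizer (P : Set G) => (ψ : H → ℂ) ⟨c, hCH c.2⟩)
      ((pullIrr (conjEquiv (Subgroup.centralizer (P : Set G)) (u : G) (hDK u.2)).symm θ :
          IrrCharacter _) : Subgroup.centralizer (P : Set G) → ℂ)]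
    congr 1
    · funext c
      have hu : (u : G) ∈ H := hDH u.2
      have h1 : (⟨((conjEquiv (Subgroup.centralizer (P : Set G)) (u : G) (hDK u.2) c :
          Subgroup.centralizer (P : Set G)) : G), hCH (conjEquiv (Subgroup.centralizer (P : Set G))
          (u : G) (hDK u.2) c).2⟩ : H) =
          (⟨(u : G), hu⟩ : H)⁻¹ * ⟨c, hCH c.2⟩ * (⟨(u : G), hu⟩ : H)⁻¹⁻¹ := by
        apply Subtype.ext
        rw [conjEquiv_apply]
        simp
      rw [h1]
      exact isClassFunction_irr ψ _ _
    · funext c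
      rw [pullIrr_apply, MulEquiv.symm_apply_apply]
  constructor
  · rintro ⟨ψ, hψ, hne⟩
    exact ⟨ψ, hψ, by rwa [key ψ] at hne⟩
  · rintro ⟨ψ, hψ, hne⟩
    exact ⟨ψ, hψ, by rwa [key ψ]⟩

/-- The relative constituents of a block form a union of blocks. -/
theorem blockOf_subset_relConst {p : ℕ} [Fact p.Prime] (hM : IsPModular p M)
    (P H : Subgroup G) (hP : IsPGroup p P) (hPH : P ≤ H)
    (hCH : Subgroup.centralizer (P : Set G) ≤ H) (hHN : H ≤ Subgroup.normalizer (P : Set G))
    [Fintype H] [Fintype (Subgroup.centralizer (P : Set G))]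
    (b : Set (IrrCharacter H)) (hb : IsPBlock M b)
    (θ : IrrCharacter (Subgroup.centralizer (P : Set G))) (hθ : θ ∈ relConst P H hCH b) :
    blockOf M (θ : Subgroup.centralizer (P : Set G) → ℂ) ⊆ relConst P H hCH b := by
  classical
  have hMp := isPrime_of_isPModular hM
  have : Fintype (IrrCharacter H) := Fintype.ofFinite _
  apply Cfsg.Agent.S0909.result p M hM (relConst P H hCH b) _ θ hθ
  intro c
  have h1 := blockCoeff_eq_ext0_rel hM P H hP hPH hCH hHN b hb ⟨c, hCH c.2⟩
  rw [ext0_of_mem _ _ c.2] at h1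
  rw [← h1]
  exact osima hMp b hb _

/-- The scalar by which a class function of `H`, cut down to `C_G(P)`, acts on `ψ` equals the
scalar by which it acts on a constituent of `ψ` on `C_G(P)`. -/
theorem act_cut_eq_of_constituent (P H : Subgroup G) (hPH : P ≤ H)
    (hCH : Subgroup.centralizer (P : Set G) ≤ H) (hHN : H ≤ Subgroup.normalizer (P : Set G))
    [Fintype H] [Fintype (Subgroup.centralizer (P : Set G))]
    (ψ : IrrCharacter H) (ξ : IrrCharacter (Subgroup.centralizer (P : Set G)))
    (h : classInner (fun c : Subgroup.centralizer (P : Set G) => (ψ : H → ℂ) ⟨c, hCH c.2⟩)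
      (ξ : Subgroup.centralizer (P : Set G) → ℂ) ≠ 0)
    (a : H → ℂ) (ha : IsClassFunction H a) :
    act (cut P H a) ψ = act (fun c : Subgroup.centralizer (P : Set G) => a ⟨c, hCH c.2⟩) ξ := by
  classical
  have : Fintype (Subgroup.centralizer ((P.subgroupOf H : Subgroup H) : Set H)) :=
    Fintype.ofFinite _
  have hPn : (P.subgroupOf H).Normal :=
    (Subgroup.normal_subgroupOf_iff_le_normalizer hPH).mpr hHN
  have hCn : (Subgroup.centralizer ((P.subgroupOf H : Subgroup H) : Set H)).Normal :=
    Subgroup.normal_centralizer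
  have h' := h
  rw [← classInner_centEquiv P H hPH hCH] at h'
  have h1 := Cfsg.Agent.Helper5.RS.restrict_scalar_eq
    (Subgroup.centralizer ((P.subgroupOf H : Subgroup H) : Set H)) ψ
    (pullIrr (centEquiv P H hPH hCH) ξ) h' a ha
  rw [act, act]
  have e1 : ∑ t : H, cut P H a t * (ψ : H → ℂ) t =
      ∑ t : Subgroup.centralizer ((P.subgroupOf H : Subgroup H) : Set H),
        a t * (ψ : H → ℂ) t := by
    rw [← Cfsg.Agent.Helper5.RS.sum_subgroup_eq_sum'
      (Subgroup.centralizer ((P.subgroupOf H : Subgroup H) : Set H))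
      (fun t => cut P H a t * (ψ : H → ℂ) t)
      (fun t ht => by
        have : (t : G) ∉ Subgroup.centralizer (P : Set G) := fun h' =>
          ht (mem_centralizer_subgroupOf_of_mem_centralizer h')
        rw [cut_of_not_mem _ this, zero_mul])]
    refine Finset.sum_congr rfl fun t _ => ?_
    rw [cut_of_mem _ (mem_centralizer_of_mem_centralizer_subgroupOf hPH t.2)]
  rw [e1, ← h1]
  have e4 : ((pullIrr (centEquiv P H hPH hCH) ξ : IrrCharacter _) :
      Subgroup.centralizer ((P.subgroupOf H : Subgroup H) : Set H) → ℂ) 1 =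
      (ξ : Subgroup.centralizer (P : Set G) → ℂ) 1 := by
    rw [pullIrr_apply, map_one]
  rw [e4]
  congr 1
  rw [← Equiv.sum_comp (centEquiv P H hPH hCH).toEquiv]
  refine Finset.sum_congr rfl fun t _ => ?_
  rfl

end Rel

section Conj

theorem pullBlock_trans {X Y Z : Type*} [Group X] [Group Y] [Group Z] (φ : X ≃* Y) (ψ : Y ≃* Z)
    (b : Set (IrrCharacter Z)) : pullBlock φ (pullBlock ψ b) = pullBlock (φ.trans ψ) b := by
  ext ξ
  rw [mem_pullBlock_iff, mem_pullBlock_iff, mem_pullBlock_iff]
  rfl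

theorem pullBlock_conj_conj (K : Subgroup G) (x d : G)
    (hx : x ∈ Subgroup.normalizer (K : Set G)) (hd : d ∈ Subgroup.normalizer (K : Set G))
    (r : G) (hr : r ∈ Subgroup.normalizer (K : Set G)) (hrd : r = x⁻¹ * d * x)
    (e : Set (IrrCharacter K))
    (h : pullBlock (conjEquiv K d hd) (pullBlock (conjEquiv K x hx) e) =
      pullBlock (conjEquiv K x hx) e) : pullBlock (conjEquiv K r hr) e = e := by
  subst hrd
  have h2 := congrArg (pullBlock (conjEquiv K x hx).symm) h
  rw [pullBlock_symm_pullBlock, pullBlock_trans, pullBlock_trans] at h2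
  rw [← h2]
  congr 1
  apply MulEquiv.ext
  intro k
  apply Subtype.ext
  show _ = ((conjEquiv K x hx ((conjEquiv K d hd) ((conjEquiv K x hx).symm k)) : K) : G)
  rw [conjEquiv_apply, conjEquiv_apply, conjEquiv_apply]
  have : (((conjEquiv K x hx).symm k : K) : G) = x * (k : G) * x⁻¹ := rfl
  rw [this]
  group

end Conj

section Main

variable [Fintype G]

/-- **The subgroup of a maximal Brauer pair of a block is a defect group of the block**
(= S4659). -/
theorem isDefectGroup_of_isMaximalBrauerPair {p : ℕ} [Fact p.Prime] (hM : IsPModular p M)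
    (B : Set (IrrCharacter G)) (P : Subgroup G)
    (e : Set (IrrCharacter (Subgroup.centralizer (P : Set G))))
    (hmax : IsMaximalBrauerPair p M B P e) : IsDefectGroup p M B P := by
  classical
  have hMp := isPrime_of_isPModular hM
  obtain ⟨⟨hPe, hB, hcond⟩, hmaxc⟩ := hmax
  have hP := hPe.1
  have he := hPe.2
  have : Fintype (IrrCharacter G) := Fintype.ofFinite _
  have : Fintype (Subgroup.normalizer (P : Set G)) := Fintype.ofFinite _
  have : Fintype (IrrCharacter (Subgroup.normalizer (P : Set G))) := Fintype.ofFinite _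
  have : Fintype (Subgroup.centralizer (P : Set G)) := Fintype.ofFinite _
  have : Fintype (IrrCharacter (Subgroup.centralizer (P : Set G))) := Fintype.ofFinite _
  have hPN : P ≤ Subgroup.normalizer (P : Set G) := Subgroup.le_normalizer
  have hCN : Subgroup.centralizer (P : Set G) ≤ Subgroup.normalizer (P : Set G) :=
    Subgroup.centralizer_le_normalizer _
  have hNK : Subgroup.normalizer (P : Set G) ≤ Subgroup.normalizer
      ((Subgroup.centralizer (P : Set G) : Subgroup G) : Set G) :=
    le_normalizer_centralizer le_rfl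
  obtain ⟨ξ, hξ⟩ := IsPBlock.nonempty hMp he
  obtain ⟨ψ, hψ⟩ := exists_irr_over_rel P _ hPN hCN ξ
  set b := blockOf M (ψ : Subgroup.normalizer (P : Set G) → ℂ) with hbdef
  have hb : IsPBlock M b := isPBlock_blockOf ψ
  have hψb : ψ ∈ b := mem_blockOf_self hMp ψ
  -- the block `b` induces `B`
  obtain ⟨B', hind⟩ := Cfsg.Agent.S0919.result p M hM P _ hP hPN hCN le_rfl b hb
  have hB'B : B' = B := by
    obtain ⟨χ', hχ'⟩ := IsPBlock.nonempty hMp hind.2.1
    have heB := isClassFunction_blockCoeff B
    have heBM : ∀ t, MemLocalRing M (blockCoeff B t) := osima hMp B hB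
    have a1 := act_restrict_sub_act_of_induced hMp _ hind hψb hχ' heB heBM
    have hcres : IsClassFunction (Subgroup.normalizer (P : Set G))
        (fun h : Subgroup.normalizer (P : Set G) => blockCoeff B (h : G)) :=
      isClassFunction_res heB
    have a2 := act_sub_act_cut hM P _ hP hPN le_rfl hcres (fun t => heBM _) ψ
    have a3 := act_cut_eq_of_constituent P _ hPN hCN le_rfl ψ ξ hψ _ hcres
    have a4 := hcond ξ hξ
    have e5 : brauerOmega P (blockCoeff B) (ξ : Subgroup.centralizer (P : Set G) → ℂ) =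
        act (fun c : Subgroup.centralizer (P : Set G) => blockCoeff B (c : G)) ξ := by
      rw [brauerOmega, finsum_eq_sum_of_fintype, act, Finset.sum_div]
    rw [e5] at a4
    rw [a3] at a2
    have hχ'B : χ' ∈ B := by
      by_contra hne
      rw [act_blockCoeff, if_neg hne, sub_zero] at a1
      have h3 := li_sub hMp (li_sub hMp a1 a2) a4
      apply not_memLocalIdeal_one hMp
      convert h3 using 1
      ring
    rw [IsPBlock_eq_blockOf hMp hind.2.1 hχ', IsPBlock_eq_blockOf hMp hB hχ'B]
  rw [hB'B] at hind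
  -- a defect group of `b`
  obtain ⟨y, hy⟩ := Cfsg.Agent.S0906.result p M hM b hb
  obtain ⟨S⟩ : Nonempty (Sylow p (Subgroup.centralizer
    ({y} : Set (Subgroup.normalizer (P : Set G))))) := inferInstance
  set D' : Subgroup (Subgroup.normalizer (P : Set G)) :=
    (S : Subgroup _).map (Subgroup.centralizer
      ({y} : Set (Subgroup.normalizer (P : Set G)))).subtype with hD'def
  have hD' : IsDefectGroup p M b D' := ⟨y, hy, S, rfl⟩
  have hD'p : IsPGroup p D' := S.2.map _
  have hPn : (P.subgroupOf (Subgroup.normalizer (P : Set G))).Normal :=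
    (Subgroup.normal_subgroupOf_iff_le_normalizer hPN).mpr le_rfl
  have hP'core : P.subgroupOf (Subgroup.normalizer (P : Set G)) ≤
      pCore p (Subgroup.normalizer (P : Set G)) :=
    le_sSup (show P.subgroupOf (Subgroup.normalizer (P : Set G)) ∈
      {N : Subgroup (Subgroup.normalizer (P : Set G)) | N.Normal ∧ IsPGroup p N} from
      ⟨hPn, hP.comap_subtype⟩)
  have hP'D' : P.subgroupOf (Subgroup.normalizer (P : Set G)) ≤ D' :=
    hP'core.trans (Cfsg.Agent.S0912.result p M hM b hb D' hD')
  by_cases hcase : D' = P.subgroupOf (Subgroup.normalizer (P : Set G))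
  · rw [hcase] at hD'
    obtain ⟨B'', hB'', hB''D, hind''⟩ := (Cfsg.Agent.S0920.result p M hM P hP).1 b hb hD'
    have := induced_unique hMp _ hind'' hind
    rw [← this]
    exact hB''D
  · exfalso
    set D : Subgroup G := D'.map (Subgroup.normalizer (P : Set G)).subtype with hDdef
    have hDN : D ≤ Subgroup.normalizer (P : Set G) := by
      rintro _ ⟨d, _, rfl⟩
      exact d.2
    have hPD : P ≤ D := by
      intro q hq
      exact ⟨⟨q, hPN hq⟩, hP'D' (Subgroup.mem_subgroupOf.mpr hq), rfl⟩
    have hDp : IsPGroup p D := hD'p.map _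
    have hyD : (y : G) ∈ Subgroup.centralizer (D : Set G) := by
      rw [Subgroup.mem_centralizer_iff]
      rintro _ ⟨d, hd, rfl⟩
      obtain ⟨s, hs, rfl⟩ := hd
      have h1 := s.2
      rw [Subgroup.mem_centralizer_iff] at h1
      have h2 := h1 y (Set.mem_singleton y)
      exact (congrArg Subtype.val h2).symm
    have hyC : (y : G) ∈ Subgroup.centralizer (P : Set G) := Subgroup.centralizer_le hPD hyD
    have hDK : D ≤ Subgroup.normalizer
        ((Subgroup.centralizer (P : Set G) : Subgroup G) : Set G) := hDN.trans hNK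
    set Θ := relConst P _ hCN b with hΘdef
    have hΘs := relConst_stable P _ hCN le_rfl b D hDN hDK
    have hΘu := fun θ hθ => blockOf_subset_relConst hM P _ hP hPN hCN le_rfl b hb θ hθ
    have hne : ¬ MemLocalIdeal M (blockCoeff Θ ⟨(y : G), hyC⟩) := by
      have h1 := blockCoeff_eq_ext0_rel hM P _ hP hPN hCN le_rfl b hb y
      rw [ext0_of_mem _ _ hyC] at h1
      rw [← h1]
      exact hy.2.1
    obtain ⟨e'', he'', he''Θ, he''s, he''ne⟩ := exists_stable_block_of_coeff hM _ D hDp hDK Θ
      hΘu hΘs ⟨(y : G), hyC⟩ hyD hne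
    obtain ⟨θ₂, hθ₂⟩ := IsPBlock.nonempty hMp he''
    obtain ⟨x, hx, hθ₂x⟩ := covering_rel hM P _ hPN hCN le_rfl b hb e he ψ hψb ξ hξ hψ θ₂
      (he''Θ hθ₂)
    have hxK : x ∈ Subgroup.normalizer
        ((Subgroup.centralizer (P : Set G) : Subgroup G) : Set G) := hNK hx
    have he''x : e'' = pullBlock (conjEquiv _ x hxK) e := by
      rw [IsPBlock_eq_blockOf hMp he'' hθ₂,
        IsPBlock_eq_blockOf hMp (isPBlock_pullBlock _ he) hθ₂x]
    set R : Subgroup G := D.map (MulAut.conj x⁻¹).toMonoidHom with hRdef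
    have hRmem : ∀ r, r ∈ R ↔ ∃ d ∈ D, r = x⁻¹ * d * x := by
      intro r
      rw [hRdef, Subgroup.mem_map]
      constructor
      · rintro ⟨d, hd, rfl⟩
        exact ⟨d, hd, by simp⟩
      · rintro ⟨d, hd, rfl⟩
        exact ⟨d, hd, by simp⟩
    have hRp : IsPGroup p R := hDp.map _
    have hRN : R ≤ Subgroup.normalizer (P : Set G) := by
      intro r hr
      obtain ⟨d, hd, rfl⟩ := (hRmem r).mp hr
      exact Subgroup.mul_mem _ (Subgroup.mul_mem _ (Subgroup.inv_mem _ hx) (hDN hd)) hx
    have hPR : P ≤ R := by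
      intro q hq
      refine (hRmem q).mpr ⟨x * q * x⁻¹, hPD ?_, by group⟩
      exact (Subgroup.mem_normalizer_iff.mp hx q).mp hq
    have hRK : R ≤ Subgroup.normalizer
        ((Subgroup.centralizer (P : Set G) : Subgroup G) : Set G) := hRN.trans hNK
    have hes : IsStableSet _ R hRK e := by
      rintro ⟨r, hr⟩
      obtain ⟨d, hd, hrd⟩ := (hRmem r).mp hr
      have h1 := he''s ⟨d, hd⟩
      rw [he''x] at h1
      exact pullBlock_conj_conj _ x d hxK (hDK hd) r (hRK hr) hrd e h1
    have hstab : ∀ r ∈ R, StabilizesBlock _ e r := fun r hr =>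
      stabilizesBlock_of_isStableSet hes r hr
    set y₂ : G := x⁻¹ * (y : G) * x with hy₂def
    have hy₂R : y₂ ∈ Subgroup.centralizer (R : Set G) := by
      rw [Subgroup.mem_centralizer_iff]
      intro r hr
      obtain ⟨d, hd, rfl⟩ := (hRmem r).mp hr
      have := (Subgroup.mem_centralizer_iff.mp hyD) d hd
      rw [hy₂def]
      calc x⁻¹ * d * x * (x⁻¹ * (y : G) * x) = x⁻¹ * (d * (y : G)) * x := by group
        _ = x⁻¹ * ((y : G) * d) * x := by rw [this]
        _ = x⁻¹ * (y : G) * x * (x⁻¹ * d * x) := by group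
    have hy₂C : y₂ ∈ Subgroup.centralizer (P : Set G) := Subgroup.centralizer_le hPR hy₂R
    have hne₂ : ¬ MemLocalIdeal M
        (subgroupBlockCoeff (Subgroup.centralizer (P : Set G)) e y₂) := by
      rw [subgroupBlockCoeff_eq_ext0, ext0_of_mem _ _ hy₂C]
      have h1 : blockCoeff e'' ⟨(y : G), hyC⟩ = blockCoeff e ⟨y₂, hy₂C⟩ := by
        rw [he''x, blockCoeff_pullBlock]
        rfl
      rw [← h1]
      exact he''ne
    obtain ⟨g'', hns, -⟩ := exists_normalSubpair_above hM P R hPR hRN hRp e he hstab y₂ hy₂R hne₂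
    have hpair : IsBrauerPairOf p M B R g'' :=
      (isBrauerPairOf_iff_of_normalSubpair hM R P g'' e hns B hB).mpr ⟨hPe, hB, hcond⟩
    have hRP : R = P := hmaxc R g'' hpair (Relation.ReflTransGen.single hns)
    apply hcase
    have hcard : Nat.card D = Nat.card P := by
      rw [← hRP, hRdef]
      exact (Subgroup.card_map_of_injective (MulAut.conj x⁻¹).injective).symm
    have hDP : P = D := Subgroup.eq_of_le_of_card_ge hPD (le_of_eq hcard)
    ext d
    rw [Subgroup.mem_subgroupOf]
    constructor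
    · intro h
      exact (SetLike.ext_iff.mp hDP (d : G)).mpr ⟨d, h, rfl⟩
    · intro h
      obtain ⟨d', hd', hdd⟩ := (SetLike.ext_iff.mp hDP (d : G)).mp h
      have : d' = d := Subtype.ext hdd
      rwa [← this]

end Main

end Cfsg.Agent.Helper23.MP
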