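import Mathlib
import Cfsg.Prelude.Def_Blocks
import Cfsg.Prelude.Def_BlockLocal
import Cfsg.Prelude.Def_BrauerPairs
import Cfsg.Agent.Helper23.Subpairs
import Cfsg.Agent.Helper11.SylowInter

set_option autoImplicit false
set_option linter.unusedSectionVars false

/-!
# Uniqueness of Brauer subpairs (Alperin–Broué)
-/

namespace Cfsg.Agent.Helper23.SU

open Cfsg Cfsg.Agent.Helper24 Cfsg.Agent.Helper5 Cfsg.Agent.Helper5.Loc Cfsg.Agent.Helper5.CC
open Cfsg.Agent.Helper23.BT Cfsg.Agent.Helper23.TM Cfsg.Agent.Helper23.SB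
open Cfsg.Agent.Helper23.SP

variable {G : Type*} [Group G] [Fintype G] {M : Ideal AlgInt} {p : ℕ} [Fact p.Prime]

/-- Every Brauer pair is normally below itself. -/
theorem isNormalSubpair_refl (hM : IsPModular p M) (P : Subgroup G)
    (e : Set (IrrCharacter (Subgroup.centralizer (P : Set G)))) (hPe : IsBrauerPair p M P e) :
    IsNormalSubpair p M P e P e := by
  classical
  have hMp := isPrime_of_isPModular hM
  have : Fintype (Subgroup.centralizer (P : Set G)) := Fintype.ofFinite _
  have : Fintype (IrrCharacter (Subgroup.centralizer (P : Set G))) := Fintype.ofFinite _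
  refine ⟨hPe, hPe, le_rfl, Subgroup.le_normalizer, ?_, ?_⟩
  · intro x hx
    refine ⟨le_normalizer_centralizer (Subgroup.le_normalizer (H := P)) hx,
      fun χ hχ => ⟨χ, hχ, ?_⟩⟩
    intro k k' hk
    have hcomm := (Subgroup.mem_centralizer_iff.mp k.2) x hx
    have : k' = k := by
      apply Subtype.ext
      rw [hk]
      calc x * (k : G) * x⁻¹ = (k : G) * x * x⁻¹ := by rw [hcomm]
        _ = (k : G) := by group
    rw [this]
  · intro ξ hξ
    rw [subgroupBlockCoeff_eq_ext0, brauerOmega_ext0_eq_act le_rfl]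
    have : (fun x : Subgroup.centralizer (P : Set G) =>
        blockCoeff e (⟨x, le_rfl (a := Subgroup.centralizer (P : Set G)) x.2⟩ :
          Subgroup.centralizer (P : Set G))) = blockCoeff e := rfl
    rw [this, act_blockCoeff, if_pos hξ, sub_self]
    exact memLocalIdeal_zero hMp

/-- A normal step between pairs on the same subgroup is trivial. -/
theorem eq_of_normalSubpairRel_of_fst_eq (hM : IsPModular p M) (b c : BrauerPairIdx G)
    (h : NormalSubpairRel p M b c) (hbc : b.1 = c.1) : b = c := by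
  obtain ⟨R, g⟩ := b
  obtain ⟨P, e⟩ := c
  simp only at hbc
  subst hbc
  have h' : IsNormalSubpair p M R g R e := h
  have hu := existsUnique_normalSubpair hM R R e h'.2.1 le_rfl Subgroup.le_normalizer
  have := hu.unique h' (isNormalSubpair_refl hM R e h'.2.1)
  rw [this]

theorem fst_le_of_reflTransGen (a b : BrauerPairIdx G)
    (h : Relation.ReflTransGen (NormalSubpairRel p M) a b) : a.1 ≤ b.1 := by
  induction h with
  | refl => exact le_rfl
  | tail _ hbc ih => exact ih.trans hbc.2.2.1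

/-- A chain between pairs on the same subgroup is trivial. -/
theorem eq_of_reflTransGen_of_fst_eq (hM : IsPModular p M) (a b : BrauerPairIdx G)
    (h : Relation.ReflTransGen (NormalSubpairRel p M) a b) (hab : a.1 = b.1) : a = b := by
  induction h with
  | refl => rfl
  | @tail b' c hab' hbc ih =>
    have h1 : a.1 ≤ b'.1 := fst_le_of_reflTransGen a b' hab'
    have h2 : b'.1 ≤ c.1 := hbc.2.2.1
    have h3 : b'.1 = c.1 := le_antisymm h2 (hab ▸ h1)
    have h4 : a.1 = b'.1 := le_antisymm h1 (h3 ▸ hab ▸ le_rfl)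
    rw [ih h4]
    exact eq_of_normalSubpairRel_of_fst_eq hM b' c hbc h3

/-- A nontrivial chain ends with a proper normal step. -/
theorem exists_proper_last_step (hM : IsPModular p M) (a b : BrauerPairIdx G)
    (h : Relation.ReflTransGen (NormalSubpairRel p M) a b) (hab : a.1 ≠ b.1) :
    ∃ c : BrauerPairIdx G, c.1 ≠ b.1 ∧ Relation.ReflTransGen (NormalSubpairRel p M) a c ∧
      NormalSubpairRel p M c b := by
  induction h with
  | refl => exact absurd rfl hab
  | @tail b' c hab' hbc ih =>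
    by_cases h3 : b'.1 = c.1
    · have hbc' := eq_of_normalSubpairRel_of_fst_eq hM b' c hbc h3
      subst hbc'
      exact ih hab
    · exact ⟨b', h3, hab', hbc⟩

/-- **Key lemma**: normal subpairs of the same pair on nested normal subgroups are nested. -/
theorem isNormalSubpair_of_le (hM : IsPModular p M) {T R P : Subgroup G}
    {h : Set (IrrCharacter (Subgroup.centralizer (T : Set G)))}
    {g : Set (IrrCharacter (Subgroup.centralizer (R : Set G)))}
    {e : Set (IrrCharacter (Subgroup.centralizer (P : Set G)))}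
    (h1 : IsNormalSubpair p M T h P e) (h2 : IsNormalSubpair p M R g P e) (hTR : T ≤ R) :
    IsNormalSubpair p M T h R g := by
  classical
  have hMp := isPrime_of_isPModular hM
  have : Fintype (Subgroup.centralizer (P : Set G)) := Fintype.ofFinite _
  have : Fintype (Subgroup.centralizer (R : Set G)) := Fintype.ofFinite _
  have : Fintype (Subgroup.centralizer (T : Set G)) := Fintype.ofFinite _
  have : Fintype (IrrCharacter (Subgroup.centralizer (T : Set G))) := Fintype.ofFinite _
  obtain ⟨hTh, hPe, hTP, hPNT, hstabT, hlastT⟩ := h1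
  obtain ⟨hRg, -, hRP, hPNR, hstabR, hlastR⟩ := h2
  have hRNT : R ≤ Subgroup.normalizer (T : Set G) := hRP.trans hPNT
  refine ⟨hTh, hRg, hTR, hRNT, fun x hx => hstabT x (hRP hx), ?_⟩
  -- the stable correspondent at `R`
  have hPK := le_normalizer_centralizer hPNR
  have hCK : Subgroup.centralizer (P : Set G) ≤ Subgroup.centralizer (R : Set G) :=
    Subgroup.centralizer_le hRP
  have hCRT : Subgroup.centralizer (R : Set G) ≤ Subgroup.centralizer (T : Set G) :=
    Subgroup.centralizer_le hTR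
  have hPKT := le_normalizer_centralizer hPNT
  obtain ⟨ξ₀, hξ₀⟩ := IsPBlock.nonempty hMp hPe.2
  obtain ⟨θ, hθ⟩ := exists_isStableCorr hM P (Subgroup.centralizer (R : Set G)) hPe.1 hPK hCK ξ₀
  have hgs := isStableSet_of_stabilizesBlock hPK hstabR
  have hθg : θ ∈ g := (normalSubpair_cond_iff hM P (Subgroup.centralizer (R : Set G)) hPK hθ g
    hRg.2 hgs).mp (hlastR ξ₀ hξ₀)
  have hhs := isStableSet_of_stabilizesBlock hPKT hstabT
  -- the restriction of the idempotent of `h` to `C_G(R)`
  have a := hθ.apply_ext0 hMp hPK (fun k : Subgroup.centralizer (R : Set G) =>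
    blockCoeff h ⟨k, hCRT k.2⟩)
    (fun k x => isClassFunction_blockCoeff h ⟨k, hCRT k.2⟩ ⟨x, hCRT x.2⟩)
    (fun u k => by
      have := blockCoeff_conjEquiv_of_isStableSet hhs u ⟨k, hCRT k.2⟩
      rw [← this]
      rfl)
    (fun k => osima hMp h hTh.2 _)
  have e1 : brauerOmega P (ext0 (Subgroup.centralizer (R : Set G))
      (fun k : Subgroup.centralizer (R : Set G) => blockCoeff h ⟨k, hCRT k.2⟩))
      (ξ₀ : Subgroup.centralizer (P : Set G) → ℂ) =
      brauerOmega P (subgroupBlockCoeff (Subgroup.centralizer (T : Set G)) h)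
        (ξ₀ : Subgroup.centralizer (P : Set G) → ℂ) := by
    rw [subgroupBlockCoeff_eq_ext0, brauerOmega, brauerOmega]
    refine finsum_congr fun x => ?_
    rw [ext0_of_mem _ _ (hCK x.2), ext0_of_mem _ _ (hCRT (hCK x.2))]
  have e2 : act (fun k : Subgroup.centralizer (R : Set G) => blockCoeff h ⟨k, hCRT k.2⟩) θ =
      brauerOmega R (subgroupBlockCoeff (Subgroup.centralizer (T : Set G)) h)
        (θ : Subgroup.centralizer (R : Set G) → ℂ) := by
    rw [subgroupBlockCoeff_eq_ext0, brauerOmega_ext0_eq_act hCRT]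
  rw [e1, e2] at a
  have a0 := hlastT ξ₀ hξ₀
  intro ζ hζ
  have a3 := brauerOmega_ext0_sub_li hMp hCRT (blockCoeff h) (isClassFunction_blockCoeff h)
    (osima hMp h hTh.2) (sameBlock_of_mem hMp hRg.2 hζ hθg)
  rw [← subgroupBlockCoeff_eq_ext0] at a3
  have := li_add hMp (li_sub hMp a3 a) a0
  convert this using 1
  ring

/-- **Existence of subpairs.** -/
theorem exists_subpair (hM : IsPModular p M) :
    ∀ (n : ℕ) (P : Subgroup G) (e : Set (IrrCharacter (Subgroup.centralizer (P : Set G))))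
      (Q : Subgroup G), IsBrauerPair p M P e → Q ≤ P → Nat.card P - Nat.card Q = n →
      ∃ f : Set (IrrCharacter (Subgroup.centralizer (Q : Set G))),
        IsPBlock M f ∧ SubpairLE p M Q f P e := by
  intro n
  induction n using Nat.strong_induction_on with
  | _ n ih =>
    intro P e Q hPe hQP hn
    by_cases hQeq : Q = P
    · subst hQeq
      exact ⟨e, hPe.2, Relation.ReflTransGen.refl⟩
    · have hlt : Q < P := lt_of_le_of_ne hQP hQeq
      have hlt2 := Cfsg.Agent.Helper11.lt_inf_normalizer P Q hPe.1 hlt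
      have hN1P : P ⊓ Subgroup.normalizer (Q : Set G) ≤ P := inf_le_left
      have hc1 : Nat.card Q < Nat.card ↥(P ⊓ Subgroup.normalizer (Q : Set G)) := by
        by_contra hle
        push Not at hle
        exact hlt2.ne (Subgroup.eq_of_le_of_card_ge hlt2.le hle)
      have hc2 : Nat.card ↥(P ⊓ Subgroup.normalizer (Q : Set G)) ≤ Nat.card P :=
        Subgroup.card_le_of_le hN1P
      obtain ⟨g, hg, hchain⟩ := ih (Nat.card P - Nat.card ↥(P ⊓ Subgroup.normalizer (Q : Set G)))
        (by omega) P e (P ⊓ Subgroup.normalizer (Q : Set G)) hPe hN1P rfl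
      have hN1g : IsBrauerPair p M (P ⊓ Subgroup.normalizer (Q : Set G)) g :=
        ⟨hPe.1.to_le hN1P, hg⟩
      obtain ⟨f, hf, -⟩ := existsUnique_normalSubpair hM (P ⊓ Subgroup.normalizer (Q : Set G)) Q g
        hN1g hlt2.le inf_le_right
      have hstep : NormalSubpairRel p M ⟨Q, f⟩ ⟨P ⊓ Subgroup.normalizer (Q : Set G), g⟩ := hf
      exact ⟨f, hf.1.2, Relation.ReflTransGen.head hstep hchain⟩

/-- **Uniqueness of subpairs.** -/
theorem subpair_unique (hM : IsPModular p M) :
    ∀ (n : ℕ) (a a' c : BrauerPairIdx G), IsBrauerPair p M c.1 c.2 →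
      Nat.card c.1 - Nat.card a.1 = n → a.1 = a'.1 →
      Relation.ReflTransGen (NormalSubpairRel p M) a c →
      Relation.ReflTransGen (NormalSubpairRel p M) a' c → a = a' := by
  intro n
  induction n using Nat.strong_induction_on with
  | _ n ih =>
    intro a a' c hc hn haa' hac ha'c
    by_cases hQP : a.1 = c.1
    · have e1 := eq_of_reflTransGen_of_fst_eq hM a c hac hQP
      have e2 := eq_of_reflTransGen_of_fst_eq hM a' c ha'c (haa' ▸ hQP)
      rw [e1, e2]
    · obtain ⟨r, hr1, hr2, hr3⟩ := exists_proper_last_step hM a c hac hQP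
      obtain ⟨r', hr'1, hr'2, hr'3⟩ := exists_proper_last_step hM a' c ha'c (haa' ▸ hQP)
      have hrc : IsNormalSubpair p M r.1 r.2 c.1 c.2 := hr3
      have hr'c : IsNormalSubpair p M r'.1 r'.2 c.1 c.2 := hr'3
      have hTc : r.1 ⊓ r'.1 ≤ c.1 := inf_le_left.trans hrc.2.2.1
      have hcT : c.1 ≤ Subgroup.normalizer ((r.1 ⊓ r'.1 : Subgroup G) : Set G) := by
        intro x hx
        have n1 := hrc.2.2.2.1 hx
        have n2 := hr'c.2.2.2.1 hx
        rw [Subgroup.mem_normalizer_iff] at n1 n2 ⊢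
        intro y
        rw [Subgroup.mem_inf, Subgroup.mem_inf, ← n1 y, ← n2 y]
      obtain ⟨h, hh, -⟩ := existsUnique_normalSubpair hM c.1 (r.1 ⊓ r'.1) c.2 hc hTc hcT
      have k1 := isNormalSubpair_of_le hM hh hrc inf_le_left
      have k2 := isNormalSubpair_of_le hM hh hr'c inf_le_right
      have haT : a.1 ≤ r.1 ⊓ r'.1 :=
        le_inf (fst_le_of_reflTransGen a r hr2) (haa' ▸ fst_le_of_reflTransGen a' r' hr'2)
      obtain ⟨f₁, -, hf₁⟩ := exists_subpair hM _ (r.1 ⊓ r'.1) h a.1 hh.1 haT rfl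
      have hf₁' : Relation.ReflTransGen (NormalSubpairRel p M) ⟨a.1, f₁⟩ ⟨r.1 ⊓ r'.1, h⟩ := hf₁
      have c1 : Relation.ReflTransGen (NormalSubpairRel p M) ⟨a.1, f₁⟩ r :=
        Relation.ReflTransGen.tail hf₁' k1
      have c2 : Relation.ReflTransGen (NormalSubpairRel p M) ⟨a.1, f₁⟩ r' :=
        Relation.ReflTransGen.tail hf₁' k2
      have hcard : ∀ s : BrauerPairIdx G, s.1 ≠ c.1 → s.1 ≤ c.1 → Nat.card s.1 < Nat.card c.1 := by
        intro s hs hle
        by_contra hge
        push Not at hge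
        exact hs (Subgroup.eq_of_le_of_card_ge hle hge)
      have hra : Nat.card a.1 ≤ Nat.card r.1 :=
        Subgroup.card_le_of_le (fst_le_of_reflTransGen a r hr2)
      have hr'a : Nat.card a'.1 ≤ Nat.card r'.1 :=
        Subgroup.card_le_of_le (fst_le_of_reflTransGen a' r' hr'2)
      have hrlt := hcard r hr1 hrc.2.2.1
      have hr'lt := hcard r' hr'1 hr'c.2.2.1
      have haa'card : Nat.card a.1 = Nat.card a'.1 := by rw [haa']
      have e1 : a = ⟨a.1, f₁⟩ :=
        ih (Nat.card r.1 - Nat.card a.1) (by omega) a ⟨a.1, f₁⟩ r hrc.1 rfl rfl hr2 c1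
      have e2 : a' = ⟨a.1, f₁⟩ :=
        ih (Nat.card r'.1 - Nat.card a'.1) (by omega) a' ⟨a.1, f₁⟩ r' hr'c.1 rfl haa'.symm hr'2 c2
      rw [e1, e2]

/-- **Uniqueness of subpairs** (= S4655). -/
theorem existsUnique_subpair (hM : IsPModular p M) (P Q : Subgroup G)
    (e : Set (IrrCharacter (Subgroup.centralizer (P : Set G)))) (hPe : IsBrauerPair p M P e)
    (hQP : Q ≤ P) :
    ∃! f : Set (IrrCharacter (Subgroup.centralizer (Q : Set G))),
      IsPBlock M f ∧ SubpairLE p M Q f P e := by
  obtain ⟨f, hf, hle⟩ := exists_subpair hM _ P e Q hPe hQP rfl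
  refine ⟨f, ⟨hf, hle⟩, ?_⟩
  rintro f' ⟨-, hle'⟩
  have := subpair_unique hM _ ⟨Q, f'⟩ ⟨Q, f⟩ ⟨P, e⟩ hPe rfl rfl hle' hle
  have h2 := (Sigma.mk.inj_iff.mp this).2
  exact eq_of_heq h2

end Cfsg.Agent.Helper23.SU
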