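import Mathlib
import Cfsg.Prelude.Def_Blocks
import Cfsg.Prelude.Def_BlockLocal
import Cfsg.Prelude.Def_BrauerPairs
import Cfsg.Agent.Helper23.SubpairUnique

set_option autoImplicit false
set_option linter.unusedSectionVars false

/-!
# Brauer pairs of the principal block
-/

namespace Cfsg.Agent.Helper23.PP

open Cfsg Cfsg.Agent.Helper24 Cfsg.Agent.Helper5 Cfsg.Agent.Helper5.Loc Cfsg.Agent.Helper5.CC
open Cfsg.Agent.Helper23.BT Cfsg.Agent.Helper23.TM Cfsg.Agent.Helper23.SB
open Cfsg.Agent.Helper23.SP Cfsg.Agent.Helper23.SU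

variable {G : Type*} [Group G]

/-- Conjugation by `g` as an isomorphism `C_G(gQg⁻¹) ≃* C_G(Q)`, `c' ↦ g⁻¹ c' g`. -/
noncomputable def centralizerConjEquiv (Q : Subgroup G) (g : G) :
    Subgroup.centralizer ((Q.map (MulAut.conj g).toMonoidHom : Subgroup G) : Set G) ≃*
      Subgroup.centralizer (Q : Set G) where
  toFun c' := ⟨g⁻¹ * (c' : G) * g, by
    rw [Subgroup.mem_centralizer_iff]
    intro q hq
    have hq' : g * q * g⁻¹ ∈ ((Q.map (MulAut.conj g).toMonoidHom : Subgroup G) : Set G) :=
      ⟨q, hq, by simp [MulAut.conj_apply]⟩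
    have := (Subgroup.mem_centralizer_iff.mp c'.2) _ hq'
    calc q * (g⁻¹ * (c' : G) * g) = g⁻¹ * ((g * q * g⁻¹) * (c' : G)) * g := by group
      _ = g⁻¹ * ((c' : G) * (g * q * g⁻¹)) * g := by rw [this]
      _ = g⁻¹ * (c' : G) * g * q := by group⟩
  invFun c := ⟨g * (c : G) * g⁻¹, by
    rw [Subgroup.mem_centralizer_iff]
    rintro _ ⟨q, hq, rfl⟩
    have := (Subgroup.mem_centralizer_iff.mp c.2) q hq
    show (MulAut.conj g) q * (g * (c : G) * g⁻¹) = g * (c : G) * g⁻¹ * (MulAut.conj g) q
    rw [MulAut.conj_apply]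
    calc g * q * g⁻¹ * (g * (c : G) * g⁻¹) = g * (q * (c : G)) * g⁻¹ := by group
      _ = g * ((c : G) * q) * g⁻¹ := by rw [this]
      _ = g * (c : G) * g⁻¹ * (g * q * g⁻¹) := by group⟩
  left_inv c' := Subtype.ext (by simp [mul_assoc])
  right_inv c := Subtype.ext (by simp [mul_assoc])
  map_mul' a b := Subtype.ext (by
    show g⁻¹ * ((a * b : Subgroup.centralizer _) : G) * g = (g⁻¹ * (a : G) * g) * (g⁻¹ * (b : G) * g)
    rw [Subgroup.coe_mul]
    group)

theorem centralizerConjEquiv_apply (Q : Subgroup G) (g : G)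
    (c' : Subgroup.centralizer ((Q.map (MulAut.conj g).toMonoidHom : Subgroup G) : Set G)) :
    ((centralizerConjEquiv Q g c' : Subgroup.centralizer (Q : Set G)) : G) =
      g⁻¹ * (c' : G) * g := rfl

variable {M : Ideal AlgInt}

/-- The conjugate of the principal block is the principal block. -/
theorem conjBlock_principalBlock (Q : Subgroup G) (g : G) :
    conjBlock Q g (principalBlock M (Subgroup.centralizer (Q : Set G))) =
      principalBlock M (Subgroup.centralizer
        ((Q.map (MulAut.conj g).toMonoidHom : Subgroup G) : Set G)) := by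
  ext ξ'
  constructor
  · rintro ⟨ξ, hξ, hrel⟩
    have : ξ' = pullIrr (centralizerConjEquiv Q g) ξ := by
      apply Subtype.ext
      funext c'
      rw [pullIrr_apply]
      apply hrel
      rw [centralizerConjEquiv_apply]
      group
    rw [this]
    exact (pullIrr_mem_principalBlock_iff _ ξ).mpr hξ
  · intro hξ'
    refine ⟨pullIrr (centralizerConjEquiv Q g).symm ξ', ?_, ?_⟩
    · exact (pullIrr_mem_principalBlock_iff _ ξ').mpr hξ'
    · intro c c' hcc'
      rw [pullIrr_apply]
      have : (centralizerConjEquiv Q g).symm c = c' := by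
        apply Subtype.ext
        rw [hcc']
        rfl
      rw [this]

variable [Fintype G] {p : ℕ} [Fact p.Prime]

/-- Below a pair with principal block, all pairs have principal blocks. -/
theorem subpairLE_principalBlock (hM : IsPModular p M) (Q S : Subgroup G) (hS : IsPGroup p S)
    (hQS : Q ≤ S) :
    SubpairLE p M Q (principalBlock M (Subgroup.centralizer (Q : Set G))) S
      (principalBlock M (Subgroup.centralizer (S : Set G))) := by
  have hSe : IsBrauerPair p M S (principalBlock M (Subgroup.centralizer (S : Set G))) :=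
    ⟨hS, ⟨trivIrr _, rfl⟩⟩
  obtain ⟨f, hf, hle⟩ := exists_subpair hM _ S _ Q hSe hQS rfl
  have h1 : IsBrauerPairOf p M (principalBlock M G) S
      (principalBlock M (Subgroup.centralizer (S : Set G))) :=
    isBrauerPairOf_principalBlock hM S hS
  have h2 : IsBrauerPairOf p M (principalBlock M G) Q f :=
    (isBrauerPairOf_iff_of_subpairLE hM (principalBlock M G) ⟨trivIrr G, rfl⟩ ⟨Q, f⟩
      ⟨S, principalBlock M (Subgroup.centralizer (S : Set G))⟩ hle).mp h1
  have h3 := Cfsg.Agent.Helper23.TMH.eq_principal_of_isBrauerPairOf hM Q (hS.to_le hQS) f hf h2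
  rw [← h3]
  exact hle

end Cfsg.Agent.Helper23.PP
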