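import Mathlib
import Cfsg.Prelude.Def_Blocks
import Cfsg.Prelude.Def_BlockLocal
import Cfsg.Prelude.Def_BrauerPairs
import Cfsg.Agent.Helper23.PrincipalPairs
import Cfsg.Agent.Helper23.MaxPairs

set_option autoImplicit false
set_option linter.unusedSectionVars false
set_option linter.unusedVariables false

/-!
# Conjugation of Brauer pairs
-/

namespace Cfsg.Agent.Helper23.PC

open Cfsg Cfsg.Agent.Helper24 Cfsg.Agent.Helper5 Cfsg.Agent.Helper5.Loc Cfsg.Agent.Helper5.CC
open Cfsg.Agent.Helper14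
open Cfsg.Agent.Helper23.BT Cfsg.Agent.Helper23.TM Cfsg.Agent.Helper23.SB
open Cfsg.Agent.Helper23.SP Cfsg.Agent.Helper23.SU Cfsg.Agent.Helper23.PP
open Cfsg.Agent.Helper23.MP

variable {G : Type*} [Group G] {M : Ideal AlgInt}

/-- The conjugate block is the pull-back along conjugation. -/
theorem conjBlock_eq_pullBlock (Q : Subgroup G) (g : G)
    (f : Set (IrrCharacter (Subgroup.centralizer (Q : Set G)))) :
    conjBlock Q g f = pullBlock (centralizerConjEquiv Q g) f := by
  ext ξ'
  rw [mem_pullBlock_iff]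
  constructor
  · rintro ⟨ξ, hξ, hrel⟩
    have : pullIrr (centralizerConjEquiv Q g).symm ξ' = ξ := by
      apply Subtype.ext
      funext c
      rw [pullIrr_apply]
      apply hrel
      rfl
    rw [this]
    exact hξ
  · intro hξ'
    refine ⟨pullIrr (centralizerConjEquiv Q g).symm ξ', hξ', ?_⟩
    intro c c' hcc'
    rw [pullIrr_apply]
    have : (centralizerConjEquiv Q g).symm c = c' := by
      apply Subtype.ext
      rw [hcc']
      rfl
    rw [this]

theorem isPBlock_conjBlock (Q : Subgroup G) (g : G)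
    {f : Set (IrrCharacter (Subgroup.centralizer (Q : Set G)))} (hf : IsPBlock M f) :
    IsPBlock M (conjBlock Q g f) := by
  rw [conjBlock_eq_pullBlock]
  exact isPBlock_pullBlock _ hf

theorem blockCoeff_conjBlock (Q : Subgroup G) (g : G)
    (f : Set (IrrCharacter (Subgroup.centralizer (Q : Set G))))
    (c' : Subgroup.centralizer ((Q.map (MulAut.conj g).toMonoidHom : Subgroup G) : Set G)) :
    blockCoeff (conjBlock Q g f) c' = blockCoeff f (centralizerConjEquiv Q g c') := by
  rw [conjBlock_eq_pullBlock, blockCoeff_pullBlock]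

theorem mem_map_conj_iff (Q : Subgroup G) (g x : G) :
    x ∈ Q.map (MulAut.conj g).toMonoidHom ↔ g⁻¹ * x * g ∈ Q := mem_map_cj g x

theorem conj_mem_map_conj (Q : Subgroup G) (g : G) {q : G} (hq : q ∈ Q) :
    g * q * g⁻¹ ∈ Q.map (MulAut.conj g).toMonoidHom := ⟨q, hq, rfl⟩

theorem subgroupBlockCoeff_conjBlock (Q : Subgroup G) (g : G)
    (f : Set (IrrCharacter (Subgroup.centralizer (Q : Set G)))) (t : G) :
    subgroupBlockCoeff (Subgroup.centralizer
      ((Q.map (MulAut.conj g).toMonoidHom : Subgroup G) : Set G)) (conjBlock Q g f) t =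
    subgroupBlockCoeff (Subgroup.centralizer (Q : Set G)) f (g⁻¹ * t * g) := by
  rw [subgroupBlockCoeff_eq_ext0, subgroupBlockCoeff_eq_ext0]
  by_cases ht : t ∈ Subgroup.centralizer
      ((Q.map (MulAut.conj g).toMonoidHom : Subgroup G) : Set G)
  · have ht' : g⁻¹ * t * g ∈ Subgroup.centralizer (Q : Set G) :=
      (centralizerConjEquiv Q g ⟨t, ht⟩).2
    rw [ext0_of_mem _ _ ht, ext0_of_mem _ _ ht', blockCoeff_conjBlock]
    rfl
  · have ht' : g⁻¹ * t * g ∉ Subgroup.centralizer (Q : Set G) := by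
      intro h
      apply ht
      have := ((centralizerConjEquiv Q g).symm ⟨_, h⟩).2
      convert this using 1
      show t = g * (g⁻¹ * t * g) * g⁻¹
      group
    rw [ext0_of_not_mem _ _ ht, ext0_of_not_mem _ _ ht']

/-- The Brauer functional transforms under conjugation. -/
theorem brauerOmega_conj (Q : Subgroup G) (g : G) (β β' : G → ℂ)
    (hβ : ∀ c' : Subgroup.centralizer ((Q.map (MulAut.conj g).toMonoidHom : Subgroup G) : Set G),
      β' (c' : G) = β (g⁻¹ * (c' : G) * g))
    (ξ : IrrCharacter (Subgroup.centralizer (Q : Set G))) :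
    brauerOmega (Q.map (MulAut.conj g).toMonoidHom) β'
      ((pullIrr (centralizerConjEquiv Q g) ξ : IrrCharacter _) :
        Subgroup.centralizer ((Q.map (MulAut.conj g).toMonoidHom : Subgroup G) : Set G) → ℂ) =
    brauerOmega Q β (ξ : Subgroup.centralizer (Q : Set G) → ℂ) := by
  rw [brauerOmega, brauerOmega, ← finsum_comp_equiv (centralizerConjEquiv Q g).toEquiv]
  refine finsum_congr fun c' => ?_
  rw [pullIrr_apply, pullIrr_apply, map_one, hβ c']
  rfl

section Fin

variable [Fintype G]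

/-- Conjugates of Brauer pairs of `B` are Brauer pairs of `B`. -/
theorem isBrauerPairOf_conj {p : ℕ} {B : Set (IrrCharacter G)} {Q : Subgroup G}
    {f : Set (IrrCharacter (Subgroup.centralizer (Q : Set G)))} (g : G)
    (h : IsBrauerPairOf p M B Q f) :
    IsBrauerPairOf p M B (Q.map (MulAut.conj g).toMonoidHom) (conjBlock Q g f) := by
  have : Fintype (IrrCharacter G) := Fintype.ofFinite _
  refine ⟨⟨h.1.1.map _, isPBlock_conjBlock Q g h.1.2⟩, h.2.1, ?_⟩
  intro ξ' hξ'
  rw [conjBlock_eq_pullBlock, mem_pullBlock_iff] at hξ'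
  have h1 := h.2.2 _ hξ'
  rw [← brauerOmega_conj Q g (blockCoeff B) (blockCoeff B) _ , pullIrr_pullIrr_symm] at h1
  · exact h1
  · intro c'
    have := isClassFunction_blockCoeff B (c' : G) g⁻¹
    rw [inv_inv] at this
    exact this.symm


/-- Conjugates of normal inclusions of Brauer pairs are normal inclusions. -/
theorem isNormalSubpair_conj {p : ℕ} {Q P : Subgroup G}
    {f : Set (IrrCharacter (Subgroup.centralizer (Q : Set G)))}
    {e : Set (IrrCharacter (Subgroup.centralizer (P : Set G)))} (g : G)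
    (h : IsNormalSubpair p M Q f P e) :
    IsNormalSubpair p M (Q.map (MulAut.conj g).toMonoidHom) (conjBlock Q g f)
      (P.map (MulAut.conj g).toMonoidHom) (conjBlock P g e) := by
  obtain ⟨hQf, hPe, hQP, hPN, hst, hlast⟩ := h
  have hPN' : P.map (MulAut.conj g).toMonoidHom ≤
      Subgroup.normalizer ((Q.map (MulAut.conj g).toMonoidHom : Subgroup G) : Set G) :=
    (Subgroup.map_mono hPN).trans (Subgroup.le_normalizer_map _)
  refine ⟨⟨hQf.1.map _, isPBlock_conjBlock Q g hQf.2⟩, ⟨hPe.1.map _, isPBlock_conjBlock P g hPe.2⟩,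
    Subgroup.map_mono hQP, hPN', ?_, ?_⟩
  · have hPK := le_normalizer_centralizer hPN
    have hPK' := le_normalizer_centralizer hPN'
    have hfs := isStableSet_of_stabilizesBlock hPK hst
    have hfs' : IsStableSet _ (P.map (MulAut.conj g).toMonoidHom) hPK' (conjBlock Q g f) := by
      rintro ⟨x, hx⟩
      have hu : g⁻¹ * x * g ∈ P := (mem_map_conj_iff P g x).mp hx
      have h1 := hfs ⟨g⁻¹ * x * g, hu⟩
      rw [conjBlock_eq_pullBlock, pullBlock_trans]
      have h2 : (conjEquiv (Subgroup.centralizer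
          ((Q.map (MulAut.conj g).toMonoidHom : Subgroup G) : Set G)) x (hPK' hx)).trans
          (centralizerConjEquiv Q g) =
          (centralizerConjEquiv Q g).trans
            (conjEquiv (Subgroup.centralizer (Q : Set G)) (g⁻¹ * x * g) (hPK hu)) := by
        apply MulEquiv.ext
        intro c'
        apply Subtype.ext
        show g⁻¹ * (x⁻¹ * (c' : G) * x) * g = (g⁻¹ * x * g)⁻¹ * (g⁻¹ * (c' : G) * g) * (g⁻¹ * x * g)
        group
      rw [h2, ← pullBlock_trans]
      exact congrArg (pullBlock (centralizerConjEquiv Q g)) h1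
    exact fun x hx => stabilizesBlock_of_isStableSet hfs' x hx
  · intro ξ' hξ'
    rw [conjBlock_eq_pullBlock, mem_pullBlock_iff] at hξ'
    have h1 := hlast _ hξ'
    rw [← brauerOmega_conj P g
      (subgroupBlockCoeff (Subgroup.centralizer (Q : Set G)) f)
      (subgroupBlockCoeff (Subgroup.centralizer
        ((Q.map (MulAut.conj g).toMonoidHom : Subgroup G) : Set G)) (conjBlock Q g f)) _,
      pullIrr_pullIrr_symm] at h1
    · exact h1
    · intro c'
      exact subgroupBlockCoeff_conjBlock Q g f (c' : G)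

/-- The conjugate of a pair index. -/
def cjPair (g : G) (a : BrauerPairIdx G) : BrauerPairIdx G :=
  ⟨a.1.map (MulAut.conj g).toMonoidHom, conjBlock a.1 g a.2⟩

omit [Fintype G] in
/-- Elementwise criterion for equality of pair indices. -/
theorem pairIdx_ext {a₁ a₂ : BrauerPairIdx G} (h1 : a₁.1 = a₂.1)
    (h2 : ∀ (ξ₁ : IrrCharacter (Subgroup.centralizer (a₁.1 : Set G)))
      (ξ₂ : IrrCharacter (Subgroup.centralizer (a₂.1 : Set G))),
      (∀ (t : G) (h₁ : t ∈ Subgroup.centralizer (a₁.1 : Set G))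
        (h₂ : t ∈ Subgroup.centralizer (a₂.1 : Set G)),
        (ξ₁ : Subgroup.centralizer (a₁.1 : Set G) → ℂ) ⟨t, h₁⟩ =
          (ξ₂ : Subgroup.centralizer (a₂.1 : Set G) → ℂ) ⟨t, h₂⟩) →
      (ξ₁ ∈ a₁.2 ↔ ξ₂ ∈ a₂.2)) : a₁ = a₂ := by
  obtain ⟨Q₁, f₁⟩ := a₁
  obtain ⟨Q₂, f₂⟩ := a₂
  simp only at h1
  subst h1
  congr 1
  ext ξ
  exact h2 ξ ξ (fun t h₁ h₂ => rfl)

theorem subpairRel_conj {p : ℕ} (g : G) {a b : BrauerPairIdx G}
    (h : NormalSubpairRel p M a b) : NormalSubpairRel p M (cjPair g a) (cjPair g b) :=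
  isNormalSubpair_conj g h

theorem reflTransGen_conj {p : ℕ} (g : G) {a b : BrauerPairIdx G}
    (h : Relation.ReflTransGen (NormalSubpairRel p M) a b) :
    Relation.ReflTransGen (NormalSubpairRel p M) (cjPair g a) (cjPair g b) :=
  Relation.ReflTransGen.lift (cjPair g) (fun _ _ h => subpairRel_conj g h) _ _ h

omit [Fintype G] in
/-- Conjugating twice. -/
theorem cjPair_mul (w z : G) (a : BrauerPairIdx G) :
    cjPair w (cjPair z a) = cjPair (w * z) a := by
  obtain ⟨Q, f⟩ := a
  apply pairIdx_ext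
  · show (Q.map (MulAut.conj z).toMonoidHom).map (MulAut.conj w).toMonoidHom =
      Q.map (MulAut.conj (w * z)).toMonoidHom
    rw [Subgroup.map_map]
    congr 1
    ext t
    simp [MulAut.conj_apply, mul_assoc]
  · intro ξ₁ ξ₂ hξ
    show ξ₁ ∈ conjBlock (Q.map (MulAut.conj z).toMonoidHom) w (conjBlock Q z f) ↔
      ξ₂ ∈ conjBlock Q (w * z) f
    constructor
    · rintro ⟨η, ⟨ξ, hξf, hrel1⟩, hrel2⟩
      refine ⟨ξ, hξf, ?_⟩
      intro c c' hcc'
      have hmid : z * (c : G) * z⁻¹ ∈ Subgroup.centralizer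
          ((Q.map (MulAut.conj z).toMonoidHom : Subgroup G) : Set G) :=
        ((centralizerConjEquiv Q z).symm c).2
      have h1 := hrel1 c ⟨z * (c : G) * z⁻¹, hmid⟩ rfl
      have hc'1 : (c' : G) ∈ Subgroup.centralizer
          (((Q.map (MulAut.conj z).toMonoidHom).map (MulAut.conj w).toMonoidHom :
            Subgroup G) : Set G) := by
        have := ((centralizerConjEquiv (Q.map (MulAut.conj z).toMonoidHom) w).symm
          ⟨z * (c : G) * z⁻¹, hmid⟩).2
        convert this using 1
        rw [hcc']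
        show w * z * (c : G) * (w * z)⁻¹ = w * (z * (c : G) * z⁻¹) * w⁻¹
        group
      have h2 := hrel2 ⟨z * (c : G) * z⁻¹, hmid⟩ ⟨(c' : G), hc'1⟩ (by
        show (c' : G) = w * (z * (c : G) * z⁻¹) * w⁻¹
        rw [hcc']
        group)
      rw [← h1, ← h2]
      exact (hξ (c' : G) hc'1 c'.2).symm
    · rintro ⟨ξ, hξf, hrel⟩
      refine ⟨pullIrr (centralizerConjEquiv Q z) ξ, ?_, ?_⟩
      · rw [conjBlock_eq_pullBlock]
        exact (pullIrr_mem_pullBlock_iff _ f ξ).mpr hξf
      · intro c c' hcc'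
        rw [pullIrr_apply]
        have hc'2 : (c' : G) ∈ Subgroup.centralizer
            ((Q.map (MulAut.conj (w * z)).toMonoidHom : Subgroup G) : Set G) := by
          have := ((centralizerConjEquiv Q (w * z)).symm (centralizerConjEquiv Q z c)).2
          convert this using 1
          rw [hcc']
          show w * (c : G) * w⁻¹ = w * z * (z⁻¹ * (c : G) * z) * (w * z)⁻¹
          group
        have h1 := hrel (centralizerConjEquiv Q z c) ⟨(c' : G), hc'2⟩ (by
          show (c' : G) = w * z * (z⁻¹ * (c : G) * z) * (w * z)⁻¹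
          rw [hcc']
          group)
        rw [← h1]
        exact hξ (c' : G) c'.2 hc'2

end Fin

end Cfsg.Agent.Helper23.PC
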