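import Mathlib
import Cfsg.Prelude.Def_Blocks
import Cfsg.Prelude.Def_BlockLocal
import Cfsg.Prelude.Def_BrauerPairs
import Cfsg.Agent.Helper23.PairConj
import Cfsg.Agent.Helper5.DefectGroups2
import Cfsg.Agent.S0917

set_option autoImplicit false
set_option linter.unusedSectionVars false
set_option linter.unusedVariables false

/-!
# Conjugacy of maximal Brauer pairs
-/

namespace Cfsg.Agent.Helper23.MC

open Cfsg Cfsg.Agent.Helper24 Cfsg.Agent.Helper5 Cfsg.Agent.Helper5.Loc Cfsg.Agent.Helper5.CC
open Cfsg.Agent.Helper14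
open Cfsg.Agent.Helper23.BT Cfsg.Agent.Helper23.IC Cfsg.Agent.Helper23.TM
open Cfsg.Agent.Helper23.SB
open Cfsg.Agent.Helper23.SP Cfsg.Agent.Helper23.SU Cfsg.Agent.Helper23.PP
open Cfsg.Agent.Helper23.MP Cfsg.Agent.Helper23.PC Cfsg.Agent.Helper23.BC

variable {G : Type*} [Group G] [Fintype G] {M : Ideal AlgInt}

/-- Every Brauer pair of `B` lies below a maximal Brauer pair of `B`. -/
theorem exists_maximal_above {p : ℕ} [Fact p.Prime] (B : Set (IrrCharacter G)) :
    ∀ (k : ℕ) (a : BrauerPairIdx G), IsBrauerPairOf p M B a.1 a.2 →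
      Nat.card G - Nat.card a.1 = k →
      ∃ c : BrauerPairIdx G, IsMaximalBrauerPair p M B c.1 c.2 ∧
        Relation.ReflTransGen (NormalSubpairRel p M) a c := by
  intro k
  induction k using Nat.strong_induction_on with
  | _ k ih =>
    intro a ha hk
    by_cases hmax : IsMaximalBrauerPair p M B a.1 a.2
    · exact ⟨a, hmax, Relation.ReflTransGen.refl⟩
    · have : ∃ (R : Subgroup G) (g : Set (IrrCharacter (Subgroup.centralizer (R : Set G)))),
          IsBrauerPairOf p M B R g ∧ SubpairLE p M a.1 a.2 R g ∧ R ≠ a.1 := by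
        by_contra hcon
        push Not at hcon
        exact hmax ⟨ha, fun R g hRg hle => hcon R g hRg hle⟩
      obtain ⟨R, g, hRg, hle, hne⟩ := this
      have hle' : Relation.ReflTransGen (NormalSubpairRel p M) a ⟨R, g⟩ := hle
      have hsub : a.1 ≤ R := fst_le_of_reflTransGen a ⟨R, g⟩ hle'
      have hlt : Nat.card a.1 < Nat.card R := by
        rcases (Subgroup.card_le_of_le hsub).lt_or_eq with h | h
        · exact h
        · exact absurd (Subgroup.eq_of_le_of_card_ge hsub (le_of_eq h.symm)).symm hne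
      have hRG : Nat.card R ≤ Nat.card G := Subgroup.card_le_card_group R
      obtain ⟨c, hc, hRc⟩ := ih (Nat.card G - Nat.card R) (by omega) ⟨R, g⟩ hRg rfl
      exact ⟨c, hc, hle'.trans hRc⟩

/-- The block of `N_G(P)` of a character lying over a member of `e`, `(P, e)` a pair of `B`,
induces `B`. -/
theorem isInducedBlock_of_pair {p : ℕ} [Fact p.Prime] (hM : IsPModular p M)
    (B : Set (IrrCharacter G)) (P : Subgroup G)
    (e : Set (IrrCharacter (Subgroup.centralizer (P : Set G))))
    (hBe : IsBrauerPairOf p M B P e)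
    [Fintype (Subgroup.normalizer (P : Set G))] [Fintype (Subgroup.centralizer (P : Set G))]
    (ξ : IrrCharacter (Subgroup.centralizer (P : Set G))) (hξ : ξ ∈ e)
    (ψ : IrrCharacter (Subgroup.normalizer (P : Set G)))
    (hψ : classInner (fun c : Subgroup.centralizer (P : Set G) =>
      (ψ : Subgroup.normalizer (P : Set G) → ℂ)
        ⟨c, Subgroup.centralizer_le_normalizer _ c.2⟩)
      (ξ : Subgroup.centralizer (P : Set G) → ℂ) ≠ 0) :
    IsInducedBlock M (Subgroup.normalizer (P : Set G))
      (blockOf M (ψ : Subgroup.normalizer (P : Set G) → ℂ)) B := by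
  classical
  have hMp := isPrime_of_isPModular hM
  obtain ⟨hPe, hB, hcond⟩ := hBe
  have hP := hPe.1
  have : Fintype (IrrCharacter G) := Fintype.ofFinite _
  have : Fintype (IrrCharacter (Subgroup.normalizer (P : Set G))) := Fintype.ofFinite _
  have hPN : P ≤ Subgroup.normalizer (P : Set G) := Subgroup.le_normalizer
  have hCN : Subgroup.centralizer (P : Set G) ≤ Subgroup.normalizer (P : Set G) :=
    Subgroup.centralizer_le_normalizer _
  have hb : IsPBlock M (blockOf M (ψ : Subgroup.normalizer (P : Set G) → ℂ)) :=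
    isPBlock_blockOf ψ
  have hψb := mem_blockOf_self hMp ψ
  obtain ⟨B', hind⟩ := Cfsg.Agent.S0919.result p M hM P _ hP hPN hCN le_rfl _ hb
  have hB'B : B' = B := by
    obtain ⟨χ', hχ'⟩ := IsPBlock.nonempty hMp hind.2.1
    have heB := isClassFunction_blockCoeff B
    have heBM : ∀ t, MemLocalRing M (blockCoeff B t) := osima hMp B hB
    have a1 := act_restrict_sub_act_of_induced hMp _ hind hψb hχ' heB heBM
    have hcres : IsClassFunction (Subgroup.normalizer (P : Set G))
        (fun h : Subgroup.normalizer (P : Set G) => blockCoeff B (h : G)) :=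
      isClassFunction_res heB
    have a2 := act_sub_act_cut hM P _ hP hPN le_rfl hcres (fun t => heBM _) ψ
    have a3 := act_cut_eq_of_constituent P _ hPN hCN le_rfl ψ ξ hψ _ hcres
    have a4 := hcond ξ hξ
    have e5 : brauerOmega P (blockCoeff B) (ξ : Subgroup.centralizer (P : Set G) → ℂ) =
        act (fun c : Subgroup.centralizer (P : Set G) => blockCoeff B (c : G)) ξ := by
      rw [brauerOmega, finsum_eq_sum_of_fintype, act, Finset.sum_div]
    rw [e5] at a4
    rw [a3] at a2
    have hχ'B : χ' ∈ B := by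
      by_contra hne
      rw [act_blockCoeff, if_neg hne, sub_zero] at a1
      have h3 := li_sub hMp (li_sub hMp a1 a2) a4
      apply not_memLocalIdeal_one hMp
      convert h3 using 1
      ring
    rw [IsPBlock_eq_blockOf hMp hind.2.1 hχ', IsPBlock_eq_blockOf hMp hB hχ'B]
  rw [hB'B] at hind
  exact hind

/-- A block of `N_G(P)` inducing a block with defect group `P` has defect group `P`. -/
theorem isDefectGroup_of_induced {p : ℕ} [Fact p.Prime] (hM : IsPModular p M)
    (B : Set (IrrCharacter G)) (P : Subgroup G) (hPD : IsDefectGroup p M B P)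
    (hP : IsPGroup p P)
    (b : Set (IrrCharacter (Subgroup.normalizer (P : Set G))))
    (hind : IsInducedBlock M (Subgroup.normalizer (P : Set G)) b B) :
    IsDefectGroup p M b (P.subgroupOf (Subgroup.normalizer (P : Set G))) := by
  classical
  have hMp := isPrime_of_isPModular hM
  have : Fintype (IrrCharacter G) := Fintype.ofFinite _
  have hb := hind.1
  have hB := hind.2.1
  have hPN : P ≤ Subgroup.normalizer (P : Set G) := Subgroup.le_normalizer
  obtain ⟨y, hy⟩ := Cfsg.Agent.S0906.result p M hM b hb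
  obtain ⟨S⟩ : Nonempty (Sylow p (Subgroup.centralizer
    ({y} : Set (Subgroup.normalizer (P : Set G))))) := inferInstance
  set D' : Subgroup (Subgroup.normalizer (P : Set G)) :=
    (S : Subgroup _).map (Subgroup.centralizer
      ({y} : Set (Subgroup.normalizer (P : Set G)))).subtype with hD'def
  have hD' : IsDefectGroup p M b D' := ⟨y, hy, S, rfl⟩
  have hPn : (P.subgroupOf (Subgroup.normalizer (P : Set G))).Normal :=
    (Subgroup.normal_subgroupOf_iff_le_normalizer hPN).mpr le_rfl
  have hP'core : P.subgroupOf (Subgroup.normalizer (P : Set G)) ≤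
      pCore p (Subgroup.normalizer (P : Set G)) :=
    le_sSup (show P.subgroupOf (Subgroup.normalizer (P : Set G)) ∈
      {N : Subgroup (Subgroup.normalizer (P : Set G)) | N.Normal ∧ IsPGroup p N} from
      ⟨hPn, hP.comap_subtype⟩)
  have hP'D' : P.subgroupOf (Subgroup.normalizer (P : Set G)) ≤ D' :=
    hP'core.trans (Cfsg.Agent.S0912.result p M hM b hb D' hD')
  obtain ⟨E, hE, hDE⟩ := Cfsg.Agent.S0917.result p M hM _ b hb B hB hind D' hD'
  obtain ⟨x, hx⟩ := defectGroup_conj hM B hB P E hPD hE
  have hc1 : Nat.card E = Nat.card P := by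
    rw [hx]
    exact Subgroup.card_map_of_injective (cj_injective x)
  have hc2 : Nat.card (D'.map (Subgroup.normalizer (P : Set G)).subtype) = Nat.card D' :=
    Subgroup.card_map_of_injective (Subgroup.subtype_injective _)
  have hc3 : Nat.card (D'.map (Subgroup.normalizer (P : Set G)).subtype) ≤ Nat.card E :=
    Subgroup.card_le_of_le hDE
  have hc4 : Nat.card (P.subgroupOf (Subgroup.normalizer (P : Set G))) = Nat.card P := by
    rw [← Subgroup.card_map_of_injective (Subgroup.subtype_injective
      (Subgroup.normalizer (P : Set G))), map_subtype_subgroupOf hPN]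
  have hEq : P.subgroupOf (Subgroup.normalizer (P : Set G)) = D' :=
    Subgroup.eq_of_le_of_card_ge hP'D' (by omega)
  rw [hEq]
  exact hD'

/-- **Two Brauer pairs of `B` on a defect group `P` are conjugate under `N_G(P)`.** -/
theorem exists_conj_of_pairs_at_defectGroup {p : ℕ} [Fact p.Prime] (hM : IsPModular p M)
    (B : Set (IrrCharacter G)) (P : Subgroup G) (hPD : IsDefectGroup p M B P)
    (e g : Set (IrrCharacter (Subgroup.centralizer (P : Set G))))
    (hBe : IsBrauerPairOf p M B P e) (hBg : IsBrauerPairOf p M B P g) :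
    ∃ (x : G) (hx : x ∈ Subgroup.normalizer (P : Set G)),
      g = pullBlock (conjEquiv (Subgroup.centralizer (P : Set G)) x
        (le_normalizer_centralizer (le_refl (Subgroup.normalizer (P : Set G))) hx)) e := by
  classical
  have hMp := isPrime_of_isPModular hM
  have hP := hBe.1.1
  have he := hBe.1.2
  have hg := hBg.1.2
  have : Fintype (IrrCharacter G) := Fintype.ofFinite _
  have : Fintype (Subgroup.normalizer (P : Set G)) := Fintype.ofFinite _
  have : Fintype (IrrCharacter (Subgroup.normalizer (P : Set G))) := Fintype.ofFinite _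
  have : Fintype (Subgroup.centralizer (P : Set G)) := Fintype.ofFinite _
  have : Fintype (IrrCharacter (Subgroup.centralizer (P : Set G))) := Fintype.ofFinite _
  have hPN : P ≤ Subgroup.normalizer (P : Set G) := Subgroup.le_normalizer
  have hCN : Subgroup.centralizer (P : Set G) ≤ Subgroup.normalizer (P : Set G) :=
    Subgroup.centralizer_le_normalizer _
  obtain ⟨ξ, hξ⟩ := IsPBlock.nonempty hMp he
  obtain ⟨ψ, hψ⟩ := exists_irr_over_rel P _ hPN hCN ξ
  obtain ⟨ξ', hξ'⟩ := IsPBlock.nonempty hMp hg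
  obtain ⟨ψ', hψ'⟩ := exists_irr_over_rel P _ hPN hCN ξ'
  have hind₁ := isInducedBlock_of_pair hM B P e hBe ξ hξ ψ hψ
  have hind₂ := isInducedBlock_of_pair hM B P g hBg ξ' hξ' ψ' hψ'
  have hD₁ := isDefectGroup_of_induced hM B P hPD hP _ hind₁
  have hbb := block_eq_of_induced_eq hM P hP hind₁.1 hind₂.1 hD₁ hind₁ hind₂
  have hξ'Θ : ξ' ∈ relConst P _ hCN (blockOf M (ψ : Subgroup.normalizer (P : Set G) → ℂ)) := by
    refine ⟨ψ', ?_, hψ'⟩
    rw [hbb]
    exact mem_blockOf_self hMp ψ'
  obtain ⟨x, hx, hxe⟩ := covering_rel hM P _ hPN hCN le_rfl _ hind₁.1 e he ψ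
    (mem_blockOf_self hMp ψ) ξ hξ hψ ξ' hξ'Θ
  refine ⟨x, hx, ?_⟩
  rw [IsPBlock_eq_blockOf hMp hg hξ', IsPBlock_eq_blockOf hMp (isPBlock_pullBlock _ he) hxe]

omit [Fintype G] in
/-- Undoing a conjugation by an element of `N_G(P)`. -/
theorem cjPair_inv_pullBlock (P : Subgroup G) (x : G)
    (hx : x ∈ Subgroup.normalizer (P : Set G))
    (hxK : x ∈ Subgroup.normalizer ((Subgroup.centralizer (P : Set G) : Subgroup G) : Set G))
    (e : Set (IrrCharacter (Subgroup.centralizer (P : Set G)))) :
    cjPair x⁻¹ (⟨P, pullBlock (conjEquiv (Subgroup.centralizer (P : Set G)) x hxK) e⟩ :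
      BrauerPairIdx G) = ⟨P, e⟩ := by
  apply pairIdx_ext
  · show P.map (MulAut.conj x⁻¹).toMonoidHom = P
    exact Subgroup.mem_normalizer_iff_map_conj_eq.mp (Subgroup.inv_mem _ hx)
  · show ∀ (ξ₁ : IrrCharacter (Subgroup.centralizer
        ((P.map (MulAut.conj x⁻¹).toMonoidHom : Subgroup G) : Set G)))
      (ξ₂ : IrrCharacter (Subgroup.centralizer (P : Set G))),
      (∀ (t : G) (h₁ : t ∈ Subgroup.centralizer
        ((P.map (MulAut.conj x⁻¹).toMonoidHom : Subgroup G) : Set G))
        (h₂ : t ∈ Subgroup.centralizer (P : Set G)),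
        (ξ₁ : Subgroup.centralizer
          ((P.map (MulAut.conj x⁻¹).toMonoidHom : Subgroup G) : Set G) → ℂ) ⟨t, h₁⟩ =
          (ξ₂ : Subgroup.centralizer (P : Set G) → ℂ) ⟨t, h₂⟩) →
      (ξ₁ ∈ conjBlock P x⁻¹ (pullBlock (conjEquiv (Subgroup.centralizer (P : Set G)) x hxK) e)
        ↔ ξ₂ ∈ e)
    intro ξ₁ ξ₂ hξ
    rw [conjBlock_eq_pullBlock, mem_pullBlock_iff, mem_pullBlock_iff]
    have : pullIrr (conjEquiv (Subgroup.centralizer (P : Set G)) x hxK).symm
        (pullIrr (centralizerConjEquiv P x⁻¹).symm ξ₁) = ξ₂ := by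
      apply Subtype.ext
      funext c
      rw [pullIrr_apply, pullIrr_apply]
      have hmem : (c : G) ∈ Subgroup.centralizer
          ((P.map (MulAut.conj x⁻¹).toMonoidHom : Subgroup G) : Set G) := by
        have := ((centralizerConjEquiv P x⁻¹).symm
          ((conjEquiv (Subgroup.centralizer (P : Set G)) x hxK).symm c)).2
        convert this using 1
        show (c : G) = x⁻¹ * (x * (c : G) * x⁻¹) * x⁻¹⁻¹
        group
      have h1 : (centralizerConjEquiv P x⁻¹).symm
          ((conjEquiv (Subgroup.centralizer (P : Set G)) x hxK).symm c) = ⟨(c : G), hmem⟩ := by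
        apply Subtype.ext
        show x⁻¹ * (x * (c : G) * x⁻¹) * x⁻¹⁻¹ = (c : G)
        group
      rw [h1]
      exact hξ (c : G) hmem c.2
    rw [this]

/-- **Every Brauer pair of `B` is conjugate to a pair below a given maximal pair** (= S4660). -/
theorem exists_conj_subpairLE {p : ℕ} [Fact p.Prime] (hM : IsPModular p M)
    (B : Set (IrrCharacter G)) (P Q : Subgroup G)
    (e : Set (IrrCharacter (Subgroup.centralizer (P : Set G))))
    (f : Set (IrrCharacter (Subgroup.centralizer (Q : Set G))))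
    (hmax : IsMaximalBrauerPair p M B P e) (hQf : IsBrauerPairOf p M B Q f) :
    ∃ x : G, SubpairLE p M (Q.map (MulAut.conj x).toMonoidHom) (conjBlock Q x f) P e := by
  classical
  have : Fintype (IrrCharacter G) := Fintype.ofFinite _
  have hB := hQf.2.1
  obtain ⟨⟨R, g⟩, hRmax, hle⟩ := exists_maximal_above (M := M) (p := p) B _ ⟨Q, f⟩ hQf rfl
  have hRD : IsDefectGroup p M B R := isDefectGroup_of_isMaximalBrauerPair hM B R g hRmax
  have hPD : IsDefectGroup p M B P := isDefectGroup_of_isMaximalBrauerPair hM B P e hmax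
  obtain ⟨z, hz⟩ := defectGroup_conj hM B hB R P hRD hPD
  subst hz
  have hpair2 : IsBrauerPairOf p M B (R.map (MulAut.conj z).toMonoidHom) (conjBlock R z g) :=
    isBrauerPairOf_conj z hRmax.1
  obtain ⟨x, hx, hgx⟩ := exists_conj_of_pairs_at_defectGroup hM B _ hPD e (conjBlock R z g)
    hmax.1 hpair2
  have h1 := reflTransGen_conj (M := M) (p := p) z hle
  have h2 := reflTransGen_conj (M := M) (p := p) x⁻¹ h1
  rw [cjPair_mul] at h2
  have h3 : cjPair x⁻¹ (cjPair z (⟨R, g⟩ : BrauerPairIdx G)) =
      ⟨R.map (MulAut.conj z).toMonoidHom, e⟩ := by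
    show cjPair x⁻¹ (⟨R.map (MulAut.conj z).toMonoidHom, conjBlock R z g⟩ : BrauerPairIdx G) = _
    rw [hgx]
    exact cjPair_inv_pullBlock _ x hx _ e
  rw [h3] at h2
  exact ⟨x⁻¹ * z, h2⟩

end Cfsg.Agent.Helper23.MC
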