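import Mathlib
import Cfsg.Agent.S0919
import Cfsg.Agent.Helper5.BlockBasic

set_option autoImplicit false

/-!
# Defect-one cluster, piece (QI): every block of `C_G(P)` induces a block of `G`
-/

open Cfsg

namespace Cfsg.Agent.Helper23.D1QI

theorem le_centralizer_of_card_prime {G : Type*} [Group G] {p : ℕ} [Fact p.Prime]
    (P : Subgroup G) (hP : Nat.card P = p) :
    P ≤ Subgroup.centralizer (P : Set G) := by
  have : IsCyclic P := isCyclic_of_prime_card hP
  intro x hx
  rw [Subgroup.mem_centralizer_iff]
  intro y hy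
  have h := (IsCyclic.commGroup (α := P)).mul_comm ⟨y, hy⟩ ⟨x, hx⟩
  exact congrArg Subtype.val h

/-- (QI) every block of `C_G(P)` induces a block of `G` -/
theorem exists_induced {G : Type*} [Group G] [Finite G] {p : ℕ} [Fact p.Prime]
    {M : Ideal AlgInt} (hM : IsPModular p M) (P : Sylow p G) (hP : Nat.card P = p)
    (θ' : IrrCharacter (Subgroup.centralizer ((P : Subgroup G) : Set G))) :
    ∃ B' : Set (IrrCharacter G),
      IsInducedBlock M (Subgroup.centralizer ((P : Subgroup G) : Set G))
        (blockOf M (θ' : Subgroup.centralizer ((P : Subgroup G) : Set G) → ℂ)) B' :=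
  Cfsg.Agent.S0919.result p M hM (P : Subgroup G)
    (Subgroup.centralizer ((P : Subgroup G) : Set G)) P.isPGroup'
    (le_centralizer_of_card_prime (P : Subgroup G) hP) le_rfl
    (Subgroup.centralizer_le_normalizer _)
    (blockOf M (θ' : Subgroup.centralizer ((P : Subgroup G) : Set G) → ℂ)) ⟨θ', rfl⟩

end Cfsg.Agent.Helper23.D1QI
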