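import Mathlib
import Cfsg.Agent.Helper24.Gallagher
import Cfsg.Agent.Helper24.CyclicExtension
import Cfsg.Agent.Helper24.ColumnOrth
import Cfsg.Agent.Helper24.Abelian
import Cfsg.Agent.Helper24.GlaubP
import Cfsg.Agent.Helper5.FongReynolds3

set_option autoImplicit false
set_option linter.unusedSectionVars false
set_option linter.unusedVariables false

/-!
# Defect-one cluster, piece (PX)

Irreducible characters over an irreducible character of a normal subgroup with cyclic quotient: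
there are at least `|T : A|` of them, `T` the inertia group.
-/

open Cfsg Cfsg.Agent.Helper24

namespace Cfsg.Agent.Helper23.D1PX

theorem exists_chars_over_of_cyclic {Γ : Type*} [Group Γ] [Fintype Γ] (A : Subgroup Γ)
    [hA : A.Normal] [Fintype A] (hcyc : IsCyclic (Γ ⧸ A)) (ϑ : IrrCharacter A) (T : Subgroup Γ)
    (hT : ∀ g : Γ, g ∈ T ↔ ∀ a : A,
      (ϑ : A → ℂ) ⟨g * a * g⁻¹, hA.conj_mem (a : Γ) a.2 g⟩ = (ϑ : A → ℂ) a) :
    ∃ Ξ : Finset (IrrCharacter Γ), Ξ.card = A.relIndex T ∧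
      ∀ ξ ∈ Ξ, classInner (fun a : A => (ξ : Γ → ℂ) a) (ϑ : A → ℂ) ≠ 0 := by
  classical
  have : Fintype T := Fintype.ofFinite _
  -- `A ≤ T`
  have hAT : A ≤ T := by
    intro g hg
    rw [hT]
    intro a
    have := isClassFunction_irr ϑ a ⟨g, hg⟩
    convert this using 2
    apply Subtype.ext
    simp
  -- the normal subgroup `A' = A ∩ T` of `T`
  set A' : Subgroup T := A.subgroupOf T with hA'
  have hA'n : A'.Normal := by rw [hA']; infer_instance
  have : Fintype A' := Fintype.ofFinite _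
  let e : A' ≃* A := Subgroup.subgroupOfEquivOfLe hAT
  have he : ∀ a' : A', ((e a' : A) : Γ) = ((a' : T) : Γ) := fun a' => rfl
  set ϑ' : IrrCharacter A' := pullIrr e ϑ with hϑ'
  -- the quotient `T ⧸ A'` is cyclic
  have hcycT : IsCyclic (T ⧸ A') := by
    let f : T →* Γ ⧸ A := (QuotientGroup.mk' A).comp T.subtype
    have hker : A' ≤ f.ker := by
      intro t ht
      rw [MonoidHom.mem_ker]
      show ((t : Γ) : Γ ⧸ A) = 1
      rw [QuotientGroup.eq_one_iff]
      exact Subgroup.mem_subgroupOf.mp ht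
    let F : T ⧸ A' →* Γ ⧸ A := QuotientGroup.lift A' f hker
    have hF : Function.Injective F := by
      rw [injective_iff_map_eq_one]
      intro q
      induction q using QuotientGroup.induction_on with
      | H t =>
        intro h
        have h1 : ((t : Γ) : Γ ⧸ A) = 1 := h
        rw [QuotientGroup.eq_one_iff] at h1
        rw [QuotientGroup.eq_one_iff]
        exact Subgroup.mem_subgroupOf.mpr h1
    exact isCyclic_of_injective F hF
  -- `ϑ'` is `T`-invariant
  have hinv : ∀ (t : T) (n : A'),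
      (ϑ' : A' → ℂ) ⟨t * n * t⁻¹, hA'n.conj_mem (n : T) n.2 t⟩ = (ϑ' : A' → ℂ) n := by
    intro t n
    rw [hϑ', pullIrr_apply, pullIrr_apply]
    have := (hT (t : Γ)).mp t.2 (e n)
    convert this using 2
    apply Subtype.ext
    simp [he]
  obtain ⟨χ, hχ, hχϑ⟩ := exists_extension_of_cyclic_quotient A' hcycT (ϑ' : A' → ℂ) ϑ'.2 hinv
  set χI : IrrCharacter T := ⟨χ, hχ⟩ with hχI
  have hχN : IsIrrCharacter A' (fun n : A' => (χI : T → ℂ) n) := by
    have : (fun n : A' => (χI : T → ℂ) n) = (ϑ' : A' → ℂ) := by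
      funext n
      exact hχϑ n
    rw [this]
    exact ϑ'.2
  -- the Gallagher twists
  let ψ : IrrCharacter (T ⧸ A') → IrrCharacter T := fun β =>
    ⟨gallagherTwist A' χI β, isIrrCharacter_gallagherTwist A' χI hχN β⟩
  have hψinj : Function.Injective ψ := by
    intro β β' h
    exact gallagherTwist_injective A' χI hχN β β' (congrArg Subtype.val h)
  -- stabilizer conditions for `b = {ϑ}`
  have hstab : ∀ x ∈ T, ∀ θ ∈ ({ϑ} : Set (IrrCharacter A)), Helper5.CC.conjIrr A x θ ∈
      ({ϑ} : Set (IrrCharacter A)) := by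
    intro x hx θ hθ
    rw [Set.mem_singleton_iff] at hθ ⊢
    subst hθ
    apply Subtype.ext
    funext n
    exact (hT x).mp hx n
  have hdisj : ∀ x, x ∉ T → ∀ θ ∈ ({ϑ} : Set (IrrCharacter A)), Helper5.CC.conjIrr A x θ ∉
      ({ϑ} : Set (IrrCharacter A)) := by
    intro x hx θ hθ h
    rw [Set.mem_singleton_iff] at hθ h
    subst hθ
    apply hx
    rw [hT]
    intro a
    exact congrFun (congrArg Subtype.val h) a
  -- each twist lies over `ϑ`
  have hover : ∀ β : IrrCharacter (T ⧸ A'),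
      classInner (fun n : A => (ψ β : T → ℂ) ⟨(n : Γ), hAT n.2⟩) (ϑ : A → ℂ) ≠ 0 := by
    intro β
    have h1 : (fun n : A => (ψ β : T → ℂ) ⟨(n : Γ), hAT n.2⟩) =
        ((β : T ⧸ A' → ℂ) 1) • (ϑ : A → ℂ) := by
      funext n
      show gallagherTwist A' χI β ⟨(n : Γ), hAT n.2⟩ = _
      unfold gallagherTwist
      have hmem : (⟨(n : Γ), hAT n.2⟩ : T) ∈ A' := Subgroup.mem_subgroupOf.mpr n.2
      have h2 : ((⟨(n : Γ), hAT n.2⟩ : T) : T ⧸ A') = 1 := (QuotientGroup.eq_one_iff _).mpr hmem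
      rw [h2]
      have h3 := hχϑ ⟨⟨(n : Γ), hAT n.2⟩, hmem⟩
      rw [hϑ', pullIrr_apply] at h3
      simp only [Pi.smul_apply, smul_eq_mul]
      congr 1
    rw [h1, classInner_smul_left, classInner_irr_self, mul_one, irrDeg_spec]
    exact_mod_cast (irrDeg_pos β).ne'
  have : Fintype (IrrCharacter (T ⧸ A')) := Fintype.ofFinite _
  refine ⟨Finset.univ.image (fun β => Helper5.FR.indIrr T (ψ β)), ?_, ?_⟩
  · rw [Finset.card_image_of_injective]
    · rw [Finset.card_univ, ← Nat.card_eq_fintype_card, card_irr_eq_card_conjClasses,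
        card_conjClasses_eq_card_of_comm]
      · rfl
      · intro a b
        have := hcycT
        exact (IsCyclic.commGroup (α := T ⧸ A')).mul_comm a b
    · intro β β' h
      apply hψinj
      exact Helper5.FR.indIrr_inj A T {ϑ} hAT hstab hdisj (ψ β) (ψ β') ⟨ϑ, rfl, hover β⟩
        ⟨ϑ, rfl, hover β'⟩ h
  · intro ξ hξ
    rw [Finset.mem_image] at hξ
    obtain ⟨β, -, rfl⟩ := hξ
    have hirr := Helper5.FR.isIrrCharacter_indFun A T {ϑ} hAT hstab hdisj (ψ β)
      ⟨ϑ, rfl, hover β⟩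
    rw [Helper5.FR.indIrr_coe T (ψ β) hirr]
    exact Helper5.FR.classInner_indFun_restrict_ne_zero A T {ϑ} hAT hstab hdisj (ψ β) ϑ rfl
      (hover β)

end Cfsg.Agent.Helper23.D1PX
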