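import Mathlib
import Cfsg.Agent.Helper1.S4503Defs
import Cfsg.Agent.Helper24.Expansion
import Cfsg.Agent.Helper24.Product
import Cfsg.Agent.Helper24.RealChar
import Cfsg.Agent.Helper24.Linear
import Cfsg.Agent.Helper8.CharComp

/-!
S4503 piece LIN (and CONS): multiplicities as natural numbers, linearity of the multiplicities
in the character, sums of characters over subgroups.
-/

set_option autoImplicit false
set_option linter.unusedSectionVars false

namespace Cfsg.Agent.Helper23.S4503LIN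

open Cfsg Cfsg.Agent.Helper24 Cfsg.Agent.S4705P Cfsg.Agent.S4503P
open scoped ComplexConjugate

universe u

variable {G : Type u} [Group G] [Finite G]

theorem mult_nat (H : Subgroup G) (ξ : H → ℂ) (hξ : IsIrrCharacter H ξ) (Ξ : G → ℂ)
    (hΞ : IsCharacter G Ξ) : ∃ n : ℕ, mult H ξ Ξ = n := by
  have : Fintype H := Fintype.ofFinite _
  have : Fintype (IrrCharacter H) := Fintype.ofFinite _
  rw [mult_eq]
  exact IsCharacter.classInner_irr_nat (Cfsg.Agent.Helper8.isCharacter_restrict H hΞ) ⟨ξ, hξ⟩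

theorem ip_nat (Ξ : G → ℂ) (hΞ : IsCharacter G Ξ) (χ : IrrCharacter G) :
    ∃ n : ℕ, ip Ξ (χ : G → ℂ) = n := by
  have : Fintype G := Fintype.ofFinite _
  have : Fintype (IrrCharacter G) := Fintype.ofFinite _
  rw [ip_eq]
  exact IsCharacter.classInner_irr_nat hΞ χ

/-- the expansion of a character, with `ip` -/
theorem eq_sum_ip [Fintype (IrrCharacter G)] (Ξ : G → ℂ) (hΞ : IsCharacter G Ξ) (g : G) :
    Ξ g = ∑ ψ : IrrCharacter G, ip Ξ (ψ : G → ℂ) * (ψ : G → ℂ) g := by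
  have : Fintype G := Fintype.ofFinite _
  have h := congrFun (IsCharacter.eq_sum_classInner hΞ) g
  rw [Finset.sum_apply] at h
  rw [h]
  apply Finset.sum_congr rfl
  intro ψ _
  rw [ip_eq]
  rfl

/-- linearity of `mult` -/
theorem mult_eq_sum [Fintype (IrrCharacter G)] (H : Subgroup G) (ξ : H → ℂ) (Ξ : G → ℂ)
    (hΞ : IsCharacter G Ξ) :
    mult H ξ Ξ = ∑ ψ : IrrCharacter G, ip Ξ (ψ : G → ℂ) * mult H ξ (ψ : G → ℂ) := by
  have : Fintype H := Fintype.ofFinite _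
  have hres : (fun c : H => Ξ c) =
      ∑ ψ : IrrCharacter G, ip Ξ (ψ : G → ℂ) • (fun c : H => (ψ : G → ℂ) c) := by
    funext c
    rw [Finset.sum_apply, eq_sum_ip Ξ hΞ]
    rfl
  rw [mult_eq, hres, classInner_sum_left]
  apply Finset.sum_congr rfl
  intro ψ _
  rw [classInner_smul_left, mult_eq]

/-- the sum of an irreducible character over a subgroup is a natural multiple of the order -/
theorem sum_subgroup_nat (H : Subgroup G) (χ : G → ℂ) (hχ : IsCharacter G χ) :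
    ∃ n : ℕ, ∑ᶠ x : H, χ (x : G) = ((Nat.card H * n : ℕ) : ℂ) := by
  have : Fintype H := Fintype.ofFinite _
  obtain ⟨n, hn⟩ := mult_nat H (fun _ => 1) isIrrCharacter_const_one χ hχ
  refine ⟨n, ?_⟩
  rw [mult_eq, classInner] at hn
  have hne : (Nat.card H : ℂ) ≠ 0 := by
    exact_mod_cast (Nat.card_pos (α := H)).ne'
  rw [finsum_eq_sum_of_fintype]
  push_cast
  rw [← hn, ← mul_assoc, mul_inv_cancel₀ hne, one_mul]
  apply Finset.sum_congr rfl
  intro x _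
  simp

end Cfsg.Agent.Helper23.S4503LIN

namespace Cfsg.Agent.S4503P

open Cfsg Cfsg.Agent.Helper24 Cfsg.Agent.Helper8.D1 Cfsg.Agent.S4705P
open Cfsg.Agent.Helper23.S4503LIN
open scoped ComplexConjugate

universe u

variable {G : Type u} [Group G] [Finite G]

/-! ### LIN: multiplicities as natural numbers, linearity -/
theorem multN_cast (H : Subgroup G) (ξ : H → ℂ) (hξ : IsIrrCharacter H ξ) (Ξ : G → ℂ)
    (hΞ : IsCharacter G Ξ) : ((multN H ξ Ξ : ℕ) : ℂ) = mult H ξ Ξ := by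
  obtain ⟨n, hn⟩ := mult_nat H ξ hξ Ξ hΞ
  unfold multN
  rw [hn, Complex.natCast_re, Nat.floor_natCast]

theorem ipN_cast (Ξ : G → ℂ) (hΞ : IsCharacter G Ξ) (χ : IrrCharacter G) :
    ((ipN Ξ (χ : G → ℂ) : ℕ) : ℂ) = ip Ξ (χ : G → ℂ) := by
  obtain ⟨n, hn⟩ := ip_nat Ξ hΞ χ
  unfold ipN
  rw [hn, Complex.natCast_re, Nat.floor_natCast]

theorem isCharacter_mulConj (α β : G → ℂ) (hα : IsCharacter G α) (hβ : IsCharacter G β) :
    IsCharacter G (mulConj α β) :=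
  IsCharacter.mul hα (isCharacter_star hβ)

theorem sum_ipN_mul_multN (H : Subgroup G) (ξ : H → ℂ) (hξ : IsIrrCharacter H ξ) (Ξ : G → ℂ)
    (hΞ : IsCharacter G Ξ) :
    ∑ᶠ χ : IrrCharacter G, ipN Ξ (χ : G → ℂ) * multN H ξ (χ : G → ℂ) = multN H ξ Ξ := by
  have : Fintype (IrrCharacter G) := Fintype.ofFinite _
  apply Nat.cast_injective (R := ℂ)
  rw [finsum_eq_sum_of_fintype, multN_cast H ξ hξ Ξ hΞ, mult_eq_sum H ξ Ξ hΞ, Nat.cast_sum]
  apply Finset.sum_congr rfl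
  intro χ _
  rw [Nat.cast_mul, ipN_cast Ξ hΞ χ, multN_cast H ξ hξ _ (IsIrrCharacter.isCharacter χ.2)]

theorem sum_subgroup_eq (H : Subgroup G) (Ξ : G → ℂ) (hΞ : IsCharacter G Ξ) :
    ∑ᶠ x : H, Ξ (x : G) =
      ∑ᶠ χ : IrrCharacter G, (ipN Ξ (χ : G → ℂ) : ℂ) * ∑ᶠ x : H, (χ : G → ℂ) (x : G) := by
  have : Fintype (IrrCharacter G) := Fintype.ofFinite _
  have : Fintype H := Fintype.ofFinite _
  rw [finsum_eq_sum_of_fintype, finsum_eq_sum_of_fintype]
  have h1 : ∀ x : H, Ξ (x : G) = ∑ ψ : IrrCharacter G, ip Ξ (ψ : G → ℂ) * (ψ : G → ℂ) (x : G) :=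
    fun x => eq_sum_ip Ξ hΞ x
  simp_rw [h1]
  rw [Finset.sum_comm]
  apply Finset.sum_congr rfl
  intro χ _
  rw [finsum_eq_sum_of_fintype, ipN_cast Ξ hΞ χ, Finset.mul_sum]

/-! ### CONS -/
theorem sum_subgroup_eq_zero_of_constituent (H : Subgroup G) (Ξ : G → ℂ) (hΞ : IsCharacter G Ξ)
    (h0 : ∑ᶠ x : H, Ξ (x : G) = 0) (χ : IrrCharacter G) (hχ : 0 < ipN Ξ (χ : G → ℂ)) :
    ∑ᶠ x : H, (χ : G → ℂ) (x : G) = 0 := by
  have : Fintype (IrrCharacter G) := Fintype.ofFinite _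
  choose n hn using fun ψ : IrrCharacter G =>
    sum_subgroup_nat H (ψ : G → ℂ) (IsIrrCharacter.isCharacter ψ.2)
  rw [sum_subgroup_eq H Ξ hΞ, finsum_eq_sum_of_fintype] at h0
  have h1 : ∑ ψ : IrrCharacter G, ipN Ξ (ψ : G → ℂ) * (Nat.card H * n ψ) = 0 := by
    apply Nat.cast_injective (R := ℂ)
    rw [Nat.cast_sum, Nat.cast_zero, ← h0]
    apply Finset.sum_congr rfl
    intro ψ _
    rw [Nat.cast_mul, hn ψ]
  have h2 := (Finset.sum_eq_zero_iff.mp h1) χ (Finset.mem_univ χ)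
  have h3 : Nat.card H * n χ = 0 := by
    rcases Nat.mul_eq_zero.mp h2 with h | h
    · omega
    · exact h
  rw [hn χ, h3, Nat.cast_zero]

end Cfsg.Agent.S4503P
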