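import Mathlib
import Cfsg.Agent.Helper1.S4503Defs
import Cfsg.Agent.Helper1.D1PA

/-!
S4503 piece LOC: localisation of sums of a class function over the `p`-singular elements of a
group with a Sylow `p`-subgroup `P` of order `p`: the `p`-singular elements are partitioned by the
Sylow subgroup they centralize, and the parts are conjugate.
-/

set_option autoImplicit false
set_option linter.unusedSectionVars false

namespace Cfsg.Agent.Helper23.S4503LOC

open Cfsg Cfsg.Agent.Helper1

universe u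

variable {G : Type u} [Group G] [Finite G] {p : ℕ} [Fact p.Prime]

/-- the `p`-singular elements centralizing the Sylow subgroup `Q` -/
def A (Q : Sylow p G) : Set G :=
  {g | g ∈ Subgroup.centralizer ((Q : Subgroup G) : Set G) ∧ p ∣ orderOf g}

theorem card_sylow_eq (P Q : Sylow p G) : Nat.card Q = Nat.card P := by
  rw [Sylow.card_eq_multiplicity, Sylow.card_eq_multiplicity]

theorem orderOf_pow_div {g : G} (hg : p ∣ orderOf g) : orderOf (g ^ (orderOf g / p)) = p :=
  orderOf_pow_orderOf_div (orderOf_pos g).ne' hg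

theorem zpowers_eq_of_mem_A (Q : Sylow p G) (hQ : Nat.card Q = p) {g : G} (hg : g ∈ A Q) :
    Subgroup.zpowers (g ^ (orderOf g / p)) = (Q : Subgroup G) := by
  have hp : p.Prime := Fact.out
  have hord := orderOf_pow_div hg.2
  have hx1 : g ^ (orderOf g / p) ≠ 1 := by
    intro h
    rw [h, orderOf_one] at hord
    exact hp.ne_one hord.symm
  have hxp : (g ^ (orderOf g / p)) ^ (p ^ 1) = 1 := by
    rw [pow_one]
    nth_rewrite 2 [← hord]
    exact pow_orderOf_eq_one _
  have hxQ : g ^ (orderOf g / p) ∈ (Q : Subgroup G) :=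
    D1PA.mem_of_pow_eq_one Q (Subgroup.pow_mem _ hg.1 _) hxp
  exact D1PA.zpowers_eq Q hQ hxQ hx1

theorem disjoint_A (P : Sylow p G) (hP : Nat.card P = p) :
    Pairwise (Function.onFun Disjoint (A : Sylow p G → Set G)) := by
  intro Q Q' hne
  rw [Function.onFun, Set.disjoint_left]
  intro g hg hg'
  apply hne
  apply Sylow.ext
  rw [← zpowers_eq_of_mem_A Q ((card_sylow_eq P Q).trans hP) hg,
    ← zpowers_eq_of_mem_A Q' ((card_sylow_eq P Q').trans hP) hg']

theorem iUnion_A (P : Sylow p G) (hP : Nat.card P = p) :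
    (⋃ Q : Sylow p G, A Q) = {g : G | p ∣ orderOf g} := by
  have hp : p.Prime := Fact.out
  ext g
  rw [Set.mem_iUnion]
  change (∃ Q : Sylow p G, g ∈ A Q) ↔ p ∣ orderOf g
  constructor
  · rintro ⟨Q, hQ⟩
    exact hQ.2
  · intro hg
    have hord := orderOf_pow_div hg
    set x := g ^ (orderOf g / p) with hx
    have hcard : Nat.card (Subgroup.zpowers x) = p ^ 1 := by
      rw [Nat.card_zpowers, hord, pow_one]
    obtain ⟨Q, hQ⟩ := (IsPGroup.of_card hcard).exists_le_sylow
    have hQc : Nat.card Q = p := (card_sylow_eq P Q).trans hP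
    have heq : Subgroup.zpowers x = (Q : Subgroup G) := by
      apply Subgroup.eq_of_le_of_card_ge hQ
      rw [hcard, pow_one]
      exact hQc.le
    refine ⟨Q, ?_, hg⟩
    rw [Subgroup.mem_centralizer_iff]
    intro y hy
    rw [SetLike.mem_coe, ← heq] at hy
    obtain ⟨k, rfl⟩ := Subgroup.mem_zpowers_iff.mp hy
    have hc : Commute g x := (Commute.refl g).pow_right _
    exact ((hc.zpow_right k).eq).symm

theorem conj_mem_A (x : G) (P : Sylow p G) {h : G} (hh : h ∈ A P) :
    x * h * x⁻¹ ∈ A (x • P) := by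
  refine ⟨?_, ?_⟩
  · rw [Subgroup.mem_centralizer_iff]
    intro y hy
    rw [SetLike.mem_coe, Sylow.coe_subgroup_smul,
      Subgroup.mem_pointwise_smul_iff_inv_smul_mem, MulAut.smul_def, MulAut.conj_inv_apply] at hy
    have h1 := (Subgroup.mem_centralizer_iff.mp hh.1) _ hy
    have h2 : y = x * (x⁻¹ * y * x) * x⁻¹ := by group
    rw [h2]
    calc x * (x⁻¹ * y * x) * x⁻¹ * (x * h * x⁻¹) = x * ((x⁻¹ * y * x) * h) * x⁻¹ := by group
      _ = x * (h * (x⁻¹ * y * x)) * x⁻¹ := by rw [h1]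
      _ = x * h * x⁻¹ * (x * (x⁻¹ * y * x) * x⁻¹) := by group
  · have : orderOf (x * h * x⁻¹) = orderOf h := by
      rw [← MulAut.conj_apply]
      exact MulEquiv.orderOf_eq _ _
    rw [this]
    exact hh.2

theorem sum_A_smul (F : G → ℂ) (hF : IsClassFunction G F) (x : G) (P : Sylow p G) :
    ∑ᶠ g ∈ A (x • P), F g = ∑ᶠ g ∈ A P, F g := by
  symm
  apply finsum_mem_eq_of_bijOn (fun h => x * h * x⁻¹)
  · refine ⟨fun h hh => conj_mem_A x P hh, ?_, ?_⟩
    · intro a _ b _ hab
      simpa using hab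
    · intro g hg
      refine ⟨x⁻¹ * g * x⁻¹⁻¹, ?_, ?_⟩
      · have := conj_mem_A x⁻¹ (x • P) hg
        rwa [inv_smul_smul] at this
      · simp only [inv_inv]
        group
  · intro h _
    exact (hF h x).symm

theorem sum_A_eq (F : G → ℂ) (hF : IsClassFunction G F) (P Q : Sylow p G) :
    ∑ᶠ g ∈ A Q, F g = ∑ᶠ g ∈ A P, F g := by
  obtain ⟨x, rfl⟩ := MulAction.exists_smul_eq G P Q
  exact sum_A_smul F hF x P

theorem sum_A_eq_subtype (F : G → ℂ) (P : Sylow p G) :
    ∑ᶠ g ∈ A P, F g =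
      ∑ᶠ c ∈ {c : Subgroup.centralizer ((P : Subgroup G) : Set G) | p ∣ orderOf (c : G)},
        F (c : G) := by
  have himg : A P = Subtype.val ''
      {c : Subgroup.centralizer ((P : Subgroup G) : Set G) | p ∣ orderOf (c : G)} := by
    ext g
    constructor
    · rintro ⟨hg1, hg2⟩
      exact ⟨⟨g, hg1⟩, hg2, rfl⟩
    · rintro ⟨c, hc, rfl⟩
      exact ⟨c.2, hc⟩
  rw [himg]
  exact finsum_mem_image (Subtype.val_injective.injOn)

end Cfsg.Agent.Helper23.S4503LOC

namespace Cfsg.Agent.S4503P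

open Cfsg Cfsg.Agent.Helper24 Cfsg.Agent.Helper8.D1 Cfsg.Agent.S4705P
open scoped ComplexConjugate

universe u

variable {G : Type u} [Group G] [Finite G]

theorem sum_singular (p : ℕ) [Fact p.Prime] (P : Sylow p G) (hP : Nat.card P = p) (F : G → ℂ)
    (hF : IsClassFunction G F) :
    ∑ᶠ g ∈ {g : G | p ∣ orderOf g}, F g =
      ((Subgroup.normalizer ((P : Subgroup G) : Set G)).index : ℂ) *
        ∑ᶠ c ∈ {c : Subgroup.centralizer ((P : Subgroup G) : Set G) | p ∣ orderOf (c : G)},
          F (c : G) := by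
  have : Fintype (Sylow p G) := Fintype.ofFinite _
  rw [← Cfsg.Agent.Helper23.S4503LOC.iUnion_A P hP,
    finsum_mem_iUnion (Cfsg.Agent.Helper23.S4503LOC.disjoint_A P hP)
      (fun Q => Set.toFinite _)]
  have hconst : (fun Q : Sylow p G => ∑ᶠ g ∈ Cfsg.Agent.Helper23.S4503LOC.A Q, F g) =
      fun _ => ∑ᶠ g ∈ Cfsg.Agent.Helper23.S4503LOC.A P, F g := by
    funext Q
    exact Cfsg.Agent.Helper23.S4503LOC.sum_A_eq F hF P Q
  rw [hconst, finsum_eq_sum_of_fintype, Finset.sum_const, Finset.card_univ,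
    ← Nat.card_eq_fintype_card, Sylow.card_eq_index_normalizer P, nsmul_eq_mul,
    Cfsg.Agent.Helper23.S4503LOC.sum_A_eq_subtype F P]
  rfl

end Cfsg.Agent.S4503P
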