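import Mathlib
import Cfsg.Agent.Helper1.S4503Defs
import Cfsg.Agent.Helper23.S4503LOC
import Cfsg.Agent.Helper23.S4503LIN
import Cfsg.Agent.Helper11.D1QL
import Cfsg.Agent.Helper18.D1QO

/-!
S4503 piece SHIFT: the index shift
`f (m₁(χ) - m₂(χ)) = Σ_{ν NT} (a_χ(ν) - a_χ(1)) (L₁(ν) - L₂(ν))`.
-/

set_option autoImplicit false
set_option linter.unusedSectionVars false

namespace Cfsg.Agent.Helper23.S4503SHIFT

open Cfsg Cfsg.Agent.Helper24 Cfsg.Agent.Helper8.D1 Cfsg.Agent.S4705P Cfsg.Agent.S4503P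
open scoped ComplexConjugate

universe u

variable {G : Type u} [Group G] [Finite G]

theorem finsum_mem_eq_sum_of_zero {α : Type*} [Fintype α] (s : Set α) (f : α → ℂ)
    (h : ∀ x, x ∉ s → f x = 0) : ∑ᶠ x ∈ s, f x = ∑ x, f x := by
  rw [finsum_mem_inter_support_eq' f s Set.univ
    (fun x hx => ⟨fun _ => trivial, fun _ => by_contra (fun hn => hx (h x hn))⟩),
    finsum_mem_univ, finsum_eq_sum_of_fintype]

theorem finite_isPLin (p : ℕ) [Fact p.Prime] (P : Sylow p G) (hP : Nat.card P = p) :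
    {ν : Subgroup.centralizer ((P : Subgroup G) : Set G) → ℂ | IsPLin p ν}.Finite := by
  have hp : p.Prime := Fact.out
  obtain ⟨h1, h2, h3⟩ := Cfsg.Agent.Helper18.D1QO.subgroupOf_facts P hP
  have hcard := Cfsg.Agent.Helper11.D1QL.card_pLin _ h1 h2 h3
  have hfin : Finite {μ : Subgroup.centralizer ((P : Subgroup G) : Set G) → ℂ // IsPLin p μ} := by
    apply Nat.finite_of_card_ne_zero
    rw [hcard]
    exact hp.ne_zero
  exact Set.finite_coe_iff.mp hfin

theorem finite_NT' (p : ℕ) [Fact p.Prime] (P : Sylow p G) (hP : Nat.card P = p) :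
    {ν : Subgroup.centralizer ((P : Subgroup G) : Set G) → ℂ | NT p ν}.Finite :=
  (finite_isPLin p P hP).subset (fun _ h => h.1)

theorem isIrr_of_isPLin {X : Type*} [Group X] [Finite X] (p : ℕ) (μ : X → ℂ) (hμ : IsPLin p μ) :
    IsIrrCharacter X μ := by
  have h := hμ.isIrr_mul (θ := fun _ => (1 : ℂ)) isIrrCharacter_const_one
  have : (fun x => μ x * (1 : ℂ)) = μ := by
    funext x
    rw [mul_one]
  rwa [this] at h

/-- the localisation identity behind SHIFT -/
theorem key (p : ℕ) [Fact p.Prime] (P : Sylow p G) (hP : Nat.card P = p) [Fintype G]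
    [Fintype (Subgroup.centralizer ((P : Subgroup G) : Set G))]
    (Δ : G → ℂ) (hΔ : IsClassFunction G Δ) (hΔreg : ∀ g, ¬ p ∣ orderOf g → Δ g = 0)
    (χ : G → ℂ) (hχ : IsClassFunction G χ)
    (T : Finset (Subgroup.centralizer ((P : Subgroup G) : Set G) → ℂ))
    (d : (Subgroup.centralizer ((P : Subgroup G) : Set G) → ℂ) → ℂ)
    (hval : ∀ c : Subgroup.centralizer ((P : Subgroup G) : Set G), p ∣ orderOf (c : G) →
      conj (χ c) = ∑ ν ∈ T, d ν * conj (ν c)) :
    ∑ g : G, Δ g * conj (χ g) =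
      ((Subgroup.normalizer ((P : Subgroup G) : Set G)).index : ℂ) *
        ∑ ν ∈ T, d ν * ∑ c : Subgroup.centralizer ((P : Subgroup G) : Set G),
          Δ c * conj (ν c) := by
  have hF : IsClassFunction G (fun g => Δ g * conj (χ g)) := by
    intro g h
    simp only
    rw [hΔ g h, hχ g h]
  rw [← finsum_mem_eq_sum_of_zero {g : G | p ∣ orderOf g} (fun g => Δ g * conj (χ g))
    (fun g hg => by
      rw [hΔreg g hg, zero_mul]),
    sum_singular p P hP _ hF]
  congr 1
  rw [finsum_mem_eq_sum_of_zero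
    {c : Subgroup.centralizer ((P : Subgroup G) : Set G) | p ∣ orderOf (c : G)}
    (fun c : Subgroup.centralizer ((P : Subgroup G) : Set G) => Δ (c : G) * conj (χ (c : G)))
    (fun c hc => by
      rw [hΔreg (c : G) hc, zero_mul])]
  have h1 : ∀ c : Subgroup.centralizer ((P : Subgroup G) : Set G),
      Δ (c : G) * conj (χ (c : G)) = ∑ ν ∈ T, d ν * (Δ (c : G) * conj (ν c)) := by
    intro c
    by_cases hc : p ∣ orderOf (c : G)
    · rw [hval c hc, Finset.mul_sum]
      apply Finset.sum_congr rfl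
      intro ν _
      ring
    · rw [hΔreg (c : G) hc, zero_mul]
      symm
      apply Finset.sum_eq_zero
      intro ν _
      rw [zero_mul, mul_zero]
  simp_rw [h1]
  rw [Finset.sum_comm]
  apply Finset.sum_congr rfl
  intro ν _
  rw [Finset.mul_sum]

end Cfsg.Agent.Helper23.S4503SHIFT

namespace Cfsg.Agent.S4503P

open Cfsg Cfsg.Agent.Helper24 Cfsg.Agent.Helper8.D1 Cfsg.Agent.S4705P
open Cfsg.Agent.Helper23.S4503SHIFT
open scoped ComplexConjugate

universe u

variable {G : Type u} [Group G] [Finite G]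

/-! ### SHIFT: the index shift -/
theorem shift (p : ℕ) [Fact p.Prime] (P : Sylow p G) (hP : Nat.card P = p)
    (ψ ψ₂ χ : IrrCharacter G)
    (reg : ∀ g : G, ¬ p ∣ orderOf g → (ψ₂ : G → ℂ) g = (ψ : G → ℂ) g)
    (hval : ∀ c : Subgroup.centralizer ((P : Subgroup G) : Set G), p ∣ orderOf (c : G) →
      (χ : G → ℂ) c = ∑ᶠ ν ∈ {ν : Subgroup.centralizer ((P : Subgroup G) : Set G) → ℂ | NT p ν},
        (((multN (Subgroup.centralizer ((P : Subgroup G) : Set G)) ν (χ : G → ℂ) : ℤ) -
          multN (Subgroup.centralizer ((P : Subgroup G) : Set G)) (triv _) (χ : G → ℂ) : ℤ) : ℂ) *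
            ν c) :
    (fN (P : Subgroup G) : ℤ) *
        ((ipN (mulConj (ψ : G → ℂ) (ψ : G → ℂ)) (χ : G → ℂ) : ℤ) -
          ipN (mulConj (ψ : G → ℂ) (ψ₂ : G → ℂ)) (χ : G → ℂ)) =
      ∑ᶠ ν ∈ {ν : Subgroup.centralizer ((P : Subgroup G) : Set G) → ℂ | NT p ν},
        ((multN (Subgroup.centralizer ((P : Subgroup G) : Set G)) ν (χ : G → ℂ) : ℤ) -
          multN (Subgroup.centralizer ((P : Subgroup G) : Set G)) (triv _) (χ : G → ℂ)) *
        ((multN (Subgroup.centralizer ((P : Subgroup G) : Set G)) ν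
            (mulConj (ψ : G → ℂ) (ψ : G → ℂ)) : ℤ) -
          multN (Subgroup.centralizer ((P : Subgroup G) : Set G)) ν
            (mulConj (ψ : G → ℂ) (ψ₂ : G → ℂ))) := by
  classical
  have : Fintype G := Fintype.ofFinite _
  have : Fintype (Subgroup.centralizer ((P : Subgroup G) : Set G)) := Fintype.ofFinite _
  have hfin := finite_NT' p P hP
  have hψc : IsCharacter G (ψ : G → ℂ) := IsIrrCharacter.isCharacter ψ.2
  have hψ₂c : IsCharacter G (ψ₂ : G → ℂ) := IsIrrCharacter.isCharacter ψ₂.2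
  have hχc : IsCharacter G (χ : G → ℂ) := IsIrrCharacter.isCharacter χ.2
  have h11 := isCharacter_mulConj _ _ hψc hψc
  have h12 := isCharacter_mulConj _ _ hψc hψ₂c
  -- the difference
  have hΔ : IsClassFunction G (fun g => mulConj (ψ : G → ℂ) (ψ : G → ℂ) g -
      mulConj (ψ : G → ℂ) (ψ₂ : G → ℂ) g) := by
    intro g h
    simp only
    rw [IsCharacter.isClassFunction h11 g h, IsCharacter.isClassFunction h12 g h]
  have hΔreg : ∀ g, ¬ p ∣ orderOf g → mulConj (ψ : G → ℂ) (ψ : G → ℂ) g -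
      mulConj (ψ : G → ℂ) (ψ₂ : G → ℂ) g = 0 := by
    intro g hg
    unfold mulConj
    rw [reg g hg, sub_self]
  -- conjugated form of hval
  have hval' : ∀ c : Subgroup.centralizer ((P : Subgroup G) : Set G), p ∣ orderOf (c : G) →
      conj ((χ : G → ℂ) c) = ∑ ν ∈ hfin.toFinset,
        (((multN (Subgroup.centralizer ((P : Subgroup G) : Set G)) ν (χ : G → ℂ) : ℤ) -
          multN (Subgroup.centralizer ((P : Subgroup G) : Set G)) (triv _) (χ : G → ℂ) : ℤ) : ℂ) *
            conj (ν c) := by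
    intro c hc
    rw [hval c hc, finsum_mem_eq_finite_toFinset_sum _ hfin, map_sum]
    apply Finset.sum_congr rfl
    intro ν _
    rw [map_mul, map_intCast]
  have hkey := key p P hP _ hΔ hΔreg (χ : G → ℂ) (IsCharacter.isClassFunction hχc) hfin.toFinset
    _ hval'
  -- cardinalities
  have hle : Subgroup.centralizer ((P : Subgroup G) : Set G) ≤
      Subgroup.normalizer ((P : Subgroup G) : Set G) := Subgroup.centralizer_le_normalizer _
  have hcardG : (Nat.card G : ℂ) =
      (Nat.card (Subgroup.centralizer ((P : Subgroup G) : Set G)) : ℂ) * (fN (P : Subgroup G) : ℂ) *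
        ((Subgroup.normalizer ((P : Subgroup G) : Set G)).index : ℂ) := by
    rw [← Subgroup.card_mul_index (Subgroup.centralizer ((P : Subgroup G) : Set G)),
      ← Subgroup.relIndex_mul_index hle]
    unfold fN
    push_cast
    ring
  have hG0 : (Nat.card G : ℂ) ≠ 0 := by exact_mod_cast (Nat.card_pos (α := G)).ne'
  have hC0 : (Nat.card (Subgroup.centralizer ((P : Subgroup G) : Set G)) : ℂ) ≠ 0 := by
    exact_mod_cast (Nat.card_pos (α := Subgroup.centralizer ((P : Subgroup G) : Set G))).ne'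
  -- cast to ℂ
  apply Int.cast_injective (α := ℂ)
  rw [finsum_mem_eq_finite_toFinset_sum _ hfin]
  push_cast
  rw [ipN_cast _ h11 χ, ipN_cast _ h12 χ, ip_eq, ip_eq]
  have hL : ∀ ν ∈ hfin.toFinset,
      ((multN (Subgroup.centralizer ((P : Subgroup G) : Set G)) ν (χ : G → ℂ) : ℂ) -
          (multN (Subgroup.centralizer ((P : Subgroup G) : Set G)) (triv _) (χ : G → ℂ) : ℂ)) *
        ((multN (Subgroup.centralizer ((P : Subgroup G) : Set G)) ν
            (mulConj (ψ : G → ℂ) (ψ : G → ℂ)) : ℂ) -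
          (multN (Subgroup.centralizer ((P : Subgroup G) : Set G)) ν
            (mulConj (ψ : G → ℂ) (ψ₂ : G → ℂ)) : ℂ)) =
      (Nat.card (Subgroup.centralizer ((P : Subgroup G) : Set G)) : ℂ)⁻¹ *
        ((((multN (Subgroup.centralizer ((P : Subgroup G) : Set G)) ν (χ : G → ℂ) : ℤ) -
          multN (Subgroup.centralizer ((P : Subgroup G) : Set G)) (triv _) (χ : G → ℂ) : ℤ) : ℂ) *
        ∑ c : Subgroup.centralizer ((P : Subgroup G) : Set G),
          (mulConj (ψ : G → ℂ) (ψ : G → ℂ) c - mulConj (ψ : G → ℂ) (ψ₂ : G → ℂ) c) *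
            conj (ν c)) := by
    intro ν hν
    have hνirr : IsIrrCharacter (Subgroup.centralizer ((P : Subgroup G) : Set G)) ν :=
      isIrr_of_isPLin p ν ((hfin.mem_toFinset.mp hν).1)
    rw [multN_cast _ ν hνirr _ h11, multN_cast _ ν hνirr _ h12, mult_eq, mult_eq]
    unfold classInner
    push_cast
    simp_rw [sub_mul, Finset.sum_sub_distrib]
    ring
  rw [Finset.sum_congr rfl hL, ← Finset.mul_sum]
  unfold classInner
  rw [← mul_sub, ← Finset.sum_sub_distrib]
  simp_rw [← sub_mul]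
  rw [hkey, hcardG]
  have hf0 : (fN (P : Subgroup G) : ℂ) ≠ 0 := by
    intro h
    rw [h, mul_zero, zero_mul] at hcardG
    exact hG0 hcardG
  have hN0 : ((Subgroup.normalizer ((P : Subgroup G) : Set G)).index : ℂ) ≠ 0 := by
    intro h
    rw [h, mul_zero] at hcardG
    exact hG0 hcardG
  field_simp

end Cfsg.Agent.S4503P
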