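import Mathlib
import Cfsg.Agent.Helper1.S4503Defs
import Cfsg.Agent.Helper23.S4503SHIFT
import Cfsg.Agent.Helper11.D1QL
import Cfsg.Agent.Helper11.D1QCa
import Cfsg.Agent.Helper18.D1QO
import Cfsg.Agent.Helper18.D1QOFinal

/-!
S4503 piece ORB: the non-trivial `p`-linear characters of `C = C_G(P)` and their orbits under
`N_G(P)`.
-/

set_option autoImplicit false
set_option linter.unusedSectionVars false

namespace Cfsg.Agent.Helper23.S4503ORB

open Cfsg Cfsg.Agent.Helper24 Cfsg.Agent.Helper8.D1 Cfsg.Agent.S4705P Cfsg.Agent.S4503P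
open scoped ComplexConjugate

universe u

variable {G : Type u} [Group G] [Finite G]

theorem isPLin_set_eq (p : ℕ) (X : Type*) [Group X] :
    {ν : X → ℂ | IsPLin p ν} = insert (fun _ => (1 : ℂ)) {ν : X → ℂ | NT p ν} := by
  ext ν
  rw [Set.mem_insert_iff]
  constructor
  · intro h
    by_cases h1 : ∃ x, ν x ≠ 1
    · exact Or.inr ⟨h, h1⟩
    · left
      push Not at h1
      funext x
      exact h1 x
  · rintro (h | h)
    · rw [h]
      exact isPLin_one p
    · exact h.1

theorem one_not_NT (p : ℕ) (X : Type*) [Group X] :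
    (fun _ => (1 : ℂ)) ∉ {ν : X → ℂ | NT p ν} := by
  rintro ⟨-, x, hx⟩
  exact hx rfl

end Cfsg.Agent.Helper23.S4503ORB

namespace Cfsg.Agent.S4503P

open Cfsg Cfsg.Agent.Helper24 Cfsg.Agent.Helper8.D1 Cfsg.Agent.S4705P
open Cfsg.Agent.Helper23.S4503ORB Cfsg.Agent.Helper23.S4503SHIFT
open scoped ComplexConjugate

universe u

variable {G : Type u} [Group G] [Finite G]

/-! ### ORB: the non-trivial `p`-linear characters of `C` and their `N`-orbits -/
theorem finite_NT (p : ℕ) [Fact p.Prime] (P : Sylow p G) (hP : Nat.card P = p) :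
    Finite {ν : Subgroup.centralizer ((P : Subgroup G) : Set G) → ℂ // NT p ν} :=
  (finite_NT' p P hP).to_subtype

theorem card_NT (p : ℕ) [Fact p.Prime] (P : Sylow p G) (hP : Nat.card P = p) :
    Nat.card {ν : Subgroup.centralizer ((P : Subgroup G) : Set G) → ℂ // NT p ν} = p - 1 := by
  obtain ⟨h1, h2, h3⟩ := Cfsg.Agent.Helper18.D1QO.subgroupOf_facts P hP
  have hcard := Cfsg.Agent.Helper11.D1QL.card_pLin _ h1 h2 h3
  have e1 : Nat.card {μ : Subgroup.centralizer ((P : Subgroup G) : Set G) → ℂ // IsPLin p μ} =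
      {ν : Subgroup.centralizer ((P : Subgroup G) : Set G) → ℂ | IsPLin p ν}.ncard :=
    Nat.card_coe_set_eq _
  have e2 : Nat.card {ν : Subgroup.centralizer ((P : Subgroup G) : Set G) → ℂ // NT p ν} =
      {ν : Subgroup.centralizer ((P : Subgroup G) : Set G) → ℂ | NT p ν}.ncard :=
    Nat.card_coe_set_eq _
  rw [e1, isPLin_set_eq, Set.ncard_insert_of_notMem (one_not_NT p _) (finite_NT' p P hP)] at hcard
  rw [e2]
  omega

theorem card_TConj (p : ℕ) [Fact p.Prime] (P : Sylow p G) (hP : Nat.card P = p)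
    (μ : Subgroup.centralizer ((P : Subgroup G) : Set G) → ℂ) (hμ : NT p μ) :
    Nat.card {ν : {ν : Subgroup.centralizer ((P : Subgroup G) : Set G) → ℂ // NT p ν} //
      TConj (P : Subgroup G) (Subgroup.normalizer ((P : Subgroup G) : Set G)) μ ν.1} =
      fN (P : Subgroup G) := by
  obtain ⟨-, R, -, -, -, -, h⟩ := Cfsg.Agent.Helper18.D1QO.exists_orbit_reps P hP
    (Subgroup.normalizer ((P : Subgroup G) : Set G)) (Subgroup.centralizer_le_normalizer _) le_rfl
  have h1 := h μ hμ.1 hμ.2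
  unfold fN
  rw [← h1]
  exact Nat.card_congr (Equiv.subtypeSubtypeEquivSubtype
    (p := fun ν : Subgroup.centralizer ((P : Subgroup G) : Set G) → ℂ => NT p ν)
    (q := fun ν : Subgroup.centralizer ((P : Subgroup G) : Set G) → ℂ =>
      TConj (P : Subgroup G) (Subgroup.normalizer ((P : Subgroup G) : Set G)) μ ν)
    (fun {ν} hν => hν.nt hμ))

theorem isIrrCharacter_of_isPLin (p : ℕ) [Fact p.Prime] (P : Sylow p G)
    (μ : Subgroup.centralizer ((P : Subgroup G) : Set G) → ℂ) (hμ : IsPLin p μ) :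
    IsIrrCharacter (Subgroup.centralizer ((P : Subgroup G) : Set G)) μ :=
  isIrr_of_isPLin p μ hμ

theorem isIrrCharacter_triv (H : Subgroup G) : IsIrrCharacter H (triv H) := by
  unfold triv
  exact isIrrCharacter_const_one

theorem multN_TConj (p : ℕ) (P : Sylow p G) (Ξ : G → ℂ) (hΞ : IsClassFunction G Ξ)
    (μ ν : Subgroup.centralizer ((P : Subgroup G) : Set G) → ℂ)
    (h : TConj (P : Subgroup G) (Subgroup.normalizer ((P : Subgroup G) : Set G)) μ ν) :
    multN (Subgroup.centralizer ((P : Subgroup G) : Set G)) ν Ξ =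
      multN (Subgroup.centralizer ((P : Subgroup G) : Set G)) μ Ξ := by
  obtain ⟨n, hn, -, rfl⟩ := h
  unfold multN mult
  rw [Cfsg.Agent.Helper11.D1QC.classInner_res_kap (P : Subgroup G) hΞ hn μ]

end Cfsg.Agent.S4503P
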