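import Mathlib
import Cfsg.Agent.Helper1.S4503Defs
import Cfsg.Agent.Helper24.Codegree

/-!
S4503 piece KERZ: `p`-regular elements of `C_G(P)` in the kernel of a character with
vanishing sum on `P` are central, when every proper normal subgroup is central.
-/

set_option autoImplicit false

namespace Cfsg.Agent.S4503P

open Cfsg Cfsg.Agent.Helper24 Cfsg.Agent.Helper8.D1 Cfsg.Agent.S4705P
open scoped ComplexConjugate

universe u

variable {G : Type u} [Group G] [Finite G]

theorem regular_central (p : ℕ) [Fact p.Prime] (P : Sylow p G) (hP : Nat.card P = p)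
    (hG3 : ∀ K : Subgroup G, K.Normal → K ≠ ⊤ → K ≤ Subgroup.center G)
    (χ : IrrCharacter G) (h0 : ∑ᶠ x : (P : Subgroup G), (χ : G → ℂ) (x : G) = 0)
    (hker : ∀ c ∈ Subgroup.centralizer ((P : Subgroup G) : Set G), ¬ p ∣ orderOf c →
      (χ : G → ℂ) c = (χ : G → ℂ) 1) :
    ∀ c ∈ Subgroup.centralizer ((P : Subgroup G) : Set G), ¬ p ∣ orderOf c →
      c ∈ Subgroup.center G := by
  obtain ⟨K, hKn, hK, -⟩ := exists_kernel_quotient χ
  have hp : p.Prime := Fact.out
  have hKtop : K ≠ ⊤ := by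
    intro htop
    have hall : ∀ g : G, (χ : G → ℂ) g = (χ : G → ℂ) 1 := by
      intro g
      rw [← hK, htop]
      exact Subgroup.mem_top g
    have hsum : ∑ᶠ x : (P : Subgroup G), (χ : G → ℂ) (x : G) = (p : ℂ) * (χ : G → ℂ) 1 := by
      have hfun : (fun x : (P : Subgroup G) => (χ : G → ℂ) (x : G)) = fun _ => (χ : G → ℂ) 1 := by
        funext x; exact hall _
      have : Fintype (P : Subgroup G) := Fintype.ofFinite _
      rw [hfun, finsum_eq_sum_of_fintype, Finset.sum_const, Finset.card_univ,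
        ← Nat.card_eq_fintype_card, hP, nsmul_eq_mul]
    rw [hsum, irrDeg_spec] at h0
    have h1 : (p : ℂ) ≠ 0 := by exact_mod_cast hp.ne_zero
    have h2 : (irrDeg χ : ℂ) ≠ 0 := by exact_mod_cast (irrDeg_pos χ).ne'
    exact (mul_ne_zero h1 h2) h0
  intro c hc hpc
  exact hG3 K hKn hKtop ((hK c).mpr (hker c hc hpc))

end Cfsg.Agent.S4503P
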