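import Mathlib
import Cfsg.Agent.S0256
import Cfsg.Agent.Helper25.SLUnitriB
import Cfsg.Agent.Helper2.SLCard

/-! S5323 piece A8SN (driver helper1; helper23): every subgroup of order `64` of `A₈` is self-normalising. -/

set_option autoImplicit false

namespace Cfsg.Agent.S5323P

namespace A8SN

open Cfsg.Agent.Helper25.SLU

/-- if one Sylow `p`-subgroup is self-normalising, all are -/
theorem sylow_selfNorm {G : Type*} [Group G] [Finite G] {p : ℕ} [Fact p.Prime] (P₀ P : Sylow p G)
    (h₀ : Subgroup.normalizer ((P₀ : Subgroup G) : Set G) ≤ (P₀ : Subgroup G)) :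
    Subgroup.normalizer ((P : Subgroup G) : Set G) ≤ (P : Subgroup G) := by
  obtain ⟨g, hg⟩ := MulAction.exists_smul_eq G P₀ P
  intro x hx
  have h1 : x • P = P := Sylow.smul_eq_iff_mem_normalizer.mpr hx
  have h2 : (g⁻¹ * x * g) • P₀ = P₀ := by
    rw [← hg, smul_smul] at h1
    rw [mul_assoc, ← smul_smul, inv_smul_eq_iff]
    exact h1
  have h3 : g⁻¹ * x * g ∈ (P₀ : Subgroup G) := h₀ (Sylow.smul_eq_iff_mem_normalizer.mp h2)
  have h4 : x ∈ ((g • P₀ : Sylow p G) : Subgroup G) := by
    rw [Sylow.coe_subgroup_smul, Subgroup.mem_pointwise_smul_iff_inv_smul_mem]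
    have e : (MulAut.conj g)⁻¹ • x = g⁻¹ * x * g := by
      rw [← map_inv, MulAut.smul_def, MulAut.conj_apply, inv_inv]
    rw [e]
    exact h3
  rwa [hg] at h4

/-- over `ZMod 2` the upper triangular matrices of `SL` are unitriangular -/
theorem upTri_le_unitri (n : ℕ) : upTri n (ZMod 2) ≤ unitri n (ZMod 2) := by
  intro g hg
  rw [mem_upTri] at hg
  refine ⟨hg, fun i => ?_⟩
  -- the determinant of an upper triangular matrix is the product of the diagonal
  have hdet : g.1.det = ∏ j, g.1 j j :=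
    Matrix.det_of_isUpperTriangular (fun a b hab => hg a b hab)
  rw [g.2] at hdet
  by_contra hne
  have h0 : g.1 i i = 0 := by
    have : ∀ a : ZMod 2, a ≠ 1 → a = 0 := by decide
    exact this _ hne
  have : ∏ j, g.1 j j = 0 := Finset.prod_eq_zero (Finset.mem_univ i) h0
  rw [this] at hdet
  exact one_ne_zero hdet

theorem fact20160 : (20160 : ℕ).factorization 2 = 6 := by
  have h : (20160 : ℕ) = 2 ^ 6 * 315 := by norm_num
  rw [h, Nat.factorization_mul (by norm_num) (by norm_num), Finsupp.add_apply,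
    Nat.Prime.factorization_pow Nat.prime_two, Finsupp.single_eq_same,
    Nat.factorization_eq_zero_of_not_dvd (by norm_num : ¬ 2 ∣ 315)]

/-- the claim for a group isomorphic to `A₈` in which some Sylow `2`-subgroup is self-normalising -/
theorem selfNorm_of_card {G : Type*} [Group G] [Finite G] (hG : Nat.card G = 20160)
    (P₀ : Sylow 2 G) (h₀ : Subgroup.normalizer ((P₀ : Subgroup G) : Set G) ≤ (P₀ : Subgroup G))
    (P : Subgroup G) (hP : Nat.card P = 64) : Subgroup.normalizer (P : Set G) ≤ P := by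
  have hc : Nat.card P = 2 ^ (Nat.card G).factorization 2 := by
    rw [hG, fact20160, hP]; norm_num
  have := sylow_selfNorm P₀ (Sylow.ofCard P hc) h₀
  exact this

theorem card_A8 : Nat.card (alternatingGroup (Fin 8)) = 20160 := by
  rw [nat_card_alternatingGroup, Nat.card_eq_fintype_card, Fintype.card_fin]
  decide

/-- `SL₄(𝔽₂) ≃* A₈` -/
theorem nonempty_equiv :
    Nonempty (Matrix.SpecialLinearGroup (Fin 4) (ZMod 2) ≃* alternatingGroup (Fin 8)) := by
  obtain ⟨e⟩ := Cfsg.Agent.S0256.result (F := ZMod 2) (ZMod.card 2)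
  have hc : Subgroup.center (Matrix.SpecialLinearGroup (Fin 4) (ZMod 2)) = ⊥ := by
    rw [← Subgroup.card_eq_one, Cfsg.Agent.Helper2.card_center_SL 4 (by norm_num),
      Cfsg.Agent.Helper2.card_units_field, ZMod.card 2]
    rfl
  have e1 : Matrix.SpecialLinearGroup (Fin 4) (ZMod 2) ≃*
      Matrix.ProjectiveSpecialLinearGroup (Fin 4) (ZMod 2) :=
    (QuotientGroup.quotientBot (G := Matrix.SpecialLinearGroup (Fin 4) (ZMod 2))).symm.trans
      (QuotientGroup.quotientMulEquivOfEq hc.symm)
  exact ⟨e1.trans e⟩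

end A8SN

open Cfsg.Agent.Helper25.SLU in
theorem A8SN.normalizer_le (P : Subgroup ↥(alternatingGroup (Fin 8))) (hP : Nat.card P = 64) :
    Subgroup.normalizer (P : Set ↥(alternatingGroup (Fin 8))) ≤ P := by
  obtain ⟨ψ⟩ := A8SN.nonempty_equiv
  -- a self-normalising Sylow subgroup in `SL₄(𝔽₂)`
  have : Fact (Nat.Prime 2) := ⟨Nat.prime_two⟩
  obtain ⟨U, hU⟩ := exists_sylow_unitri (n := 4) (K := ZMod 2) 2
  have hUn : Subgroup.normalizer
      ((U : Subgroup (Matrix.SpecialLinearGroup (Fin 4) (ZMod 2))) :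
        Set (Matrix.SpecialLinearGroup (Fin 4) (ZMod 2)))
      ≤ (U : Subgroup (Matrix.SpecialLinearGroup (Fin 4) (ZMod 2))) := by
    rw [hU]
    exact le_trans normalizer_unitri_le (A8SN.upTri_le_unitri 4)
  have hS : Nat.card (Matrix.SpecialLinearGroup (Fin 4) (ZMod 2)) = 20160 := by
    rw [Nat.card_congr ψ.toEquiv, A8SN.card_A8]
  -- pull `P` back
  let P' : Subgroup (Matrix.SpecialLinearGroup (Fin 4) (ZMod 2)) := P.map ψ.symm.toMonoidHom
  have hP' : Nat.card P' = 64 := by
    rw [← hP]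
    exact Subgroup.card_map_of_injective ψ.symm.injective
  have hN := A8SN.selfNorm_of_card hS U hUn P' hP'
  intro x hx
  have hx' : ψ.symm x ∈ Subgroup.normalizer ((P' : Subgroup (Matrix.SpecialLinearGroup (Fin 4) (ZMod 2))) :
      Set (Matrix.SpecialLinearGroup (Fin 4) (ZMod 2))) := by
    rw [Subgroup.mem_normalizer_iff]
    intro y
    have key : ∀ z : Matrix.SpecialLinearGroup (Fin 4) (ZMod 2), z ∈ P' ↔ ψ z ∈ P := by
      intro z
      constructor
      · rintro ⟨w, hw, rfl⟩
        simpa using hw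
      · intro hz
        exact ⟨ψ z, hz, by simp⟩
    rw [key, key, map_mul, map_mul, map_inv, MulEquiv.apply_symm_apply]
    exact (Subgroup.mem_normalizer_iff.mp hx) (ψ y)
  have h1 := hN hx'
  obtain ⟨w, hw, hwx⟩ := h1
  have : w = x := ψ.symm.injective hwx
  rwa [this] at hw

end Cfsg.Agent.S5323P
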