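import Cfsg.Agent.Helper22.McLK2

/-! S5323 piece SPINV (driver helper1; helper23): the subgroup `Sp` of order `128` is generated by its involutions.

Every generator table of `sY` is the product of at most three involutions of `Sp`, each given by a path through the chain
`slevels`; the products and the involution property are checked by the kernel. -/

set_option autoImplicit false
set_option maxRecDepth 8000

namespace Cfsg.Agent.S5323P

open Cfsg.Agent.Helper22.PermPack Cfsg.Agent.Helper22.McLK Cfsg.Agent.Helper22.McLKData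

namespace SPINV

/-- for each generator table, paths of involutions with that product -/
def invCert : List (List (List ℕ)) :=
  [[[1, 0]], [[2, 0]], [[0, 3], [8, 3]], [[0, 2], [9, 2]], [[0, 1], [2, 0], [25, 2]],
    [[0, 1], [2, 0], [22, 1]], [[0, 2], [20, 1]], [[0, 1]], [[0, 2]]]

/-- the path gives an involution different from the identity -/
def invPathB (p : List ℕ) : Bool :=
  pathValid slevels p && withList (pathTabs 275 9 slevels p) fun ts =>
    (allN 275 fun i => Nat.beq (compLook 9 ts (compLook 9 ts i)) i) &&
      !(allN 275 fun i => Nat.beq (compLook 9 ts i) i)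

/-- the tables along a list of paths -/
def tabsOf : List (List ℕ) → List ℕ
  | [] => []
  | p :: ps => pathTabs 275 9 slevels p ++ tabsOf ps

/-- the table is the product of the involutions along the paths -/
def genB (y : ℕ) (ps : List (List ℕ)) : Bool :=
  ps.all invPathB && withNat y fun y' => withList (tabsOf ps) fun ts =>
    allN 275 fun i => Nat.beq (slot 9 y' i) (compLook 9 ts i)

/-- the whole check -/
def certB : Bool := allN sY.length fun j => genB (sY.getD j 0) (invCert.getD j [])

theorem cert_ok : certB = true := by decide +kernel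

theorem compLook_append (w : ℕ) (l1 l2 : List ℕ) (i : ℕ) :
    compLook w (l1 ++ l2) i = compLook w l1 (compLook w l2 i) := by
  induction l1 with
  | nil => rfl
  | cons t ts ih =>
    show slot w t (compLook w (ts ++ l2) i) = slot w t (compLook w ts (compLook w l2 i))
    rw [ih]

/-- the involutions of `Sp` -/
def InvSet : Set (Pm 275) := {x : Pm 275 | x ∈ Sp ∧ x * x = 1 ∧ x ≠ 1}

theorem inv_of_path {p : List ℕ} (h : invPathB p = true) :
    ∃ g ∈ InvSet, Rep (compLook 9 (pathTabs 275 9 slevels p)) g := by
  unfold invPathB at h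
  rw [Bool.and_eq_true, withList_eq, Bool.and_eq_true] at h
  obtain ⟨hv, hsq, hne⟩ := h
  obtain ⟨g, hg, hrep⟩ := (chain_sound slevels sY sY_good schain_okK).2 p hv
  have hrep' : Rep (compLook 9 (pathTabs 275 9 slevels p)) g := hrep
  refine ⟨g, ⟨hg, ?_, ?_⟩, hrep'⟩
  · exact eq_one_of_rep (rep_mul hrep' hrep') (fun i hi => beq_iff.mp (allN_spec hsq i hi))
  · intro h1
    have hall : (allN 275 fun i => Nat.beq (compLook 9 (pathTabs 275 9 slevels p) i) i) = true := by
      apply allN_of_forall'
      intro i hi
      rw [beq_iff]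
      have := rep_apply hrep' hi
      rw [h1] at this
      exact this.symm
    rw [hall] at hne
    exact absurd hne (by decide)

theorem prod_mem : ∀ ps : List (List ℕ), ps.all invPathB = true →
    ∃ g ∈ Subgroup.closure InvSet, Rep (compLook 9 (tabsOf ps)) g
  | [], _ => ⟨1, Subgroup.one_mem _, rep_congr rep_one (fun _ _ => rfl)⟩
  | p :: ps, h => by
    rw [List.all_cons, Bool.and_eq_true] at h
    obtain ⟨g1, hg1, hr1⟩ := inv_of_path h.1
    obtain ⟨g2, hg2, hr2⟩ := prod_mem ps h.2
    refine ⟨g1 * g2, Subgroup.mul_mem _ (Subgroup.subset_closure hg1) hg2,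
      rep_congr (rep_mul hr1 hr2) (fun i _ => ?_)⟩
    exact compLook_append 9 _ _ i

end SPINV

theorem SPINV.le_closure : Sp ≤ Subgroup.closure {x : Pm 275 | x ∈ Sp ∧ x * x = 1 ∧ x ≠ 1} := by
  show Grp 275 9 sY ≤ Subgroup.closure SPINV.InvSet
  unfold Grp
  rw [Subgroup.closure_le]
  rintro g ⟨y, hy, rfl⟩
  obtain ⟨j, hj, rfl⟩ := List.mem_iff_getElem.mp hy
  have h := allN_spec SPINV.cert_ok j hj
  rw [List.getD_eq_getElem _ _ hj] at h
  unfold SPINV.genB at h
  rw [Bool.and_eq_true, withNat_eq, withList_eq] at h
  obtain ⟨g', hg', hrep⟩ := SPINV.prod_mem _ h.1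
  have e : P 275 9 sY[j] = g' :=
    eq_of_rep (rep_P (sY_good _ hy)) hrep (fun i hi => beq_iff.mp (allN_spec h.2 i hi))
  rw [SetLike.mem_coe, e]
  exact hg'

end Cfsg.Agent.S5323P
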