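import Cfsg.Agent.Helper1.S5639Lib
import Cfsg.Agent.Helper2.Transvec

set_option autoImplicit false

/-! # S5639 piece RATSL (helper23): a rational matrix of determinant one lies in any subgroup containing
the rational transvections. -/

namespace Cfsg.Agent.S5639P

open Matrix
open Cfsg.Agent.Helper28.SLMax Cfsg.Agent.Helper28.SimMax

variable {F : Type*} [Field F] {n : ℕ}

local notation "GLn" => Matrix.GeneralLinearGroup (Fin n) F
local notation "Mat" => Matrix (Fin n) (Fin n) F

namespace RATSL

theorem transvection_map (F₀ : Subfield F) (i j : Fin n) (hij : i ≠ j) (c : F₀) :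
    ((Matrix.SpecialLinearGroup.transvection hij c : Matrix.SpecialLinearGroup (Fin n) F₀) :
      Matrix (Fin n) (Fin n) F₀).map F₀.subtype = E (Pi.single i (c : F)) (Pi.single j 1) := by
  rw [Matrix.SpecialLinearGroup.transvection_coe, E]
  ext k l
  simp only [Matrix.map_apply, Matrix.add_apply, Matrix.one_apply, Matrix.single_apply,
    Matrix.vecMulVec_apply, Pi.single_apply]
  by_cases hk : k = i <;> by_cases hl : l = j
  · subst hk; subst hl; by_cases hkl : k = l <;> simp [hkl]
  · subst hk
    have : ¬ (j = l) := fun h => hl h.symm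
    by_cases hkl : k = l <;> simp [hl, this, hkl]
  · subst hl
    have h1 : ¬ (i = k) := fun h => hk h.symm
    have h2 : ¬ (i = l) := hij
    have h3 : ¬ (l = i) := fun h => hij h.symm
    by_cases hkl : k = l
    · subst hkl; simp [h2, h3]
    · simp [hk, h1, hkl]
  · have h1 : ¬ (i = k) := fun h => hk h.symm
    have h2 : ¬ (j = l) := fun h => hl h.symm
    by_cases hkl : k = l
    · subst hkl; simp [hk, h1, hl, h2]
    · simp [hk, h1, hkl]

end RATSL

/-- RATSL: a rational matrix of determinant one is a product of rational transvections. -/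
theorem RATSL.rat_mem (F₀ : Subfield F) (hn : 2 ≤ n) (M : Subgroup GLn) (hM : HasRat F₀ M) (g : GLn)
    (hg : RatM F₀ (g : Mat)) (hd : (g : Mat).det = 1) : g ∈ M := by
  classical
  have : Nontrivial (Fin n) := Fin.nontrivial_iff_two_le.mpr hn
  rw [← mem_MS_iff]
  let A₀ : Matrix (Fin n) (Fin n) F₀ := fun i j => ⟨(g : Mat) i j, hg i j⟩
  have hA₀ : A₀.map F₀.subtype = (g : Mat) := by
    ext i j; rfl
  have hdet : A₀.det = 1 := by
    apply F₀.subtype.injective
    rw [RingHom.map_det, map_one]
    show (A₀.map F₀.subtype).det = 1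
    rw [hA₀, hd]
  have key : ∀ B : Matrix.SpecialLinearGroup (Fin n) F₀,
      (B : Matrix (Fin n) (Fin n) F₀).map F₀.subtype ∈ MS M := by
    intro B
    refine Cfsg.Agent.Helper2.SL_transvection_induction
      (fun B : Matrix.SpecialLinearGroup (Fin n) F₀ =>
        (B : Matrix (Fin n) (Fin n) F₀).map F₀.subtype ∈ MS M) ?_ ?_ B
    · intro i j hij c
      have h0 : (Pi.single j (1 : F) : Fin n → F) ⬝ᵥ (Pi.single i (c : F) : Fin n → F) = 0 := by
        rw [single_dotProduct, Pi.single_apply, if_neg hij.symm, mul_zero]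
      have := hM (Pi.single i (c : F)) (Pi.single j 1) (Rat.single i c.2)
        (Rat.single j F₀.one_mem) h0
      show ((Matrix.SpecialLinearGroup.transvection hij c : Matrix.SpecialLinearGroup (Fin n) F₀) :
        Matrix (Fin n) (Fin n) F₀).map F₀.subtype ∈ MS M
      rw [RATSL.transvection_map]
      exact this
    · intro A B hA hB
      show ((A * B : Matrix.SpecialLinearGroup (Fin n) F₀) :
        Matrix (Fin n) (Fin n) F₀).map F₀.subtype ∈ MS M
      rw [Matrix.SpecialLinearGroup.coe_mul, Matrix.map_mul]
      exact MS_mul hA hB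
  have := key ⟨A₀, hdet⟩
  rw [← hA₀]
  exact this

end Cfsg.Agent.S5639P
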