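import Cfsg.Agent.Helper1.S5639Lib
import Cfsg.Agent.Helper12.SLTrans

set_option autoImplicit false

/-! # S5639 piece TRANS (helper23): `SL_n(F₀)` is transitive on incident pairs
(rational vector, rational covector) up to a rational scalar.

Proof: pick rational `y` with `ψ y = 1`; some `g₁ ∈ SL_n(F₀)` maps `(u, y) ↦ (e_i, e_j)`; then
`ψ₁ = ψ g₁⁻¹` has `ψ₁ i = 0`, `ψ₁ j = 1` and the rational transvection `g₂ = 1 + e_j (ψ₁ - e_j)ᵀ`
fixes `e_i` and has `e_jᵀ g₂ = ψ₁`. -/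

namespace Cfsg.Agent.S5639P

open Matrix
open Cfsg.Agent.Helper28.SLMax Cfsg.Agent.Helper28.SimMax

variable {F : Type*} [Field F] {n : ℕ}

local notation "GLn" => Matrix.GeneralLinearGroup (Fin n) F
local notation "Mat" => Matrix (Fin n) (Fin n) F

namespace TRANS

theorem vecMul_E (ψ v φ : Fin n → F) : ψ ᵥ* E v φ = ψ + (ψ ⬝ᵥ v) • φ := by
  rw [E, Matrix.vecMul_add, Matrix.vecMul_one, Matrix.vecMul_vecMulVec]

/-- the core statement over a field `K`: a unimodular matrix moving `(u, y)` to `(e_i, e_j)`. -/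
theorem exists_sl_pair {K : Type*} [Field K] (hn : 3 ≤ n) (u ψ : Fin n → K) (hu0 : u ≠ 0)
    (hψ0 : ψ ≠ 0) (h : ψ ⬝ᵥ u = 0) (i j : Fin n) (hij : i ≠ j) :
    ∃ (g : Matrix.SpecialLinearGroup (Fin n) K) (y : Fin n → K), ψ ⬝ᵥ y = 1 ∧
      (g : Matrix (Fin n) (Fin n) K) *ᵥ u = Pi.single i 1 ∧
      (g : Matrix (Fin n) (Fin n) K) *ᵥ y = Pi.single j 1 := by
  classical
  obtain ⟨m, hm⟩ : ∃ m, ψ m ≠ 0 := by
    by_contra hcon
    push Not at hcon
    exact hψ0 (funext hcon)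
  set y : Fin n → K := Pi.single m (ψ m)⁻¹ with hy
  have hψy : ψ ⬝ᵥ y = 1 := by
    rw [hy, dotProduct_single, mul_inv_cancel₀ hm]
  have hs : LinearIndependent K ![u, y] := by
    rw [LinearIndependent.pair_iff]
    intro s t hst
    have h1 : ψ ⬝ᵥ (s • u + t • y) = 0 := by rw [hst, dotProduct_zero]
    rw [dotProduct_add, dotProduct_smul, dotProduct_smul, h, hψy, smul_zero, zero_add,
      smul_eq_mul, mul_one] at h1
    subst h1
    rw [zero_smul, add_zero] at hst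
    rcases smul_eq_zero.mp hst with h2 | h2
    · exact ⟨h2, rfl⟩
    · exact absurd h2 hu0
  have hs' : LinearIndependent K ![(Pi.single i 1 : Fin n → K), Pi.single j 1] := by
    rw [LinearIndependent.pair_iff]
    intro s t hst
    have hi := congrFun hst i
    have hj := congrFun hst j
    simp only [Pi.add_apply, Pi.smul_apply, Pi.single_eq_same, Pi.single_eq_of_ne hij,
      Pi.single_eq_of_ne hij.symm, smul_eq_mul, mul_one, mul_zero, add_zero, zero_add,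
      Pi.zero_apply] at hi hj
    exact ⟨hi, hj⟩
  obtain ⟨g, hg⟩ := Cfsg.Agent.Helper12.exists_sl_map_family (show 2 < n by omega)
    ![u, y] ![(Pi.single i 1 : Fin n → K), Pi.single j 1] hs hs'
  refine ⟨g, y, hψy, ?_, ?_⟩
  · simpa using hg 0
  · simpa using hg 1

end TRANS

/-- TRANS: `SL_n(F₀)` is transitive on incident pairs (rational vector, rational covector) up to a
rational scalar. -/
theorem TRANS.exists_move (F₀ : Subfield F) (hn : 3 ≤ n) (u ψ : Fin n → F) (hu : Rat F₀ u)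
    (hψ : Rat F₀ ψ) (hu0 : u ≠ 0) (hψ0 : ψ ≠ 0) (h : ψ ⬝ᵥ u = 0) (i j : Fin n) (hij : i ≠ j) :
    ∃ (g : GLn) (a : F), RatM F₀ (g : Mat) ∧ (g : Mat).det = 1 ∧ a ∈ F₀ ∧ a ≠ 0 ∧
      (g : Mat) *ᵥ u = Pi.single i 1 ∧ ψ ᵥ* ((g⁻¹ : GLn) : Mat) = a • Pi.single j 1 := by
  classical
  -- descend to `F₀`
  set u₀ : Fin n → F₀ := fun k => ⟨u k, hu k⟩ with hu₀
  set ψ₀ : Fin n → F₀ := fun k => ⟨ψ k, hψ k⟩ with hψ₀
  have hcu : (F₀.subtype ∘ u₀ : Fin n → F) = u := by funext k; rfl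
  have hcψ : (F₀.subtype ∘ ψ₀ : Fin n → F) = ψ := by funext k; rfl
  have hu₀0 : u₀ ≠ 0 := by
    intro h0
    apply hu0
    rw [← hcu, h0]
    funext k; simp
  have hψ₀0 : ψ₀ ≠ 0 := by
    intro h0
    apply hψ0
    rw [← hcψ, h0]
    funext k; simp
  have h₀ : ψ₀ ⬝ᵥ u₀ = 0 := by
    apply F₀.subtype.injective
    rw [RingHom.map_dotProduct, hcu, hcψ, h, map_zero]
  obtain ⟨g₁, y₀, hψy₀, hg₁u, hg₁y⟩ := TRANS.exists_sl_pair hn u₀ ψ₀ hu₀0 hψ₀0 h₀ i j hij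
  set y : Fin n → F := F₀.subtype ∘ y₀ with hy
  have hψy : ψ ⬝ᵥ y = 1 := by
    rw [← hcψ, hy, ← RingHom.map_dotProduct, hψy₀, map_one]
  set G₁ : Mat := (g₁ : Matrix (Fin n) (Fin n) F₀).map F₀.subtype with hG₁
  set G₁i : Mat := ((g₁⁻¹ : Matrix.SpecialLinearGroup (Fin n) F₀) :
    Matrix (Fin n) (Fin n) F₀).map F₀.subtype with hG₁i
  have hGG : G₁ * G₁i = 1 := by
    rw [hG₁, hG₁i, ← Matrix.map_mul, ← Matrix.SpecialLinearGroup.coe_mul, mul_inv_cancel,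
      Matrix.SpecialLinearGroup.coe_one, Matrix.map_one _ (map_zero _) (map_one _)]
  have hGG' : G₁i * G₁ = 1 := by
    rw [hG₁, hG₁i, ← Matrix.map_mul, ← Matrix.SpecialLinearGroup.coe_mul, inv_mul_cancel,
      Matrix.SpecialLinearGroup.coe_one, Matrix.map_one _ (map_zero _) (map_one _)]
  have hG₁rat : RatM F₀ G₁ := fun a b => ((g₁ : Matrix (Fin n) (Fin n) F₀) a b).2
  have hG₁irat : RatM F₀ G₁i := fun a b =>
    (((g₁⁻¹ : Matrix.SpecialLinearGroup (Fin n) F₀) : Matrix (Fin n) (Fin n) F₀) a b).2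
  have hG₁det : G₁.det = 1 := by
    have := RingHom.map_det F₀.subtype (g₁ : Matrix (Fin n) (Fin n) F₀)
    rw [g₁.2, map_one] at this
    exact this.symm
  have hG₁u : G₁ *ᵥ u = Pi.single i 1 := by
    funext k
    rw [← hcu, hG₁, ← RingHom.map_mulVec, hg₁u]
    by_cases hk : k = i
    · subst hk; simp
    · simp [Pi.single_eq_of_ne hk]
  have hG₁y : G₁ *ᵥ y = Pi.single j 1 := by
    funext k
    rw [hy, hG₁, ← RingHom.map_mulVec, hg₁y]
    by_cases hk : k = j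
    · subst hk; simp
    · simp [Pi.single_eq_of_ne hk]
  set ψ₁ : Fin n → F := ψ ᵥ* G₁i with hψ₁
  have hψ₁rat : Rat F₀ ψ₁ := RatM.vecMul hG₁irat hψ
  have hdot : ∀ x : Fin n → F, ψ₁ ⬝ᵥ (G₁ *ᵥ x) = ψ ⬝ᵥ x := by
    intro x
    rw [hψ₁, ← Matrix.dotProduct_mulVec, Matrix.mulVec_mulVec, hGG', Matrix.one_mulVec]
  have hψ₁i : ψ₁ i = 0 := by
    have := hdot u
    rw [hG₁u, dotProduct_single, mul_one, h] at this
    exact this
  have hψ₁j : ψ₁ j = 1 := by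
    have := hdot y
    rw [hG₁y, dotProduct_single, mul_one, hψy] at this
    exact this
  set φ : Fin n → F := ψ₁ - Pi.single j 1 with hφ
  have hφrat : Rat F₀ φ := Rat.sub hψ₁rat (Rat.single j F₀.one_mem)
  have hφj : φ ⬝ᵥ (Pi.single j 1 : Fin n → F) = 0 := by
    rw [dotProduct_single, mul_one, hφ, Pi.sub_apply, hψ₁j, Pi.single_eq_same, sub_self]
  have hφi : φ ⬝ᵥ (Pi.single i 1 : Fin n → F) = 0 := by
    rw [dotProduct_single, mul_one, hφ, Pi.sub_apply, hψ₁i, Pi.single_eq_of_ne hij, sub_self]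
  have hAB : E (Pi.single j 1) φ * G₁ * (G₁i * E (Pi.single j 1) (-φ)) = 1 := by
    rw [mul_assoc, ← mul_assoc G₁, hGG, one_mul, E_mul_neg _ _ hφj]
  have hBA : G₁i * E (Pi.single j 1) (-φ) * (E (Pi.single j 1) φ * G₁) = 1 := by
    rw [mul_assoc, ← mul_assoc (E _ (-φ)), E_neg_mul _ _ hφj, one_mul, hGG']
  refine ⟨⟨E (Pi.single j 1) φ * G₁, G₁i * E (Pi.single j 1) (-φ), hAB, hBA⟩, 1, ?_, ?_,
    F₀.one_mem, one_ne_zero, ?_, ?_⟩
  · exact RatM.mul (RatM.E (Rat.single j F₀.one_mem) hφrat) hG₁rat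
  · show (E (Pi.single j 1) φ * G₁).det = 1
    rw [Matrix.det_mul, E_det, hφj, hG₁det, add_zero, mul_one]
  · show (E (Pi.single j 1) φ * G₁) *ᵥ u = Pi.single i 1
    rw [← Matrix.mulVec_mulVec, hG₁u, E_mulVec, hφi, zero_smul, add_zero]
  · show ψ ᵥ* (G₁i * E (Pi.single j 1) (-φ)) = (1 : F) • Pi.single j 1
    rw [← Matrix.vecMul_vecMul, ← hψ₁, TRANS.vecMul_E, dotProduct_single, mul_one, hψ₁j, one_smul,
      one_smul, hφ]
    abel

end Cfsg.Agent.S5639P
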