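import Cfsg.Agent.Helper1.S5665.Lib

set_option autoImplicit false
set_option linter.unusedSectionVars false
set_option linter.unusedVariables false

/-! # S5665 piece MOVE (driver helper1; helper23): a unitary transvection moving `z` to `y` -/

namespace Cfsg.Agent.S5665P

open Matrix Module Cfsg.Agent.Helper2.Sp Cfsg.Agent.Helper28.Sg Cfsg.Agent.S5700P

variable {F : Type*} [Field F] [Fintype F] {m : ℕ}
  {δ : Matrix (Fin m ⊕ Fin m) (Fin m ⊕ Fin m) F} {d : F}

local notation "V" => (Fin m ⊕ Fin m → F)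
local notation "Mat" => Matrix (Fin m ⊕ Fin m) (Fin m ⊕ Fin m) F
local notation "Sp" => Matrix.symplecticGroup (Fin m) F

/-- MOVE (S): `w := y - z` is isotropic (`U.Qs_sub`), `h := Ug δ d w (d * om z y)⁻¹`: `U.Ug_mulVec`, `om w z = - om z y` (`om_swap`, `om_self`),
`om (δ w) z = om (δ y) z - Qs z = om (δ z) y = 0` (`U.symm`); `U.Ug_inH`. -/
theorem MOVE.exists_h (U : SData δ d) {z y : V} (hz : Qs δ z = 0) (hy : Qs δ y = 0)
    (h1 : om (δ *ᵥ z) y = 0) (h3 : om z y ≠ 0) : ∃ h : Sp, InH δ h ∧ h.1 *ᵥ z = y := by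
  have hw : Qs δ (y - z) = 0 := by
    rw [U.Qs_sub, hy, hz, U.symm y z, h1]; ring
  refine ⟨Ug δ d (y - z) (d * om z y)⁻¹, U.Ug_inH hw _, ?_⟩
  have e1 : om (y - z) z = - om z y := by
    rw [om_sub_left, om_self, om_swap z y]; ring
  have e2 : om (δ *ᵥ (y - z)) z = 0 := by
    rw [Matrix.mulVec_sub, om_sub_left, U.symm y z, h1, ← Qs_def, hz]; ring
  have hd : d ≠ 0 := U.d_ne_zero
  rw [U.Ug_mulVec hw, e1, e2]
  have e3 : d * (d * om z y)⁻¹ * -om z y = -1 := by
    field_simp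
  rw [e3]
  module

end Cfsg.Agent.S5665P
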