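import Cfsg.Agent.Helper1.S5665.Lib
import Cfsg.Agent.Helper5.S5700EXK

set_option autoImplicit false
set_option linter.unusedSectionVars false
set_option linter.unusedVariables false

/-! # S5665 piece PHASE (driver helper1; helper23): two isotropic centres with non-zero phase -/

namespace Cfsg.Agent.S5665P

open Matrix Module Cfsg.Agent.Helper2.Sp Cfsg.Agent.Helper28.Sg Cfsg.Agent.S5700P

variable {F : Type*} [Field F] [Fintype F] {m : ℕ}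
  {δ : Matrix (Fin m ⊕ Fin m) (Fin m ⊕ Fin m) F} {d : F}

local notation "V" => (Fin m ⊕ Fin m → F)
local notation "Mat" => Matrix (Fin m ⊕ Fin m) (Fin m ⊕ Fin m) F
local notation "Sp" => Matrix.symplecticGroup (Fin m) F

namespace PHASE

/-- a `2 × 2` linear system with the (non-zero) norm determinant -/
theorem solve (U : SData δ d) {e : F} (he : e ≠ 0) (e' s t : F) :
    ∃ a b : F, a * e + b * e' = s ∧ a * e' + b * (d * e) = t := by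
  have hΔ : e' * e' - d * e * e ≠ 0 := U.norm_ne_zero (fun h => he h.2)
  obtain ⟨Δ, hΔdef⟩ : ∃ Δ : F, Δ = e' * e' - d * e * e := ⟨_, rfl⟩
  rw [← hΔdef] at hΔ
  refine ⟨(s * (d * e) - t * e') * (-Δ⁻¹), (t * e - s * e') * (-Δ⁻¹), ?_, ?_⟩
  · have : (s * (d * e) - t * e') * (-Δ⁻¹) * e + (t * e - s * e') * (-Δ⁻¹) * e' = s * (Δ * Δ⁻¹) := by
      rw [hΔdef]; ring
    rw [this, mul_inv_cancel₀ hΔ, mul_one]
  · have : (s * (d * e) - t * e') * (-Δ⁻¹) * e' + (t * e - s * e') * (-Δ⁻¹) * (d * e)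
        = t * (Δ * Δ⁻¹) := by
      rw [hΔdef]; ring
    rw [this, mul_inv_cancel₀ hΔ, mul_one]

/-- the shifted vector `w + a z + b δ z` -/
def sh (δ : Mat) (z w : V) (a b : F) : V := w + a • z + b • δ *ᵥ z

theorem delta_sh (U : SData δ d) (z w : V) (a b : F) :
    δ *ᵥ sh δ z w a b = δ *ᵥ w + a • δ *ᵥ z + (b * d) • z := by
  unfold sh
  rw [Matrix.mulVec_add, Matrix.mulVec_add, Matrix.mulVec_smul, Matrix.mulVec_smul, U.dd, smul_smul]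

/-- the pairing of `δ (shift)` with an arbitrary vector -/
theorem om_delta_sh (U : SData δ d) (z w x : V) (a b : F) :
    om (δ *ᵥ sh δ z w a b) x = om (δ *ᵥ w) x + a * om (δ *ᵥ z) x + b * d * om z x := by
  rw [delta_sh U, om_add_left, om_add_left, om_smul_left, om_smul_left]

theorem om_sh (z w x : V) (a b : F) :
    om (sh δ z w a b) x = om w x + a * om z x + b * om (δ *ᵥ z) x := by
  unfold sh
  rw [om_add_left, om_add_left, om_smul_left, om_smul_left]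

theorem om_right_sh (z w x : V) (a b : F) :
    om x (sh δ z w a b) = om x w + a * om x z + b * om x (δ *ᵥ z) := by
  unfold sh
  rw [om_add_right, om_add_right, om_smul_right, om_smul_right]

theorem sh_z (U : SData δ d) {z w : V} (hz : Qs δ z = 0) (h1 : om (δ *ᵥ z) w = 0)
    (h2 : om z w = 0) (a b : F) : om (sh δ z w a b) z = 0 := by
  rw [om_sh, om_self, ← Qs_def, hz, om_swap z w, h2]; ring

theorem delta_sh_z (U : SData δ d) {z w : V} (hz : Qs δ z = 0) (h1 : om (δ *ᵥ z) w = 0)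
    (h2 : om z w = 0) (a b : F) : om (δ *ᵥ sh δ z w a b) z = 0 := by
  rw [om_delta_sh U, U.symm w z, h1, ← Qs_def, hz, om_self]; ring

theorem wz (U : SData δ d) {z w : V} (h2 : om z w = 0) : om w z = 0 := by
  rw [om_swap z w, h2, neg_zero]

theorem dw_z (U : SData δ d) {z w : V} (h1 : om (δ *ᵥ z) w = 0) : om (δ *ᵥ w) z = 0 := by
  rw [U.symm w z, h1]

theorem dw_dz (U : SData δ d) {z w : V} (h2 : om z w = 0) : om (δ *ᵥ w) (δ *ᵥ z) = 0 := by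
  rw [U.om_dd, wz U h2, mul_zero]

theorem z_dz (U : SData δ d) {z : V} (hz : Qs δ z = 0) : om z (δ *ᵥ z) = 0 := by
  rw [U.om_self_delta, hz, neg_zero]

theorem dz_z {z : V} (hz : Qs δ z = 0) : om (δ *ᵥ z) z = 0 := by
  rw [← Qs_def, hz]

theorem Qs_sh (U : SData δ d) {z w : V} (hz : Qs δ z = 0) (h1 : om (δ *ᵥ z) w = 0)
    (h2 : om z w = 0) (hw : Qs δ w = 0) (a b : F) : Qs δ (sh δ z w a b) = 0 := by
  rw [Qs_def, om_delta_sh U, om_right_sh, om_right_sh, om_right_sh, ← Qs_def, hw, dw_z U h1,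
    dw_dz U h2, h1, dz_z hz, om_self (δ *ᵥ z), h2, om_self z, z_dz U hz]
  ring

/-- the pairing `om (δ u₁) u₂` of two shifts -/
theorem pair_sh (U : SData δ d) {z w₁ w₂ : V} (hz : Qs δ z = 0) (h1 : om (δ *ᵥ z) w₁ = 0)
    (h2 : om z w₁ = 0) (h1' : om (δ *ᵥ z) w₂ = 0) (h2' : om z w₂ = 0) (a₁ b₁ a₂ b₂ : F) :
    om (δ *ᵥ sh δ z w₁ a₁ b₁) (sh δ z w₂ a₂ b₂) = om (δ *ᵥ w₁) w₂ := by
  rw [om_delta_sh U, om_right_sh, om_right_sh, om_right_sh, dw_z U h1, dw_dz U h2, h1', dz_z hz,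
    om_self (δ *ᵥ z), h2', om_self z, z_dz U hz]
  ring

end PHASE

/-- PHASE (M): `EXK.K1 (U.QF_nondeg h2) (card_idx F m hm) δ z` gives `w₁, w₂` singular with `B (QF δ) w₁ w₂ = 1` (so `om (δ w₁) w₂ = 1/2`)
and `hperp z wᵢ` (`om (δ z) wᵢ = 0 = om z wᵢ`).  `uᵢ := wᵢ + aᵢ • z + bᵢ • δ z` is isotropic, `h`-orthogonal to `z`, and
`(Aᵢ, Bᵢ) := (om uᵢ y0, om (δ uᵢ) y0) = (om wᵢ y0 + aᵢ e + bᵢ e', om (δ wᵢ) y0 + aᵢ e' + bᵢ d e)` with `e = om z y0 ≠ 0`, `e' = om (δ z) y0`;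
the determinant `d e² - e'²` is non-zero (`U.norm_ne_zero`), so choose `(A₁, B₁) = (1, 0)`, `(A₂, B₂) = (0, 1)`.  The value is
`d * (om u₁ u₂ * (d A₁ A₂ - B₁ B₂) + om (δ u₁) u₂ * (A₁ B₂ - B₁ A₂)) = d * om (δ w₁) w₂ = d / 2 ≠ 0`
(`om u₁ u₂ = om w₁ w₂`, `om (δ u₁) u₂ = om (δ w₁) w₂`). -/
theorem PHASE.exists_u (U : SData δ d) (h2 : (2 : F) ≠ 0) (hm : 7 ≤ m) {z y0 : V} (hz : Qs δ z = 0)
    (hzy : om z y0 ≠ 0) :
    ∃ u₁ u₂ : V, Qs δ u₁ = 0 ∧ Qs δ u₂ = 0 ∧ om u₁ z = 0 ∧ om (δ *ᵥ u₁) z = 0 ∧ om u₂ z = 0 ∧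
      om (δ *ᵥ u₂) z = 0 ∧
      om (-(d * om u₁ y0) • u₁ + om (δ *ᵥ u₁) y0 • δ *ᵥ u₁)
        (-(d * om u₂ y0) • u₂ + om (δ *ᵥ u₂) y0 • δ *ᵥ u₂) ≠ 0 := by
  obtain ⟨w₁, w₂, hw₁, hw₂, hB, hp₁, hp₂⟩ := EXK.K1 (U.QF_nondeg h2) (card_idx F m hm) δ z
  rw [QF_apply] at hw₁ hw₂
  rw [U.B_QF] at hB
  rw [U.hperp_iff h2] at hp₁ hp₂
  obtain ⟨h1, h1z⟩ := hp₁
  obtain ⟨h1', h1z'⟩ := hp₂
  -- choose the shifts
  obtain ⟨a₁, b₁, hA₁, hB₁⟩ := PHASE.solve U hzy (om (δ *ᵥ z) y0) (1 - om w₁ y0) (0 - om (δ *ᵥ w₁) y0)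
  obtain ⟨a₂, b₂, hA₂, hB₂⟩ := PHASE.solve U hzy (om (δ *ᵥ z) y0) (0 - om w₂ y0) (1 - om (δ *ᵥ w₂) y0)
  have eA₁ : om (PHASE.sh δ z w₁ a₁ b₁) y0 = 1 := by
    rw [PHASE.om_sh]; linear_combination hA₁
  have eB₁ : om (δ *ᵥ PHASE.sh δ z w₁ a₁ b₁) y0 = 0 := by
    rw [PHASE.om_delta_sh U]; linear_combination hB₁
  have eA₂ : om (PHASE.sh δ z w₂ a₂ b₂) y0 = 0 := by
    rw [PHASE.om_sh]; linear_combination hA₂
  have eB₂ : om (δ *ᵥ PHASE.sh δ z w₂ a₂ b₂) y0 = 1 := by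
    rw [PHASE.om_delta_sh U]; linear_combination hB₂
  refine ⟨PHASE.sh δ z w₁ a₁ b₁, PHASE.sh δ z w₂ a₂ b₂, PHASE.Qs_sh U hz h1 h1z hw₁ a₁ b₁,
    PHASE.Qs_sh U hz h1' h1z' hw₂ a₂ b₂, PHASE.sh_z U hz h1 h1z a₁ b₁,
    PHASE.delta_sh_z U hz h1 h1z a₁ b₁, PHASE.sh_z U hz h1' h1z' a₂ b₂,
    PHASE.delta_sh_z U hz h1' h1z' a₂ b₂, ?_⟩
  rw [eA₁, eB₁, eA₂, eB₂, zero_smul, add_zero, mul_zero, neg_zero, zero_smul, zero_add, one_smul,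
    mul_one, om_smul_left, U.adj', PHASE.pair_sh U hz h1 h1z h1' h1z']
  intro h0
  have hd : d ≠ 0 := U.d_ne_zero
  have h5 : om (δ *ᵥ w₁) w₂ = 0 := by
    have : d * om (δ *ᵥ w₁) w₂ = 0 := by linear_combination h0
    rcases mul_eq_zero.mp this with h | h
    · exact absurd h hd
    · exact h
  rw [h5, mul_zero] at hB
  exact zero_ne_one hB

end Cfsg.Agent.S5665P
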