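import Mathlib
import Cfsg.Prelude.Def_ClassicalGeometry
import Cfsg.Agent.Helper2.SympUnits
import Cfsg.Agent.Helper2.SpForm

/-! S5961 (driver helper23): shared definitions.  `Nondeg B M` / `Orth B M N` are helper2's
(`Cfsg.Agent.Helper2.SympInvol.Nondeg`, `Cfsg.Agent.Helper2.SympUnits.Orth`). -/

set_option autoImplicit false

namespace Cfsg.Agent.S5961P

open Cfsg.Agent.Helper2 Cfsg.Agent.Helper2.SympInvol Cfsg.Agent.Helper2.SympUnits

/-- the parameter `c` of S5961: `i = ord_r(q)` if `i` is even, `2 i` otherwise -/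
noncomputable def cc (F : Type*) [Fintype F] (r : ℕ) : ℕ :=
  if Even (orderOf ((Fintype.card F : ℕ) : ZMod r)) then orderOf ((Fintype.card F : ℕ) : ZMod r)
  else 2 * orderOf ((Fintype.card F : ℕ) : ZMod r)

theorem cc_def (F : Type*) [Fintype F] (r : ℕ) :
    cc F r = if Even (orderOf ((Fintype.card F : ℕ) : ZMod r)) then
      orderOf ((Fintype.card F : ℕ) : ZMod r) else 2 * orderOf ((Fintype.card F : ℕ) : ZMod r) := rfl

/-- the standard alternating form `Cfsg.sympForm` on `F^(2d)` as a bilinear form -/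
def sB (d : ℕ) (F : Type*) [Field F] : LinearMap.BilinForm F (Fin d ⊕ Fin d → F) :=
  LinearMap.mk₂ F (Cfsg.sympForm d F) Sp.om_add_left Sp.om_smul_left Sp.om_add_right
    Sp.om_smul_right

theorem sB_apply (d : ℕ) (F : Type*) [Field F] (u v : Fin d ⊕ Fin d → F) :
    sB d F u v = Cfsg.sympForm d F u v := rfl

theorem sB_alt (d : ℕ) (F : Type*) [Field F] (v : Fin d ⊕ Fin d → F) : sB d F v v = 0 :=
  Sp.om_self v

theorem sB_nondeg (d : ℕ) (F : Type*) [Field F] : Nondeg (sB d F) ⊤ := by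
  intro m _ hm0
  obtain ⟨v, hv⟩ := Sp.exists_om_ne_zero (l := Fin d) (F := F) hm0
  exact ⟨v, trivial, hv⟩

theorem sB_isometry (d : ℕ) (F : Type*) [Field F] (x : Matrix.symplecticGroup (Fin d) F)
    (u v : Fin d ⊕ Fin d → F) :
    sB d F (Matrix.toLin' (x : Matrix (Fin d ⊕ Fin d) (Fin d ⊕ Fin d) F) u)
      (Matrix.toLin' (x : Matrix (Fin d ⊕ Fin d) (Fin d ⊕ Fin d) F) v) = sB d F u v := by
  rw [sB_apply, sB_apply, Matrix.toLin'_apply, Matrix.toLin'_apply]
  exact Sp.mem_symplectic_iff_om.mp x.2 u v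

/-- a matrix whose `toLin'` preserves `sB` is symplectic -/
theorem mem_symplectic_of_isometry (d : ℕ) (F : Type*) [Field F]
    (A : Matrix (Fin d ⊕ Fin d) (Fin d ⊕ Fin d) F)
    (h : ∀ u v, sB d F (Matrix.toLin' A u) (Matrix.toLin' A v) = sB d F u v) :
    A ∈ Matrix.symplecticGroup (Fin d) F := by
  apply Sp.mem_symplectic_iff_om.mpr
  intro u v
  have := h u v
  rwa [sB_apply, sB_apply, Matrix.toLin'_apply, Matrix.toLin'_apply] at this

end Cfsg.Agent.S5961P
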