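import Mathlib
import Cfsg.Agent.Helper23.S5961Defs

set_option autoImplicit false

/-! # S5961, piece RESTR: transport along `W.subtype`. -/

namespace Cfsg.Agent.S5961P

open Cfsg.Agent.Helper2.SympInvol Cfsg.Agent.Helper2.SympUnits

namespace RESTR

variable {F V : Type*} [Field F] [AddCommGroup V] [Module F V]

theorem coe_restrict_sub_one (y : Module.End F V) (W : Submodule F V) (hW : ∀ v ∈ W, y v ∈ W)
    (w : W) : (((y.restrict hW - 1) w : W) : V) = (y - 1) (w : V) := by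
  simp [LinearMap.sub_apply, LinearMap.restrict_apply]

theorem mem_map_subtype {W : Submodule F V} (U' : Submodule F W) (v : V) :
    v ∈ U'.map W.subtype ↔ ∃ h : v ∈ W, (⟨v, h⟩ : W) ∈ U' := by
  constructor
  · rintro ⟨w, hw, rfl⟩
    exact ⟨w.2, hw⟩
  · rintro ⟨h, hv⟩
    exact ⟨⟨v, h⟩, hv, rfl⟩

end RESTR

open RESTR in
/-- RESTR: transport to / from an invariant subspace `W` (with `B.restrict W`, `y.restrict`) -/
theorem restr_transport {F V : Type*} [Field F] [AddCommGroup V] [Module F V]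
    [FiniteDimensional F V] (B : LinearMap.BilinForm F V) (y : Module.End F V)
    (W : Submodule F V) (hW : ∀ v ∈ W, y v ∈ W) :
    (∀ n : ℕ, y ^ n = 1 → (y.restrict hW) ^ n = 1) ∧
    ((∀ v, B v v = 0) → ∀ w : W, B.restrict W w w = 0) ∧
    ((∀ u v, B (y u) (y v) = B u v) →
      ∀ u v : W, B.restrict W (y.restrict hW u) (y.restrict hW v) = B.restrict W u v) ∧
    (Nondeg (B.restrict W) ⊤ ↔ Nondeg B W) ∧
    Module.finrank F (LinearMap.ker (y.restrict hW - 1)) =
      Module.finrank F ↥(W ⊓ LinearMap.ker (y - 1)) ∧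
    (LinearMap.ker (y.restrict hW - 1)).map W.subtype = W ⊓ LinearMap.ker (y - 1) ∧
    (LinearMap.range (y.restrict hW - 1)).map W.subtype = W.map (y - 1) ∧
    (∀ U' : Submodule F W,
      (U'.map W.subtype ≤ W) ∧
      Module.finrank F ↥(U'.map W.subtype) = Module.finrank F U' ∧
      (Nondeg (B.restrict W) U' ↔ Nondeg B (U'.map W.subtype)) ∧
      (U'.map (y.restrict hW) ≤ U' ↔ (U'.map W.subtype).map y ≤ U'.map W.subtype) ∧
      (∀ U'' : Submodule F W,
        (Orth (B.restrict W) U' U'' ↔ Orth B (U'.map W.subtype) (U''.map W.subtype)))) := by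
  have hker : (LinearMap.ker (y.restrict hW - 1)).map W.subtype = W ⊓ LinearMap.ker (y - 1) := by
    ext v
    rw [mem_map_subtype]
    constructor
    · rintro ⟨h, hv⟩
      refine ⟨h, ?_⟩
      rw [LinearMap.mem_ker] at hv
      have := congrArg (Subtype.val) hv
      rw [coe_restrict_sub_one] at this
      exact LinearMap.mem_ker.mpr this
    · rintro ⟨h, hv⟩
      have hv' : (y - 1) v = 0 := LinearMap.mem_ker.mp hv
      refine ⟨h, ?_⟩
      rw [LinearMap.mem_ker]
      apply Subtype.ext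
      rw [coe_restrict_sub_one]
      exact hv'
  have hnd : ∀ U' : Submodule F W, Nondeg (B.restrict W) U' ↔ Nondeg B (U'.map W.subtype) := by
    intro U'
    constructor
    · intro h m hm hm0
      obtain ⟨hmW, hm'⟩ := (mem_map_subtype U' m).mp hm
      obtain ⟨v, hv, hne⟩ := h ⟨m, hmW⟩ hm' (fun h0 => hm0 (congrArg Subtype.val h0))
      exact ⟨v, ⟨v, hv, rfl⟩, hne⟩
    · intro h m hm hm0
      obtain ⟨v, hv, hne⟩ := h m ⟨m, hm, rfl⟩ (fun h0 => hm0 (Subtype.ext h0))
      obtain ⟨hvW, hv'⟩ := (mem_map_subtype U' v).mp hv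
      exact ⟨⟨v, hvW⟩, hv', hne⟩
  refine ⟨?_, ?_, ?_, ?_, ?_, hker, ?_, ?_⟩
  · intro n hn
    rw [Module.End.pow_restrict n hW]
    ext w
    simp [LinearMap.restrict_apply, hn]
  · intro halt w
    exact halt w
  · intro hyB u v
    exact hyB u v
  · rw [hnd ⊤, Submodule.map_subtype_top]
  · rw [← hker]
    exact (Submodule.finrank_map_subtype_eq W _).symm
  · ext v
    constructor
    · rintro ⟨w, ⟨w', rfl⟩, rfl⟩
      exact ⟨w', w'.2, (coe_restrict_sub_one y W hW w').symm⟩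
    · rintro ⟨w, hw, rfl⟩
      exact ⟨(y.restrict hW - 1) ⟨w, hw⟩, ⟨⟨w, hw⟩, rfl⟩, coe_restrict_sub_one y W hW ⟨w, hw⟩⟩
  · intro U'
    refine ⟨Submodule.map_subtype_le W U', Submodule.finrank_map_subtype_eq W U', hnd U', ?_, ?_⟩
    · constructor
      · rintro h _ ⟨_, ⟨w, hw, rfl⟩, rfl⟩
        exact ⟨y.restrict hW w, h ⟨w, hw, rfl⟩, rfl⟩
      · rintro h _ ⟨w, hw, rfl⟩
        have h1 : y (w : V) ∈ U'.map W.subtype := h ⟨w, ⟨w, hw, rfl⟩, rfl⟩
        obtain ⟨h2, h3⟩ := (mem_map_subtype U' _).mp h1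
        exact h3
    · intro U''
      constructor
      · rintro h _ ⟨u, hu, rfl⟩ _ ⟨v, hv, rfl⟩
        exact h u hu v hv
      · intro h u hu v hv
        exact h u ⟨u, hu, rfl⟩ v ⟨v, hv, rfl⟩

end Cfsg.Agent.S5961P
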