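import Mathlib
import Cfsg.Agent.Helper23.S5961Defs
import Cfsg.Agent.Helper23.S5961RESTR
import Cfsg.Agent.Helper18.S5961ARITH
import Cfsg.Agent.Helper10.S5961FIXSPLIT
import Cfsg.Agent.Helper10.S5961ORTHC
import Cfsg.Agent.Helper19.S5961BLOCKEX

set_option autoImplicit false

/-! # S5961, pieces STRUCT and SPDIV. -/

namespace Cfsg.Agent.S5961P

open Cfsg.Agent.Helper2.SympInvol Cfsg.Agent.Helper2.SympUnits

namespace STRUCT

variable {F V : Type*} [Field F] [AddCommGroup V] [Module F V]

/-- both summands of an orthogonal decomposition of a nondegenerate space are nondegenerate -/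
theorem nondeg_right_of_isCompl (B : LinearMap.BilinForm F V) (hnd : Nondeg B ⊤)
    (U W : Submodule F V) (hUW : IsCompl U W) (ho : Orth B W U) : Nondeg B W := by
  intro w hw hw0
  obtain ⟨v, -, hv⟩ := hnd w trivial hw0
  have hv' : v ∈ U ⊔ W := by rw [hUW.sup_eq_top]; trivial
  obtain ⟨u, hu, w', hw', rfl⟩ := Submodule.mem_sup.mp hv'
  refine ⟨w', hw', ?_⟩
  rw [map_add, ho w hw u hu, zero_add] at hv
  exact hv

/-- pairwise orthogonal nondegenerate subspaces are independent -/
theorem indep_of_orth (B : LinearMap.BilinForm F V) {ι : Type*} (E : ι → Submodule F V)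
    (hE : ∀ j, Nondeg B (E j)) (ho : ∀ j j', j ≠ j' → Orth B (E j) (E j')) : iSupIndep E := by
  intro j
  rw [Submodule.disjoint_def]
  intro v hv hv'
  by_contra hv0
  obtain ⟨w, hw, hne⟩ := hE j v hv hv0
  apply hne
  -- `B · w` vanishes on the other summands
  have hle : (⨆ k, ⨆ (_ : k ≠ j), E k) ≤ LinearMap.ker (B.flip w) := by
    refine iSup₂_le fun k hk => ?_
    intro u hu
    rw [LinearMap.mem_ker, LinearMap.BilinForm.flip_apply]
    exact ho k j hk u hu w hw
  have := hle hv'
  rwa [LinearMap.mem_ker, LinearMap.BilinForm.flip_apply] at this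

theorem iSup_cons {m : ℕ} (U : Submodule F V) (g : Fin m → Submodule F V) :
    (⨆ j, (Fin.cons U g : Fin (m + 1) → Submodule F V) j) = U ⊔ ⨆ j, g j := by
  apply le_antisymm
  · refine iSup_le fun j => ?_
    refine Fin.cases ?_ (fun j' => ?_) j
    · rw [Fin.cons_zero]; exact le_sup_left
    · rw [Fin.cons_succ]; exact le_sup_of_le_right (le_iSup g j')
  · refine sup_le ?_ (iSup_le fun j => ?_)
    · have := le_iSup (Fin.cons U g : Fin (m + 1) → Submodule F V) 0
      rwa [Fin.cons_zero] at this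
    · have := le_iSup (Fin.cons U g : Fin (m + 1) → Submodule F V) j.succ
      rwa [Fin.cons_succ] at this

/-- an injective endomorphism maps an invariant finite-dimensional subspace onto itself -/
theorem map_eq_of_injOn [FiniteDimensional F V] (g : Module.End F V) (U : Submodule F V)
    (hU : U.map g ≤ U) (hinj : Disjoint U (LinearMap.ker g)) : U.map g = U := by
  apply Submodule.eq_of_le_of_finrank_le hU
  have hinj' : Function.Injective (g.domRestrict U) := by
    intro a b hab
    apply Subtype.ext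
    have h1 : g ((a : V) - (b : V)) = 0 := by
      rw [map_sub, sub_eq_zero]
      exact hab
    have h2 : (a : V) - (b : V) ∈ U ⊓ LinearMap.ker g :=
      ⟨U.sub_mem a.2 b.2, LinearMap.mem_ker.mpr h1⟩
    rw [hinj.eq_bot, Submodule.mem_bot, sub_eq_zero] at h2
    exact h2
  have h3 := LinearMap.finrank_range_of_inj hinj'
  rw [LinearMap.range_domRestrict] at h3
  exact h3.ge

end STRUCT

open STRUCT in
/-- STRUCT (uses BLOCKEX, FIXSPLIT, ORTHC, RESTR) -/
theorem exists_blocks_sp {F V : Type*} [Field F] [Fintype F] [AddCommGroup V] [Module F V]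
    [FiniteDimensional F V] {p : ℕ} [Fact p.Prime] [CharP F p] (r : ℕ) [Fact r.Prime]
    (hr2 : r ≠ 2) (hrp : r ≠ p) (B : LinearMap.BilinForm F V) (halt : ∀ v, B v v = 0)
    (hnd : Nondeg B ⊤) (y : Module.End F V) (hyB : ∀ u v, B (y u) (y v) = B u v)
    (hy : y ^ r = 1) :
    ∃ (m : ℕ) (E : Fin m → Submodule F V),
      (∀ j, (E j).map y ≤ E j) ∧ (∀ j, Nondeg B (E j)) ∧
      (∀ j, Module.finrank F (E j) = cc F r) ∧
      (∀ j j', j ≠ j' → Orth B (E j) (E j')) ∧ iSupIndep E ∧
      (⨆ j, E j) = LinearMap.range (y - 1) := by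
  induction' hn : Module.finrank F V using Nat.strong_induction_on with n ih generalizing V
  have hrpr : r.Prime := Fact.out
  obtain ⟨-, hcpos, -, -, -, -, -, -⟩ := cc_arith (F := F) (p := p) r hr2 hrp
  obtain ⟨hcompl, hCN, hNC, hNinv, hCinv⟩ := fix_split (p := p) r hrp B y hyB hy
  by_cases hN0 : LinearMap.range (y - 1) = ⊥
  · refine ⟨0, Fin.elim0, fun j => j.elim0, fun j => j.elim0, fun j => j.elim0,
      fun j => j.elim0, fun j => j.elim0, ?_⟩
    rw [hN0]
    simp
  · have hNnd : Nondeg B (LinearMap.range (y - 1)) :=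
      nondeg_right_of_isCompl B hnd _ _ hcompl hNC
    have hNinv' : ∀ v ∈ LinearMap.range (y - 1), y v ∈ LinearMap.range (y - 1) :=
      fun v hv => hNinv ⟨v, hv, rfl⟩
    obtain ⟨hpowN, haltN, hisoN, hndN, hfrN, -, -, hsubN⟩ :=
      restr_transport B y (LinearMap.range (y - 1)) hNinv'
    have hkerN0 : LinearMap.ker (y.restrict hNinv' - 1) = ⊥ := by
      apply Submodule.finrank_eq_zero.mp
      rw [hfrN, inf_comm, hcompl.inf_eq_bot, finrank_bot]
    have hNpos : 0 < Module.finrank F (LinearMap.range (y - 1)) := by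
      rcases Nat.eq_zero_or_pos (Module.finrank F (LinearMap.range (y - 1))) with h | h
      · exact absurd (Submodule.finrank_eq_zero.mp h) hN0
      · exact h
    obtain ⟨U', hU'inv, hU'nd, hU'fr⟩ := exists_block (p := p) r hr2 hrp
      (B.restrict (LinearMap.range (y - 1))) (haltN halt) (hndN.mpr hNnd) (y.restrict hNinv')
      (hisoN hyB) (hpowN r hy) hkerN0 hNpos
    obtain ⟨hUle, hUfr, hUnd, hUinv, -⟩ := hsubN U'
    obtain ⟨U, hUdef⟩ : ∃ U : Submodule F V,
      U = U'.map (LinearMap.range (y - 1)).subtype := ⟨_, rfl⟩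
    rw [← hUdef] at hUle hUfr hUnd hUinv
    have hUnd' : Nondeg B U := hUnd.mp hU'nd
    have hUinv' : U.map y ≤ U := hUinv.mp hU'inv
    have hyinj : Function.Injective y := by
      intro a b hab
      have h1 : (y ^ r) a = (y ^ r) b := by
        obtain ⟨k, rfl⟩ : ∃ k, r = k + 1 := ⟨r - 1, by have := hrpr.pos; omega⟩
        rw [pow_succ, Module.End.mul_apply, Module.End.mul_apply, hab]
      rw [hy] at h1
      exact h1
    obtain ⟨hUW, hoUW, hoWU, hWnd, hWinv, -⟩ := orth_compl B halt U hUnd'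
    have hWnd' := hWnd hnd
    have hWinv' := hWinv y hyB hyinj hUinv'
    have hfrW : Module.finrank F (B.orthogonal U) < n := by
      have := Submodule.finrank_add_eq_of_isCompl hUW
      rw [hUfr, hU'fr] at this
      omega
    have hWinv'' : ∀ v ∈ B.orthogonal U, y v ∈ B.orthogonal U :=
      fun v hv => hWinv' ⟨v, hv, rfl⟩
    obtain ⟨hpowW, haltW, hisoW, hndW, -, -, hrangeW, hsubW⟩ :=
      restr_transport B y (B.orthogonal U) hWinv''
    obtain ⟨m', E', hE'inv, hE'nd, hE'fr, hE'o, -, hE'sup⟩ :=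
      ih (Module.finrank F (B.orthogonal U)) hfrW (B.restrict (B.orthogonal U)) (haltW halt)
        (hndW.mpr hWnd') (y.restrict hWinv'') (hisoW hyB) (hpowW r hy) rfl
    have hEinv : ∀ j, ((Fin.cons U (fun j => (E' j).map (B.orthogonal U).subtype) :
        Fin (m' + 1) → Submodule F V) j).map y ≤
        (Fin.cons U (fun j => (E' j).map (B.orthogonal U).subtype) :
        Fin (m' + 1) → Submodule F V) j := by
      intro j
      refine Fin.cases ?_ (fun j' => ?_) j
      · rw [Fin.cons_zero]; exact hUinv'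
      · rw [Fin.cons_succ]; exact (hsubW (E' j')).2.2.2.1.mp (hE'inv j')
    have hEnd : ∀ j, Nondeg B ((Fin.cons U (fun j => (E' j).map (B.orthogonal U).subtype) :
        Fin (m' + 1) → Submodule F V) j) := by
      intro j
      refine Fin.cases ?_ (fun j' => ?_) j
      · rw [Fin.cons_zero]; exact hUnd'
      · rw [Fin.cons_succ]; exact (hsubW (E' j')).2.2.1.mp (hE'nd j')
    have hEo : ∀ j j', j ≠ j' →
        Orth B ((Fin.cons U (fun j => (E' j).map (B.orthogonal U).subtype) :
          Fin (m' + 1) → Submodule F V) j)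
        ((Fin.cons U (fun j => (E' j).map (B.orthogonal U).subtype) :
          Fin (m' + 1) → Submodule F V) j') := by
      intro j j'
      refine Fin.cases ?_ (fun k => ?_) j
      · refine Fin.cases ?_ (fun k' => ?_) j'
        · intro h; exact absurd rfl h
        · intro _
          rw [Fin.cons_zero, Fin.cons_succ]
          intro u hu v hv
          exact hoUW u hu v ((hsubW (E' k')).1 hv)
      · refine Fin.cases ?_ (fun k' => ?_) j'
        · intro _
          rw [Fin.cons_zero, Fin.cons_succ]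
          intro u hu v hv
          exact hoWU u ((hsubW (E' k)).1 hu) v hv
        · intro h
          rw [Fin.cons_succ, Fin.cons_succ]
          have hkk' : k ≠ k' := fun h' => h (by rw [h'])
          exact ((hsubW (E' k)).2.2.2.2 (E' k')).mp (hE'o k k' hkk')
    refine ⟨m' + 1, Fin.cons U (fun j => (E' j).map (B.orthogonal U).subtype), hEinv, hEnd, ?_, hEo,
      indep_of_orth B _ hEnd hEo, ?_⟩
    · intro j
      refine Fin.cases ?_ (fun j' => ?_) j
      · rw [Fin.cons_zero, hUfr, hU'fr]
      · rw [Fin.cons_succ, (hsubW (E' j')).2.1, hE'fr j']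
    · rw [iSup_cons, ← Submodule.map_iSup, hE'sup, hrangeW]
      have hUC : Disjoint U (LinearMap.ker (y - 1)) := hcompl.disjoint.symm.mono_left hUle
      have hUmap : U.map (y - 1) ≤ U := by
        rintro _ ⟨u, hu, rfl⟩
        rw [LinearMap.sub_apply, Module.End.one_apply]
        exact U.sub_mem (hUinv' ⟨u, hu, rfl⟩) hu
      have h1 := map_eq_of_injOn (y - 1) U hUmap hUC
      rw [LinearMap.range_eq_map, ← hUW.sup_eq_top, Submodule.map_sup, h1]

/-- SPDIV (uses STRUCT, FIXSPLIT, RESTR) -/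
theorem sp_dvd {F V : Type*} [Field F] [Fintype F] [AddCommGroup V] [Module F V]
    [FiniteDimensional F V] {p : ℕ} [Fact p.Prime] [CharP F p] (r : ℕ) [Fact r.Prime]
    (hr2 : r ≠ 2) (hrp : r ≠ p) (B : LinearMap.BilinForm F V) (halt : ∀ v, B v v = 0)
    (y : Module.End F V) (hyB : ∀ u v, B (y u) (y v) = B u v) (hy : y ^ r = 1)
    (W : Submodule F V) (hW : W.map y ≤ W) (hWnd : Nondeg B W) :
    cc F r ∣ Module.finrank F W - Module.finrank F ↥(W ⊓ LinearMap.ker (y - 1)) := by
  have hW' : ∀ v ∈ W, y v ∈ W := fun v hv => hW ⟨v, hv, rfl⟩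
  obtain ⟨hpowW, haltW, hisoW, hndW, hfrW, -, -, -⟩ := restr_transport B y W hW'
  obtain ⟨m, E, -, -, hEfr, -, hEind, hEsup⟩ := exists_blocks_sp (p := p) r hr2 hrp
    (B.restrict W) (haltW halt) (hndW.mpr hWnd) (y.restrict hW') (hisoW hyB) (hpowW r hy)
  obtain ⟨hcompl, -, -, -, -⟩ := fix_split (p := p) r hrp (B.restrict W) (y.restrict hW')
    (hisoW hyB) (hpowW r hy)
  have h1 := Submodule.finrank_add_eq_of_isCompl hcompl
  have h2 := finrank_biSup E hEind Finset.univ
  have h3 : (⨆ i ∈ (Finset.univ : Finset (Fin m)), E i) = ⨆ i, E i := by simp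
  rw [h3, hEsup, Finset.sum_congr rfl (fun i _ => hEfr i), Finset.sum_const, Finset.card_univ,
    Fintype.card_fin, smul_eq_mul] at h2
  rw [← hfrW]
  refine ⟨m, ?_⟩
  rw [mul_comm]
  omega

end Cfsg.Agent.S5961P
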