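import Mathlib
import Cfsg.Agent.Helper1.W2pDefs

/-! S0720 piece FIXa: for a self-centralizing Sylow subgroup `P` of prime order `p` acting
semiregularly on `2p` points, with `e = |N(P) : P|` odd, a point stabilizer `E` of `N(P)` is a
complement of `P` in `N(P)` fixing a second point. -/

set_option autoImplicit false
set_option linter.unusedSectionVars false
set_option linter.unusedVariables false

namespace Cfsg.Agent.Helper23.W2p

open Cfsg Cfsg.Agent.Helper1.W2p MulAction

universe u v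

section lemmas

variable {H : Type u} [Group H] [Finite H] {Ω : Type v} [Finite Ω] [MulAction H Ω]
  {p : ℕ} [Fact p.Prime] {Ps : Subgroup H}

/-- an element commuting with a nontrivial element of `Ps` centralizes `Ps`. -/
theorem mem_centralizer_of_commute (hP : Nat.card Ps = p) {g y : H} (hy : y ∈ Ps) (hy1 : y ≠ 1)
    (hgy : g * y = y * g) : g ∈ Subgroup.centralizer (Ps : Set H) := by
  rw [Subgroup.mem_centralizer_iff]
  intro h hh
  have hne : (⟨y, hy⟩ : ↥Ps) ≠ 1 := fun h1 => hy1 (congrArg Subtype.val h1)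
  have hmem : (⟨h, hh⟩ : ↥Ps) ∈ Subgroup.zpowers (⟨y, hy⟩ : ↥Ps) :=
    mem_zpowers_of_prime_card hP hne
  obtain ⟨k, hk⟩ := Subgroup.mem_zpowers_iff.mp hmem
  have hk' : y ^ k = h := by
    have := congrArg Subtype.val hk
    simpa using this
  have hc : Commute g y := hgy
  rw [← hk']
  exact (hc.zpow_right k).symm.eq

variable (hfpf : ∀ g : H, g ∈ Ps → g ≠ 1 → ∀ x : Ω, g • x ≠ x)

include hfpf in
/-- uniqueness of the fixed point in a `Ps`-orbit. -/
theorem commute_of_two_fixed {g y : H} (hg : g ∈ Subgroup.normalizer (Ps : Set H)) (hy : y ∈ Ps)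
    {β : Ω} (h1 : g • β = β) (h2 : g • (y • β) = y • β) : g * y = y * g := by
  have hconj : g * y * g⁻¹ ∈ Ps := (Subgroup.mem_set_normalizer_iff.mp hg y).mp hy
  have h3 : (y⁻¹ * (g * y * g⁻¹)) • β = β := by
    have e1 : (g * y * g⁻¹) • β = y • β := by
      have : (g * y * g⁻¹) • (g • β) = g • (y • β) := by
        rw [← mul_smul, ← mul_smul]
        congr 1
        group
      rw [h1, h2] at this
      exact this
    rw [mul_smul, e1, ← mul_smul, inv_mul_cancel, one_smul]
  have h4 : y⁻¹ * (g * y * g⁻¹) = 1 := by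
    by_contra hne
    exact hfpf _ (Ps.mul_mem (Ps.inv_mem hy) hconj) hne β h3
  have h5 : g * y * g⁻¹ = y := by
    have := congrArg (fun z => y * z) h4
    simpa [mul_assoc] using this
  calc g * y = g * y * g⁻¹ * g := by group
    _ = y * g := by rw [h5]

/-- existence of a fixed point in a `Ps`-orbit preserved by `g`. -/
theorem exists_fixed_in_orbit (hP : Nat.card Ps = p)
    (hC : Subgroup.centralizer (Ps : Set H) = Ps) {g c : H}
    (hg : g ∈ Subgroup.normalizer (Ps : Set H)) (hgP : g ∉ Ps) (hc : c ∈ Ps) {β : Ω}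
    (hβ : g • β = c • β) : ∃ y ∈ Ps, g • (y • β) = y • β := by
  have hconj : ∀ y ∈ Ps, g * y * g⁻¹ ∈ Ps := fun y hy =>
    (Subgroup.mem_set_normalizer_iff.mp hg y).mp hy
  let φ : ↥Ps → ↥Ps := fun y => ⟨(y : H)⁻¹ * (g * y * g⁻¹), Ps.mul_mem (Ps.inv_mem y.2) (hconj y y.2)⟩
  have hinj : Function.Injective φ := by
    intro y z hyz
    have h1 : (y : H)⁻¹ * (g * y * g⁻¹) = (z : H)⁻¹ * (g * z * g⁻¹) := congrArg Subtype.val hyz
    -- `g` commutes with `w = z * y⁻¹`
    set w : H := (z : H) * (y : H)⁻¹ with hw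
    have hwP : w ∈ Ps := Ps.mul_mem z.2 (Ps.inv_mem y.2)
    have h2 : g * w = w * g := by
      have e1 : (z : H) * ((y : H)⁻¹ * (g * y * g⁻¹)) = g * z * g⁻¹ := by
        rw [h1]; group
      have e2 : w * (g * y * g⁻¹) = g * z * g⁻¹ := by
        rw [hw, mul_assoc]; exact e1
      have e3 : w = g * z * g⁻¹ * (g * y * g⁻¹)⁻¹ := by
        rw [← e2]; group
      have e4 : g * z * g⁻¹ * (g * y * g⁻¹)⁻¹ = g * w * g⁻¹ := by
        rw [hw]; group
      rw [e4] at e3
      calc g * w = g * w * g⁻¹ * g := by group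
        _ = w * g := by rw [← e3]
    by_contra hne
    have hw1 : w ≠ 1 := by
      intro h
      apply hne
      apply Subtype.ext
      have : (z : H) = (y : H) := by
        have := congrArg (fun t => t * (y : H)) h
        simpa [hw] using this
      exact this.symm
    have : g ∈ Subgroup.centralizer (Ps : Set H) := mem_centralizer_of_commute hP hwP hw1 h2
    rw [hC] at this
    exact hgP this
  have hsurj : Function.Surjective φ := Finite.surjective_of_injective hinj
  obtain ⟨y, hy⟩ := hsurj ⟨c⁻¹, Ps.inv_mem hc⟩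
  have hy' : (y : H)⁻¹ * (g * y * g⁻¹) = c⁻¹ := congrArg Subtype.val hy
  refine ⟨y, y.2, ?_⟩
  have e1 : g * (y : H) = (y : H) * c⁻¹ * g := by
    have : g * y * g⁻¹ = (y : H) * c⁻¹ := by
      rw [← hy']; group
    calc g * (y : H) = g * y * g⁻¹ * g := by group
      _ = (y : H) * c⁻¹ * g := by rw [this]
  rw [← mul_smul, e1, mul_smul, hβ, mul_smul, inv_smul_smul]

end lemmas

section main

variable {H : Type u} [Group H] [Finite H] {Ω : Type v} [Finite Ω] [MulAction H Ω]
  {p : ℕ} [Fact p.Prime] {Ps : Subgroup H}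

/-- every point stabilizer of `N(P)` has order `e`, every orbit has `p` points. -/
theorem card_stab_orbit (hΩ : Nat.card Ω = 2 * p) (hP : Nat.card Ps = p)
    (hfpf : ∀ g : H, g ∈ Ps → g ≠ 1 → ∀ x : Ω, g • x ≠ x) (hodd : Odd (eN Ps)) (β : Ω) :
    Nat.card (stabilizer ↥(Subgroup.normalizer (Ps : Set H)) β) = eN Ps ∧
      Nat.card (orbit ↥(Subgroup.normalizer (Ps : Set H)) β) = p := by
  classical
  set N : Subgroup H := Subgroup.normalizer (Ps : Set H) with hN
  have hPN : Ps ≤ N := Subgroup.le_normalizer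
  have hp := (Fact.out : p.Prime)
  have hcardN : Nat.card N = p * eN Ps := by
    have := Subgroup.relIndex_mul_relIndex (⊥ : Subgroup H) Ps N bot_le hPN
    rw [Subgroup.relIndex_bot_left, Subgroup.relIndex_bot_left, hP] at this
    exact this.symm
  set S : Subgroup ↥N := stabilizer ↥N β with hS
  -- `S` embeds in `N / P`
  have hdvd : Nat.card S ∣ eN Ps := by
    let f : ↥S →* ↥N ⧸ Ps.subgroupOf N := (QuotientGroup.mk' (Ps.subgroupOf N)).comp S.subtype
    have hf : Function.Injective f := by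
      rw [injective_iff_map_eq_one]
      intro g hg
      have h1 : ((g : ↥N) : ↥N) ∈ Ps.subgroupOf N := by
        have : (QuotientGroup.mk' (Ps.subgroupOf N)) (g : ↥N) = 1 := hg
        rwa [QuotientGroup.mk'_apply, QuotientGroup.eq_one_iff] at this
      have h2 : ((g : ↥N) : H) ∈ Ps := Subgroup.mem_subgroupOf.mp h1
      have h3 : ((g : ↥N) : H) • β = β := by
        have h3' : (g : ↥N) ∈ stabilizer ↥N β := g.2
        exact mem_stabilizer_iff.mp h3' 
      have h4 : ((g : ↥N) : H) = 1 := by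
        by_contra hne
        exact hfpf _ h2 hne β h3
      apply Subtype.ext
      apply Subtype.ext
      exact h4
    have := Subgroup.card_dvd_of_injective f hf
    rw [← Subgroup.index_eq_card] at this
    exact this
  have hos : Nat.card (orbit ↥N β) * Nat.card S = Nat.card N := by
    rw [← Nat.card_prod]
    exact Nat.card_congr (orbitProdStabilizerEquivGroup ↥N β)
  have hole : Nat.card (orbit ↥N β) ≤ 2 * p := by
    rw [← hΩ]
    exact Nat.card_le_card_of_injective Subtype.val Subtype.val_injective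
  obtain ⟨k, hk⟩ := hdvd
  have hSpos : 0 < Nat.card S := Nat.card_pos
  have hppos : 0 < p := hp.pos
  have ho : Nat.card (orbit ↥N β) = p * k := by
    have h1 : Nat.card (orbit ↥N β) * Nat.card S = p * k * Nat.card S := by
      rw [hos, hcardN, hk]; ring
    exact Nat.eq_of_mul_eq_mul_right hSpos h1
  have hk2 : k ≤ 2 := by
    rw [ho] at hole
    have : p * k ≤ p * 2 := by omega
    exact Nat.le_of_mul_le_mul_left this hppos
  have hkodd : Odd k := by
    rw [hk] at hodd
    exact (Nat.odd_mul.mp hodd).2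
  have hk1 : k = 1 := by
    obtain ⟨t, ht⟩ := hkodd
    omega
  subst hk1
  refine ⟨?_, ?_⟩
  · rw [hk, mul_one]
  · rw [ho, mul_one]

/-- elements of `N(P)` preserve the `P`-orbits. -/
theorem exists_smul_eq_of_mem (hΩ : Nat.card Ω = 2 * p) (hP : Nat.card Ps = p)
    (hfpf : ∀ g : H, g ∈ Ps → g ≠ 1 → ∀ x : Ω, g • x ≠ x) (hodd : Odd (eN Ps)) (β : Ω)
    {g : H} (hg : g ∈ Subgroup.normalizer (Ps : Set H)) : ∃ c ∈ Ps, g • β = c • β := by
  classical
  set N : Subgroup H := Subgroup.normalizer (Ps : Set H) with hN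
  have hPN : Ps ≤ N := Subgroup.le_normalizer
  have hsub : orbit ↥Ps β ⊆ orbit ↥N β := by
    rintro x ⟨c, rfl⟩
    exact ⟨⟨c, hPN c.2⟩, rfl⟩
  have hstab : stabilizer ↥Ps β = ⊥ := by
    rw [eq_bot_iff]
    intro c hc
    rw [mem_stabilizer_iff] at hc
    rw [Subgroup.mem_bot]
    by_contra hne
    exact hfpf c c.2 (fun h => hne (Subtype.ext h)) β hc
  have hcardP : Nat.card (orbit ↥Ps β) = p := by
    have h1 : Nat.card (orbit ↥Ps β) * Nat.card (stabilizer ↥Ps β) = Nat.card Ps := by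
      rw [← Nat.card_prod]
      exact Nat.card_congr (orbitProdStabilizerEquivGroup ↥Ps β)
    rw [hstab, Subgroup.card_bot, mul_one, hP] at h1
    exact h1
  have hcardN := (card_stab_orbit hΩ hP hfpf hodd β).2
  have heq : orbit ↥Ps β = orbit ↥N β := by
    apply Set.eq_of_subset_of_ncard_le hsub _ (Set.toFinite _)
    rw [← Nat.card_coe_set_eq, ← Nat.card_coe_set_eq, hcardP, hcardN]
  have hmem : g • β ∈ orbit ↥N β := ⟨⟨g, hg⟩, rfl⟩
  rw [← heq] at hmem
  obtain ⟨c, hc⟩ := hmem
  exact ⟨c, c.2, hc.symm⟩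

end main

theorem exists_complement_fixing_two {H : Type u} [Group H] [Finite H] {Ω : Type v} [Finite Ω]
    [MulAction H Ω] (p : ℕ) [Fact p.Prime] (hp2 : p ≠ 2) (hΩ : Nat.card Ω = 2 * p)
    (P : Sylow p H) (hP : Nat.card P = p)
    (hC : Subgroup.centralizer ((P : Subgroup H) : Set H) = (P : Subgroup H))
    (hfpf : ∀ g : H, g ∈ (P : Subgroup H) → g ≠ 1 → ∀ x : Ω, g • x ≠ x)
    (hodd : Odd (eN (P : Subgroup H))) :
    ∃ (E : Subgroup H) (α α' : Ω), α ≠ α' ∧ E ≤ Subgroup.normalizer ((P : Subgroup H) : Set H) ∧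
      Nat.card E = eN (P : Subgroup H) ∧ E ⊓ (P : Subgroup H) = ⊥ ∧
      E ≤ stabilizer H α ∧ E ≤ stabilizer H α' := by
  classical
  set Ps : Subgroup H := (P : Subgroup H) with hPs
  have hPc : Nat.card Ps = p := hP
  set N : Subgroup H := Subgroup.normalizer (Ps : Set H) with hN
  have hPN : Ps ≤ N := Subgroup.le_normalizer
  have hp := (Fact.out : p.Prime)
  have hΩpos : 0 < Nat.card Ω := by rw [hΩ]; have := hp.pos; omega
  have : Nonempty Ω := (Nat.card_pos_iff.mp hΩpos).1
  obtain ⟨α⟩ := ‹Nonempty Ω›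
  set E' : Subgroup ↥N := stabilizer ↥N α with hE'
  set E : Subgroup H := E'.map N.subtype with hE
  have hEN : E ≤ N := Subgroup.map_subtype_le E'
  have hEcard : Nat.card E = eN Ps := by
    rw [← (card_stab_orbit hΩ hPc hfpf hodd α).1]
    exact (Nat.card_congr (E'.equivMapOfInjective N.subtype N.subtype_injective).toEquiv).symm
  have hEα : E ≤ stabilizer H α := by
    rintro g ⟨n, hn, rfl⟩
    rw [mem_stabilizer_iff]
    have : n • α = α := mem_stabilizer_iff.mp hn
    exact this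
  have hEP : E ⊓ Ps = ⊥ := by
    rw [eq_bot_iff]
    rintro g ⟨hgE, hgP⟩
    rw [Subgroup.mem_bot]
    by_contra hne
    exact hfpf g hgP hne α (mem_stabilizer_iff.mp (hEα hgE))
  -- a generator of `Ps`
  obtain ⟨y0, hy0, hy01⟩ : ∃ y0 ∈ Ps, y0 ≠ 1 := by
    by_contra hcon
    push Not at hcon
    have : Ps = ⊥ := by
      rw [eq_bot_iff]
      intro y hy
      exact Subgroup.mem_bot.mpr (hcon y hy)
    rw [this, Subgroup.card_bot] at hPc
    exact hp.one_lt.ne hPc
  have hgen : ∀ h ∈ Ps, ∃ k : ℤ, y0 ^ k = h := by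
    intro h hh
    have hne : (⟨y0, hy0⟩ : ↥Ps) ≠ 1 := fun h1 => hy01 (congrArg Subtype.val h1)
    have hmem : (⟨h, hh⟩ : ↥Ps) ∈ Subgroup.zpowers (⟨y0, hy0⟩ : ↥Ps) :=
      mem_zpowers_of_prime_card hPc hne
    obtain ⟨k, hk⟩ := Subgroup.mem_zpowers_iff.mp hmem
    refine ⟨k, ?_⟩
    have := congrArg Subtype.val hk
    simpa using this
  have hnotP : ∀ g ∈ E, g ≠ 1 → g ∉ Ps := by
    intro g hgE hg1 hgP
    have : g ∈ E ⊓ Ps := ⟨hgE, hgP⟩
    rw [hEP, Subgroup.mem_bot] at this
    exact hg1 this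
  -- `E` is abelian
  have hab : ∀ g ∈ E, ∀ h ∈ E, g * h = h * g := by
    intro g hg h hh
    have hgN := hEN hg
    have hhN := hEN hh
    obtain ⟨r, hr⟩ := hgen _ ((Subgroup.mem_set_normalizer_iff.mp hgN y0).mp hy0)
    obtain ⟨s, hs⟩ := hgen _ ((Subgroup.mem_set_normalizer_iff.mp hhN y0).mp hy0)
    have e1 : (g * h) * y0 * (g * h)⁻¹ = y0 ^ (r * s) := by
      have : (g * h) * y0 * (g * h)⁻¹ = g * (h * y0 * h⁻¹) * g⁻¹ := by group
      rw [this, ← hs, ← conj_zpow, ← hr, ← zpow_mul]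
    have e2 : (h * g) * y0 * (h * g)⁻¹ = y0 ^ (r * s) := by
      have : (h * g) * y0 * (h * g)⁻¹ = h * (g * y0 * g⁻¹) * h⁻¹ := by group
      rw [this, ← hr, ← conj_zpow, ← hs, ← zpow_mul, mul_comm]
    set c : H := (h * g)⁻¹ * (g * h) with hc
    have hcE : c ∈ E := E.mul_mem (E.inv_mem (E.mul_mem hh hg)) (E.mul_mem hg hh)
    have hcy : c * y0 = y0 * c := by
      have e3 : (g * h) * y0 * (g * h)⁻¹ = (h * g) * y0 * (h * g)⁻¹ := by rw [e1, e2]
      have e4 : c * y0 * c⁻¹ = y0 := by
        have : c * y0 * c⁻¹ = (h * g)⁻¹ * ((g * h) * y0 * (g * h)⁻¹) * (h * g) := by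
          rw [hc]; group
        rw [this, e3]; group
      calc c * y0 = c * y0 * c⁻¹ * c := by group
        _ = y0 * c := by rw [e4]
    have hcC : c ∈ Subgroup.centralizer (Ps : Set H) := mem_centralizer_of_commute hPc hy0 hy01 hcy
    rw [hC] at hcC
    have hc1 : c = 1 := by
      by_contra hne
      exact hnotP c hcE hne hcC
    have : (h * g) * c = g * h := by rw [hc]; group
    rw [hc1, mul_one] at this
    exact this.symm
  by_cases hEbot : E = ⊥
  · -- trivial complement: any second point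
    have h2 : 1 < Nat.card Ω := by rw [hΩ]; have := hp.two_le; omega
    have : Nontrivial Ω := (Finite.one_lt_card_iff_nontrivial).mp h2
    obtain ⟨α', hα'⟩ := exists_ne α
    refine ⟨E, α, α', hα'.symm, hEN, hEcard, hEP, hEα, ?_⟩
    rw [hEbot]
    exact bot_le
  · obtain ⟨g, hgE, hg1⟩ : ∃ g ∈ E, g ≠ 1 := by
      by_contra hcon
      push Not at hcon
      apply hEbot
      rw [eq_bot_iff]
      intro g hg
      exact Subgroup.mem_bot.mpr (hcon g hg)
    have hgN := hEN hgE
    have hgP := hnotP g hgE hg1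
    -- a point outside the orbit of `α`
    obtain ⟨β, hβ⟩ : ∃ β : Ω, β ∉ orbit ↥N α := by
      by_contra hcon
      push Not at hcon
      have huniv : orbit ↥N α = Set.univ := Set.eq_univ_of_forall hcon
      have h1 := (card_stab_orbit hΩ hPc hfpf hodd α).2
      rw [huniv, Nat.card_congr (Equiv.Set.univ Ω), hΩ] at h1
      have := hp.pos
      omega
    obtain ⟨c, hcP, hcβ⟩ := exists_smul_eq_of_mem hΩ hPc hfpf hodd β hgN
    obtain ⟨y, hyP, hy⟩ := exists_fixed_in_orbit hPc hC hgN hgP hcP hcβ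
    refine ⟨E, α, y • β, ?_, hEN, hEcard, hEP, hEα, ?_⟩
    · intro hαy
      apply hβ
      refine ⟨⟨y⁻¹, hPN (Ps.inv_mem hyP)⟩, ?_⟩
      show y⁻¹ • α = β
      rw [hαy, inv_smul_smul]
    · intro h hhE
      rw [mem_stabilizer_iff]
      have hhN := hEN hhE
      obtain ⟨c', hc'P, hc'⟩ := exists_smul_eq_of_mem hΩ hPc hfpf hodd (y • β) hhN
      have hfix : g • (h • (y • β)) = h • (y • β) := by
        rw [← mul_smul, hab g hgE h hhE, mul_smul, hy]
      rw [hc'] at hfix
      have hcomm := commute_of_two_fixed hfpf hgN hc'P hy hfix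
      have hc'1 : c' = 1 := by
        by_contra hne
        have : g ∈ Subgroup.centralizer (Ps : Set H) :=
          mem_centralizer_of_commute hPc hc'P hne hcomm
        rw [hC] at this
        exact hgP this
      rw [hc', hc'1, one_smul]

end Cfsg.Agent.Helper23.W2p
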