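import Mathlib
import Cfsg.Prelude.Def_Characters
import Cfsg.Agent.Helper24.TwoTransitive

/-!
Shared definitions for S4560: characters of 4-transitive groups given by fixed-point formulas.
-/

set_option autoImplicit false

namespace Cfsg.Agent.Helper23.AV

open MulAction

universe u v w

section Defs

variable (G : Type u) [Group G] (Ω : Type v) [MulAction G Ω]

/-- The number of fixed points of `g` on `Ω`, as a complex number. -/
noncomputable def fx (g : G) : ℂ := (Nat.card (fixedBy Ω g) : ℂ)

/-- `π - 1`. -/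
noncomputable def chi1 (g : G) : ℂ := fx G Ω g - 1

/-- The character of shape `(n-2,2)`: `π₂ - π₁`. -/
noncomputable def psi2 (g : G) : ℂ := (fx G Ω g ^ 2 - 4 * fx G Ω g + fx G Ω (g ^ 2)) / 2

/-- The character of shape `(n-2,1,1)`: `π₃ - π₂ - π₁ + 1`. -/
noncomputable def psi3 (g : G) : ℂ := (fx G Ω g ^ 2 - 2 * fx G Ω g + 2 - fx G Ω (g ^ 2)) / 2

/-- Explicit form of `4`-transitivity on at least four points. -/
structure Trans4 : Prop where
  card_le : 4 ≤ Nat.card Ω
  t1 : ∀ a a' : Ω, ∃ g : G, g • a = a'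
  t2 : ∀ a b a' b' : Ω, a ≠ b → a' ≠ b' → ∃ g : G, g • a = a' ∧ g • b = b'
  t3 : ∀ a b c a' b' c' : Ω, a ≠ b → a ≠ c → b ≠ c → a' ≠ b' → a' ≠ c' → b' ≠ c' →
    ∃ g : G, g • a = a' ∧ g • b = b' ∧ g • c = c'
  t4 : ∀ a b c d a' b' c' d' : Ω, a ≠ b → a ≠ c → a ≠ d → b ≠ c → b ≠ d → c ≠ d →
    a' ≠ b' → a' ≠ c' → a' ≠ d' → b' ≠ c' → b' ≠ d' → c' ≠ d' →
    ∃ g : G, g • a = a' ∧ g • b = b' ∧ g • c = c' ∧ g • d = d'

end Defs

section General

variable {G : Type u} [Group G]

/-- Orbit counting by an invariant, surjective classifier with transitive fibres. -/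
theorem card_orbits_eq_of_classifier {X : Type v} [MulAction G X] {k : ℕ} (c : X → Fin k)
    (hinv : ∀ (g : G) (x : X), c (g • x) = c x) (hsurj : Function.Surjective c)
    (htrans : ∀ x y : X, c x = c y → ∃ g : G, g • x = y) :
    Nat.card (orbitRel.Quotient G X) = k := by
  let f : orbitRel.Quotient G X → Fin k := Quotient.lift c (by
    rintro x y ⟨g, hg⟩
    rw [← hg]
    exact hinv g y)
  have hbij : Function.Bijective f := by
    constructor
    · intro p q
      induction p using Quotient.inductionOn' with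
      | _ x =>
      induction q using Quotient.inductionOn' with
      | _ y =>
      intro h
      have h' : c x = c y := h
      obtain ⟨g, hg⟩ := htrans y x h'.symm
      exact Quotient.sound' ⟨g, hg⟩
    · intro i
      obtain ⟨x, hx⟩ := hsurj i
      exact ⟨Quotient.mk'' x, hx⟩
  rw [Nat.card_eq_of_bijective f hbij, Nat.card_fin]

/-- `∑_g fix_X(g) fix_Y(g) = (number of orbits on X × Y) * |G|`. -/
theorem sum_fix_mul [Fintype G] (X : Type v) (Y : Type w) [MulAction G X] [MulAction G Y]
    [Finite X] [Finite Y] :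
    ∑ g : G, (Nat.card (fixedBy X g) : ℂ) * (Nat.card (fixedBy Y g) : ℂ) =
      (Nat.card (orbitRel.Quotient G (X × Y)) : ℂ) * (Nat.card G : ℂ) := by
  rw [← Cfsg.Agent.Helper24.sum_card_fixedBy_complex]
  refine Finset.sum_congr rfl fun g _ => ?_
  rw [Cfsg.Agent.Helper5.card_fixedBy_prod]
  push_cast
  rfl

/-- For a transitive action, `∑_g fix_X(g) = |G|`. -/
theorem sum_fix_of_pretransitive [Fintype G] (X : Type v) [MulAction G X] [Finite X]
    [IsPretransitive G X] [Nonempty X] :
    ∑ g : G, (Nat.card (fixedBy X g) : ℂ) = (Nat.card G : ℂ) := by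
  rw [Cfsg.Agent.Helper24.sum_card_fixedBy_complex]
  have hone : Nat.card (orbitRel.Quotient G X) = 1 := by
    rw [Nat.card_eq_one_iff_unique]
    exact ⟨(pretransitive_iff_subsingleton_quotient G X).mp inferInstance,
      (nonempty_quotient_iff _).mpr inferInstance⟩
  rw [hone]
  simp

end General

end Cfsg.Agent.Helper23.AV
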