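import Mathlib

set_option autoImplicit false

namespace Cfsg.Agent.Helper23

open MulAction Subgroup

open scoped IsMulCommutative in
/-- Transfer computation: if `G = H N` with `N` normal, `ϕ : H → A` kills squares of `H ∩ N`,
then `V(h)^2 = ϕ(h)^(2 [G:H])` for `h ∈ H`. -/
theorem transfer_sq_eq {G : Type*} [Group G] [Finite G] (N H : Subgroup G) [N.Normal]
    (hHN : H ⊔ N = ⊤) {A : Type*} [CommGroup A] (ϕ : H →* A)
    (hϕ : ∀ t : H, (t : G) ∈ N → ϕ t ^ 2 = 1) (h : H) :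
    (MonoidHom.transfer ϕ (h : G)) ^ 2 = (ϕ h ^ H.index) ^ 2 := by
  classical
  have : Fintype (Quotient (MulAction.orbitRel (zpowers (h : G)) (G ⧸ H))) := Fintype.ofFinite _
  -- local claim
  have key : ∀ (k : ℕ) (g : G) (hg : g⁻¹ * (h : G) ^ k * g ∈ H),
      (ϕ ⟨g⁻¹ * (h : G) ^ k * g, hg⟩) ^ 2 = (ϕ h ^ k) ^ 2 := by
    intro k g hg
    have hgtop : g ∈ ((N ⊔ H : Subgroup G) : Set G) := by
      rw [sup_comm, hHN]; trivial
    rw [Subgroup.normal_mul] at hgtop
    obtain ⟨n, hn, p', hp', hnp⟩ := hgtop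
    have hnp' : n * p' = g := hnp
    -- y = n⁻¹ h^k n ∈ H
    have hy : n⁻¹ * (h : G) ^ k * n ∈ H := by
      have e : n⁻¹ * (h : G) ^ k * n = p' * (g⁻¹ * (h : G) ^ k * g) * p'⁻¹ := by
        rw [← hnp']; group
      rw [e]; exact H.mul_mem (H.mul_mem hp' hg) (H.inv_mem hp')
    have e1 : (⟨g⁻¹ * (h : G) ^ k * g, hg⟩ : H) =
        (⟨p', hp'⟩ : H)⁻¹ * ⟨n⁻¹ * (h : G) ^ k * n, hy⟩ * ⟨p', hp'⟩ := by
      apply Subtype.ext
      simp only [Subgroup.coe_mul, Subgroup.coe_inv]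
      rw [← hnp']; group
    -- t = h^{-k} y ∈ H ∩ N
    have ht : ((h : G) ^ k)⁻¹ * (n⁻¹ * (h : G) ^ k * n) ∈ H :=
      H.mul_mem (H.inv_mem (H.pow_mem h.2 k)) hy
    have htN : ((h : G) ^ k)⁻¹ * (n⁻¹ * (h : G) ^ k * n) ∈ N := by
      have e : ((h : G) ^ k)⁻¹ * (n⁻¹ * (h : G) ^ k * n) =
          (((h : G) ^ k)⁻¹ * n⁻¹ * ((h : G) ^ k)⁻¹⁻¹) * n := by group
      rw [e]
      exact N.mul_mem ((inferInstance : N.Normal).conj_mem _ (N.inv_mem hn) _) hn
    have e2 : (⟨n⁻¹ * (h : G) ^ k * n, hy⟩ : H) =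
        h ^ k * ⟨((h : G) ^ k)⁻¹ * (n⁻¹ * (h : G) ^ k * n), ht⟩ := by
      apply Subtype.ext
      simp only [Subgroup.coe_mul, Subgroup.coe_pow]
      group
    rw [e1, map_mul, map_mul, map_inv, mul_comm ((ϕ ⟨p', hp'⟩)⁻¹), mul_assoc, inv_mul_cancel,
      mul_one, e2, map_mul, map_pow, mul_pow, hϕ _ htN, mul_one]
  rw [MonoidHom.transfer_eq_prod_quotient_orbitRel_zpowers_quot, index_eq_sum_minimalPeriod H (h : G),
    ← Finset.prod_pow_eq_pow_sum, ← Finset.prod_pow, ← Finset.prod_pow]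
  apply Finset.prod_congr rfl
  intro q _
  exact key _ _ _

/-- an element of `H` lying in `⁅H, H⁆` is killed by `Abelianization.of`. -/
theorem abelianization_of_eq_one {G : Type*} [Group G] (H : Subgroup G) (y : H)
    (hy : (y : G) ∈ ⁅H, H⁆) : (Abelianization.of y : Abelianization H) = 1 := by
  have : y ∈ commutator H := by
    have hd' : (y : G) ∈ (commutator H).map H.subtype := by
      rw [Subgroup.map_subtype_commutator]; exact hy
    obtain ⟨z, hz, hzy⟩ := hd'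
    have : z = y := Subtype.ext hzy
    rw [← this]; exact hz
  rw [← Abelianization.ker_of] at this
  exact this

theorem mem_commutator_of_abelianization_of_eq_one {G : Type*} [Group G] (H : Subgroup G) (y : H)
    (hy : (Abelianization.of y : Abelianization H) = 1) : (y : G) ∈ ⁅H, H⁆ := by
  have : y ∈ commutator H := by
    rw [← Abelianization.ker_of]; exact hy
  rw [← Subgroup.map_subtype_commutator]
  exact ⟨y, this, rfl⟩

/-- S4582 in the case `G = P N`. -/
theorem sq_mem_commutator_of_sup_eq_top {G : Type*} [Group G] [Finite G] (N : Subgroup G)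
    [N.Normal] (P : Sylow 2 G) (hPN : (P : Subgroup G) ⊔ N = ⊤)
    (hP : ∀ x ∈ (P : Subgroup G), x ^ 2 ∈ ((P : Subgroup G) ⊓ N) ⊔ ⁅(P : Subgroup G), (P : Subgroup G)⁆)
    (hQ : ∀ x ∈ (P : Subgroup G) ⊓ N, x ^ 2 ∈ ⁅(P : Subgroup G) ⊓ N, (P : Subgroup G) ⊓ N⁆)
    (hodd : Odd (Nat.card (Abelianization N))) :
    ∀ x ∈ (P : Subgroup G), x ^ 2 ∈ ⁅(P : Subgroup G), (P : Subgroup G)⁆ := by
  classical
  set H : Subgroup G := (P : Subgroup G) with hH
  let ϕ : H →* Abelianization H := Abelianization.of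
  let V : G →* Abelianization H := MonoidHom.transfer ϕ
  have hA2 : IsPGroup 2 (Abelianization H) := P.2.to_quotient (commutator H)
  -- Fact 1
  have hϕ : ∀ t : H, (t : G) ∈ N → ϕ t ^ 2 = 1 := by
    intro t ht
    rw [← map_pow]
    apply abelianization_of_eq_one
    have := hQ (t : G) ⟨t.2, ht⟩
    rw [Subgroup.coe_pow]
    exact Subgroup.commutator_mono inf_le_left inf_le_left this
  have hV2 : ∀ h : H, V (h : G) ^ 2 = (ϕ h ^ H.index) ^ 2 := fun h =>
    transfer_sq_eq N H hPN ϕ hϕ h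
  -- order of elements of A is a power of 2
  have h2pow : ∀ a : Abelianization H, ∀ m : ℕ, Odd m → a ^ m = 1 → a = 1 := by
    intro a m hm ham
    obtain ⟨j, hj⟩ := hA2 a
    have := pow_gcd_eq_one.mpr ⟨ham, hj⟩
    have hg : m.gcd (2 ^ j) = 1 := by
      apply Nat.Coprime.pow_right
      exact (Nat.coprime_comm.mp (Nat.coprime_two_left.mpr hm))
    rw [hg, pow_one] at this
    exact this
  -- Fact 4
  have hVN : ∀ n ∈ N, V n = 1 := by
    intro n hn
    let f : N →* Abelianization H := V.comp N.subtype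
    have hf : f ⟨n, hn⟩ = Abelianization.lift f (Abelianization.of ⟨n, hn⟩) :=
      (Abelianization.lift_apply_of f ⟨n, hn⟩).symm
    have h1 : (f ⟨n, hn⟩) ^ (Nat.card (Abelianization N)) = 1 := by
      rw [hf, ← map_pow, pow_card_eq_one', map_one]
    exact h2pow _ _ hodd h1
  -- Fact 5
  have hVc : ∀ c ∈ ⁅H, H⁆, V c = 1 := by
    intro c hc
    have : c ∈ commutator G := by
      rw [commutator_def]
      exact Subgroup.commutator_mono le_top le_top hc
    exact Abelianization.commutator_subset_ker V this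
  intro x hx
  have hx2 := hP x hx
  have hnorm : ((P : Subgroup G) ⊓ N) ≤ Subgroup.normalizer ((⁅H, H⁆ : Subgroup G) : Set G) := by
    intro y hy
    have : (⁅H, H⁆ : Subgroup G) ≤ H := Subgroup.commutator_le_self H
    have hyH : y ∈ H := hy.1
    rw [Subgroup.mem_normalizer_iff]
    intro z
    constructor
    · intro hz
      have h1 : (⟨z, this hz⟩ : H) ∈ commutator H := by
        have hd' : z ∈ (commutator H).map H.subtype := by
          rw [Subgroup.map_subtype_commutator]; exact hz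
        obtain ⟨w, hw, hwz⟩ := hd'
        have : w = ⟨z, this hz⟩ := Subtype.ext hwz
        rw [← this]; exact hw
      have h2 := (inferInstance : (commutator H).Normal).conj_mem _ h1 ⟨y, hyH⟩
      rw [← Subgroup.map_subtype_commutator]
      exact ⟨_, h2, rfl⟩
    · intro hz
      have hzH : y * z * y⁻¹ ∈ H := this hz
      have h1 : (⟨y * z * y⁻¹, hzH⟩ : H) ∈ commutator H := by
        have hd' : y * z * y⁻¹ ∈ (commutator H).map H.subtype := by
          rw [Subgroup.map_subtype_commutator]; exact hz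
        obtain ⟨w, hw, hwz⟩ := hd'
        have : w = ⟨y * z * y⁻¹, hzH⟩ := Subtype.ext hwz
        rw [← this]; exact hw
      have h2 := (inferInstance : (commutator H).Normal).conj_mem _ h1 (⟨y, hyH⟩⁻¹)
      rw [← Subgroup.map_subtype_commutator]
      refine ⟨_, h2, ?_⟩
      simp only [Subgroup.subtype_apply, Subgroup.coe_mul, Subgroup.coe_inv, inv_inv]
      group
  have hx3 : x ^ 2 ∈ ((((P : Subgroup G) ⊓ N) ⊔ ⁅H, H⁆ : Subgroup G) : Set G) := hx2
  rw [Subgroup.coe_mul_of_left_le_normalizer_right _ _ hnorm] at hx3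
  obtain ⟨q, hq, c, hc, hqc⟩ := hx3
  have hqc' : q * c = x ^ 2 := hqc
  have hVx2 : V (x ^ 2) = 1 := by
    rw [← hqc', map_mul, hVN q hq.2, hVc c hc, one_mul]
  have h3 := hV2 ⟨x, hx⟩
  rw [← map_pow, hVx2] at h3
  -- (ϕ x ^ index)^2 = 1
  have h4 : (ϕ ⟨x, hx⟩ ^ 2) ^ H.index = 1 := by
    rw [← pow_mul, mul_comm, pow_mul]; exact h3.symm
  have hidx : Odd H.index := by
    have := P.not_dvd_index
    exact Nat.odd_iff.mpr (Nat.two_dvd_ne_zero.mp this)
  have h5 := h2pow _ _ hidx h4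
  rw [← map_pow] at h5
  have := mem_commutator_of_abelianization_of_eq_one H _ h5
  simpa using this

theorem commutator_subgroupOf {G : Type*} [Group G] {A K : Subgroup G} (hA : A ≤ K) :
    ⁅A.subgroupOf K, A.subgroupOf K⁆ = (⁅A, A⁆ : Subgroup G).subgroupOf K := by
  apply Subgroup.map_injective K.subtype_injective
  rw [Subgroup.map_commutator, Subgroup.subgroupOf_map_subtype, Subgroup.subgroupOf_map_subtype,
    inf_eq_left.mpr hA, inf_eq_left.mpr ((Subgroup.commutator_le_self A).trans hA)]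

/-- S4582. -/
theorem sq_mem_commutator_sylow_two {G : Type*} [Group G] [Finite G] (N : Subgroup G)
    [N.Normal] (P : Sylow 2 G)
    (hP : ∀ x ∈ (P : Subgroup G), x ^ 2 ∈ ((P : Subgroup G) ⊓ N) ⊔ ⁅(P : Subgroup G), (P : Subgroup G)⁆)
    (hQ : ∀ x ∈ (P : Subgroup G) ⊓ N, x ^ 2 ∈ ⁅(P : Subgroup G) ⊓ N, (P : Subgroup G) ⊓ N⁆)
    (hodd : Odd (Nat.card (Abelianization N))) :
    ∀ x ∈ (P : Subgroup G), x ^ 2 ∈ ⁅(P : Subgroup G), (P : Subgroup G)⁆ := by
  set K : Subgroup G := (P : Subgroup G) ⊔ N with hK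
  have hPK : (P : Subgroup G) ≤ K := le_sup_left
  have hNK : N ≤ K := le_sup_right
  let N₀ : Subgroup K := N.subgroupOf K
  have hN₀ : N₀.Normal := Subgroup.normal_subgroupOf
  let P₀ : Sylow 2 K := P.subtype hPK
  have hP₀coe : (P₀ : Subgroup K) = (P : Subgroup G).subgroupOf K := rfl
  have hsup : (P₀ : Subgroup K) ⊔ N₀ = ⊤ := by
    rw [hP₀coe, ← Subgroup.subgroupOf_sup hPK hNK, Subgroup.subgroupOf_self]
  have hinf : (P₀ : Subgroup K) ⊓ N₀ = ((P : Subgroup G) ⊓ N).subgroupOf K := by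
    rw [hP₀coe]; simp only [N₀, Subgroup.subgroupOf, Subgroup.comap_inf]
  have hcomm : ⁅(P₀ : Subgroup K), (P₀ : Subgroup K)⁆ =
      (⁅(P : Subgroup G), (P : Subgroup G)⁆ : Subgroup G).subgroupOf K := by
    rw [hP₀coe]; exact commutator_subgroupOf hPK
  have hcommQ : ⁅(P₀ : Subgroup K) ⊓ N₀, (P₀ : Subgroup K) ⊓ N₀⁆ =
      (⁅(P : Subgroup G) ⊓ N, (P : Subgroup G) ⊓ N⁆ : Subgroup G).subgroupOf K := by
    rw [hinf]; exact commutator_subgroupOf (inf_le_left.trans hPK)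
  have h1 : ∀ x ∈ (P₀ : Subgroup K), x ^ 2 ∈ ((P₀ : Subgroup K) ⊓ N₀) ⊔
      ⁅(P₀ : Subgroup K), (P₀ : Subgroup K)⁆ := by
    intro x hx
    rw [hinf, hcomm, ← Subgroup.subgroupOf_sup (inf_le_left.trans hPK)
      ((Subgroup.commutator_le_self _).trans hPK), Subgroup.mem_subgroupOf, Subgroup.coe_pow]
    exact hP (x : G) hx
  have h2 : ∀ x ∈ (P₀ : Subgroup K) ⊓ N₀, x ^ 2 ∈
      ⁅(P₀ : Subgroup K) ⊓ N₀, (P₀ : Subgroup K) ⊓ N₀⁆ := by
    intro x hx
    rw [hcommQ, Subgroup.mem_subgroupOf, Subgroup.coe_pow]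
    rw [hinf, Subgroup.mem_subgroupOf] at hx
    exact hQ (x : G) hx
  have h3 : Odd (Nat.card (Abelianization N₀)) := by
    have e : Abelianization N₀ ≃* Abelianization N :=
      (Subgroup.subgroupOfEquivOfLe hNK).abelianizationCongr
    rw [Nat.card_congr e.toEquiv]; exact hodd
  have key := sq_mem_commutator_of_sup_eq_top N₀ P₀ hsup h1 h2 h3
  intro x hx
  have := key ⟨x, hPK hx⟩ hx
  rw [hcomm, Subgroup.mem_subgroupOf, Subgroup.coe_pow] at this
  exact this

end Cfsg.Agent.Helper23
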