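import Mathlib
import Cfsg.Agent.Helper8.MatBNDefs

set_option autoImplicit false
open scoped Matrix

/-! S2546 piece MONALG (driver helper8; helper23): algebra of monomial / triangular matrices. -/

namespace Cfsg.Agent.MatBN

variable {K : Type*} [Field K] {n : ℕ}

namespace MONALG

theorem inv_apply_self' (π : Equiv.Perm (Fin n)) (a : Fin n) : π⁻¹ (π a) = a :=
  π.symm_apply_apply a

theorem apply_inv_self' (π : Equiv.Perm (Fin n)) (a : Fin n) : π (π⁻¹ a) = a :=
  π.apply_symm_apply a

/-- left multiplication by a monomial matrix -/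
theorem mul_apply_left {M : Matrix (Fin n) (Fin n) K} {π : Equiv.Perm (Fin n)} (hM : Mon M π)
    (A : Matrix (Fin n) (Fin n) K) (a c : Fin n) :
    (M * A) a c = M a (π⁻¹ a) * A (π⁻¹ a) c := by
  rw [Matrix.mul_apply]
  apply Finset.sum_eq_single
  · intro k _ hk
    have : M a k = 0 := by
      by_contra h0
      apply hk
      have := (hM a k).mp h0
      rw [this, inv_apply_self']
    rw [this, zero_mul]
  · intro h
    exact absurd (Finset.mem_univ _) h

/-- right multiplication by a monomial matrix -/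
theorem mul_apply_right {N : Matrix (Fin n) (Fin n) K} {ρ : Equiv.Perm (Fin n)} (hN : Mon N ρ)
    (A : Matrix (Fin n) (Fin n) K) (a c : Fin n) :
    (A * N) a c = A a (ρ c) * N (ρ c) c := by
  rw [Matrix.mul_apply]
  apply Finset.sum_eq_single
  · intro k _ hk
    have : N k c = 0 := by
      by_contra h0
      exact hk ((hN k c).mp h0)
    rw [this, mul_zero]
  · intro h
    exact absurd (Finset.mem_univ _) h

theorem apply_ne_zero {M : Matrix (Fin n) (Fin n) K} {π : Equiv.Perm (Fin n)} (hM : Mon M π)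
    (c : Fin n) : M (π c) c ≠ 0 := (hM (π c) c).mpr rfl

theorem apply_ne_zero' {M : Matrix (Fin n) (Fin n) K} {π : Equiv.Perm (Fin n)} (hM : Mon M π)
    (a : Fin n) : M a (π⁻¹ a) ≠ 0 := (hM a (π⁻¹ a)).mpr (by rw [apply_inv_self'])

end MONALG

open MONALG

theorem Mon.one : Mon (1 : Matrix (Fin n) (Fin n) K) 1 := by
  intro a c
  rw [Equiv.Perm.one_apply]
  constructor
  · intro h
    by_contra hne
    exact h (Matrix.one_apply_ne hne)
  · intro h
    rw [h, Matrix.one_apply_eq]
    exact one_ne_zero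

theorem Mon.mul {M N : Matrix (Fin n) (Fin n) K} {π ρ : Equiv.Perm (Fin n)} (hM : Mon M π)
    (hN : Mon N ρ) : Mon (M * N) (π * ρ) := by
  intro a c
  rw [mul_apply_right hN, Equiv.Perm.mul_apply]
  constructor
  · intro h
    exact (hM a (ρ c)).mp (left_ne_zero_of_mul h)
  · intro h
    exact mul_ne_zero ((hM a (ρ c)).mpr h) (apply_ne_zero hN c)

theorem Mon.of_mul_eq_one {M N : Matrix (Fin n) (Fin n) K} {π : Equiv.Perm (Fin n)} (hM : Mon M π)
    (h : M * N = 1) : Mon N π⁻¹ := by
  intro a c
  have h1 : (M * N) (π a) c = M (π a) a * N a c := by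
    rw [mul_apply_left hM, inv_apply_self']
  rw [h] at h1
  constructor
  · intro hne
    have h2 : (1 : Matrix (Fin n) (Fin n) K) (π a) c ≠ 0 := by
      rw [h1]
      exact mul_ne_zero (apply_ne_zero hM a) hne
    have h3 : π a = c := by
      by_contra hh
      exact h2 (Matrix.one_apply_ne hh)
    rw [← h3, inv_apply_self']
  · intro ha
    have h3 : π a = c := by rw [ha, apply_inv_self']
    rw [h3, Matrix.one_apply_eq] at h1
    intro h0
    rw [h0, mul_zero] at h1
    exact one_ne_zero h1

theorem Mon.unique {M : Matrix (Fin n) (Fin n) K} {π ρ : Equiv.Perm (Fin n)} (h1 : Mon M π)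
    (h2 : Mon M ρ) : π = ρ := by
  apply Equiv.ext
  intro c
  exact (h2 (π c) c).mp (apply_ne_zero h1 c)

theorem Mon.isDg {M : Matrix (Fin n) (Fin n) K} (h : Mon M 1) : IsDg M := by
  intro a c hac
  by_contra h0
  exact hac ((h a c).mp h0)

theorem IsDg.mon {M N : Matrix (Fin n) (Fin n) K} (hM : IsDg M) (h : M * N = 1) : Mon M 1 := by
  intro a c
  rw [Equiv.Perm.one_apply]
  constructor
  · intro h0
    by_contra hac
    exact h0 (hM a c hac)
  · intro hac
    subst hac
    have h1 : (M * N) a a = M a a * N a a := by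
      rw [Matrix.mul_apply]
      apply Finset.sum_eq_single
      · intro k _ hk
        rw [hM a k (Ne.symm hk), zero_mul]
      · intro hh
        exact absurd (Finset.mem_univ _) hh
    rw [h, Matrix.one_apply_eq] at h1
    intro h0
    rw [h0, zero_mul] at h1
    exact one_ne_zero h1

theorem Mon.eq_one_of_isTri {M : Matrix (Fin n) (Fin n) K} {π : Equiv.Perm (Fin n)} (h : Mon M π)
    (hT : IsTri M) : π = 1 := by
  have hle : ∀ c : Fin n, π c ≤ c := by
    intro c
    by_contra hlt
    rw [not_le] at hlt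
    exact apply_ne_zero h c (hT (π c) c hlt)
  have key : ∀ k : ℕ, ∀ c : Fin n, (c : ℕ) = k → π c = c := by
    intro k
    induction k using Nat.strong_induction_on with
    | _ k ih =>
      intro c hc
      by_contra hne
      have hlt : π c < c := lt_of_le_of_ne (hle c) hne
      have h1 : π (π c) = π c := ih (π c : ℕ) (by rw [← hc]; exact hlt) (π c) rfl
      exact hne (π.injective h1)
  apply Equiv.ext
  intro c
  rw [Equiv.Perm.one_apply]
  exact key c c rfl

/-- entries of a conjugate `M * A * N` (`N = M⁻¹`) by a monomial matrix: nonvanishing -/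
theorem Mon.conj_apply_ne_zero_iff {M N A : Matrix (Fin n) (Fin n) K} {π : Equiv.Perm (Fin n)}
    (hM : Mon M π) (h : M * N = 1) (a c : Fin n) :
    (M * A * N) a c ≠ 0 ↔ A (π⁻¹ a) (π⁻¹ c) ≠ 0 := by
  have hN := Mon.of_mul_eq_one hM h
  rw [mul_apply_right hN, mul_apply_left hM]
  constructor
  · intro h0
    exact right_ne_zero_of_mul (left_ne_zero_of_mul h0)
  · intro h0
    exact mul_ne_zero (mul_ne_zero (apply_ne_zero' hM a) h0) (apply_ne_zero hN c)

/-- diagonal entries of a conjugate by a monomial matrix -/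
theorem Mon.conj_apply_diag {M N A : Matrix (Fin n) (Fin n) K} {π : Equiv.Perm (Fin n)}
    (hM : Mon M π) (h : M * N = 1) (a : Fin n) : (M * A * N) a a = A (π⁻¹ a) (π⁻¹ a) := by
  have hN := Mon.of_mul_eq_one hM h
  have h1 : (M * N) a a = M a (π⁻¹ a) * N (π⁻¹ a) a := mul_apply_left hM N a a
  rw [h, Matrix.one_apply_eq] at h1
  rw [mul_apply_right hN, mul_apply_left hM]
  calc M a (π⁻¹ a) * A (π⁻¹ a) (π⁻¹ a) * N (π⁻¹ a) a
      = A (π⁻¹ a) (π⁻¹ a) * (M a (π⁻¹ a) * N (π⁻¹ a) a) := by ring
    _ = A (π⁻¹ a) (π⁻¹ a) := by rw [← h1, mul_one]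

/-- upper unitriangular and lower unitriangular forces the identity -/
theorem eq_one_of_isTri_of_isLow {M : Matrix (Fin n) (Fin n) K} (h1 : IsTri M) (h2 : IsLow M) :
    M = 1 := by
  ext a c
  rcases lt_trichotomy a c with hac | hac | hac
  · rw [h2.1 a c hac, Matrix.one_apply_ne hac.ne]
  · subst hac
    rw [h2.2 a, Matrix.one_apply_eq]
  · rw [h1 a c hac, Matrix.one_apply_ne hac.ne']

end Cfsg.Agent.MatBN
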