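import Mathlib
import Cfsg.Agent.Helper8.MatBNDefs
import Cfsg.Agent.Helper23.S2546MONALG

set_option autoImplicit false
open scoped Matrix

/-! S2546 piece BNAXA (driver helper8; helper23): the groups `B`, `N`, `T` of a `Data`. -/

namespace Cfsg.Agent.MatBN

variable {K : Type*} [Field K] {n : ℕ}

section DataSec

variable {G : Type*} [Group G] {m : ℕ} (D : Data G K n m)

namespace BNAXA

/-- the subgroup of the elements with monomial matrix -/
def monSub : Subgroup G where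
  carrier := {g | ∃ π : Equiv.Perm (Fin n), Mon (D.ρ g) π}
  mul_mem' := by
    rintro a b ⟨π, hπ⟩ ⟨ρ', hρ⟩
    refine ⟨π * ρ', ?_⟩
    rw [map_mul]
    exact Mon.mul hπ hρ
  one_mem' := by
    refine ⟨1, ?_⟩
    rw [map_one]
    exact Mon.one
  inv_mem' := by
    rintro a ⟨π, hπ⟩
    exact ⟨π⁻¹, Mon.of_mul_eq_one hπ (D.ρ_mul_inv a)⟩

theorem torus_le_monSub : D.torus ≤ monSub D := by
  intro t ht
  exact ⟨1, IsDg.mon ht (D.ρ_mul_inv t)⟩

theorem Nsub_le_monSub : D.Nsub ≤ monSub D := by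
  unfold Data.Nsub
  apply sup_le
  · rw [Subgroup.closure_le]
    rintro _ ⟨j, rfl⟩
    exact ⟨D.τ j, D.mon_s j⟩
  · exact torus_le_monSub D

end BNAXA

open BNAXA

theorem Data.exists_mon_of_mem_Nsub {g : G} (hg : g ∈ D.Nsub) :
    ∃ π : Equiv.Perm (Fin n), Mon (D.ρ g) π :=
  Nsub_le_monSub D hg

theorem Data.torus_le_borel : D.torus ≤ D.borel := by
  intro t ht a c hca
  exact ht a c hca.ne'

theorem Data.borel_inf_Nsub : D.borel ⊓ D.Nsub = D.torus := by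
  apply le_antisymm
  · rintro g ⟨hb, hn⟩
    obtain ⟨π, hπ⟩ := D.exists_mon_of_mem_Nsub hn
    have h1 : π = 1 := Mon.eq_one_of_isTri hπ hb
    rw [h1] at hπ
    exact Mon.isDg hπ
  · apply le_inf (D.torus_le_borel)
    unfold Data.Nsub
    exact le_sup_right

theorem Data.conj_torus_mem {g t : G} (hg : g ∈ D.Nsub) (ht : t ∈ D.torus) :
    g * t * g⁻¹ ∈ D.torus := by
  obtain ⟨π, hπ⟩ := D.exists_mon_of_mem_Nsub hg
  show IsDg (D.ρ (g * t * g⁻¹))
  rw [map_mul, map_mul]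
  intro a c hac
  by_contra h0
  have h1 := (Mon.conj_apply_ne_zero_iff (A := D.ρ t) hπ (D.ρ_mul_inv g) a c).mp h0
  apply h1
  apply ht
  intro h
  exact hac (π⁻¹.injective h)

theorem Data.sq_mem (j : Fin m) : D.s j * D.s j ∈ D.torus := by
  show IsDg (D.ρ (D.s j * D.s j))
  rw [map_mul]
  have h := Mon.mul (D.mon_s j) (D.mon_s j)
  rw [D.τ_sq j] at h
  exact Mon.isDg h

theorem Data.s_inj {j j' : Fin m} (h : (D.s j)⁻¹ * D.s j' ∈ D.borel) : j = j' := by
  have h1 : Mon (D.ρ ((D.s j)⁻¹ * D.s j')) ((D.τ j)⁻¹ * D.τ j') := by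
    rw [map_mul]
    exact Mon.mul (Mon.of_mul_eq_one (D.mon_s j) (D.ρ_mul_inv _)) (D.mon_s j')
  have h2 : (D.τ j)⁻¹ * D.τ j' = 1 := Mon.eq_one_of_isTri h1 h
  apply D.τ_inj
  rw [inv_mul_eq_one] at h2
  exact h2

end DataSec

end Cfsg.Agent.MatBN
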