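import Mathlib
import Cfsg.Agent.Helper8.MatBNDefs
import Cfsg.Agent.Helper23.S2546MONALG

set_option autoImplicit false
open scoped Matrix

/-! S2546 piece OPP (driver helper8; helper23): the longest element and the descents of a `Data`. -/

namespace Cfsg.Agent.MatBN

variable {K : Type*} [Field K] {n : ℕ}

namespace OPP

theorem revPerm_inv : (Fin.revPerm : Equiv.Perm (Fin n))⁻¹ = Fin.revPerm := by
  apply Equiv.ext
  intro a
  rw [Equiv.Perm.inv_eq_iff_eq, Fin.revPerm_apply, Fin.revPerm_apply, Fin.rev_rev]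

/-- the zero pattern of the inverse of a lower triangular matrix -/
theorem low_of_mul_eq_one {M N : Matrix (Fin n) (Fin n) K} (hM : ∀ a c : Fin n, a < c → M a c = 0)
    (h : N * M = 1) : ∀ a c : Fin n, a < c → N a c = 0 := by
  have h3 : IsTri M.transpose := fun i k hki => by
    rw [Matrix.transpose_apply]
    exact hM k i hki
  have h4 : M.transpose * N.transpose = 1 := by
    rw [← Matrix.transpose_mul, h, Matrix.transpose_one]
  have h5 : IsTri N.transpose := IsTri.of_mul_eq_one h3 h4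
  intro a c hac
  have := h5 c a hac
  rwa [Matrix.transpose_apply] at this

end OPP

open OPP MONALG

section DataSec

variable {G : Type*} [Group G] {m : ℕ} (D : Data G K n m)

theorem Data.n₀_mem_Nsub : D.n₀ ∈ D.Nsub := by
  unfold Data.Nsub Data.Sset
  exact (le_sup_left : Subgroup.closure (Set.range D.s) ≤ _) D.n₀_mem

theorem Data.n₀_opp {x : G} (hx : x ∈ D.uni) (h : D.n₀⁻¹ * x * D.n₀ ∈ D.borel) : x = 1 := by
  have hN : Mon (D.ρ D.n₀⁻¹) (Fin.revPerm : Equiv.Perm (Fin n))⁻¹ :=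
    Mon.of_mul_eq_one D.mon_n₀ (D.ρ_mul_inv _)
  have hNM : D.ρ D.n₀⁻¹ * D.ρ D.n₀ = 1 := by
    rw [← map_mul, inv_mul_cancel, map_one]
  have hT : IsTri (D.ρ D.n₀⁻¹ * D.ρ x * D.ρ D.n₀) := by
    have := h
    rw [Data.mem_borel, map_mul, map_mul] at this
    exact this
  have hlow : IsLow (D.ρ x) := by
    refine ⟨fun a c hac => ?_, hx.2⟩
    by_contra h0
    have h1 : (D.ρ D.n₀⁻¹ * D.ρ x * D.ρ D.n₀) a.rev c.rev ≠ 0 := by
      rw [Mon.conj_apply_ne_zero_iff hN hNM, inv_inv, Fin.revPerm_apply, Fin.revPerm_apply,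
        Fin.rev_rev, Fin.rev_rev]
      exact h0
    exact h1 (hT a.rev c.rev (Fin.rev_lt_rev.mpr hac))
  apply D.ρ_inj
  rw [map_one]
  exact eq_one_of_isTri_of_isLow hx.1 hlow

theorem Data.n₀_desc (j : Fin m) :
    ∃ x ∈ D.borel, ∃ b₁ ∈ D.borel, ∃ y : G, D.s j * x = b₁ * y ∧ D.n₀ * y⁻¹ * D.n₀⁻¹ ∈ D.borel := by
  obtain ⟨x, hxX, hx1⟩ := D.X_ne j
  obtain ⟨b₁, hb₁, x', hx'X, hxx'⟩ := D.hd j x hxX hx1
  refine ⟨x, (D.X_uni j x hxX).1, b₁, hb₁, D.s j * x' * (D.s j)⁻¹, hxx', ?_⟩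
  set y : G := D.s j * x' * (D.s j)⁻¹ with hy
  have hlow : IsLow (D.ρ y) := D.Y_low j x' hx'X
  have hyi : ∀ a c : Fin n, a < c → D.ρ y⁻¹ a c = 0 :=
    low_of_mul_eq_one hlow.1 (by rw [← map_mul, inv_mul_cancel, map_one])
  rw [Data.mem_borel, map_mul, map_mul]
  intro a c hca
  by_contra h0
  have h1 := (Mon.conj_apply_ne_zero_iff (A := D.ρ y⁻¹) D.mon_n₀ (D.ρ_mul_inv _) a c).mp h0
  apply h1
  rw [revPerm_inv, Fin.revPerm_apply, Fin.revPerm_apply]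
  exact hyi a.rev c.rev (Fin.rev_lt_rev.mpr hca)

theorem Data.exists_conj_not_mem (j : Fin m) :
    ∃ x ∈ D.uni, D.s j * x * (D.s j)⁻¹ ∉ D.borel := by
  obtain ⟨x, hxX, hx1⟩ := D.X_ne j
  refine ⟨x, D.X_uni j x hxX, ?_⟩
  intro hb
  have hlow : IsLow (D.ρ (D.s j * x * (D.s j)⁻¹)) := D.Y_low j x hxX
  have h1 : D.ρ (D.s j * x * (D.s j)⁻¹) = 1 := eq_one_of_isTri_of_isLow hb hlow
  have h2 : D.s j * x * (D.s j)⁻¹ = 1 := by
    apply D.ρ_inj
    rw [h1, map_one]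
  apply hx1
  have h3 : x = (D.s j)⁻¹ * (D.s j * x * (D.s j)⁻¹) * D.s j := by group
  rw [h3, h2, mul_one, inv_mul_cancel]

end DataSec

end Cfsg.Agent.MatBN
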