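import Mathlib
import Cfsg.Agent.Helper8.MatBNDefs
import Cfsg.Agent.Helper23.S2546MONALG

set_option autoImplicit false
open scoped Matrix

/-! S2546 piece SPLIT (driver helper8; helper23): `B = U ⋊ T` for a `Data`. -/

namespace Cfsg.Agent.MatBN

variable {K : Type*} [Field K] {n : ℕ}

namespace SPLIT

/-- the diagonal of a product of triangular matrices -/
theorem mul_apply_diag {M N : Matrix (Fin n) (Fin n) K} (hM : IsTri M) (hN : IsTri N) (a : Fin n) :
    (M * N) a a = M a a * N a a := by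
  rw [Matrix.mul_apply]
  apply Finset.sum_eq_single
  · intro j _ hja
    rcases lt_or_gt_of_ne hja with h | h
    · rw [hM a j h, zero_mul]
    · rw [hN j a h, mul_zero]
  · intro h
    exact absurd (Finset.mem_univ a) h

theorem isDg_diagonal (d : Fin n → K) : IsDg (Matrix.diagonal d) := by
  intro a c hac
  exact Matrix.diagonal_apply_ne d hac

end SPLIT

open SPLIT

section DataSec

variable {G : Type*} [Group G] {m : ℕ} (D : Data G K n m)

theorem Data.uni_le_borel : D.uni ≤ D.borel := by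
  intro u hu
  exact hu.1

theorem Data.conj_uni_mem {b u : G} (hb : b ∈ D.borel) (hu : u ∈ D.uni) : b * u * b⁻¹ ∈ D.uni := by
  have hbi : b⁻¹ ∈ D.borel := D.borel.inv_mem hb
  have hbu : b * u ∈ D.borel := D.borel.mul_mem hb (D.uni_le_borel hu)
  refine ⟨D.borel.mul_mem hbu hbi, fun a => ?_⟩
  have h1 : IsTri (D.ρ (b * u)) := hbu
  rw [map_mul, mul_apply_diag h1 hbi, map_mul, mul_apply_diag hb hu.1, hu.2, mul_one,
    ← mul_apply_diag hb hbi, D.ρ_mul_inv, Matrix.one_apply_eq]

theorem Data.borel_eq_mul {b : G} (hb : b ∈ D.borel) : ∃ u ∈ D.uni, ∃ h ∈ D.torus, b = u * h := by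
  obtain ⟨t, ht⟩ := D.diag b hb
  have htT : t ∈ D.torus := by
    show IsDg (D.ρ t)
    rw [ht]
    exact isDg_diagonal _
  have htB : t ∈ D.borel := by
    intro a c hca
    exact htT a c hca.ne'
  have htiB : t⁻¹ ∈ D.borel := D.borel.inv_mem htB
  refine ⟨b * t⁻¹, ⟨D.borel.mul_mem hb htiB, fun a => ?_⟩, t, htT, ?_⟩
  · have h1 : D.ρ t a a * D.ρ t⁻¹ a a = 1 := by
      rw [← mul_apply_diag htB htiB, D.ρ_mul_inv, Matrix.one_apply_eq]
    rw [map_mul, mul_apply_diag hb htiB]
    rw [ht, Matrix.diagonal_apply_eq] at h1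
    exact h1
  · rw [inv_mul_cancel_right]

theorem Data.uni_inf_torus : D.uni ⊓ D.torus = ⊥ := by
  rw [eq_bot_iff]
  rintro g ⟨hu, ht⟩
  rw [Subgroup.mem_bot]
  apply D.ρ_inj
  rw [map_one]
  ext a c
  by_cases hac : a = c
  · subst hac
    rw [hu.2, Matrix.one_apply_eq]
  · rw [ht a c hac, Matrix.one_apply_ne hac]

end DataSec

end Cfsg.Agent.MatBN
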