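import Mathlib
import Cfsg.Agent.Helper8.MatBNDefs
import Cfsg.Agent.Helper23.S2546MONALG
import Cfsg.Agent.Helper23.S2546BNAXA
import Cfsg.Agent.Helper23.S2546SPLIT
import Cfsg.Agent.Helper23.S2546OPP

set_option autoImplicit false
open scoped Matrix

/-! S2546 piece BNAXB (driver helper8; helper23): the double coset axiom and `s B s ≠ B`. -/

namespace Cfsg.Agent.MatBN

variable {K : Type*} [Field K] {n : ℕ}

namespace BNAXB

/-- the double coset axiom `s B n ⊆ B s n B ∪ B n B` from a root subgroup `X ⊆ B` for `s`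
(same proof as `Helper12.SpBN.mul_mem_union_of_root`, restated here to keep the imports light) -/
theorem mul_mem_union_of_root' {G : Type*} [Group G] (B N : Subgroup G) (s : G) (X : Set G)
    (ha : ∀ b ∈ B, ∃ x ∈ X, s * (b * x⁻¹) * s⁻¹ ∈ B)
    (hd : ∀ x ∈ X, x ≠ 1 → ∃ b₁ ∈ B, ∃ x' ∈ X, s * x = b₁ * (s * x' * s⁻¹))
    (he : ∀ n ∈ N, (∀ x ∈ X, n⁻¹ * x * n ∈ B) ∨ (∀ x ∈ X, n⁻¹ * (s * x * s⁻¹) * n ∈ B))
    (n : G) (hn : n ∈ N) (b : G) (hb : b ∈ B) :
    s * b * n ∈ DoubleCoset.doubleCoset (s * n) (B : Set G) B ∪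
      DoubleCoset.doubleCoset n (B : Set G) B := by
  obtain ⟨x, hx, hc⟩ := ha b hb
  rcases he n hn with h | h
  · left
    rw [DoubleCoset.mem_doubleCoset]
    refine ⟨_, hc, _, h x hx, ?_⟩
    group
  · by_cases hx1 : x = 1
    · left
      rw [DoubleCoset.mem_doubleCoset]
      refine ⟨_, hc, 1, B.one_mem, ?_⟩
      rw [hx1]
      group
    · right
      obtain ⟨b₁, hb₁, x', hx', e⟩ := hd x hx hx1
      rw [DoubleCoset.mem_doubleCoset]
      refine ⟨_, B.mul_mem hc hb₁, _, h x' hx', ?_⟩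
      have e2 : s * b * n = s * (b * x⁻¹) * s⁻¹ * (s * x) * n := by group
      rw [e2, e]
      group

end BNAXB

open BNAXB

section DataSec

variable {G : Type*} [Group G] {m : ℕ} (D : Data G K n m)

theorem Data.mul_mem_union (j : Fin m) {g b : G} (hg : g ∈ D.Nsub) (hb : b ∈ D.borel) :
    D.s j * b * g ∈ DoubleCoset.doubleCoset (D.s j * g) (D.borel : Set G) D.borel ∪
      DoubleCoset.doubleCoset g (D.borel : Set G) D.borel := by
  apply mul_mem_union_of_root' D.borel D.Nsub (D.s j) (D.X j) _ _ _ g hg b hb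
  · intro b hb
    exact D.ha j b hb
  · intro x hx hx1
    obtain ⟨b₁, hb₁, x', hx', e⟩ := D.hd j x hx hx1
    exact ⟨b₁, hb₁, x', hx', e⟩
  · intro g hg
    obtain ⟨π, hπ⟩ := D.exists_mon_of_mem_Nsub hg
    exact D.he j g π hπ

theorem Data.conj_ne (j : Fin m) :
    (fun b : G => D.s j * b * D.s j) '' (D.borel : Set G) ≠ (D.borel : Set G) := by
  intro h
  have hss : D.s j * D.s j ∈ D.borel := D.torus_le_borel (D.sq_mem j)
  have key : ∀ x ∈ D.borel, D.s j * x * (D.s j)⁻¹ ∈ D.borel := by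
    intro x hx
    have h1 : D.s j * x * D.s j ∈ (D.borel : Set G) := by
      rw [← h]
      exact ⟨x, hx, rfl⟩
    have h2 := Subgroup.mul_mem _ h1 (Subgroup.inv_mem _ hss)
    have e : D.s j * x * D.s j * (D.s j * D.s j)⁻¹ = D.s j * x * (D.s j)⁻¹ := by group
    rwa [e] at h2
  obtain ⟨x, hx, hnot⟩ := D.exists_conj_not_mem j
  exact hnot (key x (D.uni_le_borel hx))

end DataSec

end Cfsg.Agent.MatBN
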