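import Mathlib
import Cfsg.Prelude.Def_LieExceptional
import Cfsg.Agent.Helper8.MatBNDefs
import Cfsg.Agent.Helper23.S2546MONALG
import Cfsg.Agent.Helper23.S2546BNAXA
import Cfsg.Agent.Helper23.S2546BNAXB

set_option autoImplicit false
open scoped Matrix

/-! S2546 piece BNAXC (driver helper8; helper23): the (B,N)-pair of a `Data`. -/

namespace Cfsg.Agent.MatBN

variable {K : Type*} [Field K] {n : ℕ}

section DataSec

variable {G : Type*} [Group G] {m : ℕ} (D : Data G K n m)

theorem Data.exists_bnPair :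
    ∃ P : Cfsg.BNPair G, P.B = D.borel ∧ P.N = D.Nsub ∧ P.S = D.Sset := by
  have hSN : D.Sset ⊆ (D.Nsub : Set G) := by
    intro s hs
    unfold Data.Nsub
    exact (le_sup_left : Subgroup.closure D.Sset ≤ _) (Subgroup.subset_closure hs)
  refine ⟨{
    B := D.borel
    N := D.Nsub
    S := D.Sset
    sup_eq_top := ?_
    conj_mem := ?_
    subset := hSN
    sq_mem := ?_
    inj := ?_
    closure_sup := ?_
    mul_mem_union := ?_
    conj_ne := ?_ }, rfl, rfl, rfl⟩
  · rw [eq_top_iff]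
    intro g _
    have hg := D.gen g
    have hle : Subgroup.closure ({b : G | IsTri (D.ρ b)} ∪ Set.range D.s) ≤ D.borel ⊔ D.Nsub := by
      rw [Subgroup.closure_le]
      rintro x (hx | hx)
      · exact (le_sup_left : D.borel ≤ _) hx
      · exact (le_sup_right : D.Nsub ≤ D.borel ⊔ D.Nsub) (hSN hx)
    exact hle hg
  · intro g hg t ht
    rw [D.borel_inf_Nsub] at ht
    exact D.torus_le_borel (D.conj_torus_mem hg ht)
  · rintro _ ⟨j, rfl⟩
    exact D.torus_le_borel (D.sq_mem j)
  · rintro _ ⟨j, rfl⟩ _ ⟨j', rfl⟩ h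
    rw [D.s_inj h]
  · rw [D.borel_inf_Nsub]
    rfl
  · rintro _ ⟨j, rfl⟩ g hg b hb
    exact D.mul_mem_union j hg hb
  · rintro _ ⟨j, rfl⟩
    exact D.conj_ne j

end DataSec

end Cfsg.Agent.MatBN
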