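import Mathlib
import Cfsg.Agent.Helper1.PGroup

/-!
Piece R1 of helper10's S5238 project: in a `p`-group of maximal class with the power structure
(P1), (P2), every subgroup `K` of `γ₂` satisfies `|K| ≤ p^(p-1) |Φ(K)|`.
-/

set_option autoImplicit false

namespace Cfsg.Agent.Helper23.Pearl

theorem card_mul_relIndex_eq {G : Type*} [Group G] {H K : Subgroup G} (h : H ≤ K) :
    Nat.card H * H.relIndex K = Nat.card K := by
  have h1 := Subgroup.card_mul_index (H.subgroupOf K)
  have h2 : Nat.card (H.subgroupOf K) = Nat.card H :=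
    Nat.card_congr (Subgroup.subgroupOfEquivOfLe h).toEquiv
  rw [h2] at h1
  exact h1

theorem card_inf_mul_le {G : Type*} [Group G] [Finite G] (K A B : Subgroup G) (hBA : B ≤ A) :
    Nat.card (K ⊓ A : Subgroup G) * Nat.card B ≤ Nat.card A * Nat.card (K ⊓ B : Subgroup G) := by
  have hle : K ⊓ B ≤ K ⊓ A := inf_le_inf_left K hBA
  have e1 := card_mul_relIndex_eq hle
  have e2 := card_mul_relIndex_eq hBA
  have hB : K ⊓ B = B ⊓ (K ⊓ A) := by
    apply le_antisymm
    · exact le_inf inf_le_right hle
    · exact le_inf (inf_le_right.trans inf_le_left) inf_le_left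
  have hr : (K ⊓ B).relIndex (K ⊓ A) ≤ B.relIndex A := by
    rw [hB, Subgroup.inf_relIndex_right]
    apply Subgroup.relIndex_le_of_le_right inf_le_right
    intro h0
    rw [h0, mul_zero] at e2
    exact Nat.card_pos.ne' e2.symm
  calc Nat.card (K ⊓ A : Subgroup G) * Nat.card B
      = Nat.card (K ⊓ B : Subgroup G) * (K ⊓ B).relIndex (K ⊓ A) * Nat.card B := by rw [e1]
    _ ≤ Nat.card (K ⊓ B : Subgroup G) * B.relIndex A * Nat.card B := by
        apply Nat.mul_le_mul_right
        exact Nat.mul_le_mul_left _ hr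
    _ = Nat.card A * Nat.card (K ⊓ B : Subgroup G) := by rw [← e2]; ring

theorem mul_card_le_of_lt {G : Type*} [Group G] [Finite G] {p : ℕ} [Fact p.Prime]
    (hG : IsPGroup p G) {H H' : Subgroup G} (hlt : H < H') : p * Nat.card H ≤ Nat.card H' := by
  have hp : p.Prime := Fact.out
  obtain ⟨a, ha⟩ := (hG.to_subgroup H).exists_card_eq
  obtain ⟨b, hb⟩ := (hG.to_subgroup H').exists_card_eq
  have hcard : Nat.card H < Nat.card H' := by
    have hle := Subgroup.card_le_of_le hlt.le
    rcases hle.lt_or_eq with h | h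
    · exact h
    · exfalso
      have : H = H' := Subgroup.eq_of_le_of_card_ge hlt.le h.ge
      exact hlt.ne this
  rw [ha, hb] at hcard ⊢
  have hab : a < b := (Nat.pow_lt_pow_iff_right hp.one_lt).mp hcard
  calc p * p ^ a = p ^ (a + 1) := by rw [pow_succ]; ring
    _ ≤ p ^ b := Nat.pow_le_pow_right hp.pos hab

variable {X : Type*} [Group X] [Finite X] {p : ℕ} [Fact p.Prime] {n : ℕ}

theorem card_le_frattini_of_power_structure (hX : Nat.card X = p ^ n) (hn : 3 ≤ n)
    (hcard : ∀ i, 1 ≤ i → i ≤ n - 1 →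
      Nat.card (Subgroup.lowerCentralSeries (⊤ : Subgroup X) i) = p ^ (n - 1 - i))
    (hP1 : ∀ i, 1 ≤ i → ∀ g ∈ Subgroup.lowerCentralSeries (⊤ : Subgroup X) i,
      g ^ p ∈ Subgroup.lowerCentralSeries (⊤ : Subgroup X) (i + p - 1))
    (hP2 : ∀ i, 1 ≤ i → i + p - 1 ≤ n - 2 →
      ∀ g ∈ Subgroup.lowerCentralSeries (⊤ : Subgroup X) i,
      g ∉ Subgroup.lowerCentralSeries (⊤ : Subgroup X) (i + 1) →
      g ^ p ∉ Subgroup.lowerCentralSeries (⊤ : Subgroup X) (i + p))
    (K : Subgroup X) (hK : K ≤ Subgroup.lowerCentralSeries (⊤ : Subgroup X) 1) :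
    Nat.card K ≤ p ^ (p - 1) * Nat.card (frattini K) := by
  have hp : p.Prime := Fact.out
  have hXp : IsPGroup p X := IsPGroup.of_card hX
  have hKp : IsPGroup p K := hXp.to_subgroup K
  have hanti := Subgroup.lowerCentralSeries_antitone (⊤ : Subgroup X)
  set L := Subgroup.lowerCentralSeries (⊤ : Subgroup X) with hL
  set Φ : Subgroup X := (frattini K).map K.subtype with hΦ
  have hΦcard : Nat.card Φ = Nat.card (frattini K) :=
    Subgroup.card_map_of_injective K.subtype_injective
  have hpowΦ : ∀ g ∈ K, g ^ p ∈ Φ := by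
    intro g hg
    refine ⟨⟨g, hg⟩ ^ p, Cfsg.Agent.Helper1.IsPGroup.pow_mem_frattini hKp ⟨g, hg⟩, ?_⟩
    simp
  have hppos : 0 < p ^ (p - 1) := pow_pos hp.pos _
  have key : ∀ m i : ℕ, 1 ≤ i → n ≤ i + m →
      Nat.card (K ⊓ L i : Subgroup X) ≤ p ^ (p - 1) * Nat.card (Φ ⊓ L (i + p - 1) : Subgroup X) := by
    have base : ∀ i : ℕ, 1 ≤ i → n ≤ i + p →
        Nat.card (K ⊓ L i : Subgroup X) ≤
          p ^ (p - 1) * Nat.card (Φ ⊓ L (i + p - 1) : Subgroup X) := by
      intro i hi hin
      have h1 : Nat.card (K ⊓ L i : Subgroup X) ≤ Nat.card (L i) :=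
        Subgroup.card_le_of_le inf_le_right
      have h2 : Nat.card (L i) ≤ p ^ (p - 1) := by
        by_cases hle : i ≤ n - 1
        · rw [hcard i hi hle]
          exact Nat.pow_le_pow_right hp.pos (by omega)
        · have h3 : L i ≤ L (n - 1) := hanti (by omega)
          have h4 : Nat.card (L (n - 1)) = 1 := by
            rw [hcard (n - 1) (by omega) le_rfl]
            simp
          have h5 := Subgroup.card_le_of_le h3
          rw [h4] at h5
          exact h5.trans hppos
      have h6 : 0 < Nat.card (Φ ⊓ L (i + p - 1) : Subgroup X) := Nat.card_pos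
      calc Nat.card (K ⊓ L i : Subgroup X) ≤ p ^ (p - 1) * 1 := by
            rw [mul_one]; exact h1.trans h2
        _ ≤ _ := Nat.mul_le_mul_left _ h6
    intro m
    induction m with
    | zero =>
      intro i hi hin
      exact base i hi (by omega)
    | succ m ih =>
      intro i hi hin
      by_cases hb : n ≤ i + p
      · exact base i hi hb
      · have hb' : i + p ≤ n - 1 := by omega
        have hp2 := hp.two_le
        have ih' := ih (i + 1) (by omega) (by omega)
        have eidx : i + 1 + p - 1 = i + p := by omega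
        rw [eidx] at ih'
        have hmono : Nat.card (Φ ⊓ L (i + p) : Subgroup X) ≤
            Nat.card (Φ ⊓ L (i + p - 1) : Subgroup X) :=
          Subgroup.card_le_of_le (inf_le_inf_left Φ (hanti (by omega)))
        by_cases hex : ∃ g ∈ (K ⊓ L i : Subgroup X), g ∉ L (i + 1)
        · obtain ⟨g, hg, hg'⟩ := hex
          have hgK : g ∈ K := hg.1
          have hgL : g ∈ L i := hg.2
          have m1 : g ^ p ∈ Φ := hpowΦ g hgK
          have m2 : g ^ p ∈ L (i + p - 1) := hP1 i hi g hgL
          have m3 : g ^ p ∉ L (i + p) := hP2 i hi (by omega) g hgL hg'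
          have hlt : (Φ ⊓ L (i + p) : Subgroup X) < Φ ⊓ L (i + p - 1) := by
            refine lt_of_le_of_ne (inf_le_inf_left Φ (hanti (by omega))) ?_
            intro heq
            have : g ^ p ∈ (Φ ⊓ L (i + p) : Subgroup X) := by
              rw [heq]; exact ⟨m1, m2⟩
            exact m3 this.2
          have c2 := mul_card_le_of_lt hXp hlt
          have c1 := card_inf_mul_le K (L i) (L (i + 1)) (hanti (by omega))
          have hLi : Nat.card (L i) = p * Nat.card (L (i + 1)) := by
            rw [hcard i hi (by omega), hcard (i + 1) (by omega) (by omega), ← pow_succ']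
            congr 1
            omega
          rw [hLi] at c1
          have hpos : 0 < Nat.card (L (i + 1)) := Nat.card_pos
          have c1' : Nat.card (K ⊓ L i : Subgroup X) ≤
              p * Nat.card (K ⊓ L (i + 1) : Subgroup X) := by
            have : Nat.card (K ⊓ L i : Subgroup X) * Nat.card (L (i + 1)) ≤
                (p * Nat.card (K ⊓ L (i + 1) : Subgroup X)) * Nat.card (L (i + 1)) := by
              calc _ ≤ p * Nat.card (L (i + 1)) * Nat.card (K ⊓ L (i + 1) : Subgroup X) := c1
                _ = _ := by ring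
            exact Nat.le_of_mul_le_mul_right this hpos
          calc Nat.card (K ⊓ L i : Subgroup X)
              ≤ p * Nat.card (K ⊓ L (i + 1) : Subgroup X) := c1'
            _ ≤ p * (p ^ (p - 1) * Nat.card (Φ ⊓ L (i + p) : Subgroup X)) :=
                Nat.mul_le_mul_left _ ih'
            _ = p ^ (p - 1) * (p * Nat.card (Φ ⊓ L (i + p) : Subgroup X)) := by ring
            _ ≤ p ^ (p - 1) * Nat.card (Φ ⊓ L (i + p - 1) : Subgroup X) :=
                Nat.mul_le_mul_left _ c2
        · push Not at hex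
          have hle : (K ⊓ L i : Subgroup X) ≤ K ⊓ L (i + 1) := by
            intro g hg
            exact ⟨hg.1, hex g hg⟩
          calc Nat.card (K ⊓ L i : Subgroup X)
              ≤ Nat.card (K ⊓ L (i + 1) : Subgroup X) := Subgroup.card_le_of_le hle
            _ ≤ p ^ (p - 1) * Nat.card (Φ ⊓ L (i + p) : Subgroup X) := ih'
            _ ≤ p ^ (p - 1) * Nat.card (Φ ⊓ L (i + p - 1) : Subgroup X) :=
                Nat.mul_le_mul_left _ hmono
  have hfin := key n 1 le_rfl (by omega)
  have hK1 : (K ⊓ L 1 : Subgroup X) = K := inf_eq_left.mpr hK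
  rw [hK1] at hfin
  calc Nat.card K ≤ p ^ (p - 1) * Nat.card (Φ ⊓ L (1 + p - 1) : Subgroup X) := hfin
    _ ≤ p ^ (p - 1) * Nat.card Φ :=
        Nat.mul_le_mul_left _ (Subgroup.card_le_of_le inf_le_left)
    _ = p ^ (p - 1) * Nat.card (frattini K) := by rw [hΦcard]

end Cfsg.Agent.Helper23.Pearl
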