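import Mathlib

set_option autoImplicit false
set_option linter.unusedVariables false
set_option linter.unusedSectionVars false
set_option linter.style.haveILetI false

namespace Cfsg.Agent.Helper23.R2GAUT

theorem iter_mul {M : Type*} [CommGroup M] (σ d : M →* M) (h1 : ∀ t, σ t = t * d t)
    (h3 : ∀ t, d (d (d t)) = 1) :
    ∀ (m : ℕ) (t : M), σ^[m] t = t * (d t) ^ m * (d (d t)) ^ (m.choose 2) := by
  intro m
  induction m with
  | zero => intro t; simp
  | succ m ih =>
    intro t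
    rw [Function.iterate_succ_apply', ih, map_mul, map_mul, map_pow, map_pow, h1 t, h1 (d t),
      h1 (d (d t)), h3 t, mul_one]
    have hc : (m + 1).choose 2 = m + m.choose 2 := by
      rw [show (2 : ℕ) = 1 + 1 from rfl, Nat.choose_succ_succ' m 1]
      simp
    rw [hc, mul_pow, pow_succ, pow_add]
    ac_rfl

theorem iter_sq {M : Type*} [CommGroup M] (σ d : M →* M) (h1 : ∀ t, σ t = t * d t)
    (h3 : ∀ t, d (d (d t)) = 1) (m : ℕ) (t : M) :
    (t⁻¹ * σ^[m] t)⁻¹ * σ^[m] (t⁻¹ * σ^[m] t) = (d (d t)) ^ (m * m) := by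
  have key : ∀ t, t⁻¹ * σ^[m] t = (d t) ^ m * (d (d t)) ^ (m.choose 2) := by
    intro t; rw [iter_mul σ d h1 h3 m t, mul_assoc, inv_mul_cancel_left]
  rw [key (t⁻¹ * σ^[m] t), key t]
  simp only [map_mul, map_pow, h3, one_pow, mul_one]
  rw [← pow_mul]

theorem gpns_aut {G : Type*} [Group G] [Finite G] {p : ℕ} [Fact p.Prime] (hp : 5 ≤ p) (n s : ℕ)
    (hn : 4 ≤ n) (hs : ¬ p ∣ s) (hG : Nat.card G = p ^ n) (x y z : G)
    (hgen : Subgroup.closure ({x, y, z} : Set G) = ⊤) (hx : x ^ p = 1) (hy : y ^ p = 1)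
    (hz : z ^ p ^ (n - 2) = 1) (hyz : y * z = z * y)
    (hxy : x⁻¹ * y * x = y * z ^ (s * p ^ (n - 3))) (hxz : x⁻¹ * z * x = y * z) (α : MulAut G) :
    ∃ k : ℕ, k ^ 2 ≡ 1 [MOD p] ∧
      ∀ g : G, (g ^ k)⁻¹ * α g ∈ Subgroup.closure ({y, z} : Set G) := by
  classical
  have hpp : p.Prime := Fact.out
  set A : Subgroup G := Subgroup.closure ({y, z} : Set G) with hA
  set N : ℕ := s * p ^ (n - 3) with hN
  set c : G := z ^ N with hc
  have hyA : y ∈ A := Subgroup.subset_closure (by simp)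
  have hzA : z ∈ A := Subgroup.subset_closure (by simp)
  have hcA : c ∈ A := A.pow_mem hzA N
  -- commutativity
  have hgens : ∀ u ∈ ({y, z} : Set G), ∀ v ∈ ({y, z} : Set G), u * v = v * u := by
    rintro u (rfl | rfl) v (rfl | rfl)
    · rfl
    · exact hyz
    · exact hyz.symm
    · rfl
  haveI hIMC : IsMulCommutative ↥A := Subgroup.isMulCommutative_closure hgens
  letI instA : CommGroup ↥A :=
    { (inferInstance : Group ↥A) with mul_comm := fun a b => mul_comm' a b }
  have hAcomm : ∀ a ∈ A, ∀ b ∈ A, a * b = b * a := fun a ha b hb =>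
    congrArg Subtype.val (mul_comm (⟨a, ha⟩ : ↥A) ⟨b, hb⟩)
  have hpN : p ∣ N := by
    rw [hN]
    refine Dvd.dvd.mul_left ?_ s
    exact dvd_pow_self p (by omega)
  have hyN : y ^ N = 1 := by
    obtain ⟨r, hr⟩ := hpN
    rw [hr, pow_mul, hy, one_pow]
  -- conjugation by x⁻¹ preserves A
  have hσ : ∀ a ∈ A, x⁻¹ * a * x ∈ A := by
    intro a ha
    induction ha using Subgroup.closure_induction with
    | mem u hu =>
      rcases hu with rfl | rfl
      · rw [hxy]; exact A.mul_mem hyA hcA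
      · rw [hxz]; exact A.mul_mem hyA hzA
    | one => simp
    | mul a b _ _ iha ihb =>
      have : x⁻¹ * (a * b) * x = (x⁻¹ * a * x) * (x⁻¹ * b * x) := by group
      rw [this]; exact A.mul_mem iha ihb
    | inv a _ iha =>
      have : x⁻¹ * a⁻¹ * x = (x⁻¹ * a * x)⁻¹ := by group
      rw [this]; exact A.inv_mem iha
  -- conjugation by powers of x⁻¹
  have hσpow : ∀ (m : ℕ), ∀ a ∈ A, (x ^ m)⁻¹ * a * x ^ m ∈ A := by
    intro m
    induction m with
    | zero => intro a ha; simpa using ha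
    | succ m ih =>
      intro a ha
      have : (x ^ (m + 1))⁻¹ * a * x ^ (m + 1) = x⁻¹ * ((x ^ m)⁻¹ * a * x ^ m) * x := by
        rw [pow_succ]; group
      rw [this]; exact hσ _ (ih a ha)
  have hxinv : x ^ (p - 1) = x⁻¹ := by
    have h1 : x ^ (p - 1) * x = 1 := by
      rw [← pow_succ, Nat.sub_add_cancel hpp.one_le, hx]
    exact eq_inv_of_mul_eq_one_left h1
  have hσ' : ∀ a ∈ A, x * a * x⁻¹ ∈ A := by
    intro a ha
    have := hσpow (p - 1) a ha
    rwa [hxinv, inv_inv] at this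
  -- A is normal
  have hAn : A.Normal := by
    rw [← Subgroup.normalizer_eq_top_iff, eq_top_iff, ← hgen, Subgroup.closure_le]
    intro u hu
    rcases hu with hu | hu | hu
    · rw [hu, SetLike.mem_coe, Subgroup.mem_normalizer_iff]
      intro h
      constructor
      · exact fun hh => hσ' h hh
      · intro hh
        have := hσ _ hh
        have e : x⁻¹ * (x * h * x⁻¹) * x = h := by group
        rwa [e] at this
    · rw [hu]; exact Subgroup.le_normalizer hyA
    · rw [hu]; exact Subgroup.le_normalizer hzA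
  -- quotient generated by x
  have hQgen : ∀ g : G, ∃ i : ℕ, (x ^ i)⁻¹ * g ∈ A := by
    intro g
    have hg : g ∈ Subgroup.closure ({x, y, z} : Set G) := by rw [hgen]; trivial
    induction hg using Subgroup.closure_induction with
    | mem u hu =>
      rcases hu with rfl | rfl | rfl
      · exact ⟨1, by simp⟩
      · exact ⟨0, by simpa using hyA⟩
      · exact ⟨0, by simpa using hzA⟩
    | one => exact ⟨0, by simp⟩
    | mul a b _ _ iha ihb =>
      obtain ⟨i, hi⟩ := iha
      obtain ⟨j, hj⟩ := ihb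
      refine ⟨i + j, ?_⟩
      have e : (x ^ (i + j))⁻¹ * (a * b) =
          ((x ^ j)⁻¹ * ((x ^ i)⁻¹ * a) * x ^ j) * ((x ^ j)⁻¹ * b) := by
        rw [pow_add]; group
      rw [e]
      exact A.mul_mem (hσpow j _ hi) hj
    | inv a _ iha =>
      obtain ⟨i, hi⟩ := iha
      -- a = x^i * a', a⁻¹ = a'⁻¹ x^(-i) = x^(-i) (x^i a'⁻¹ x^(-i))
      refine ⟨i * (p - 1), ?_⟩
      have hxi : x ^ (i * (p - 1)) = (x ^ i)⁻¹ := by
        rw [mul_comm, pow_mul, hxinv, inv_pow]
      rw [hxi, inv_inv]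
      have e : x ^ i * a⁻¹ = x ^ i * ((x ^ i)⁻¹ * a)⁻¹ * (x ^ i)⁻¹ := by group
      rw [e]
      exact hAn.conj_mem _ (A.inv_mem hi) _
  -- c is centralised by x
  have hconj_pow : ∀ (u : G) (m : ℕ), x⁻¹ * u ^ m * x = (x⁻¹ * u * x) ^ m := by
    intro u m
    induction m with
    | zero => simp
    | succ m ih =>
      rw [pow_succ, pow_succ, ← ih]; group
  have hcx : x⁻¹ * c * x = c := by
    rw [hc, hconj_pow, hxz, (show Commute y z from hyz).mul_pow, hyN, one_mul]
  -- elements of A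
  have hAform : ∀ a ∈ A, ∃ j k : ℕ, a = y ^ j * z ^ k := by
    intro a ha
    induction ha using Subgroup.closure_induction with
    | mem u hu =>
      rcases hu with hu | hu
      · exact ⟨1, 0, by rw [hu]; simp⟩
      · exact ⟨0, 1, by rw [Set.mem_singleton_iff.mp hu]; simp⟩
    | one => exact ⟨0, 0, by simp⟩
    | mul a b _ _ iha ihb =>
      obtain ⟨j, k, rfl⟩ := iha
      obtain ⟨j', k', rfl⟩ := ihb
      refine ⟨j + j', k + k', ?_⟩
      have h1 : Commute (z ^ k) (y ^ j') := ((show Commute y z from hyz).pow_pow j' k).symm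
      rw [pow_add, pow_add]
      calc y ^ j * z ^ k * (y ^ j' * z ^ k') = y ^ j * (z ^ k * y ^ j') * z ^ k' := by group
        _ = y ^ j * (y ^ j' * z ^ k) * z ^ k' := by rw [h1.eq]
        _ = y ^ j * y ^ j' * (z ^ k * z ^ k') := by group
    | inv a _ iha =>
      obtain ⟨j, k, rfl⟩ := iha
      refine ⟨j * (p - 1), k * (p ^ (n - 2) - 1), ?_⟩
      have hyinv : y ^ (j * (p - 1)) = (y ^ j)⁻¹ := by
        have h1 : y ^ (p - 1) * y = 1 := by
          rw [← pow_succ, Nat.sub_add_cancel hpp.one_le, hy]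
        rw [mul_comm, pow_mul, eq_inv_of_mul_eq_one_left h1, inv_pow]
      have hzinv : z ^ (k * (p ^ (n - 2) - 1)) = (z ^ k)⁻¹ := by
        have h1 : z ^ (p ^ (n - 2) - 1) * z = 1 := by
          rw [← pow_succ, Nat.sub_add_cancel (Nat.one_le_pow _ _ hpp.pos), hz]
        rw [mul_comm, pow_mul, eq_inv_of_mul_eq_one_left h1, inv_pow]
      rw [hyinv, hzinv, mul_inv_rev]
      exact ((show Commute y z from hyz).pow_pow j k).symm.inv_inv.eq
  -- counting
  have hopos : 0 < orderOf z := orderOf_pos z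
  have hcard : Nat.card G ≤ p * (p * orderOf z) := by
    haveI : NeZero p := ⟨hpp.ne_zero⟩
    haveI : NeZero (orderOf z) := ⟨hopos.ne'⟩
    let f : Fin p × Fin p × Fin (orderOf z) → G := fun t => x ^ t.1.val * (y ^ t.2.1.val * z ^ t.2.2.val)
    have hf : Function.Surjective f := by
      intro g
      obtain ⟨i, hi⟩ := hQgen g
      obtain ⟨j, k, hjk⟩ := hAform _ hi
      refine ⟨(⟨i % p, Nat.mod_lt _ hpp.pos⟩, ⟨j % p, Nat.mod_lt _ hpp.pos⟩,
        ⟨k % orderOf z, Nat.mod_lt _ hopos⟩), ?_⟩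
      show x ^ (i % p) * (y ^ (j % p) * z ^ (k % orderOf z)) = g
      rw [← pow_eq_pow_mod i hx, ← pow_eq_pow_mod j hy, pow_mod_orderOf, ← hjk]
      group
    have := Nat.card_le_card_of_surjective f hf
    simpa [Nat.card_prod] using this
  have ho : orderOf z ∣ p ^ (n - 2) := orderOf_dvd_of_pow_eq_one hz
  obtain ⟨e, he, hoe⟩ := (Nat.dvd_prime_pow hpp).mp ho
  have hcne : c ≠ 1 := by
    intro hc1
    have h1 : orderOf z ∣ N := orderOf_dvd_of_pow_eq_one hc1
    rw [hoe, hN] at h1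
    have hcop : Nat.Coprime (p ^ e) s := by
      apply Nat.Coprime.pow_left
      exact (Nat.Prime.coprime_iff_not_dvd hpp).mpr hs
    have h2 : p ^ e ∣ p ^ (n - 3) := hcop.dvd_of_dvd_mul_left h1
    have h3 : e ≤ n - 3 := (Nat.pow_dvd_pow_iff_le_right hpp.one_lt).mp h2
    have h4 : p ^ e ≤ p ^ (n - 3) := Nat.pow_le_pow_right hpp.pos h3
    rw [hoe, hG] at hcard
    have h5 : p * (p * p ^ (n - 3)) = p ^ (n - 1) := by
      rw [← pow_succ', ← pow_succ']
      congr 1; omega
    have h6 : p ^ (n - 1) < p ^ n := Nat.pow_lt_pow_right hpp.one_lt (by omega)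
    have h7 : p * (p * p ^ e) ≤ p * (p * p ^ (n - 3)) :=
      Nat.mul_le_mul_left _ (Nat.mul_le_mul_left _ h4)
    omega
  have hcp : c ^ p = 1 := by
    rw [hc, ← pow_mul, hN]
    have : s * p ^ (n - 3) * p = p ^ (n - 2) * s := by
      rw [mul_assoc, ← pow_succ, mul_comm]
      congr 2; omega
    rw [this, pow_mul, hz, one_pow]
  have hco : orderOf c = p := orderOf_eq_prime hcp hcne
  -- the endomorphisms of A
  let σA : ↥A →* ↥A :=
    { toFun := fun a => ⟨x⁻¹ * a.1 * x, hσ a.1 a.2⟩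
      map_one' := by ext; simp
      map_mul' := fun a b => by ext; simp only [Subgroup.coe_mul]; group }
  let dA : ↥A →* ↥A :=
    { toFun := fun a => a⁻¹ * σA a
      map_one' := by simp
      map_mul' := fun a b => by
        rw [map_mul, mul_inv, mul_mul_mul_comm] }
  have h1 : ∀ t : ↥A, σA t = t * dA t := by
    intro t
    show σA t = t * (t⁻¹ * σA t)
    rw [mul_inv_cancel_left]
  have hdval : ∀ t : ↥A, ((dA t : ↥A) : G) = t.1⁻¹ * (x⁻¹ * t.1 * x) := fun t => rfl
  let yA : ↥A := ⟨y, hyA⟩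
  let zA : ↥A := ⟨z, hzA⟩
  let cA : ↥A := ⟨c, hcA⟩
  have hdz : dA zA = yA := by
    apply Subtype.ext
    rw [hdval]
    show z⁻¹ * (x⁻¹ * z * x) = y
    rw [hxz, hyz]; group
  have hdy : dA yA = cA := by
    apply Subtype.ext
    rw [hdval]
    show y⁻¹ * (x⁻¹ * y * x) = c
    rw [hxy]; group
  have hdc : dA cA = 1 := by
    apply Subtype.ext
    rw [hdval]
    show c⁻¹ * (x⁻¹ * c * x) = 1
    rw [hcx]; group
  have hclos : Subgroup.closure ({yA, zA} : Set ↥A) = ⊤ := by
    have := Subgroup.closure_closure_coe_preimage (k := ({y, z} : Set G))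
    rw [← this]
    congr 1
    ext t
    simp only [Set.mem_insert_iff, Set.mem_singleton_iff, Set.mem_preimage]
    constructor
    · rintro (h | h)
      · left; rw [h]
      · right; rw [h]
    · rintro (h | h)
      · left; exact Subtype.ext h
      · right; exact Subtype.ext h
  have h3 : ∀ t : ↥A, dA (dA (dA t)) = 1 := by
    have : (dA.comp (dA.comp dA)) = (1 : ↥A →* ↥A) := by
      apply MonoidHom.eq_of_eqOn_dense hclos
      rintro t (h | h)
      · rw [h]; show dA (dA (dA yA)) = 1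
        rw [hdy, hdc, map_one]
      · rw [Set.mem_singleton_iff.mp h]; show dA (dA (dA zA)) = 1
        rw [hdz, hdy, hdc]
    intro t
    exact DFunLike.congr_fun this t
  have hi : ∀ t : ↥A, dA (dA t) = t ^ N := by
    have : (dA.comp dA) = (powMonoidHom N : ↥A →* ↥A) := by
      apply MonoidHom.eq_of_eqOn_dense hclos
      rintro t (h | h)
      · rw [h]; show dA (dA yA) = yA ^ N
        rw [hdy, hdc]
        apply Subtype.ext
        simp [yA, hyN]
      · rw [Set.mem_singleton_iff.mp h]; show dA (dA zA) = zA ^ N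
        rw [hdz, hdy]
        apply Subtype.ext
        simp [zA, cA, hc]
    intro t
    exact DFunLike.congr_fun this t
  have hiter : ∀ (m : ℕ) (t : ↥A), ((σA^[m] t : ↥A) : G) = (x ^ m)⁻¹ * t.1 * x ^ m := by
    intro m
    induction m with
    | zero => intro t; simp
    | succ m ih =>
      intro t
      rw [Function.iterate_succ_apply']
      show x⁻¹ * ((σA^[m] t : ↥A) : G) * x = _
      rw [ih, pow_succ]; group
  -- x^m conjugation on y
  have hym : ∀ m : ℕ, (x ^ m)⁻¹ * y * x ^ m = y * c ^ m := by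
    intro m
    have h := iter_mul σA dA h1 h3 m yA
    have h' := congrArg Subtype.val h
    rw [hiter] at h'
    rw [hdy, hdc] at h'
    simpa [yA, cA] using h'
  -- the centralizer of all commutators is A
  have hcomm_mem : ∀ u v : G, u * v * u⁻¹ * v⁻¹ ∈ A := by
    intro u v
    obtain ⟨i, hi'⟩ := hQgen u
    obtain ⟨j, hj'⟩ := hQgen v
    -- work in the quotient
    have hu : (QuotientGroup.mk u : G ⧸ A) = (QuotientGroup.mk x) ^ i := by
      rw [← QuotientGroup.mk_pow, eq_comm, QuotientGroup.eq]; exact hi'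
    have hv : (QuotientGroup.mk v : G ⧸ A) = (QuotientGroup.mk x) ^ j := by
      rw [← QuotientGroup.mk_pow, eq_comm, QuotientGroup.eq]; exact hj'
    rw [← QuotientGroup.eq_one_iff]
    simp only [QuotientGroup.mk_mul, QuotientGroup.mk_inv, hu, hv]
    rw [(Commute.refl (QuotientGroup.mk x : G ⧸ A)).pow_pow i j |>.eq]
    group
  have hCA : ∀ g : G, (∀ u v : G, g * (u * v * u⁻¹ * v⁻¹) = (u * v * u⁻¹ * v⁻¹) * g) → g ∈ A := by
    intro g hg
    obtain ⟨i, hi'⟩ := hQgen g
    -- y is a commutator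
    have hycomm : y = z⁻¹ * x⁻¹ * z⁻¹⁻¹ * x⁻¹⁻¹ := by
      rw [inv_inv, inv_inv, mul_assoc (z⁻¹), mul_assoc z⁻¹, hxz, hyz]; group
    have hgy : g * y = y * g := by
      have := hg z⁻¹ x⁻¹
      rwa [← hycomm] at this
    have ha'y : Commute ((x ^ i)⁻¹ * g) y := hAcomm _ hi' _ hyA
    have hxi : x ^ i = g * ((x ^ i)⁻¹ * g)⁻¹ := by group
    have hxiy : Commute (x ^ i) y := by
      rw [hxi]; exact (show Commute g y from hgy).mul_left ha'y.inv_left
    have hci : c ^ i = 1 := by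
      have := hym i
      rw [mul_assoc, ← hxiy.eq] at this
      have e2 : (x ^ i)⁻¹ * (x ^ i * y) = y := by group
      rw [e2] at this
      exact (mul_eq_left.mp this.symm)
    have hpi : p ∣ i := by
      rw [← hco]; exact orderOf_dvd_of_pow_eq_one hci
    obtain ⟨r, rfl⟩ := hpi
    rw [pow_mul, hx, one_pow, inv_one, one_mul] at hi'
    exact hi'
  have hchar : ∀ a ∈ A, α a ∈ A := by
    intro a ha
    apply hCA
    intro u v
    have h0 : a * (α.symm u * α.symm v * (α.symm u)⁻¹ * (α.symm v)⁻¹) =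
        (α.symm u * α.symm v * (α.symm u)⁻¹ * (α.symm v)⁻¹) * a :=
      hAcomm _ ha _ (hcomm_mem _ _)
    have := congrArg α h0
    simpa using this
  obtain ⟨m, hm⟩ := hQgen (α x)
  have hmk : (QuotientGroup.mk (α x) : G ⧸ A) = (QuotientGroup.mk x) ^ m := by
    rw [← QuotientGroup.mk_pow, eq_comm, QuotientGroup.eq]; exact hm
  refine ⟨m, ?_, ?_⟩
  · -- conjugation by α x on A
    have hconj' : ∀ t ∈ A, (α x)⁻¹ * t * (α x) = (x ^ m)⁻¹ * t * x ^ m := by
      intro t ht
      have h2 : ((x ^ m)⁻¹ * t * x ^ m) ∈ A := hσpow m t ht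
      have h4 := hAcomm _ h2 _ hm
      calc (α x)⁻¹ * t * (α x)
          = ((x ^ m)⁻¹ * α x)⁻¹ * (((x ^ m)⁻¹ * t * x ^ m) * ((x ^ m)⁻¹ * α x)) := by group
        _ = ((x ^ m)⁻¹ * α x)⁻¹ * (((x ^ m)⁻¹ * α x) * ((x ^ m)⁻¹ * t * x ^ m)) := by rw [h4]
        _ = (x ^ m)⁻¹ * t * x ^ m := by group
    let z1 : ↥A := ⟨α z, hchar z hzA⟩
    have hδ : ∀ t : ↥A, ((t⁻¹ * σA^[m] t : ↥A) : G) = t.1⁻¹ * ((α x)⁻¹ * t.1 * (α x)) := by
      intro t
      rw [Subgroup.coe_mul, Subgroup.coe_inv, hiter, hconj' _ t.2]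
    have hc2 : c = (z⁻¹ * (x⁻¹ * z * x))⁻¹ * (x⁻¹ * (z⁻¹ * (x⁻¹ * z * x)) * x) := by
      have h5 := congrArg Subtype.val (show dA (dA zA) = cA by rw [hdz, hdy])
      rw [hdval, hdval] at h5
      exact h5.symm
    have hαc : α c = ((α z)⁻¹ * ((α x)⁻¹ * α z * α x))⁻¹ *
        ((α x)⁻¹ * ((α z)⁻¹ * ((α x)⁻¹ * α z * α x)) * α x) := by
      conv_lhs => rw [hc2]
      simp only [map_mul, map_inv]
    have key := iter_sq σA dA h1 h3 m z1
    have key' := congrArg Subtype.val key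
    rw [Subgroup.coe_mul, Subgroup.coe_inv, hδ z1] at key'
    have h6 : ((σA^[m] (z1⁻¹ * σA^[m] z1) : ↥A) : G) =
        (α x)⁻¹ * ((α z)⁻¹ * ((α x)⁻¹ * α z * α x)) * α x := by
      rw [hiter, ← hconj' _ (z1⁻¹ * σA^[m] z1).2, hδ z1]
    rw [h6, hi z1] at key'
    have h7 : (((z1 ^ N) ^ (m * m) : ↥A) : G) = (α c) ^ (m * m) := by
      rw [Subgroup.coe_pow, Subgroup.coe_pow]
      show ((α z) ^ N) ^ (m * m) = (α c) ^ (m * m)
      rw [hc, map_pow]
    rw [h7] at key'
    have h8 : (α c) ^ 1 = (α c) ^ (m * m) := by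
      rw [pow_one]; rw [← key']; exact hαc
    have h9 := pow_eq_pow_iff_modEq.mp h8
    rw [MulEquiv.orderOf_eq, hco] at h9
    rw [sq]; exact h9.symm
  · intro g
    obtain ⟨i, hi'⟩ := hQgen g
    have hg : (QuotientGroup.mk g : G ⧸ A) = (QuotientGroup.mk x) ^ i := by
      rw [← QuotientGroup.mk_pow, eq_comm, QuotientGroup.eq]; exact hi'
    have hαg : (QuotientGroup.mk (α g) : G ⧸ A) = ((QuotientGroup.mk x) ^ m) ^ i := by
      have e : g = x ^ i * ((x ^ i)⁻¹ * g) := by group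
      have h5 : α g = (α x) ^ i * α ((x ^ i)⁻¹ * g) := by
        conv_lhs => rw [e]
        rw [map_mul, map_pow]
      rw [h5, QuotientGroup.mk_mul, QuotientGroup.mk_pow, hmk,
        (QuotientGroup.eq_one_iff _).mpr (hchar _ hi'), mul_one]
    rw [← QuotientGroup.eq, QuotientGroup.mk_pow, hg, hαg, ← pow_mul, ← pow_mul, mul_comm]

end Cfsg.Agent.Helper23.R2GAUT
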