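import Mathlib
import Cfsg.Agent.Helper27.S0429Defs

/-! Board `s0429pieces`, piece SYN, core: from `Q2 (synVec a U) = 0` and `|U| = 12`, a vertex `z` far from `a`
outside `U` has exactly two neighbours in `U`. -/

set_option autoImplicit false

namespace Cfsg.Agent.S0429P

open Finset

variable {V : Type*} [Fintype V] [DecidableEq V] {G : SimpleGraph V} [DecidableRel G.Adj]

theorem SYN_aux_core (h : G.IsSRGWith 77 16 0 4) {a z : V} {U : Finset V} (hU : U.card = 12)
    (hQ : Q2 G (synVec G a U) = 0) (hz : Far G a z) (hzU : z ∉ U) :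
    (G.neighborFinset z ∩ U).card = 2 := by
  have h1 := Q2_eq_zero h (synVec G a U) hQ z
  unfold synVec at h1
  rw [nsum_ind, sum_ind] at h1
  have hgz : ind ![{a}, G.neighborFinset a, U] ![8, 3 / 2, 1] z = 0 := by
    unfold ind
    rw [Fin.sum_univ_three]
    have e1 : z ∉ ({a} : Finset V) := by
      rw [Finset.mem_singleton]; exact hz.1
    have e2 : z ∉ G.neighborFinset a := by
      rw [SimpleGraph.mem_neighborFinset]; exact hz.2
    simp [e1, e2, hzU]
  rw [hgz] at h1
  rw [Fin.sum_univ_three, Fin.sum_univ_three] at h1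
  have c1 : (G.neighborFinset z ∩ ({a} : Finset V)).card = 0 := by
    rw [Finset.card_eq_zero, Finset.eq_empty_iff_forall_notMem]
    intro y hy
    rw [Finset.mem_inter, Finset.mem_singleton, SimpleGraph.mem_neighborFinset] at hy
    obtain ⟨hy1, rfl⟩ := hy
    exact hz.2 hy1.symm
  have c2 : (G.neighborFinset z ∩ G.neighborFinset a).card = 4 := by
    have := card_cn h (v := z) (w := a) hz.1 (fun hza => hz.2 hza.symm)
    unfold cn at this
    exact this
  have c3 : (({a} : Finset V)).card = 1 := Finset.card_singleton a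
  have c4 := card_nb h a
  simp only [Matrix.cons_val_zero, Matrix.cons_val_one, Matrix.cons_val_two, Matrix.head_cons,
    Matrix.tail_cons] at h1
  rw [c1, c2, c3, c4, hU] at h1
  have h2 : ((G.neighborFinset z ∩ U).card : ℚ) = 2 := by
    push_cast at h1
    linarith
  exact_mod_cast h2

end Cfsg.Agent.S0429P
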