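import Mathlib
import Cfsg.Agent.Helper10.S2092.DefsP

set_option autoImplicit false
set_option linter.unusedSectionVars false
set_option linter.unusedVariables false

/-! S2092, part P, piece PBASIC: the basic consequences of the relations `CRel` for the datum `datumC`. -/

namespace Cfsg.Agent.S2092P

open scoped commutatorElement
open Matrix Cfsg.Agent.S3352P Cfsg.Agent.S2096P Cfsg.Agent.S2094P Cfsg.Agent.RGD

variable {n : ℕ} {F : Type*} [Field F] {M : Type*} [Group M] {Ys : J n → J n → F → M}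
  {Yl : J n → F → M} {π : M →* Matrix (J n) (J n) F}

namespace PBASIC

theorem sgF_cases (a : J n) : sgF F a = 1 ∨ sgF F a = -1 := by
  cases a <;> simp

theorem sgF_ne_zero (a : J n) : sgF F a ≠ 0 := by
  intro h
  have := sgF_mul_self F a
  rw [h, mul_zero] at this
  exact zero_ne_one this

theorem sgF_inv (a : J n) : (sgF F a)⁻¹ = sgF F a := by
  apply inv_eq_of_mul_eq_one_right
  exact sgF_mul_self F a

theorem zl_apply (a : J n) (t : F) : zl Yl a t = Yl a (sgF F a * t) := rfl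

theorem U_lg (a b : J n) (h : (RB.lg a b : RB n).Valid) :
    (datumC Ys Yl).U ⟨RB.lg a b, h⟩ = Subgroup.closure {g | ∃ t : F, g = Ys a b t} := rfl

theorem U_sh (a : J n) (h : (RB.sh a : RB n).Valid) :
    (datumC Ys Yl).U ⟨RB.sh a, h⟩ = Subgroup.closure {g | ∃ t : F, g = zl Yl a t} := rfl

theorem nS_lg (a b : J n) (h : (RB.lg a b : RB n).Valid) :
    (datumC Ys Yl).nS ⟨RB.lg a b, h⟩ = {g | ∃ t : F, t ≠ 0 ∧ g = wX Ys a b t} := rfl

theorem nS_sh (a : J n) (h : (RB.sh a : RB n).Valid) :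
    (datumC Ys Yl).nS ⟨RB.sh a, h⟩ = {g | ∃ t : F, t ≠ 0 ∧ g = wY (zl Yl) a t} := rfl

theorem xr_lg (a b : J n) (t : F) : xr Ys Yl (RB.lg a b) t = Ys a b t := rfl

theorem xr_sh (a : J n) (t : F) : xr Ys Yl (RB.sh a) t = Yl a t := rfl

theorem neg_val (r : RootB n) : ((datumC Ys Yl).neg r).1 = r.1.neg := rfl

theorem alt_val (r : RootB n) : ((datumC Ys Yl).alt r).1 = r.1.alt := rfl

end PBASIC

open PBASIC

theorem Ys_zero_c (hY : CRel Ys Yl) {a b : J n} (hab : IsRoot a b) : Ys a b (0 : F) = 1 := by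
  have h := hY.adds a b hab 0 0
  rw [add_zero] at h
  exact (mul_eq_left (a := Ys a b (0 : F))).1 h.symm

theorem Ys_inv_c (hY : CRel Ys Yl) {a b : J n} (hab : IsRoot a b) (t : F) :
    (Ys a b t)⁻¹ = Ys a b (-t) := by
  apply inv_eq_of_mul_eq_one_right
  rw [← hY.adds a b hab, add_neg_cancel, Ys_zero_c hY hab]

theorem Yl_zero_c (hY : CRel Ys Yl) (a : J n) : Yl a (0 : F) = 1 := by
  have h := hY.addl a 0 0
  rw [add_zero] at h
  exact (mul_eq_left (a := Yl a (0 : F))).1 h.symm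

theorem Yl_inv_c (hY : CRel Ys Yl) (a : J n) (t : F) : (Yl a t)⁻¹ = Yl a (-t) := by
  apply inv_eq_of_mul_eq_one_right
  rw [← hY.addl a, add_neg_cancel, Yl_zero_c hY]

namespace PBASIC

theorem zl_inv (hY : CRel Ys Yl) (a : J n) (t : F) : (zl Yl a t)⁻¹ = zl Yl a (-t) := by
  rw [zl_apply, zl_apply, Yl_inv_c hY, mul_neg]

theorem xr_zero (hY : CRel Ys Yl) {r : RB n} (hr : r.Valid) : xr Ys Yl r (0 : F) = 1 := by
  cases r with
  | lg a b => exact Ys_zero_c hY hr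
  | sh a => exact Yl_zero_c hY a

theorem xr_inv (hY : CRel Ys Yl) {r : RB n} (hr : r.Valid) (t : F) :
    (xr Ys Yl r t)⁻¹ = xr Ys Yl r (-t) := by
  cases r with
  | lg a b => exact Ys_inv_c hY hr t
  | sh a => exact Yl_inv_c hY a t

end PBASIC

theorem mem_U_iff (hY : CRel Ys Yl) (r : RootB n) {g : M} :
    g ∈ (datumC Ys Yl).U r ↔ ∃ t : F, g = xr Ys Yl r.1 t := by
  obtain ⟨r, hr⟩ := r
  cases r with
  | lg a b =>
    rw [U_lg]
    show _ ↔ ∃ t : F, g = Ys a b t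
    constructor
    · intro hg
      induction hg using Subgroup.closure_induction with
      | mem x hx => exact hx
      | one => exact ⟨0, (Ys_zero_c hY hr).symm⟩
      | mul x y _ _ hx hy =>
        obtain ⟨s, rfl⟩ := hx
        obtain ⟨t, rfl⟩ := hy
        exact ⟨s + t, (hY.adds a b hr s t).symm⟩
      | inv x _ hx =>
        obtain ⟨s, rfl⟩ := hx
        exact ⟨-s, Ys_inv_c hY hr s⟩
    · rintro ⟨t, rfl⟩
      exact Subgroup.subset_closure ⟨t, rfl⟩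
  | sh a =>
    rw [U_sh]
    show _ ↔ ∃ t : F, g = Yl a t
    constructor
    · intro hg
      induction hg using Subgroup.closure_induction with
      | mem x hx =>
        obtain ⟨t, rfl⟩ := hx
        exact ⟨sgF F a * t, rfl⟩
      | one => exact ⟨0, (Yl_zero_c hY a).symm⟩
      | mul x y _ _ hx hy =>
        obtain ⟨s, rfl⟩ := hx
        obtain ⟨t, rfl⟩ := hy
        exact ⟨s + t, (hY.addl a s t).symm⟩
      | inv x _ hx =>
        obtain ⟨s, rfl⟩ := hx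
        exact ⟨-s, Yl_inv_c hY a s⟩
    · rintro ⟨t, rfl⟩
      refine Subgroup.subset_closure ⟨sgF F a * t, ?_⟩
      rw [zl_apply, ← mul_assoc, sgF_mul_self, one_mul]

theorem xr_add (hY : CRel Ys Yl) {r : RB n} (hr : r.Valid) (s t : F) :
    xr Ys Yl r (s + t) = xr Ys Yl r s * xr Ys Yl r t := by
  cases r with
  | lg a b => exact hY.adds a b hr s t
  | sh a => exact hY.addl a s t

theorem xr_alt (hY : CRel Ys Yl) {r : RB n} (hr : r.Valid) :
    ∃ ε : F, (ε = 1 ∨ ε = -1) ∧ ∀ t : F, xr Ys Yl r.alt t = xr Ys Yl r (ε * t) := by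
  cases r with
  | lg a b =>
    refine ⟨-(sgF F a * sgF F b), ?_, fun t => ?_⟩
    · rcases sgF_cases (F := F) a with h1 | h1 <;> rcases sgF_cases (F := F) b with h2 | h2 <;>
        rw [h1, h2] <;> simp
    · exact hY.flip a b hr t
  | sh a =>
    refine ⟨1, Or.inl rfl, fun t => ?_⟩
    rw [one_mul]
    rfl

theorem U_alt_c (hY : CRel Ys Yl) (r : RootB n) :
    (datumC Ys Yl).U ((datumC Ys Yl).alt r) = (datumC Ys Yl).U r := by
  obtain ⟨ε, hε, h⟩ := xr_alt hY r.2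
  have hεε : ε * ε = 1 := by
    rcases hε with rfl | rfl <;> simp
  ext g
  rw [mem_U_iff hY, mem_U_iff hY, alt_val]
  constructor
  · rintro ⟨t, rfl⟩
    exact ⟨ε * t, h t⟩
  · rintro ⟨t, rfl⟩
    refine ⟨ε * t, ?_⟩
    rw [h, ← mul_assoc, hεε, one_mul]

theorem wX_inv_c (hY : CRel Ys Yl) {a b : J n} (hab : IsRoot a b) (t : F) :
    (wX Ys a b t)⁻¹ = wX Ys a b (-t) := by
  unfold wX
  rw [_root_.mul_inv_rev, _root_.mul_inv_rev, Ys_inv_c hY hab, Ys_inv_c hY hab.symm, neg_neg, inv_neg, neg_neg,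
    mul_assoc]

theorem wY_inv_c (hY : CRel Ys Yl) (a : J n) (t : F) :
    (wY (zl Yl) a t)⁻¹ = wY (zl Yl) a (-t) := by
  unfold wY
  rw [_root_.mul_inv_rev, _root_.mul_inv_rev, zl_inv hY, zl_inv hY, inv_neg, mul_assoc]

theorem nS_inv_c (hY : CRel Ys Yl) (s : RootB n) {m : M} (hm : m ∈ (datumC Ys Yl).nS s) :
    m⁻¹ ∈ (datumC Ys Yl).nS s := by
  obtain ⟨s, hs⟩ := s
  cases s with
  | lg a b =>
    rw [nS_lg] at hm ⊢
    obtain ⟨t, ht, rfl⟩ := hm
    exact ⟨-t, neg_ne_zero.2 ht, wX_inv_c hY hs t⟩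
  | sh a =>
    rw [nS_sh] at hm ⊢
    obtain ⟨t, ht, rfl⟩ := hm
    exact ⟨-t, neg_ne_zero.2 ht, wY_inv_c hY a t⟩

/-- the Weyl elements in terms of the root elements of a name -/
theorem mem_nS_iff (hY : CRel Ys Yl) (s : RootB n) {m : M} :
    m ∈ (datumC Ys Yl).nS s ↔ ∃ t : F, t ≠ 0 ∧
      m = xr Ys Yl s.1 t * xr Ys Yl s.1.neg (-t⁻¹) * xr Ys Yl s.1 t := by
  obtain ⟨s, hs⟩ := s
  cases s with
  | lg a b =>
    rw [nS_lg]
    exact Iff.rfl
  | sh a =>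
    rw [nS_sh]
    show (∃ t : F, t ≠ 0 ∧ m = wY (zl Yl) a t) ↔
      ∃ t : F, t ≠ 0 ∧ m = Yl a t * Yl (ng a) (-t⁻¹) * Yl a t
    have key : ∀ t : F, wY (zl Yl) a t =
        Yl a (sgF F a * t) * Yl (ng a) (-(sgF F a * t)⁻¹) * Yl a (sgF F a * t) := by
      intro t
      unfold wY
      rw [zl_apply, zl_apply, sgF_ng, mul_inv, sgF_inv, neg_mul]
    constructor
    · rintro ⟨t, ht, rfl⟩
      exact ⟨sgF F a * t, mul_ne_zero (sgF_ne_zero a) ht, key t⟩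
    · rintro ⟨t, ht, rfl⟩
      refine ⟨sgF F a * t, mul_ne_zero (sgF_ne_zero a) ht, ?_⟩
      rw [key, ← mul_assoc, sgF_mul_self, one_mul]

theorem rank_one_c (hY : CRel Ys Yl) (s : RootB n) {x : M}
    (hx : x ∈ (datumC Ys Yl).U ((datumC Ys Yl).neg s)) (hx1 : x ≠ 1) :
    ∃ y ∈ (datumC Ys Yl).U s, ∃ m ∈ (datumC Ys Yl).nS s, ∃ y' ∈ (datumC Ys Yl).U s,
      x = y * m * y' := by
  rw [mem_U_iff hY, neg_val] at hx
  obtain ⟨u, rfl⟩ := hx
  have hu : u ≠ 0 := by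
    rintro rfl
    exact hx1 (xr_zero hY (RB.valid_neg s.2))
  have hy : (xr Ys Yl s.1 (-u⁻¹))⁻¹ ∈ (datumC Ys Yl).U s :=
    Subgroup.inv_mem _ ((mem_U_iff hY s).2 ⟨_, rfl⟩)
  refine ⟨_, hy, xr Ys Yl s.1 (-u⁻¹) * xr Ys Yl s.1.neg (-(-u⁻¹)⁻¹) * xr Ys Yl s.1 (-u⁻¹),
    (mem_nS_iff hY s).2 ⟨-u⁻¹, neg_ne_zero.2 (inv_ne_zero hu), rfl⟩, _, hy, ?_⟩
  rw [inv_neg, inv_inv, neg_neg]
  group

theorem nS_mul_c (hY : CRel Ys Yl) {s : RootB n} (hs : s.1.Simple) {m m' : M}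
    (hm : m ∈ (datumC Ys Yl).nS s) (hm' : m' ∈ (datumC Ys Yl).nS s) :
    m * m' ∈ (datumC Ys Yl).T := by
  obtain ⟨s, hv⟩ := s
  show m * m' ∈ HhS Ys Yl
  cases s with
  | lg a b =>
    rw [nS_lg] at hm hm'
    obtain ⟨t, ht, rfl⟩ := hm
    obtain ⟨u, hu, rfl⟩ := hm'
    have h1 : tX Ys a b t ∈ HhS Ys Yl :=
      Subgroup.subset_closure (Or.inl ⟨a, b, t, hs, ht, rfl⟩)
    have h2 : tX Ys a b (-u) ∈ HhS Ys Yl :=
      Subgroup.subset_closure (Or.inl ⟨a, b, -u, hs, neg_ne_zero.2 hu, rfl⟩)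
    have h3 : wX Ys a b t * wX Ys a b u = tX Ys a b t * (tX Ys a b (-u))⁻¹ := by
      unfold tX
      rw [← wX_inv_c hY hv u]
      group
    rw [h3]
    exact Subgroup.mul_mem _ h1 (Subgroup.inv_mem _ h2)
  | sh a =>
    rw [nS_sh] at hm hm'
    obtain ⟨t, ht, rfl⟩ := hm
    obtain ⟨u, hu, rfl⟩ := hm'
    have h1 : tY (zl Yl) a t ∈ HhS Ys Yl :=
      Subgroup.subset_closure (Or.inr ⟨a, t, hs, ht, rfl⟩)
    have h2 : tY (zl Yl) a (-u) ∈ HhS Ys Yl :=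
      Subgroup.subset_closure (Or.inr ⟨a, -u, hs, neg_ne_zero.2 hu, rfl⟩)
    have h3 : wY (zl Yl) a t * wY (zl Yl) a u = tY (zl Yl) a t * (tY (zl Yl) a (-u))⁻¹ := by
      unfold tY
      rw [← wY_inv_c hY a u]
      group
    rw [h3]
    exact Subgroup.mul_mem _ h1 (Subgroup.inv_mem _ h2)

end Cfsg.Agent.S2092P
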