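import Mathlib
import Cfsg.Agent.Helper10.S2092.DefsP

set_option autoImplicit false
set_option linter.unusedSectionVars false
set_option linter.unusedVariables false

/-! S2092, part P, piece HALFHOMC: on the positive half of the signed indices the relations of type `C_n` contain
those of type `A_{n-1}`, whence a homomorphism from the Steinberg group of type `A`. -/

namespace Cfsg.Agent.S2092P

open scoped commutatorElement
open Matrix Cfsg.Agent.S3352P Cfsg.Agent.S2096P Cfsg.Agent.S2094P Cfsg.Agent.RGD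

variable {n : ℕ} {F : Type*} [Field F] {M : Type*} [Group M] {Ys : J n → J n → F → M}
  {Yl : J n → F → M} {π : M →* Matrix (J n) (J n) F}

namespace HALFHOMC

open Cfsg.Agent.Helper2

theorem inl_ne {i j : Fin n} (h : i ≠ j) : (Sum.inl i : J n) ≠ Sum.inl j :=
  fun e => h (Sum.inl_injective e)

theorem inl_ne_ng (i j : Fin n) : (Sum.inl i : J n) ≠ ng (Sum.inl j) := by
  rw [ng_inl]
  exact Sum.inl_ne_inr

theorem isRoot_inl {i j : Fin n} (h : i ≠ j) : IsRoot (Sum.inl i : J n) (Sum.inl j) :=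
  ⟨inl_ne h, inl_ne_ng i j⟩

/-- the images of the generators -/
def gen (Ys : J n → J n → F → M) : Stn.Idx n × F → M :=
  fun p => Ys (Sum.inl p.1.1.1) (Sum.inl p.1.1.2) p.2

theorem gen_rels (hY : CRel Ys Yl) :
    ∀ r ∈ Stn.rels F n, FreeGroup.lift (gen Ys) r = 1 := by
  rintro r ((⟨a, t, u, rfl⟩ | ⟨a, b, t, u, h1, h2, rfl⟩) | ⟨a, b, h3, t, u, hab, rfl⟩)
  · obtain ⟨⟨i, j⟩, hij⟩ := a
    simp only [map_mul, map_inv, FreeGroup.lift_apply_of, gen]
    rw [← hY.adds _ _ (isRoot_inl hij) t u, mul_inv_cancel]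
  · obtain ⟨⟨i, j⟩, hij⟩ := a
    obtain ⟨⟨k, l⟩, hkl⟩ := b
    simp only at h1 h2 hij hkl
    simp only [map_mul, map_inv, FreeGroup.lift_apply_of, gen]
    rw [(hY.comm _ _ _ _ (isRoot_inl hij) (isRoot_inl hkl) (inl_ne h2) (inl_ne h1)
      (inl_ne_ng i k) (inl_ne_ng i l) (inl_ne_ng j k) (inl_ne_ng j l) t u).eq,
      mul_inv_cancel_right, mul_inv_cancel]
  · obtain ⟨⟨i, j⟩, hij⟩ := a
    obtain ⟨⟨j', l⟩, hjl⟩ := b
    simp only at hab h3 hij hjl
    subst hab
    simp only [map_mul, map_inv, FreeGroup.lift_apply_of, gen]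
    have := hY.mul _ _ _ (isRoot_inl hij) (isRoot_inl hjl) (isRoot_inl h3) t u
    rw [commutatorElement_def] at this
    rw [this, mul_inv_cancel]

end HALFHOMC

theorem exists_inl_hom (hY : CRel Ys Yl) :
    ∃ Θ : Cfsg.Agent.Helper2.Stn.G F n →* M, ∀ (i j : Fin n) (t : F), i ≠ j →
      Θ (Cfsg.Agent.Helper2.Stn.xg i j t) = Ys (Sum.inl i) (Sum.inl j) t := by
  refine ⟨PresentedGroup.toGroup (HALFHOMC.gen_rels hY), ?_⟩
  intro i j t hij
  rw [Cfsg.Agent.Helper2.Stn.xg_of_ne hij]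
  exact PresentedGroup.toGroup.of (HALFHOMC.gen_rels hY)

end Cfsg.Agent.S2092P
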