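import Mathlib
import Cfsg.Agent.Helper10.S2092.DefsP
import Cfsg.Agent.Helper6.S3352UNITRI
import Cfsg.Agent.Helper23.S2092PBASIC

set_option autoImplicit false
set_option linter.unusedSectionVars false
set_option linter.unusedVariables false

/-! S2092, part P, piece UNITRI: the image of `Û` consists of upper unitriangular matrices with respect to `rk`. -/

namespace Cfsg.Agent.S2092P

open scoped commutatorElement
open Matrix Cfsg.Agent.S3352P Cfsg.Agent.S2096P Cfsg.Agent.S2094P Cfsg.Agent.RGD

variable {n : ℕ} {F : Type*} [Field F] {M : Type*} [Group M] {Ys : J n → J n → F → M}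
  {Yl : J n → F → M} {π : M →* Matrix (J n) (J n) F}

namespace UNITRIC

open Cfsg.Agent.S3352P.UNITRI

theorem UT_xs {a b : J n} (hab : IsRoot a b) (hlt : rk a < rk b) (t : F) : UT (xs a b t) := by
  have h2 : rk (ng b) < rk (ng a) := by
    have e1 := rk_add_ng a
    have e2 := rk_add_ng b
    omega
  constructor
  · unfold xs
    apply Matrix.BlockTriangular.add Matrix.blockTriangular_one
    intro i j hij
    rw [Matrix.smul_apply, Matrix.sub_apply, Matrix.smul_apply,
      Matrix.blockTriangular_single (b := rk) hlt.le (1 : F) hij,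
      Matrix.blockTriangular_single (b := rk) h2.le (1 : F) hij, smul_zero, sub_zero, smul_zero]
  · intro c
    unfold xs
    rw [Matrix.add_apply, Matrix.one_apply_eq, Matrix.smul_apply, Matrix.sub_apply,
      Matrix.smul_apply, Matrix.single_apply_of_ne, Matrix.single_apply_of_ne, smul_zero, sub_zero,
      smul_zero, add_zero]
    · rintro ⟨h1, h3⟩
      exact hab.1 (ng_injective (h1.trans h3.symm)).symm
    · rintro ⟨h1, h3⟩
      exact hab.1 (h1.trans h3.symm)

theorem UT_xl (i : Fin n) (t : F) : UT (xl (Sum.inl i : J n) t) := by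
  have hlt : rk (Sum.inl i : J n) < rk (ng (Sum.inl i : J n)) := by
    have := i.isLt
    simp only [ng_inl, rk]
    omega
  constructor
  · unfold xl
    apply Matrix.BlockTriangular.add Matrix.blockTriangular_one
    intro x y hxy
    rw [Matrix.smul_apply, Matrix.blockTriangular_single (b := rk) hlt.le (1 : F) hxy, smul_zero]
  · intro c
    unfold xl
    rw [Matrix.add_apply, Matrix.one_apply_eq, Matrix.smul_apply, Matrix.single_apply_of_ne,
      smul_zero, add_zero]
    rintro ⟨h1, h3⟩
    exact ng_ne (Sum.inl i : J n) (h3.trans h1.symm)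

theorem UT_xrm {r : RB n} (hr : r.Valid) (hp : r.Pos) (t : F) : UT (xrm r t) := by
  cases r with
  | lg a b => exact UT_xs hr hp t
  | sh a =>
    obtain ⟨i, rfl⟩ := hp
    exact UT_xl i t

theorem pi_xr (h : PHyp Ys Yl π) {r : RB n} (hr : r.Valid) (t : F) :
    π (xr Ys Yl r t) = xrm r t := by
  cases r with
  | lg a b => exact h.pis a b hr t
  | sh a => exact h.pil a t

end UNITRIC

theorem unitri_of_mem_Uh (h : PHyp Ys Yl π) {g : M} (hg : g ∈ (datumC Ys Yl).Uh) :
    (∀ x, π g x x = 1) ∧ ∀ x y, rk y < rk x → π g x y = 0 := by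
  have key : Cfsg.Agent.S3352P.UNITRI.UT (π g) := by
    unfold Datum.Uh at hg
    induction hg using Subgroup.closure_induction with
    | mem x hx =>
      obtain ⟨r, hr, hx⟩ := hx
      obtain ⟨t, rfl⟩ := (mem_U_iff h.rel r).1 hx
      rw [UNITRIC.pi_xr h r.2 t]
      exact UNITRIC.UT_xrm r.2 hr t
    | one =>
      rw [map_one]
      exact Cfsg.Agent.S3352P.UNITRI.UT_one
    | mul x y _ _ hx hy =>
      rw [map_mul]
      exact Cfsg.Agent.S3352P.UNITRI.UT_mul hx hy
    | inv x _ hx =>
      apply Cfsg.Agent.S3352P.UNITRI.UT_inv hx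
      rw [← map_mul, mul_inv_cancel, map_one]
  exact ⟨key.2, fun a b hlt => key.1 hlt⟩

end Cfsg.Agent.S2092P
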