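import Mathlib
import Cfsg.Agent.Helper10.S2092.DefsT

set_option autoImplicit false
set_option linter.unusedSectionVars false
set_option linter.unusedVariables false

/-! S2092, part T, piece GEN (helper23): generic lemmas on the canonical lifts `sec`. -/

namespace Cfsg.Agent.S2092P

open scoped commutatorElement
open Cfsg.Agent.S3352P Cfsg.Agent.S2096P Cfsg.Agent.S2400P
open Cfsg.Agent.S2086P (CL cl)

variable {n : ℕ} {F : Type*} [Field F] {G : Type*} [Group G] {E : Type*} [Group E]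

namespace GEN

theorem add_zero' {H : Type*} [Group H] {x : F → H} (hx : ∀ s t : F, x (s + t) = x s * x t) :
    x 0 = 1 := by
  have h := hx 0 0
  rw [add_zero] at h
  exact mul_eq_left.mp h.symm

theorem map_neg' {H : Type*} [Group H] {x : F → H} (hx : ∀ s t : F, x (s + t) = x s * x t)
    (t : F) : x (-t) = (x t)⁻¹ := by
  apply eq_inv_of_mul_eq_one_left
  rw [← hx, neg_add_cancel, add_zero' hx]

theorem comm_scale {H : Type*} [Group H] {g : H} {x : F → H} {c : F}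
    (hx : ∀ s t : F, x (s + t) = x s * x t) (hg : ∀ t : F, g * x t * g⁻¹ = x (c * t)) (u : F) :
    ⁅g, x u⁆ = x ((c - 1) * u) := by
  rw [commutatorElement_def, hg, ← map_neg' hx, ← hx]
  congr 1
  ring

/-- an additive map which is invariant under a scaling `c ≠ 1` is trivial -/
theorem eq_one_of_scale {H : Type*} [Group H] {f : F → H} {c : F} (hc1 : c ≠ 1)
    (hfadd : ∀ s s' : F, f (s + s') = f s * f s') (hfc : ∀ s : F, f (c * s) = f s) (r : F) :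
    f r = 1 := by
  have hc0 : c - 1 ≠ 0 := sub_ne_zero.mpr hc1
  have key : ∀ s : F, f ((c - 1) * s) = 1 := by
    intro s
    have e : (c - 1) * s = c * s + -s := by ring
    rw [e, hfadd, hfc, map_neg' hfadd, mul_inv_cancel]
  have e : r = (c - 1) * (r / (c - 1)) := by field_simp
  rw [e, key]

end GEN

theorem map_sec (ψ : E →* G) (hψ : Function.Surjective ψ) {g : G} {x : F → G} {c : F}
    (hx : ∀ s t : F, x (s + t) = x s * x t) (hg : ∀ t : F, g * x t * g⁻¹ = x (c * t)) (hc1 : c ≠ 1)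
    (t : F) : ψ (sec ψ hψ g x c t) = x t := by
  have hc0 : c - 1 ≠ 0 := sub_ne_zero.mpr hc1
  show ψ (cl ψ hψ g (x (t / (c - 1)))) = x t
  rw [Cfsg.Agent.S2086P.map_cl, GEN.comm_scale hx hg]
  congr 1
  field_simp

theorem sec_add (ψ : E →* G) (hψ : Function.Surjective ψ) (hc : ψ.ker ≤ Subgroup.center E)
    {g : G} {x : F → G} {c : F}
    (hx : ∀ s t : F, x (s + t) = x s * x t) (hg : ∀ t : F, g * x t * g⁻¹ = x (c * t)) (hc1 : c ≠ 1)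
    (hsame : ∀ s t : F, CL ψ (x s) (x t)) (s t : F) :
    sec ψ hψ g x c (s + t) = sec ψ hψ g x c s * sec ψ hψ g x c t := by
  have hc0 : c - 1 ≠ 0 := sub_ne_zero.mpr hc1
  show cl ψ hψ g (x ((s + t) / (c - 1))) =
    cl ψ hψ g (x (s / (c - 1))) * cl ψ hψ g (x (t / (c - 1)))
  obtain ⟨gh, hψg⟩ := hψ g
  obtain ⟨a, hψa⟩ := hψ (x (s / (c - 1)))
  obtain ⟨b, hψb⟩ := hψ (x (t / (c - 1)))
  have hab : ψ (a * b) = x ((s + t) / (c - 1)) := by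
    rw [map_mul, hψa, hψb, ← hx, add_div]
  rw [← Cfsg.Agent.S2086P.cl_eq ψ hψ hc hψg hab, ← Cfsg.Agent.S2086P.cl_eq ψ hψ hc hψg hψa,
    ← Cfsg.Agent.S2086P.cl_eq ψ hψ hc hψg hψb]
  have e : ⁅gh, a * b⁆ = ⁅gh, a⁆ * (a * ⁅gh, b⁆ * a⁻¹) := by
    simp only [commutatorElement_def]; group
  have hcomm : Commute a ⁅gh, b⁆ := by
    apply hsame (s / (c - 1)) ((c - 1) * (t / (c - 1))) a ⁅gh, b⁆ hψa
    rw [map_commutatorElement, hψg, hψb, GEN.comm_scale hx hg]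
  rw [e, hcomm.eq, mul_inv_cancel_right]

theorem sec_conj (ψ : E →* G) (hψ : Function.Surjective ψ) (hc : ψ.ker ≤ Subgroup.center E)
    {g : G} {x : F → G} {c : F} {e : E} {w : F}
    (heg : Commute (ψ e) g) (hex : ∀ t : F, ψ e * x t * (ψ e)⁻¹ = x (w * t)) (t : F) :
    e * sec ψ hψ g x c t * e⁻¹ = sec ψ hψ g x c (w * t) := by
  show e * cl ψ hψ g (x (t / (c - 1))) * e⁻¹ = cl ψ hψ g (x (w * t / (c - 1)))
  obtain ⟨gh, hψg⟩ := hψ g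
  obtain ⟨a, hψa⟩ := hψ (x (t / (c - 1)))
  rw [← Cfsg.Agent.S2086P.cl_eq ψ hψ hc hψg hψa]
  have e1 : e * ⁅gh, a⁆ * e⁻¹ = ⁅e * gh * e⁻¹, e * a * e⁻¹⁆ := by
    simp only [commutatorElement_def]; group
  rw [e1]
  apply Cfsg.Agent.S2086P.cl_eq ψ hψ hc
  · rw [map_mul, map_mul, map_inv, hψg, heg.eq, mul_inv_cancel_right]
  · rw [map_mul, map_mul, map_inv, hψa, hex, mul_div_assoc]

theorem sec_indep (ψ : E →* G) (hψ : Function.Surjective ψ) (hc : ψ.ker ≤ Subgroup.center E)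
    {g g' : G} {x : F → G} {c c' : F}
    (hx : ∀ s t : F, x (s + t) = x s * x t) (hg : ∀ t : F, g * x t * g⁻¹ = x (c * t))
    (hg' : ∀ t : F, g' * x t * g'⁻¹ = x (c' * t)) (hc1 : c ≠ 1) (hc1' : c' ≠ 1) (hgg : Commute g g')
    (hsame : ∀ s t : F, CL ψ (x s) (x t)) (t : F) :
    sec ψ hψ g x c t = sec ψ hψ g' x c' t := by
  have hc0' : c' - 1 ≠ 0 := sub_ne_zero.mpr hc1'
  have hadd := sec_add ψ hψ hc hx hg hc1 hsame
  have hneg : ∀ t, sec ψ hψ g x c (-t) = (sec ψ hψ g x c t)⁻¹ := GEN.map_neg' hadd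
  have key : ∀ t, cl ψ hψ g' (x t) = sec ψ hψ g x c ((c' - 1) * t) := by
    intro t
    obtain ⟨gh', hψg'⟩ := hψ g'
    have h1 : ⁅gh', sec ψ hψ g x c t⁆ = cl ψ hψ g' (x t) :=
      Cfsg.Agent.S2086P.cl_eq ψ hψ hc hψg' (map_sec ψ hψ hx hg hc1 t)
    have h2 : gh' * sec ψ hψ g x c t * gh'⁻¹ = sec ψ hψ g x c (c' * t) :=
      sec_conj ψ hψ hc (by rw [hψg']; exact hgg.symm) (by rw [hψg']; exact hg') t
    rw [← h1, commutatorElement_def, h2, ← hneg, ← hadd]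
    congr 1
    ring
  show sec ψ hψ g x c t = cl ψ hψ g' (x (t / (c' - 1)))
  rw [key]
  congr 1
  field_simp

theorem sec_reparam (ψ : E →* G) (hψ : Function.Surjective ψ) (g : G) (x : F → G) (c ε t : F) :
    sec ψ hψ g (fun u => x (ε * u)) c t = sec ψ hψ g x c (ε * t) := by
  show cl ψ hψ g (x (ε * (t / (c - 1)))) = cl ψ hψ g (x (ε * t / (c - 1)))
  rw [mul_div_assoc]

theorem CL_of_scale (ψ : E →* G) (hψ : Function.Surjective ψ) (hc : ψ.ker ≤ Subgroup.center E)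
    {g u : G} {y : F → G} {c : F}
    (hy : ∀ s t : F, y (s + t) = y s * y t) (hg : ∀ t : F, g * y t * g⁻¹ = y (c * t)) (hc1 : c ≠ 1)
    (hug : Commute u g) (huy : ∀ t : F, Commute u (y t)) (t : F) : CL ψ u (y t) := by
  have hc0 : c - 1 ≠ 0 := sub_ne_zero.mpr hc1
  have e : y t = ⁅g, y (t / (c - 1))⁆ := by
    rw [GEN.comm_scale hy hg]
    congr 1
    field_simp
  rw [e]
  exact Cfsg.Agent.S2086P.CL_of_comm ψ hψ hc hug (huy _)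

theorem rel_of_scale_left (ψ : E →* G) (hc : ψ.ker ≤ Subgroup.center E) {Y1 Y2 Y3 : F → E} {e : E}
    {c : F} (hc1 : c ≠ 1)
    (h1add : ∀ s t : F, Y1 (s + t) = Y1 s * Y1 t) (h3add : ∀ s t : F, Y3 (s + t) = Y3 s * Y3 t)
    (hrel : ∀ s t : F, ψ ⁅Y1 s, Y2 t⁆ = ψ (Y3 (s * t)))
    (h13 : ∀ s t : F, Commute (Y1 s) (Y3 t))
    (he1 : ∀ s : F, e * Y1 s * e⁻¹ = Y1 (c * s)) (he2 : ∀ t : F, e * Y2 t * e⁻¹ = Y2 t)
    (he3 : ∀ u : F, e * Y3 u * e⁻¹ = Y3 (c * u)) (s t : F) : ⁅Y1 s, Y2 t⁆ = Y3 (s * t) := by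
  obtain ⟨f, hf⟩ : ∃ f : F → E, f = fun s => ⁅Y1 s, Y2 t⁆ * (Y3 (s * t))⁻¹ := ⟨_, rfl⟩
  have hfs : ∀ s, f s = ⁅Y1 s, Y2 t⁆ * (Y3 (s * t))⁻¹ := fun s => by rw [hf]
  have hfz : ∀ s, f s ∈ Subgroup.center E := by
    intro s
    apply hc
    rw [hfs, MonoidHom.mem_ker, map_mul, map_inv, hrel, mul_inv_cancel]
  have hcomm_eq : ∀ s, ⁅Y1 s, Y2 t⁆ = f s * Y3 (s * t) := by
    intro s
    rw [hfs, inv_mul_cancel_right]
  have hfadd : ∀ s s' : F, f (s + s') = f s * f s' := by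
    intro s s'
    have e1 : ⁅Y1 s * Y1 s', Y2 t⁆ = Y1 s * ⁅Y1 s', Y2 t⁆ * (Y1 s)⁻¹ * ⁅Y1 s, Y2 t⁆ := by
      simp only [commutatorElement_def]; group
    have hcm : Commute (Y1 s) ⁅Y1 s', Y2 t⁆ := by
      rw [hcomm_eq s']
      exact Commute.mul_right (Subgroup.mem_center_iff.mp (hfz s') (Y1 s)) (h13 s (s' * t))
    have e2 : ⁅Y1 (s + s'), Y2 t⁆ = ⁅Y1 s', Y2 t⁆ * ⁅Y1 s, Y2 t⁆ := by
      rw [h1add, e1, hcm.eq, mul_inv_cancel_right]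
    have e3 : Y3 ((s + s') * t) = Y3 (s' * t) * Y3 (s * t) := by
      rw [← h3add]
      congr 1
      ring
    have hz : ∀ A' : E, A' * f s = f s * A' := fun A' => Subgroup.mem_center_iff.mp (hfz s) A'
    rw [hfs (s + s'), e2, e3]
    calc ⁅Y1 s', Y2 t⁆ * ⁅Y1 s, Y2 t⁆ * (Y3 (s' * t) * Y3 (s * t))⁻¹
        = ⁅Y1 s', Y2 t⁆ * (⁅Y1 s, Y2 t⁆ * (Y3 (s * t))⁻¹) * (Y3 (s' * t))⁻¹ := by group
      _ = ⁅Y1 s', Y2 t⁆ * f s * (Y3 (s' * t))⁻¹ := by rw [← hfs s]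
      _ = f s * ⁅Y1 s', Y2 t⁆ * (Y3 (s' * t))⁻¹ := by rw [hz]
      _ = f s * (⁅Y1 s', Y2 t⁆ * (Y3 (s' * t))⁻¹) := by group
      _ = f s * f s' := by rw [← hfs s']
  have hfc : ∀ s : F, f (c * s) = f s := by
    intro s
    have e1 : f (c * s) = e * f s * e⁻¹ := by
      have e2 : e * (⁅Y1 s, Y2 t⁆ * (Y3 (s * t))⁻¹) * e⁻¹ =
          ⁅e * Y1 s * e⁻¹, e * Y2 t * e⁻¹⁆ * (e * Y3 (s * t) * e⁻¹)⁻¹ := by
        simp only [commutatorElement_def]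
        group
      rw [hfs s, e2, he1, he2, he3, hfs, mul_assoc c s t]
    rw [e1, Subgroup.mem_center_iff.mp (hfz s) e, mul_inv_cancel_right]
  have h1 := GEN.eq_one_of_scale hc1 hfadd hfc s
  rw [hcomm_eq, h1, one_mul]

theorem rel_of_scale_right (ψ : E →* G) (hc : ψ.ker ≤ Subgroup.center E) {Y1 Y2 Y3 : F → E} {e : E}
    {c : F} (hc1 : c ≠ 1)
    (h2add : ∀ s t : F, Y2 (s + t) = Y2 s * Y2 t) (h3add : ∀ s t : F, Y3 (s + t) = Y3 s * Y3 t)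
    (hrel : ∀ s t : F, ψ ⁅Y1 s, Y2 t⁆ = ψ (Y3 (s * t)))
    (h23 : ∀ s t : F, Commute (Y2 s) (Y3 t))
    (he1 : ∀ s : F, e * Y1 s * e⁻¹ = Y1 s) (he2 : ∀ t : F, e * Y2 t * e⁻¹ = Y2 (c * t))
    (he3 : ∀ u : F, e * Y3 u * e⁻¹ = Y3 (c * u)) (s t : F) : ⁅Y1 s, Y2 t⁆ = Y3 (s * t) := by
  obtain ⟨f, hf⟩ : ∃ f : F → E, f = fun t => ⁅Y1 s, Y2 t⁆ * (Y3 (s * t))⁻¹ := ⟨_, rfl⟩
  have hfs : ∀ t, f t = ⁅Y1 s, Y2 t⁆ * (Y3 (s * t))⁻¹ := fun t => by rw [hf]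
  have hfz : ∀ t, f t ∈ Subgroup.center E := by
    intro t
    apply hc
    rw [hfs, MonoidHom.mem_ker, map_mul, map_inv, hrel, mul_inv_cancel]
  have hcomm_eq : ∀ t, ⁅Y1 s, Y2 t⁆ = f t * Y3 (s * t) := by
    intro t
    rw [hfs, inv_mul_cancel_right]
  have hfadd : ∀ t t' : F, f (t + t') = f t * f t' := by
    intro t t'
    have e1 : ⁅Y1 s, Y2 t * Y2 t'⁆ = ⁅Y1 s, Y2 t⁆ * (Y2 t * ⁅Y1 s, Y2 t'⁆ * (Y2 t)⁻¹) := by
      simp only [commutatorElement_def]; group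
    have hcm : Commute (Y2 t) ⁅Y1 s, Y2 t'⁆ := by
      rw [hcomm_eq t']
      exact Commute.mul_right (Subgroup.mem_center_iff.mp (hfz t') (Y2 t)) (h23 t (s * t'))
    have e2 : ⁅Y1 s, Y2 (t + t')⁆ = ⁅Y1 s, Y2 t⁆ * ⁅Y1 s, Y2 t'⁆ := by
      rw [h2add, e1, hcm.eq, mul_inv_cancel_right]
    have e3 : Y3 (s * (t + t')) = Y3 (s * t) * Y3 (s * t') := by
      rw [← h3add]
      congr 1
      ring
    have hz : ∀ A : E, A * f t' = f t' * A := fun A => Subgroup.mem_center_iff.mp (hfz t') A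
    have hzz : f t' * f t = f t * f t' := (Subgroup.mem_center_iff.mp (hfz t) (f t'))
    rw [hfs (t + t'), e2, e3]
    calc ⁅Y1 s, Y2 t⁆ * ⁅Y1 s, Y2 t'⁆ * (Y3 (s * t) * Y3 (s * t'))⁻¹
        = ⁅Y1 s, Y2 t⁆ * (⁅Y1 s, Y2 t'⁆ * (Y3 (s * t'))⁻¹) * (Y3 (s * t))⁻¹ := by group
      _ = ⁅Y1 s, Y2 t⁆ * f t' * (Y3 (s * t))⁻¹ := by rw [← hfs t']
      _ = f t' * ⁅Y1 s, Y2 t⁆ * (Y3 (s * t))⁻¹ := by rw [hz]
      _ = f t' * (⁅Y1 s, Y2 t⁆ * (Y3 (s * t))⁻¹) := by group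
      _ = f t' * f t := by rw [← hfs t]
      _ = f t * f t' := hzz
  have hfc : ∀ t : F, f (c * t) = f t := by
    intro t
    have e0 : s * (c * t) = c * (s * t) := by ring
    have e1 : f (c * t) = e * f t * e⁻¹ := by
      have e2 : e * (⁅Y1 s, Y2 t⁆ * (Y3 (s * t))⁻¹) * e⁻¹ =
          ⁅e * Y1 s * e⁻¹, e * Y2 t * e⁻¹⁆ * (e * Y3 (s * t) * e⁻¹)⁻¹ := by
        simp only [commutatorElement_def]
        group
      rw [hfs t, e2, he1, he2, he3, hfs, e0]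
    rw [e1, Subgroup.mem_center_iff.mp (hfz t) e, mul_inv_cancel_right]
  have h1 := GEN.eq_one_of_scale hc1 hfadd hfc t
  rw [hcomm_eq, h1, one_mul]

end Cfsg.Agent.S2092P
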