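import Mathlib
import Cfsg.Agent.Helper10.S2092.DefsT

set_option autoImplicit false
set_option linter.unusedSectionVars false
set_option linter.unusedVariables false

/-! S2092, part T, piece POS (helper23): names of roots and positions on the circle. -/

namespace Cfsg.Agent.S2092P

open scoped commutatorElement
open Cfsg.Agent.S3352P Cfsg.Agent.S2096P Cfsg.Agent.S2400P
open Cfsg.Agent.S2086P (CL cl)

variable {n : ℕ} {F : Type*} [Field F] {G : Type*} [Group G] {E : Type*} [Group E]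

theorem exists_cX_s {M : Type*} [Group M] (Xs : J n → J n → F → M) (Xl : J n → F → M)
    (hflip : ∀ a b, IsRoot a b → ∀ t : F, Xs (ng b) (ng a) t = Xs a b (-(sgF F a * sgF F b) * t))
    (a b : J n) (hab : IsRoot a b) :
    ∃ (k : ZMod 8) (ε : F), IsS k ∧ (ε = 1 ∨ ε = -1) ∧
      ∀ t : F, Xs a b t = cX Xs Xl (ab a) (ab b) k (ε * t) := by
  rcases a with i | i <;> rcases b with j | j
  · refine ⟨0, 1, by decide, Or.inl rfl, fun t => ?_⟩
    rw [one_mul]
    rfl
  · refine ⟨2, 1, by decide, Or.inl rfl, fun t => ?_⟩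
    rw [one_mul]
    rfl
  · refine ⟨6, 1, by decide, Or.inl rfl, fun t => ?_⟩
    rw [one_mul]
    rfl
  · refine ⟨4, -1, by decide, Or.inr rfl, fun t => ?_⟩
    have hij : i ≠ j := by
      have := isRoot_iff_ab.1 hab
      simpa using this
    have hr : IsRoot (Sum.inl j : J n) (Sum.inl i) := isRoot_iff_ab.2 (by simpa using hij.symm)
    have h := hflip (Sum.inl j) (Sum.inl i) hr t
    rw [ng_inl, ng_inl, sgF_inl, sgF_inl, one_mul] at h
    rw [h]
    rfl

theorem exists_cX_l {M : Type*} [Group M] (Xs : J n → J n → F → M) (Xl : J n → F → M)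
    (a : J n) (j : Fin n) :
    ∃ (k : ZMod 8) (ε : F), IsL k ∧ (ε = 1 ∨ ε = -1) ∧
      ∀ t : F, Xl a t = cX Xs Xl (ab a) j k (ε * t) := by
  rcases a with i | i
  · refine ⟨1, 1, by decide, Or.inl rfl, fun t => ?_⟩
    rw [one_mul]
    rfl
  · refine ⟨5, 1, by decide, Or.inl rfl, fun t => ?_⟩
    rw [one_mul]
    rfl

theorem exists_cX_l' {M : Type*} [Group M] (Xs : J n → J n → F → M) (Xl : J n → F → M)
    (a : J n) (i : Fin n) :
    ∃ (k : ZMod 8) (ε : F), IsL k ∧ (ε = 1 ∨ ε = -1) ∧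
      ∀ t : F, Xl a t = cX Xs Xl i (ab a) k (ε * t) := by
  rcases a with j | j
  · refine ⟨3, -1, by decide, Or.inr rfl, fun t => ?_⟩
    have e : Xl (Sum.inl j) t = Xl (Sum.inl j) (-(-1 * t)) := by
      rw [neg_mul, one_mul, neg_neg]
    rw [e]
    rfl
  · refine ⟨7, -1, by decide, Or.inr rfl, fun t => ?_⟩
    have e : Xl (Sum.inr j) t = Xl (Sum.inr j) (-(-1 * t)) := by
      rw [neg_mul, one_mul, neg_neg]
    rw [e]
    rfl

end Cfsg.Agent.S2092P
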