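import Cfsg.Agent.Helper28.S2510Defs

/-! S2510 pieces GSMUL, URCOMM (helper23). -/

set_option autoImplicit false
set_option linter.unusedSectionVars false

namespace Cfsg.Agent.S2510P

namespace GSMUL

theorem gs_add (Q a b : ℕ) :
    Cfsg.Agent.S2495.gs Q (a + b) = Cfsg.Agent.S2495.gs Q a + Q ^ a * Cfsg.Agent.S2495.gs Q b := by
  unfold Cfsg.Agent.S2495.gs
  rw [Finset.sum_range_add, Finset.mul_sum]
  congr 1
  apply Finset.sum_congr rfl
  intro i _
  rw [pow_add]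

end GSMUL

/-- GSMUL (S). -/
theorem gs_mul_eq (Q d m : ℕ) :
    Cfsg.Agent.S2495.gs Q (d * m) = Cfsg.Agent.S2495.gs Q d * Cfsg.Agent.S2495.gs (Q ^ d) m := by
  induction m with
  | zero =>
    simp [Cfsg.Agent.S2495.gs]
  | succ m ih =>
    have h1 : d * (m + 1) = d * m + d := by ring
    rw [h1, GSMUL.gs_add, ih]
    have h2 : Cfsg.Agent.S2495.gs (Q ^ d) (m + 1)
        = Cfsg.Agent.S2495.gs (Q ^ d) m + (Q ^ d) ^ m := by
      unfold Cfsg.Agent.S2495.gs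
      rw [Finset.sum_range_succ]
    rw [h2, ← pow_mul]
    ring

/-- GSMUL (S). -/
theorem gs_pow_modEq (Q d m : ℕ) (hQ : 1 ≤ Q) :
    Cfsg.Agent.S2495.gs (Q ^ d) m ≡ m [MOD Q - 1] := by
  have h1 : Cfsg.Agent.S2495.gs (Q ^ d) m ≡ m [MOD Q ^ d - 1] :=
    Cfsg.Agent.S2495.gs_modEq (Q ^ d) m (Nat.one_le_pow d Q hQ)
  exact h1.of_dvd (Nat.sub_one_dvd_pow_sub_one Q d)

variable {F : Type*} [Field F] [Fintype F] {n : ℕ} {p : ℕ}

/-- URCOMM (S). -/
theorem commute_diagD_nilN (b : ℕ) (lam mu : F) : Commute (diagD n b lam mu) (nilN n F b) := by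
  unfold Commute SemiconjBy
  ext i j
  unfold diagD nilN
  rw [Matrix.diagonal_mul, Matrix.mul_diagonal]
  simp only [Matrix.of_apply]
  by_cases h : (j : ℕ) = (i : ℕ) + 1 ∧ (j : ℕ) < b
  · have hi : (i : ℕ) < b := by omega
    rw [if_pos h, if_pos hi, if_pos h.2]
    ring
  · rw [if_neg h, mul_zero, zero_mul]

end Cfsg.Agent.S2510P
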