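import Cfsg.Agent.Helper28.S2510Defs

/-! S2510 piece NORMROOT (helper23): the norm of the root of `AdjoinRoot f` over a finite field. -/

set_option autoImplicit false
set_option linter.unusedSectionVars false

namespace Cfsg.Agent.S2510P

open Polynomial

variable {F : Type*} [Field F] [Fintype F] {n : ℕ} {p : ℕ}

local notation "q" => Fintype.card F

/-- NORMROOT (M): the norm of the root. -/
theorem root_pow_gs (f : F[X]) (hf : f.Monic) (hirr : Irreducible f) :
    (AdjoinRoot.root f) ^ Cfsg.Agent.S2495.gs q f.natDegree =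
      algebraMap F (AdjoinRoot f) ((-1) ^ f.natDegree * f.coeff 0) := by
  have : Fact (Irreducible f) := ⟨hirr⟩
  have hf0 : f ≠ 0 := hf.ne_zero
  have hdim : Module.finrank F (AdjoinRoot f) = f.natDegree := by
    rw [(AdjoinRoot.powerBasis hf0).finrank, AdjoinRoot.powerBasis_dim]
  have : Module.Finite F (AdjoinRoot f) := (AdjoinRoot.powerBasis hf0).finite
  have : Finite (AdjoinRoot f) := Module.finite_of_finite F
  have h1 := FiniteField.algebraMap_norm_eq_pow_sum F (AdjoinRoot f) (AdjoinRoot.root f)
  have h2 : Algebra.norm F (AdjoinRoot.root f) = (-1) ^ f.natDegree * f.coeff 0 := by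
    have h := Algebra.PowerBasis.norm_gen_eq_coeff_zero_minpoly (AdjoinRoot.powerBasis hf0)
    rw [AdjoinRoot.minpoly_powerBasis_gen_of_monic hf hf0, AdjoinRoot.powerBasis_gen,
      AdjoinRoot.powerBasis_dim] at h
    exact h
  rw [← h2, h1, hdim, Nat.card_eq_fintype_card]
  rfl

end Cfsg.Agent.S2510P
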