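import Mathlib
import Cfsg.Prelude.Def_Classical
import Cfsg.Agent.Helper8.MatBNDefs
import Cfsg.Agent.Helper8.S2546Defs

set_option autoImplicit false
open scoped Matrix

/-! S2546 piece TAU (driver helper8; helper23): the permutations of the simple reflections. -/

namespace Cfsg.Agent.S2546P

open Cfsg.Agent.MatBN

namespace TAU

/-- the values of `tau n j`, as natural numbers -/
def tauNat (n j i : ℕ) : ℕ :=
  if j + 1 < n / 2 then
    (if i = j then j + 1 else if i = j + 1 then j else if i = n - 2 - j then n - 1 - j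
      else if i = n - 1 - j then n - 2 - j else i)
  else if j + 1 = n / 2 then (if i = j then n - 1 - j else if i = n - 1 - j then j else i)
  else i

theorem tau_val (n j : ℕ) (i : Fin n) : ((tau n j i : Fin n) : ℕ) = tauNat n j i := by
  unfold tau tauNat
  by_cases h : j + 1 < n / 2
  · rw [dif_pos h, if_pos h, Equiv.Perm.mul_apply]
    simp only [Equiv.swap_apply_def, Fin.ext_iff]
    split_ifs <;> (try dsimp only at *) <;> omega
  · rw [dif_neg h, if_neg h]
    by_cases h' : j + 1 = n / 2
    · rw [dif_pos h', if_pos h']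
      simp only [Equiv.swap_apply_def, Fin.ext_iff]
      split_ifs <;> dsimp only at *
    · rw [dif_neg h', if_neg h']
      rfl

theorem tauNat_tauNat (n j i : ℕ) (hi : i < n) : tauNat n j (tauNat n j i) = i := by
  unfold tauNat
  split_ifs <;> omega

theorem tauNat_rev (n j i : ℕ) (hi : i < n) :
    tauNat n j (n - (i + 1)) = n - (tauNat n j i + 1) := by
  unfold tauNat
  split_ifs <;> omega

end TAU

open TAU

theorem tau_sq (n j : ℕ) : tau n j * tau n j = 1 := by
  apply Equiv.ext
  intro i
  rw [Equiv.Perm.mul_apply, Equiv.Perm.one_apply]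
  apply Fin.ext
  rw [tau_val, tau_val, tauNat_tauNat n j i i.2]

theorem tau_inj (n : ℕ) {j j' : ℕ} (hj : j < n / 2) (hj' : j' < n / 2) (h : tau n j = tau n j') :
    j = j' := by
  have h1 : ∀ i : Fin n, tauNat n j i = tauNat n j' i := by
    intro i
    rw [← tau_val, ← tau_val, h]
  have hjn : j < n := by omega
  have hjn' : j' < n := by omega
  have e1 := h1 ⟨j, hjn⟩
  have e2 := h1 ⟨j', hjn'⟩
  unfold tauNat at e1 e2
  simp only [] at e1 e2
  split_ifs at e1 e2 <;> omega

theorem tau_rev (n j : ℕ) (i : Fin n) : tau n j i.rev = (tau n j i).rev := by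
  apply Fin.ext
  rw [tau_val, Fin.val_rev, Fin.val_rev, tau_val]
  exact tauNat_rev n j i i.2

end Cfsg.Agent.S2546P
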