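import Mathlib
import Cfsg.Prelude.Def_Classical
import Cfsg.Agent.Helper8.MatBNDefs
import Cfsg.Agent.Helper8.S2546Defs
import Cfsg.Agent.Helper23.S2546TAU

set_option autoImplicit false
open scoped Matrix

/-! S2546 piece DICH (driver helper8; helper23): a permutation commuting with `rev` is monotone or
antitone on the inversion set of `tau n j`. -/

namespace Cfsg.Agent.S2546P

open Cfsg.Agent.MatBN TAU

namespace DICH

/-- the inversions of `tau n j` -/
theorem inversions (n j : ℕ) (hj : j < n / 2) (a c : Fin n) (hac : a < c)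
    (hta : tau n j c < tau n j a) :
    ((a : ℕ) = j ∧ (c : ℕ) = j + 1 ∧ j + 1 < n / 2) ∨
    ((a : ℕ) = n - 2 - j ∧ (c : ℕ) = n - 1 - j ∧ j + 1 < n / 2) ∨
    ((a : ℕ) = j ∧ (c : ℕ) = n - 1 - j ∧ j + 1 = n / 2) ∨
    ((a : ℕ) = j ∧ (c : ℕ) = j + 1 ∧ j + 1 = n / 2 ∧ n = 2 * j + 3) ∨
    ((a : ℕ) = j + 1 ∧ (c : ℕ) = j + 2 ∧ j + 1 = n / 2 ∧ n = 2 * j + 3) := by
  rw [Fin.lt_def] at hac hta
  rw [tau_val, tau_val] at hta
  unfold tauNat at hta
  have := a.2
  have := c.2
  by_cases h : j + 1 < n / 2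
  · rw [if_pos h, if_pos h] at hta
    split_ifs at hta <;>
      first
        | (exfalso; omega)
        | (left; omega)
        | (right; left; omega)
  · have h' : j + 1 = n / 2 := by omega
    rw [if_neg h, if_neg h, if_pos h', if_pos h'] at hta
    split_ifs at hta <;>
      first
        | (exfalso; omega)
        | (right; right; left; omega)
        | (right; right; right; left; omega)
        | (right; right; right; right; omega)

/-- the inverse of a permutation commuting with `rev` commutes with `rev` -/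
theorem inv_rev {n : ℕ} (π : Equiv.Perm (Fin n)) (hπ : ∀ i : Fin n, π i.rev = (π i).rev)
    (i : Fin n) : π⁻¹ i.rev = (π⁻¹ i).rev := by
  rw [Equiv.Perm.inv_eq_iff_eq, hπ]
  congr 1
  exact (π.apply_symm_apply i).symm

end DICH

open DICH

theorem dich (n : ℕ) (π : Equiv.Perm (Fin n)) (hπ : ∀ i : Fin n, π i.rev = (π i).rev) (j : ℕ)
    (hj : j < n / 2) :
    (∀ a c : Fin n, a < c → tau n j c < tau n j a → π⁻¹ a < π⁻¹ c) ∨
      (∀ a c : Fin n, a < c → tau n j c < tau n j a → π⁻¹ c < π⁻¹ a) := by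
  have hψ := inv_rev π hπ
  have hjn : j < n := by omega
  set a0 : Fin n := ⟨j, hjn⟩ with ha0
  by_cases h : j + 1 < n / 2
  · set c0 : Fin n := ⟨j + 1, by omega⟩ with hc0
    have hne : π⁻¹ a0 ≠ π⁻¹ c0 := by
      intro e
      have := congrArg Fin.val (π⁻¹.injective e)
      simp only [ha0, hc0] at this
      omega
    have hcases : ∀ a c : Fin n, a < c → tau n j c < tau n j a →
        (a = a0 ∧ c = c0) ∨ (a = c0.rev ∧ c = a0.rev) := by
      intro a c hac hta
      rcases inversions n j hj a c hac hta with ⟨ha, hc, _⟩ | ⟨ha, hc, _⟩ | ⟨_, _, h3⟩ |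
        ⟨_, _, h3, _⟩ | ⟨_, _, h3, _⟩
      · left
        exact ⟨Fin.ext ha, Fin.ext hc⟩
      · right
        refine ⟨Fin.ext ?_, Fin.ext ?_⟩
        · rw [ha, Fin.val_rev]
          simp only [hc0]
          omega
        · rw [hc, Fin.val_rev]
          simp only [ha0]
          omega
      · omega
      · omega
      · omega
    rcases lt_or_gt_of_ne hne with hlt | hgt
    · left
      intro a c hac hta
      rcases hcases a c hac hta with ⟨rfl, rfl⟩ | ⟨rfl, rfl⟩
      · exact hlt
      · rw [hψ, hψ]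
        exact Fin.rev_lt_rev.mpr hlt
    · right
      intro a c hac hta
      rcases hcases a c hac hta with ⟨rfl, rfl⟩ | ⟨rfl, rfl⟩
      · exact hgt
      · rw [hψ, hψ]
        exact Fin.rev_lt_rev.mpr hgt
  · have h' : j + 1 = n / 2 := by omega
    have hy : ((π⁻¹ a0.rev : Fin n) : ℕ) = n - 1 - ((π⁻¹ a0 : Fin n) : ℕ) := by
      rw [hψ, Fin.val_rev]
      omega
    have hx := (π⁻¹ a0).2
    have hne : ((π⁻¹ a0 : Fin n) : ℕ) ≠ ((π⁻¹ a0.rev : Fin n) : ℕ) := by
      intro e
      have := congrArg Fin.val (π⁻¹.injective (Fin.ext e))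
      rw [Fin.val_rev] at this
      simp only [ha0] at this
      omega
    -- the middle point, for odd `n`
    have hmid : n = 2 * j + 3 → ∀ mid : Fin n, (mid : ℕ) = j + 1 →
        2 * ((π⁻¹ mid : Fin n) : ℕ) + 1 = n := by
      intro hn mid hm
      have e : mid.rev = mid := by
        apply Fin.ext
        rw [Fin.val_rev, hm]
        omega
      have := congrArg Fin.val (hψ mid)
      rw [e, Fin.val_rev] at this
      have := (π⁻¹ mid).2
      omega
    have hcases : ∀ a c : Fin n, a < c → tau n j c < tau n j a →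
        (a = a0 ∧ c = a0.rev) ∨
        (n = 2 * j + 3 ∧ a = a0 ∧ (c : ℕ) = j + 1) ∨
        (n = 2 * j + 3 ∧ (a : ℕ) = j + 1 ∧ c = a0.rev) := by
      intro a c hac hta
      rcases inversions n j hj a c hac hta with ⟨_, _, h3⟩ | ⟨_, _, h3⟩ | ⟨ha, hc, _⟩ |
        ⟨ha, hc, _, hn⟩ | ⟨ha, hc, _, hn⟩
      · omega
      · omega
      · left
        refine ⟨Fin.ext ha, Fin.ext ?_⟩
        rw [hc, Fin.val_rev]
        simp only [ha0]
        omega
      · right; left
        exact ⟨hn, Fin.ext ha, hc⟩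
      · right; right
        refine ⟨hn, ha, Fin.ext ?_⟩
        rw [hc, Fin.val_rev]
        simp only [ha0]
        omega
    rcases lt_or_gt_of_ne hne with hlt | hgt
    · left
      intro a c hac hta
      rw [Fin.lt_def]
      rcases hcases a c hac hta with ⟨rfl, rfl⟩ | ⟨hn, rfl, hc⟩ | ⟨hn, ha, rfl⟩
      · exact hlt
      · have := hmid hn c hc
        omega
      · have := hmid hn a ha
        omega
    · right
      intro a c hac hta
      rw [Fin.lt_def]
      rcases hcases a c hac hta with ⟨rfl, rfl⟩ | ⟨hn, rfl, hc⟩ | ⟨hn, ha, rfl⟩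
      · exact hgt
      · have := hmid hn c hc
        omega
      · have := hmid hn a ha
        omega

end Cfsg.Agent.S2546P
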