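import Mathlib
import Cfsg.Prelude.Def_Classical
import Cfsg.Agent.Helper8.MatBNDefs
import Cfsg.Agent.Helper8.S2546Defs
import Cfsg.Agent.Helper17.S2546PRES
import Cfsg.Agent.Helper17.S2546XMEM
import Cfsg.Agent.Helper17.S2546SMEM
import Cfsg.Agent.Helper23.S2546MONALG
import Cfsg.Agent.Helper23.S2546TAU
import Cfsg.Agent.Helper23.S2546DICH

set_option autoImplicit false
open scoped Matrix

/-! S2546 piece HAL (driver helper8; helper23): `B = (B ∩ s⁻¹ B s) X` for the nodes of linear type. -/

namespace Cfsg.Agent.S2546P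

open Cfsg.Agent.MatBN

variable {K : Type*} [Field K]

namespace HAL

theorem tau_tau (n j : ℕ) (i : Fin n) : tau n j (tau n j i) = i := by
  have := congrArg (fun f : Equiv.Perm (Fin n) => f i) (tau_sq n j)
  simpa [Equiv.Perm.mul_apply] using this

theorem tau_inv (n j : ℕ) : (tau n j)⁻¹ = tau n j := by
  rw [inv_eq_iff_mul_eq_one, tau_sq]

theorem rho_mul_inv (σ : K →+* K) (n : ℕ) (g : SUJ σ n) : rho σ n g * rho σ n g⁻¹ = 1 := by
  rw [← map_mul, mul_inv_cancel, map_one]

/-- right multiplication by a matrix unit -/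
theorem mul_E_apply {n : ℕ} (A : Matrix (Fin n) (Fin n) K) (i k : ℕ) (hi : i < n) (hk : k < n)
    (a c : Fin n) :
    (A * (E n i k : Matrix (Fin n) (Fin n) K)) a c = if (c : ℕ) = k then A a ⟨i, hi⟩ else 0 := by
  rw [JC.E_eq_single i k hi hk]
  by_cases h : (c : ℕ) = k
  · have hc : c = ⟨k, hk⟩ := Fin.ext h
    rw [if_pos h, hc, Matrix.mul_single_apply_same, mul_one]
  · rw [if_neg h, Matrix.mul_single_apply_of_ne, ]
    intro hc
    apply h
    rw [hc]

/-- the collapse of the isometry relation for an upper triangular matrix, diagonal case -/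
theorem presJ_tri_diag {σ : K →+* K} {n : ℕ} {B : Matrix (Fin n) (Fin n) K} (hP : PresJ σ n B)
    (hT : IsTri B) (a : Fin n) : B a a * σ (B a.rev a.rev) = 1 := by
  have h := hP a a.rev
  rw [if_pos rfl] at h
  rw [← h]
  symm
  apply Finset.sum_eq_single
  · intro i _ hia
    rcases lt_or_gt_of_ne hia with hlt | hgt
    · have : B i.rev a.rev = 0 := hT _ _ (Fin.rev_lt_rev.mpr hlt)
      rw [this, map_zero, mul_zero]
    · rw [hT i a hgt, zero_mul]
  · intro h
    exact absurd (Finset.mem_univ _) h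

/-- the collapse of the isometry relation for an upper triangular matrix, adjacent case -/
theorem presJ_tri_adj {σ : K →+* K} {n : ℕ} {B : Matrix (Fin n) (Fin n) K} (hP : PresJ σ n B)
    (hT : IsTri B) (a a' : Fin n) (haa' : (a' : ℕ) = a + 1) :
    B a a' * σ (B a.rev a.rev) + B a' a' * σ (B a'.rev a.rev) = 0 := by
  have hne : a ≠ a' := by
    intro e
    rw [e] at haa'
    omega
  have h := hP a' a.rev
  rw [if_neg (fun e => hne (Fin.rev_injective e))] at h
  rw [← h]
  symm
  apply Finset.sum_eq_add a a' hne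
  · intro i _ hi
    by_cases hlt : i < a
    · have : B i.rev a.rev = 0 := hT _ _ (Fin.rev_lt_rev.mpr hlt)
      rw [this, map_zero, mul_zero]
    · have hgt : a' < i := by
        rw [Fin.lt_def]
        have h1 : (i : ℕ) ≠ a := fun e => hi.1 (Fin.ext e)
        have h2 : (i : ℕ) ≠ a' := fun e => hi.2 (Fin.ext e)
        rw [Fin.lt_def] at hlt
        omega
      rw [hT i a' hgt, zero_mul]
  · intro h
    exact absurd (Finset.mem_univ _) h
  · intro h
    exact absurd (Finset.mem_univ _) h

end HAL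

open HAL

theorem ha_L (σ : K →+* K) (hσ : ∀ x, σ (σ x) = x) (n j : ℕ) (hj : j + 1 < n / 2) (s : SUJ σ n)
    (hs : rho σ n s = pMat n (tau n j)) (b : SUJ σ n) (hb : IsTri (rho σ n b)) :
    ∃ x ∈ Xset σ n j, IsTri (rho σ n (s * (b * x⁻¹) * s⁻¹)) := by
  have h1 : j < n := by omega
  have h2 : j + 1 < n := by omega
  have h3 : n - 2 - j < n := by omega
  have h4 : n - 1 - j < n := by omega
  set B := rho σ n b with hB
  have hP : PresJ σ n B := presJ_of_mem σ n b
  set aj : Fin n := ⟨j, h1⟩ with haj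
  set aj1 : Fin n := ⟨j + 1, h2⟩ with haj1
  have hrevj : aj.rev = ⟨n - 1 - j, h4⟩ := JC.rev_mk _ _
  have hrevj1 : aj1.rev = ⟨n - 2 - j, h3⟩ := by
    rw [JC.rev_mk]
    apply Fin.ext
    show n - 1 - (j + 1) = n - 2 - j
    omega
  -- the relations among the entries of `B`
  have R1 := presJ_tri_diag hP hb aj
  have R2 := presJ_tri_diag hP hb aj1
  have R3 := presJ_tri_adj hP hb aj aj1 rfl
  set p := B aj aj with hp
  set q := B aj aj1 with hq
  set r := B aj1 aj1 with hr
  have hp0 : p ≠ 0 := left_ne_zero_of_mul_eq_one R1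
  have hr0 : r ≠ 0 := left_ne_zero_of_mul_eq_one R2
  set t : K := q / p with ht
  have hrel : B aj1.rev aj.rev + σ t * B aj1.rev aj1.rev = 0 := by
    have e1 : σ (B aj.rev aj.rev) = p⁻¹ := eq_inv_of_mul_eq_one_right R1
    have e2 : σ (B aj1.rev aj1.rev) = r⁻¹ := eq_inv_of_mul_eq_one_right R2
    rw [e1] at R3
    have hinj : Function.Injective σ := σ.injective
    apply hinj
    rw [map_zero, map_add, map_mul, hσ, e2]
    calc σ (B aj1.rev aj.rev) + t * r⁻¹ = r⁻¹ * (q * p⁻¹ + r * σ (B aj1.rev aj.rev)) := by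
          rw [ht]
          field_simp
          ring
      _ = 0 := by rw [R3, mul_zero]
  -- the root element
  obtain ⟨hPx, hdx⟩ := presJ_xL σ hσ n j hj t
  obtain ⟨x, hx⟩ := exists_of_presJ σ n (xL σ n j t) hdx hPx
  have hxX : x ∈ Xset σ n j := by
    show rho σ n x ∈ XMat σ n j
    unfold XMat
    rw [if_pos hj]
    exact ⟨t, hx⟩
  refine ⟨x, hxX, ?_⟩
  -- `A = B * X⁻¹` is upper triangular, with two more vanishing entries
  set A := rho σ n (b * x⁻¹) with hA
  have hXtri : IsTri (rho σ n x) := by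
    rw [hx]
    have : xL σ n j t = 1 + (t • E n j (j + 1) - σ t • E n (n - 2 - j) (n - 1 - j)) := by
      unfold xL; rw [add_sub_assoc]
    rw [this]
    apply (JC.isUni_one_add _ _).1
    intro a c hca
    rw [Matrix.sub_apply, Matrix.smul_apply, Matrix.smul_apply,
      JC.E_apply_of_le _ _ (by omega) _ _ hca, JC.E_apply_of_le _ _ (by omega) _ _ hca, smul_zero,
      smul_zero, sub_zero]
  have hAtri : IsTri A := by
    rw [hA, map_mul]
    exact IsTri.mul hb (IsTri.of_mul_eq_one hXtri (rho_mul_inv σ n x))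
  have hAX : A * xL σ n j t = B := by
    rw [hA, ← hx, ← map_mul, inv_mul_cancel_right]
  have hentry : ∀ a c : Fin n, B a c = A a c + (if (c : ℕ) = j + 1 then t * A a aj else 0) -
      (if (c : ℕ) = n - 1 - j then σ t * A a aj1.rev else 0) := by
    intro a c
    rw [← hAX]
    unfold xL
    rw [mul_sub, mul_add, mul_one, Matrix.mul_smul, Matrix.mul_smul, Matrix.sub_apply,
      Matrix.add_apply, Matrix.smul_apply, Matrix.smul_apply, mul_E_apply A j (j + 1) h1 h2,
      mul_E_apply A (n - 2 - j) (n - 1 - j) h3 h4, hrevj1]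
    simp only [smul_eq_mul, mul_ite, mul_zero]
    rfl
  have hA1 : A aj aj1 = 0 := by
    have e1 := hentry aj aj
    have e2 := hentry aj aj1
    rw [if_neg (by simp [haj]), if_neg (by simp [haj]; omega), add_zero, sub_zero] at e1
    rw [if_pos (by simp [haj1]), if_neg (by simp [haj1]; omega), sub_zero] at e2
    have : q = A aj aj1 + t * p := by rw [hq, hp, e2, e1]
    have h5 : t * p = q := by rw [ht, div_mul_cancel₀ q hp0]
    rw [h5] at this
    linear_combination -this
  have hA2 : A aj1.rev aj.rev = 0 := by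
    have e1 := hentry aj1.rev aj1.rev
    have e2 := hentry aj1.rev aj.rev
    rw [if_neg (by rw [hrevj1]; simp; omega), if_neg (by rw [hrevj1]; simp; omega), add_zero,
      sub_zero] at e1
    rw [if_neg (by rw [hrevj]; simp; omega), if_pos (by rw [hrevj]), add_zero] at e2
    rw [e2, e1] at hrel
    linear_combination hrel
  -- conjugation by the permutation matrix
  have hMon : Mon (rho σ n s) (tau n j) := by
    rw [hs]
    exact (presJ_pMat_tau σ n j hj).2.2
  have hj' : j < n / 2 := by omega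
  rw [map_mul, map_mul]
  intro a c hca
  by_contra h0
  have h5 := (Mon.conj_apply_ne_zero_iff (A := rho σ n (b * x⁻¹)) hMon (rho_mul_inv σ n s) a c).mp h0
  rw [tau_inv] at h5
  apply h5
  rcases lt_trichotomy (tau n j a) (tau n j c) with hlt | heq | hgt
  · -- an inversion of `tau`
    have hinv : tau n j (tau n j c) < tau n j (tau n j a) := by
      rw [tau_tau, tau_tau]
      exact hca
    rcases DICH.inversions n j hj' _ _ hlt hinv with ⟨ha, hc, _⟩ | ⟨ha, hc, _⟩ | ⟨_, _, h6⟩ |
      ⟨_, _, h6, _⟩ | ⟨_, _, h6, _⟩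
    · have e1 : tau n j a = aj := Fin.ext ha
      have e2 : tau n j c = aj1 := Fin.ext hc
      rw [e1, e2]
      exact hA1
    · have e1 : tau n j a = aj1.rev := by rw [hrevj1]; exact Fin.ext ha
      have e2 : tau n j c = aj.rev := by rw [hrevj]; exact Fin.ext hc
      rw [e1, e2]
      exact hA2
    · omega
    · omega
    · omega
  · exact absurd ((tau n j).injective heq) (ne_of_gt hca)
  · exact hAtri _ _ hgt

end Cfsg.Agent.S2546P
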