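import Mathlib
import Cfsg.Agent.Helper10.S2548Defs

set_option autoImplicit false
open scoped Matrix

/-! # S2548 piece TAU (driver helper10; helper23): the permutations of the simple reflections of `D_m`. -/

namespace Cfsg.Agent.S2548P

open Cfsg.Agent.MatBN
open Cfsg.Agent.S2546P (E)

variable {K : Type*} [Field K] {n : ℕ}

namespace TAU

/-- the values of `tauIK n i k`, as natural numbers -/
def tv (n i k x : ℕ) : ℕ :=
  if x = i then k else if x = k then i else if x = n - 1 - i then n - 1 - k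
    else if x = n - 1 - k then n - 1 - i else x

theorem tauIK_val (hn : n % 2 = 0) {i k : ℕ} (h : IsRt n i k) (x : Fin n) :
    (tauIK n i k x).val = tv n i k x.val := by
  obtain ⟨h1, h2, h3, h4⟩ := h
  have hx := x.2
  unfold tauIK tv
  rw [dif_pos ⟨h1, h2⟩, Equiv.Perm.mul_apply]
  simp only [Equiv.swap_apply_def, Fin.ext_iff]
  split_ifs <;> (try dsimp only at *) <;> omega

theorem isRt_node' (hn : n % 2 = 0) (hn4 : 4 ≤ n) {j : ℕ} (hj : j < n / 2) :
    IsRt n (nodeI n j) (nodeK n j) := by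
  unfold IsRt nodeI nodeK
  split_ifs <;> omega

theorem tau_val (hn : n % 2 = 0) (hn4 : 4 ≤ n) {j : ℕ} (hj : j < n / 2) (x : Fin n) :
    (tau n j x).val = tv n (nodeI n j) (nodeK n j) x.val :=
  tauIK_val hn (isRt_node' hn hn4 hj) x

theorem tau_sq (hn : n % 2 = 0) (hn4 : 4 ≤ n) {j : ℕ} (hj : j < n / 2) : tau n j * tau n j = 1 := by
  apply Equiv.ext
  intro x
  rw [Equiv.Perm.mul_apply, Equiv.Perm.one_apply]
  apply Fin.ext
  rw [tau_val hn hn4 hj, tau_val hn hn4 hj]
  have hx := x.2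
  obtain ⟨h1, h2, h3, h4⟩ := isRt_node' hn hn4 hj
  unfold tv
  split_ifs <;> omega

theorem tau_inj (hn : n % 2 = 0) (hn4 : 4 ≤ n) {j j' : ℕ} (hj : j < n / 2) (hj' : j' < n / 2)
    (h : tau n j = tau n j') : j = j' := by
  have hI : nodeI n j < n := (isRt_node' hn hn4 hj).1
  have h1 := congrArg (fun π : Equiv.Perm (Fin n) => (π ⟨nodeI n j, hI⟩).val) h
  rw [tau_val hn hn4 hj, tau_val hn hn4 hj'] at h1
  unfold tv nodeI nodeK at h1
  dsimp only at h1
  split_ifs at h1 <;> omega

end TAU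

end Cfsg.Agent.S2548P
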