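import Mathlib
import Cfsg.Agent.Helper10.S2548Defs
import Cfsg.Agent.Helper10.S2548PRES
import Cfsg.Agent.Helper17.S2548SUPP
import Cfsg.Agent.Helper17.S2546JCalc
import Cfsg.Agent.Helper23.S2546MONALG
import Cfsg.Agent.Helper23.S2546HAL
import Cfsg.Agent.Helper23.S2548TAU
import Cfsg.Agent.Helper19.S2548WMON

set_option autoImplicit false
open scoped Matrix

/-! # S2548 piece HAL (driver helper10; helper23): the axiom `ha` for the nodes of linear type. -/

namespace Cfsg.Agent.S2548P

open Cfsg.Agent.MatBN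
open Cfsg.Agent.S2546P (E)

variable {K : Type*} [Field K] {n : ℕ}

namespace HAL

theorem mat_mul_inv (g : OJ K n) : mat n g * mat n g⁻¹ = 1 := by
  rw [← map_mul, mul_inv_cancel, map_one]

/-- the collapse of the isometry relation for an upper triangular matrix, diagonal case -/
theorem presQ_tri_diag (hn : n % 2 = 0) {B : Matrix (Fin n) (Fin n) K} (hP : PresQ n B)
    (hT : IsTri B) (a : Fin n) : B a a * B a.rev a.rev = 1 := by
  have hne : a ≠ a.rev := by
    intro e
    have := congrArg Fin.val e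
    rw [Fin.val_rev] at this
    have := a.2
    omega
  have h := hP.2 a a.rev hne
  rw [if_pos rfl] at h
  rw [← h]
  symm
  apply Finset.sum_eq_single
  · intro i _ hia
    rcases lt_or_gt_of_ne hia with hlt | hgt
    · have : B i.rev a.rev = 0 := hT _ _ (Fin.rev_lt_rev.mpr hlt)
      rw [this, mul_zero]
    · rw [hT i a hgt, zero_mul]
  · intro h
    exact absurd (Finset.mem_univ _) h

/-- the collapse of the isometry relation for an upper triangular matrix, adjacent case -/
theorem presQ_tri_adj {B : Matrix (Fin n) (Fin n) K} (hP : PresQ n B)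
    (hT : IsTri B) (a a' : Fin n) (haa' : (a' : ℕ) = a + 1) (hne' : a' ≠ a.rev) :
    B a a' * B a.rev a.rev + B a' a' * B a'.rev a.rev = 0 := by
  have hne : a ≠ a' := by
    intro e
    rw [e] at haa'
    omega
  have h := hP.2 a' a.rev hne'
  rw [if_neg (fun e => hne (Fin.rev_injective e))] at h
  rw [← h]
  symm
  apply Finset.sum_eq_add a a' hne
  · intro i _ hi
    by_cases hlt : i < a
    · have : B i.rev a.rev = 0 := hT _ _ (Fin.rev_lt_rev.mpr hlt)
      rw [this, mul_zero]
    · have hgt : a' < i := by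
        rw [Fin.lt_def]
        have h1 : (i : ℕ) ≠ a := fun e => hi.1 (Fin.ext e)
        have h2 : (i : ℕ) ≠ a' := fun e => hi.2 (Fin.ext e)
        rw [Fin.lt_def] at hlt
        omega
      rw [hT i a' hgt, zero_mul]
  · intro h
    exact absurd (Finset.mem_univ _) h
  · intro h
    exact absurd (Finset.mem_univ _) h

theorem tauIK_sq (hn : n % 2 = 0) {i k : ℕ} (h : IsRt n i k) : tauIK n i k * tauIK n i k = 1 := by
  apply Equiv.ext
  intro x
  rw [Equiv.Perm.mul_apply, Equiv.Perm.one_apply]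
  apply Fin.ext
  rw [TAU.tauIK_val hn h, TAU.tauIK_val hn h]
  have hx := x.2
  obtain ⟨h1, h2, h3, h4⟩ := h
  unfold TAU.tv
  split_ifs <;> omega

theorem tauIK_inv (hn : n % 2 = 0) {i k : ℕ} (h : IsRt n i k) : (tauIK n i k)⁻¹ = tauIK n i k := by
  rw [inv_eq_iff_mul_eq_one, tauIK_sq hn h]

theorem tauIK_tauIK (hn : n % 2 = 0) {i k : ℕ} (h : IsRt n i k) (x : Fin n) :
    tauIK n i k (tauIK n i k x) = x := by
  have := congrArg (fun f : Equiv.Perm (Fin n) => f x) (tauIK_sq hn h)
  simpa [Equiv.Perm.mul_apply] using this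

/-- the inversions of `tauIK n j (j + 1)` -/
theorem inversions (hn : n % 2 = 0) {j : ℕ} (hj : j + 1 < n / 2) (a c : Fin n)
    (hlt : a < c) (hinv : tauIK n j (j + 1) c < tauIK n j (j + 1) a) :
    (a.val = j ∧ c.val = j + 1) ∨ (a.val = n - 2 - j ∧ c.val = n - 1 - j) := by
  have h : IsRt n j (j + 1) := ⟨by omega, by omega, by omega, by omega⟩
  rw [Fin.lt_def] at hlt hinv
  rw [TAU.tauIK_val hn h, TAU.tauIK_val hn h] at hinv
  have ha := a.2
  have hc := c.2
  unfold TAU.tv at hinv
  split_ifs at hinv <;> omega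

theorem ha_lin (hn : n % 2 = 0) (hn4 : 4 ≤ n) {j : ℕ} (hj : j + 1 < n / 2) (b : OJ K n)
    (hb : IsTri (mat n b)) :
    ∃ t : K, ∀ s x : OJ K n, mat n s = wM n j (j + 1) → mat n x = xR n j (j + 1) t →
      IsTri (mat n (s * (b * x⁻¹) * s⁻¹)) := by
  have h1 : j < n := by omega
  have h2 : j + 1 < n := by omega
  have h3 : n - 2 - j < n := by omega
  have h4 : n - 1 - j < n := by omega
  have hRt : IsRt n j (j + 1) := ⟨h1, h2, by omega, by omega⟩
  set B := mat n b with hB
  have hP : PresQ n B := PRES.presQ_of_mem hn b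
  set aj : Fin n := ⟨j, h1⟩ with haj
  set aj1 : Fin n := ⟨j + 1, h2⟩ with haj1
  have hrevj : aj.rev = ⟨n - 1 - j, h4⟩ := Cfsg.Agent.S2546P.JC.rev_mk _ _
  have hrevj1 : aj1.rev = ⟨n - 2 - j, h3⟩ := by
    rw [Cfsg.Agent.S2546P.JC.rev_mk]
    apply Fin.ext
    show n - 1 - (j + 1) = n - 2 - j
    omega
  have hne' : aj1 ≠ aj.rev := by
    rw [hrevj]
    intro e
    have := congrArg Fin.val e
    simp only [haj1] at this
    omega
  -- the relations among the entries of `B`
  have R1 := presQ_tri_diag hn hP hb aj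
  have R2 := presQ_tri_diag hn hP hb aj1
  have R3 := presQ_tri_adj hP hb aj aj1 rfl hne'
  set p := B aj aj with hp
  set q := B aj aj1 with hq
  set r := B aj1 aj1 with hr
  have hp0 : p ≠ 0 := left_ne_zero_of_mul_eq_one R1
  have hr0 : r ≠ 0 := left_ne_zero_of_mul_eq_one R2
  set t : K := q / p with ht
  have hrel : B aj1.rev aj.rev + t * B aj1.rev aj1.rev = 0 := by
    have e1 : B aj.rev aj.rev = p⁻¹ := eq_inv_of_mul_eq_one_right R1
    have e2 : B aj1.rev aj1.rev = r⁻¹ := eq_inv_of_mul_eq_one_right R2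
    rw [e1] at R3
    rw [e2]
    calc B aj1.rev aj.rev + t * r⁻¹ = r⁻¹ * (q * p⁻¹ + r * B aj1.rev aj.rev) := by
          rw [ht]
          field_simp
          ring
      _ = 0 := by rw [R3, mul_zero]
  refine ⟨t, ?_⟩
  intro s x hs hx
  -- `A = B * X⁻¹` is upper triangular, with two more vanishing entries
  set A := mat n (b * x⁻¹) with hA
  have hXtri : IsTri (mat n x) := by
    rw [hx]
    exact (SUPP.isUni_xR hn hRt (by omega) t).1
  have hAtri : IsTri A := by
    rw [hA, map_mul]
    exact IsTri.mul hb (IsTri.of_mul_eq_one hXtri (mat_mul_inv x))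
  have hAX : A * xR n j (j + 1) t = B := by
    rw [hA, ← hx, ← map_mul, inv_mul_cancel_right]
  have hentry : ∀ a c : Fin n, B a c = A a c + (if (c : ℕ) = j + 1 then t * A a aj else 0) -
      (if (c : ℕ) = n - 1 - j then t * A a aj1.rev else 0) := by
    intro a c
    rw [← hAX]
    unfold xR
    have e : n - 1 - (j + 1) = n - 2 - j := by omega
    rw [e, mul_sub, mul_add, mul_one, Matrix.mul_smul, Matrix.mul_smul, Matrix.sub_apply,
      Matrix.add_apply, Matrix.smul_apply, Matrix.smul_apply,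
      Cfsg.Agent.S2546P.HAL.mul_E_apply A j (j + 1) h1 h2,
      Cfsg.Agent.S2546P.HAL.mul_E_apply A (n - 2 - j) (n - 1 - j) h3 h4, hrevj1]
    simp only [smul_eq_mul, mul_ite, mul_zero]
    rfl
  have hA1 : A aj aj1 = 0 := by
    have e1 := hentry aj aj
    have e2 := hentry aj aj1
    rw [if_neg (by simp [haj]), if_neg (by simp [haj]; omega), add_zero, sub_zero] at e1
    rw [if_pos (by simp [haj1]), if_neg (by simp [haj1]; omega), sub_zero] at e2
    have : q = A aj aj1 + t * p := by rw [hq, hp, e2, e1]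
    have h5 : t * p = q := by rw [ht, div_mul_cancel₀ q hp0]
    rw [h5] at this
    linear_combination -this
  have hA2 : A aj1.rev aj.rev = 0 := by
    have e1 := hentry aj1.rev aj1.rev
    have e2 := hentry aj1.rev aj.rev
    rw [if_neg (by rw [hrevj1]; simp; omega), if_neg (by rw [hrevj1]; simp; omega), add_zero,
      sub_zero] at e1
    rw [if_neg (by rw [hrevj]; simp; omega), if_pos (by rw [hrevj]), add_zero] at e2
    rw [e2, e1] at hrel
    linear_combination hrel
  -- conjugation by the monomial matrix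
  have hMon : Mon (mat n s) (tauIK n j (j + 1)) := by
    rw [hs]
    exact WMON.mon_wM hn hRt
  rw [map_mul, map_mul]
  intro a c hca
  by_contra h0
  have h5 := (Mon.conj_apply_ne_zero_iff (A := mat n (b * x⁻¹)) hMon (mat_mul_inv s) a c).mp h0
  rw [tauIK_inv hn hRt] at h5
  apply h5
  rcases lt_trichotomy (tauIK n j (j + 1) a) (tauIK n j (j + 1) c) with hlt | heq | hgt
  · -- an inversion of `tau`
    have hinv : tauIK n j (j + 1) (tauIK n j (j + 1) c) < tauIK n j (j + 1) (tauIK n j (j + 1) a) := by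
      rw [tauIK_tauIK hn hRt, tauIK_tauIK hn hRt]
      exact hca
    rcases inversions hn hj _ _ hlt hinv with ⟨ha, hc⟩ | ⟨ha, hc⟩
    · have e1 : tauIK n j (j + 1) a = aj := Fin.ext ha
      have e2 : tauIK n j (j + 1) c = aj1 := Fin.ext hc
      rw [e1, e2]
      exact hA1
    · have e1 : tauIK n j (j + 1) a = aj1.rev := by rw [hrevj1]; exact Fin.ext ha
      have e2 : tauIK n j (j + 1) c = aj.rev := by rw [hrevj]; exact Fin.ext hc
      rw [e1, e2]
      exact hA2
  · exact absurd ((tauIK n j (j + 1)).injective heq) (ne_of_gt hca)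
  · exact hAtri _ _ hgt

end HAL

end Cfsg.Agent.S2548P
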