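import Mathlib
import Cfsg.Agent.Helper16.S3174Defs

/-! # S3174, piece MSUB: the subgroup `M = C_T(Z_2)`. -/

set_option autoImplicit false

namespace Cfsg.Agent.S3174P

open scoped commutatorElement

variable {T : Type*} [Group T] [Finite T]

set_option linter.unusedSectionVars false

/-- a subgroup of index 2 inside `B`: two cosets -/
theorem msub_aux_idx2 (A B : Subgroup T) (hAB : A ≤ B)
    (hcard : Nat.card ↥B = 2 * Nat.card ↥A) (b : T) (hb : b ∈ B) (hbA : b ∉ A) :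
    ∀ y ∈ B, y ∈ A ∨ b⁻¹ * y ∈ A := by
  have hidx : (A.subgroupOf B).index = 2 := by
    have h1 := (A.subgroupOf B).card_mul_index
    have h2 : Nat.card ↥(A.subgroupOf B) = Nat.card ↥A :=
      Nat.card_congr (Subgroup.subgroupOfEquivOfLe hAB).toEquiv
    rw [h2, hcard] at h1
    have hpos : 0 < Nat.card ↥A := Nat.card_pos
    have h3 : Nat.card ↥A * (A.subgroupOf B).index = Nat.card ↥A * 2 := by rw [h1]; ring
    exact Nat.eq_of_mul_eq_mul_left hpos h3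
  intro y hy
  by_cases hyA : y ∈ A
  · exact Or.inl hyA
  · right
    have h := Subgroup.mul_mem_iff_of_index_two hidx (a := (⟨b, hb⟩ : ↥B)⁻¹) (b := (⟨y, hy⟩ : ↥B))
    have h1 : ((⟨b, hb⟩ : ↥B)⁻¹ ∈ A.subgroupOf B ↔ (⟨y, hy⟩ : ↥B) ∈ A.subgroupOf B) := by
      rw [Subgroup.inv_mem_iff, Subgroup.mem_subgroupOf, Subgroup.mem_subgroupOf]
      exact ⟨fun h => absurd h hbA, fun h => absurd h hyA⟩
    have h2 := h.mpr h1
    rw [Subgroup.mem_subgroupOf] at h2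
    simpa using h2

/-- elements of an exponent-2 subgroup commute -/
theorem msub_aux_comm (Z : Subgroup T) (hex : ∀ z ∈ Z, z ^ 2 = 1) (a b : T) (ha : a ∈ Z) (hb : b ∈ Z) :
    a * b = b * a := by
  have h1 := hex a ha
  have h2 := hex b hb
  have h3 := hex (a * b) (Z.mul_mem ha hb)
  have ha' : a⁻¹ = a := by rw [inv_eq_iff_mul_eq_one, ← pow_two]; exact h1
  have hb' : b⁻¹ = b := by rw [inv_eq_iff_mul_eq_one, ← pow_two]; exact h2
  have hab' : (a * b)⁻¹ = a * b := by rw [inv_eq_iff_mul_eq_one, ← pow_two]; exact h3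
  rw [← hab', mul_inv_rev, ha', hb']

/-- MSUB -/
theorem msub {W : Subgroup T} (c : Cfg T W) :
    W ≤ Mc T ∧ (Mc T).index = 2 ∧ (∀ t ∈ Mc T, t * t ∈ W) ∧ (∀ t ∈ Mc T, ∀ t' ∈ Mc T, ⁅t, t'⁆ ∈ W) ∧
    (∀ t ∈ Mc T, t ∉ W → ∀ z ∈ Zi T 3, t * z * t⁻¹ = z → z ∈ Zi T 2) ∧
    ∃ t ∈ Mc T, ∃ t' ∈ Mc T, t ∉ W ∧ t' ∉ W ∧ t⁻¹ * t' ∉ W := by
  classical
  have h12 : Zi T 1 ≤ Zi T 2 := Subgroup.upperCentralSeries_mono T (by norm_num)
  have h23 : Zi T 2 ≤ Zi T 3 := Subgroup.upperCentralSeries_mono T (by norm_num)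
  have hZ3n : (Zi T 3).Normal := inferInstance
  -- membership in `W`, `M`
  have hWmem : ∀ t : T, t ∈ W ↔ ∀ z ∈ Zi T 3, z * t = t * z := by
    intro t; rw [c.hW, Subgroup.mem_centralizer_iff]; rfl
  have hMmem : ∀ t : T, t ∈ Mc T ↔ ∀ z ∈ Zi T 2, z * t = t * z := by
    intro t; rw [Subgroup.mem_centralizer_iff]; rfl
  have hWM : W ≤ Mc T := by
    intro t ht
    rw [hMmem]
    intro z hz
    exact (hWmem t).mp ht z (h23 hz)
  -- `Z_1` is central
  have hcen : ∀ z ∈ Zi T 1, ∀ g : T, g * z = z * g := by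
    intro z hz g
    have : z ∈ Subgroup.center T := by rwa [← Subgroup.upperCentralSeries_one]
    exact Subgroup.mem_center_iff.mp this g
  -- commutators
  have hcomm32 : ∀ z ∈ Zi T 3, ∀ g : T, g * z * g⁻¹ * z⁻¹ ∈ Zi T 2 := by
    intro z hz g
    have h1 : ⁅z, g⁆ ∈ Zi T 2 := Subgroup.mem_upperCentralSeries_succ_iff.mp hz g
    have h2 : g * z * g⁻¹ * z⁻¹ = (⁅z, g⁆)⁻¹ := by rw [commutatorElement_def]; group
    rw [h2]; exact (Zi T 2).inv_mem h1
  have hcomm21 : ∀ z ∈ Zi T 2, ∀ g : T, g * z * g⁻¹ * z⁻¹ ∈ Zi T 1 := by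
    intro z hz g
    have h1 : ⁅z, g⁆ ∈ Zi T 1 := Subgroup.mem_upperCentralSeries_succ_iff.mp hz g
    have h2 : g * z * g⁻¹ * z⁻¹ = (⁅z, g⁆)⁻¹ := by rw [commutatorElement_def]; group
    rw [h2]; exact (Zi T 1).inv_mem h1
  have hab3 : ∀ a ∈ Zi T 3, ∀ b ∈ Zi T 3, a * b = b * a :=
    fun a ha b hb => msub_aux_comm (Zi T 3) c.ex a b ha hb
  -- the nontrivial element of `Z_1`
  obtain ⟨z₁, hz₁, hz₁ne⟩ : ∃ z₁ ∈ Zi T 1, z₁ ≠ 1 := by
    by_contra hcon
    push Not at hcon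
    have : Zi T 1 = ⊥ := by
      rw [eq_bot_iff]; intro z hz; rw [Subgroup.mem_bot]; exact hcon z hz
    have h1 := c.c1
    rw [this, Subgroup.card_bot] at h1
    omega
  have hZ1 : ∀ z ∈ Zi T 1, z = 1 ∨ z = z₁ := by
    intro z hz
    have h := msub_aux_idx2 (⊥ : Subgroup T) (Zi T 1) bot_le (by rw [c.c1, Subgroup.card_bot]) z₁ hz₁
      (by rw [Subgroup.mem_bot]; exact hz₁ne) z hz
    rcases h with h | h
    · left; exact Subgroup.mem_bot.mp h
    · right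
      have := Subgroup.mem_bot.mp h
      exact (inv_mul_eq_one.mp this).symm
  have hz₁sq : z₁ * z₁ = 1 := by
    have := c.ex z₁ (h23 (h12 hz₁))
    rwa [pow_two] at this
  -- an element `x₂ ∈ Z_2 ∖ Z_1`
  obtain ⟨x₂, hx₂, hx₂n⟩ : ∃ x₂ ∈ Zi T 2, x₂ ∉ Zi T 1 := by
    by_contra hcon
    push Not at hcon
    have hle : Zi T 2 ≤ Zi T 1 := hcon
    have := Subgroup.card_le_of_le hle
    rw [c.c1, c.c2] at this
    omega
  have hZ2 : ∀ y ∈ Zi T 2, y ∈ Zi T 1 ∨ x₂⁻¹ * y ∈ Zi T 1 :=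
    msub_aux_idx2 (Zi T 1) (Zi T 2) h12 (by rw [c.c1, c.c2]) x₂ hx₂ hx₂n
  -- `t ∈ M ↔ [t, x₂] = 1`
  have hMx : ∀ t : T, t ∈ Mc T ↔ t * x₂ * t⁻¹ * x₂⁻¹ = 1 := by
    intro t
    constructor
    · intro ht
      have := (hMmem t).mp ht x₂ hx₂
      rw [← this]; group
    · intro ht
      have htx : x₂ * t = t * x₂ := by
        have : t * x₂ = (t * x₂ * t⁻¹ * x₂⁻¹) * (x₂ * t) := by group
        rw [this, ht, one_mul]
      rw [hMmem]
      intro y hy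
      rcases hZ2 y hy with h | h
      · exact (hcen y h t).symm
      · have hy' : y = x₂ * (x₂⁻¹ * y) := by group
        rw [hy', mul_assoc, ← hcen _ h t, ← mul_assoc, htx, mul_assoc]
  -- an element outside `M`
  obtain ⟨a, ha⟩ : ∃ a : T, a ∉ Mc T := by
    by_contra hcon
    push Not at hcon
    apply hx₂n
    have hx : x₂ ∈ Subgroup.center T := by
      rw [Subgroup.mem_center_iff]
      intro g
      exact ((hMmem g).mp (hcon g) x₂ hx₂).symm
    rw [← Subgroup.upperCentralSeries_one] at hx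
    exact hx
  have hχ : ∀ t : T, t * x₂ * t⁻¹ * x₂⁻¹ = 1 ∨ t * x₂ * t⁻¹ * x₂⁻¹ = z₁ :=
    fun t => hZ1 _ (hcomm21 x₂ hx₂ t)
  have hχa : a * x₂ * a⁻¹ * x₂⁻¹ = z₁ := by
    rcases hχ a with h | h
    · exact absurd ((hMx a).mpr h) ha
    · exact h
  have hχmul : ∀ b : T, (b * a) * x₂ * (b * a)⁻¹ * x₂⁻¹ = z₁ * (b * x₂ * b⁻¹ * x₂⁻¹) := by
    intro b
    have h1 : (b * a) * x₂ * (b * a)⁻¹ * x₂⁻¹ = b * (a * x₂ * a⁻¹ * x₂⁻¹) * b⁻¹ * (b * x₂ * b⁻¹ * x₂⁻¹) := by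
      group
    rw [h1, hχa, hcen z₁ hz₁ b]
    group
  have hMidx : (Mc T).index = 2 := by
    rw [Subgroup.index_eq_two_iff]
    refine ⟨a, fun b => ?_⟩
    rcases hχ b with h | h
    · right
      refine ⟨(hMx b).mpr h, ?_⟩
      intro hba
      have := (hMx (b * a)).mp hba
      rw [hχmul, h, mul_one] at this
      exact hz₁ne this
    · left
      refine ⟨?_, ?_⟩
      · rw [hMx, hχmul, h, hz₁sq]
      · intro hb
        have := (hMx b).mp hb
        rw [h] at this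
        exact hz₁ne this
  -- squares
  have hsq : ∀ t ∈ Mc T, t * t ∈ W := by
    intro t ht
    rw [hWmem]
    intro z hz
    obtain ⟨m, hm⟩ : ∃ m : T, m = t * z * t⁻¹ * z⁻¹ := ⟨_, rfl⟩
    have hm2 : m ∈ Zi T 2 := hm ▸ hcomm32 z hz t
    have htm : m * t = t * m := (hMmem t).mp ht m hm2
    have hmm : m * m = 1 := by
      have := c.ex m (h23 hm2)
      rwa [pow_two] at this
    have h1 : t * z = m * z * t := by rw [hm]; group
    calc z * (t * t) = (m * m) * z * (t * t) := by rw [hmm, one_mul]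
      _ = m * (m * z * t) * t := by group
      _ = m * (t * z) * t := by rw [h1]
      _ = (m * t) * z * t := by group
      _ = (t * m) * z * t := by rw [htm]
      _ = t * (m * z * t) := by group
      _ = t * (t * z) := by rw [h1]
      _ = t * t * z := by group
  -- conjugation formula for elements of `M` on `Z_3`
  have hact : ∀ t ∈ Mc T, ∀ t' ∈ Mc T, ∀ z ∈ Zi T 3,
      (t * t') * z * (t * t')⁻¹ = (t * z * t⁻¹ * z⁻¹) * ((t' * z * t'⁻¹ * z⁻¹) * z) := by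
    intro t ht t' ht' z hz
    obtain ⟨m', hm'⟩ : ∃ m' : T, m' = t' * z * t'⁻¹ * z⁻¹ := ⟨_, rfl⟩
    have hm'2 : m' ∈ Zi T 2 := hm' ▸ hcomm32 z hz t'
    have htm' : m' * t = t * m' := (hMmem t).mp ht m' hm'2
    have hmz : m' * z = z * m' := hab3 m' (h23 hm'2) z hz
    rw [← hm']
    have h1 : t' * z * t'⁻¹ = m' * z := by rw [hm']; group
    calc (t * t') * z * (t * t')⁻¹ = t * (t' * z * t'⁻¹) * t⁻¹ := by group
      _ = t * (m' * z) * t⁻¹ := by rw [h1]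
      _ = (t * m') * z * t⁻¹ := by group
      _ = (m' * t) * z * t⁻¹ := by rw [htm']
      _ = m' * (t * z * t⁻¹ * z⁻¹) * z := by group
      _ = (t * z * t⁻¹ * z⁻¹) * (m' * z) := by
          have hc : m' * (t * z * t⁻¹ * z⁻¹) = (t * z * t⁻¹ * z⁻¹) * m' :=
            hab3 m' (h23 hm'2) _ (h23 (hcomm32 z hz t))
          rw [hc]; group
  have hcommW : ∀ t ∈ Mc T, ∀ t' ∈ Mc T, ⁅t, t'⁆ ∈ W := by
    intro t ht t' ht'
    have hstar : ∀ z ∈ Zi T 3, (t * t') * z * (t * t')⁻¹ = (t' * t) * z * (t' * t)⁻¹ := by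
      intro z hz
      rw [hact t ht t' ht' z hz, hact t' ht' t ht z hz]
      have h1 := hab3 _ (h23 (hcomm32 z hz t)) _ (h23 (hcomm32 z hz t'))
      calc t * z * t⁻¹ * z⁻¹ * (t' * z * t'⁻¹ * z⁻¹ * z)
          = (t * z * t⁻¹ * z⁻¹ * (t' * z * t'⁻¹ * z⁻¹)) * z := (mul_assoc _ _ _).symm
        _ = (t' * z * t'⁻¹ * z⁻¹ * (t * z * t⁻¹ * z⁻¹)) * z := by rw [h1]
        _ = t' * z * t'⁻¹ * z⁻¹ * (t * z * t⁻¹ * z⁻¹ * z) := mul_assoc _ _ _
    rw [hWmem]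
    intro z hz
    obtain ⟨z', hz'⟩ : ∃ z' : T, z' = (t' * t)⁻¹ * z * (t' * t) := ⟨_, rfl⟩
    have hz'3 : z' ∈ Zi T 3 := by
      rw [hz']
      have := hZ3n.conj_mem z hz (t' * t)⁻¹
      rwa [inv_inv] at this
    have h1 := hstar z' hz'3
    have h2 : (t' * t) * z' * (t' * t)⁻¹ = z := by rw [hz']; group
    rw [h2] at h1
    have h3 : ⁅t, t'⁆ * z * (⁅t, t'⁆)⁻¹ = (t * t') * z' * (t * t')⁻¹ := by
      rw [hz', commutatorElement_def]; group
    rw [h1] at h3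
    calc z * ⁅t, t'⁆ = (⁅t, t'⁆ * z * (⁅t, t'⁆)⁻¹) * ⁅t, t'⁆ := by rw [h3]
      _ = ⁅t, t'⁆ * z := by group
  -- fixed points of `t ∈ M ∖ W`
  have hfix : ∀ t ∈ Mc T, t ∉ W → ∀ z ∈ Zi T 3, t * z * t⁻¹ = z → z ∈ Zi T 2 := by
    intro t ht htW z hz htz
    by_contra hz2
    apply htW
    have hZ3 := msub_aux_idx2 (Zi T 2) (Zi T 3) h23 (by rw [c.c2, c.c3]) z hz hz2
    have hzt : z * t = t * z := by
      calc z * t = (t * z * t⁻¹) * t := by rw [htz]
        _ = t * z := by group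
    rw [hWmem]
    intro y hy
    rcases hZ3 y hy with h | h
    · exact (hMmem t).mp ht y h
    · have hy' : y = z * (z⁻¹ * y) := by group
      have h1 := (hMmem t).mp ht _ h
      rw [hy', mul_assoc, h1, ← mul_assoc, hzt, mul_assoc]
  -- `|M : W| = 4`
  have hrel : W.relIndex (Mc T) = 4 := by
    have h1 := Subgroup.relIndex_mul_index hWM
    rw [hMidx, c.idx] at h1
    omega
  have hWn : W.Normal := c.nW
  have hex : ∃ t ∈ Mc T, ∃ t' ∈ Mc T, t ∉ W ∧ t' ∉ W ∧ t⁻¹ * t' ∉ W := by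
    obtain ⟨t, ht, htW⟩ : ∃ t ∈ Mc T, t ∉ W := by
      by_contra hcon
      push Not at hcon
      have hle : Mc T ≤ W := hcon
      have : W.relIndex (Mc T) = 1 := Subgroup.relIndex_eq_one.mpr hle
      omega
    by_contra hcon
    push Not at hcon
    have h2 : (W.subgroupOf (Mc T)).index = 2 := by
      rw [Subgroup.index_eq_two_iff]
      refine ⟨(⟨t, ht⟩ : ↥(Mc T))⁻¹, fun b => ?_⟩
      by_cases hb : b ∈ W.subgroupOf (Mc T)
      · right
        refine ⟨hb, ?_⟩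
        intro h
        have h3 := (Subgroup.mul_mem_cancel_left _ hb).mp h
        rw [Subgroup.inv_mem_iff, Subgroup.mem_subgroupOf] at h3
        exact htW h3
      · left
        refine ⟨?_, hb⟩
        rw [Subgroup.mem_subgroupOf] at hb ⊢
        have h3 := hcon t ht b.1 b.2 htW hb
        have h4 : (b : T) * t⁻¹ = t * (t⁻¹ * b) * t⁻¹ := by group
        simp only [Subgroup.coe_mul, Subgroup.coe_inv]
        rw [h4]
        exact hWn.conj_mem _ h3 t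
    have : W.relIndex (Mc T) = 2 := h2
    omega
  exact ⟨hWM, hMidx, hsq, hcommW, hfix, hex⟩

end Cfsg.Agent.S3174P
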