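import Cfsg.Agent.Helper26.S3818Defs

/-! Board `s3818pieces`, row FR3. -/

set_option autoImplicit false

namespace Cfsg.Agent.S3818P

open Module

/-- FR3 with the two-sided invariance of `Q` under `x`. -/
theorem FR3_core {G : Type*} [Group G] {F V : Type*} [Field F] [AddCommGroup V]
    [Module F V] (ρ : Representation F G V) (Q Z : Subgroup G) (hZQ : Z ≤ Q)
    (ζ : G → F) (hζ : ∀ z ∈ Z, ρ z = ζ z • 1)
    (x : G) (hxQ' : ∀ u ∈ Q, x⁻¹ * u * x ∈ Q) (t t' : G) (ht : t ∈ Q) (ht' : t' ∈ Q)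
    (htt' : t'⁻¹ * (x * t * x⁻¹) ∈ Z) :
    ((commutant ρ Q).map (LinearMap.mulLeft F (ρ t))).map (conjEnd ρ x) ≤
      (commutant ρ Q).map (LinearMap.mulLeft F (ρ t')) := by
  have _ := hZQ
  have _ := ht
  have _ := ht'
  rintro _ ⟨_, ⟨T, hT, rfl⟩, rfl⟩
  refine ⟨ζ (t'⁻¹ * (x * t * x⁻¹)) • (ρ x * (T * ρ x⁻¹)), ?_, ?_⟩
  · refine (commutant ρ Q).smul_mem _ ?_
    intro u hu
    have h1 := hT _ (hxQ' u hu)
    -- `T ρ(x⁻¹ u x) = ρ(x⁻¹ u x) T`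
    have e1 : ρ x⁻¹ * ρ u = ρ (x⁻¹ * u * x) * ρ x⁻¹ := by
      rw [← map_mul, ← map_mul]; congr 1; group
    have e2 : ρ x * ρ (x⁻¹ * u * x) = ρ u * ρ x := by
      rw [← map_mul, ← map_mul]; congr 1; group
    calc ρ x * (T * ρ x⁻¹) * ρ u = ρ x * (T * (ρ x⁻¹ * ρ u)) := by simp only [mul_assoc]
      _ = ρ x * (T * (ρ (x⁻¹ * u * x) * ρ x⁻¹)) := by rw [e1]
      _ = ρ x * ((T * ρ (x⁻¹ * u * x)) * ρ x⁻¹) := by simp only [mul_assoc]
      _ = ρ x * ((ρ (x⁻¹ * u * x) * T) * ρ x⁻¹) := by rw [h1]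
      _ = (ρ x * ρ (x⁻¹ * u * x)) * (T * ρ x⁻¹) := by simp only [mul_assoc]
      _ = (ρ u * ρ x) * (T * ρ x⁻¹) := by rw [e2]
      _ = ρ u * (ρ x * (T * ρ x⁻¹)) := by simp only [mul_assoc]
  · have hz := hζ _ htt'
    have e3 : ρ x * ρ t = ρ t' * ρ (t'⁻¹ * (x * t * x⁻¹)) * ρ x := by
      rw [← map_mul, ← map_mul, ← map_mul]; congr 1; group
    change ρ t' * (ζ (t'⁻¹ * (x * t * x⁻¹)) • (ρ x * (T * ρ x⁻¹))) = ρ x * ((ρ t * T) * ρ x⁻¹)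
    calc ρ t' * (ζ (t'⁻¹ * (x * t * x⁻¹)) • (ρ x * (T * ρ x⁻¹)))
        = ρ t' * ((ζ (t'⁻¹ * (x * t * x⁻¹)) • (1 : Module.End F V)) * (ρ x * (T * ρ x⁻¹))) := by
          rw [smul_mul_assoc, one_mul]
      _ = (ρ t' * ρ (t'⁻¹ * (x * t * x⁻¹)) * ρ x) * (T * ρ x⁻¹) := by
          rw [← hz]; simp only [mul_assoc]
      _ = (ρ x * ρ t) * (T * ρ x⁻¹) := by rw [e3]
      _ = ρ x * ((ρ t * T) * ρ x⁻¹) := by simp only [mul_assoc]

/-- FR3 (conjugation by `ρ x` permutes the summands as `x` permutes `Q/Z`); `G` finite. -/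
theorem FR3_perm {G : Type*} [Group G] [Finite G] {F V : Type*} [Field F] [AddCommGroup V]
    [Module F V] (ρ : Representation F G V) (Q Z : Subgroup G) (hZQ : Z ≤ Q)
    (ζ : G → F) (hζ : ∀ z ∈ Z, ρ z = ζ z • 1)
    (x : G) (hxQ : ∀ u ∈ Q, x * u * x⁻¹ ∈ Q) (t t' : G) (ht : t ∈ Q) (ht' : t' ∈ Q)
    (htt' : t'⁻¹ * (x * t * x⁻¹) ∈ Z) :
    ((commutant ρ Q).map (LinearMap.mulLeft F (ρ t))).map (conjEnd ρ x) ≤
      (commutant ρ Q).map (LinearMap.mulLeft F (ρ t')) := by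
  refine FR3_core ρ Q Z hZQ ζ hζ x ?_ t t' ht ht' htt'
  -- conjugation by `x` is an injective, hence surjective, self-map of the finite set `Q`
  let f : Q → Q := fun u => ⟨x * u * x⁻¹, hxQ u u.2⟩
  have hf : Function.Injective f := by
    intro a b hab
    have : x * (a : G) * x⁻¹ = x * (b : G) * x⁻¹ := congrArg Subtype.val hab
    apply Subtype.ext
    simpa using this
  have hs : Function.Surjective f := Finite.surjective_of_injective hf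
  intro u hu
  obtain ⟨v, hv⟩ := hs ⟨u, hu⟩
  have : x * (v : G) * x⁻¹ = u := congrArg Subtype.val hv
  have e : x⁻¹ * u * x = v := by rw [← this]; group
  rw [e]; exact v.2

end Cfsg.Agent.S3818P
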