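import Cfsg.Agent.Helper26.S3818Defs

/-! Board `s3818pieces`, row GT4b. -/

set_option autoImplicit false

namespace Cfsg.Agent.S3818P

open Module

section GT4b

variable {G : Type*} [Group G] (Q Z : Subgroup G)

/-- conjugation by `y` on `Q/Z` (left cosets of `Z ∩ Q` in `Q`), for central `Z` -/
noncomputable def GT4b_aux_map (hZc : ∀ z ∈ Z, ∀ g : G, g * z = z * g) (y : G)
    (hyQ : ∀ u ∈ Q, y * u * y⁻¹ ∈ Q) : ↥Q ⧸ Z.subgroupOf Q → ↥Q ⧸ Z.subgroupOf Q :=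
  Quotient.map' (fun u : ↥Q => (⟨y * (u : G) * y⁻¹, hyQ u u.2⟩ : ↥Q)) (by
    intro a b hab
    rw [QuotientGroup.leftRel_apply] at hab ⊢
    rw [Subgroup.mem_subgroupOf] at hab ⊢
    have e : (((⟨y * (a : G) * y⁻¹, hyQ a a.2⟩ : ↥Q)⁻¹ * (⟨y * (b : G) * y⁻¹, hyQ b b.2⟩ : ↥Q) : ↥Q) : G)
        = y * (((a⁻¹ * b : ↥Q) : G)) * y⁻¹ := by
      push_cast
      group
    rw [e, hZc _ hab y]
    simpa using hab)

theorem GT4b_aux_map_mk (hZc : ∀ z ∈ Z, ∀ g : G, g * z = z * g) (y : G)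
    (hyQ : ∀ u ∈ Q, y * u * y⁻¹ ∈ Q) (u : ↥Q) :
    GT4b_aux_map Q Z hZc y hyQ (QuotientGroup.mk u) =
      QuotientGroup.mk (⟨y * (u : G) * y⁻¹, hyQ u u.2⟩ : ↥Q) := rfl

end GT4b

/-- GT4b (orbit counting: `r ≠ p ⇒ r^(a-c₀) ≡ 1 mod p`). -/
theorem GT4b_mod {G : Type*} [Group G] [Finite G] (Q Z : Subgroup G) (hZQ : Z ≤ Q)
    (hZc : ∀ z ∈ Z, ∀ g : G, g * z = z * g)
    (x : G) (p : ℕ) (hp : p.Prime) (hx : x ^ p = 1) (hxQ : ∀ u ∈ Q, x * u * x⁻¹ ∈ Q)
    (r a c₀ : ℕ) (hr : r.Prime) (hrp : r ≠ p) (ha : Nat.card Q = r ^ a * Nat.card Z)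
    (hc : Nat.card {u : G // u ∈ Q ∧ x * u * x⁻¹ * u⁻¹ ∈ Z} = r ^ c₀ * Nat.card Z) :
    r ^ (a - c₀) % p = 1 := by
  classical
  have : Fact p.Prime := ⟨hp⟩
  have hZpos : 0 < Nat.card Z := Nat.card_pos
  -- `|Z ∩ Q| = |Z|`
  have hZ' : Nat.card ↥(Z.subgroupOf Q) = Nat.card Z :=
    Nat.card_congr (Subgroup.subgroupOfEquivOfLe hZQ).toEquiv
  have hxQk : ∀ k : ℕ, ∀ u ∈ Q, x ^ k * u * (x ^ k)⁻¹ ∈ Q := by
    intro k
    induction k with
    | zero => intro u hu; simpa using hu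
    | succ k ih =>
      intro u hu
      have := hxQ _ (ih u hu)
      have e : x ^ (k + 1) * u * (x ^ (k + 1))⁻¹ = x * (x ^ k * u * (x ^ k)⁻¹) * x⁻¹ := by
        rw [pow_succ']; group
      rw [e]; exact this
  let f : Function.End (↥Q ⧸ Z.subgroupOf Q) := GT4b_aux_map Q Z hZc x hxQ
  let g : ℕ → Function.End (↥Q ⧸ Z.subgroupOf Q) := fun k => GT4b_aux_map Q Z hZc (x ^ k) (hxQk k)
  have hg0 : ∀ c, g 0 c = c := by
    intro c
    induction c using QuotientGroup.induction_on with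
    | H u =>
      change GT4b_aux_map Q Z hZc (x ^ 0) (hxQk 0) (QuotientGroup.mk u) = _
      rw [GT4b_aux_map_mk]
      congr 1
      apply Subtype.ext
      simp
  have hgp : ∀ c, g p c = c := by
    intro c
    induction c using QuotientGroup.induction_on with
    | H u =>
      change GT4b_aux_map Q Z hZc (x ^ p) (hxQk p) (QuotientGroup.mk u) = _
      rw [GT4b_aux_map_mk]
      congr 1
      apply Subtype.ext
      simp [hx]
  have hgs : ∀ k c, g k (f c) = g (k + 1) c := by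
    intro k c
    induction c using QuotientGroup.induction_on with
    | H u =>
      change GT4b_aux_map Q Z hZc (x ^ k) (hxQk k) (GT4b_aux_map Q Z hZc x hxQ (QuotientGroup.mk u)) =
        GT4b_aux_map Q Z hZc (x ^ (k + 1)) (hxQk (k + 1)) (QuotientGroup.mk u)
      rw [GT4b_aux_map_mk, GT4b_aux_map_mk, GT4b_aux_map_mk]
      congr 1
      apply Subtype.ext
      change x ^ k * (x * (u : G) * x⁻¹) * (x ^ k)⁻¹ = x ^ (k + 1) * (u : G) * (x ^ (k + 1))⁻¹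
      rw [pow_succ]; group
  have hfk : ∀ k : ℕ, f ^ k = g k := by
    intro k
    induction k with
    | zero =>
      funext c
      rw [pow_zero]
      exact (hg0 c).symm
    | succ k ih =>
      funext c
      rw [pow_succ]
      change (f ^ k) (f c) = g (k + 1) c
      rw [ih]
      exact hgs k c
  have hfp : f ^ p ^ 1 = 1 := by
    rw [pow_one, hfk]
    funext c
    exact hgp c
  have : Fintype (↥Q ⧸ Z.subgroupOf Q) := Fintype.ofFinite _
  have hmod := Equiv.Perm.card_fixedPoints_modEq (f := f) hfp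
  -- the fixed points
  have hfix : ∀ u : ↥Q, (QuotientGroup.mk u : ↥Q ⧸ Z.subgroupOf Q) ∈ Function.fixedPoints f ↔
      x * (u : G) * x⁻¹ * (u : G)⁻¹ ∈ Z := by
    intro u
    rw [Function.mem_fixedPoints, Function.IsFixedPt]
    rw [GT4b_aux_map_mk, QuotientGroup.eq, Subgroup.mem_subgroupOf]
    have e : (((⟨x * (u : G) * x⁻¹, hxQ u u.2⟩ : ↥Q)⁻¹ * u : ↥Q) : G) =
        (u : G)⁻¹ * (x * (u : G) * x⁻¹ * (u : G)⁻¹)⁻¹ * (u : G) := by
      push_cast; group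
    rw [e]
    constructor
    · intro h
      have h2 := hZc _ h (u : G)⁻¹
      have h3 : (x * (u : G) * x⁻¹ * (u : G)⁻¹)⁻¹ ∈ Z := by
        have e2 : (x * (u : G) * x⁻¹ * (u : G)⁻¹)⁻¹ =
            (u : G) * ((u : G)⁻¹ * (x * (u : G) * x⁻¹ * (u : G)⁻¹)⁻¹ * (u : G)) * (u : G)⁻¹ := by group
        rw [e2, hZc _ h (u : G)]
        simpa using h
      exact (Z.inv_mem_iff).1 h3
    · intro h
      have h3 : (x * (u : G) * x⁻¹ * (u : G)⁻¹)⁻¹ ∈ Z := Z.inv_mem h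
      have e2 : (u : G)⁻¹ * (x * (u : G) * x⁻¹ * (u : G)⁻¹)⁻¹ * (u : G) =
          (x * (u : G) * x⁻¹ * (u : G)⁻¹)⁻¹ := by
        rw [mul_assoc, ← hZc _ h3 (u : G)]; group
      rw [e2]; exact h3
  -- counting
  have hcardQ : Nat.card ↥Q = Nat.card (↥Q ⧸ Z.subgroupOf Q) * Nat.card Z := by
    rw [← hZ']; exact Subgroup.card_eq_card_quotient_mul_card_subgroup _
  have hquot : Nat.card (↥Q ⧸ Z.subgroupOf Q) = r ^ a := by
    rw [hcardQ] at ha
    exact Nat.eq_of_mul_eq_mul_right hZpos ha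
  have hpre : Nat.card {u : G // u ∈ Q ∧ x * u * x⁻¹ * u⁻¹ ∈ Z} =
      Nat.card (Function.fixedPoints f) * Nat.card Z := by
    have e1 : {u : G // u ∈ Q ∧ x * u * x⁻¹ * u⁻¹ ∈ Z} ≃
        ((QuotientGroup.mk : ↥Q → ↥Q ⧸ Z.subgroupOf Q) ⁻¹' Function.fixedPoints f) :=
      { toFun := fun u => ⟨⟨u.1, u.2.1⟩, (hfix ⟨u.1, u.2.1⟩).2 u.2.2⟩
        invFun := fun v => ⟨(v.1 : G), v.1.2, (hfix v.1).1 v.2⟩
        left_inv := fun u => rfl
        right_inv := fun v => rfl }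
    rw [Nat.card_congr e1,
      Nat.card_congr (QuotientGroup.preimageMkEquivSubgroupProdSet (Z.subgroupOf Q) (Function.fixedPoints f)),
      Nat.card_prod, hZ', mul_comm]
  have hfixcard : Nat.card (Function.fixedPoints f) = r ^ c₀ := by
    rw [hpre] at hc
    exact Nat.eq_of_mul_eq_mul_right hZpos hc
  rw [← Nat.card_eq_fintype_card, ← Nat.card_eq_fintype_card, hquot, hfixcard] at hmod
  -- `c₀ ≤ a`
  have hle : c₀ ≤ a := by
    have h1 : Nat.card (Function.fixedPoints f) ≤ Nat.card (↥Q ⧸ Z.subgroupOf Q) :=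
      Nat.card_le_card_of_injective Subtype.val Subtype.val_injective
    rw [hquot, hfixcard] at h1
    exact (Nat.pow_le_pow_iff_right hr.one_lt).1 h1
  have hcop : Nat.Coprime p (r ^ c₀) := by
    apply Nat.Coprime.pow_right
    exact (Nat.coprime_primes hp hr).2 (Ne.symm hrp)
  have hsplit : r ^ a = r ^ c₀ * r ^ (a - c₀) := by
    rw [← pow_add]; congr 1; omega
  rw [hsplit] at hmod
  have h2 : r ^ c₀ * r ^ (a - c₀) ≡ r ^ c₀ * 1 [MOD p] := by rw [mul_one]; exact hmod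
  have h3 : r ^ (a - c₀) ≡ 1 [MOD p] := Nat.ModEq.cancel_left_of_coprime hcop h2
  rw [Nat.ModEq, Nat.mod_eq_of_lt hp.one_lt] at h3
  exact h3

end Cfsg.Agent.S3818P
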