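import Cfsg.Agent.Helper26.S3818Defs

/-! Board `s3818pieces`, row GT4c. -/

set_option autoImplicit false

namespace Cfsg.Agent.S3818P

open Module

theorem GT4c_aux_center_card {G : Type*} [Group G] (Q : Subgroup G) :
    Nat.card ↥(Subgroup.center ↥Q) = Nat.card ↥(Q ⊓ Subgroup.centralizer (Q : Set G)) := by
  have h : (Subgroup.center ↥Q).map Q.subtype = Q ⊓ Subgroup.centralizer (Q : Set G) := by
    ext g
    constructor
    · rintro ⟨z, hz, rfl⟩
      refine ⟨z.2, ?_⟩
      refine Subgroup.mem_centralizer_iff.2 ?_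
      intro u hu
      have := (Subgroup.mem_center_iff.1 hz) ⟨u, hu⟩
      exact congrArg Subtype.val this
    · rintro ⟨hgQ, hgc⟩
      refine ⟨⟨g, hgQ⟩, ?_, rfl⟩
      refine Subgroup.mem_center_iff.2 ?_
      intro u
      apply Subtype.ext
      exact (Subgroup.mem_centralizer_iff.1 hgc) u u.2
  rw [← h]
  exact (Nat.card_congr ((Subgroup.center ↥Q).equivMapOfInjective Q.subtype
    Q.subtype_injective).toEquiv)

/-- GT4c (`a ≥ 2`: `Q/Z(Q)` is not cyclic). -/
theorem GT4c_two_le {G : Type*} [Group G] [Finite G] (Q : Subgroup G) (r a : ℕ) (hr : r.Prime)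
    (hnab : ∃ u ∈ Q, ∃ v ∈ Q, u * v ≠ v * u)
    (ha : Nat.card Q = r ^ a * Nat.card ↥(Q ⊓ Subgroup.centralizer (Q : Set G))) : 2 ≤ a := by
  by_contra hlt
  rw [not_le] at hlt
  obtain ⟨u, hu, v, hv, huv⟩ := hnab
  apply huv
  rw [← GT4c_aux_center_card] at ha
  have hidx : (Subgroup.center ↥Q).index = r ^ a := by
    have h1 := Subgroup.card_mul_index (Subgroup.center ↥Q)
    rw [ha, mul_comm (r ^ a)] at h1
    exact Nat.eq_of_mul_eq_mul_left Nat.card_pos h1
  have hcyc : IsCyclic (↥Q ⧸ Subgroup.center ↥Q) := by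
    have hcard : Nat.card (↥Q ⧸ Subgroup.center ↥Q) = r ^ a := by
      rw [← Subgroup.index_eq_card]; exact hidx
    interval_cases a
    · rw [pow_zero] at hcard
      have : Subsingleton (↥Q ⧸ Subgroup.center ↥Q) := (Nat.card_eq_one_iff_unique.1 hcard).1
      exact isCyclic_of_subsingleton
    · rw [pow_one] at hcard
      have : Fact r.Prime := ⟨hr⟩
      exact isCyclic_of_prime_card hcard
  have key := ((QuotientGroup.mk' (Subgroup.center ↥Q)).isMulCommutative_of_isCyclic_of_ker_le_center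
    (by rw [QuotientGroup.ker_mk'])).is_comm.comm (⟨u, hu⟩ : ↥Q) ⟨v, hv⟩
  exact congrArg Subtype.val key

end Cfsg.Agent.S3818P
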