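import Mathlib
import Cfsg.Agent.Helper10.S4017Defs

/-!
# S4017, piece A3CNT2: counting the non-commuting pairs of involutions through the Sylow
`p`-subgroups `C_G(tu)`

`2E · #{(t,u) non-commuting involutions} = |G| (E - 1) E`, `E = p ^ v_p(|G|)`.
-/

set_option autoImplicit false

namespace Cfsg.Agent.S4017P

open Subgroup
open scoped Pointwise

/-- no element of order 2 in a `p`-group, `p` odd -/
theorem A3CNT2_no_two {G : Type*} [Group G] {p : ℕ} (hp : p.Prime) (hp2 : p ≠ 2)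
    {C : Subgroup G} (hC : IsPGroup p C) {x : G} (hx : x ∈ C) : orderOf x ≠ 2 := by
  intro h2
  obtain ⟨k, hk⟩ := hC ⟨x, hx⟩
  have h1 : x ^ p ^ k = 1 := by simpa using congrArg Subtype.val hk
  have hd : 2 ∣ p ^ k := h2 ▸ orderOf_dvd_of_pow_eq_one h1
  have := (Nat.prime_dvd_prime_iff_eq Nat.prime_two hp).1 (Nat.prime_two.dvd_of_dvd_pow hd)
  exact hp2 this.symm

/-- an element of a `p`-group (`p` odd) with square 1 is trivial -/
theorem A3CNT2_sq_one {G : Type*} [Group G] {p : ℕ} (hp : p.Prime) (hp2 : p ≠ 2)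
    {C : Subgroup G} (hC : IsPGroup p C) {x : G} (hx : x ∈ C) (h : x * x = 1) : x = 1 := by
  have hd : orderOf x ∣ 2 := orderOf_dvd_of_pow_eq_one (by rw [pow_two]; exact h)
  rcases (Nat.dvd_prime Nat.prime_two).1 hd with h1 | h2
  · exact orderOf_eq_one_iff.1 h1
  · exact absurd h2 (A3CNT2_no_two hp hp2 hC hx)

theorem A3CNT2_sq {G : Type*} [Group G] {t : G} (ht : orderOf t = 2) : t * t = 1 := by
  have := pow_orderOf_eq_one t
  rwa [ht, pow_two] at this

theorem A3CNT2_inv {G : Type*} [Group G] {t : G} (ht : orderOf t = 2) : t⁻¹ = t :=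
  inv_eq_of_mul_eq_one_left (A3CNT2_sq ht)

theorem A3CNT2_order_two {G : Type*} [Group G] {w : G} (h : w * w = 1) (h1 : w ≠ 1) :
    orderOf w = 2 := by
  have : Fact (Nat.Prime 2) := ⟨Nat.prime_two⟩
  exact orderOf_eq_prime (by rw [pow_two]; exact h) h1

/-- the centralizer of a conjugate -/
theorem A3CNT2_centralizer_conj {G : Type*} [Group G] (g x : G) :
    centralizer ({g * x * g⁻¹} : Set G) = MulAut.conj g • centralizer ({x} : Set G) := by
  ext y
  rw [mem_pointwise_smul_iff_inv_smul_mem, MulAut.smul_def, MulAut.conj_inv_apply,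
    mem_centralizer_singleton_iff, mem_centralizer_singleton_iff]
  constructor
  · intro h
    calc g⁻¹ * y * g * x = g⁻¹ * (y * (g * x * g⁻¹)) * g := by group
      _ = g⁻¹ * (g * x * g⁻¹ * y) * g := by rw [h]
      _ = x * (g⁻¹ * y * g) := by group
  · intro h
    calc y * (g * x * g⁻¹) = g * (g⁻¹ * y * g * x) * g⁻¹ := by group
      _ = g * (x * (g⁻¹ * y * g)) * g⁻¹ := by rw [h]
      _ = g * x * g⁻¹ * y := by group

/-- the number of non-commuting pairs of involutions `(t, u)` with `C_G(tu) = C` -/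
theorem A3CNT2_fiber {G : Type*} [Group G] [Finite G] {p : ℕ} (hp : p.Prime) (hp2 : p ≠ 2)
    (t₀ : G) (ht₀ : orderOf t₀ = 2) (C : Subgroup G)
    (hCp : IsPGroup p C) (hab : ∀ x ∈ C, ∀ y ∈ C, x * y = y * x)
    (i1 : ∀ x ∈ C, t₀ * x * t₀⁻¹ = x⁻¹)
    (i2 : ∀ x ∈ C, x ≠ 1 → centralizer ({x} : Set G) = C)
    (i3 : ∀ w : G, orderOf w = 2 → ∀ x ∈ C, x ≠ 1 → w * x * w⁻¹ = x⁻¹ → ∃ y ∈ C, w = y * t₀) :
    Nat.card {x : G × G // (orderOf x.1 = 2 ∧ orderOf x.2 = 2 ∧ x.1 * x.2 ≠ x.2 * x.1) ∧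
        centralizer ({x.1 * x.2} : Set G) = C} = (Nat.card C - 1) * Nat.card C := by
  classical
  have ht₀i : t₀⁻¹ = t₀ := A3CNT2_inv ht₀
  have ht₀s : t₀ * t₀ = 1 := A3CNT2_sq ht₀
  -- basic facts about `w = y t₀`
  have key : ∀ x ∈ C, x ≠ 1 → ∀ y ∈ C,
      (orderOf (y * t₀) = 2 ∧ orderOf (y * t₀ * x) = 2 ∧
        (y * t₀) * (y * t₀ * x) ≠ (y * t₀ * x) * (y * t₀)) ∧
      centralizer ({(y * t₀) * (y * t₀ * x)} : Set G) = C := by
    intro x hx hx1 y hy
    have hty : t₀ * y * t₀ = y⁻¹ := by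
      have := i1 y hy
      rwa [ht₀i] at this
    have htx : t₀ * x * t₀ = x⁻¹ := by
      have := i1 x hx
      rwa [ht₀i] at this
    have hww : (y * t₀) * (y * t₀) = 1 := by
      calc (y * t₀) * (y * t₀) = y * (t₀ * y * t₀) := by group
        _ = 1 := by rw [hty]; group
    have hw1 : y * t₀ ≠ 1 := by
      intro h1
      have : t₀ = y⁻¹ := by
        calc t₀ = y⁻¹ * (y * t₀) := by group
          _ = y⁻¹ := by rw [h1, mul_one]
      exact A3CNT2_no_two hp hp2 hCp (C.inv_mem hy) (this ▸ ht₀)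
    have hwo : orderOf (y * t₀) = 2 := A3CNT2_order_two hww hw1
    have hwi : (y * t₀)⁻¹ = y * t₀ := A3CNT2_inv hwo
    have hyx : y * x⁻¹ = x⁻¹ * y := hab y hy x⁻¹ (C.inv_mem hx)
    have hwx : (y * t₀) * x * (y * t₀) = x⁻¹ := by
      calc (y * t₀) * x * (y * t₀) = y * (t₀ * x * (t₀ * t₀) * y * t₀) := by rw [ht₀s]; group
        _ = y * ((t₀ * x * t₀) * (t₀ * y * t₀)) := by group
        _ = y * (x⁻¹ * y⁻¹) := by rw [htx, hty]
        _ = x⁻¹ := by rw [← mul_assoc, hyx]; group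
    have huu : (y * t₀ * x) * (y * t₀ * x) = 1 := by
      calc (y * t₀ * x) * (y * t₀ * x) = ((y * t₀) * x * (y * t₀)) * x := by group
        _ = 1 := by rw [hwx]; group
    have hu1 : y * t₀ * x ≠ 1 := by
      intro h1
      have hw : y * t₀ = x⁻¹ := by
        calc y * t₀ = (y * t₀ * x) * x⁻¹ := by group
          _ = x⁻¹ := by rw [h1, one_mul]
      exact A3CNT2_no_two hp hp2 hCp (C.inv_mem hx) (hw ▸ hwo)
    have hprod : (y * t₀) * (y * t₀ * x) = x := by
      calc (y * t₀) * (y * t₀ * x) = ((y * t₀) * (y * t₀)) * x := by group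
        _ = x := by rw [hww, one_mul]
    refine ⟨⟨hwo, A3CNT2_order_two huu hu1, ?_⟩, ?_⟩
    · rw [hprod]
      intro hcomm
      have : x = x⁻¹ := by rw [← hwx]; exact hcomm
      have hxx : x * x = 1 := by
        calc x * x = x * x⁻¹ := by rw [← this]
          _ = 1 := mul_inv_cancel x
      exact hx1 (A3CNT2_sq_one hp hp2 hCp hx hxx)
    · rw [hprod]; exact i2 x hx hx1
  -- the bijection
  let F : {x : C // x ≠ 1} × C →
      {x : G × G // (orderOf x.1 = 2 ∧ orderOf x.2 = 2 ∧ x.1 * x.2 ≠ x.2 * x.1) ∧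
        centralizer ({x.1 * x.2} : Set G) = C} :=
    fun d => ⟨((d.2 : G) * t₀, (d.2 : G) * t₀ * (d.1.1 : G)),
      key (d.1.1 : G) d.1.1.2 (fun h => d.1.2 (Subtype.ext h)) (d.2 : G) d.2.2⟩
  have hF : Function.Bijective F := by
    constructor
    · rintro ⟨⟨⟨x, hx⟩, hx1⟩, ⟨y, hy⟩⟩ ⟨⟨⟨x', hx'⟩, hx1'⟩, ⟨y', hy'⟩⟩ hd
      have h := congrArg Subtype.val hd
      simp only [F, Prod.mk.injEq] at h
      obtain ⟨ha, hb⟩ := h
      have hyy : y = y' := mul_right_cancel ha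
      subst hyy
      have hxx : x = x' := mul_left_cancel hb
      subst hxx
      rfl
    · rintro ⟨⟨t, u⟩, ⟨⟨ht, hu, hne⟩, hcent⟩⟩
      simp only at ht hu hne hcent
      have hti : t⁻¹ = t := A3CNT2_inv ht
      have hui : u⁻¹ = u := A3CNT2_inv hu
      have hxC : t * u ∈ C := by
        rw [← hcent, mem_centralizer_singleton_iff]
      have hx1 : t * u ≠ 1 := by
        intro h1
        apply hne
        have : u = t := by
          calc u = t⁻¹ * (t * u) := by group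
            _ = t := by rw [h1, mul_one, hti]
        rw [this]
      have hinvx : t * (t * u) * t⁻¹ = (t * u)⁻¹ := by
        rw [mul_inv_rev, hui, hti]
        calc t * (t * u) * t = (t * t) * u * t := by group
          _ = u * t := by rw [A3CNT2_sq ht, one_mul]
      obtain ⟨y, hy, hty⟩ := i3 t ht (t * u) hxC hx1 hinvx
      refine ⟨(⟨⟨t * u, hxC⟩, fun h => hx1 (congrArg Subtype.val h)⟩, ⟨y, hy⟩), ?_⟩
      apply Subtype.ext
      simp only [F]
      rw [← hty]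
      congr 1
      calc t * (t * u) = (t * t) * u := by group
        _ = u := by rw [A3CNT2_sq ht, one_mul]
  rw [← Nat.card_congr (Equiv.ofBijective F hF), Nat.card_prod]
  congr 1
  have h1 := Nat.card_congr (Equiv.optionSubtypeNe (1 : C))
  rw [Finite.card_option] at h1
  omega

theorem A3CNT2 {G : Type*} [Group G] [Finite G] {p a : ℕ} {Q : Subgroup G} {z : G}
    (h : Cfg G p a Q z) (f : Facts G p a Q z)
    (hpg : ∀ t u : G, orderOf t = 2 → orderOf u = 2 → t * u ≠ u * t →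
      IsPEl p (t * u) ∧ IsPGroup p (Subgroup.centralizer ({t * u} : Set G)) ∧
      Nat.card (Subgroup.centralizer ({t * u} : Set G)) = p ^ (Nat.card G).factorization p)
    (hinv : ∀ t u : G, orderOf t = 2 → orderOf u = 2 → t * u ≠ u * t →
      (∀ x ∈ Subgroup.centralizer ({t * u} : Set G), t * x * t⁻¹ = x⁻¹) ∧
      (∀ x ∈ Subgroup.centralizer ({t * u} : Set G), x ≠ 1 →
        Subgroup.centralizer ({x} : Set G) = Subgroup.centralizer ({t * u} : Set G)) ∧
      (∀ w : G, orderOf w = 2 → ∀ x ∈ Subgroup.centralizer ({t * u} : Set G), x ≠ 1 →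
        w * x * w⁻¹ = x⁻¹ → ∃ y ∈ Subgroup.centralizer ({t * u} : Set G), w = y * t) ∧
      Nat.card (Subgroup.normalizer ((Subgroup.centralizer ({t * u} : Set G) : Subgroup G) : Set G))
        = 2 * p ^ (Nat.card G).factorization p)
    (hnc : ∃ t u : G, orderOf t = 2 ∧ orderOf u = 2 ∧ t * u ≠ u * t) :
    2 * p ^ (Nat.card G).factorization p *
      Nat.card {x : G × G // orderOf x.1 = 2 ∧ orderOf x.2 = 2 ∧ x.1 * x.2 ≠ x.2 * x.1}
      = Nat.card G * (p ^ (Nat.card G).factorization p - 1) * p ^ (Nat.card G).factorization p := by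
  classical
  have : Fact p.Prime := ⟨h.hp⟩
  obtain ⟨E, hE⟩ : ∃ E : ℕ, E = p ^ (Nat.card G).factorization p := ⟨_, rfl⟩
  rw [← hE]
  have hcardC : ∀ x : {x : G × G // orderOf x.1 = 2 ∧ orderOf x.2 = 2 ∧ x.1 * x.2 ≠ x.2 * x.1},
      Nat.card (centralizer ({x.1.1 * x.1.2} : Set G)) = p ^ (Nat.card G).factorization p :=
    fun x => (hpg _ _ x.2.1 x.2.2.1 x.2.2.2).2.2
  let ψ : {x : G × G // orderOf x.1 = 2 ∧ orderOf x.2 = 2 ∧ x.1 * x.2 ≠ x.2 * x.1} → Sylow p G :=
    fun x => Sylow.ofCard _ (hcardC x)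
  have hψ : ∀ x P, ψ x = P ↔ centralizer ({x.1.1 * x.1.2} : Set G) = (P : Subgroup G) := by
    intro x P
    constructor
    · intro hx; rw [← hx]; rfl
    · intro hx; exact Sylow.ext hx
  obtain ⟨t₀, u₀, ht₀, hu₀, hne₀⟩ := hnc
  -- the fibers
  have hfib : ∀ P : Sylow p G, Nat.card {x // ψ x = P} = (E - 1) * E := by
    intro P
    obtain ⟨g, hg⟩ := MulAction.exists_smul_eq G (ψ ⟨(t₀, u₀), ht₀, hu₀, hne₀⟩) P
    -- the conjugate pair
    have ht₁ : orderOf (g * t₀ * g⁻¹) = 2 := by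
      have := orderOf_injective (MulAut.conj g).toMonoidHom (MulAut.conj g).injective t₀
      rw [ht₀] at this
      exact this
    have hu₁ : orderOf (g * u₀ * g⁻¹) = 2 := by
      have := orderOf_injective (MulAut.conj g).toMonoidHom (MulAut.conj g).injective u₀
      rw [hu₀] at this
      exact this
    have hprod : (g * t₀ * g⁻¹) * (g * u₀ * g⁻¹) = g * (t₀ * u₀) * g⁻¹ := by group
    have hne₁ : (g * t₀ * g⁻¹) * (g * u₀ * g⁻¹) ≠ (g * u₀ * g⁻¹) * (g * t₀ * g⁻¹) := by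
      intro hc
      apply hne₀
      have h1 : g * (t₀ * u₀) * g⁻¹ = g * (u₀ * t₀) * g⁻¹ := by
        calc g * (t₀ * u₀) * g⁻¹ = (g * t₀ * g⁻¹) * (g * u₀ * g⁻¹) := by group
          _ = (g * u₀ * g⁻¹) * (g * t₀ * g⁻¹) := hc
          _ = g * (u₀ * t₀) * g⁻¹ := by group
      exact mul_left_cancel (mul_right_cancel h1)
    have hCP : centralizer ({(g * t₀ * g⁻¹) * (g * u₀ * g⁻¹)} : Set G) = (P : Subgroup G) := by
      rw [hprod, A3CNT2_centralizer_conj, ← hg]
      rfl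
    obtain ⟨_, hp1, hp2⟩ := hpg _ _ ht₁ hu₁ hne₁
    obtain ⟨j1, j2, j3, _⟩ := hinv _ _ ht₁ hu₁ hne₁
    have hcnt := A3CNT2_fiber h.hp h.hp2 (g * t₀ * g⁻¹) ht₁
      (centralizer ({(g * t₀ * g⁻¹) * (g * u₀ * g⁻¹)} : Set G)) hp1
      (h.hab _ hp1) j1 j2 j3
    rw [hp2, ← hE] at hcnt
    rw [← hcnt]
    refine Nat.card_congr ((Equiv.subtypeEquivRight (fun x => ?_)).trans
      (Equiv.subtypeSubtypeEquivSubtypeInter _ _))
    rw [hψ, hCP]
  -- summing over the Sylow subgroups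
  have hsum : Nat.card {x : G × G // orderOf x.1 = 2 ∧ orderOf x.2 = 2 ∧ x.1 * x.2 ≠ x.2 * x.1}
      = Nat.card (Sylow p G) * ((E - 1) * E) := by
    have : Fintype (Sylow p G) := Fintype.ofFinite _
    rw [← Nat.card_congr (Equiv.sigmaFiberEquiv ψ), Nat.card_sigma,
      Finset.sum_congr rfl (fun P _ => hfib P), Finset.sum_const, Finset.card_univ, smul_eq_mul,
      Nat.card_eq_fintype_card]
  -- the number of Sylow subgroups
  have hN : Nat.card (normalizer ((ψ ⟨(t₀, u₀), ht₀, hu₀, hne₀⟩ : Sylow p G) : Set G)) = 2 * E := by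
    rw [hE]
    exact (hinv _ _ ht₀ hu₀ hne₀).2.2.2
  have hS : Nat.card (Sylow p G) * (2 * E) = Nat.card G := by
    rw [Sylow.card_eq_index_normalizer (ψ ⟨(t₀, u₀), ht₀, hu₀, hne₀⟩), ← hN]
    exact Subgroup.index_mul_card _
  rw [hsum, ← hS]
  ring

end Cfsg.Agent.S4017P
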