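import Mathlib
import Cfsg.Prelude.Def_GeometricClasses
import Cfsg.Agent.Helper18.S5707.Defs

/-!
# S5707 piece RANK1 (driver helper18; helper23): the factors of a non-zero pure tensor are unique up to scalars
-/

set_option autoImplicit false

namespace Cfsg.Agent.S5707P

open Matrix

variable {F : Type*} [Field F] {k t : ℕ}

namespace RANK1

/-- an entry of a pure tensor at an updated index pair -/
theorem tensM_update (M : Fin t → Matrix (Fin k) (Fin k) F) (r s : X k t) (i : Fin t) (a b : Fin k) :
    tensM M (Function.update r i a) (Function.update s i b) =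
      M i a b * ∏ j ∈ Finset.univ.erase i, M j (r j) (s j) := by
  unfold tensM
  rw [← Finset.mul_prod_erase Finset.univ _ (Finset.mem_univ i), Function.update_self,
    Function.update_self]
  congr 1
  apply Finset.prod_congr rfl
  intro j hj
  have hji : j ≠ i := Finset.ne_of_mem_erase hj
  rw [Function.update_of_ne hji, Function.update_of_ne hji]

end RANK1

/-- piece RANK1 (M): uniqueness of the factors of a non-zero pure tensor up to scalars. -/
theorem RANK1.unique (A B : Fin t → Matrix (Fin k) (Fin k) F) (h : tensM A = tensM B)
    (hB : ∀ i, B i ≠ 0) : ∀ i, ∃ lam : F, A i = lam • B i := by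
  have hex : ∀ j, ∃ rs : Fin k × Fin k, B j rs.1 rs.2 ≠ 0 := by
    intro j
    by_contra hcon
    push Not at hcon
    apply hB j
    ext a b
    exact hcon (a, b)
  choose rs hrs using hex
  set r : X k t := fun j => (rs j).1 with hr
  set s : X k t := fun j => (rs j).2 with hs
  intro i
  set cA : F := ∏ j ∈ Finset.univ.erase i, A j (r j) (s j) with hcA
  set cB : F := ∏ j ∈ Finset.univ.erase i, B j (r j) (s j) with hcB
  have key : ∀ a b : Fin k, A i a b * cA = B i a b * cB := by
    intro a b
    have := congrFun (congrFun h (Function.update r i a)) (Function.update s i b)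
    rwa [RANK1.tensM_update, RANK1.tensM_update] at this
  have hcB0 : cB ≠ 0 := by
    rw [hcB]
    apply Finset.prod_ne_zero_iff.mpr
    intro j _
    exact hrs j
  have hcA0 : cA ≠ 0 := by
    intro h0
    have := key (r i) (s i)
    rw [h0, mul_zero] at this
    exact mul_ne_zero (hrs i) hcB0 this.symm
  refine ⟨cB / cA, ?_⟩
  ext a b
  rw [Matrix.smul_apply, smul_eq_mul]
  have := key a b
  field_simp
  linear_combination this

end Cfsg.Agent.S5707P
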