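import Mathlib
import Cfsg.Prelude.Def_Classical
import Cfsg.Agent.Helper16.S5955Defs
import Cfsg.Agent.Helper28.HermWitt
import Cfsg.Agent.Helper28.HermFrame

/-! S5953 (driver helper23): shared definitions.

Hermitian analogue of the S5961 / S5955 framework.  Forms are sesquilinear maps
`B : V →ₛₗ[σ] V →ₗ[F] F` (semilinear in the FIRST argument, linear in the second), as in
`Cfsg.Agent.Helper28.HW`.

* `NondegU B M`, `OrthU B M N` : nondegeneracy on / orthogonality of subspaces.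
* `IsHerm q B` : `|F| = q ^ 2`, `σ a = a ^ q`, `σ (B u v) = B v u`.
* `IsYU q B y r` : `IsHerm`, `B` nondegenerate, `y` an isometry with `y ^ r = 1`.
* `cu q r` : the parameter `c` of S5953.
* `prodU B₁ B₂` : orthogonal sum on `V₁ × V₂`;  `augU σ r` : `∑ a, σ (u a) * v a` on `Aug F r`.
* `shiftZ n r z` : the monomial matrix `e_b ↦ e_(b+1)` (`b % r + 1 < r`), `e_b ↦ z • e_(b+1-r)` else.
-/

set_option autoImplicit false

namespace Cfsg.Agent.S5953P

open Cfsg.Agent.S5955P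

section Forms

variable {F V : Type*} [Field F] [AddCommGroup V] [Module F V] {σ : F →+* F}

/-- `B` is nondegenerate on the subspace `M` -/
def NondegU (B : V →ₛₗ[σ] V →ₗ[F] F) (M : Submodule F V) : Prop :=
  ∀ m ∈ M, m ≠ 0 → ∃ v ∈ M, B m v ≠ 0

/-- `M` is orthogonal to `N` -/
def OrthU (B : V →ₛₗ[σ] V →ₗ[F] F) (M N : Submodule F V) : Prop :=
  ∀ u ∈ M, ∀ v ∈ N, B u v = 0

/-- a Hermitian form over the field with `q ^ 2` elements -/
structure IsHerm [Fintype F] (q : ℕ) (B : V →ₛₗ[σ] V →ₗ[F] F) : Prop where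
  card : Fintype.card F = q ^ 2
  frob : ∀ a, σ a = a ^ q
  symm : ∀ u v, σ (B u v) = B v u

/-- a nondegenerate Hermitian space with an isometry `y`, `y ^ r = 1` -/
structure IsYU [Fintype F] (q : ℕ) (B : V →ₛₗ[σ] V →ₗ[F] F) (y : Module.End F V) (r : ℕ) :
    Prop where
  herm : IsHerm q B
  nondeg : NondegU B ⊤
  isom : ∀ u v, B (y u) (y v) = B u v
  pow : y ^ r = 1

theorem IsHerm.invol [Fintype F] {q : ℕ} {B : V →ₛₗ[σ] V →ₗ[F] F} (h : IsHerm q B) (a : F) :
    σ (σ a) = a := by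
  rw [h.frob, h.frob, ← pow_mul, ← pow_two, ← h.card, FiniteField.pow_card]

theorem IsHerm.ne_id [Fintype F] {q : ℕ} {B : V →ₛₗ[σ] V →ₗ[F] F} (h : IsHerm q B) :
    σ ≠ RingHom.id F := by
  intro hid
  have hq : 2 ≤ q := by
    by_contra hlt
    have : q = 0 ∨ q = 1 := by omega
    have h2 := Fintype.one_lt_card (α := F)
    rcases this with rfl | rfl <;> simp [h.card] at h2
  have hall : ∀ a : F, a ^ q = a := fun a => by rw [← h.frob, hid]; rfl
  have hle : Fintype.card F ≤ q := by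
    classical
    have hne : (Polynomial.X ^ q - Polynomial.X : Polynomial F) ≠ 0 :=
      FiniteField.X_pow_card_sub_X_ne_zero F (by omega)
    have hsub : (Finset.univ : Finset F).val ⊆
        (Polynomial.X ^ q - Polynomial.X : Polynomial F).roots := by
      intro a _
      rw [Polynomial.mem_roots hne, Polynomial.IsRoot.def]
      simp [hall a]
    have := Polynomial.card_le_degree_of_subset_roots hsub
    rw [FiniteField.X_pow_card_sub_X_natDegree_eq F (by omega)] at this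
    simpa using this
  rw [h.card] at hle
  nlinarith

theorem IsHerm.isSymm [Fintype F] {q : ℕ} {B : V →ₛₗ[σ] V →ₗ[F] F} (h : IsHerm q B) :
    B.IsSymm := ⟨h.symm⟩

theorem IsHerm.eq_zero_comm [Fintype F] {q : ℕ} {B : V →ₛₗ[σ] V →ₗ[F] F} (h : IsHerm q B)
    {u v : V} (huv : B u v = 0) : B v u = 0 := by
  rw [← h.symm, huv, map_zero]

theorem OrthU.symm [Fintype F] {q : ℕ} {B : V →ₛₗ[σ] V →ₗ[F] F} (h : IsHerm q B)
    {M N : Submodule F V} (hMN : OrthU B M N) : OrthU B N M :=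
  fun u hu v hv => h.eq_zero_comm (hMN v hv u hu)

end Forms

/-- the parameter `c` of S5953: `i`, `i / 2`, `2 i` according as `i ≡ 0, 2 (mod 4)` or `i` odd,
where `i` is the order of `q` modulo `r` -/
noncomputable def cu (q r : ℕ) : ℕ :=
  if orderOf (q : ZMod r) % 4 = 0 then orderOf (q : ZMod r)
  else if orderOf (q : ZMod r) % 4 = 2 then orderOf (q : ZMod r) / 2
  else 2 * orderOf (q : ZMod r)

theorem cu_def (q r : ℕ) :
    cu q r = if orderOf (q : ZMod r) % 4 = 0 then orderOf (q : ZMod r)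
      else if orderOf (q : ZMod r) % 4 = 2 then orderOf (q : ZMod r) / 2
      else 2 * orderOf (q : ZMod r) := rfl

section Prod

variable {F V₁ V₂ : Type*} [Field F] [AddCommGroup V₁] [Module F V₁] [AddCommGroup V₂]
  [Module F V₂] {σ : F →+* F}

/-- the orthogonal sum of two sesquilinear forms -/
def prodU (B₁ : V₁ →ₛₗ[σ] V₁ →ₗ[F] F) (B₂ : V₂ →ₛₗ[σ] V₂ →ₗ[F] F) :
    (V₁ × V₂) →ₛₗ[σ] (V₁ × V₂) →ₗ[F] F :=
  LinearMap.mk₂'ₛₗ σ (RingHom.id F) (fun u v => B₁ u.1 v.1 + B₂ u.2 v.2)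
    (by intro u u' v; simp only [Prod.fst_add, Prod.snd_add, map_add, LinearMap.add_apply]; ring)
    (by intro c u v; simp only [Prod.smul_fst, Prod.smul_snd, map_smulₛₗ, LinearMap.smul_apply,
          smul_eq_mul]; ring)
    (by intro u v v'; simp only [Prod.fst_add, Prod.snd_add, map_add]; ring)
    (by intro c u v; simp only [Prod.smul_fst, Prod.smul_snd, map_smul, smul_eq_mul,
          RingHom.id_apply]; ring)

theorem prodU_apply (B₁ : V₁ →ₛₗ[σ] V₁ →ₗ[F] F) (B₂ : V₂ →ₛₗ[σ] V₂ →ₗ[F] F) (u v : V₁ × V₂) :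
    prodU B₁ B₂ u v = B₁ u.1 v.1 + B₂ u.2 v.2 := rfl

end Prod

section Aug

variable {F : Type*} [Field F] (σ : F →+* F) (r : ℕ) [NeZero r]

/-- the standard Hermitian form `∑ a, σ (u a) * v a` on `ZMod r → F` -/
def shiftU : (ZMod r → F) →ₛₗ[σ] (ZMod r → F) →ₗ[F] F :=
  LinearMap.mk₂'ₛₗ σ (RingHom.id F) (fun u v => ∑ a : ZMod r, σ (u a) * v a)
    (by intro u u' v; simp only [Pi.add_apply, map_add, add_mul, Finset.sum_add_distrib])
    (by intro c u v; simp only [Pi.smul_apply, smul_eq_mul, map_mul, Finset.mul_sum]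
        exact Finset.sum_congr rfl fun a _ => by ring)
    (by intro u v v'; simp only [Pi.add_apply, mul_add, Finset.sum_add_distrib])
    (by intro c u v; simp only [Pi.smul_apply, smul_eq_mul, RingHom.id_apply, Finset.mul_sum]
        exact Finset.sum_congr rfl fun a _ => by ring)

theorem shiftU_apply (u v : ZMod r → F) : shiftU σ r u v = ∑ a : ZMod r, σ (u a) * v a := rfl

/-- the Hermitian form on the augmentation space -/
def augU : (Aug F r) →ₛₗ[σ] (Aug F r) →ₗ[F] F := (shiftU σ r).domRestrict₁₂ (Aug F r) (Aug F r)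

theorem augU_apply (u v : Aug F r) :
    augU σ r u v = ∑ a : ZMod r, σ ((u : ZMod r → F) a) * (v : ZMod r → F) a := rfl

end Aug

section Std

open Cfsg.Agent.Helper28.HermFrame

variable {F : Type*} [Field F]

/-- `hB σ n u v = hermForm n F q v u` -/
theorem hB_herm (σ : F →+* F) {q : ℕ} (hσ : ∀ x, σ x = x ^ q) (n : ℕ) (u v : Fin n → F) :
    hB σ n u v = Cfsg.hermForm n F q v u := hB_eq_herm σ hσ n u v

theorem hB_isHerm [Fintype F] (σ : F →+* F) {q : ℕ} (hF : Fintype.card F = q ^ 2)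
    (hσ : ∀ x, σ x = x ^ q) (n : ℕ) : IsHerm q (hB σ n) := by
  have hσ2 : ∀ a, σ (σ a) = a := fun a => by
    rw [hσ, hσ, ← pow_mul, ← pow_two, ← hF, FiniteField.pow_card]
  exact ⟨hF, hσ, fun u v => (hB_isSymm σ hσ2 n).eq u v⟩

theorem hB_nondegU (σ : F →+* F) (hσ2 : ∀ a, σ (σ a) = a) (n : ℕ) : NondegU (hB σ n) ⊤ := by
  intro m _ hm
  by_contra hcon
  apply hm
  have := (hB_nondeg σ hσ2 n).1
  apply this
  intro v
  by_contra hv
  exact hcon ⟨v, Submodule.mem_top, hv⟩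

end Std

section ShiftZ

variable {F : Type*} [Field F]

/-- the monomial matrix `e_b ↦ e_(b+1)` if `b % r + 1 < r`, `e_b ↦ z • e_(b+1-r)` otherwise -/
def shiftZ (n r : ℕ) (z : F) : Matrix (Fin n) (Fin n) F :=
  fun a b => if (b : ℕ) % r + 1 < r then (if (a : ℕ) = (b : ℕ) + 1 then 1 else 0)
    else (if (a : ℕ) + r = (b : ℕ) + 1 then z else 0)

theorem shiftZ_apply (n r : ℕ) (z : F) (a b : Fin n) :
    shiftZ n r z a b = if (b : ℕ) % r + 1 < r then (if (a : ℕ) = (b : ℕ) + 1 then 1 else 0)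
      else (if (a : ℕ) + r = (b : ℕ) + 1 then z else 0) := rfl

end ShiftZ

end Cfsg.Agent.S5953P

namespace Cfsg.Agent.S5953P

section SUmem

open scoped Matrix

variable {F : Type*} [Field F]

/-- the matrix `x` preserves the standard Hermitian form -/
def IsUn (q : ℕ) {n : ℕ} (x : Matrix (Fin n) (Fin n) F) : Prop :=
  ∀ u v : Fin n → F, Cfsg.hermForm n F q (x *ᵥ u) (x *ᵥ v) = Cfsg.hermForm n F q u v

theorem mem_SU_iff {q n : ℕ} (x : Matrix.SpecialLinearGroup (Fin n) F) :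
    x ∈ Cfsg.SU n F q ↔ IsUn q (x : Matrix (Fin n) (Fin n) F) := Iff.rfl

theorem exists_SU_of_isUn {q n : ℕ} (x : Matrix (Fin n) (Fin n) F) (hdet : x.det = 1)
    (hx : IsUn q x) :
    ∃ X : Matrix.SpecialLinearGroup (Fin n) F, X ∈ Cfsg.SU n F q ∧
      (X : Matrix (Fin n) (Fin n) F) = x :=
  ⟨⟨x, hdet⟩, hx, rfl⟩

theorem IsUn.toLin {q n : ℕ} {σ : F →+* F} (hσ : ∀ a, σ a = a ^ q)
    {x : Matrix (Fin n) (Fin n) F} (hx : IsUn q x) (u v : Fin n → F) :
    Cfsg.Agent.Helper28.HermFrame.hB σ n (Matrix.toLin' x u) (Matrix.toLin' x v) =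
      Cfsg.Agent.Helper28.HermFrame.hB σ n u v := by
  rw [hB_herm σ hσ, hB_herm σ hσ, Matrix.toLin'_apply, Matrix.toLin'_apply]
  exact hx v u

end SUmem

end Cfsg.Agent.S5953P
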