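import Mathlib
import Cfsg.Prelude.Def_Characters
import Cfsg.Agent.Helper12.LSUDefs
import Cfsg.Agent.Helper12.LSUEMB
import Cfsg.Agent.Helper12.LSpWDefs
import Cfsg.Agent.Helper12.LSpWPDefs
import Cfsg.Agent.Helper26.LSpSNI
import Cfsg.Agent.Helper13.LSpSQUAD

set_option autoImplicit false

/-! S2347 piece S22: for a symmetric `H' ≠ 0`, every corner `c' ≠ 0` occurs in the orbit of
`dblock c H'`. -/

namespace Cfsg.Agent.Helper12.LSp

open Matrix Cfsg Cfsg.Agent.Helper2.Sp Cfsg.Agent.Helper12.LSU Cfsg.Agent.Helper25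

variable {n : ℕ} {F : Type*} [Field F]

theorem s22_transpose_dblock {m : ℕ} (t : F) (A' : Matrix (Fin m) (Fin m) F) :
    (dblock t A')ᵀ = dblock t A'ᵀ := by
  apply dblock_ext
  · rfl
  · intro j; rfl
  · intro i; rfl
  · intro i j; rfl

/-- the corner of `A K Aᵀ` when the first row of `A` is `(x, y, 0, …, 0)` -/
theorem s22_corner {k : ℕ} (A K : Matrix (Fin (k + 1 + 1)) (Fin (k + 1 + 1)) F) (x y : F)
    (h0 : A 0 0 = x) (h1 : A 0 (Fin.succ 0) = y) (h2 : ∀ j : Fin k, A 0 j.succ.succ = 0) :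
    (A * K * Aᵀ) 0 0 = x * x * K 0 0 + x * y * K 0 (Fin.succ 0) + y * x * K (Fin.succ 0) 0 +
      y * y * K (Fin.succ 0) (Fin.succ 0) := by
  have hrow : ∀ b, (A * K) 0 b = x * K 0 b + y * K (Fin.succ 0) b := by
    intro b
    rw [Matrix.mul_apply, Fin.sum_univ_succ, Fin.sum_univ_succ, h0, h1]
    have : ∑ j : Fin k, A 0 j.succ.succ * K j.succ.succ b = 0 := by
      apply Finset.sum_eq_zero
      intro j _
      rw [h2 j, zero_mul]
    rw [this, add_zero]
  rw [Matrix.mul_apply, Fin.sum_univ_succ, Fin.sum_univ_succ]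
  have : ∑ j : Fin k, (A * K) 0 j.succ.succ * Aᵀ j.succ.succ 0 = 0 := by
    apply Finset.sum_eq_zero
    intro j _
    rw [Matrix.transpose_apply, h2 j, mul_zero]
  rw [this, add_zero, Matrix.transpose_apply, Matrix.transpose_apply, h0, h1, hrow, hrow]
  ring

/-- an invertible matrix with first row `(x, y, 0, …, 0)`, `(x, y) ≠ 0` -/
theorem s22_exists_row {k : ℕ} (x y : F) (hxy : x ≠ 0 ∨ y ≠ 0) :
    ∃ A : Matrix (Fin (k + 1 + 1)) (Fin (k + 1 + 1)) F, A.det ≠ 0 ∧ A 0 0 = x ∧
      A 0 (Fin.succ 0) = y ∧ ∀ j : Fin k, A 0 j.succ.succ = 0 := by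
  classical
  have h01 : (0 : Fin (k + 1 + 1)) ≠ Fin.succ 0 := (Fin.succ_ne_zero _).symm
  by_cases hx : x = 0
  · -- row `(0, y, 0, …)`
    have hy : y ≠ 0 := by
      rcases hxy with h | h
      · exact absurd hx h
      · exact h
    refine ⟨Matrix.diagonal (fun i => if i = 0 then y else 1) *
      (Equiv.swap (0 : Fin (k + 1 + 1)) (Fin.succ 0)).toPEquiv.toMatrix, ?_, ?_, ?_, ?_⟩
    · rw [Matrix.det_mul, Matrix.det_diagonal, Matrix.det_permutation]
      apply mul_ne_zero
      · rw [Finset.prod_ne_zero_iff]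
        intro i _
        split_ifs
        · exact hy
        · exact one_ne_zero
      · rcases Int.units_eq_one_or (Equiv.Perm.sign (Equiv.swap (0 : Fin (k + 1 + 1)) (Fin.succ 0)))
          with h | h <;> rw [h] <;> simp
    · rw [Matrix.diagonal_mul, if_pos rfl, PEquiv.toMatrix_apply, Equiv.toPEquiv_apply,
        Equiv.swap_apply_left, if_neg (by rw [Option.mem_some_iff]; exact h01.symm), mul_zero, hx]
    · rw [Matrix.diagonal_mul, if_pos rfl, PEquiv.toMatrix_apply, Equiv.toPEquiv_apply,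
        Equiv.swap_apply_left, if_pos (by rw [Option.mem_some_iff]), mul_one]
    · intro j
      have : (Fin.succ 0 : Fin (k + 1 + 1)) ≠ j.succ.succ := by
        intro h
        exact (Fin.succ_ne_zero j) (Fin.succ_injective _ h).symm
      rw [Matrix.diagonal_mul, if_pos rfl, PEquiv.toMatrix_apply, Equiv.toPEquiv_apply,
        Equiv.swap_apply_left, if_neg (by rw [Option.mem_some_iff]; exact this), mul_zero]
  · -- row `(x, y, 0, …)`
    refine ⟨Matrix.diagonal (fun i => if i = 0 then x else 1) *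
      Matrix.transvection (0 : Fin (k + 1 + 1)) (Fin.succ 0) (y / x), ?_, ?_, ?_, ?_⟩
    · rw [Matrix.det_mul, Matrix.det_diagonal, Matrix.det_transvection_of_ne _ _ h01, mul_one]
      rw [Finset.prod_ne_zero_iff]
      intro i _
      split_ifs
      · exact hx
      · exact one_ne_zero
    · rw [Matrix.diagonal_mul, if_pos rfl, Matrix.transvection, Matrix.add_apply,
        Matrix.one_apply_eq, Matrix.single_apply, if_neg (by
          rintro ⟨-, h⟩
          exact h01 h.symm), add_zero, mul_one]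
    · rw [Matrix.diagonal_mul, if_pos rfl, Matrix.transvection, Matrix.add_apply,
        Matrix.one_apply_ne h01, Matrix.single_apply, if_pos ⟨rfl, rfl⟩, zero_add,
        mul_div_cancel₀ _ hx]
    · intro j
      have hj0 : (0 : Fin (k + 1 + 1)) ≠ j.succ.succ := (Fin.succ_ne_zero _).symm
      have hj1 : (Fin.succ 0 : Fin (k + 1 + 1)) ≠ j.succ.succ := by
        intro h
        exact (Fin.succ_ne_zero j) (Fin.succ_injective _ h).symm
      rw [Matrix.diagonal_mul, if_pos rfl, Matrix.transvection, Matrix.add_apply,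
        Matrix.one_apply_ne hj0, Matrix.single_apply, if_neg (by
          rintro ⟨-, h⟩
          exact hj1 h), add_zero, mul_zero]

theorem s22_exists_corner_eq [Fintype F] (h2 : (2 : F) ≠ 0) {m : ℕ} (c : F) (hc : c ≠ 0)
    (H' : Matrix (Fin m) (Fin m) F) (hH' : H'ᵀ = H') (h0 : H' ≠ 0) (c' : F) (hc' : c' ≠ 0) :
    ∃ A : Matrix (Fin (m + 1)) (Fin (m + 1)) F, A.det ≠ 0 ∧ (A * dblock c H' * Aᵀ) 0 0 = c' := by
  rcases m with _ | k
  · exfalso
    apply h0
    ext i
    exact i.elim0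
  obtain ⟨A', hA', hb⟩ := sni_exists_corner_ne_zero h2 H' hH' h0
  obtain ⟨x, y, hxy⟩ := squad_exists h2 c ((A' * H' * A'ᵀ) 0 0) c' hc hb
  have hxy0 : x ≠ 0 ∨ y ≠ 0 := by
    by_contra hcon
    push Not at hcon
    rw [hcon.1, hcon.2] at hxy
    apply hc'
    rw [← hxy]
    ring
  obtain ⟨A₂, hA₂, r0, r1, r2⟩ := s22_exists_row (k := k) x y hxy0
  refine ⟨A₂ * dblock 1 A', ?_, ?_⟩
  · rw [Matrix.det_mul, det_dblock, one_mul]
    exact mul_ne_zero hA₂ hA'
  · have hK : A₂ * dblock 1 A' * dblock c H' * (A₂ * dblock 1 A')ᵀ =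
        A₂ * dblock c (A' * H' * A'ᵀ) * A₂ᵀ := by
      rw [Matrix.transpose_mul, s22_transpose_dblock]
      have : dblock (1 : F) A' * dblock c H' * dblock 1 A'ᵀ = dblock c (A' * H' * A'ᵀ) := by
        rw [dblock_mul, dblock_mul, one_mul, mul_one]
      rw [← this]
      simp only [Matrix.mul_assoc]
    rw [hK, s22_corner A₂ _ x y r0 r1 r2, dblock_zero_zero, dblock_zero_succ, dblock_succ_zero,
      dblock_succ_succ, ← hxy]
    ring

end Cfsg.Agent.Helper12.LSp
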