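import Mathlib
import Cfsg.Prelude.Def_Characters
import Cfsg.Agent.Helper12.LSUDefs
import Cfsg.Agent.Helper12.LSpWDefs
import Cfsg.Agent.Helper12.LSpWPDefs

set_option autoImplicit false

/-! S2347 piece WPb: the index of `PP = Heis ⋊ U` in `Gam` is prime to `p`. -/

namespace Cfsg.Agent.Helper12.LSp

open Matrix Cfsg Cfsg.Agent.Helper2.Sp Cfsg.Agent.Helper12.LSU Cfsg.Agent.Helper25

variable {n : ℕ} {F : Type*} [Field F]

theorem PP_index_coprime [Fintype F] (p : ℕ) [Fact p.Prime] [CharP F p] :
    Nat.Coprime (PP n F).index p := by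
  have hp : p.Prime := Fact.out
  obtain ⟨P, hP⟩ := SpU.exists_sylow_uni (m := n) (K := F) p
  have h1 : (PP n F).index = (SpU.uni n F).index := by
    unfold PP
    exact Subgroup.index_comap_of_surjective _ SemidirectProduct.rightHom_surjective
  rw [h1, ← hP]
  exact ((Nat.Prime.coprime_iff_not_dvd hp).mpr P.not_dvd_index).symm

end Cfsg.Agent.Helper12.LSp
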