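import Mathlib
import Cfsg.Prelude.Def_Characters
import Cfsg.Agent.Helper12.LSUDefs
import Cfsg.Agent.Helper12.LSpWDefs
import Cfsg.Agent.Helper12.LSpWPDefs
import Cfsg.Agent.Helper5.LSpWCOP

set_option autoImplicit false

/-! S2347 piece WSYLL: `theta` extends to the preimage of a Sylow `l`-subgroup of `Sp`, `l ≠ p`. -/

namespace Cfsg.Agent.Helper12.LSp

open Matrix Cfsg Cfsg.Agent.Helper2.Sp Cfsg.Agent.Helper12.LSU Cfsg.Agent.Helper25

variable {n : ℕ} {F : Type*} [Field F]

theorem wsyll_NH_eq_ker : NH n F = (SemidirectProduct.rightHom :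
    Gam n F →* symplecticGroup (Fin n) F).ker := by
  unfold NH
  exact SemidirectProduct.range_inl_eq_ker_rightHom

theorem wsyll_card_NH [Fintype F] : Nat.card (NH n F) = Fintype.card F ^ (2 * n + 1) := by
  rw [← card_heis (n := n) (F := F)]
  unfold NH
  exact (Nat.card_congr (Equiv.ofInjective _
    (SemidirectProduct.inl_injective (N := Heis n F) (G := symplecticGroup (Fin n) F)
      (φ := heisPhi n F)))).symm

theorem exists_ext_prime_ne [Fintype F] (p : ℕ) [Fact p.Prime] [CharP F p] (ψ : AddChar F ℂ)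
    (hirr : IsIrrCharacter (NH n F) (thetaN ψ)) (l : ℕ) (hl : l.Prime) (hlp : l ≠ p) :
    ∃ (P : Subgroup (Gam n F)) (hNP : NH n F ≤ P) (η : P → ℂ), Nat.Coprime P.index l ∧
      IsIrrCharacter P η ∧ ∀ x : NH n F, η ⟨(x : Gam n F), hNP x.2⟩ = thetaN ψ x := by
  have hp : p.Prime := Fact.out
  have : Fact l.Prime := ⟨hl⟩
  obtain ⟨S⟩ : Nonempty (Sylow l (symplecticGroup (Fin n) F)) := inferInstance
  have hsurj : Function.Surjective (SemidirectProduct.rightHom :
      Gam n F →* symplecticGroup (Fin n) F) := SemidirectProduct.rightHom_surjective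
  have hNP : NH n F ≤ (S : Subgroup (symplecticGroup (Fin n) F)).comap
      SemidirectProduct.rightHom := by
    intro x hx
    rw [Subgroup.mem_comap]
    have h1 : SemidirectProduct.rightHom x = 1 := (mem_NH_iff x).mp hx
    rw [h1]
    exact Subgroup.one_mem _
  -- the index
  have hidx : ((S : Subgroup (symplecticGroup (Fin n) F)).comap
      (SemidirectProduct.rightHom : Gam n F →* _)).index =
      (S : Subgroup (symplecticGroup (Fin n) F)).index :=
    Subgroup.index_comap_of_surjective _ hsurj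
  -- the relative index
  have hrel : (NH n F).relIndex ((S : Subgroup (symplecticGroup (Fin n) F)).comap
      (SemidirectProduct.rightHom : Gam n F →* _)) =
      Nat.card (S : Subgroup (symplecticGroup (Fin n) F)) := by
    have h1 : NH n F = (⊥ : Subgroup (symplecticGroup (Fin n) F)).comap
        (SemidirectProduct.rightHom : Gam n F →* _) := by
      rw [wsyll_NH_eq_ker]
      rfl
    rw [h1, Subgroup.relIndex_comap, Subgroup.map_comap_eq_self_of_surjective hsurj,
      Subgroup.relIndex_bot_left]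
  obtain ⟨k, hk⟩ := IsPGroup.iff_card.mp S.isPGroup'
  obtain ⟨e, -, he⟩ := FiniteField.card F p
  -- the degree
  have hd : thetaN ψ (1 : NH n F) = ((Fintype.card F ^ n : ℕ) : ℂ) := by
    have h1 : thetaN ψ (1 : NH n F) = theta ψ (1 : Heis n F) := rfl
    rw [h1, theta_one]
    push_cast
    rfl
  have hcop : Nat.Coprime ((NH n F).relIndex
      ((S : Subgroup (symplecticGroup (Fin n) F)).comap
        (SemidirectProduct.rightHom : Gam n F →* _)))
      (Nat.card (NH n F) * Fintype.card F ^ n) := by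
    rw [hrel, hk, wsyll_card_NH, he, ← pow_mul, ← pow_mul, ← pow_add]
    exact Nat.Coprime.pow _ _ ((Nat.coprime_primes hl hp).mpr hlp)
  obtain ⟨η, hη, hres⟩ := exists_ext_of_coprime (NH n F) (thetaN ψ) hirr
    (fun g x => thetaN_inv ψ g x) (Fintype.card F ^ n) hd _ hNP hcop
  refine ⟨_, hNP, η, ?_, hη, hres⟩
  rw [hidx]
  exact ((Nat.Prime.coprime_iff_not_dvd hl).mpr S.not_dvd_index).symm

end Cfsg.Agent.Helper12.LSp
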