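import Mathlib
import Cfsg.Agent.Helper13.S2276Defs
import Cfsg.Agent.Helper4.S2276NS3
import Cfsg.Agent.Helper4.S2276EVEN2

/-! # S2276, piece P3ONE: one 3-cycle `(0 4 2)` against the rotation of `Fin r`, `r ≥ 7` odd. -/

set_option autoImplicit false

namespace Cfsg.Agent.S2276P

open Equiv Equiv.Perm

namespace P3ONE

/-- values of the powers of the rotation -/
theorem rot_pow_val (n d : ℕ) (i : Fin (n + 1)) :
    ((finRotate (n + 1) ^ d) i).val = (i.val + d) % (n + 1) := by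
  induction d with
  | zero => simp [Nat.mod_eq_of_lt i.isLt]
  | succ d ih =>
    rw [pow_succ', Perm.mul_apply, finRotate_apply, Fin.val_add, ih, Fin.val_one', Nat.add_mod_mod,
      Nat.mod_add_mod, add_assoc]

/-- value of the rotation -/
theorem rot_val (n : ℕ) (i : Fin (n + 1)) (hi : i.val + 1 < n + 1) :
    (finRotate (n + 1) i).val = i.val + 1 := by
  have := rot_pow_val n 1 i
  rw [pow_one] at this
  rw [this, Nat.mod_eq_of_lt hi]

end P3ONE

/-- P3ONE [M]: `v = (0 4 2)` (`0 ↦ 4 ↦ 2 ↦ 0`): `c v` swaps `1, 2` (EVEN2); `v` itself is a 3-cycle with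
`v 2 = 0`... use `v 0 = 4 = c ^ 4 0` (NS3 with `d = 4`). -/
theorem P3ONE.main {r : ℕ} (hr : Odd r) (h7 : 7 ≤ r) {p : ℕ} (hp : p.Prime) (hp2 : p ≠ 2) :
    ∃ v : Perm (Fin r), v.cycleType = {3} ∧ Good p (finRotate r) v := by
  obtain ⟨n, rfl⟩ : ∃ n, r = n + 1 := ⟨r - 1, by omega⟩
  set x0 : Fin (n + 1) := ⟨0, by omega⟩ with hx0
  set x1 : Fin (n + 1) := ⟨1, by omega⟩ with hx1
  set x2 : Fin (n + 1) := ⟨2, by omega⟩ with hx2
  set x4 : Fin (n + 1) := ⟨4, by omega⟩ with hx4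
  have h02 : x0 ≠ x2 := by rw [hx0, hx2]; intro hh; simp [Fin.ext_iff] at hh
  have h04 : x0 ≠ x4 := by rw [hx0, hx4]; intro hh; simp [Fin.ext_iff] at hh
  have h24 : x2 ≠ x4 := by rw [hx2, hx4]; intro hh; simp [Fin.ext_iff] at hh
  have h12 : x1 ≠ x2 := by rw [hx1, hx2]; intro hh; simp [Fin.ext_iff] at hh
  have h10 : x1 ≠ x0 := by rw [hx1, hx0]; intro hh; simp [Fin.ext_iff] at hh
  have h14 : x1 ≠ x4 := by rw [hx1, hx4]; intro hh; simp [Fin.ext_iff] at hh
  set v : Perm (Fin (n + 1)) := swap x0 x2 * swap x0 x4 with hv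
  have hv3 : v.IsThreeCycle := isThreeCycle_swap_mul_swap_same h02 h04 h24
  -- values of `v`
  have hv0 : v x0 = x4 := by
    rw [hv, Perm.mul_apply, swap_apply_left, swap_apply_of_ne_of_ne (Ne.symm h04) (Ne.symm h24)]
  have hv2 : v x2 = x0 := by
    rw [hv, Perm.mul_apply, swap_apply_of_ne_of_ne (Ne.symm h02) h24, swap_apply_right]
  have hv1 : v x1 = x1 := by
    rw [hv, Perm.mul_apply, swap_apply_of_ne_of_ne h10 h14, swap_apply_of_ne_of_ne h10 h12]
  -- values of `c`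
  have hc0 : finRotate (n + 1) x0 = x1 := by
    apply Fin.ext
    rw [P3ONE.rot_val n x0 (by rw [hx0]; simp; omega)]
  have hc1 : finRotate (n + 1) x1 = x2 := by
    apply Fin.ext
    rw [P3ONE.rot_val n x1 (by rw [hx1]; simp; omega)]
  refine ⟨v, hv3, ?_, ?_⟩
  · apply EVEN2.main hp hp2 (finRotate (n + 1) * v) h12
    · rw [Perm.mul_apply, hv1, hc1]
    · rw [Perm.mul_apply, hv2, hc0]
  · have hcK : finRotate (n + 1) ∈ Subgroup.closure ({finRotate (n + 1), v} : Set (Perm (Fin (n + 1)))) :=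
      Subgroup.subset_closure (by simp)
    have hvK : v ∈ Subgroup.closure ({finRotate (n + 1), v} : Set (Perm (Fin (n + 1)))) :=
      Subgroup.subset_closure (by simp)
    have hco : Nat.Coprime 4 (n + 1) := by
      have : Nat.Coprime 2 (n + 1) := Nat.coprime_two_left.mpr hr
      exact Nat.Coprime.pow_left 2 this
    refine NS3.main hr (by omega) _ hcK hvK hv3 (x := x0) (d := 4) hco ?_
    rw [hv0]
    apply Fin.ext
    rw [P3ONE.rot_pow_val, Nat.mod_eq_of_lt (by rw [hx0]; simp; omega)]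

end Cfsg.Agent.S2276P
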