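import Mathlib
import Cfsg.Agent.Helper13.S2276Defs
import Cfsg.Agent.Helper4.S2276IOTA
import Cfsg.Agent.Helper4.S2276EVEN2

/-! # S2276, piece RCYCODD: the rotation `c` and `τ c⁻¹ τ⁻¹`, `τ = (1 3)`. -/

set_option autoImplicit false

namespace Cfsg.Agent.S2276P

open Equiv Equiv.Perm

namespace RCYCODD

/-- values of the powers of the rotation -/
theorem rot_pow_val (n d : ℕ) (i : Fin (n + 1)) :
    ((finRotate (n + 1) ^ d) i).val = (i.val + d) % (n + 1) := by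
  induction d with
  | zero => simp [Nat.mod_eq_of_lt i.isLt]
  | succ d ih =>
    rw [pow_succ', Perm.mul_apply, finRotate_apply, Fin.val_add, ih, Fin.val_one', Nat.add_mod_mod,
      Nat.mod_add_mod, add_assoc]

/-- value of the rotation -/
theorem rot_val (n : ℕ) (i : Fin (n + 1)) (hi : i.val + 1 < n + 1) :
    (finRotate (n + 1) i).val = i.val + 1 := by
  have := rot_pow_val n 1 i
  rw [pow_one] at this
  rw [this, Nat.mod_eq_of_lt hi]

end RCYCODD

/-- RCYCODD [M]: `τ = (1 3)`: `c * (τ c⁻¹ τ⁻¹) = (c τ c⁻¹) τ = (2 4)(1 3)`: EVEN2 and IOTA (the product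
itself is in the closure). -/
theorem RCYCODD.main {r : ℕ} (hr : Odd r) (h5 : 5 ≤ r) {p : ℕ} (hp : p.Prime) (hp2 : p ≠ 2) :
    ∃ τ : Perm (Fin r), Perm.sign τ = -1 ∧
      Good p (finRotate r) (τ * (finRotate r)⁻¹ * τ⁻¹) := by
  obtain ⟨n, rfl⟩ : ∃ n, r = n + 1 := ⟨r - 1, by omega⟩
  set x1 : Fin (n + 1) := ⟨1, by omega⟩ with hx1
  set x2 : Fin (n + 1) := ⟨2, by omega⟩ with hx2
  set x3 : Fin (n + 1) := ⟨3, by omega⟩ with hx3
  set x4 : Fin (n + 1) := ⟨4, by omega⟩ with hx4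
  have h13 : x1 ≠ x3 := by rw [hx1, hx3]; intro hh; simp [Fin.ext_iff] at hh
  have h12 : x1 ≠ x2 := by rw [hx1, hx2]; intro hh; simp [Fin.ext_iff] at hh
  have h14 : x1 ≠ x4 := by rw [hx1, hx4]; intro hh; simp [Fin.ext_iff] at hh
  have h32 : x3 ≠ x2 := by rw [hx3, hx2]; intro hh; simp [Fin.ext_iff] at hh
  have h34 : x3 ≠ x4 := by rw [hx3, hx4]; intro hh; simp [Fin.ext_iff] at hh
  have hc1 : finRotate (n + 1) x1 = x2 := by
    apply Fin.ext
    rw [RCYCODD.rot_val n x1 (by rw [hx1]; simp; omega)]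
  have hc3 : finRotate (n + 1) x3 = x4 := by
    apply Fin.ext
    rw [RCYCODD.rot_val n x3 (by rw [hx3]; simp; omega)]
  set c := finRotate (n + 1) with hc
  -- the product
  have hprod : c * (swap x1 x3 * c⁻¹ * (swap x1 x3)⁻¹) = swap x2 x4 * swap x1 x3 := by
    have e1 : swap (c x1) (c x3) = c * swap x1 x3 * c⁻¹ := Equiv.swap_apply_apply c x1 x3
    rw [hc1, hc3] at e1
    rw [e1, Equiv.swap_inv]
    group
  refine ⟨swap x1 x3, Equiv.Perm.sign_swap h13, ?_, ?_⟩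
  · rw [hprod]
    apply EVEN2.main hp hp2 (swap x2 x4 * swap x1 x3) h13
    · rw [Perm.mul_apply, swap_apply_left, swap_apply_of_ne_of_ne h32 h34]
    · rw [Perm.mul_apply, swap_apply_right, swap_apply_of_ne_of_ne h12 h14]
  · have hcK : c ∈ Subgroup.closure ({c, swap x1 x3 * c⁻¹ * (swap x1 x3)⁻¹} : Set (Perm (Fin (n + 1)))) :=
      Subgroup.subset_closure (by simp)
    have hvK : swap x1 x3 * c⁻¹ * (swap x1 x3)⁻¹ ∈
        Subgroup.closure ({c, swap x1 x3 * c⁻¹ * (swap x1 x3)⁻¹} : Set (Perm (Fin (n + 1)))) :=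
      Subgroup.subset_closure (by simp)
    have hι : swap x2 x4 * swap x1 x3 ∈
        Subgroup.closure ({c, swap x1 x3 * c⁻¹ * (swap x1 x3)⁻¹} : Set (Perm (Fin (n + 1)))) := by
      rw [← hprod]
      exact Subgroup.mul_mem _ hcK hvK
    exact IOTA.main hr h5 _ hcK (x1 := x1) (x2 := x2) (x3 := x3) (x4 := x4) rfl rfl rfl rfl hι

end Cfsg.Agent.S2276P
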