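import Mathlib
import Cfsg.Agent.Helper5.S2536DefsA

set_option autoImplicit false

/-! S2536 stage 2, piece CONJ (driver helper5; helper23): point stabilizers, set stabilizers and
bisection stabilizers of the same shape are conjugate in `Perm α`. -/

namespace Cfsg.Agent.S2536P

open Equiv Nat

universe u v

section Sym

variable {α : Type u} [Finite α]

namespace CONJ

/-- a permutation carrying the predicate `p` to a predicate `q` of the same size -/
theorem exists_perm (p q : α → Prop) (h : Nat.card {x // p x} = Nat.card {x // q x}) :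
    ∃ g : Perm α, ∀ x, q (g x) ↔ p x := by
  classical
  have hsum : ∀ r : α → Prop, Nat.card {x // r x} + Nat.card {x // ¬ r x} = Nat.card α := by
    intro r
    rw [← Nat.card_sum]
    exact Nat.card_congr (Equiv.sumCompl r)
  have h' : Nat.card {x // ¬ p x} = Nat.card {x // ¬ q x} := by
    have h1 := hsum p
    have h2 := hsum q
    omega
  obtain ⟨e1⟩ : Nonempty ({x // p x} ≃ {x // q x}) := Finite.card_eq.mp h
  obtain ⟨e2⟩ : Nonempty ({x // ¬ p x} ≃ {x // ¬ q x}) := Finite.card_eq.mp h'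
  refine ⟨(Equiv.sumCompl p).symm.trans ((Equiv.sumCongr e1 e2).trans (Equiv.sumCompl q)), ?_⟩
  intro x
  by_cases hx : p x
  · have : ((Equiv.sumCompl p).symm.trans ((Equiv.sumCongr e1 e2).trans (Equiv.sumCompl q))) x =
        (e1 ⟨x, hx⟩ : α) := by
      simp [Equiv.sumCompl_symm_apply_of_pos hx]
    rw [this]
    exact ⟨fun _ => hx, fun _ => (e1 ⟨x, hx⟩).2⟩
  · have : ((Equiv.sumCompl p).symm.trans ((Equiv.sumCongr e1 e2).trans (Equiv.sumCompl q))) x =
        (e2 ⟨x, hx⟩ : α) := by
      simp [Equiv.sumCompl_symm_apply_of_neg hx]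
    rw [this]
    exact ⟨fun hq => absurd hq (e2 ⟨x, hx⟩).2, fun hp => absurd hp hx⟩

theorem inv_apply {p q : α → Prop} {g : Perm α} (hg : ∀ x, q (g x) ↔ p x) (z : α) :
    p (g⁻¹ z) ↔ q z := by
  have := hg (g⁻¹ z)
  rw [show g (g⁻¹ z) = z from g.apply_symm_apply z] at this
  exact this.symm

end CONJ

open CONJ

/-- CONJ1 -/
theorem stabilizer_conj (x y : α) :
    ∃ g : Perm α, MulAction.stabilizer (Perm α) y =
      (MulAction.stabilizer (Perm α) x).map (MulAut.conj g).toMonoidHom := by
  classical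
  refine ⟨Equiv.swap x y, ?_⟩
  rw [← MulAction.stabilizer_smul_eq_stabilizer_map_conj]
  congr 1
  rw [Perm.smul_def, Equiv.swap_apply_left]

/-- CONJ2 -/
theorem setStab_conj (p q : α → Prop) (h : Nat.card {x // p x} = Nat.card {x // q x}) :
    ∃ g : Perm α, setStab q = (setStab p).map (MulAut.conj g).toMonoidHom := by
  obtain ⟨g, hg⟩ := exists_perm p q h
  refine ⟨g, ?_⟩
  ext k
  rw [Subgroup.mem_map]
  constructor
  · intro hk
    refine ⟨g⁻¹ * k * g, ?_, ?_⟩
    · intro x
      show p ((g⁻¹ * k * g) x) ↔ p x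
      rw [Perm.mul_apply, Perm.mul_apply, inv_apply hg, hk (g x), hg]
    · show g * (g⁻¹ * k * g) * g⁻¹ = k
      group
  · rintro ⟨k', hk', rfl⟩
    intro z
    show q ((g * k' * g⁻¹) z) ↔ q z
    rw [Perm.mul_apply, Perm.mul_apply, hg, hk' (g⁻¹ z), inv_apply hg]

/-- CONJ3 -/
theorem biStab_conj (p q : α → Prop) (h : Nat.card {x // p x} = Nat.card {x // q x}) :
    ∃ g : Perm α, biStab q = (biStab p).map (MulAut.conj g).toMonoidHom := by
  obtain ⟨g, hg⟩ := exists_perm p q h
  refine ⟨g, ?_⟩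
  ext k
  rw [Subgroup.mem_map]
  constructor
  · intro hk
    refine ⟨g⁻¹ * k * g, ?_, ?_⟩
    · rcases hk with hk | hk
      · left
        intro x
        rw [Perm.mul_apply, Perm.mul_apply, inv_apply hg, hk (g x), hg]
      · right
        intro x
        rw [Perm.mul_apply, Perm.mul_apply, inv_apply hg, hk (g x), hg]
    · show g * (g⁻¹ * k * g) * g⁻¹ = k
      group
  · rintro ⟨k', hk', rfl⟩
    rcases hk' with hk' | hk'
    · left
      intro z
      show q ((g * k' * g⁻¹) z) ↔ q z
      rw [Perm.mul_apply, Perm.mul_apply, hg, hk' (g⁻¹ z), inv_apply hg]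
    · right
      intro z
      show q ((g * k' * g⁻¹) z) ↔ ¬ q z
      rw [Perm.mul_apply, Perm.mul_apply, hg, hk' (g⁻¹ z), inv_apply hg]

end Sym

end Cfsg.Agent.S2536P
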