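import Mathlib
import Cfsg.Agent.Helper8.MatBNDefs
import Cfsg.Agent.Helper8.S2546Defs
import Cfsg.Agent.Helper8.S2546EMB
import Cfsg.Agent.Helper8.S2546HDE
import Cfsg.Agent.Helper17.S2546JCalc
import Cfsg.Agent.Helper17.S2546PRES
import Cfsg.Agent.Helper17.S2546XMEM
import Cfsg.Agent.Helper23.S2546TAU

set_option autoImplicit false
open scoped Matrix

/-! S2546 piece HDL (driver helper8; helper23): the rank one Bruhat identity for the nodes of linear type,
via the block embedding along the positions `j, j+1, n-2-j, n-1-j`. -/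

namespace Cfsg.Agent.S2546P

open Cfsg.Agent.MatBN Cfsg.Agent.MatBN.EMB

variable {K : Type*} [Field K]

namespace HDL

/-- the positions of the `4 × 4` block -/
def f4 (n j : ℕ) (hj : j + 1 < n / 2) : Fin 4 → Fin n :=
  ![⟨j, by omega⟩, ⟨j + 1, by omega⟩, ⟨n - 2 - j, by omega⟩, ⟨n - 1 - j, by omega⟩]

theorem f4_val (n j : ℕ) (hj : j + 1 < n / 2) (p : Fin 4) :
    ((f4 n j hj p : Fin n) : ℕ) = ![j, j + 1, n - 2 - j, n - 1 - j] p := by
  fin_cases p <;> rfl

theorem f4_strictMono (n j : ℕ) (hj : j + 1 < n / 2) : StrictMono (f4 n j hj) := by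
  intro p q hpq
  rw [Fin.lt_def, f4_val, f4_val]
  fin_cases p <;> fin_cases q <;> simp at hpq ⊢ <;> omega

/-- the permutation `(0 1)(2 3)` of the block indices -/
def sw : Fin 4 → Fin 4 := ![1, 0, 3, 2]

theorem tau_f4 (n j : ℕ) (hj : j + 1 < n / 2) (q : Fin 4) :
    tau n j (f4 n j hj q) = f4 n j hj (sw q) := by
  apply Fin.ext
  rw [TAU.tau_val, f4_val, f4_val]
  unfold TAU.tauNat
  rw [if_pos hj]
  fin_cases q <;> simp [sw] <;> (try split_ifs) <;> omega

/-- `tau` fixes the positions outside the block -/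
theorem tau_of_not_mem (n j : ℕ) (hj : j + 1 < n / 2) (c : Fin n) (hc : ∀ q, c ≠ f4 n j hj q) :
    tau n j c = c := by
  apply Fin.ext
  rw [TAU.tau_val]
  unfold TAU.tauNat
  rw [if_pos hj]
  have h0 : (c : ℕ) ≠ j := fun e => hc 0 (Fin.ext (by rw [f4_val]; exact e))
  have h1 : (c : ℕ) ≠ j + 1 := fun e => hc 1 (Fin.ext (by rw [f4_val]; exact e))
  have h2 : (c : ℕ) ≠ n - 2 - j := fun e => hc 2 (Fin.ext (by rw [f4_val]; exact e))
  have h3 : (c : ℕ) ≠ n - 1 - j := fun e => hc 3 (Fin.ext (by rw [f4_val]; exact e))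
  rw [if_neg h0, if_neg h1, if_neg h2, if_neg h3]

/-- the block of the reflection -/
def P0 (K : Type*) [Field K] : Matrix (Fin 4) (Fin 4) K :=
  !![0, 1, 0, 0; 1, 0, 0, 0; 0, 0, 0, 1; 0, 0, 1, 0]

/-- the block of the root element -/
def X0 (σ : K →+* K) (t : K) : Matrix (Fin 4) (Fin 4) K :=
  !![1, t, 0, 0; 0, 1, 0, 0; 0, 0, 1, -σ t; 0, 0, 0, 1]

theorem P0_apply (p q : Fin 4) : P0 K p q = if p = sw q then 1 else 0 := by
  fin_cases p <;> fin_cases q <;> simp [P0, sw]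

theorem pMat_eq_emb (n j : ℕ) (hj : j + 1 < n / 2) :
    (pMat n (tau n j) : Matrix (Fin n) (Fin n) K) = emb (f4 n j hj) (P0 K) := by
  have hinj := (f4_strictMono n j hj).injective
  ext a c
  unfold pMat
  rw [Matrix.of_apply]
  by_cases hc : ∃ q, c = f4 n j hj q
  · obtain ⟨q, rfl⟩ := hc
    rw [tau_f4]
    by_cases ha : ∃ p, a = f4 n j hj p
    · obtain ⟨p, rfl⟩ := ha
      rw [emb_apply_mem hinj, P0_apply]
      simp only [hinj.eq_iff]
    · push Not at ha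
      rw [emb_apply_left _ _ _ _ ha, if_neg (ha _), Matrix.one_apply_ne (ha _)]
  · push Not at hc
    rw [emb_apply_right _ _ _ _ hc, tau_of_not_mem n j hj c hc, Matrix.one_apply]

theorem xL_eq_emb (σ : K →+* K) (n j : ℕ) (hj : j + 1 < n / 2) (t : K) :
    xL σ n j t = emb (f4 n j hj) (X0 σ t) := by
  have e : X0 σ t = 1 + (t • Matrix.single 0 1 1 - σ t • Matrix.single 2 3 1) := by
    ext i k
    fin_cases i <;> fin_cases k <;> simp [X0, Matrix.single_apply]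
  rw [e, emb_one_add]
  simp only [Matrix.mul_sub, Matrix.sub_mul, Matrix.mul_smul, Matrix.smul_mul, inc_single_incT]
  unfold xL
  rw [JC.E_eq_single j (j + 1) (by omega) (by omega),
    JC.E_eq_single (n - 2 - j) (n - 1 - j) (by omega) (by omega), add_sub_assoc]
  rfl

end HDL

open HD HDL in
/-- HDL -/
theorem hd_L (σ : K →+* K) (hσ : ∀ x, σ (σ x) = x) (n j : ℕ) (hj : j + 1 < n / 2) (s : SUJ σ n)
    (hs : rho σ n s = pMat n (tau n j)) (x : SUJ σ n) (hx : x ∈ Xset σ n j) (hx1 : x ≠ 1) :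
    ∃ b₁ : SUJ σ n, IsTri (rho σ n b₁) ∧ ∃ x' ∈ Xset σ n j, s * x = b₁ * (s * x' * s⁻¹) := by
  obtain ⟨t, hxt⟩ := (mem_Xset_L σ n j hj x).mp hx
  have ht0 : t ≠ 0 := by
    rintro rfl
    apply hx1
    apply rho_injective σ n
    rw [hxt, map_one]
    unfold xL
    rw [map_zero, zero_smul, zero_smul, add_zero, sub_zero]
  have hσt0 : σ t ≠ 0 := by
    intro h
    apply ht0
    rw [← hσ t, h, map_zero]
  obtain ⟨h1, h2⟩ := presJ_xL σ hσ n j hj (1 / t)
  obtain ⟨x', hx'⟩ := exists_of_presJ σ n (xL σ n j (1 / t)) h2 h1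
  refine ⟨s * x * (s * x' * s⁻¹)⁻¹, ?_, x', (mem_Xset_L σ n j hj x').mpr ⟨1 / t, hx'⟩, by group⟩
  apply isTri_of_emb σ n s x x' (f4 n j hj) (f4_strictMono n j hj) (P0 K) (X0 σ t) (X0 σ (1 / t))
    (!![-1 / t, 1, 0, 0; 0, t, 0, 0; 0, 0, 1 / σ t, 1; 0, 0, 0, -σ t])
  · rw [hs, pMat_eq_emb n j hj]
  · rw [hxt, xL_eq_emb σ n j hj]
  · rw [hx', xL_eq_emb σ n j hj]
  · intro p q hqp
    fin_cases p <;> fin_cases q <;> simp at hqp ⊢
  · ext i k
    fin_cases i <;> fin_cases k <;>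
      simp [P0, X0, Matrix.mul_apply, Fin.sum_univ_four] <;> (try field_simp) <;> (try ring)

end Cfsg.Agent.S2546P
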