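import Mathlib
import Cfsg.Prelude.Def_Classical
import Cfsg.Agent.Helper8.MatBNDefs
import Cfsg.Agent.Helper8.S2546Defs
import Cfsg.Agent.Helper23.S2546MONALG
import Cfsg.Agent.Helper23.S2546TAU
import Cfsg.Agent.Helper23.S2546DICH
import Cfsg.Agent.Helper17.S2546SUPP
import Cfsg.Agent.Helper17.S2546MONREV

set_option autoImplicit false
open scoped Matrix

/-! S2546 piece HE (driver helper8; helper23): the dichotomy for monomial elements, and the opposite root
elements are lower unitriangular. -/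

namespace Cfsg.Agent.S2546P

open Cfsg.Agent.MatBN

variable {K : Type*} [Field K]

namespace HE

theorem tau_tau (n j : ℕ) (i : Fin n) : tau n j (tau n j i) = i := by
  have := congrArg (fun f : Equiv.Perm (Fin n) => f i) (tau_sq n j)
  simpa [Equiv.Perm.mul_apply] using this

theorem tau_inv (n j : ℕ) : (tau n j)⁻¹ = tau n j := by
  rw [inv_eq_iff_mul_eq_one, tau_sq]

theorem rho_mul_inv (σ : K →+* K) (n : ℕ) (g : SUJ σ n) : rho σ n g * rho σ n g⁻¹ = 1 := by
  rw [← map_mul, mul_inv_cancel, map_one]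

theorem rho_inv_mul (σ : K →+* K) (n : ℕ) (g : SUJ σ n) : rho σ n g⁻¹ * rho σ n g = 1 := by
  rw [← map_mul, inv_mul_cancel, map_one]

end HE

open HE

theorem he_all (σ : K →+* K) (hσ : ∀ x, σ (σ x) = x) (n j : ℕ) (hj : j < n / 2) (s : SUJ σ n)
    (hs : Mon (rho σ n s) (tau n j)) (g : SUJ σ n) (π : Equiv.Perm (Fin n))
    (hg : Mon (rho σ n g) π) :
    (∀ x ∈ Xset σ n j, IsTri (rho σ n (g⁻¹ * x * g))) ∨
      (∀ x ∈ Xset σ n j, IsTri (rho σ n (g⁻¹ * (s * x * s⁻¹) * g))) := by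
  have hπ : ∀ i : Fin n, π i.rev = (π i).rev := mon_rev σ hσ n g π hg
  have hN : Mon (rho σ n g⁻¹) π⁻¹ := Mon.of_mul_eq_one hg (rho_mul_inv σ n g)
  rcases dich n π hπ j hj with hI | hII
  · left
    intro x hx a c hca
    have hX : rho σ n x ∈ XMat σ n j := hx
    obtain ⟨_, hsupp⟩ := supp_XMat σ n j hj _ hX
    rw [map_mul, map_mul]
    by_contra h0
    have h1 := (Mon.conj_apply_ne_zero_iff (A := rho σ n x) hN (rho_inv_mul σ n g) a c).mp h0
    rw [inv_inv] at h1
    have hne : π a ≠ π c := fun e => (ne_of_gt hca) (π.injective e)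
    obtain ⟨h2, h3⟩ := hsupp (π a) (π c) hne h1
    have h4 := hI (π a) (π c) h2 h3
    rw [MONALG.inv_apply_self', MONALG.inv_apply_self'] at h4
    exact absurd hca (not_lt.mpr h4.le)
  · right
    intro x hx a c hca
    have hX : rho σ n x ∈ XMat σ n j := hx
    obtain ⟨_, hsupp⟩ := supp_XMat σ n j hj _ hX
    rw [map_mul, map_mul, map_mul, map_mul]
    by_contra h0
    have h1 := (Mon.conj_apply_ne_zero_iff (A := rho σ n s * rho σ n x * rho σ n s⁻¹) hN
      (rho_inv_mul σ n g) a c).mp h0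
    rw [inv_inv] at h1
    have h2 := (Mon.conj_apply_ne_zero_iff (A := rho σ n x) hs (rho_mul_inv σ n s) (π a) (π c)).mp h1
    rw [tau_inv] at h2
    have hne : tau n j (π a) ≠ tau n j (π c) :=
      fun e => (ne_of_gt hca) (π.injective ((tau n j).injective e))
    obtain ⟨h3, h4⟩ := hsupp _ _ hne h2
    rw [tau_tau, tau_tau] at h4
    -- `(π c, π a)` is an inversion
    have h5 := hII (π c) (π a) h4 h3
    rw [MONALG.inv_apply_self', MONALG.inv_apply_self'] at h5
    exact absurd hca (not_lt.mpr h5.le)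

theorem ylow_all (σ : K →+* K) (n j : ℕ) (hj : j < n / 2) (s : SUJ σ n)
    (hs : Mon (rho σ n s) (tau n j)) (x : SUJ σ n) (hx : x ∈ Xset σ n j) :
    IsLow (rho σ n (s * x * s⁻¹)) := by
  have hX : rho σ n x ∈ XMat σ n j := hx
  obtain ⟨hdiag, hsupp⟩ := supp_XMat σ n j hj _ hX
  rw [map_mul, map_mul]
  refine ⟨fun a c hac => ?_, fun a => ?_⟩
  · by_contra h0
    have h2 := (Mon.conj_apply_ne_zero_iff (A := rho σ n x) hs (rho_mul_inv σ n s) a c).mp h0
    rw [tau_inv] at h2
    have hne : tau n j a ≠ tau n j c := fun e => (ne_of_lt hac) ((tau n j).injective e)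
    obtain ⟨_, h4⟩ := hsupp _ _ hne h2
    rw [tau_tau, tau_tau] at h4
    exact absurd hac (not_lt.mpr h4.le)
  · rw [Mon.conj_apply_diag hs (rho_mul_inv σ n s), hdiag]

end Cfsg.Agent.S2546P
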