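import Mathlib
import Cfsg.Prelude.Def_Classical
import Cfsg.Agent.Helper8.MatBNDefs
import Cfsg.Agent.Helper8.S2546Defs

set_option autoImplicit false
open scoped Matrix

/-! S2546 piece ZETA (driver helper8; helper23): an element `ζ ≠ 0` with `σ ζ = -ζ`. -/

namespace Cfsg.Agent.S2546P

open Cfsg.Agent.MatBN

variable {K : Type*} [Field K]

theorem exists_zeta [Fintype K] {q : ℕ} (hK : Fintype.card K = q ^ 2) (σ : K →+* K)
    (hσq : ∀ x, σ x = x ^ q) : ∃ ζ : K, ζ ≠ 0 ∧ σ ζ = -ζ := by
  classical
  have hq1 : 1 < q := by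
    have h2 : 1 < Fintype.card K := Fintype.one_lt_card
    rw [hK] at h2
    by_contra h
    have : q ≤ 1 := not_lt.mp h
    interval_cases q <;> simp at h2
  have hσσ : ∀ x, σ (σ x) = x := by
    intro x
    rw [hσq, hσq, ← pow_mul, ← pow_two, ← hK, FiniteField.pow_card]
  -- some element is moved by `σ`
  obtain ⟨x, hx⟩ : ∃ x : K, x ^ q ≠ x := by
    by_contra hcon
    push Not at hcon
    have hroots : (Finset.univ : Finset K) ⊆
        (Polynomial.X ^ q - Polynomial.X : Polynomial K).roots.toFinset := by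
      intro a _
      have hne : (Polynomial.X ^ q - Polynomial.X : Polynomial K) ≠ 0 :=
        FiniteField.X_pow_card_sub_X_ne_zero K hq1
      rw [Multiset.mem_toFinset, Polynomial.mem_roots hne, Polynomial.IsRoot, Polynomial.eval_sub,
        Polynomial.eval_pow, Polynomial.eval_X, hcon a, sub_self]
    have h1 := Finset.card_le_card hroots
    have h2 := Multiset.toFinset_card_le (Polynomial.X ^ q - Polynomial.X : Polynomial K).roots
    have h3 := Polynomial.card_roots' (Polynomial.X ^ q - Polynomial.X : Polynomial K)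
    have hdeg : (Polynomial.X ^ q - Polynomial.X : Polynomial K).natDegree = q :=
      FiniteField.X_pow_card_sub_X_natDegree_eq K hq1
    rw [Finset.card_univ, hK] at h1
    rw [hdeg] at h3
    have : q ^ 2 ≤ q := le_trans h1 (le_trans h2 h3)
    nlinarith
  refine ⟨x - σ x, ?_, ?_⟩
  · rw [hσq, sub_ne_zero]
    exact fun h => hx h.symm
  · rw [map_sub, hσσ, neg_sub]

end Cfsg.Agent.S2546P
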