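import Cfsg.Agent.Helper11.S3786Defs
import Cfsg.Agent.Helper5.HHTk
import Cfsg.Agent.Helper21.S3786EXC
import Cfsg.Agent.Helper6.S3786ThatCentCore
import Cfsg.Agent.Helper2.S3786SYL2core
import Cfsg.Agent.Helper3.S3786Kcore
import Cfsg.Agent.Helper13.S3786CRIT2
import Cfsg.Agent.Helper15.S3786LYfaith
import Cfsg.Agent.Helper24.S3786MODEL
import Cfsg.Agent.Helper10.S3786That_le
import Cfsg.Agent.Helper1.S3786Ymaincore
import Cfsg.Agent.Helper19.S3786Ynorm
import Cfsg.Agent.Helper19.S3786Yctrivcore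
import Cfsg.Agent.Helper20.S3786Y_avg
import Cfsg.Agent.Helper24.S3786Y_fixed_pt
import Cfsg.Agent.Helper24.S3786Y_pow_comm

/-! Board `s3786pieces`, row LY_apply.  To cut the chain of wrappers, this file uses the LANDED cores of the rows That_cent, SYL2,
CSet_exists, LY_faith, Y_main, Y_c_triv directly (own copies `LY_apply_aux_*` of the wrappers). -/

set_option autoImplicit false

namespace Cfsg.Agent.S3786P

open Subgroup

universe u

section Y

variable {p : ℕ} [Fact p.Prime] {Γ : Type*} [Group Γ] {M : Type*} [AddCommGroup M] [DistribMulAction Γ M] {Z : Type*}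
  [AddCommGroup Z] {B : Subgroup Γ} {w z : Γ} {N : ℕ} {β : M → M → Z}

/-- own copy of the statement of row Y_main, from the landed pieces -/
theorem LY_apply_aux_Y_main (S : YSet p B w z N β) [Finite ↥B] : ∀ b ∈ B, z * b = b * z :=
  Y_main_aux_core S (Y_norm S)
    (fun h => Y_fixed_pt p B S.Bp z S.zp (Y_norm S).2.1 h)
    (fun u hu j _ hb => Y_pow_comm B S.Bcomm u hu j hb)
    (fun _ Y₁ _ hY₁B hYk hY₁z _ hb hc m hm =>
      Y_c_triv_aux_core S Y₁ hY₁B hY₁z hb hc (fun m' hm' => Y_D_zero S Y₁ hYk m' hm' hb) m hm)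

end Y

section K

variable {F : Type*} [Field F] {p : ℕ} [Fact p.Prime] [CharP F p] {V : Type*} [AddCommGroup V] [Module F V]
  [FiniteDimensional F V] [Nontrivial V] {H : Type u} [Group H] [Finite H] {ρ₀ : Representation F H V}
  {T : Sylow p H} {n : ℕ}

/-- own copy of the statement of row That_cent -/
theorem LY_apply_aux_That_cent (S : KSet ρ₀ p (T : Subgroup H) n) (q : ℕ) (hq : q.Prime) (hqp : q ≠ p) (R : Subgroup H)
    (hR : IsPGroup q R) (hTR : (T : Subgroup H) ≤ normalizer (R : Set H))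
    (hab : q ≠ 2 ∨ ∀ a ∈ R, ∀ b ∈ R, a * b = b * a) :
    That (T : Subgroup H) p n ≤ centralizer (R : Set H) :=
  That_cent_aux_core S R hTR
    (fun x hx r hr hrn hxR => EXC ρ₀ S.inj S.p_odd x n S.one_le hx r hr hrn q hq hqp R hR hxR hab)

/-- own copy of the statement of row CSet_exists -/
theorem LY_apply_aux_CSet (S : KSet ρ₀ p (T : Subgroup H) n) : ∃ S₂ C : Subgroup H, CSet p (T : Subgroup H) n S₂ C := by
  have : Fact (Nat.Prime 2) := ⟨Nat.prime_two⟩
  exact CSet_exists_aux_core p (T : Subgroup H) n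
    (SYL2_aux_core S.sol S.core (fun q hq hqp R hR hTR hab => LY_apply_aux_That_cent S q hq hqp R hR hTR hab))
    (fun S₂ hS₂ => CRIT2 2 S₂ hS₂)

/-- own copy of the statement of row LY_faith -/
theorem LY_apply_aux_LY_faith (S : KSet ρ₀ p (T : Subgroup H) n) {S₂ C : Subgroup H} (hC : CSet p (T : Subgroup H) n S₂ C) {b : H}
    (hb : b ∈ That (T : Subgroup H) p n) (h : ∀ a ∈ C, b * a * b⁻¹ * a⁻¹ ∈ centralizer (C : Set H)) : b = 1 := by
  obtain ⟨hR2, hTR, hRab⟩ := LY_faith_aux_R hC
  have hcent := LY_apply_aux_That_cent S 2 Nat.prime_two (fun h2 => S.p_odd h2.symm) _ hR2 hTR (Or.inr hRab)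
  refine LY_faith_aux_core S.p_odd hC hb ?_ h
  intro a ha hac
  exact ((mem_centralizer_iff.1 (hcent hb)) a (mem_inf.2 ⟨ha, hac⟩)).symm

/-- K6. Lemma Y applied: `z_w` centralises every abelian subgroup `B ≤ T̂` normalised by `w`. -/
theorem LY_apply (S : KSet ρ₀ p (T : Subgroup H) n) {w : H} (hw : w ∈ (T : Subgroup H)) (hwn : orderOf w = p ^ n)
    (B : Subgroup H) (hB : B ≤ That (T : Subgroup H) p n) (hBc : ∀ a ∈ B, ∀ b ∈ B, a * b = b * a)
    (hwB : w ∈ normalizer (B : Set H)) : ∀ b ∈ B, w ^ p ^ (n - 1) * b = b * w ^ p ^ (n - 1) := by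
  classical
  have hp : p.Prime := Fact.out
  obtain ⟨S₂, C, hC⟩ := LY_apply_aux_CSet S
  -- `T ≤ N_H(C)`
  have hTC : (T : Subgroup H) ≤ normalizer (C : Set H) := hC.S_norm.trans hC.C_char
  have hThT : That (T : Subgroup H) p n ≤ (T : Subgroup H) := (That_le (T : Subgroup H) p n).1
  have hBT : B ≤ (T : Subgroup H) := hB.trans hThT
  have hBΓ : B ≤ normalizer (C : Set H) := hBT.trans hTC
  have hwΓ : w ∈ normalizer (C : Set H) := hTC hw
  obtain ⟨M, iM, iA, π, Z, iZ, β, hπs, hπa, hπk, htwo, hact, hβl, hβr, hβ0, hβc, hβinv⟩ :=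
    MODEL C hC.C_cl hC.C_sq
  -- the objects of Lemma Y
  let Γ := ↥(normalizer (C : Set H))
  let B' : Subgroup Γ := B.subgroupOf (normalizer (C : Set H))
  let w' : Γ := ⟨w, hwΓ⟩
  let z' : Γ := w' ^ p ^ (n - 1)
  have hz'coe : ((z' : Γ) : H) = w ^ p ^ (n - 1) := by
    change ((w' ^ p ^ (n - 1) : ↥(normalizer (C : Set H))) : H) = w ^ p ^ (n - 1)
    rw [SubgroupClass.coe_pow]
  have hn1 : p ^ (n - 1) * p = p ^ n := by
    rw [← pow_succ]; congr 1; have := S.one_le; omega
  have hwN : w ^ p ^ n = 1 := by rw [← hwn]; exact pow_orderOf_eq_one w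
  have hw'N : w' ^ p ^ n = 1 := by
    apply Subtype.ext
    change ((w' ^ p ^ n : ↥(normalizer (C : Set H))) : H) = 1
    rw [SubgroupClass.coe_pow]
    exact hwN
  -- conjugation on `π`
  have hconj : ∀ (g : Γ) (a : ↥C) (hga : (g : H) * (a : H) * (g : H)⁻¹ ∈ C),
      g • π a = π ⟨(g : H) * (a : H) * (g : H)⁻¹, hga⟩ := fun g a hga => hact g a _ rfl
  have hΓC : ∀ (g : Γ) (a : H), a ∈ C → (g : H) * a * (g : H)⁻¹ ∈ C := by
    intro g a ha
    exact ((mem_normalizer_iff.1 g.2) a).1 ha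
  -- `T̂` centralises `Z(C)`
  have hZC : That (T : Subgroup H) p n ≤ centralizer ((C ⊓ centralizer (C : Set H) : Subgroup H) : Set H) := by
    refine LY_apply_aux_That_cent S 2 Nat.prime_two (fun h2 => S.p_odd h2.symm) _ ?_ ?_ (Or.inr ?_)
    · exact hC.S_two.to_le (inf_le_left.trans hC.C_le)
    · intro t ht
      have htC := hTC ht
      rw [mem_normalizer_iff] at htC ⊢
      intro a
      constructor
      · rintro ⟨haC, hac⟩
        have hac := mem_centralizer_iff.1 hac
        refine ⟨(htC a).1 haC, mem_centralizer_iff.2 ?_⟩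
        intro c hc
        have hc' : t⁻¹ * c * t ∈ C := by
          have := (htC (t⁻¹ * c * t)).2
          apply this
          have e : t * (t⁻¹ * c * t) * t⁻¹ = c := by group
          rw [e]; exact hc
        have := hac _ hc'
        calc c * (t * a * t⁻¹) = t * ((t⁻¹ * c * t) * a) * t⁻¹ := by group
          _ = t * (a * (t⁻¹ * c * t)) * t⁻¹ := by rw [this]
          _ = t * a * t⁻¹ * c := by group
      · rintro ⟨haC, hac⟩
        have hac := mem_centralizer_iff.1 hac
        refine ⟨(htC a).2 haC, mem_centralizer_iff.2 ?_⟩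
        intro c hc
        have hc' : t * c * t⁻¹ ∈ C := (htC c).1 hc
        have := hac _ hc'
        calc c * a = t⁻¹ * ((t * c * t⁻¹) * (t * a * t⁻¹)) * t := by group
          _ = t⁻¹ * ((t * a * t⁻¹) * (t * c * t⁻¹)) * t := by rw [this]
          _ = a * c := by group
    · intro a ha b hb
      exact (mem_centralizer_iff.1 hb.2) a ha.1
  have hY : YSet p B' w' z' (p ^ n) β := by
    refine
      { p_odd := S.p_odd
        two := htwo
        Bcomm := ?_
        Bp := ?_
        Bfaith := ?_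
        wB := ?_
        N2 := ?_
        wN := hw'N
        zw := ?_
        zp := ⟨1, ?_⟩
        βl := hβl
        βr := hβr
        β0 := hβ0
        βB := ?_
        hyp := ?_ }
    · -- Bcomm
      intro a ha b hb
      apply Subtype.ext
      exact hBc _ (mem_subgroupOf.1 ha) _ (mem_subgroupOf.1 hb)
    · -- Bp
      have hTp : IsPGroup p (T : Subgroup H) := T.isPGroup'
      have hBp : IsPGroup p B := hTp.to_le hBT
      exact hBp.comap_subtype
    · -- Bfaith
      intro b hb hfix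
      have hbB : (b : H) ∈ B := mem_subgroupOf.1 hb
      have hb1 : (b : H) = 1 := by
        refine LY_apply_aux_LY_faith S hC (hB hbB) ?_
        intro a ha
        have hba : (b : H) * a * (b : H)⁻¹ ∈ C := hΓC b a ha
        have h1 := hconj b ⟨a, ha⟩ hba
        rw [hfix] at h1
        -- `π (b a b⁻¹ a⁻¹) = 0`
        have hmem : (b : H) * a * (b : H)⁻¹ * a⁻¹ ∈ C := C.mul_mem hba (C.inv_mem ha)
        have h2 : π ⟨(b : H) * a * (b : H)⁻¹ * a⁻¹, hmem⟩ = 0 := by
          have e : (⟨(b : H) * a * (b : H)⁻¹ * a⁻¹, hmem⟩ : ↥C) =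
              ⟨(b : H) * a * (b : H)⁻¹, hba⟩ * (⟨a, ha⟩ : ↥C)⁻¹ := rfl
          have hinv : π ((⟨a, ha⟩ : ↥C)⁻¹) = π ⟨a, ha⟩ := by
            have h3 : π ((⟨a, ha⟩ : ↥C)⁻¹ * ⟨a, ha⟩) = 0 := by
              rw [inv_mul_cancel]
              exact (hπk 1).2 (Subgroup.one_mem _)
            rw [hπa] at h3
            have h4 := htwo (π ⟨a, ha⟩)
            -- `x + y = 0`, `y + y = 0` gives `x = y`
            have : π ((⟨a, ha⟩ : ↥C)⁻¹) = π ((⟨a, ha⟩ : ↥C)⁻¹) + (π ⟨a, ha⟩ + π ⟨a, ha⟩) := by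
              rw [h4, add_zero]
            rw [this, ← add_assoc, h3, zero_add]
          rw [e, hπa, hinv, ← h1]
          exact htwo _
        exact (hπk _).1 h2
      exact Subtype.ext hb1
    · -- wB
      intro b hb
      have hbB : (b : H) ∈ B := mem_subgroupOf.1 hb
      rw [mem_subgroupOf]
      have := (mem_normalizer_iff.1 hwB (b : H)).1 hbB
      exact this
    · -- N2
      calc 2 ≤ p := hp.two_le
        _ = p ^ 1 := (pow_one p).symm
        _ ≤ p ^ n := Nat.pow_le_pow_right hp.pos S.one_le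
    · -- zw
      intro k hk0 hkN
      have hmem := Cfsg.Agent.Helper5.HHT.pow_mem_zpowers_pow w' p n hp hw'N k hk0 hkN
      have hfin : IsOfFinOrder (w' ^ k) := isOfFinOrder_of_finite _
      rw [← hfin.mem_powers_iff_mem_zpowers] at hmem
      obtain ⟨i, hi⟩ := hmem
      exact ⟨i, hi.symm⟩
    · -- zp
      change (w' ^ p ^ (n - 1)) ^ p ^ 1 = 1
      rw [pow_one, ← pow_mul, hn1, hw'N]
    · -- βB
      intro b hb u v
      have hbB : (b : H) ∈ B := mem_subgroupOf.1 hb
      refine hβinv b ?_ u v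
      intro a ha hac
      have := (mem_centralizer_iff.1 (hZC (hB hbB))) a ⟨ha, hac⟩
      exact this.symm
    · -- hyp
      intro I hIiso hIw u hu
      -- the preimage of `I`
      let R : Subgroup H :=
        { carrier := {a | ∃ ha : a ∈ C, π ⟨a, ha⟩ ∈ I}
          one_mem' := ⟨C.one_mem, by
            have : π (⟨1, C.one_mem⟩ : ↥C) = 0 := (hπk _).2 (Subgroup.one_mem _)
            rw [this]; exact I.zero_mem⟩
          mul_mem' := by
            rintro a b ⟨ha, haI⟩ ⟨hb, hbI⟩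
            refine ⟨C.mul_mem ha hb, ?_⟩
            have e : (⟨a * b, C.mul_mem ha hb⟩ : ↥C) = ⟨a, ha⟩ * ⟨b, hb⟩ := rfl
            rw [e, hπa]
            exact I.add_mem haI hbI
          inv_mem' := by
            rintro a ⟨ha, haI⟩
            refine ⟨C.inv_mem ha, ?_⟩
            have h3 : π ((⟨a, ha⟩ : ↥C)⁻¹ * ⟨a, ha⟩) = 0 := by
              rw [inv_mul_cancel]
              exact (hπk 1).2 (Subgroup.one_mem _)
            rw [hπa] at h3
            have h4 := htwo (π ⟨a, ha⟩)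
            have h5 : π ((⟨a, ha⟩ : ↥C)⁻¹) = π ⟨a, ha⟩ := by
              have : π ((⟨a, ha⟩ : ↥C)⁻¹) = π ((⟨a, ha⟩ : ↥C)⁻¹) + (π ⟨a, ha⟩ + π ⟨a, ha⟩) := by
                rw [h4, add_zero]
              rw [this, ← add_assoc, h3, zero_add]
            have e : (⟨a⁻¹, C.inv_mem ha⟩ : ↥C) = (⟨a, ha⟩ : ↥C)⁻¹ := rfl
            rw [e, h5]
            exact haI }
      have hRC : R ≤ C := fun a ha => ha.1
      have hR2 : IsPGroup 2 R := hC.S_two.to_le (hRC.trans hC.C_le)
      have hRab : ∀ a ∈ R, ∀ b ∈ R, a * b = b * a := by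
        rintro a ⟨ha, haI⟩ b ⟨hb, hbI⟩
        have := (hβc ⟨a, ha⟩ ⟨b, hb⟩).1 (hIiso _ haI _ hbI)
        exact congrArg Subtype.val this
      have hwR : w ∈ normalizer (R : Set H) := by
        -- `w R w⁻¹ ⊆ R`, and `R` finite
        have hsub : ∀ a ∈ R, w * a * w⁻¹ ∈ R := by
          rintro a ⟨ha, haI⟩
          have hwa : w * a * w⁻¹ ∈ C := hΓC w' a ha
          refine ⟨hwa, ?_⟩
          have := hconj w' ⟨a, ha⟩ hwa
          rw [← this]
          exact hIw _ haI
        rw [mem_normalizer_iff]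
        intro a
        refine ⟨hsub a, fun ha => ?_⟩
        -- conjugation by `w` is injective on the finite set `R`, hence surjective
        let f : R → R := fun a => ⟨w * a * w⁻¹, hsub a a.2⟩
        have hf : Function.Injective f := by
          intro x y hxy
          have : w * (x : H) * w⁻¹ = w * (y : H) * w⁻¹ := congrArg Subtype.val hxy
          apply Subtype.ext
          simpa using this
        obtain ⟨y, hy⟩ := Finite.surjective_of_injective hf ⟨w * a * w⁻¹, ha⟩
        have : w * (y : H) * w⁻¹ = w * a * w⁻¹ := congrArg Subtype.val hy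
        have e : (y : H) = a := by simpa using this
        rw [← e]; exact y.2
      have hzR : w ^ p ^ (n - 1) ∈ centralizer (R : Set H) :=
        EXC ρ₀ S.inj S.p_odd w n S.one_le hwn (p ^ n - 1) (S.exc w hw hwn)
          (Nat.sub_lt (pow_pos hp.pos n) Nat.one_pos) 2 Nat.prime_two (fun h2 => S.p_odd h2.symm) R hR2 hwR
          (Or.inr hRab)
      obtain ⟨a, rfl⟩ := hπs u
      have haR : (a : H) ∈ R := ⟨a.2, hu⟩
      have hza : (z' : H) * (a : H) * (z' : H)⁻¹ ∈ C := hΓC z' a a.2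
      rw [hconj z' a hza]
      congr 1
      apply Subtype.ext
      change (z' : H) * (a : H) * (z' : H)⁻¹ = (a : H)
      rw [hz'coe]
      have := (mem_centralizer_iff.1 hzR) (a : H) haR
      rw [← this]; group
  have hfinB : Finite ↥B' := inferInstance
  have hmain := LY_apply_aux_Y_main hY
  intro b hb
  have hbΓ : b ∈ normalizer (C : Set H) := hBΓ hb
  have := hmain ⟨b, hbΓ⟩ (mem_subgroupOf.2 hb)
  have h2 : ((z' * ⟨b, hbΓ⟩ : ↥(normalizer (C : Set H))) : H) =
      ((⟨b, hbΓ⟩ * z' : ↥(normalizer (C : Set H))) : H) := congrArg Subtype.val this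
  rw [Subgroup.coe_mul, Subgroup.coe_mul, hz'coe] at h2
  exact h2

end K

end Cfsg.Agent.S3786P
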