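import Mathlib
import Cfsg.Agent.Helper2.S4130Defs

/-!
# S4130 board, piece INHN: square-free class sizes pass to normal subgroups
-/

set_option autoImplicit false

namespace Cfsg.Agent.S4130P.Chk

open Subgroup

/-- For `N` normal in a finite group, `|N : N ∩ C| = |CN : C|`. -/
theorem INHN_aux_relIndex_sup {G : Type*} [Group G] [Finite G] (C N : Subgroup G) [N.Normal] :
    C.relIndex N = C.relIndex (C ⊔ N) := by
  have h1 : N.relIndex (C ⊔ N) = N.relIndex C := relIndex_sup_right C N
  have hN : Nat.card N * N.relIndex (C ⊔ N) = Nat.card (C ⊔ N : Subgroup G) := by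
    have := relIndex_mul_relIndex (⊥ : Subgroup G) N (C ⊔ N) bot_le le_sup_right
    simpa [relIndex_bot_left] using this
  have hC : Nat.card C * C.relIndex (C ⊔ N) = Nat.card (C ⊔ N : Subgroup G) := by
    have := relIndex_mul_relIndex (⊥ : Subgroup G) C (C ⊔ N) bot_le le_sup_left
    simpa [relIndex_bot_left] using this
  have hCN : Nat.card (C ⊓ N : Subgroup G) * C.relIndex N = Nat.card N := by
    have := relIndex_mul_relIndex (⊥ : Subgroup G) (C ⊓ N) N bot_le inf_le_right
    simpa [relIndex_bot_left, inf_relIndex_right] using this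
  have hNC : Nat.card (C ⊓ N : Subgroup G) * N.relIndex C = Nat.card C := by
    have := relIndex_mul_relIndex (⊥ : Subgroup G) (C ⊓ N) C bot_le inf_le_left
    simpa [relIndex_bot_left, inf_relIndex_left] using this
  have hpos : 0 < Nat.card (C ⊓ N : Subgroup G) * N.relIndex C := by
    rw [hNC]; exact Nat.card_pos
  have key : (Nat.card (C ⊓ N : Subgroup G) * N.relIndex C) * C.relIndex N =
      (Nat.card (C ⊓ N : Subgroup G) * N.relIndex C) * C.relIndex (C ⊔ N) := by
    calc (Nat.card (C ⊓ N : Subgroup G) * N.relIndex C) * C.relIndex N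
        = (Nat.card (C ⊓ N : Subgroup G) * C.relIndex N) * N.relIndex C := by ring
      _ = Nat.card N * N.relIndex (C ⊔ N) := by rw [hCN, h1]
      _ = Nat.card C * C.relIndex (C ⊔ N) := by rw [hN, hC]
      _ = _ := by rw [hNC]
  exact Nat.eq_of_mul_eq_mul_left hpos key

/-- INHN. -/
theorem INHN {G : Type*} [Group G] [Finite G] (h : SqfCls G) (N : Subgroup G) [N.Normal] :
    SqfCls N := by
  intro n
  have hc : centralizer ({n} : Set N) = (centralizer ({(n : G)} : Set G)).subgroupOf N := by
    ext m
    simp only [mem_centralizer_iff, Set.mem_singleton_iff, forall_eq, mem_subgroupOf]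
    constructor
    · intro hm
      have := congrArg (Subtype.val) hm
      simpa using this
    · intro hm
      apply Subtype.ext
      simpa using hm
  have hidx : (centralizer ({n} : Set N)).index = (centralizer ({(n : G)} : Set G)).relIndex N := by
    rw [hc]; rfl
  rw [hidx, INHN_aux_relIndex_sup]
  exact Squarefree.squarefree_of_dvd (relIndex_dvd_index_of_le le_sup_left) (h (n : G))

end Cfsg.Agent.S4130P.Chk
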