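import Mathlib
import Cfsg.Agent.Helper25.S5165.Defs
import Cfsg.Agent.Helper24.S5165LIBA

set_option autoImplicit false
set_option linter.unusedSectionVars false
set_option linter.unusedVariables false

/-! S5165 piece TYPEB (driver helper25; helper23): the cycle type of `base f`. -/

namespace Cfsg.Agent.S5165P

open Equiv

variable {p : ℕ} [Fact p.Prime] {I : Type} [Fintype I] [DecidableEq I] {r : ℕ}

namespace TYPEB

/-- the support of `base f`: the blocks `i` with `f i ≠ 0` -/
theorem support_base (f : I → ZMod p) :
    (base (r := r) f).support =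
      ((Finset.univ.filter (fun i => f i ≠ 0)) ×ˢ (Finset.univ : Finset (ZMod p))).map
        ⟨Sum.inl, Sum.inl_injective⟩ := by
  ext x
  rw [Equiv.Perm.mem_support, Finset.mem_map]
  rcases x with ⟨i, y⟩ | k
  · rw [base_inl]
    constructor
    · intro h
      refine ⟨(i, y), ?_, rfl⟩
      rw [Finset.mem_product]
      refine ⟨?_, Finset.mem_univ _⟩
      rw [Finset.mem_filter]
      refine ⟨Finset.mem_univ _, fun h0 => h ?_⟩
      rw [h0, add_zero]
    · rintro ⟨⟨i', y'⟩, hm, he⟩ h
      have he' : (i', y') = (i, y) := Sum.inl_injective he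
      rw [Prod.mk.injEq] at he'
      obtain ⟨rfl, rfl⟩ := he'
      rw [Finset.mem_product, Finset.mem_filter] at hm
      apply hm.1.2
      have h1 : (i', y' + f i') = (i', y') := Sum.inl_injective h
      rw [Prod.mk.injEq] at h1
      have h2 := h1.2
      exact left_eq_add.1 h2.symm
  · rw [base_inr]
    constructor
    · intro h
      exact absurd rfl h
    · rintro ⟨a, _, he⟩
      exact absurd he Sum.inl_ne_inr

theorem card_support_base (f : I → ZMod p) :
    (base (r := r) f).support.card = (Finset.univ.filter (fun i => f i ≠ 0)).card * p := by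
  rw [support_base, Finset.card_map, Finset.card_product, Finset.card_univ, ZMod.card]

end TYPEB

theorem TYPEB.cycleType_base (f : I → ZMod p) :
    (base (r := r) f).cycleType =
      Multiset.replicate (Finset.univ.filter (fun i => f i ≠ 0)).card p := by
  have hp : p.Prime := Fact.out
  have hall : ∀ n ∈ (base (r := r) f).cycleType, n = p := by
    intro n hn
    have h1 : n ∣ p :=
      (Equiv.Perm.dvd_of_mem_cycleType hn).trans (orderOf_dvd_of_pow_eq_one (LIBA.base_pow_p f))
    have h2 := Equiv.Perm.two_le_of_mem_cycleType hn
    rcases (Nat.dvd_prime hp).1 h1 with h | h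
    · omega
    · exact h
  rw [Multiset.eq_replicate]
  refine ⟨?_, hall⟩
  have h3 := Equiv.Perm.sum_cycleType (base (r := r) f)
  rw [Multiset.eq_replicate_card.2 hall, Multiset.sum_replicate, TYPEB.card_support_base,
    smul_eq_mul] at h3
  exact Nat.eq_of_mul_eq_mul_right hp.pos h3

end Cfsg.Agent.S5165P
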