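import Mathlib
import Cfsg.Agent.Helper25.S5165.Defs
import Cfsg.Agent.Helper24.S5165LIBA

set_option autoImplicit false
set_option linter.unusedSectionVars false
set_option linter.unusedVariables false

/-! S5165 piece CARDSQ (driver helper25; helper23): the order of the wreath product `SQ r Q`. -/

namespace Cfsg.Agent.S5165P

open Equiv

variable {p : ℕ} [Fact p.Prime] {I : Type} [Fintype I] [DecidableEq I] {r : ℕ}

namespace CARDSQ

theorem lift_mul_base (q : Perm I) (f : I → ZMod p) :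
    lift q * base (r := r) f = base (fun i => f (q.symm i)) * lift q := by
  rw [← LIBA.lift_conj_base, inv_mul_cancel_right]

/-- the subgroup of the products `base f * lift q`, `q ∈ Q` -/
def H (p : ℕ) [Fact p.Prime] {I : Type} [Fintype I] [DecidableEq I] (r : ℕ)
    (Q : Subgroup (Perm I)) : Subgroup (Perm (X p I r)) where
  carrier := {g | ∃ f : I → ZMod p, ∃ q ∈ Q, g = base f * lift q}
  one_mem' := ⟨0, 1, Q.one_mem, by rw [LIBA.base_zero, map_one, mul_one]⟩
  mul_mem' := by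
    rintro _ _ ⟨f, q, hq, rfl⟩ ⟨f', q', hq', rfl⟩
    refine ⟨f + fun i => f' (q.symm i), q * q', Q.mul_mem hq hq', ?_⟩
    rw [LIBA.base_add, map_mul, mul_assoc, ← mul_assoc (lift q), lift_mul_base]
    simp only [mul_assoc]
  inv_mem' := by
    rintro _ ⟨f, q, hq, rfl⟩
    refine ⟨fun i => (-f) ((q⁻¹).symm i), q⁻¹, Q.inv_mem hq, ?_⟩
    rw [← lift_mul_base, _root_.mul_inv_rev, LIBA.base_neg, map_inv]

theorem mem_H {Q : Subgroup (Perm I)} {g : Perm (X p I r)} :
    g ∈ H p r Q ↔ ∃ f : I → ZMod p, ∃ q ∈ Q, g = base f * lift q := Iff.rfl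

theorem SQ_eq_H (Q : Subgroup (Perm I)) : SQ (p := p) r Q = H p r Q := by
  apply le_antisymm
  · unfold SQ
    apply sup_le
    · intro g hg
      obtain ⟨f, rfl⟩ := mem_Bsub.1 hg
      exact ⟨f, 1, Q.one_mem, by rw [map_one, mul_one]⟩
    · rintro _ ⟨q, hq, rfl⟩
      exact ⟨0, q, hq, by rw [LIBA.base_zero, one_mul]⟩
  · rintro _ ⟨f, q, hq, rfl⟩
    unfold SQ
    exact Subgroup.mul_mem _ (Subgroup.mem_sup_left (mem_Bsub.2 ⟨f, rfl⟩))
      (Subgroup.mem_sup_right (Subgroup.mem_map_of_mem _ hq))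

/-- the parametrization of `H` -/
def param (Q : Subgroup (Perm I)) : (I → ZMod p) × Q → H p r Q :=
  fun x => ⟨base x.1 * lift (x.2 : Perm I), x.1, x.2, x.2.2, rfl⟩

theorem param_bijective (Q : Subgroup (Perm I)) :
    Function.Bijective (param (p := p) (r := r) Q) := by
  constructor
  · rintro ⟨f, q⟩ ⟨f', q'⟩ h
    have h1 : base (r := r) f * lift (q : Perm I) = base f' * lift (q' : Perm I) :=
      congrArg Subtype.val h
    have h2 : base (r := r) f * torus 1 * lift (q : Perm I) =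
        base f' * torus 1 * lift (q' : Perm I) := by
      rw [LIBA.torus_one, mul_one, mul_one]
      exact h1
    obtain ⟨hf, -, hq⟩ := LIBA.nf_unique _ _ _ _ _ _ h2
    rw [Prod.mk.injEq]
    exact ⟨hf, Subtype.ext hq⟩
  · rintro ⟨g, f, q, hq, rfl⟩
    exact ⟨(f, ⟨q, hq⟩), rfl⟩

end CARDSQ

theorem CARDSQ.card_SQ (Q : Subgroup (Perm I)) :
    Nat.card (SQ (p := p) r Q) = p ^ Fintype.card I * Nat.card Q := by
  rw [CARDSQ.SQ_eq_H, ← Nat.card_congr (Equiv.ofBijective _ (CARDSQ.param_bijective Q)),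
    Nat.card_prod, Nat.card_fun, Nat.card_zmod, Nat.card_eq_fintype_card]

end Cfsg.Agent.S5165P
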