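import Mathlib
import Cfsg.Prelude.Def_Classical
import Cfsg.Prelude.Def_FusionComponents
import Cfsg.Agent.Helper26.S5320.Defs

/-! S5320 piece EMB (driver helper26; helper23): the basic relations of the model. -/

set_option autoImplicit false
set_option linter.unusedSectionVars false
set_option linter.unusedVariables false
set_option linter.unusedSimpArgs false

namespace Cfsg.Agent.S5320P

open Matrix

variable {F : Type*} [Field F]

namespace EMB

theorem embM_inl_inl (u v : M2 F) (i j : Fin 2) :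
    embM u v (Sum.inl i) (Sum.inl j) = Matrix.diagonal ![u 0 0, v 0 0] i j := rfl

theorem embM_inl_inr (u v : M2 F) (i j : Fin 2) :
    embM u v (Sum.inl i) (Sum.inr j) = Matrix.diagonal ![u 0 1, v 0 1] i j := rfl

theorem embM_inr_inl (u v : M2 F) (i j : Fin 2) :
    embM u v (Sum.inr i) (Sum.inl j) = Matrix.diagonal ![u 1 0, v 1 0] i j := rfl

theorem embM_inr_inr (u v : M2 F) (i j : Fin 2) :
    embM u v (Sum.inr i) (Sum.inr j) = Matrix.diagonal ![u 1 1, v 1 1] i j := rfl

theorem embM_inj {u v u' v' : M2 F} (h : embM u v = embM u' v') : u = u' ∧ v = v' := by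
  have e := fun x y => congrFun (congrFun h x) y
  have a00 := e (Sum.inl 0) (Sum.inl 0)
  have a11 := e (Sum.inl 1) (Sum.inl 1)
  have b00 := e (Sum.inl 0) (Sum.inr 0)
  have b11 := e (Sum.inl 1) (Sum.inr 1)
  have c00 := e (Sum.inr 0) (Sum.inl 0)
  have c11 := e (Sum.inr 1) (Sum.inl 1)
  have d00 := e (Sum.inr 0) (Sum.inr 0)
  have d11 := e (Sum.inr 1) (Sum.inr 1)
  simp only [embM_inl_inl, embM_inl_inr, embM_inr_inl, embM_inr_inr, Matrix.diagonal_apply_eq,
    Matrix.cons_val_zero, Matrix.cons_val_one] at a00 a11 b00 b11 c00 c11 d00 d11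
  constructor
  · ext i j
    fin_cases i <;> fin_cases j <;> assumption
  · ext i j
    fin_cases i <;> fin_cases j <;> assumption

theorem swapM_mul_self : (swapM : M2 F) * swapM = 1 := by
  unfold swapM
  ext i j
  fin_cases i <;> fin_cases j <;> simp [Matrix.mul_apply, Fin.sum_univ_two]

/-- `sig * emb (u, v) = emb (v, u) * sig` at the level of matrices -/
theorem sigM_mul_embM (u v : M2 F) :
    K (1 : M2 F) (swapM : M2 F) * embM u v = embM v u * K (1 : M2 F) (swapM : M2 F) := by
  ext x y
  rcases x with i | i <;> rcases y with j | j <;> fin_cases i <;> fin_cases j <;>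
    simp [K, embM, swapM, Matrix.mul_apply, Fintype.sum_sum_type, Fin.sum_univ_two,
      Matrix.diagonal_apply, Matrix.one_apply]

end EMB

/-- EMB (M): the basic relations. -/
theorem emb_injective : Function.Injective (emb : L F × L F → Gt F) := by
  intro x y hxy
  have h1 : embM (x.1 : M2 F) (x.2 : M2 F) = embM (y.1 : M2 F) (y.2 : M2 F) := by
    have := congrArg (fun g : Gt F => (g : M4 F)) hxy
    simpa only [emb_val] using this
  obtain ⟨h2, h3⟩ := EMB.embM_inj h1
  exact Prod.ext (Subtype.ext h2) (Subtype.ext h3)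

theorem sig_mul_self : (sig : Gt F) * sig = 1 := by
  apply Subtype.ext
  show K (1 : M2 F) (swapM : M2 F) * K (1 : M2 F) (swapM : M2 F) = 1
  rw [K_mul, one_mul, EMB.swapM_mul_self, K_one]

theorem sig_conj (u v : L F) : (sig : Gt F) * emb (u, v) * sig⁻¹ = emb (v, u) := by
  rw [mul_inv_eq_iff_eq_mul]
  apply Subtype.ext
  show K (1 : M2 F) (swapM : M2 F) * embM (u : M2 F) (v : M2 F)
    = embM (v : M2 F) (u : M2 F) * K (1 : M2 F) (swapM : M2 F)
  exact EMB.sigM_mul_embM _ _

theorem sig_not_mem_range : (sig : Gt F) ∉ (emb : L F × L F →* Gt F).range := by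
  rintro ⟨x, hx⟩
  have h1 := congrArg (fun g : Gt F => (g : M4 F) (Sum.inl 0) (Sum.inl 1)) hx
  simp only [emb_val, sig_val, EMB.embM_inl_inl] at h1
  rw [Matrix.diagonal_apply_ne _ (by decide)] at h1
  simp [K, swapM] at h1

theorem emb_neg_one : (emb ((-1 : L F), (-1 : L F)) : Gt F) = zG := by
  apply Subtype.ext
  rw [emb_val, zG_val]
  show embM ((-1 : L F) : M2 F) ((-1 : L F) : M2 F) = -1
  rw [Matrix.SpecialLinearGroup.coe_neg, Matrix.SpecialLinearGroup.coe_one]
  unfold embM
  rw [← Matrix.fromBlocks_one, Matrix.fromBlocks_neg]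
  congr 1 <;>
  · ext i j
    fin_cases i <;> fin_cases j <;> simp [Matrix.diagonal_apply, Matrix.one_apply]

/-- `K u 1 = embM u u` -/
theorem K_one_right (u : M2 F) : K u (1 : M2 F) = embM u u := by
  unfold K embM
  congr 1 <;>
  · ext i j
    fin_cases i <;> fin_cases j <;> simp [Matrix.diagonal_apply, Matrix.one_apply]

end Cfsg.Agent.S5320P
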