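import Mathlib
import Cfsg.Prelude.Def_Classical
import Cfsg.Prelude.Def_FusionComponents
import Cfsg.Agent.Helper26.S5320.Defs
import Cfsg.Agent.Helper23.S5320EMB

/-! S5320 piece SWMEM (driver helper26; helper23): the elements of `Q ≀ 2`. -/

set_option autoImplicit false
set_option linter.unusedSectionVars false
set_option linter.unusedVariables false
set_option linter.unusedSimpArgs false

namespace Cfsg.Agent.S5320P

open Matrix

variable {F : Type*} [Field F]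

namespace SWMEM

theorem sig_inv : (sig : Gt F)⁻¹ = sig := by
  rw [inv_eq_iff_mul_eq_one]
  exact sig_mul_self

/-- `sig * emb (u, v) = emb (v, u) * sig` -/
theorem sig_mul_emb (u v : L F) : (sig : Gt F) * emb (u, v) = emb (v, u) * sig := by
  have := sig_conj (F := F) u v
  rwa [mul_inv_eq_iff_eq_mul] at this

theorem emb_mul (a b a' b' : L F) :
    (emb (a, b) : Gt F) * emb (a', b') = emb (a * a', b * b') := by
  rw [← map_mul]; rfl

theorem emb_inv (a b : L F) : (emb (a, b) : Gt F)⁻¹ = emb (a⁻¹, b⁻¹) := by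
  rw [← map_inv]; rfl

/-- the subgroup with carrier `emb (Q × Q) ∪ emb (Q × Q) * sig` -/
def SWsub (Q : Subgroup (L F)) : Subgroup (Gt F) where
  carrier := {x | ∃ a ∈ Q, ∃ b ∈ Q, x = emb (a, b) ∨ x = emb (a, b) * sig}
  one_mem' := ⟨1, Q.one_mem, 1, Q.one_mem, Or.inl (map_one emb).symm⟩
  mul_mem' := by
    rintro x y ⟨a, ha, b, hb, hx⟩ ⟨a', ha', b', hb', hy⟩
    rcases hx with rfl | rfl <;> rcases hy with rfl | rfl
    · exact ⟨a * a', Q.mul_mem ha ha', b * b', Q.mul_mem hb hb', Or.inl (emb_mul a b a' b')⟩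
    · refine ⟨a * a', Q.mul_mem ha ha', b * b', Q.mul_mem hb hb', Or.inr ?_⟩
      rw [← mul_assoc, emb_mul]
    · refine ⟨a * b', Q.mul_mem ha hb', b * a', Q.mul_mem hb ha', Or.inr ?_⟩
      rw [mul_assoc, sig_mul_emb, ← mul_assoc, emb_mul]
    · refine ⟨a * b', Q.mul_mem ha hb', b * a', Q.mul_mem hb ha', Or.inl ?_⟩
      rw [mul_assoc, ← mul_assoc sig, sig_mul_emb, mul_assoc, sig_mul_self, mul_one, emb_mul]
  inv_mem' := by
    rintro x ⟨a, ha, b, hb, hx⟩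
    rcases hx with rfl | rfl
    · exact ⟨a⁻¹, Q.inv_mem ha, b⁻¹, Q.inv_mem hb, Or.inl (emb_inv a b)⟩
    · refine ⟨b⁻¹, Q.inv_mem hb, a⁻¹, Q.inv_mem ha, Or.inr ?_⟩
      rw [_root_.mul_inv_rev, sig_inv, emb_inv, sig_mul_emb]

end SWMEM

/-- SWMEM (M; uses EMB): the elements of `Q ≀ 2`. -/
theorem mem_Bs_iff (Q : Subgroup (L F)) (x : Gt F) :
    x ∈ Bs Q ↔ ∃ a ∈ Q, ∃ b ∈ Q, x = emb (a, b) := by
  unfold Bs
  rw [Subgroup.mem_map]
  constructor
  · rintro ⟨⟨a, b⟩, hab, rfl⟩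
    rw [Subgroup.mem_prod] at hab
    exact ⟨a, hab.1, b, hab.2, rfl⟩
  · rintro ⟨a, ha, b, hb, rfl⟩
    exact ⟨(a, b), Subgroup.mem_prod.mpr ⟨ha, hb⟩, rfl⟩

theorem mem_SW_iff (Q : Subgroup (L F)) (x : Gt F) :
    x ∈ SW Q ↔ ∃ a ∈ Q, ∃ b ∈ Q, x = emb (a, b) ∨ x = emb (a, b) * sig := by
  constructor
  · intro hx
    have hle : SW Q ≤ SWMEM.SWsub Q := by
      unfold SW
      apply sup_le
      · intro y hy
        obtain ⟨a, ha, b, hb, rfl⟩ := (mem_Bs_iff Q y).mp hy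
        exact ⟨a, ha, b, hb, Or.inl rfl⟩
      · rw [Subgroup.zpowers_le]
        refine ⟨1, Q.one_mem, 1, Q.one_mem, Or.inr ?_⟩
        have : (emb ((1 : L F), (1 : L F)) : Gt F) = 1 := map_one emb
        rw [this, one_mul]
    exact hle hx
  · rintro ⟨a, ha, b, hb, hx⟩
    have h1 : (emb (a, b) : Gt F) ∈ SW Q :=
      (le_sup_left : Bs Q ≤ SW Q) ((mem_Bs_iff Q _).mpr ⟨a, ha, b, hb, rfl⟩)
    have h2 : (sig : Gt F) ∈ SW Q :=
      (le_sup_right : Subgroup.zpowers sig ≤ SW Q) (Subgroup.mem_zpowers sig)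
    rcases hx with rfl | rfl
    · exact h1
    · exact (SW Q).mul_mem h1 h2

end Cfsg.Agent.S5320P
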