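import Mathlib
import Cfsg.Prelude.Def_GeometricClasses
import Cfsg.Agent.Helper2.S5886.Defs

/-! # S5886, piece GALFIX: in a prime degree extension an automorphism fixing an element outside `F` is trivial. -/

set_option autoImplicit false

namespace Cfsg.Agent.S5886P

variable {F K V : Type*} [Field F] [Field K] [Algebra F K]
  [AddCommGroup V] [Module F V] [Module K V] [IsScalarTower F K V]

/-- GALFIX : in a prime degree extension an automorphism fixing an element outside `F` is trivial. -/
theorem GALFIX [Finite F] [Finite K] (hr : (Module.finrank F K).Prime) (σ : K ≃ₐ[F] K) (k : K)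
    (hk : k ∉ Set.range (algebraMap F K)) (hσ : σ k = k) : σ = 1 := by
  have hs := Subalgebra.isSimpleOrder_of_finrank_prime F K hr
  set S : Subalgebra F K := AlgHom.equalizer (σ : K →ₐ[F] K) (AlgHom.id F K) with hS
  have hkS : k ∈ S := by
    rw [hS, AlgHom.mem_equalizer]
    simpa using hσ
  rcases hs.eq_bot_or_eq_top S with h | h
  · exfalso
    rw [h, Algebra.mem_bot] at hkS
    exact hk hkS
  · apply AlgEquiv.ext
    intro x
    have hx : x ∈ S := by rw [h]; exact Algebra.mem_top
    rw [hS, AlgHom.mem_equalizer] at hx
    simpa using hx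

end Cfsg.Agent.S5886P
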