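import Mathlib
import Cfsg.Prelude.Def_GeometricClasses
import Cfsg.Agent.Helper2.S5886.Defs
import Cfsg.Agent.Helper2.S5664.Defs

/-! # S5664, piece KSPTV: the `K`-symplectic transvections. -/

set_option autoImplicit false

namespace Cfsg.Agent.S5664P

open Cfsg.Agent.S5886P

variable {F K V : Type*} [Field F] [Field K] [Algebra F K]
  [AddCommGroup V] [Module F V] [Module K V] [IsScalarTower F K V]

namespace KSPTV

/-- the transvection as an `F`-linear map -/
noncomputable def tvMap (B : V →ₗ[K] V →ₗ[K] K) (u : V) (c : K) : V →ₗ[F] V where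
  toFun x := x + (c * B x u) • u
  map_add' x y := by
    simp only [map_add, LinearMap.add_apply, mul_add, add_smul]
    abel
  map_smul' a x := by
    simp only [RingHom.id_apply]
    have h1 : B (a • x) u = a • B x u := by
      rw [← algebraMap_smul K a x, map_smul, LinearMap.smul_apply, algebraMap_smul]
    rw [h1, mul_smul_comm, smul_assoc, smul_add]

theorem tvMap_apply (B : V →ₗ[K] V →ₗ[K] K) (u : V) (c : K) (x : V) :
    tvMap (F := F) B u c x = x + (c * B x u) • u := rfl

theorem tvMap_comp (B : V →ₗ[K] V →ₗ[K] K) (hB : IsAltND B) (u : V) (c c' : K) (x : V) :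
    tvMap (F := F) B u c (tvMap (F := F) B u c' x) = x + ((c + c') * B x u) • u := by
  rw [tvMap_apply, tvMap_apply, map_add, LinearMap.add_apply, map_smul, LinearMap.smul_apply, hB.alt u,
    smul_zero, add_zero, add_assoc, ← add_smul]
  congr 2
  ring

/-- the transvection as an `F`-linear equivalence -/
noncomputable def tvEquiv (B : V →ₗ[K] V →ₗ[K] K) (hB : IsAltND B) (u : V) (c : K) : V ≃ₗ[F] V :=
  LinearEquiv.ofLinearMap (tvMap (F := F) B u c) (tvMap (F := F) B u (-c))
    (by
      apply LinearMap.ext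
      intro x
      rw [LinearMap.comp_apply, tvMap_comp B hB, add_neg_cancel, zero_mul, zero_smul, add_zero]
      rfl)
    (by
      apply LinearMap.ext
      intro x
      rw [LinearMap.comp_apply, tvMap_comp B hB, neg_add_cancel, zero_mul, zero_smul, add_zero]
      rfl)

theorem tvEquiv_apply (B : V →ₗ[K] V →ₗ[K] K) (hB : IsAltND B) (u : V) (c : K) (x : V) :
    tvEquiv (F := F) B hB u c x = x + (c * B x u) • u := rfl

/-- skew-symmetry -/
theorem skew (B : V →ₗ[K] V →ₗ[K] K) (hB : IsAltND B) (x y : V) : B x y = - B y x := by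
  have h := hB.alt (x + y)
  simp only [map_add, LinearMap.add_apply, hB.alt x, hB.alt y] at h
  linear_combination h

end KSPTV

/-- KSPTV (S-M): the `K`-symplectic transvection `x ↦ x + (c * B x u) • u`: build the `F`-linear equiv (inverse: `-c`), `K`-linear, preserves `B` (expand; `B u u = 0`, `B x u = - B u x` from `hB.alt` on `x+u`). -/
theorem KSPTV (B : V →ₗ[K] V →ₗ[K] K) (hB : IsAltND B) (u : V) (c : K) :
    ∃ g ∈ SpK F B, ∀ x, g x = x + (c * B x u) • u := by
  refine ⟨KSPTV.tvEquiv (F := F) B hB u c, ⟨fun k x => ?_, fun x y => ?_⟩, fun x => rfl⟩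
  · rw [KSPTV.tvEquiv_apply, KSPTV.tvEquiv_apply, map_smul, LinearMap.smul_apply, smul_add, smul_smul,
      smul_eq_mul]
    congr 2
    ring
  · rw [KSPTV.tvEquiv_apply, KSPTV.tvEquiv_apply]
    simp only [map_add, LinearMap.add_apply, map_smul, LinearMap.smul_apply, smul_eq_mul, hB.alt u]
    rw [KSPTV.skew B hB u y]
    ring

end Cfsg.Agent.S5664P
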