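import Mathlib
import Cfsg.Prelude.Def_GeometricClasses
import Cfsg.Agent.Helper2.S5886.Defs

/-! # S5886, piece KTVP: a `K`-transvection has order dividing `p`; the `F`-dimension of a `K`-line. -/

set_option autoImplicit false

namespace Cfsg.Agent.S5886P

variable {F K V : Type*} [Field F] [Field K] [Algebra F K]
  [AddCommGroup V] [Module F V] [Module K V] [IsScalarTower F K V]

namespace KTVP

omit [Algebra F K] [IsScalarTower F K V] in
/-- the powers of a `K`-transvection -/
theorem pow_apply (t : V ≃ₗ[F] V) (ψ : V →ₗ[K] K) (u : V) (hu : ψ u = 0)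
    (ht : ∀ x, t x = x + ψ x • u) (m : ℕ) (x : V) : (t ^ m) x = x + m • (ψ x • u) := by
  induction m with
  | zero => simp
  | succ m ih =>
    rw [pow_succ', LinearEquiv.mul_apply, ih, ht, map_add, map_nsmul, map_smul, hu, smul_zero,
      smul_zero, add_zero, succ_nsmul]
    abel

end KTVP

/-- KTVP : a `K`-transvection has order dividing `p`. -/
theorem KTVP (p : ℕ) [Fact p.Prime] [CharP F p] (t : V ≃ₗ[F] V) (ht : IsKTv (K := K) t) : t ^ p = 1 := by
  obtain ⟨ψ, u, hu, ht⟩ := ht
  apply LinearEquiv.ext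
  intro x
  rw [KTVP.pow_apply t ψ u hu ht p x, ← Nat.cast_smul_eq_nsmul F p,
    CharP.cast_eq_zero, zero_smul, add_zero]
  rfl

/-- KLINEDIM -/
theorem KLINEDIM [Finite K] (v : V) (hv : v ≠ 0) :
    Module.finrank F (Kline (F := F) (K := K) v) = Module.finrank F K := by
  have e1 : K ≃ₗ[K] Submodule.span K {v} := LinearEquiv.toSpanNonzeroSingleton K V v hv
  have e2 : K ≃ₗ[F] Submodule.span K {v} := e1.restrictScalars F
  have e3 : K ≃ₗ[F] Kline (F := F) (K := K) v := e2
  exact e3.symm.finrank_eq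

end Cfsg.Agent.S5886P
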