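import Mathlib
import Cfsg.Prelude.Def_GeometricClasses
import Cfsg.Agent.Helper2.S5886.Defs

/-! # S5886, piece NORMONE: the norm-one elements of a finite field extension span it additively. -/

set_option autoImplicit false

namespace Cfsg.Agent.S5886P

variable {F K V : Type*} [Field F] [Field K] [Algebra F K]
  [AddCommGroup V] [Module F V] [Module K V] [IsScalarTower F K V]

namespace NORMONE

variable (F K) in
/-- the norm on units -/
noncomputable def nrmU : Kˣ →* Fˣ := Units.map (Algebra.norm F : K →* F)

theorem mem_ker_iff (u : Kˣ) : u ∈ (nrmU F K).ker ↔ Algebra.norm F (u : K) = 1 := by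
  rw [MonoidHom.mem_ker]
  unfold nrmU
  rw [Units.ext_iff]
  simp

/-- the kernel of the norm is large -/
theorem card_ker [Finite F] [Finite K] :
    Nat.card K ≤ Nat.card (nrmU F K).ker * (Nat.card F - 1) + 1 := by
  have h1 : Nat.card (nrmU F K).ker * (nrmU F K).ker.index = Nat.card Kˣ :=
    Subgroup.card_mul_index _
  rw [Subgroup.index_ker] at h1
  have h2 : Nat.card (nrmU F K).range ≤ Nat.card Fˣ :=
    Nat.card_le_card_of_injective _ Subtype.val_injective
  rw [Nat.card_units F] at h2
  rw [Nat.card_eq_card_units_add_one (α := K), ← h1]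
  exact Nat.add_le_add_right (Nat.mul_le_mul_left _ h2) 1

/-- a finite subring of a field is closed under inverses -/
theorem inv_mem [Finite K] (R : Subring K) {y : K} (hy : y ∈ R) : y⁻¹ ∈ R := by
  by_cases h0 : y = 0
  · rw [h0, inv_zero]; exact R.zero_mem
  · have := Fintype.ofFinite K
    have h1 : y ^ (Fintype.card K - 1) = 1 := FiniteField.pow_card_sub_one_eq_one y h0
    have h2 : 2 ≤ Fintype.card K := Fintype.one_lt_card
    have h3 : y⁻¹ = y ^ (Fintype.card K - 2) := by
      have : y * y ^ (Fintype.card K - 2) = 1 := by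
        rw [← pow_succ']
        have : Fintype.card K - 2 + 1 = Fintype.card K - 1 := by omega
        rw [this, h1]
      exact inv_eq_of_mul_eq_one_right this
    rw [h3]
    exact R.pow_mem hy _

/-- a proper subring of a finite field has at most `√|K|` elements -/
theorem card_sq_le [Finite K] (R : Subring K) (hR : R ≠ ⊤) : Nat.card R * Nat.card R ≤ Nat.card K := by
  have hx : ∃ x : K, x ∉ R := by
    by_contra hh
    apply hR
    rw [eq_top_iff]
    intro x _
    by_contra hxR
    exact hh ⟨x, hxR⟩
  obtain ⟨x, hx⟩ := hx
  rw [← Nat.card_prod]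
  apply Nat.card_le_card_of_injective (fun ab : R × R => (ab.1 : K) + (ab.2 : K) * x)
  rintro ⟨⟨a, ha⟩, ⟨b, hb⟩⟩ ⟨⟨a', ha'⟩, ⟨b', hb'⟩⟩ hab
  simp only at hab
  have hbb : b = b' := by
    by_contra hne
    apply hx
    have hne' : b - b' ≠ 0 := sub_ne_zero.mpr hne
    have hxe : x = (a' - a) * (b - b')⁻¹ := by
      field_simp
      linear_combination hab
    rw [hxe]
    exact R.mul_mem (R.sub_mem ha' ha) (inv_mem R (R.sub_mem hb hb'))
  subst hbb
  have haa : a = a' := by linear_combination hab
  subst haa
  rfl

/-- the subring generated by the norm-one elements is everything -/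
theorem subring_closure_eq_top [Finite F] [Finite K] (h2 : 2 ≤ Module.finrank F K) :
    Subring.closure {a : K | Algebra.norm F a = 1} = ⊤ := by
  by_contra hR
  set R : Subring K := Subring.closure {a : K | Algebra.norm F a = 1} with hRdef
  have h1 := card_sq_le R hR
  have h3 := card_ker (F := F) (K := K)
  -- `R` contains `0` and the kernel
  have h4 : Nat.card (nrmU F K).ker + 1 ≤ Nat.card R := by
    rw [← Finite.card_option]
    apply Nat.card_le_card_of_injective
      (fun o : Option (nrmU F K).ker => match o with
        | none => (⟨0, R.zero_mem⟩ : R)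
        | some u => ⟨((u : Kˣ) : K), Subring.subset_closure ((mem_ker_iff _).mp u.2)⟩)
    intro o o' hoo
    cases o with
    | none =>
      cases o' with
      | none => rfl
      | some u' =>
        exfalso
        simp only [Subtype.mk.injEq] at hoo
        exact (u' : Kˣ).ne_zero hoo.symm
    | some u =>
      cases o' with
      | none =>
        exfalso
        simp only [Subtype.mk.injEq] at hoo
        exact (u : Kˣ).ne_zero hoo
      | some u' =>
        simp only [Subtype.mk.injEq] at hoo
        congr 1
        exact Subtype.ext (Units.ext hoo)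
  have hF : 2 ≤ Nat.card F := Finite.one_lt_card
  have hfin : Module.Finite F K := Module.Finite.of_finite
  have hK : Nat.card K = Nat.card F ^ Module.finrank F K := Module.natCard_eq_pow_finrank
  have hK2 : Nat.card F ^ 2 ≤ Nat.card K := by
    rw [hK]
    exact Nat.pow_le_pow_right (by omega) h2
  have hk1 : 1 ≤ Nat.card (nrmU F K).ker := Nat.card_pos
  -- arithmetic
  obtain ⟨q', hq'⟩ : ∃ q', Nat.card F = q' + 2 := ⟨Nat.card F - 2, by omega⟩
  set k := Nat.card (nrmU F K).ker with hk
  set c := Nat.card R with hc
  set Q := Nat.card K with hQ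
  rw [hq'] at h3 hK2
  have e1 : q' + 2 - 1 = q' + 1 := by omega
  rw [e1] at h3
  have h5 : (k + 1) * (k + 1) ≤ Q := le_trans (Nat.mul_le_mul h4 h4) h1
  -- `k + 2 ≤ q' + 1`
  have h6 : k + 2 ≤ q' + 1 := by
    by_contra hlt
    push Not at hlt
    nlinarith
  nlinarith

end NORMONE

/-- NORMONE : the norm-one elements span `K` additively. -/
theorem NORMONE [Finite F] [Finite K] (h2 : 2 ≤ Module.finrank F K) :
    AddSubgroup.closure {a : K | Algebra.norm F a = 1} = ⊤ := by
  have key := NORMONE.subring_closure_eq_top (F := F) (K := K) h2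
  rw [eq_top_iff]
  intro x _
  have hx : x ∈ Subring.closure {a : K | Algebra.norm F a = 1} := by rw [key]; trivial
  rw [Subring.mem_closure_iff] at hx
  have hS : (Submonoid.closure {a : K | Algebra.norm F a = 1} : Set K) =
      {a : K | Algebra.norm F a = 1} := by
    have := Submonoid.closure_eq (MonoidHom.mker (Algebra.norm F : K →* F))
    have hset : ((MonoidHom.mker (Algebra.norm F : K →* F) : Submonoid K) : Set K) =
        {a : K | Algebra.norm F a = 1} := by
      ext a
      simp [MonoidHom.mem_mker]
    rw [← hset, this]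
  rwa [hS] at hx

end Cfsg.Agent.S5886P
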