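import Mathlib
import Cfsg.Prelude.Def_Characters
import Cfsg.Agent.Helper12.LOPDefs

set_option autoImplicit false

/-! # S2345, piece PLANE (backup): every isometry of the hyperbolic form is the product of an
element of `Ω` and an isometry supported on the third coordinate hyperbolic plane. -/

namespace Cfsg.Agent.Helper23.PLANEb

open Matrix Cfsg Cfsg.Agent.Helper28.Sg Cfsg.Agent.Helper28.Spin Cfsg.Agent.Helper12.LOP

variable {F : Type*} [Field F]

/-- isometries fixing pointwise the orthogonal complement of the third hyperbolic plane -/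
def K {m : ℕ} (hm : 3 ≤ m) : Subgroup (OO m F) where
  carrier := {h | ∀ x : VV m F, x (Sum.inl (Fin.castLE hm 2)) = 0 →
    x (Sum.inr (Fin.castLE hm 2)) = 0 → mt (QfPlus m F) h *ᵥ x = x}
  one_mem' := fun x _ _ => mt_one_mulVec _ x
  mul_mem' := fun {a b} ha hb x h1 h2 => by
    rw [mt_mul_mulVec, hb x h1 h2, ha x h1 h2]
  inv_mem' := fun {a} ha x h1 h2 => by
    conv_lhs => rw [← ha x h1 h2]
    rw [mt_inv_mulVec]

theorem mem_K {m : ℕ} (hm : 3 ≤ m) (h : OO m F) :
    h ∈ K (F := F) hm ↔ ∀ x : VV m F, x (Sum.inl (Fin.castLE hm 2)) = 0 →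
      x (Sum.inr (Fin.castLE hm 2)) = 0 → mt (QfPlus m F) h *ᵥ x = x := Iff.rfl

/-- the vector `e₂ + t f₂` -/
noncomputable def cvec {m : ℕ} (hm : 3 ≤ m) (t : F) : VV m F :=
  (stdFrame3 (F := F) hm).e 2 + t • (stdFrame3 (F := F) hm).f 2

theorem Q_cvec {m : ℕ} (hm : 3 ≤ m) (t : F) : QfPlus m F (cvec hm t) = t := by
  have fr := stdFrame3 (F := F) hm
  rw [cvec, Q_add, Q_smul, (stdFrame3 (F := F) hm).Qe, (stdFrame3 (F := F) hm).Qf]
  simp only [B, QuadraticMap.polar_smul_right, (stdFrame3 (F := F) hm).Bef, smul_eq_mul]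
  simp

theorem B_cvec {m : ℕ} (hm : 3 ≤ m) (t : F) (x : VV m F)
    (h1 : x (Sum.inl (Fin.castLE hm 2)) = 0) (h2 : x (Sum.inr (Fin.castLE hm 2)) = 0) :
    B (QfPlus m F) (cvec hm t) x = 0 := by
  rw [B_plus]
  apply Finset.sum_eq_zero
  intro i _
  simp only [cvec, stdFrame3_e, stdFrame3_f, Pi.add_apply, Pi.smul_apply, smul_eq_mul]
  by_cases hi : i = Fin.castLE hm 2
  · subst hi
    rw [h1, h2]
    ring
  · have hne1 : (Sum.inl i : Fin m ⊕ Fin m) ≠ Sum.inl (Fin.castLE hm 2) := by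
      intro h
      exact hi (Sum.inl.inj h)
    have hne2 : (Sum.inr i : Fin m ⊕ Fin m) ≠ Sum.inr (Fin.castLE hm 2) := by
      intro h
      exact hi (Sum.inr.inj h)
    rw [Pi.single_eq_of_ne hne1, Pi.single_eq_of_ne hne2]
    simp

theorem reflO_cvec_mem_K {m : ℕ} (hm : 3 ≤ m) (t : F) (ht : QfPlus m F (cvec hm t) ≠ 0) :
    reflO (QfPlus m F) (cvec hm t) ht ∈ K (F := F) hm := by
  rw [mem_K]
  intro x h1 h2
  have hB : QuadraticMap.polar ⇑(QfPlus m F) (cvec hm t) x = 0 := B_cvec hm t x h1 h2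
  change Cfsg.reflectionMatrix ⇑(QfPlus m F) (cvec hm t) *ᵥ x = x
  rw [refl_mulVec, hB, mul_zero, zero_smul, sub_zero]

theorem refl_mem_sup [Fintype F] {m : ℕ} (hm : 3 ≤ m) (a : VV m F) (ha : QfPlus m F a ≠ 0) :
    reflO (QfPlus m F) a ha ∈ K (F := F) hm ⊔ Cfsg.Omega F ⇑(QfPlus m F) := by
  classical
  set c := cvec hm (QfPlus m F a) with hc
  have hQc : QfPlus m F c = QfPlus m F a := Q_cvec hm _
  have hc0 : QfPlus m F c ≠ 0 := by rw [hQc]; exact ha
  have hcK : reflO (QfPlus m F) c hc0 ∈ K (F := F) hm := reflO_cvec_mem_K hm _ hc0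
  by_cases hind : Indep a c
  · obtain ⟨e', f', he', hf', hef, hea, hec, hfa, hfc⟩ :=
      exists_hyp_orth (Q_nondeg (F := F) m) (stdFrame3 hm) hind
    have hS : reflO (QfPlus m F) a ha * reflO (QfPlus m F) c hc0 ∈ S (QfPlus m F) :=
      refl_mul_mem_S ha hc0 hQc.symm he' hf' hef hea hec hfa hfc
    have hΩ : reflO (QfPlus m F) a ha * reflO (QfPlus m F) c hc0 ∈
        Cfsg.Omega F ⇑(QfPlus m F) := S_le_Omega (Q_nondeg m) (stdFrame3 hm) hS
    have heq : reflO (QfPlus m F) a ha =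
        (reflO (QfPlus m F) a ha * reflO (QfPlus m F) c hc0) * reflO (QfPlus m F) c hc0 := by
      rw [mul_assoc, reflO_mul_self, mul_one]
    rw [heq]
    exact Subgroup.mul_mem _ (Subgroup.mem_sup_right hΩ) (Subgroup.mem_sup_left hcK)
  · -- `a` is proportional to `c`
    have hex : ∃ x y : F, x • a + y • c = 0 ∧ ¬ (x = 0 ∧ y = 0) := by
      by_contra hcon
      apply hind
      intro x y hxy
      by_contra hne
      exact hcon ⟨x, y, hxy, hne⟩
    obtain ⟨x, y, hxy, hne⟩ := hex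
    have hx : x ≠ 0 := by
      intro hx0
      rw [hx0, zero_smul, zero_add] at hxy
      rcases smul_eq_zero.mp hxy with h | h
      · exact hne ⟨hx0, h⟩
      · apply hc0
        rw [h, map_zero]
    have hat : a = (-(y / x)) • c := by
      have h1 : x • a = -(y • c) := eq_neg_of_add_eq_zero_left hxy
      have h2 : a = x⁻¹ • (x • a) := by rw [smul_smul, inv_mul_cancel₀ hx, one_smul]
      rw [h2, h1, smul_neg, smul_smul, neg_smul]
      congr 2
      field_simp
    have ht : -(y / x) ≠ 0 := by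
      intro h0
      rw [h0, zero_smul] at hat
      apply ha
      rw [hat, map_zero]
    have hv' : QfPlus m F ((-(y / x)) • c) ≠ 0 := by rw [← hat]; exact ha
    have e1 : reflO (QfPlus m F) a ha = reflO (QfPlus m F) ((-(y / x)) • c) hv' :=
      reflO_congr' hat ha hv'
    rw [e1, reflO_smul (QfPlus m F) c hc0 ht hv']
    exact Subgroup.mem_sup_left hcK

/-- PLANE -/
theorem exists_plane_correction [Fintype F] {m : ℕ} (hm : 3 ≤ m) (g : OO m F) :
    ∃ h : OO m F, (∀ x : VV m F, x (Sum.inl (Fin.castLE hm 2)) = 0 →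
      x (Sum.inr (Fin.castLE hm 2)) = 0 → mt (QfPlus m F) h *ᵥ x = x) ∧
      g * h ∈ Cfsg.Omega F ⇑(QfPlus m F) := by
  have hg : g ∈ K (F := F) hm ⊔ Cfsg.Omega F ⇑(QfPlus m F) :=
    hgen_plus hm _ (fun v hv => refl_mem_sup hm v hv) g
  have hset : g ∈ ((K (F := F) hm ⊔ Cfsg.Omega F ⇑(QfPlus m F) : Subgroup (OO m F)) :
      Set (OO m F)) := hg
  rw [Subgroup.mul_normal] at hset
  obtain ⟨k, hk, ω, hω, rfl⟩ := Set.mem_mul.mp hset
  refine ⟨k⁻¹, (mem_K hm _).mp ((K (F := F) hm).inv_mem hk), ?_⟩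
  exact (inferInstance : (Cfsg.Omega F ⇑(QfPlus m F)).Normal).conj_mem ω hω k

end Cfsg.Agent.Helper23.PLANEb
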