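import Mathlib
import Cfsg.Prelude.Def_Characters
import Cfsg.Agent.Helper12.LOPDefs
import Cfsg.Agent.Helper23.LOPPLANEb

set_option autoImplicit false

/-! # S2345, piece TRANS: `Ω⁺_{2m}(F)` is transitive on the nonzero singular vectors and on every
level set `Q = α ≠ 0`. -/

namespace Cfsg.Agent.Helper12.LOP.TRANS

open Matrix Cfsg Cfsg.Agent.Helper28.Sg Cfsg.Agent.Helper28.Spin Cfsg.Agent.Helper12.LOP

variable {F : Type*} [Field F] {n : ℕ}

/-- a nonzero vector has an independent companion -/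
theorem exists_indep (w : VV (n + 3) F) (hw0 : w ≠ 0) : ∃ b : VV (n + 3) F, Indep w b := by
  classical
  have hex : ∃ j, w j ≠ 0 := by
    by_contra hcon
    apply hw0
    ext j
    by_contra hj
    exact hcon ⟨j, hj⟩
  obtain ⟨j, hj⟩ := hex
  -- an index different from `j`
  have hi : ∃ i : Fin (n + 3) ⊕ Fin (n + 3), i ≠ j := by
    by_cases h : j = Sum.inl 0
    · exact ⟨Sum.inr 0, by rw [h]; simp⟩
    · exact ⟨Sum.inl 0, fun h' => h h'.symm⟩
  obtain ⟨i, hij⟩ := hi
  refine ⟨Pi.single i 1, indep_of_not_smul hw0 ?_⟩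
  rintro ⟨c, hc⟩
  have h1 := congrFun hc j
  have h2 := congrFun hc i
  simp only [Pi.smul_apply, smul_eq_mul, Pi.single_eq_same] at h2
  rw [Pi.single_eq_of_ne (Ne.symm hij)] at h1
  simp only [Pi.smul_apply, smul_eq_mul] at h1
  have hc0 : c = 0 := by
    rcases mul_eq_zero.mp h1.symm with h | h
    · exact h
    · exact (hj h).elim
  rw [hc0, zero_mul] at h2
  exact one_ne_zero h2

/-- the standard vector of level `α` -/
noncomputable def std (α : F) : VV (n + 3) F :=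
  (stdFrame3 (F := F) (m := n + 3) (by omega)).e 0 +
    α • (stdFrame3 (F := F) (m := n + 3) (by omega)).f 0

/-- every nonzero vector is the image of the standard vector of its level under an element of
`Ω` -/
theorem exists_omega_map_std [Fintype F] (w : VV (n + 3) F) (hw0 : w ≠ 0) :
    ∃ g : GO (n + 3) F, mt (QfPlus (n + 3) F) g.1 *ᵥ (std (QfPlus (n + 3) F w)) = w := by
  have hm : 3 ≤ n + 3 := by omega
  obtain ⟨b, hb⟩ := exists_indep w hw0
  obtain ⟨g, hg, -⟩ := witt_pair (Q_nondeg (F := F) (n + 3)) (stdFrame3 hm) w b hb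
  obtain ⟨h, hfix, hmem⟩ := Cfsg.Agent.Helper23.PLANEb.exists_plane_correction hm g
  refine ⟨⟨g * h, hmem⟩, ?_⟩
  change mt (QfPlus (n + 3) F) (g * h) *ᵥ _ = w
  rw [mt_mul_mulVec, hfix]
  · exact hg
  · simp only [std, stdFrame3_e, stdFrame3_f, Pi.add_apply, Pi.smul_apply, smul_eq_mul]
    rw [Pi.single_eq_of_ne, Pi.single_eq_of_ne]
    · simp
    · simp
    · intro h
      have := Sum.inl.inj h
      have := congrArg Fin.val this
      simp at this
  · simp only [std, stdFrame3_e, stdFrame3_f, Pi.add_apply, Pi.smul_apply, smul_eq_mul]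
    rw [Pi.single_eq_of_ne, Pi.single_eq_of_ne]
    · simp
    · intro h
      have := Sum.inr.inj h
      have := congrArg Fin.val this
      simp at this
    · simp

/-- the common part of both transitivity statements -/
theorem exists_omega_map [Fintype F] (w w' : VV (n + 3) F)
    (h : QfPlus (n + 3) F w = QfPlus (n + 3) F w') (hw0 : w ≠ 0) (hw'0 : w' ≠ 0) :
    ∃ g : GO (n + 3) F, mt (QfPlus (n + 3) F) g.1 *ᵥ w = w' := by
  obtain ⟨g₁, hg₁⟩ := exists_omega_map_std w hw0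
  obtain ⟨g₂, hg₂⟩ := exists_omega_map_std w' hw'0
  refine ⟨g₂ * g₁⁻¹, ?_⟩
  change mt (QfPlus (n + 3) F) (g₂.1 * g₁.1⁻¹) *ᵥ w = w'
  rw [mt_mul_mulVec]
  have h1 : mt (QfPlus (n + 3) F) g₁.1⁻¹ *ᵥ w = std (QfPlus (n + 3) F w) := by
    conv_lhs => rw [← hg₁]
    rw [mt_inv_mulVec]
  rw [h1, h, hg₂]

end Cfsg.Agent.Helper12.LOP.TRANS

namespace Cfsg.Agent.Helper12.LOP

open Matrix Cfsg Cfsg.Agent.Helper28.Sg Cfsg.Agent.Helper28.Spin

variable {F : Type*} [Field F] {n : ℕ}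

/-! ### TRANS -/
theorem exists_omega_map_singular [Fintype F] (w w' : VV (n + 3) F)
    (hw : QfPlus (n + 3) F w = 0) (hw' : QfPlus (n + 3) F w' = 0) (hw0 : w ≠ 0) (hw'0 : w' ≠ 0) :
    ∃ g : GO (n + 3) F, mt (QfPlus (n + 3) F) g.1 *ᵥ w = w' :=
  TRANS.exists_omega_map w w' (by rw [hw, hw']) hw0 hw'0

theorem exists_omega_map_level [Fintype F] (w w' : VV (n + 3) F)
    (h : QfPlus (n + 3) F w = QfPlus (n + 3) F w') (hw : QfPlus (n + 3) F w ≠ 0) :
    ∃ g : GO (n + 3) F, mt (QfPlus (n + 3) F) g.1 *ᵥ w = w' := by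
  have hw0 : w ≠ 0 := by
    intro h0
    apply hw
    rw [h0, map_zero]
  have hw'0 : w' ≠ 0 := by
    intro h0
    apply hw
    rw [h, h0, map_zero]
  exact TRANS.exists_omega_map w w' h hw0 hw'0

end Cfsg.Agent.Helper12.LOP
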