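import Mathlib
import Cfsg.Prelude.Def_PLocal
import Cfsg.Agent.Helper28.S2768Defs
import Cfsg.Agent.Helper3.SylowSubnormal

/-! # S2768 board, piece E0A (blueprint 1.1 – 1.4) -/

set_option autoImplicit false

namespace Cfsg.Agent.S2768P

open Subgroup

variable {G : Type*} [Group G] [Finite G] {p : ℕ} [Fact p.Prime]

theorem E0A_aux_proper (S : Sylow p G) (M K : Subgroup G) [K.Normal] (h : Hyp p S M K)
    (H : Subgroup G) (hS : (S : Subgroup G) ≤ H) (hH : H ≠ ⊤) : H ≤ M := by
  obtain h1 | ⟨M', hM', hle⟩ := IsCoatomic.eq_top_or_exists_le_coatom H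
  · exact absurd h1 hH
  · have h2 := h.uniq M' hM' (hS.trans hle)
    exact h2 ▸ hle

omit [Finite G] in
theorem E0A_aux_map_K (K : Subgroup G) [K.Normal] : K.map (QuotientGroup.mk' K) = ⊥ := by
  rw [Subgroup.map_eq_bot_iff, QuotientGroup.ker_mk']

theorem E0A_aux_K_le (S : Sylow p G) (M K : Subgroup G) [K.Normal] (h : Hyp p S M K) : K ≤ M := by
  have hne : (S : Subgroup G) ⊔ K ≠ ⊤ := by
    intro htop
    apply h.rank.ne_top (S.mapSurjective (QuotientGroup.mk'_surjective K))
    rw [Sylow.coe_mapSurjective]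
    have h2 : ((S : Subgroup G) ⊔ K).map (QuotientGroup.mk' K) = ⊤ := by
      rw [htop]
      exact Subgroup.map_top_of_surjective _ (QuotientGroup.mk'_surjective K)
    rw [Subgroup.map_sup, E0A_aux_map_K, sup_bot_eq] at h2
    exact h2
  exact le_sup_right.trans (E0A_aux_proper S M K h _ le_sup_left hne)

theorem E0A_aux_not_normal (S : Sylow p G) (M K : Subgroup G) [K.Normal] (h : Hyp p S M K) :
    ¬ M.Normal := by
  intro hMn
  have hK := E0A_aux_K_le S M K h
  have hmapn : (M.map (QuotientGroup.mk' K)).Normal := hMn.map _ (QuotientGroup.mk'_surjective K)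
  have hU : ((S.mapSurjective (QuotientGroup.mk'_surjective K) : Sylow p (G ⧸ K)) : Subgroup (G ⧸ K)) ≤
      M.map (QuotientGroup.mk' K) := by
    rw [Sylow.coe_mapSurjective]
    exact Subgroup.map_mono h.le
  have htop := h.rank.gen _ _ hmapn hU
  have h3 := congrArg (Subgroup.comap (QuotientGroup.mk' K)) htop
  rw [Subgroup.comap_map_eq, QuotientGroup.ker_mk', sup_eq_left.2 hK, Subgroup.comap_top] at h3
  exact h.coatom.1 h3

theorem E0A_aux_inf_normal (S : Sylow p G) (M K : Subgroup G) [K.Normal] (h : Hyp p S M K) :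
    ((S : Subgroup G) ⊓ K).Normal := by
  have hK := E0A_aux_K_le S M K h
  have hcard : Nat.card ((S : Subgroup G).subgroupOf K) = p ^ (Nat.card K).factorization p := by
    rw [Cfsg.Agent.Helper3.card_subgroupOf_eq_card_inf, Cfsg.Agent.Helper3.card_sylow_inf_normal]
  have hfr := Sylow.normalizer_sup_eq_top (Sylow.ofCard ((S : Subgroup G).subgroupOf K) hcard)
  rw [Sylow.coe_ofCard, Subgroup.subgroupOf_map_subtype] at hfr
  have hSN : (S : Subgroup G) ≤ normalizer (((S : Subgroup G) ⊓ K : Subgroup G) : Set G) := by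
    intro s hs
    rw [Subgroup.mem_normalizer_iff]
    intro x
    simp only [Subgroup.mem_inf]
    constructor
    · rintro ⟨hxS, hxK⟩
      exact ⟨mul_mem (mul_mem hs hxS) (inv_mem hs), (inferInstance : K.Normal).conj_mem x hxK s⟩
    · rintro ⟨hxS, hxK⟩
      refine ⟨?_, ?_⟩
      · have h1 := mul_mem (mul_mem (inv_mem hs) hxS) hs
        simpa [mul_assoc] using h1
      · have h1 := (inferInstance : K.Normal).conj_mem _ hxK s⁻¹
        simpa [mul_assoc] using h1
  by_cases htop : normalizer (((S : Subgroup G) ⊓ K : Subgroup G) : Set G) = ⊤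
  · exact Subgroup.normalizer_eq_top_iff.1 htop
  · exfalso
    have h1 := E0A_aux_proper S M K h _ hSN htop
    apply h.coatom.1
    rw [eq_top_iff, ← hfr]
    exact sup_le h1 hK

theorem E0A (S : Sylow p G) (M K : Subgroup G) [K.Normal] (h : Hyp p S M K) :
    (∀ H : Subgroup G, (S : Subgroup G) ≤ H → H ≠ ⊤ → H ≤ M) ∧ M ≠ ⊤ ∧ K ≤ M ∧ ¬ M.Normal ∧
      (S : Subgroup G) ⊓ K ≤ Cfsg.pCore p G := by
  refine ⟨E0A_aux_proper S M K h, h.coatom.1, E0A_aux_K_le S M K h, E0A_aux_not_normal S M K h, ?_⟩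
  exact le_sSup ⟨E0A_aux_inf_normal S M K h, S.isPGroup'.to_le inf_le_left⟩

end Cfsg.Agent.S2768P
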