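import Mathlib
import Cfsg.Prelude.Def_PLocal
import Cfsg.Agent.Helper28.S2768Defs
import Cfsg.Agent.Helper12.BorelUnip

/-!
# S2768 piece PSLC (driver helper28)

The normalizer of a Sylow `p`-subgroup `U` of `PSL₂(F)`, `|F| = p ^ n`, acts irreducibly on `U`:
the torus `diag(t, t⁻¹)` acts on `U ≅ (F, +)` by multiplication with `t²`, and every element of a
finite field is a sum of two squares.
-/

set_option autoImplicit false

namespace Cfsg.Agent.S2768P

open Subgroup Cfsg.Agent.Helper12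

/-- The diagonal element `diag(a, a⁻¹)` of `SL₂`. -/
def PSLC_aux_dg {F : Type*} [Field F] (a : Fˣ) : Matrix.SpecialLinearGroup (Fin 2) F :=
  ⟨!![(a : F), 0; 0, ((a⁻¹ : Fˣ) : F)], by simp [Matrix.det_fin_two_of]⟩

theorem PSLC_aux_dg_coe {F : Type*} [Field F] (a : Fˣ) :
    ((PSLC_aux_dg a : Matrix.SpecialLinearGroup (Fin 2) F) : Matrix (Fin 2) (Fin 2) F) =
      !![(a : F), 0; 0, ((a⁻¹ : Fˣ) : F)] := rfl

theorem PSLC_aux_dg_conj {F : Type*} [Field F] (a : Fˣ) (r : F) :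
    PSLC_aux_dg a * uMat r * (PSLC_aux_dg a)⁻¹ = uMat ((a : F) ^ 2 * r) := by
  apply Subtype.ext
  show ((PSLC_aux_dg a : Matrix.SpecialLinearGroup (Fin 2) F) : Matrix (Fin 2) (Fin 2) F) *
      ((uMat r : Matrix.SpecialLinearGroup (Fin 2) F) : Matrix (Fin 2) (Fin 2) F) *
      (((PSLC_aux_dg a)⁻¹ : Matrix.SpecialLinearGroup (Fin 2) F) : Matrix (Fin 2) (Fin 2) F) = _
  rw [Matrix.SpecialLinearGroup.coe_inv, PSLC_aux_dg_coe, uMat_coe, uMat_coe,
    Matrix.adjugate_fin_two_of, Matrix.mul_fin_two, Matrix.mul_fin_two]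
  ext i j
  fin_cases i <;> fin_cases j <;> simp
  ring

/-- Every element of a finite field is a sum of two squares. -/
theorem PSLC_aux_sum_two_squares {F : Type*} [Field F] [Fintype F] (x : F) :
    ∃ a b : F, a ^ 2 + b ^ 2 = x := by
  classical
  by_cases h2 : ringChar F = 2
  · obtain ⟨a, ha⟩ := FiniteField.isSquare_of_char_two h2 x
    exact ⟨a, 0, by rw [ha]; ring⟩
  · have hodd : Fintype.card F % 2 = 1 := FiniteField.odd_card_of_char_ne_two h2
    obtain ⟨a, b, hab⟩ := FiniteField.exists_root_sum_quadratic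
      (f := (Polynomial.X : Polynomial F) ^ 2)
      (g := (Polynomial.X : Polynomial F) ^ 2 - Polynomial.C x)
      (Polynomial.degree_X_pow 2) (Polynomial.degree_X_pow_sub_C (by norm_num) x) hodd
    refine ⟨a, b, ?_⟩
    simp only [Polynomial.eval_pow, Polynomial.eval_X, Polynomial.eval_sub,
      Polynomial.eval_C] at hab
    linear_combination hab

/-- a field of order `p ^ n`, `n ≥ 1`, has characteristic `p` -/
theorem PSLC_aux_charP (F : Type*) [Field F] [Fintype F] (p : ℕ) [Fact p.Prime] (n : ℕ)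
    (hn : 1 ≤ n) (hF : Fintype.card F = p ^ n) : CharP F p := by
  classical
  have hp : p.Prime := Fact.out
  obtain ⟨r, hr⟩ := CharP.exists F
  have hrp : r.Prime := CharP.char_is_prime F r
  have : Fact r.Prime := ⟨hrp⟩
  obtain ⟨m, _, hm⟩ := FiniteField.card F r
  have hpk : p ^ n = r ^ (m : ℕ) := by rw [← hF, hm]
  have hdvd : p ∣ r ^ (m : ℕ) := by
    rw [← hpk]
    exact dvd_pow_self p (by omega)
  have hpr : p = r := (Nat.prime_dvd_prime_iff_eq hp hrp).1 (hp.dvd_of_dvd_pow hdvd)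
  rw [hpr]
  exact hr

theorem PSLC_aux_uMat_zero {F : Type*} [Field F] : uMat (0 : F) = 1 := by
  have h := uMat_mul (0 : F) 0
  rw [add_zero] at h
  exact mul_left_cancel (a := uMat (0 : F)) (by rw [h, mul_one])

/-- PSLC (M): `N(U)` acts irreducibly on the Sylow `p`-subgroup `U` of `PSL₂(F)`. -/
theorem PSLC (F : Type) [Field F] [Fintype F] (p : ℕ) [Fact p.Prime] (n : ℕ) (hn : 1 ≤ n)
    (hF : Fintype.card F = p ^ n)
    (P : Sylow p (Matrix.ProjectiveSpecialLinearGroup (Fin 2) F))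
    (U₁ : Subgroup (Matrix.ProjectiveSpecialLinearGroup (Fin 2) F)) (hU : U₁ ≤ (P : Subgroup (Matrix.ProjectiveSpecialLinearGroup (Fin 2) F)))
    (hne : U₁ ≠ ⊥)
    (hnorm : normalizer ((P : Subgroup (Matrix.ProjectiveSpecialLinearGroup (Fin 2) F)) : Set (Matrix.ProjectiveSpecialLinearGroup (Fin 2) F)) ≤ normalizer (U₁ : Set (Matrix.ProjectiveSpecialLinearGroup (Fin 2) F))) :
    U₁ = (P : Subgroup (Matrix.ProjectiveSpecialLinearGroup (Fin 2) F)) := by
  classical
  have hchar : CharP F p := PSLC_aux_charP F p n hn hF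
  obtain ⟨S, hS⟩ := Sylow.mapSurjective_surjective
    (QuotientGroup.mk'_surjective (Subgroup.center (Matrix.SpecialLinearGroup (Fin 2) F))) p P
  have hPS : (P : Subgroup (Matrix.ProjectiveSpecialLinearGroup (Fin 2) F)) =
      (S : Subgroup (Matrix.SpecialLinearGroup (Fin 2) F)).map
        (QuotientGroup.mk' (Subgroup.center (Matrix.SpecialLinearGroup (Fin 2) F))) := by
    rw [← hS]
    rfl
  obtain ⟨g, hg⟩ := exists_conj_sylow_eq_unipSL p S
  -- the parametrisation of `P`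
  obtain ⟨φ, hφ⟩ : ∃ φ : F → Matrix.ProjectiveSpecialLinearGroup (Fin 2) F,
      ∀ r, φ r = QuotientGroup.mk' (Subgroup.center (Matrix.SpecialLinearGroup (Fin 2) F))
        (g⁻¹ * uMat r * g) := ⟨_, fun _ => rfl⟩
  have hφadd : ∀ r s : F, φ (r + s) = φ r * φ s := by
    intro r s
    rw [hφ, hφ, hφ, ← map_mul, ← uMat_mul]
    congr 1
    group
  have hφzero : φ 0 = 1 := by
    rw [hφ, PSLC_aux_uMat_zero, mul_one, inv_mul_cancel, map_one]
  have hmemS : ∀ r : F, g⁻¹ * uMat r * g ∈ (S : Subgroup (Matrix.SpecialLinearGroup (Fin 2) F)) := by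
    intro r
    have h1 : uMat r ∈ (S : Subgroup (Matrix.SpecialLinearGroup (Fin 2) F)).map
        (MulAut.conj g).toMonoidHom := by rw [hg]; exact uMat_mem r
    obtain ⟨s, hs, hsr⟩ := h1
    have h2 : g * s * g⁻¹ = uMat r := hsr
    have h3 : g⁻¹ * uMat r * g = s := by rw [← h2]; group
    rw [h3]
    exact hs
  have hφP : ∀ x, x ∈ (P : Subgroup (Matrix.ProjectiveSpecialLinearGroup (Fin 2) F)) ↔
      ∃ r, x = φ r := by
    intro x
    constructor
    · intro hx
      rw [hPS] at hx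
      obtain ⟨s, hs, rfl⟩ := hx
      have h1 : g * s * g⁻¹ ∈ unipSL F := by
        rw [← hg]
        exact ⟨s, hs, rfl⟩
      refine ⟨((g * s * g⁻¹ : Matrix.SpecialLinearGroup (Fin 2) F) :
        Matrix (Fin 2) (Fin 2) F) 0 1, ?_⟩
      rw [hφ, ← eq_uMat_of_mem h1]
      congr 1
      group
    · rintro ⟨r, rfl⟩
      rw [hPS, hφ]
      exact ⟨_, hmemS r, rfl⟩
  have hφconj : ∀ (a : Fˣ) (r : F),
      QuotientGroup.mk' (Subgroup.center (Matrix.SpecialLinearGroup (Fin 2) F))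
          (g⁻¹ * PSLC_aux_dg a * g) * φ r *
        (QuotientGroup.mk' (Subgroup.center (Matrix.SpecialLinearGroup (Fin 2) F))
          (g⁻¹ * PSLC_aux_dg a * g))⁻¹ = φ ((a : F) ^ 2 * r) := by
    intro a r
    rw [hφ, hφ, ← map_inv, ← map_mul, ← map_mul, ← PSLC_aux_dg_conj]
    congr 1
    group
  have hdN : ∀ a : Fˣ,
      QuotientGroup.mk' (Subgroup.center (Matrix.SpecialLinearGroup (Fin 2) F))
          (g⁻¹ * PSLC_aux_dg a * g) ∈
        normalizer ((P : Subgroup (Matrix.ProjectiveSpecialLinearGroup (Fin 2) F)) :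
          Set (Matrix.ProjectiveSpecialLinearGroup (Fin 2) F)) := by
    intro a
    apply Subgroup.mem_normalizer_fintype
    intro x hx
    obtain ⟨r, rfl⟩ := (hφP x).1 hx
    rw [hφconj]
    exact (hφP _).2 ⟨_, rfl⟩
  -- a nontrivial element of `U₁`
  obtain ⟨x0, hx0⟩ := Subgroup.ne_bot_iff_exists_ne_one.mp hne
  obtain ⟨r₀, hr₀⟩ := (hφP (x0 : Matrix.ProjectiveSpecialLinearGroup (Fin 2) F)).1 (hU x0.2)
  have hr₀ne : r₀ ≠ 0 := by
    rintro rfl
    apply hx0
    apply Subtype.ext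
    rw [hr₀, hφzero]
    rfl
  have hr₀U : φ r₀ ∈ U₁ := by rw [← hr₀]; exact x0.2
  have hsq : ∀ (a r : F), φ r ∈ U₁ → φ (a ^ 2 * r) ∈ U₁ := by
    intro a r hr
    by_cases ha : a = 0
    · rw [ha, zero_pow (by norm_num), zero_mul, hφzero]
      exact U₁.one_mem
    · have h1 := hnorm (hdN (Units.mk0 a ha))
      have h2 := (Subgroup.mem_set_normalizer_iff.mp h1 (φ r)).1 hr
      rw [hφconj] at h2
      exact h2
  have hall : ∀ y : F, φ y ∈ U₁ := by
    intro y
    obtain ⟨a, b, hab⟩ := PSLC_aux_sum_two_squares (y * r₀⁻¹)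
    have hy : y = a ^ 2 * r₀ + b ^ 2 * r₀ := by
      rw [← add_mul, hab, mul_assoc, inv_mul_cancel₀ hr₀ne, mul_one]
    rw [hy, hφadd]
    exact U₁.mul_mem (hsq a r₀ hr₀U) (hsq b r₀ hr₀U)
  apply le_antisymm hU
  intro x hx
  obtain ⟨r, rfl⟩ := (hφP x).1 hx
  exact hall r

end Cfsg.Agent.S2768P
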