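import Mathlib
import Cfsg.Agent.Helper25.QPDefs2
import Cfsg.Agent.Helper25.QPAct
import Cfsg.Agent.Helper19.QPFIT
import Cfsg.Agent.Helper12.QPSTRA
import Cfsg.Agent.Helper12.QPTHMA
import Cfsg.Agent.Helper12.QPNONU
import Cfsg.Agent.Helper21.QPELT

/-! Board `qp74pieces`, piece TORUS: the diagonal elements `h_s` of the group of a non-unipotent
pair of members of `Qd`. -/

set_option autoImplicit false
set_option linter.unusedVariables false

noncomputable section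

universe u v

namespace Cfsg.Agent.QP74

open Cfsg Cfsg.Agent.Helper25.QP Cfsg.Agent.Helper25.QuadPair Cfsg.Agent.QPP Polynomial

variable {k : Type u} [Field k] {M : Type v} [AddCommGroup M] [Module k M]

local notation "GLkM" => LinearMap.GeneralLinearGroup k M

/-- `w(z) (z m) = m` for `m ∈ M₁` when `X w - 1 ∈ Van1` -/
theorem TORUS_aux_inv {a b : Module.End k M} {w : k[X]} (hw : X * w - 1 ∈ Van1 a b) {m : M}
    (hm : m ∈ M1 a b) : aeval (zz a b) w (zz a b m) = m := by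
  have h := hw m hm
  rw [map_sub, map_one, LinearMap.sub_apply, Module.End.one_apply, aeval_X_mul_apply,
    sub_eq_zero] at h
  exact h

/-- the determinant condition for the diagonal matrix -/
theorem TORUS_aux_det (I : Ideal k[X]) (w : k[X]) (hw : X * w - 1 ∈ I) (s : k) (hs : s ≠ 0) :
    (1 + Co.matn (⟨C (s - 1) * w, 0, 0, C (s⁻¹ - 1) * w⟩ : Co k)).det - 1 ∈ I := by
  have e : (1 + Co.matn (⟨C (s - 1) * w, 0, 0, C (s⁻¹ - 1) * w⟩ : Co k)).det - 1 =
      (X * w - 1) * (C (s - 1) + C (s⁻¹ - 1) + C (s - 1) * C (s⁻¹ - 1) * (X * w - 1)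
        + C (s - 1) * C (s⁻¹ - 1) * 2) + (C (s - 1) + C (s⁻¹ - 1) + C (s - 1) * C (s⁻¹ - 1)) := by
    simp only [Co.matn, Matrix.det_fin_two, Matrix.add_apply, Matrix.one_apply_eq,
      Matrix.one_apply_ne, Matrix.of_apply, Matrix.cons_val_zero, Matrix.cons_val_one, ne_eq,
      zero_ne_one, one_ne_zero, not_false_eq_true]
    ring
  have e2 : (C (s - 1) + C (s⁻¹ - 1) + C (s - 1) * C (s⁻¹ - 1) : k[X]) = 0 := by
    rw [← C_mul, ← C_add, ← C_add]
    have : s - 1 + (s⁻¹ - 1) + (s - 1) * (s⁻¹ - 1) = 0 := by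
      field_simp
      ring
    rw [this, C_0]
  rw [e, e2, add_zero]
  exact I.mul_mem_right _ hw

theorem TORUS [FiniteDimensional k M] (hk2 : ringChar k ≠ 2) (hk3 : Nat.card k ≠ 3)
    {G : Subgroup GLkM} {d : ℕ} {b b' : Module.End k M} (hp : QPair G d b b')
    (hnu : ¬ UnipPair b b') (s : k) (hs : s ≠ 0) :
    ∃ h : GLkM, h ∈ G ∧
      (∀ m ∈ LinearMap.ker b ⊓ LinearMap.ker b', (h : Module.End k M) m = m) ∧
      (∀ m ∈ LinearMap.range b, (h : Module.End k M) m = s • m) ∧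
      (∀ m ∈ LinearMap.range b', (h : Module.End k M) m = s⁻¹ • m) := by
  have ha : b * b = 0 := hp.qa.1.1
  have hb : b' * b' = 0 := hp.qb.1.1
  obtain ⟨w, hw0⟩ := FIT_invpoly (zz b b')
  have hw : X * w - 1 ∈ Van1 b b' := hw0
  have hv : VanM0 b b' := THMA hk2 hk3 hp hnu
  obtain ⟨-, hra, hrb, -, -⟩ := STRA b b' ha hb hv
  obtain ⟨-, hM0, -⟩ := NONU hk2 hk3 hp hnu
  obtain ⟨h, hh, h0, h1⟩ := ELT hk2 hk3 hp hnu ⟨C (s - 1) * w, 0, 0, C (s⁻¹ - 1) * w⟩
    (TORUS_aux_det (Van1 b b') w hw s hs)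
  have hopn : ∀ m : M, opn b b' (⟨C (s - 1) * w, 0, 0, C (s⁻¹ - 1) * w⟩ : Co k) m =
      (s - 1) • aeval (zz b b') w (b (b' m)) + (s⁻¹ - 1) • aeval (zz b b') w (b' (b m)) := by
    intro m
    simp only [opn, map_zero, zero_mul, add_zero, map_mul, aeval_C,
      Algebra.algebraMap_eq_smul_one, smul_mul_assoc, one_mul, LinearMap.add_apply,
      LinearMap.smul_apply, Module.End.mul_apply]
  refine ⟨h, Hgrp_le hp.qa.1 hp.qb.1 hh, ?_, ?_, ?_⟩
  · intro m hm
    rw [← hM0] at hm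
    exact h0 m hm
  · intro m hm
    rw [hra] at hm
    have hm1 : m ∈ M1 b b' := hm.1
    have hbm : b m = 0 := LinearMap.mem_ker.mp hm.2
    rw [h1 m hm1, hopn, hbm, map_zero, map_zero, smul_zero, add_zero,
      ab_apply_of_a ha hb hbm, TORUS_aux_inv hw hm1, sub_smul, one_smul]
    abel
  · intro m hm
    rw [hrb] at hm
    have hm1 : m ∈ M1 b b' := hm.1
    have hbm : b' m = 0 := LinearMap.mem_ker.mp hm.2
    rw [h1 m hm1, hopn, hbm, map_zero, map_zero, smul_zero, zero_add,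
      ba_apply_of_b ha hb hbm, TORUS_aux_inv hw hm1, sub_smul, one_smul]
    abel

end Cfsg.Agent.QP74

end
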