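import Mathlib

set_option autoImplicit false

namespace Cfsg.Agent.Helper23.ReeP3

/-- P3: counting the union of the conjugates of a "TI" subset -/
theorem P3_card_conj_union {G : Type*} [Group G] [Finite G] (N : Subgroup G) (Y : Set G)
    (hN : ∀ g ∈ N, ∀ y ∈ Y, g * y * g⁻¹ ∈ Y)
    (hTI : ∀ g : G, ∀ y ∈ Y, g * y * g⁻¹ ∈ Y → g ∈ N) :
    Nat.card {z : G // ∃ g : G, ∃ y ∈ Y, z = g * y * g⁻¹} * Nat.card N =
      Nat.card G * Nat.card Y := by
  classical
  set Z := {z : G // ∃ g : G, ∃ y ∈ Y, z = g * y * g⁻¹} with hZ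
  -- representatives
  let gr : Z → G := fun z => Classical.choose z.2
  let yr : Z → G := fun z => Classical.choose (Classical.choose_spec z.2)
  have hyr : ∀ z : Z, yr z ∈ Y := fun z => (Classical.choose_spec (Classical.choose_spec z.2)).1
  have hzr : ∀ z : Z, z.1 = gr z * yr z * (gr z)⁻¹ :=
    fun z => (Classical.choose_spec (Classical.choose_spec z.2)).2
  let e : Z × N → G × Y := fun t =>
    (gr t.1 * t.2.1, ⟨(t.2.1)⁻¹ * yr t.1 * t.2.1, by
      have := hN (t.2.1)⁻¹ (N.inv_mem t.2.2) (yr t.1) (hyr t.1)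
      simpa using this⟩)
  have hφ : ∀ t : Z × N, (e t).1 * (e t).2.1 * ((e t).1)⁻¹ = t.1.1 := by
    intro t
    rw [hzr t.1]
    show gr t.1 * t.2.1 * ((t.2.1)⁻¹ * yr t.1 * t.2.1) * (gr t.1 * t.2.1)⁻¹ = _
    group
  have hinj : Function.Injective e := by
    intro t t' h
    have h1 : t.1 = t'.1 := by
      apply Subtype.ext
      rw [← hφ t, ← hφ t', h]
    have h2 : gr t.1 * t.2.1 = gr t'.1 * t'.2.1 := congrArg Prod.fst h
    rw [← h1] at h2
    have h3 : t.2 = t'.2 := Subtype.ext (mul_left_cancel h2)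
    exact Prod.ext h1 h3
  have hsurj : Function.Surjective e := by
    rintro ⟨g, ⟨y, hy⟩⟩
    let z : Z := ⟨g * y * g⁻¹, g, y, hy, rfl⟩
    have hz := hzr z
    have hn : (gr z)⁻¹ * g ∈ N := by
      apply hTI _ y hy
      have : (gr z)⁻¹ * g * y * ((gr z)⁻¹ * g)⁻¹ = (gr z)⁻¹ * (g * y * g⁻¹) * gr z := by group
      rw [this]
      have hz' : g * y * g⁻¹ = gr z * yr z * (gr z)⁻¹ := hz
      rw [hz']
      have : (gr z)⁻¹ * (gr z * yr z * (gr z)⁻¹) * gr z = yr z := by group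
      rw [this]
      exact hyr z
    refine ⟨(z, ⟨(gr z)⁻¹ * g, hn⟩), ?_⟩
    apply Prod.ext
    · show gr z * ((gr z)⁻¹ * g) = g
      group
    · apply Subtype.ext
      show ((gr z)⁻¹ * g)⁻¹ * yr z * ((gr z)⁻¹ * g) = y
      have hz' : g * y * g⁻¹ = gr z * yr z * (gr z)⁻¹ := hz
      have : yr z = (gr z)⁻¹ * (g * y * g⁻¹) * gr z := by rw [hz']; group
      rw [this]; group
  have hcard := Nat.card_congr (Equiv.ofBijective e ⟨hinj, hsurj⟩)
  rw [Nat.card_prod, Nat.card_prod] at hcard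
  exact hcard

end Cfsg.Agent.Helper23.ReeP3
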