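import Mathlib
import Cfsg.Agent.Helper12.S1786Defs
import Cfsg.Agent.Helper12.S1786TIC

/-! Board `s1786pieces`, row CMP (hedge copy by helper23). -/

set_option autoImplicit false

namespace Cfsg.Agent.S1786P

variable {G : Type*} [Group G] [Finite G] {V Q B C : Subgroup G}

/-- `X = C_M(P)` is normalised by `M`. -/
theorem CMPh_aux_conj (S : Setup V Q) {m x : G} (hm : m ∈ Subgroup.normalizer (V : Set G))
    (hx : x ∈ Subgroup.normalizer (V : Set G)) (hxc : ∀ y ∈ PP V Q, x * y = y * x) :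
    m * x * m⁻¹ ∈ Subgroup.normalizer (V : Set G) ∧ ∀ y ∈ PP V Q, (m * x * m⁻¹) * y = y * (m * x * m⁻¹) := by
  refine ⟨mul_mem (mul_mem hm hx) (inv_mem hm), ?_⟩
  intro y hy
  have hmi : m⁻¹ ∈ Subgroup.normalizer ((PP V Q : Subgroup G) : Set G) := S.M_le_normalizer_PP (inv_mem hm)
  have hy' : m⁻¹ * y * m⁻¹⁻¹ ∈ PP V Q := (Subgroup.mem_normalizer_iff.1 hmi y).1 hy
  rw [inv_inv] at hy'
  have h1 := hxc _ hy'
  calc m * x * m⁻¹ * y = m * (x * (m⁻¹ * y * m)) * m⁻¹ := by group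
    _ = m * ((m⁻¹ * y * m) * x) * m⁻¹ := by rw [h1]
    _ = y * (m * x * m⁻¹) := by group

/-- `X ∩ Q ≤ V`. -/
theorem CMPh_aux_inQ (S : Setup V Q) {x : G} (hxQ : x ∈ Q) (hxc : ∀ y ∈ PP V Q, x * y = y * x) : x ∈ V := by
  have hxP : x ∈ PP V Q := mem_PP.2 ⟨hxQ, fun v hv => hxc v (S.V_le_PP hv)⟩
  exact ZP S x hxP hxc

/-- squares of elements of `X` lie in `V`. -/
theorem CMPh_aux_sq (S : Setup V Q) {x : G} (hx : x ∈ Subgroup.normalizer (V : Set G))
    (hxc : ∀ y ∈ PP V Q, x * y = y * x) : x * x ∈ V := by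
  have hxx : x * x ∈ Subgroup.normalizer (V : Set G) := mul_mem hx hx
  have hxxc : ∀ y ∈ PP V Q, (x * x) * y = y * (x * x) := by
    intro y hy
    calc x * x * y = x * (x * y) := by group
      _ = x * (y * x) := by rw [hxc y hy]
      _ = (x * y) * x := by group
      _ = y * x * x := by rw [hxc y hy]
      _ = y * (x * x) := by group
  apply CMPh_aux_inQ S _ hxxc
  apply S.cent _ hxx
  intro r hr
  -- `v = x r x⁻¹ r⁻¹ ∈ X ∩ Q ≤ V`
  have hrM : r ∈ Subgroup.normalizer (V : Set G) := S.QM hr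
  have hxrQ : x * r * x⁻¹ ∈ Q := (Subgroup.mem_normalizer_iff.1 (S.MQ hx) r).1 hr
  have hvQ : x * r * x⁻¹ * r⁻¹ ∈ Q := mul_mem hxrQ (inv_mem hr)
  have hxi : x⁻¹ ∈ Subgroup.normalizer (V : Set G) := inv_mem hx
  have hxic : ∀ y ∈ PP V Q, x⁻¹ * y = y * x⁻¹ := by
    intro y hy
    have := hxc y hy
    calc x⁻¹ * y = x⁻¹ * (y * x) * x⁻¹ := by group
      _ = x⁻¹ * (x * y) * x⁻¹ := by rw [this]
      _ = y * x⁻¹ := by group
  obtain ⟨_, h2⟩ := CMPh_aux_conj S hrM hxi hxic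
  have hvc : ∀ y ∈ PP V Q, (x * r * x⁻¹ * r⁻¹) * y = y * (x * r * x⁻¹ * r⁻¹) := by
    intro y hy
    calc x * r * x⁻¹ * r⁻¹ * y = x * ((r * x⁻¹ * r⁻¹) * y) := by group
      _ = x * (y * (r * x⁻¹ * r⁻¹)) := by rw [h2 y hy]
      _ = (x * y) * (r * x⁻¹ * r⁻¹) := by group
      _ = (y * x) * (r * x⁻¹ * r⁻¹) := by rw [hxc y hy]
      _ = y * (x * r * x⁻¹ * r⁻¹) := by group
  have hvV : x * r * x⁻¹ * r⁻¹ ∈ V := CMPh_aux_inQ S hvQ hvc
  have hvsq := S.sq _ hvV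
  have hxv : x * (x * r * x⁻¹ * r⁻¹) = (x * r * x⁻¹ * r⁻¹) * x := hxc _ (S.V_le_PP hvV)
  -- `x² r = r x²`
  set v := x * r * x⁻¹ * r⁻¹ with hv
  have e1 : x * r = v * r * x := by rw [hv]; group
  calc x * x * r = x * (x * r) := by group
    _ = x * (v * r * x) := by rw [e1]
    _ = (x * v) * r * x := by group
    _ = (v * x) * r * x := by rw [hxv]
    _ = v * (x * r) * x := by group
    _ = v * (v * r * x) * x := by rw [e1]
    _ = (v * v) * r * x * x := by group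
    _ = r * (x * x) := by rw [hvsq]; group

/-- CMP: `C_M(P) ≤ V`. -/
theorem CMPh (S : Setup V Q) : ∀ c ∈ Subgroup.normalizer (V : Set G), (∀ x ∈ PP V Q, c * x = x * c) → c ∈ V := by
  intro c hc hcc
  -- the subgroup `X`
  let X : Subgroup G := Subgroup.normalizer (V : Set G) ⊓ Subgroup.centralizer ((PP V Q : Subgroup G) : Set G)
  have hmemX : ∀ x : G, x ∈ X ↔ x ∈ Subgroup.normalizer (V : Set G) ∧ ∀ y ∈ PP V Q, x * y = y * x := by
    intro x
    show x ∈ Subgroup.normalizer (V : Set G) ⊓ Subgroup.centralizer ((PP V Q : Subgroup G) : Set G) ↔ _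
    rw [Subgroup.mem_inf, Subgroup.mem_centralizer_iff]
    constructor
    · rintro ⟨h1, h2⟩; exact ⟨h1, fun y hy => (h2 y hy).symm⟩
    · rintro ⟨h1, h2⟩; exact ⟨h1, fun y hy => (h2 y hy).symm⟩
  have hXp : IsPGroup 2 ↥X := by
    intro ⟨x, hx⟩
    obtain ⟨hx1, hx2⟩ := (hmemX x).1 hx
    refine ⟨2, ?_⟩
    apply Subtype.ext
    have h1 := S.sq _ (CMPh_aux_sq S hx1 hx2)
    show x ^ 2 ^ 2 = 1
    have e : x ^ 2 ^ 2 = (x * x) * (x * x) := by
      norm_num [pow_succ, mul_assoc]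
    rw [e]; exact h1
  have hXM : X ≤ Subgroup.normalizer (V : Set G) := inf_le_left
  have hMX : Subgroup.normalizer (V : Set G) ≤ Subgroup.normalizer ((X : Subgroup G) : Set G) := by
    intro m hm
    have key : ∀ n ∈ Subgroup.normalizer (V : Set G), ∀ a ∈ X, n * a * n⁻¹ ∈ X := by
      intro n hn a ha
      obtain ⟨ha1, ha2⟩ := (hmemX a).1 ha
      exact (hmemX _).2 (CMPh_aux_conj S hn ha1 ha2)
    rw [Subgroup.mem_normalizer_iff]
    intro a
    constructor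
    · exact key m hm a
    · intro h
      have := key m⁻¹ (inv_mem hm) _ h
      have e : m⁻¹ * (m * a * m⁻¹) * m⁻¹⁻¹ = a := by group
      rwa [e] at this
  have hXQ : X ≤ Q := S.core X hXp hXM hMX
  have hcX : c ∈ X := (hmemX c).2 ⟨hc, hcc⟩
  exact CMPh_aux_inQ S (hXQ hcX) hcc

end Cfsg.Agent.S1786P
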