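import Mathlib
import Cfsg.Agent.Helper12.S1786Defs

/-! Board `s1786pieces`, row CONJP: core (takes the statement of row CMP as a hypothesis). -/

set_option autoImplicit false

namespace Cfsg.Agent.S1786P

variable {G : Type*} [Group G] [Finite G] {V Q B C : Subgroup G}

/-- CONJP, with CMP as a hypothesis. -/
theorem CONJP_aux_core (S : Setup V Q)
    (hCMP : ∀ c ∈ Subgroup.normalizer (V : Set G), (∀ x ∈ PP V Q, c * x = x * c) → c ∈ V) (g : G) :
    (∀ c ∈ Subgroup.normalizer ((cj g V : Subgroup G) : Set G), (∀ x ∈ cj g (PP V Q), c * x = x * c) → c ∈ cj g V) ∧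
    Subgroup.normalizer ((cj g V : Subgroup G) : Set G) ≤ Subgroup.normalizer ((cj g (PP V Q) : Subgroup G) : Set G) ∧
    IsPGroup 2 ↥(cj g (PP V Q)) ∧ cj g (PP V Q) ≤ Subgroup.centralizer ((cj g V : Subgroup G) : Set G) := by
  refine ⟨?_, ?_, cj_isPGroup S.PP_isPGroup, ?_⟩
  · intro c hc hcx
    rw [cj_normalizer, mem_cj] at hc
    rw [mem_cj]
    apply hCMP _ hc
    intro x hx
    have h1 := hcx (g * x * g⁻¹) (conj_mem_cj hx)
    calc g⁻¹ * c * g * x = g⁻¹ * (c * (g * x * g⁻¹)) * g := by group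
      _ = g⁻¹ * ((g * x * g⁻¹) * c) * g := by rw [h1]
      _ = x * (g⁻¹ * c * g) := by group
  · rw [cj_normalizer, cj_normalizer]
    exact cj_mono S.M_le_normalizer_PP
  · rw [cj_centralizer]
    exact cj_mono (inf_le_right : PP V Q ≤ Subgroup.centralizer (V : Set G))

end Cfsg.Agent.S1786P
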