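import Mathlib
import Cfsg.Agent.Helper12.S1786Defs
import Cfsg.Agent.Helper23.S1786CONJPcore
import Cfsg.Agent.Helper23.S1786CMPh

/-! Board `s1786pieces`, row CONJP. -/

set_option autoImplicit false

namespace Cfsg.Agent.S1786P

variable {G : Type*} [Group G] [Finite G] {V Q B C : Subgroup G}

/-- CONJP: the facts on `P_B = g P g⁻¹` used in the Sylow argument. -/
theorem CONJP (S : Setup V Q) (g : G) :
    (∀ c ∈ Subgroup.normalizer ((cj g V : Subgroup G) : Set G), (∀ x ∈ cj g (PP V Q), c * x = x * c) → c ∈ cj g V) ∧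
    Subgroup.normalizer ((cj g V : Subgroup G) : Set G) ≤ Subgroup.normalizer ((cj g (PP V Q) : Subgroup G) : Set G) ∧
    IsPGroup 2 ↥(cj g (PP V Q)) ∧ cj g (PP V Q) ≤ Subgroup.centralizer ((cj g V : Subgroup G) : Set G) :=
  CONJP_aux_core S (CMPh S) g

end Cfsg.Agent.S1786P
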