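import Cfsg.Agent.Helper21.S2293DEFS
import Cfsg.Agent.Helper21.S2286FIN

/-! # S2293 piece MAT4 (helper23): matrix identities in `Sp(4,F)` -/

set_option autoImplicit false

namespace Cfsg.Agent.Helper21.S2293

open Multiplicative Cfsg.Agent.Helper21.S2286

section mat
variable {F : Type*} [Field F]

namespace MAT4

open Matrix

theorem sp_ext {A B : Matrix.symplecticGroup (Fin 2) F} (h : ∀ i j, A.1 i j = B.1 i j) : A = B := by
  apply Subtype.ext
  ext i j
  exact h i j

theorem mul_val (A B : Matrix.symplecticGroup (Fin 2) F) (i j : Fin 2 ⊕ Fin 2) :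
    (A * B).1 i j = A.1 i (Sum.inl 0) * B.1 (Sum.inl 0) j + A.1 i (Sum.inl 1) * B.1 (Sum.inl 1) j
      + (A.1 i (Sum.inr 0) * B.1 (Sum.inr 0) j + A.1 i (Sum.inr 1) * B.1 (Sum.inr 1) j) := by
  show ((A : Matrix (Fin 2 ⊕ Fin 2) (Fin 2 ⊕ Fin 2) F) * (B : Matrix (Fin 2 ⊕ Fin 2) (Fin 2 ⊕ Fin 2) F)) i j = _
  rw [Matrix.mul_apply, Fintype.sum_sum_type, Fin.sum_univ_two, Fin.sum_univ_two]

theorem one_val (i j : Fin 2 ⊕ Fin 2) :
    (1 : Matrix.symplecticGroup (Fin 2) F).1 i j = if i = j then 1 else 0 := by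
  show (1 : Matrix (Fin 2 ⊕ Fin 2) (Fin 2 ⊕ Fin 2) F) i j = _
  rw [Matrix.one_apply]

theorem inv_val (A : Matrix.symplecticGroup (Fin 2) F) :
    (A⁻¹).1 = fromBlocks (A.1.toBlocks₂₂)ᵀ (-(A.1.toBlocks₁₂)ᵀ) (-(A.1.toBlocks₂₁)ᵀ)
      (A.1.toBlocks₁₁)ᵀ := by
  show (-J (Fin 2) F) * A.1ᵀ * J (Fin 2) F = _
  conv_lhs => rw [← Matrix.fromBlocks_toBlocks A.1]
  rw [Matrix.fromBlocks_transpose, Matrix.J, Matrix.fromBlocks_neg, Matrix.fromBlocks_multiply,
    Matrix.fromBlocks_multiply]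
  simp

theorem inv_ll (A : Matrix.symplecticGroup (Fin 2) F) (i j : Fin 2) :
    (A⁻¹).1 (Sum.inl i) (Sum.inl j) = A.1 (Sum.inr j) (Sum.inr i) := by
  rw [inv_val]; rfl

theorem inv_lr (A : Matrix.symplecticGroup (Fin 2) F) (i j : Fin 2) :
    (A⁻¹).1 (Sum.inl i) (Sum.inr j) = - A.1 (Sum.inl j) (Sum.inr i) := by
  rw [inv_val]; rfl

theorem inv_rl (A : Matrix.symplecticGroup (Fin 2) F) (i j : Fin 2) :
    (A⁻¹).1 (Sum.inr i) (Sum.inl j) = - A.1 (Sum.inr j) (Sum.inl i) := by
  rw [inv_val]; rfl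

theorem inv_rr (A : Matrix.symplecticGroup (Fin 2) F) (i j : Fin 2) :
    (A⁻¹).1 (Sum.inr i) (Sum.inr j) = A.1 (Sum.inl j) (Sum.inl i) := by
  rw [inv_val]; rfl

theorem xam_val (a : F) : (xam a).1 = fromBlocks !![1, a; 0, 1] 0 0 !![1, 0; -a, 1] := rfl
theorem xbm_val (b : F) : (xbm b).1 = fromBlocks 1 !![0, 0; 0, b] 0 1 := rfl
theorem xabm_val (c : F) : (xabm c).1 = fromBlocks 1 !![0, c; c, 0] 0 1 := rfl
theorem x2abm_val (d : F) : (x2abm d).1 = fromBlocks 1 !![d, 0; 0, 0] 0 1 := rfl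
theorem dm_val (s t : Fˣ) : (dm s t).1 =
    fromBlocks !![(s : F), 0; 0, (t : F)] 0 0 !![((s⁻¹ : Fˣ) : F), 0; 0, ((t⁻¹ : Fˣ) : F)] := rfl
theorem nam_val : (nam : Matrix.symplecticGroup (Fin 2) F).1 =
    fromBlocks !![0, 1; -1, 0] 0 0 !![0, 1; -1, 0] := rfl
theorem nbm_val : (nbm : Matrix.symplecticGroup (Fin 2) F).1 =
    fromBlocks !![1, 0; 0, 0] !![0, 0; 0, 1] !![0, 0; 0, -1] !![1, 0; 0, 0] := rfl

theorem unit_mul_inv (s : Fˣ) : (s : F) * ((s⁻¹ : Fˣ) : F) = 1 := by
  rw [← Units.val_mul, mul_inv_cancel, Units.val_one]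

theorem unit_inv_mul (s : Fˣ) : ((s⁻¹ : Fˣ) : F) * (s : F) = 1 := by
  rw [← Units.val_mul, inv_mul_cancel, Units.val_one]

end MAT4

open MAT4 in
theorem xam_add (a b : F) : xam (a + b) = xam a * xam b := by
  apply sp_ext
  intro i j
  simp only [mul_val, xam_val]
  rcases i with i | i <;> rcases j with j | j <;> fin_cases i <;> fin_cases j <;> simp <;> ring

open MAT4 in
theorem xbm_add (a b : F) : xbm (a + b) = xbm a * xbm b := by
  apply sp_ext
  intro i j
  simp only [mul_val, xbm_val]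
  rcases i with i | i <;> rcases j with j | j <;> fin_cases i <;> fin_cases j <;> simp <;> ring

open MAT4 in
theorem xabm_add (a b : F) : xabm (a + b) = xabm a * xabm b := by
  apply sp_ext
  intro i j
  simp only [mul_val, xabm_val]
  rcases i with i | i <;> rcases j with j | j <;> fin_cases i <;> fin_cases j <;> simp <;> ring

open MAT4 in
theorem x2abm_add (a b : F) : x2abm (a + b) = x2abm a * x2abm b := by
  apply sp_ext
  intro i j
  simp only [mul_val, x2abm_val]
  rcases i with i | i <;> rcases j with j | j <;> fin_cases i <;> fin_cases j <;> simp <;> ring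

open MAT4 in
theorem xam_zero : xam (0 : F) = 1 := by
  apply sp_ext
  intro i j
  simp only [one_val, xam_val]
  rcases i with i | i <;> rcases j with j | j <;> fin_cases i <;> fin_cases j <;> simp

open MAT4 in
theorem xbm_zero : xbm (0 : F) = 1 := by
  apply sp_ext
  intro i j
  simp only [one_val, xbm_val]
  rcases i with i | i <;> rcases j with j | j <;> fin_cases i <;> fin_cases j <;> simp

open MAT4 in
theorem xabm_zero : xabm (0 : F) = 1 := by
  apply sp_ext
  intro i j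
  simp only [one_val, xabm_val]
  rcases i with i | i <;> rcases j with j | j <;> fin_cases i <;> fin_cases j <;> simp

open MAT4 in
theorem x2abm_zero : x2abm (0 : F) = 1 := by
  apply sp_ext
  intro i j
  simp only [one_val, x2abm_val]
  rcases i with i | i <;> rcases j with j | j <;> fin_cases i <;> fin_cases j <;> simp

open MAT4 in
theorem dm_mul (s t s' t' : Fˣ) : dm s t * dm s' t' = dm (s * s') (t * t') := by
  apply sp_ext
  intro i j
  simp only [mul_val, dm_val]
  rcases i with i | i <;> rcases j with j | j <;> fin_cases i <;> fin_cases j <;>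
    simp [mul_comm]

open MAT4 in
theorem dm_one : dm (1 : Fˣ) 1 = (1 : Matrix.symplecticGroup (Fin 2) F) := by
  apply sp_ext
  intro i j
  simp only [one_val, dm_val]
  rcases i with i | i <;> rcases j with j | j <;> fin_cases i <;> fin_cases j <;> simp

/-- `dm` as a monoid hom -/
def MAT4.dmHom : Fˣ × Fˣ →* Matrix.symplecticGroup (Fin 2) F where
  toFun := fun p => dm p.1 p.2
  map_one' := dm_one
  map_mul' := fun p q => (dm_mul p.1 p.2 q.1 q.2).symm

theorem dm_zpow (s t : Fˣ) (j : ℤ) : dm s t ^ j = dm (s ^ j) (t ^ j) :=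
  (map_zpow (MAT4.dmHom (F := F)) (s, t) j).symm

theorem MAT4.dm_inv (s t : Fˣ) : (dm s t)⁻¹ = dm s⁻¹ t⁻¹ :=
  (map_inv (MAT4.dmHom (F := F)) (s, t)).symm

open MAT4 in
theorem dm_xam (s t : Fˣ) (a : F) :
    dm s t * xam a * (dm s t)⁻¹ = xam ((s : F) * ((t⁻¹ : Fˣ) : F) * a) := by
  rw [mul_inv_eq_iff_eq_mul]
  have hs : (s : F) ≠ 0 := s.ne_zero
  have ht : (t : F) ≠ 0 := t.ne_zero
  apply sp_ext
  intro i j
  simp only [mul_val, dm_val, xam_val]
  rcases i with i | i <;> rcases j with j | j <;> fin_cases i <;> fin_cases j <;> simp <;>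
    field_simp

open MAT4 in
theorem dm_xbm (s t : Fˣ) (b : F) : dm s t * xbm b * (dm s t)⁻¹ = xbm ((t : F) ^ 2 * b) := by
  rw [mul_inv_eq_iff_eq_mul]
  have hs : (s : F) ≠ 0 := s.ne_zero
  have ht : (t : F) ≠ 0 := t.ne_zero
  apply sp_ext
  intro i j
  simp only [mul_val, dm_val, xbm_val]
  rcases i with i | i <;> rcases j with j | j <;> fin_cases i <;> fin_cases j <;> simp <;>
    field_simp

open MAT4 in
theorem nam_dm (s t : Fˣ) : nam * dm s t * nam⁻¹ = dm t s := by
  rw [mul_inv_eq_iff_eq_mul]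
  apply sp_ext
  intro i j
  simp only [mul_val, dm_val, nam_val]
  rcases i with i | i <;> rcases j with j | j <;> fin_cases i <;> fin_cases j <;> simp

open MAT4 in
theorem nbm_dm (s t : Fˣ) : nbm * dm s t * nbm⁻¹ = dm s t⁻¹ := by
  rw [mul_inv_eq_iff_eq_mul]
  apply sp_ext
  intro i j
  simp only [mul_val, dm_val, nbm_val]
  rcases i with i | i <;> rcases j with j | j <;> fin_cases i <;> fin_cases j <;> simp

open MAT4 in
theorem weyl_a_mat : (nam : Matrix.symplecticGroup (Fin 2) F) * xam 1 * nam⁻¹ =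
    xam (-1) * nam * xam (-1) := by
  rw [mul_inv_eq_iff_eq_mul]
  apply sp_ext
  intro i j
  simp only [mul_val, xam_val, nam_val]
  rcases i with i | i <;> rcases j with j | j <;> fin_cases i <;> fin_cases j <;> simp

open MAT4 in
theorem weyl_b1_mat : (nbm : Matrix.symplecticGroup (Fin 2) F) * xbm 1 * nbm⁻¹ =
    xbm (-1) * nbm * xbm (-1) := by
  rw [mul_inv_eq_iff_eq_mul]
  apply sp_ext
  intro i j
  simp only [mul_val, xbm_val, nbm_val]
  rcases i with i | i <;> rcases j with j | j <;> fin_cases i <;> fin_cases j <;> simp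

open MAT4 in
theorem weyl_b2_mat (s : Fˣ) : nbm * xbm (((s⁻¹ : Fˣ) : F)) * nbm⁻¹ =
    xbm (-(s : F)) * dm 1 s * nbm * xbm (-(s : F)) := by
  rw [mul_inv_eq_iff_eq_mul]
  have hs : (s : F) ≠ 0 := s.ne_zero
  apply sp_ext
  intro i j
  simp only [mul_val, xbm_val, nbm_val, dm_val]
  rcases i with i | i <;> rcases j with j | j <;> fin_cases i <;> fin_cases j <;> simp [hs]

namespace MAT4

open Matrix

theorem c_val : ((nam * nbm : Matrix.symplecticGroup (Fin 2) F)).1 =
    fromBlocks !![0, 0; -1, 0] !![0, 1; 0, 0] !![0, -1; 0, 0] !![0, 0; -1, 0] := by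
  ext i j
  rw [mul_val, nam_val, nbm_val]
  rcases i with i | i <;> rcases j with j | j <;> fin_cases i <;> fin_cases j <;> simp

theorem c2_val : (((nam * nbm) ^ 2 : Matrix.symplecticGroup (Fin 2) F)).1 =
    fromBlocks 0 (-1) 1 0 := by
  rw [pow_two]
  ext i j
  rw [mul_val, c_val]
  rcases i with i | i <;> rcases j with j | j <;> fin_cases i <;> fin_cases j <;> simp

theorem c3_val : (((nam * nbm) ^ 3 : Matrix.symplecticGroup (Fin 2) F)).1 =
    fromBlocks !![0, 1; 0, 0] !![0, 0; 1, 0] !![0, 0; -1, 0] !![0, 1; 0, 0] := by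
  rw [pow_succ]
  ext i j
  rw [mul_val, c2_val, c_val]
  rcases i with i | i <;> rcases j with j | j <;> fin_cases i <;> fin_cases j <;> simp

end MAT4

open MAT4 in
theorem c4_mat : ((nam * nbm) ^ 4 : Matrix.symplecticGroup (Fin 2) F) = dm (-1) (-1) := by
  have h4 : ((nam * nbm) ^ 4 : Matrix.symplecticGroup (Fin 2) F) =
      (nam * nbm) ^ 2 * (nam * nbm) ^ 2 := by rw [← pow_add]
  rw [h4]
  apply sp_ext
  intro i j
  rw [mul_val, c2_val, dm_val]
  rcases i with i | i <;> rcases j with j | j <;> fin_cases i <;> fin_cases j <;> simp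

open MAT4 in
theorem ra_mat (a : F) :
    nam * xam a * nam⁻¹ = (nam * nbm) ^ 2 * xam a * ((nam * nbm) ^ 2)⁻¹ := by
  apply sp_ext
  intro i j
  rcases i with i | i <;> rcases j with j | j <;>
    simp only [mul_val, inv_ll, inv_lr, inv_rl, inv_rr, c2_val, xam_val, nam_val] <;>
    fin_cases i <;> fin_cases j <;> simp

open MAT4 in
theorem rc_mat (b : F) :
    nam * xbm b * nam⁻¹ = (nam * nbm) ^ 3 * xbm b * ((nam * nbm) ^ 3)⁻¹ := by
  apply sp_ext
  intro i j
  rcases i with i | i <;> rcases j with j | j <;>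
    simp only [mul_val, inv_ll, inv_lr, inv_rl, inv_rr, c3_val, xbm_val, nam_val] <;>
    fin_cases i <;> fin_cases j <;> simp

open MAT4 in
theorem c_xam (a : F) : (nam * nbm) * xam a * (nam * nbm)⁻¹ = xabm a := by
  rw [mul_inv_eq_iff_eq_mul]
  obtain ⟨c, hc⟩ : ∃ c : Matrix.symplecticGroup (Fin 2) F, c = nam * nbm := ⟨_, rfl⟩
  have hcv := c_val (F := F)
  rw [← hc] at hcv ⊢
  apply sp_ext
  intro i j
  simp only [mul_val, hcv, xam_val, xabm_val]
  rcases i with i | i <;> rcases j with j | j <;> fin_cases i <;> fin_cases j <;> simp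

open MAT4 in
theorem c3_xbm (b : F) : (nam * nbm) ^ 3 * xbm b * ((nam * nbm) ^ 3)⁻¹ = x2abm b := by
  rw [mul_inv_eq_iff_eq_mul]
  obtain ⟨c, hc⟩ : ∃ c : Matrix.symplecticGroup (Fin 2) F, c = (nam * nbm) ^ 3 := ⟨_, rfl⟩
  have hcv := c3_val (F := F)
  rw [← hc] at hcv ⊢
  apply sp_ext
  intro i j
  simp only [mul_val, hcv, xbm_val, x2abm_val]
  rcases i with i | i <;> rcases j with j | j <;> fin_cases i <;> fin_cases j <;> simp

open MAT4 in
theorem comm_ab_mat (a b : F) :
    xam a * xbm b * (xam a)⁻¹ * (xbm b)⁻¹ = xabm (a * b) * x2abm (a ^ 2 * b) := by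
  rw [mul_inv_eq_iff_eq_mul, mul_inv_eq_iff_eq_mul]
  apply sp_ext
  intro i j
  simp only [mul_val, xam_val, xbm_val, xabm_val, x2abm_val]
  rcases i with i | i <;> rcases j with j | j <;> fin_cases i <;> fin_cases j <;> simp <;> ring

open MAT4 in
theorem comm_aab_mat (a b : F) :
    xam a * xabm b * (xam a)⁻¹ * (xabm b)⁻¹ = x2abm (2 * a * b) := by
  rw [mul_inv_eq_iff_eq_mul, mul_inv_eq_iff_eq_mul]
  apply sp_ext
  intro i j
  simp only [mul_val, xam_val, xabm_val, x2abm_val]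
  rcases i with i | i <;> rcases j with j | j <;> fin_cases i <;> fin_cases j <;> simp <;> ring

open MAT4 in
theorem comm_mat_s0l3 (a b : F) : Commute (xam a) (x2abm b) := by
  show xam a * x2abm b = x2abm b * xam a
  apply sp_ext
  intro i j
  simp only [mul_val, xam_val, x2abm_val]
  rcases i with i | i <;> rcases j with j | j <;> fin_cases i <;> fin_cases j <;> simp

open MAT4 in
theorem comm_mat_l0s1 (a b : F) : Commute (xbm a) (xabm b) := by
  show xbm a * xabm b = xabm b * xbm a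
  apply sp_ext
  intro i j
  simp only [mul_val, xbm_val, xabm_val]
  rcases i with i | i <;> rcases j with j | j <;> fin_cases i <;> fin_cases j <;> simp

open MAT4 in
theorem comm_mat_l0l3 (a b : F) : Commute (xbm a) (x2abm b) := by
  show xbm a * x2abm b = x2abm b * xbm a
  apply sp_ext
  intro i j
  simp only [mul_val, xbm_val, x2abm_val]
  rcases i with i | i <;> rcases j with j | j <;> fin_cases i <;> fin_cases j <;> simp

open MAT4 in
theorem comm_mat_s1l3 (a b : F) : Commute (xabm a) (x2abm b) := by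
  show xabm a * x2abm b = x2abm b * xabm a
  apply sp_ext
  intro i j
  simp only [mul_val, xabm_val, x2abm_val]
  rcases i with i | i <;> rcases j with j | j <;> fin_cases i <;> fin_cases j <;> simp

theorem xam_pow (a : F) (n : ℕ) : xam a ^ n = xam (n * a) := by
  induction n with
  | zero => simp [xam_zero]
  | succ m ih => rw [pow_succ, ih, ← xam_add]; congr 1; push_cast; ring

theorem xbm_pow (a : F) (n : ℕ) : xbm a ^ n = xbm (n * a) := by
  induction n with
  | zero => simp [xbm_zero]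
  | succ m ih => rw [pow_succ, ih, ← xbm_add]; congr 1; push_cast; ring

theorem cj_mat_a (s : Fˣ) (a : F) (i : ℤ) : cj (dm s 1) (xam a) i = xam ((s : F) ^ i * a) := by
  unfold cj
  rw [dm_zpow, dm_xam, one_zpow, inv_one, Units.val_one, mul_one, Units.val_zpow_eq_zpow_val]

theorem cj_mat_b (s : Fˣ) (b : F) (i : ℤ) :
    cj (dm 1 s) (xbm b) i = xbm (((s : F) ^ 2) ^ i * b) := by
  unfold cj
  rw [dm_zpow, dm_xbm, Units.val_zpow_eq_zpow_val]
  congr 2
  rw [← zpow_natCast, ← zpow_mul, mul_comm, zpow_mul, zpow_natCast]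

theorem prodA_mat_a (s : Fˣ) (c : ℕ → ℕ) (n : ℕ) :
    prodA (dm s 1) (xam (1 : F)) c n = xam (ev (s : F) c n) := by
  unfold prodA ev
  induction n with
  | zero => simp [xam_zero]
  | succ k ih =>
    rw [List.range_succ, List.map_append, List.prod_append, ih, Finset.sum_range_succ, xam_add]
    congr 1
    rw [List.map_singleton, List.prod_singleton, cj_mat_a, xam_pow, zpow_natCast, mul_one]

theorem prodA_mat_b (s : Fˣ) (c : ℕ → ℕ) (n : ℕ) :
    prodA (dm 1 s) (xbm (1 : F)) c n = xbm (ev ((s : F) ^ 2) c n) := by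
  unfold prodA ev
  induction n with
  | zero => simp [xbm_zero]
  | succ k ih =>
    rw [List.range_succ, List.map_append, List.prod_append, ih, Finset.sum_range_succ, xbm_add]
    congr 1
    rw [List.map_singleton, List.prod_singleton, cj_mat_b, xbm_pow, zpow_natCast, mul_one]

open MAT4 in
theorem nam_sq_val : (((nam * nam : Matrix.symplecticGroup (Fin 2) F)) :
    Matrix (Fin 2 ⊕ Fin 2) (Fin 2 ⊕ Fin 2) F) = -1 := by
  ext i j
  show (nam * nam : Matrix.symplecticGroup (Fin 2) F).1 i j = _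
  rw [mul_val, nam_val]
  rcases i with i | i <;> rcases j with j | j <;> fin_cases i <;> fin_cases j <;> simp

end mat

end Cfsg.Agent.Helper21.S2293
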