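import Mathlib
import Cfsg.Prelude.Def_GeometricClasses
import Cfsg.Agent.Helper2.S5886.Defs
import Cfsg.Agent.Helper2.S5664.Defs

/-! # S5664, piece SPKLE: `K`-linear isometries are semilinear and preserve `Tr ∘ B`. -/

set_option autoImplicit false

namespace Cfsg.Agent.S5664P

open Cfsg.Agent.S5886P

variable {F K V : Type*} [Field F] [Field K] [Algebra F K]
  [AddCommGroup V] [Module F V] [Module K V] [IsScalarTower F K V]

/-- SPKLE (S): `K`-linear isometries are semilinear (σ = 1) and preserve `trf F B = Tr ∘ B`. -/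
theorem SPKLE (B : V →ₗ[K] V →ₗ[K] K) : SpK F B ≤ Nrm F K V ⊓ SpF F B := by
  rintro g ⟨hg1, hg2⟩
  refine ⟨⟨AlgEquiv.refl, fun k x => ?_⟩, fun x y => ?_⟩
  · simp only [LinearEquiv.coe_coe, AlgEquiv.coe_refl, id_eq]
    exact hg1 k x
  · unfold trf
    rw [hg2]

end Cfsg.Agent.S5664P
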