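import Cfsg.Agent.Helper12.S5683Lib

set_option autoImplicit false
set_option linter.unusedSectionVars false
set_option linter.unusedVariables false

/-! S5683 piece RATSIEG (driver helper12; helper23): Siegel transformations with rational parameters are rational,
and lie in `M`. -/

namespace Cfsg.Agent.S5683P

open Matrix Cfsg.Agent.Helper28.Sg Cfsg.Agent.Helper28.Spin Cfsg.Agent.Helper12.OrthGen
  Cfsg.Agent.S2614

variable {F : Type*} [Field F] {m : ℕ}

/-- RATSIEG: Siegel transformations with rational parameters are rational, and lie in `M`. -/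
theorem RATSIEG.ratM_siegO (F₀ : Subfield F) (u w : Idx m → F) (hu : Rat F₀ u) (hw : Rat F₀ w)
    (hQu : QfOdd m F u = 0) (huw : B (QfOdd m F) u w = 0) :
    RatM F₀ (mt (QfOdd m F) (siegO (QfOdd m F) u w hQu huw)) := by
  intro i j
  have hj : Rat F₀ (Pi.single j 1 : Idx m → F) := Rat.single j F₀.one_mem
  have h : mt (QfOdd m F) (siegO (QfOdd m F) u w hQu huw) i j =
      (mt (QfOdd m F) (siegO (QfOdd m F) u w hQu huw) *ᵥ (Pi.single j 1 : Idx m → F)) i := by
    rw [Matrix.mulVec_single_one]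
    rfl
  rw [h, siegO_mulVec]
  have h1 : Rat F₀ ((Pi.single j 1 : Idx m → F) +
      B (QfOdd m F) u (Pi.single j 1) • w - B (QfOdd m F) w (Pi.single j 1) • u -
      (QfOdd m F w * B (QfOdd m F) u (Pi.single j 1)) • u) :=
    ((hj.add (Rat.smul (ratB hu hj) hw)).sub (Rat.smul (ratB hw hj) hu)).sub
      (Rat.smul (F₀.mul_mem (ratQ hw) (ratB hu hj)) hu)
  exact h1 i

theorem RATSIEG.mem_rad (F₀ : Subfield F) (M : Subgroup (OG m F)) (hM : HasRatO F₀ M)
    (u w : Idx m → F) (hu : Rat F₀ u) (hw : Rat F₀ w) (hQu : QfOdd m F u = 0)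
    (huw : B (QfOdd m F) u w = 0) : w ∈ Rad M u hQu :=
  ⟨huw, hM _ (siegO_mem_S (QfOdd m F) u w hQu huw) (RATSIEG.ratM_siegO F₀ u w hu hw hQu huw)⟩

end Cfsg.Agent.S5683P
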