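import Cfsg.Agent.Helper12.S5683Lib
import Cfsg.Agent.Helper23.S5683KADD
import Cfsg.Agent.Helper20.S5683TRANSO

set_option autoImplicit false
set_option linter.unusedSectionVars false
set_option linter.unusedVariables false

/-! S5683 piece KTRANS (driver helper12; helper23): every rational long root group has the same parameter set as
`E(e_i, · e_j)`, up to a rational scalar. -/

namespace Cfsg.Agent.S5683P

open Matrix Cfsg.Agent.Helper28.Sg Cfsg.Agent.Helper28.Spin Cfsg.Agent.Helper12.OrthGen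
  Cfsg.Agent.S2614

variable {F : Type*} [Field F] {m : ℕ}

namespace KTRANS

theorem Q_smul_ee (c : F) (i : Fin m) : QfOdd m F (c • ee F i) = 0 := by
  rw [Q_smul, Q_ee, mul_zero]

end KTRANS

/-- KTRANS: every rational long root group has the same parameter set as `E(e_i, · e_j)`, up to a rational scalar. -/
theorem KTRANS.exists_scalar (h2 : (2 : F) ≠ 0) (hm : 3 ≤ m) (F₀ : Subfield F)
    (M : Subgroup (OG m F)) (hM : HasRatO F₀ M) (i j : Fin m) (hij : i ≠ j) (u w : Idx m → F)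
    (hu : Rat F₀ u) (hw : Rat F₀ w) (hQu : QfOdd m F u = 0) (hQw : QfOdd m F w = 0)
    (huw : B (QfOdd m F) u w = 0) (hind : Indep u w) :
    ∃ ν : F, ν ∈ F₀ ∧ ν ≠ 0 ∧ ∀ c : F, c • w ∈ Rad M u hQu ↔ ν * c ∈ KO M i j := by
  obtain ⟨g, c, c', hgS, hgr, hgr', hc, hc', hc0, hc'0, hgu, hgw⟩ :=
    TRANSO.exists_move₂ h2 hm F₀ u w hu hw hQu hQw huw hind i j hij
  have hgM : g ∈ M := hM g hgS hgr
  have hgM' : g⁻¹ ∈ M := hM g⁻¹ ((S (QfOdd m F)).inv_mem hgS) hgr'
  refine ⟨c * c', F₀.mul_mem hc hc', mul_ne_zero hc0 hc'0, fun c₀ => ?_⟩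
  rw [KADD.mem_KO_iff]
  constructor
  · intro h
    have h1 : (c₀ * c') • ee F j ∈ Rad M (c • ee F i) (KTRANS.Q_smul_ee c i) := by
      refine Rad_conj' hgM h (KTRANS.Q_smul_ee c i) hgu ?_
      rw [Matrix.mulVec_smul, hgw, smul_smul]
    have h3 := Rad_smul_left (Q_ee i) c (KTRANS.Q_smul_ee c i) h1
    rw [smul_smul] at h3
    have e : c * c' * c₀ = c * (c₀ * c') := by ring
    rw [e]
    exact h3
  · intro h
    have e : c * c' * c₀ = c * (c₀ * c') := by ring
    rw [e, ← smul_smul] at h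
    have h1 : (c₀ * c') • ee F j ∈ Rad M (c • ee F i) (KTRANS.Q_smul_ee c i) :=
      Rad_smul_left' (Q_ee i) c (KTRANS.Q_smul_ee c i) h hc0
    refine Rad_conj' hgM' h1 hQu ?_ ?_
    · rw [← hgu, mt_inv_mulVec]
    · rw [← smul_smul, Matrix.mulVec_smul, ← hgw, mt_inv_mulVec]

end Cfsg.Agent.S5683P
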