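import Cfsg.Agent.Helper12.S5683Lib
import Cfsg.Agent.Helper23.S5683KADD
import Cfsg.Agent.Helper23.S5683KTRANS

set_option autoImplicit false
set_option linter.unusedSectionVars false
set_option linter.unusedVariables false

/-! S5683 piece KMOD (driver helper12; helper23): `KO` is stable under multiplication by `F₀`. -/

namespace Cfsg.Agent.S5683P

open Matrix Cfsg.Agent.Helper28.Sg Cfsg.Agent.Helper28.Spin Cfsg.Agent.Helper12.OrthGen
  Cfsg.Agent.S2614

variable {F : Type*} [Field F] {m : ℕ}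

namespace KMOD

/-- a third index -/
theorem exists_third (hm : 3 ≤ m) (i j : Fin m) : ∃ k : Fin m, k ≠ i ∧ k ≠ j := by
  by_cases h0 : (i.val ≠ 0 ∧ j.val ≠ 0)
  · refine ⟨⟨0, by omega⟩, ?_, ?_⟩
    · intro h
      exact h0.1 (congrArg Fin.val h).symm
    · intro h
      exact h0.2 (congrArg Fin.val h).symm
  · by_cases h1 : (i.val ≠ 1 ∧ j.val ≠ 1)
    · refine ⟨⟨1, by omega⟩, ?_, ?_⟩
      · intro h
        exact h1.1 (congrArg Fin.val h).symm
      · intro h
        exact h1.2 (congrArg Fin.val h).symm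
    · refine ⟨⟨2, by omega⟩, ?_, ?_⟩
      · intro h
        have := congrArg Fin.val h
        simp only at this
        omega
      · intro h
        have := congrArg Fin.val h
        simp only at this
        omega

/-- the commutator step: `a ∈ KO M i j`, `l' • f_j ∈ Rad e_k` ⇒ `(l' * a) • e_k ∈ Rad e_i` -/
theorem comm_step (M : Subgroup (OG m F)) {i j k : Fin m} (hij : i ≠ j) (hki : k ≠ i)
    (hkj : k ≠ j) {a l' : F} (ha : a ∈ KO M i j)
    (hl : l' • ff F j ∈ Rad M (ee F k) (Q_ee k)) :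
    (l' * a) • ee F k ∈ Rad M (ee F i) (Q_ee i) := by
  rw [KADD.mem_KO_iff] at ha
  have h1 : B (QfOdd m F) (ee F i) (ee F k) = 0 := KADD.B_ee_ee i k
  have h2 : B (QfOdd m F) (ee F i) (l' • ff F j) = 0 := by
    rw [KADD.B_smul_r, KADD.B_ee_ff, if_neg hij, mul_zero]
  have h3 : B (QfOdd m F) (ee F k) (a • ee F j) = 0 := by
    rw [KADD.B_smul_r, KADD.B_ee_ee, mul_zero]
  have h4 := Rad_comm ha hl h1 h2 h3
  have e : B (QfOdd m F) (l' • ff F j) (a • ee F j) = l' * a := by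
    rw [KADD.B_smul_l, KADD.B_smul_r, KADD.B_ff_ee, if_pos rfl, mul_one]
  rw [e] at h4
  exact h4

end KMOD

/-- KMOD: `KO` is stable under multiplication by `F₀` (`Rad_comm` with `u = e_i, v = a e_j, u' = e_k, v' = l' f_j`,
then KTRANS for the pair `(e_i, e_k)`). -/
theorem KMOD.smul_mem (h2 : (2 : F) ≠ 0) (hm : 3 ≤ m) (F₀ : Subfield F) (M : Subgroup (OG m F))
    (hM : HasRatO F₀ M) (i j : Fin m) (hij : i ≠ j) {l a : F} (hl : l ∈ F₀) (ha : a ∈ KO M i j) :
    l * a ∈ KO M i j := by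
  obtain ⟨k, hki, hkj⟩ := KMOD.exists_third hm i j
  obtain ⟨ν, hν, hν0, hνc⟩ := KTRANS.exists_scalar h2 hm F₀ M hM i j hij (ee F i) (ee F k)
    (rat_ee i) (rat_ee k) (Q_ee i) (Q_ee k) (KADD.B_ee_ee i k) (KADD.indep_ee_ee hki.symm)
  have hl' : (ν⁻¹ * l) • ff F j ∈ Rad M (ee F k) (Q_ee k) := by
    refine RATSIEG.mem_rad F₀ M hM (ee F k) _ (rat_ee k)
      (Rat.smul (F₀.mul_mem (F₀.inv_mem hν) hl) (rat_ff j)) (Q_ee k) ?_
    rw [KADD.B_smul_r, KADD.B_ee_ff, if_neg hkj, mul_zero]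
  have h1 := KMOD.comm_step M hij hki hkj ha hl'
  have h3 := (hνc _).1 h1
  have e : ν * (ν⁻¹ * l * a) = l * a := by
    field_simp
  rw [e] at h3
  exact h3

end Cfsg.Agent.S5683P
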