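import Cfsg.Agent.Helper12.S5683Lib
import Cfsg.Agent.Helper23.S5683KADD
import Cfsg.Agent.Helper23.S5683KTRANS
import Cfsg.Agent.Helper23.S5683KMOD

set_option autoImplicit false
set_option linter.unusedSectionVars false
set_option linter.unusedVariables false

/-! S5683 piece KMUL (driver helper12; helper23): `KO` is closed under multiplication. -/

namespace Cfsg.Agent.S5683P

open Matrix Cfsg.Agent.Helper28.Sg Cfsg.Agent.Helper28.Spin Cfsg.Agent.Helper12.OrthGen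
  Cfsg.Agent.S2614

variable {F : Type*} [Field F] {m : ℕ}

/-- KMUL: `KO` is closed under multiplication (KTRANS for `(e_k, f_j)`, `Rad_comm`, KTRANS for `(e_i, e_k)`, KMOD). -/
theorem KMUL.mul_mem (h2 : (2 : F) ≠ 0) (hm : 3 ≤ m) (F₀ : Subfield F) (M : Subgroup (OG m F))
    (hM : HasRatO F₀ M) (i j : Fin m) (hij : i ≠ j) {a b : F} (ha : a ∈ KO M i j)
    (hb : b ∈ KO M i j) : a * b ∈ KO M i j := by
  obtain ⟨k, hki, hkj⟩ := KMOD.exists_third hm i j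
  have hBkj : B (QfOdd m F) (ee F k) (ff F j) = 0 := by
    rw [KADD.B_ee_ff, if_neg hkj]
  obtain ⟨ν₁, hν₁, hν₁0, hc₁⟩ := KTRANS.exists_scalar h2 hm F₀ M hM i j hij (ee F k) (ff F j)
    (rat_ee k) (rat_ff j) (Q_ee k) (Q_ff j) hBkj (KADD.indep_ee_ff k j)
  obtain ⟨ν₂, hν₂, hν₂0, hc₂⟩ := KTRANS.exists_scalar h2 hm F₀ M hM i j hij (ee F i) (ee F k)
    (rat_ee i) (rat_ee k) (Q_ee i) (Q_ee k) (KADD.B_ee_ee i k) (KADD.indep_ee_ee hki.symm)
  have hl' : (ν₁⁻¹ * b) • ff F j ∈ Rad M (ee F k) (Q_ee k) := by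
    rw [hc₁, ← mul_assoc, mul_inv_cancel₀ hν₁0, one_mul]
    exact hb
  have h1 := KMOD.comm_step M hij hki hkj ha hl'
  have h3 := (hc₂ _).1 h1
  have hl : ν₂⁻¹ * ν₁ ∈ F₀ := F₀.mul_mem (F₀.inv_mem hν₂) hν₁
  have h4 := KMOD.smul_mem h2 hm F₀ M hM i j hij hl h3
  have e : ν₂⁻¹ * ν₁ * (ν₂ * (ν₁⁻¹ * b * a)) = a * b := by
    field_simp
  rw [e] at h4
  exact h4

end Cfsg.Agent.S5683P
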