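import Mathlib
import Cfsg.Prelude.Def_Blocks
import Cfsg.Agent.S0947
import Cfsg.Agent.S0925
import Cfsg.Agent.Helper5.CharFacts
import Cfsg.Agent.Helper5.PermChar
import Cfsg.Agent.Helper5.KerDegrees
import Cfsg.Agent.Helper23.BlockTransport
import Cfsg.Agent.Helper24.Codegree

set_option autoImplicit false
set_option linter.unusedSectionVars false
set_option linter.unusedVariables false

/-!
# Inner products of columns of the principal block (S4720)
-/

namespace Cfsg.Agent.Helper23.CI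

open Cfsg Cfsg.Agent.Helper5 Cfsg.Agent.Helper5.CC Cfsg.Agent.Helper5.Loc Cfsg.Agent.Helper24
  Cfsg.Agent.Helper23.BT

variable {G : Type*} [Group G] [Fintype G] {M : Ideal AlgInt} {p : ℕ} [Fact p.Prime]

/-- A `p`-element is its own `p`-part. -/
theorem isPPart_self {y : G} (hy : ∃ k : ℕ, orderOf y = p ^ k) : IsPPart p y y := by
  refine ⟨1, mul_one y, Commute.one_right y, hy, ?_⟩
  rw [orderOf_one, Nat.dvd_one]
  exact (Fact.out : p.Prime).ne_one

/-- Block orthogonality for non-conjugate `p`-elements. -/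
theorem sum_nonconj (hM : IsPModular p M) {a b : G} (ha : ∃ k : ℕ, orderOf a = p ^ k)
    (hb : ∃ k : ℕ, orderOf b = p ^ k) (hab : ¬ IsConj a b) (B : Set (IrrCharacter G))
    (hB : IsPBlock M B) :
    ∑ᶠ χ ∈ B, (χ : G → ℂ) a * (starRingEnd ℂ) ((χ : G → ℂ) b) = 0 := by
  have h := (Cfsg.Agent.S0925.result p M hM).2 a b a b (isPPart_self ha) (isPPart_self hb) hab B hB
  have e : ∀ χ : IrrCharacter G, (χ : G → ℂ) a * (χ : G → ℂ) b⁻¹ =
      (χ : G → ℂ) a * (starRingEnd ℂ) ((χ : G → ℂ) b) := fun χ => by rw [Cfsg.Agent.Helper5.irr_inv]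
  simp only [e] at h
  exact h

/-- The centralizer of the identity is the whole group. -/
noncomputable def centOneEquiv : Subgroup.centralizer ({(1 : G)} : Set G) ≃* G :=
  MulEquiv.ofBijective (Subgroup.subtype _) ⟨Subtype.val_injective, fun g => ⟨⟨g, by
    rw [Subgroup.mem_centralizer_iff]
    intro h hh
    rw [Set.mem_singleton_iff] at hh
    subst hh
    simp⟩, rfl⟩⟩

theorem charDegree_pullIrr {X Y : Type*} [Group X] [Group Y] (φ : X ≃* Y) (χ : IrrCharacter Y) :
    charDegree (pullIrr φ χ : X → ℂ) = charDegree (χ : Y → ℂ) := by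
  unfold charDegree
  rw [pullIrr_apply, map_one]

/-- The sum of the squares of the degrees over the principal block, as a complex number. -/
theorem sum_sq_eq (a : G) (ha : ∃ k : ℕ, orderOf a = p ^ k) (hM : IsPModular p M) :
    ∑ᶠ χ ∈ principalBlock M G, (χ : G → ℂ) a * (starRingEnd ℂ) ((χ : G → ℂ) a) =
      (((∑ᶠ ψ ∈ principalBlock M ↥(Subgroup.centralizer ({a} : Set G)),
        ((charDegree (ψ : ↥(Subgroup.centralizer ({a} : Set G)) → ℂ) : ℚ)) ^ 2 : ℚ)) : ℂ) := by
  classical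
  have : Fintype (IrrCharacter G) := Fintype.ofFinite _
  have : Fintype (IrrCharacter ↥(Subgroup.centralizer ({a} : Set G))) := Fintype.ofFinite _
  rw [finsum_mem_eq_sum_ite', finsum_mem_eq_sum_ite']
  rw [Rat.cast_sum]
  rcases eq_or_ne a 1 with rfl | ha1
  · -- transport along the isomorphism
    have hE : ∀ ψ : IrrCharacter ↥(Subgroup.centralizer ({(1 : G)} : Set G)),
        (((if ψ ∈ principalBlock M ↥(Subgroup.centralizer ({(1 : G)} : Set G)) then
          ((charDegree (ψ : ↥(Subgroup.centralizer ({(1 : G)} : Set G)) → ℂ) : ℚ)) ^ 2 else 0 : ℚ)) : ℂ)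
        = (fun χ : IrrCharacter G => if χ ∈ principalBlock M G then
            (χ : G → ℂ) 1 * (starRingEnd ℂ) ((χ : G → ℂ) 1) else 0)
          (pullIrr (centOneEquiv (G := G)).symm ψ) := by
      intro ψ
      show _ = if pullIrr (centOneEquiv (G := G)).symm ψ ∈ principalBlock M G then _ else _
      rw [pullIrr_mem_principalBlock_iff]
      split_ifs with h
      · rw [irrDeg_spec, Complex.conj_natCast, ← charDegree_irr, charDegree_pullIrr]
        push_cast
        ring
      · simp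
    rw [Finset.sum_congr rfl (fun ψ _ => hE ψ)]
    symm
    exact Fintype.sum_equiv
      ⟨pullIrr (centOneEquiv (G := G)).symm, pullIrr (centOneEquiv (G := G)),
        fun ψ => by
          have := pullIrr_symm_pullIrr (centOneEquiv (G := G)).symm ψ
          simpa using this,
        fun χ => pullIrr_symm_pullIrr (centOneEquiv (G := G)) χ⟩ _ _ (fun ψ => rfl)
  · have h := (Cfsg.Agent.S0947.result p M hM a ha ha1
      (1 : Subgroup.centralizer ({a} : Set G)) (by
        rw [orderOf_one, Nat.dvd_one]; exact (Fact.out : p.Prime).ne_one)).1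
    rw [finsum_mem_eq_sum_ite', finsum_mem_eq_sum_ite'] at h
    have h2 := congrArg (fun r : ℝ => (r : ℂ)) h
    simp only [Complex.ofReal_sum] at h2
    have e1 : ∀ χ : IrrCharacter G,
        (((if χ ∈ principalBlock M G then
          ‖(χ : G → ℂ) (a * ((1 : Subgroup.centralizer ({a} : Set G)) : G))‖ ^ 2 else 0 : ℝ)) : ℂ)
        = if χ ∈ principalBlock M G then
            (χ : G → ℂ) a * (starRingEnd ℂ) ((χ : G → ℂ) a) else 0 := by
      intro χ
      split_ifs with h
      · rw [Subgroup.coe_one, mul_one, Complex.mul_conj, Complex.normSq_eq_norm_sq]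
      · simp
    have e2 : ∀ ψ : IrrCharacter ↥(Subgroup.centralizer ({a} : Set G)),
        (((if ψ ∈ principalBlock M ↥(Subgroup.centralizer ({a} : Set G)) then
          ‖(ψ : ↥(Subgroup.centralizer ({a} : Set G)) → ℂ) 1‖ ^ 2 else 0 : ℝ)) : ℂ)
        = (((if ψ ∈ principalBlock M ↥(Subgroup.centralizer ({a} : Set G)) then
          ((charDegree (ψ : ↥(Subgroup.centralizer ({a} : Set G)) → ℂ) : ℚ)) ^ 2 else 0 : ℚ)) : ℂ) := by
      intro ψ
      split_ifs with h
      · rw [irrDeg_spec, Complex.norm_natCast, charDegree_irr]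
        push_cast
        rfl
      · simp
    rw [Finset.sum_congr rfl (fun χ _ => e1 χ), Finset.sum_congr rfl (fun ψ _ => e2 ψ)] at h2
    exact h2

/-- Conjugates by elements of `N ≤ N_G(P)` stay in `P`. -/
theorem conj_mem_of_le_normalizer {P N : Subgroup G} (hNN : N ≤ Subgroup.normalizer (P : Set G))
    (x : N) (y : P) : (x : G) * (y : G) * (x : G)⁻¹ ∈ P :=
  (Subgroup.mem_normalizer_iff.mp (hNN x.2) (y : G)).mp y.2

/-- Orbit counting for the conjugation action of `N` on `P`. -/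
theorem sum_conj_orbit (P N : Subgroup G) [Fintype P] [Fintype N]
    (hNN : N ≤ Subgroup.normalizer (P : Set G)) (y : P)
    (f : P → ℂ) [DecidablePred (fun z : P => ∃ n ∈ N, n * (y : G) * n⁻¹ = (z : G))] :
    ∑ x : N, f ⟨(x : G) * (y : G) * (x : G)⁻¹, conj_mem_of_le_normalizer hNN x y⟩ =
      ∑ z : P, if ∃ n ∈ N, n * (y : G) * n⁻¹ = (z : G) then
        (Nat.card ↥(N ⊓ Subgroup.centralizer ({(y : G)} : Set G)) : ℂ) * f z else 0 := by
  classical
  have h1 : ∑ x : N, f ⟨(x : G) * (y : G) * (x : G)⁻¹, conj_mem_of_le_normalizer hNN x y⟩ =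
      ∑ z : P, ∑ x ∈ Finset.univ.filter (fun x : N =>
        (⟨(x : G) * (y : G) * (x : G)⁻¹, conj_mem_of_le_normalizer hNN x y⟩ : P) = z), f z := by
    rw [← Finset.sum_fiberwise (s := Finset.univ) (g := fun x : N =>
      (⟨(x : G) * (y : G) * (x : G)⁻¹, conj_mem_of_le_normalizer hNN x y⟩ : P))]
    apply Finset.sum_congr rfl
    intro z _
    apply Finset.sum_congr rfl
    intro x hx
    rw [(Finset.mem_filter.mp hx).2]
  rw [h1]
  apply Finset.sum_congr rfl
  intro z _
  rw [Finset.sum_const, nsmul_eq_mul]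
  split_ifs with hz
  · refine congrArg (fun k : ℕ => (k : ℂ) * f z) ?_
    obtain ⟨n, hn, hnz⟩ := hz
    rw [← Fintype.card_subtype, ← Nat.card_eq_fintype_card]
    apply Nat.card_congr
    refine ⟨fun x => ⟨n⁻¹ * (x.1 : G), ?_⟩, fun c => ⟨⟨n * c.1, ?_⟩, ?_⟩, fun x => ?_, fun c => ?_⟩
    · have hx : (x.1 : G) * (y : G) * (x.1 : G)⁻¹ = (z : G) := congrArg Subtype.val x.2
      refine ⟨N.mul_mem (N.inv_mem hn) x.1.2, ?_⟩
      show n⁻¹ * (x.1 : G) ∈ Subgroup.centralizer ({(y : G)} : Set G)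
      rw [Subgroup.mem_centralizer_iff]
      intro h hh
      rw [Set.mem_singleton_iff] at hh
      subst hh
      have e : (x.1 : G) * (y : G) * (x.1 : G)⁻¹ = n * (y : G) * n⁻¹ := by rw [hx, hnz]
      calc (y : G) * (n⁻¹ * (x.1 : G)) = n⁻¹ * (n * (y : G) * n⁻¹) * (x.1 : G) := by group
        _ = n⁻¹ * ((x.1 : G) * (y : G) * (x.1 : G)⁻¹) * (x.1 : G) := by rw [e]
        _ = n⁻¹ * (x.1 : G) * (y : G) := by group
    · exact N.mul_mem hn c.2.1
    · apply Subtype.ext
      have hc := Subgroup.mem_centralizer_iff.mp c.2.2 (y : G) (Set.mem_singleton _)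
      show n * c.1 * (y : G) * (n * c.1)⁻¹ = (z : G)
      rw [← hnz]
      calc n * c.1 * (y : G) * (n * c.1)⁻¹ = n * (c.1 * (y : G)) * c.1⁻¹ * n⁻¹ := by group
        _ = n * ((y : G) * c.1) * c.1⁻¹ * n⁻¹ := by rw [hc]
        _ = n * (y : G) * n⁻¹ := by group
    · apply Subtype.ext
      apply Subtype.ext
      show n * (n⁻¹ * (x.1 : G)) = (x.1 : G)
      group
    · apply Subtype.ext
      show n⁻¹ * (n * c.1) = c.1
      group
  · have : Finset.univ.filter (fun x : N =>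
        (⟨(x : G) * (y : G) * (x : G)⁻¹, conj_mem_of_le_normalizer hNN x y⟩ : P) = z) = ∅ := by
      rw [Finset.filter_eq_empty_iff]
      intro x _ hx
      exact hz ⟨x, x.2, congrArg Subtype.val hx⟩
    rw [this, Finset.card_empty, Nat.cast_zero, zero_mul]

/-- The statement of S4720. -/
theorem column_inner (hM : IsPModular p M) (P : Subgroup G) (hP : IsPGroup p P) (N : Subgroup G)
    (hNN : N ≤ Subgroup.normalizer (P : Set G)) (U : Set G)
    (hfus : ∀ u ∈ U, ∀ g : G, g * u * g⁻¹ ∈ (P : Set G) → ∃ n ∈ N, n * u * n⁻¹ = g * u * g⁻¹)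
    (w : ℚ)
    (hw : ∀ y ∈ U, ((∑ᶠ ψ ∈ principalBlock M ↥(Subgroup.centralizer ({y} : Set G)),
      ((charDegree (ψ : ↥(Subgroup.centralizer ({y} : Set G)) → ℂ) : ℚ)) ^ 2 : ℚ)) =
        w * Nat.card ↥(N ⊓ Subgroup.centralizer ({y} : Set G)))
    (θ η : ↥P → ℂ) (hθU : ∀ y : ↥P, (y : G) ∉ U → θ y = 0) :
    ∑ᶠ χ ∈ principalBlock M G,
      ((Nat.card ↥P : ℂ)⁻¹ * ∑ᶠ y : ↥P, (χ : G → ℂ) (y : G) * θ y⁻¹) *
        (starRingEnd ℂ) ((Nat.card ↥P : ℂ)⁻¹ * ∑ᶠ y : ↥P, (χ : G → ℂ) (y : G) * η y⁻¹) =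
      ((w : ℂ) / ((Nat.card ↥P : ℂ) ^ 2)) *
        ∑ᶠ y : ↥P, θ y * (starRingEnd ℂ)
          (∑ᶠ x : ↥N, extendByZero P η ((x : G) * (y : G) * (x : G)⁻¹)) := by
  classical
  have : Fintype (IrrCharacter G) := Fintype.ofFinite _
  have : Fintype P := Fintype.ofFinite _
  have : Fintype N := Fintype.ofFinite _
  have hpel : ∀ y : P, ∃ k : ℕ, orderOf (y : G) = p ^ k := by
    intro y
    obtain ⟨k, hk⟩ := IsPGroup.iff_orderOf.mp hP y
    exact ⟨k, by rw [Subgroup.orderOf_coe, hk]⟩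
  -- the column sums
  let ι : IrrCharacter G → ℂ := fun χ => if χ ∈ principalBlock M G then 1 else 0
  let S : P → P → ℂ := fun a b =>
    ∑ χ : IrrCharacter G, ι χ * ((χ : G → ℂ) (a : G) * (starRingEnd ℂ) ((χ : G → ℂ) (b : G)))
  have hSfin : ∀ a b : P, S a b = ∑ᶠ χ ∈ principalBlock M G,
      (χ : G → ℂ) (a : G) * (starRingEnd ℂ) ((χ : G → ℂ) (b : G)) := by
    intro a b
    rw [finsum_mem_eq_sum_ite']
    apply Finset.sum_congr rfl
    intro χ _
    show (if χ ∈ principalBlock M G then (1 : ℂ) else 0) * _ = _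
    rw [boole_mul]
  have hK : ∀ y : P, (y : G) ∈ U → ∀ z : P, S z y =
      if ∃ n ∈ N, n * (y : G) * n⁻¹ = (z : G) then
        (w : ℂ) * (Nat.card ↥(N ⊓ Subgroup.centralizer ({(y : G)} : Set G)) : ℂ) else 0 := by
    intro y hy z
    rw [hSfin]
    split_ifs with h
    · obtain ⟨n, hn, hnz⟩ := h
      have e : ∀ χ : IrrCharacter G, (χ : G → ℂ) (z : G) = (χ : G → ℂ) (y : G) := by
        intro χ
        rw [← hnz]
        exact isClassFunction_irr χ (y : G) n
      simp only [e]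
      rw [sum_sq_eq (y : G) (hpel y) hM, hw (y : G) hy]
      push_cast
      rfl
    · apply sum_nonconj hM (hpel z) (hpel y) _ _ isPBlock_principalBlock
      intro hc
      obtain ⟨c, hc⟩ := isConj_iff.mp hc.symm
      have hcP : c * (y : G) * c⁻¹ ∈ (P : Set G) := by rw [hc]; exact z.2
      obtain ⟨n, hn, hn2⟩ := hfus (y : G) hy c hcP
      exact h ⟨n, hn, by rw [hn2, hc]⟩
  -- conjugation symmetry of the column sums
  have hSinv : ∀ y z : P, S y⁻¹ z⁻¹ = S z y := by
    intro y z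
    apply Finset.sum_congr rfl
    intro χ _
    rw [Subgroup.coe_inv, Subgroup.coe_inv, Cfsg.Agent.Helper5.irr_inv,
      Cfsg.Agent.Helper5.irr_inv, Complex.conj_conj, mul_comm ((starRingEnd ℂ) _)]
  set c : ℂ := (Nat.card ↥P : ℂ)⁻¹ with hc
  have hcc : (starRingEnd ℂ) c = c := by
    rw [hc, map_inv₀, Complex.conj_natCast]
  -- Step A/B: expand the left side
  have hL : ∑ᶠ χ ∈ principalBlock M G,
      (c * ∑ᶠ y : ↥P, (χ : G → ℂ) (y : G) * θ y⁻¹) *
        (starRingEnd ℂ) (c * ∑ᶠ y : ↥P, (χ : G → ℂ) (y : G) * η y⁻¹) =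
      c * c * ∑ y : P, ∑ z : P, (θ y⁻¹ * (starRingEnd ℂ) (η z⁻¹)) * S y z := by
    rw [finsum_mem_eq_sum_ite']
    have hterm : ∀ χ : IrrCharacter G,
        (if χ ∈ principalBlock M G then
          (c * ∑ᶠ y : ↥P, (χ : G → ℂ) (y : G) * θ y⁻¹) *
          (starRingEnd ℂ) (c * ∑ᶠ y : ↥P, (χ : G → ℂ) (y : G) * η y⁻¹) else 0) =
        c * c * ∑ y : P, ∑ z : P, (θ y⁻¹ * (starRingEnd ℂ) (η z⁻¹)) *
          (ι χ * ((χ : G → ℂ) (y : G) * (starRingEnd ℂ) ((χ : G → ℂ) (z : G)))) := by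
      intro χ
      rw [finsum_eq_sum_of_fintype, finsum_eq_sum_of_fintype, map_mul, map_sum, hcc]
      show _ = c * c * ∑ y : P, ∑ z : P, (θ y⁻¹ * (starRingEnd ℂ) (η z⁻¹)) *
          ((if χ ∈ principalBlock M G then (1 : ℂ) else 0) *
            ((χ : G → ℂ) (y : G) * (starRingEnd ℂ) ((χ : G → ℂ) (z : G))))
      split_ifs with h
      · rw [mul_mul_mul_comm, Finset.sum_mul_sum]
        refine congrArg (fun t => c * c * t) ?_
        apply Finset.sum_congr rfl
        intro y _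
        apply Finset.sum_congr rfl
        intro z _
        rw [map_mul]
        ring
      · simp
    rw [Finset.sum_congr rfl (fun χ _ => hterm χ), ← Finset.mul_sum]
    refine congrArg (fun t => c * c * t) ?_
    rw [Finset.sum_comm]
    apply Finset.sum_congr rfl
    intro y _
    rw [Finset.sum_comm]
    apply Finset.sum_congr rfl
    intro z _
    rw [← Finset.mul_sum]
  rw [hL]
  -- Step C: reindex
  have hC : ∑ y : P, ∑ z : P, (θ y⁻¹ * (starRingEnd ℂ) (η z⁻¹)) * S y z =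
      ∑ y : P, θ y * ∑ z : P, (starRingEnd ℂ) (η z) * S z y := by
    refine Fintype.sum_equiv (Equiv.inv P) _ _ (fun y => ?_)
    rw [Finset.mul_sum]
    refine Fintype.sum_equiv (Equiv.inv P) _ _ (fun z => ?_)
    show (θ y⁻¹ * (starRingEnd ℂ) (η z⁻¹)) * S y z =
      θ y⁻¹ * ((starRingEnd ℂ) (η z⁻¹) * S z⁻¹ y⁻¹)
    rw [hSinv z y]
    ring
  rw [hC]
  -- Step D
  have hD : ∀ y : P, θ y * ∑ z : P, (starRingEnd ℂ) (η z) * S z y =
      θ y * ((w : ℂ) * (starRingEnd ℂ)
        (∑ᶠ x : ↥N, extendByZero P η ((x : G) * (y : G) * (x : G)⁻¹))) := by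
    intro y
    by_cases hy : (y : G) ∈ U
    · refine congrArg (fun t => θ y * t) ?_
      rw [finsum_eq_sum_of_fintype, map_sum]
      have e1 : ∀ x : N, (starRingEnd ℂ) (extendByZero P η ((x : G) * (y : G) * (x : G)⁻¹)) =
          (fun z : P => (starRingEnd ℂ) (η z))
            ⟨(x : G) * (y : G) * (x : G)⁻¹, conj_mem_of_le_normalizer hNN x y⟩ := by
        intro x
        rw [extendByZero_apply_mem P η (conj_mem_of_le_normalizer hNN x y)]
      rw [Finset.sum_congr rfl (fun x _ => e1 x),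
        sum_conj_orbit P N hNN y (fun z : P => (starRingEnd ℂ) (η z)), Finset.mul_sum]
      apply Finset.sum_congr rfl
      intro z _
      rw [hK y hy z]
      split_ifs with h
      · ring
      · ring
    · rw [hθU y hy, zero_mul, zero_mul]
  rw [Finset.sum_congr rfl (fun y _ => hD y), finsum_eq_sum_of_fintype, Finset.mul_sum,
    Finset.mul_sum]
  apply Finset.sum_congr rfl
  intro y _
  rw [hc]
  field_simp

end Cfsg.Agent.Helper23.CI
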