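import Mathlib

set_option autoImplicit false
set_option linter.unusedSectionVars false
set_option linter.unusedVariables false

/-!
# A sign-counting lemma for weighted sums (used for S4722)
-/

namespace Cfsg.Agent.Helper23.SignL

variable {I : Type*} [Fintype I] [DecidableEq I]

/-- The positive case. -/
theorem sign_lemma_pos (o : I) (a d τ : I → ℝ) (hd : ∀ i, 0 < d i) (ho : τ o = d o)
    (h1 : ∑ i, a i * d i = 0) (h2 : ∑ i, a i * τ i = 0)
    (h3 : ∑ i, a i * (τ i ^ 2 / d i) = 0) (hao : 0 < a o)
    (hno : ∀ i, i ≠ o → a i ≠ 0 → τ i ≠ d i) :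
    2 ≤ (Finset.univ.filter (fun i => 0 < a i)).card ∧
      2 ≤ (Finset.univ.filter (fun i => a i < 0)).card := by
  have hd0 : ∀ i, d i ≠ 0 := fun i => (hd i).ne'
  -- the quadratic combination with ratio `r`
  have hquad : ∀ r : ℝ, ∑ i, a i * ((τ i - r * d i) ^ 2 / d i) = 0 := by
    intro r
    have e : ∀ i, a i * ((τ i - r * d i) ^ 2 / d i) =
        a i * (τ i ^ 2 / d i) - 2 * r * (a i * τ i) + r ^ 2 * (a i * d i) := by
      intro i
      have := hd0 i
      field_simp
      ring
    rw [Finset.sum_congr rfl (fun i _ => e i), Finset.sum_add_distrib, Finset.sum_sub_distrib,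
      ← Finset.mul_sum, ← Finset.mul_sum, h1, h2, h3]
    ring
  have hqnn : ∀ (r : ℝ) (i : I), 0 ≤ (τ i - r * d i) ^ 2 / d i :=
    fun r i => div_nonneg (sq_nonneg _) (hd i).le
  -- Step 1: a negative coefficient
  have hneg : ∃ i₁, a i₁ < 0 := by
    by_contra hcon
    have hcon' : ∀ i, 0 ≤ a i := fun i => not_lt.mp (fun h => hcon ⟨i, h⟩)
    have hle : a o * d o ≤ ∑ i, a i * d i :=
      Finset.single_le_sum (f := fun i => a i * d i)
        (fun i _ => mul_nonneg (hcon' i) (hd i).le) (Finset.mem_univ o)
    have : 0 < a o * d o := mul_pos hao (hd o)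
    linarith
  obtain ⟨i₁, hi₁⟩ := hneg
  have hi₁o : i₁ ≠ o := by
    rintro rfl
    linarith
  have hq1 : 0 < (τ i₁ - 1 * d i₁) ^ 2 / d i₁ := by
    apply div_pos _ (hd i₁)
    have hne : τ i₁ - 1 * d i₁ ≠ 0 := by
      rw [one_mul, sub_ne_zero]
      exact hno i₁ hi₁o hi₁.ne
    positivity
  -- Step 2: a second positive coefficient
  have hpos2 : ∃ j, j ≠ o ∧ 0 < a j := by
    by_contra hcon
    have hcon' : ∀ j, j ≠ o → a j ≤ 0 := fun j hj => not_lt.mp (fun h => hcon ⟨j, hj, h⟩)
    have hall : ∀ i ∈ (Finset.univ : Finset I), a i * ((τ i - 1 * d i) ^ 2 / d i) ≤ 0 := by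
      intro i _
      by_cases hio : i = o
      · subst hio
        rw [ho, one_mul, sub_self]
        simp
      · exact mul_nonpos_of_nonpos_of_nonneg (hcon' i hio) (hqnn 1 i)
    have hz := (Finset.sum_eq_zero_iff_of_nonpos hall).mp (hquad 1) i₁ (Finset.mem_univ _)
    have : a i₁ * ((τ i₁ - 1 * d i₁) ^ 2 / d i₁) < 0 := mul_neg_of_neg_of_pos hi₁ hq1
    linarith
  obtain ⟨j, hjo, hj⟩ := hpos2
  constructor
  · have hsub : ({o, j} : Finset I) ⊆ Finset.univ.filter (fun i => 0 < a i) := by
      intro i hi
      rw [Finset.mem_insert, Finset.mem_singleton] at hi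
      rw [Finset.mem_filter]
      rcases hi with rfl | rfl
      · exact ⟨Finset.mem_univ _, hao⟩
      · exact ⟨Finset.mem_univ _, hj⟩
    have hc : ({o, j} : Finset I).card = 2 := Finset.card_pair (Ne.symm hjo)
    calc 2 = ({o, j} : Finset I).card := hc.symm
      _ ≤ _ := Finset.card_le_card hsub
  · by_contra hcard
    have huniq : ∀ i, a i < 0 → i = i₁ := by
      intro i hi
      by_contra hne
      apply hcard
      have hsub : ({i₁, i} : Finset I) ⊆ Finset.univ.filter (fun i => a i < 0) := by
        intro k hk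
        rw [Finset.mem_insert, Finset.mem_singleton] at hk
        rw [Finset.mem_filter]
        rcases hk with rfl | rfl
        · exact ⟨Finset.mem_univ _, hi₁⟩
        · exact ⟨Finset.mem_univ _, hi⟩
      have hc : ({i₁, i} : Finset I).card = 2 := Finset.card_pair (Ne.symm hne)
      calc 2 = ({i₁, i} : Finset I).card := hc.symm
        _ ≤ _ := Finset.card_le_card hsub
    set r : ℝ := τ i₁ / d i₁ with hr
    have hall : ∀ i ∈ (Finset.univ : Finset I), 0 ≤ a i * ((τ i - r * d i) ^ 2 / d i) := by
      intro i _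
      by_cases hii : i = i₁
      · subst hii
        have : τ i - r * d i = 0 := by
          rw [hr, div_mul_cancel₀ _ (hd0 i), sub_self]
        rw [this]
        simp
      · have : 0 ≤ a i := not_lt.mp (fun h => hii (huniq i h))
        exact mul_nonneg this (hqnn r i)
    have hz := (Finset.sum_eq_zero_iff_of_nonneg hall).mp (hquad r)
    have hzo := hz o (Finset.mem_univ _)
    have hzj := hz j (Finset.mem_univ _)
    have hr1 : r = 1 := by
      rcases mul_eq_zero.mp hzo with h | h
      · linarith
      · have h2 : (τ o - r * d o) ^ 2 = 0 := by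
          rcases div_eq_zero_iff.mp h with h | h
          · exact h
          · exact absurd h (hd0 o)
        have h3 : τ o - r * d o = 0 := by
          exact pow_eq_zero_iff (two_ne_zero) |>.mp h2
        rw [ho] at h3
        have h4 : d o * (1 - r) = 0 := by linarith
        rcases mul_eq_zero.mp h4 with h | h
        · exact absurd h (hd0 o)
        · linarith
    have : τ j = d j := by
      rcases mul_eq_zero.mp hzj with h | h
      · linarith
      · have h2 : (τ j - r * d j) ^ 2 = 0 := by
          rcases div_eq_zero_iff.mp h with h | h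
          · exact h
          · exact absurd h (hd0 j)
        have h3 : τ j - r * d j = 0 := pow_eq_zero_iff (two_ne_zero) |>.mp h2
        rw [hr1] at h3
        linarith
    exact hno j hjo hj.ne' this

/-- The sign lemma. -/
theorem sign_lemma (o : I) (a d τ : I → ℝ) (hd : ∀ i, 0 < d i) (ho : τ o = d o)
    (h1 : ∑ i, a i * d i = 0) (h2 : ∑ i, a i * τ i = 0)
    (h3 : ∑ i, a i * (τ i ^ 2 / d i) = 0) (hao : a o ≠ 0)
    (hno : ∀ i, i ≠ o → a i ≠ 0 → τ i ≠ d i) :
    2 ≤ (Finset.univ.filter (fun i => 0 < a i)).card ∧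
      2 ≤ (Finset.univ.filter (fun i => a i < 0)).card := by
  rcases lt_or_gt_of_ne hao with h | h
  · have key := sign_lemma_pos o (fun i => - a i) d τ hd ho
      (by simp only [neg_mul, Finset.sum_neg_distrib, h1, neg_zero])
      (by simp only [neg_mul, Finset.sum_neg_distrib, h2, neg_zero])
      (by simp only [neg_mul, Finset.sum_neg_distrib, h3, neg_zero])
      (by simpa using h)
      (fun i hio hai => hno i hio (by simpa using hai))
    simp only [Left.neg_pos_iff, Left.neg_neg_iff] at key
    exact ⟨key.2, key.1⟩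
  · exact sign_lemma_pos o a d τ hd ho h1 h2 h3 h hno

end Cfsg.Agent.Helper23.SignL
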