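import Mathlib
import Cfsg.Prelude.Def_Blocks
import Cfsg.Agent.S0925
import Cfsg.Agent.S0840
import Cfsg.Agent.Helper5.CharFacts
import Cfsg.Agent.Helper5.KerDegrees
import Cfsg.Agent.Helper5.CharKer
import Cfsg.Agent.Helper5.RelDefectZero
import Cfsg.Agent.Helper5.ThirdMain
import Cfsg.Agent.Helper23.PrincipalBlock
import Cfsg.Agent.Helper23.SignLemma
import Cfsg.Agent.Helper24.Codegree

set_option autoImplicit false
set_option linter.unusedSectionVars false
set_option linter.unusedVariables false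

/-!
# Columns of the principal 2-block and an involution (S4722)
-/

namespace Cfsg.Agent.Helper23.InvCol

open Cfsg Cfsg.Agent.Helper5 Cfsg.Agent.Helper5.CC Cfsg.Agent.Helper5.Loc Cfsg.Agent.Helper24

variable {G : Type*} [Group G] [Fintype G] {M : Ideal AlgInt}

/-- The inverse of the `p`-part is the `p`-part of the inverse. -/
theorem isPPart_inv {p : ℕ} {g v : G} (h : IsPPart p g v) : IsPPart p g⁻¹ v⁻¹ := by
  obtain ⟨w, hvw, hc, hv, hw⟩ := h
  refine ⟨w⁻¹, ?_, hc.inv_inv, ?_, ?_⟩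
  · rw [← hvw, mul_inv_rev, (hc.inv_inv).eq]
  · simpa using hv
  · simpa using hw

/-- Lemma Z: block orthogonality against elements inverted by a conjugate of `t`. -/
theorem sum_eq_zero_of_inverted (hM : IsPModular 2 M) (U : Set G) (t : G)
    (hinv : ∀ u ∈ U, ∀ g : G, (g * t * g⁻¹) * u * (g * t * g⁻¹)⁻¹ ≠ u⁻¹)
    (y : G) (hy2 : ∃ k : ℕ, orderOf y = 2 ^ k) (hyU : y⁻¹ ∈ U) (g s : G) (hs : IsConj t s)
    (hsg : s * g * s⁻¹ = g⁻¹) (B : Set (IrrCharacter G)) (hB : IsPBlock M B) :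
    ∑ᶠ χ ∈ B, (χ : G → ℂ) y * (χ : G → ℂ) g = 0 := by
  have : Fact (Nat.Prime 2) := ⟨Nat.prime_two⟩
  obtain ⟨v, hv⟩ := Cfsg.Agent.Helper5.RDZ.exists_isPPart 2 g⁻¹
  have hyy : IsPPart 2 y y := by
    refine ⟨1, mul_one y, Commute.one_right y, hy2, ?_⟩
    rw [orderOf_one]; norm_num
  have hnc : ¬ IsConj y v := by
    intro hc
    obtain ⟨h, hh⟩ := isConj_iff.mp hc
    -- `s` inverts `v`
    have h1 : IsPPart 2 (s * g⁻¹ * s⁻¹) (s * v * s⁻¹) := Cfsg.Agent.S0925.isPPart_conj hv s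
    have h2 : s * g⁻¹ * s⁻¹ = g := by
      have : s * g⁻¹ * s⁻¹ = (s * g * s⁻¹)⁻¹ := by group
      rw [this, hsg, inv_inv]
    rw [h2] at h1
    have h3 : IsPPart 2 g v⁻¹ := by
      have := isPPart_inv hv
      rwa [inv_inv] at this
    have h4 : s * v * s⁻¹ = v⁻¹ := isPPart_unique h1 h3
    obtain ⟨k, hk⟩ := isConj_iff.mp hs
    apply hinv y⁻¹ hyU (h⁻¹ * k)
    have e1 : h⁻¹ * k * t * (h⁻¹ * k)⁻¹ = h⁻¹ * s * h := by
      rw [← hk]; group
    rw [e1, inv_inv]
    have e2 : v = h * y * h⁻¹ := hh.symm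
    have e3 : s * (h * y * h⁻¹) * s⁻¹ = (h * y * h⁻¹)⁻¹ := by rw [← e2]; exact h4
    calc h⁻¹ * s * h * y⁻¹ * (h⁻¹ * s * h)⁻¹
        = h⁻¹ * (s * (h * y * h⁻¹) * s⁻¹)⁻¹ * h := by group
      _ = h⁻¹ * ((h * y * h⁻¹)⁻¹)⁻¹ * h := by rw [e3]
      _ = y := by group
  have := (Cfsg.Agent.S0925.result 2 M hM).2 y g⁻¹ y v hyy hv hnc B hB
  simpa using this

/-- Part B: the coefficient sums against an element inverted by a conjugate of `t`. -/
theorem sum_coeff_mul_eq_zero (hM : IsPModular 2 M) (P : Subgroup G) [Fintype P]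
    (hP : IsPGroup 2 P) (U : Set G) (t : G)
    (hinv : ∀ u ∈ U, ∀ g : G, (g * t * g⁻¹) * u * (g * t * g⁻¹)⁻¹ ≠ u⁻¹)
    (θ : P → ℂ) (hθU : ∀ y : P, (y : G) ∉ U → θ y = 0) (g s : G) (hs : IsConj t s)
    (hsg : s * g * s⁻¹ = g⁻¹) (B : Set (IrrCharacter G)) (hB : IsPBlock M B)
    [Fintype (IrrCharacter G)] [DecidablePred (· ∈ B)] :
    ∑ χ : IrrCharacter G, (if χ ∈ B then
      ((Nat.card P : ℂ)⁻¹ * ∑ y : P, (χ : G → ℂ) (y : G) * θ y⁻¹) * (χ : G → ℂ) g else 0) = 0 := by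
  have hpel : ∀ y : P, ∃ k : ℕ, orderOf (y : G) = 2 ^ k := by
    intro y
    obtain ⟨k, hk⟩ := IsPGroup.iff_orderOf.mp hP y
    exact ⟨k, by rw [Subgroup.orderOf_coe, hk]⟩
  have e : ∀ χ : IrrCharacter G, (if χ ∈ B then
      ((Nat.card P : ℂ)⁻¹ * ∑ y : P, (χ : G → ℂ) (y : G) * θ y⁻¹) * (χ : G → ℂ) g else 0) =
      ∑ y : P, (Nat.card P : ℂ)⁻¹ * θ y⁻¹ *
        (if χ ∈ B then (χ : G → ℂ) (y : G) * (χ : G → ℂ) g else 0) := by
    intro χ
    split_ifs with h
    · rw [Finset.mul_sum, Finset.sum_mul]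
      apply Finset.sum_congr rfl
      intro y _
      ring
    · simp
  rw [Finset.sum_congr rfl (fun χ _ => e χ), Finset.sum_comm]
  apply Finset.sum_eq_zero
  intro y _
  rw [← Finset.mul_sum]
  by_cases hy : ((y⁻¹ : P) : G) ∈ U
  · rw [← finsum_mem_eq_sum_ite', sum_eq_zero_of_inverted hM U t hinv (y : G) (hpel y)
      (by simpa using hy) g s hs hsg B hB, mul_zero]
  · rw [hθU y⁻¹ hy]
    ring

/-- The class-multiplication formula for `χ(t)² / χ(1)`. -/
theorem sq_div_eq (χ : IrrCharacter G) (t : G) (ht : t⁻¹ = t) :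
    (χ : G → ℂ) t ^ 2 / (χ : G → ℂ) 1 =
      ((Nat.card {x : G // IsConj t x} : ℂ)⁻¹) ^ 2 * ∑ c : G, ∑ x : G,
        classIndicator t c * (classIndicator t x * (χ : G → ℂ) (x⁻¹ * c)) := by
  classical
  have hk : (Nat.card {x : G // IsConj t x} : ℂ) ≠ 0 := by
    have : Nonempty {x : G // IsConj t x} := ⟨⟨t, IsConj.refl t⟩⟩
    have : 0 < Nat.card {x : G // IsConj t x} := Nat.card_pos
    exact_mod_cast this.ne'
  have hconj : (starRingEnd ℂ) ((χ : G → ℂ) t) = (χ : G → ℂ) t := by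
    rw [← Cfsg.Agent.Helper5.irr_inv, ht]
  have h1 : ∀ c : G, ∑ x : G, classIndicator t c * (classIndicator t x * (χ : G → ℂ) (x⁻¹ * c)) =
      classIndicator t c * ((Nat.card {x : G // IsConj t x} : ℂ) * (χ : G → ℂ) t *
        (χ : G → ℂ) c / (χ : G → ℂ) 1) := by
    intro c
    rw [← Finset.mul_sum, Cfsg.Agent.S0840.sum_indicator_mul_irr χ t c, hconj]
  have h2 : ∑ c : G, classIndicator t c * (χ : G → ℂ) c =
      (Nat.card {x : G // IsConj t x} : ℂ) * (χ : G → ℂ) t := by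
    have e : ∀ c : G, classIndicator t c * (χ : G → ℂ) c =
        if IsConj t c then (χ : G → ℂ) t else 0 := by
      intro c
      by_cases hc : IsConj t c
      · rw [classIndicator_of_isConj hc, one_mul, if_pos hc]
        exact (Cfsg.Agent.Helper24.IsClassFunction.eq_of_isConj (isClassFunction_irr χ) hc).symm
      · rw [classIndicator_of_not_isConj hc, zero_mul, if_neg hc]
    rw [Finset.sum_congr rfl (fun c _ => e c), ← Finset.sum_filter, Finset.sum_const,
      nsmul_eq_mul, Nat.card_eq_fintype_card, Fintype.card_subtype]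
  rw [Finset.sum_congr rfl (fun c _ => h1 c)]
  have e3 : ∀ c : G, classIndicator t c * ((Nat.card {x : G // IsConj t x} : ℂ) * (χ : G → ℂ) t *
        (χ : G → ℂ) c / (χ : G → ℂ) 1) =
      ((Nat.card {x : G // IsConj t x} : ℂ) * (χ : G → ℂ) t / (χ : G → ℂ) 1) *
        (classIndicator t c * (χ : G → ℂ) c) := by
    intro c
    ring
  rw [Finset.sum_congr rfl (fun c _ => e3 c), ← Finset.mul_sum, h2]
  field_simp

/-- Conjugates of an involution are self-inverse. -/
theorem inv_eq_of_isConj {t x : G} (ht : t⁻¹ = t) (hx : IsConj t x) : x⁻¹ = x := by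
  obtain ⟨h, rfl⟩ := isConj_iff.mp hx
  calc (h * t * h⁻¹)⁻¹ = h * t⁻¹ * h⁻¹ := by group
    _ = h * t * h⁻¹ := by rw [ht]

/-- An irreducible character that is constant is the trivial character. -/
theorem eq_trivIrr_of_const (χ : IrrCharacter G) (h : ∀ g, (χ : G → ℂ) g = (χ : G → ℂ) 1) :
    χ = trivIrr G := by
  have h1 := classInner_irr_self χ
  unfold classInner at h1
  have e : ∀ g : G, (χ : G → ℂ) g * (starRingEnd ℂ) ((χ : G → ℂ) g) = (irrDeg χ : ℂ) ^ 2 := by
    intro g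
    rw [h g, irrDeg_spec, Complex.conj_natCast]
    ring
  rw [Finset.sum_congr rfl (fun g _ => e g), Finset.sum_const, Finset.card_univ, nsmul_eq_mul,
    Nat.card_eq_fintype_card] at h1
  have hG : (Fintype.card G : ℂ) ≠ 0 := by
    have : 0 < Fintype.card G := Fintype.card_pos
    exact_mod_cast this.ne'
  have h2 : (irrDeg χ : ℂ) ^ 2 = 1 := by
    field_simp at h1
    linear_combination h1
  have h3 : irrDeg χ ^ 2 = 1 := by exact_mod_cast h2
  have h4 : irrDeg χ = 1 := by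
    have := irrDeg_pos χ
    nlinarith
  apply Subtype.ext
  funext g
  rw [h g, irrDeg_spec, h4]
  simp

/-- The statement of S4722. -/
theorem involution_columns (hM : IsPModular 2 M) (P : Subgroup G) (hP : IsPGroup 2 P)
    (U : Set G) (t : G) (ht : orderOf t = 2)
    (hinv : ∀ u ∈ U, ∀ g : G, (g * t * g⁻¹) * u * (g * t * g⁻¹)⁻¹ ≠ u⁻¹) (θ : ↥P → ℂ)
    (hθ : IsGeneralizedCharacter ↥P θ) (hθU : ∀ y : ↥P, (y : G) ∉ U → θ y = 0) :
    (∑ᶠ χ ∈ principalBlock M G, ((Nat.card ↥P : ℂ)⁻¹ * ∑ᶠ y : ↥P, (χ : G → ℂ) (y : G) * θ y⁻¹) *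
      (χ : G → ℂ) t ^ 2 / (χ : G → ℂ) 1 = 0) ∧
    (∑ᶠ χ ∈ principalBlock M G, ((Nat.card ↥P : ℂ)⁻¹ * ∑ᶠ y : ↥P, (χ : G → ℂ) (y : G) * θ y⁻¹) *
      (χ : G → ℂ) 1 = 0) ∧
    (∑ᶠ χ ∈ principalBlock M G, ((Nat.card ↥P : ℂ)⁻¹ * ∑ᶠ y : ↥P, (χ : G → ℂ) (y : G) * θ y⁻¹) *
      (χ : G → ℂ) t = 0) ∧
    ((Nat.card ↥P : ℂ)⁻¹ * ∑ᶠ y : ↥P, θ y ≠ 0 →
      (2 ≤ Nat.card {χ : IrrCharacter G // χ ∈ principalBlock M G ∧
          0 < (((Nat.card ↥P : ℂ)⁻¹ * ∑ᶠ y : ↥P, (χ : G → ℂ) (y : G) * θ y⁻¹)).re} ∧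
        2 ≤ Nat.card {χ : IrrCharacter G // χ ∈ principalBlock M G ∧
          (((Nat.card ↥P : ℂ)⁻¹ * ∑ᶠ y : ↥P, (χ : G → ℂ) (y : G) * θ y⁻¹)).re < 0}) ∨
      ∃ K : Subgroup G, K.Normal ∧ K ≠ ⊤ ∧ pPrimeCore 2 G ≤ K ∧ t ∈ K) := by
  classical
  have : Fact (Nat.Prime 2) := ⟨Nat.prime_two⟩
  have hMp := isPrime_of_isPModular hM
  have : Fintype (IrrCharacter G) := Fintype.ofFinite _
  have : Fintype P := Fintype.ofFinite _
  have : Fintype (IrrCharacter P) := Fintype.ofFinite _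
  have htinv : t⁻¹ = t := by
    have h2 : t ^ 2 = 1 := by rw [← ht]; exact pow_orderOf_eq_one t
    rw [inv_eq_iff_mul_eq_one, ← pow_two, h2]
  let A : IrrCharacter G → ℂ := fun χ =>
    (Nat.card ↥P : ℂ)⁻¹ * ∑ y : P, (χ : G → ℂ) (y : G) * θ y⁻¹
  have hA : ∀ χ : IrrCharacter G,
      (Nat.card ↥P : ℂ)⁻¹ * ∑ᶠ y : ↥P, (χ : G → ℂ) (y : G) * θ y⁻¹ = A χ := by
    intro χ
    rw [finsum_eq_sum_of_fintype]
  simp only [hA]
  -- the three identities in `Finset` form
  have I2 : ∑ χ : IrrCharacter G, (if χ ∈ principalBlock M G then A χ * (χ : G → ℂ) 1 else 0) = 0 :=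
    sum_coeff_mul_eq_zero hM P hP U t hinv θ hθU 1 t (IsConj.refl t) (by simp) _
      isPBlock_principalBlock
  have I3 : ∑ χ : IrrCharacter G, (if χ ∈ principalBlock M G then A χ * (χ : G → ℂ) t else 0) = 0 :=
    sum_coeff_mul_eq_zero hM P hP U t hinv θ hθU t t (IsConj.refl t)
      (by rw [mul_inv_cancel_right]; exact htinv.symm) _
      isPBlock_principalBlock
  have I1 : ∑ χ : IrrCharacter G, (if χ ∈ principalBlock M G then
      A χ * (χ : G → ℂ) t ^ 2 / (χ : G → ℂ) 1 else 0) = 0 := by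
    have e : ∀ χ : IrrCharacter G, (if χ ∈ principalBlock M G then
        A χ * (χ : G → ℂ) t ^ 2 / (χ : G → ℂ) 1 else 0) =
        ∑ c : G, ∑ x : G, ((Nat.card {x : G // IsConj t x} : ℂ)⁻¹) ^ 2 *
          (classIndicator t c * classIndicator t x) *
          (if χ ∈ principalBlock M G then A χ * (χ : G → ℂ) (x⁻¹ * c) else 0) := by
      intro χ
      split_ifs with h
      · rw [mul_div_assoc, sq_div_eq χ t htinv, Finset.mul_sum, Finset.mul_sum]
        apply Finset.sum_congr rfl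
        intro c _
        rw [Finset.mul_sum, Finset.mul_sum]
        apply Finset.sum_congr rfl
        intro x _
        ring
      · simp
    rw [Finset.sum_congr rfl (fun χ _ => e χ), Finset.sum_comm]
    apply Finset.sum_eq_zero
    intro c _
    rw [Finset.sum_comm]
    apply Finset.sum_eq_zero
    intro x _
    rw [← Finset.mul_sum]
    by_cases hc : IsConj t c
    · by_cases hx : IsConj t x
      · have hxi := inv_eq_of_isConj htinv hx
        have hci := inv_eq_of_isConj htinv hc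
        rw [sum_coeff_mul_eq_zero hM P hP U t hinv θ hθU (x⁻¹ * c) x hx
          (by
            calc x * (x⁻¹ * c) * x⁻¹ = c * x⁻¹ := by group
              _ = c⁻¹ * x := by rw [hxi, hci]
              _ = (x⁻¹ * c)⁻¹ := by group) _ isPBlock_principalBlock, mul_zero]
      · rw [classIndicator_of_not_isConj hx]; ring
    · rw [classIndicator_of_not_isConj hc]; ring
  refine ⟨?_, ?_, ?_, ?_⟩
  · rw [finsum_mem_eq_sum_ite']; exact I1
  · rw [finsum_mem_eq_sum_ite']; exact I2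
  · rw [finsum_mem_eq_sum_ite']; exact I3
  intro h0
  -- the trivial character
  have hAtriv : A (trivIrr G) = (Nat.card ↥P : ℂ)⁻¹ * ∑ᶠ y : ↥P, θ y := by
    rw [finsum_eq_sum_of_fintype]
    show (Nat.card ↥P : ℂ)⁻¹ * ∑ y : P, (trivIrr G : G → ℂ) (y : G) * θ y⁻¹ = _
    refine congrArg (fun z => (Nat.card ↥P : ℂ)⁻¹ * z) ?_
    refine Fintype.sum_equiv (Equiv.inv P) _ _ (fun y => ?_)
    rw [trivIrr_apply, one_mul]
    rfl
  have hAreal : ∃ r : ℝ, A (trivIrr G) = (r : ℂ) := by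
    obtain ⟨α, β, hα, hβ, rfl⟩ := hθ
    have hone : IsCharacter P (fun _ : P => (1 : ℂ)) :=
      IsIrrCharacter.isCharacter isIrrCharacter_const_one
    obtain ⟨n, hn⟩ := IsCharacter.classInner_nat hα hone
    obtain ⟨m, hm⟩ := IsCharacter.classInner_nat hβ hone
    refine ⟨(n : ℝ) - (m : ℝ), ?_⟩
    rw [hAtriv, finsum_eq_sum_of_fintype]
    unfold classInner at hn hm
    simp only [map_one, mul_one] at hn hm
    push_cast
    rw [← hn, ← hm, ← mul_sub, ← Finset.sum_sub_distrib]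
    rfl
  obtain ⟨r0, hr0⟩ := hAreal
  have hr0ne : r0 ≠ 0 := by
    intro h
    apply h0
    rw [← hAtriv, hr0, h]
    simp
  have himt : ∀ χ : IrrCharacter G, (χ : G → ℂ) t = (((χ : G → ℂ) t).re : ℂ) := by
    intro χ
    have h1 : (starRingEnd ℂ) ((χ : G → ℂ) t) = (χ : G → ℂ) t := by
      rw [← Cfsg.Agent.Helper5.irr_inv, htinv]
    exact (Complex.conj_eq_iff_re.mp h1).symm
  let a : IrrCharacter G → ℝ := fun χ => if χ ∈ principalBlock M G then (A χ).re else 0
  let d : IrrCharacter G → ℝ := fun χ => (irrDeg χ : ℝ)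
  let τ : IrrCharacter G → ℝ := fun χ => ((χ : G → ℂ) t).re
  have hd : ∀ χ, 0 < d χ := fun χ => by
    show (0 : ℝ) < (irrDeg χ : ℝ)
    exact_mod_cast irrDeg_pos χ
  have hdeg1 : irrDeg (trivIrr G) = 1 := by
    have := irrDeg_spec (trivIrr G)
    rw [trivIrr_apply] at this
    exact_mod_cast this.symm
  have ho : τ (trivIrr G) = d (trivIrr G) := by
    show ((trivIrr G : G → ℂ) t).re = (irrDeg (trivIrr G) : ℝ)
    rw [trivIrr_apply, hdeg1]
    simp
  have h1 : ∑ χ, a χ * d χ = 0 := by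
    have := congrArg Complex.re I2
    rw [Complex.re_sum, Complex.zero_re] at this
    rw [← this]
    apply Finset.sum_congr rfl
    intro χ _
    show (if χ ∈ principalBlock M G then (A χ).re else 0) * (irrDeg χ : ℝ) = _
    split_ifs with h
    · rw [irrDeg_spec, ← Complex.ofReal_natCast, Complex.re_mul_ofReal]
    · simp
  have h2 : ∑ χ, a χ * τ χ = 0 := by
    have := congrArg Complex.re I3
    rw [Complex.re_sum, Complex.zero_re] at this
    rw [← this]
    apply Finset.sum_congr rfl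
    intro χ _
    show (if χ ∈ principalBlock M G then (A χ).re else 0) * ((χ : G → ℂ) t).re = _
    split_ifs with h
    · conv_rhs => rw [himt χ, Complex.re_mul_ofReal]
    · simp
  have h3 : ∑ χ, a χ * (τ χ ^ 2 / d χ) = 0 := by
    have := congrArg Complex.re I1
    rw [Complex.re_sum, Complex.zero_re] at this
    rw [← this]
    apply Finset.sum_congr rfl
    intro χ _
    show (if χ ∈ principalBlock M G then (A χ).re else 0) *
      (((χ : G → ℂ) t).re ^ 2 / (irrDeg χ : ℝ)) = _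
    split_ifs with h
    · conv_rhs => rw [himt χ, irrDeg_spec, mul_div_assoc, ← Complex.ofReal_natCast,
        ← Complex.ofReal_pow, ← Complex.ofReal_div, Complex.re_mul_ofReal]
    · simp
  have htrivmem : trivIrr G ∈ principalBlock M G := trivIrr_mem_principalBlock hMp
  have hao : a (trivIrr G) ≠ 0 := by
    show (if trivIrr G ∈ principalBlock M G then (A (trivIrr G)).re else 0) ≠ 0
    rw [if_pos htrivmem, hr0, Complex.ofReal_re]
    exact hr0ne
  by_cases hno : ∀ χ, χ ≠ trivIrr G → a χ ≠ 0 → τ χ ≠ d χ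
  · left
    have key := Cfsg.Agent.Helper23.SignL.sign_lemma (trivIrr G) a d τ hd ho h1 h2 h3 hao hno
    constructor
    · rw [Nat.card_eq_fintype_card, Fintype.card_subtype]
      refine le_trans key.1 (le_of_eq ?_)
      refine congrArg Finset.card (Finset.filter_congr ?_)
      intro χ _
      show 0 < (if χ ∈ principalBlock M G then (A χ).re else 0) ↔ _
      split_ifs with h
      · exact ⟨fun h' => ⟨h, h'⟩, fun h' => h'.2⟩
      · exact ⟨fun h' => absurd h' (lt_irrefl _), fun h' => absurd h'.1 h⟩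
    · rw [Nat.card_eq_fintype_card, Fintype.card_subtype]
      refine le_trans key.2 (le_of_eq ?_)
      refine congrArg Finset.card (Finset.filter_congr ?_)
      intro χ _
      show (if χ ∈ principalBlock M G then (A χ).re else 0) < 0 ↔ _
      split_ifs with h
      · exact ⟨fun h' => ⟨h, h'⟩, fun h' => h'.2⟩
      · exact ⟨fun h' => absurd h' (lt_irrefl _), fun h' => absurd h'.1 h⟩
  · right
    push Not at hno
    obtain ⟨χ, hχo, hχa, hχτ⟩ := hno
    have hχB : χ ∈ principalBlock M G := by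
      by_contra h
      apply hχa
      show (if χ ∈ principalBlock M G then (A χ).re else 0) = 0
      rw [if_neg h]
    have hχt : (χ : G → ℂ) t = (χ : G → ℂ) 1 := by
      rw [himt χ, irrDeg_spec]
      have : ((χ : G → ℂ) t).re = (irrDeg χ : ℝ) := hχτ
      rw [this]
      simp
    refine ⟨charKer χ, inferInstance, ?_, ?_, ?_⟩
    · intro htop
      apply hχo
      apply eq_trivIrr_of_const
      intro g
      have : g ∈ charKer χ := by rw [htop]; exact Subgroup.mem_top g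
      exact (mem_charKer χ g).mp this
    · intro n hn
      exact (mem_charKer χ n).mpr
        (Cfsg.Agent.Helper23.PB.eq_one_of_mem_principalBlock hM χ hχB n hn)
    · exact (mem_charKer χ t).mpr hχt

end Cfsg.Agent.Helper23.InvCol
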