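import Mathlib
import Cfsg.Prelude.Def_Characters

set_option autoImplicit false

/-!
# S4756 (characters multiplicative on pairs of coprime prime power order): shared definitions
-/

namespace Cfsg.Agent.Helper23.CM

/-- `x`, `y` have prime power orders for two different primes -/
def CoprimePP {G : Type*} [Group G] (x y : G) : Prop :=
  ∃ p q a b : ℕ, p.Prime ∧ q.Prime ∧ p ≠ q ∧ orderOf x = p ^ a ∧ orderOf y = q ^ b

/-- the multiplicativity hypothesis -/
def Mult (G : Type*) [Group G] : Prop :=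
  ∀ (x y : G) (χ : Cfsg.IrrCharacter G), x ≠ 1 → y ≠ 1 → CoprimePP x y →
    (χ : G → ℂ) (x * y) = (χ : G → ℂ) x * (χ : G → ℂ) y

/-- `χ` vanishes on the nontrivial `r`-elements for all primes `r ≠ p` -/
def VanOff (p : ℕ) {G : Type*} [Group G] (χ : G → ℂ) : Prop :=
  ∀ r : ℕ, r.Prime → r ≠ p → ∀ g : G, g ≠ 1 → (∃ k : ℕ, orderOf g = r ^ k) → χ g = 0

end Cfsg.Agent.Helper23.CM
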