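import Mathlib
import Cfsg.Agent.Helper29.EsnDefs
import Cfsg.Agent.Helper6.EsnLINA1
import Cfsg.Agent.Helper6.EsnLINA2

set_option autoImplicit false

/-! S5877 piece F1: a non-scalar element `t` of `Q` has `r · dim E_c(t) ≤ n`. -/

namespace Cfsg.Agent.S5877P

open Matrix Module

variable {n : ℕ} {F : Type*} [Field F] {r : ℕ} {Q : Subgroup (GLn n F)} {ζ : Fˣ}

namespace F1

/-- the eigenvalue shifting argument: if `a g a⁻¹ = s g` with `s` of prime order `r`, then `g` has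
`r` eigenspaces of the same dimension as `E_c(g)` -/
theorem core (hr : r.Prime) (a g : GLn n F) (s : Fˣ) (hs1 : s ≠ 1) (hsr : s ^ r = 1)
    (h : a * g * a⁻¹ = sc n s * g) (c : F) : r * finrank F (Eig g c) ≤ n := by
  classical
  by_cases hc : c = 0
  · rw [hc, Eig_zero, finrank_bot, mul_zero]
    exact Nat.zero_le n
  have hu1 : (s⁻¹ : Fˣ) ≠ 1 := by
    intro h1
    apply hs1
    rw [← inv_inv s, h1, inv_one]
  have hur : (s⁻¹ : Fˣ) ^ r = 1 := by rw [inv_pow, hsr, inv_one]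
  have : Fact r.Prime := ⟨hr⟩
  have hord : orderOf (s⁻¹ : Fˣ) = r := orderOf_eq_prime hur hu1
  have hfin : ∀ i : ℕ, finrank F (Eig g ((((s⁻¹ : Fˣ) ^ i : Fˣ) : F) * c)) = finrank F (Eig g c) := by
    intro i
    induction i with
    | zero => rw [pow_zero, Units.val_one, one_mul]
    | succ i ih =>
      rw [← ih, finrank_Eig_shift a g s h ((((s⁻¹ : Fˣ) ^ i : Fˣ) : F) * c), pow_succ',
        Units.val_mul, mul_assoc]
  have hinj : ∀ i ∈ Finset.range r, ∀ j ∈ Finset.range r,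
      (((s⁻¹ : Fˣ) ^ i : Fˣ) : F) * c = (((s⁻¹ : Fˣ) ^ j : Fˣ) : F) * c → i = j := by
    intro i hi j hj hij
    have h1 : (((s⁻¹ : Fˣ) ^ i : Fˣ) : F) = (((s⁻¹ : Fˣ) ^ j : Fˣ) : F) := mul_right_cancel₀ hc hij
    have h2 : (s⁻¹ : Fˣ) ^ i = (s⁻¹ : Fˣ) ^ j := Units.ext h1
    rw [Finset.mem_range, ← hord] at hi hj
    exact pow_injOn_Iio_orderOf hi hj h2
  have hsum := sum_finrank_Eig_le g
    ((Finset.range r).image (fun i => (((s⁻¹ : Fˣ) ^ i : Fˣ) : F) * c))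
  rw [Finset.sum_image hinj] at hsum
  have : ∑ i ∈ Finset.range r, finrank F (Eig g ((((s⁻¹ : Fˣ) ^ i : Fˣ) : F) * c)) =
      r * finrank F (Eig g c) := by
    rw [Finset.sum_congr rfl (fun i _ => hfin i), Finset.sum_const, Finset.card_range, smul_eq_mul]
  rw [this] at hsum
  exact hsum

end F1

theorem finrank_Eig_le_of_not_scalar (hC : Cfg n F r Q ζ) (t : GLn n F) (ht : t ∈ Q)
    (htZ : t ∉ Zs n F) (c : F) : r * finrank F (Eig t c) ≤ n := by
  have hex : ∃ y ∈ Q, t * y ≠ y * t := by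
    by_contra hcon
    push Not at hcon
    exact htZ (hC.centG t hcon)
  obtain ⟨y, hy, hne⟩ := hex
  obtain ⟨k, hk⟩ := hC.comm y hy t ht
  have hs1 : ζ ^ k ≠ 1 := by
    intro h1
    rw [h1, map_one, one_mul] at hk
    exact hne hk.symm
  have hsr : (ζ ^ k) ^ r = 1 := by rw [← pow_mul, mul_comm, pow_mul, hC.zeta_pow, one_pow]
  have hconj : y * t * y⁻¹ = sc n (ζ ^ k) * t := by
    rw [hk, mul_assoc, mul_assoc, mul_inv_cancel, mul_one]
  exact F1.core hC.prime y t (ζ ^ k) hs1 hsr hconj c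

end Cfsg.Agent.S5877P
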