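import Mathlib
import Cfsg.Agent.Helper29.EsnDefs
import Cfsg.Agent.Helper6.EsnLINA1
import Cfsg.Agent.Helper15.EsnLINB

set_option autoImplicit false

/-! S5877 piece SKEL: the skeleton inequality
`r d ≤ Σ_l Σ_j dim (E_{λ(j,l)}(g) ∩ E_{ζ^l}(c₁))`. -/

namespace Cfsg.Agent.S5877P

open Matrix Module

variable {n : ℕ} {F : Type*} [Field F] {r : ℕ} {Q : Subgroup (GLn n F)} {ζ : Fˣ}

namespace SKEL

/-- triangular numbers, in the form of the statement -/
theorem tri_succ (j : ℕ) : (j + 1) * (j + 1 - 1) / 2 = j * (j - 1) / 2 + j := by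
  rcases j with _ | i
  · rfl
  · have : (i + 1 + 1) * (i + 1 + 1 - 1) = (i + 1) * (i + 1 - 1) + 2 * (i + 1) := by
      simp only [Nat.add_sub_cancel]
      ring
    rw [this, Nat.add_mul_div_left _ _ (by norm_num : 0 < 2)]

/-- conjugate elements have eigenspaces of the same dimension -/
theorem finrank_Eig_conj (a g : GLn n F) (c : F) :
    finrank F (Eig (a * g * a⁻¹) c) = finrank F (Eig g c) := by
  apply le_antisymm
  · apply finrank_le_of_maps a⁻¹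
    intro v hv
    rw [mem_Eig] at hv ⊢
    have h1 : ((a * g * a⁻¹ : GLn n F) : Matrix (Fin n) (Fin n) F) *ᵥ v =
        (a : Matrix (Fin n) (Fin n) F) *ᵥ ((g : Matrix (Fin n) (Fin n) F) *ᵥ
          (((a⁻¹ : GLn n F) : Matrix (Fin n) (Fin n) F) *ᵥ v)) := by
      rw [mul_mulVec, mul_mulVec]
    rw [h1] at hv
    have h2 := congrArg (fun x => ((a⁻¹ : GLn n F) : Matrix (Fin n) (Fin n) F) *ᵥ x) hv
    simp only [inv_mulVec_mulVec] at h2
    rw [h2, Matrix.mulVec_smul]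
  · apply finrank_le_of_maps a
    intro v hv
    rw [mem_Eig] at hv ⊢
    rw [mul_mulVec, mul_mulVec, inv_mulVec_mulVec, hv, Matrix.mulVec_smul]

/-- the conjugates of `g` by the powers of `h` -/
theorem conj_pow_eq (g h c₁ : GLn n F) (θ : Fˣ) (hrel : h⁻¹ * g * h = c₁ * g)
    (hk : h⁻¹ * c₁ * h = sc n θ * c₁) (j : ℕ) :
    (h ^ j)⁻¹ * g * h ^ j = sc n (θ ^ (j * (j - 1) / 2)) * c₁ ^ j * g := by
  induction j with
  | zero => simp
  | succ j ih =>
    have h1 : (h ^ (j + 1))⁻¹ * g * h ^ (j + 1) = h⁻¹ * ((h ^ j)⁻¹ * g * h ^ j) * h := by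
      rw [pow_succ]
      group
    have h2 : h⁻¹ * (sc n (θ ^ (j * (j - 1) / 2)) * c₁ ^ j * g) * h =
        sc n (θ ^ (j * (j - 1) / 2)) * (h⁻¹ * c₁ * h) ^ j * (h⁻¹ * g * h) := by
      have h3 : (h⁻¹ * c₁ * h) ^ j = h⁻¹ * c₁ ^ j * h := by
        have := conj_pow (a := h⁻¹) (b := c₁) (i := j)
        rw [inv_inv] at this
        exact this
      rw [h3]
      calc h⁻¹ * (sc n (θ ^ (j * (j - 1) / 2)) * c₁ ^ j * g) * h
          = (h⁻¹ * sc n (θ ^ (j * (j - 1) / 2))) * c₁ ^ j * g * h := by group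
        _ = (sc n (θ ^ (j * (j - 1) / 2)) * h⁻¹) * c₁ ^ j * g * h := by rw [← sc_comm]
        _ = sc n (θ ^ (j * (j - 1) / 2)) * (h⁻¹ * c₁ ^ j * h) * (h⁻¹ * g * h) := by group
    rw [h1, ih, h2, hk, hrel, tri_succ, (Commute.mul_pow (sc_comm θ c₁) j), ← map_pow, pow_add,
      map_mul, pow_succ c₁ j]
    have e1 := sc_comm (θ ^ j) (c₁ ^ j)
    calc sc n (θ ^ (j * (j - 1) / 2)) * (sc n (θ ^ j) * c₁ ^ j) * (c₁ * g)
        = sc n (θ ^ (j * (j - 1) / 2)) * sc n (θ ^ j) * (c₁ ^ j * c₁) * g := by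
          simp only [mul_assoc]

end SKEL

theorem skel (hC : Cfg n F r Q ζ) (g h c₁ : GLn n F) (hrel : g * h * g⁻¹ = h * c₁)
    (hgc : g * c₁ = c₁ * g) (k : ℕ) (hk : c₁ * h = sc n (ζ ^ k) * (h * c₁)) (hpow : c₁ ^ r = 1)
    (c : F) :
    r * finrank F (Eig g c) ≤ ∑ l ∈ Finset.range r, ∑ j ∈ Finset.range r,
      finrank F (Eig g (c * (((ζ ^ (k * (j * (j - 1) / 2) + l * j))⁻¹ : Fˣ) : F)) ⊓
        Eig c₁ ((ζ ^ l : Fˣ) : F) : Submodule F (Fin n → F)) := by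
  -- the two conjugation relations
  have hrel' : h⁻¹ * g * h = c₁ * g := by
    have h1 : g * h = h * c₁ * g := by
      calc g * h = g * h * g⁻¹ * g := by group
        _ = h * c₁ * g := by rw [hrel]
    rw [mul_assoc, h1]
    group
  have hk' : h⁻¹ * c₁ * h = sc n (ζ ^ k) * c₁ := by
    rw [mul_assoc, hk]
    calc h⁻¹ * (sc n (ζ ^ k) * (h * c₁)) = (h⁻¹ * sc n (ζ ^ k)) * h * c₁ := by group
      _ = (sc n (ζ ^ k) * h⁻¹) * h * c₁ := by rw [← sc_comm]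
      _ = sc n (ζ ^ k) * c₁ := by group
  -- the conjugates
  have hconj := SKEL.conj_pow_eq g h c₁ (ζ ^ k) hrel' hk'
  -- each conjugate has the same eigenspace dimension
  have hdim : ∀ j : ℕ, finrank F (Eig (sc n ((ζ ^ k) ^ (j * (j - 1) / 2)) * c₁ ^ j * g) c) =
      finrank F (Eig g c) := by
    intro j
    rw [← hconj j]
    have := SKEL.finrank_Eig_conj (h ^ j)⁻¹ g c
    rwa [inv_inv] at this
  -- `c₁` commutes with the conjugates
  have hcomm : ∀ j : ℕ, c₁ * (sc n ((ζ ^ k) ^ (j * (j - 1) / 2)) * c₁ ^ j * g) =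
      (sc n ((ζ ^ k) ^ (j * (j - 1) / 2)) * c₁ ^ j * g) * c₁ := by
    intro j
    have h1 : c₁ * c₁ ^ j = c₁ ^ j * c₁ := (Commute.refl c₁).pow_right j
    calc c₁ * (sc n ((ζ ^ k) ^ (j * (j - 1) / 2)) * c₁ ^ j * g)
        = sc n ((ζ ^ k) ^ (j * (j - 1) / 2)) * (c₁ * c₁ ^ j) * g := by
          rw [← mul_assoc, ← mul_assoc, ← sc_comm]
          simp only [mul_assoc]
      _ = sc n ((ζ ^ k) ^ (j * (j - 1) / 2)) * c₁ ^ j * (c₁ * g) := by
          rw [h1]; simp only [mul_assoc]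
      _ = (sc n ((ζ ^ k) ^ (j * (j - 1) / 2)) * c₁ ^ j * g) * c₁ := by
          rw [← hgc]; simp only [mul_assoc]
  -- decomposition of each eigenspace along the eigenspaces of `c₁`
  have hdec : ∀ j : ℕ, finrank F (Eig g c) = ∑ l ∈ Finset.range r,
      finrank F (Eig (sc n ((ζ ^ k) ^ (j * (j - 1) / 2)) * c₁ ^ j * g) c ⊓
        Eig c₁ ((ζ ^ l : Fˣ) : F) : Submodule F (Fin n → F)) := by
    intro j
    rw [← hdim j]
    apply finrank_eq_sum_inf_Eig hC.prime ζ hC.zeta_pow hC.zeta_ne c₁ hpow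
    intro v hv
    rw [mem_Eig] at hv ⊢
    rw [← mul_mulVec, ← hcomm j, mul_mulVec, hv, Matrix.mulVec_smul]
  -- the pieces are contained in eigenspaces of `g`
  have hle : ∀ j l : ℕ, (Eig (sc n ((ζ ^ k) ^ (j * (j - 1) / 2)) * c₁ ^ j * g) c ⊓
        Eig c₁ ((ζ ^ l : Fˣ) : F) : Submodule F (Fin n → F)) ≤
      Eig g (c * (((ζ ^ (k * (j * (j - 1) / 2) + l * j))⁻¹ : Fˣ) : F)) ⊓
        Eig c₁ ((ζ ^ l : Fˣ) : F) := by
    intro j l v hv
    rw [Submodule.mem_inf] at hv ⊢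
    refine ⟨?_, hv.2⟩
    obtain ⟨hv1, hv2⟩ := hv
    rw [mem_Eig] at hv1 hv2 ⊢
    -- `c₁ ^ j (g v) = ζ ^ (l j) g v`
    have hgv : (c₁ : Matrix (Fin n) (Fin n) F) *ᵥ ((g : Matrix (Fin n) (Fin n) F) *ᵥ v) =
        ((ζ ^ l : Fˣ) : F) • ((g : Matrix (Fin n) (Fin n) F) *ᵥ v) := by
      rw [← mul_mulVec, ← hgc, mul_mulVec, hv2, Matrix.mulVec_smul]
    have hpowv : ∀ i : ℕ, ∀ w : Fin n → F,
        (c₁ : Matrix (Fin n) (Fin n) F) *ᵥ w = ((ζ ^ l : Fˣ) : F) • w →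
        ((c₁ ^ i : GLn n F) : Matrix (Fin n) (Fin n) F) *ᵥ w = (((ζ ^ l) ^ i : Fˣ) : F) • w := by
      intro i w hw
      induction i with
      | zero => rw [pow_zero, pow_zero, one_mulVec', Units.val_one, one_smul]
      | succ i ih =>
        rw [pow_succ, mul_mulVec, hw, Matrix.mulVec_smul, ih, pow_succ, Units.val_mul, smul_smul,
          mul_comm]
    rw [mul_mulVec, mul_mulVec, hpowv j _ hgv, sc_mulVec, smul_smul] at hv1
    -- now `(θ^T ζ^(l j)) • g v = c • v`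
    have hunit : ((ζ ^ k) ^ (j * (j - 1) / 2) : Fˣ) * (ζ ^ l) ^ j =
        ζ ^ (k * (j * (j - 1) / 2) + l * j) := by
      rw [← pow_mul, ← pow_mul, ← pow_add]
    have hv1' : ((ζ ^ (k * (j * (j - 1) / 2) + l * j) : Fˣ) : F) •
        ((g : Matrix (Fin n) (Fin n) F) *ᵥ v) = c • v := by
      rw [← hunit, Units.val_mul]
      exact hv1
    have h3 := congrArg
      (fun x => (((ζ ^ (k * (j * (j - 1) / 2) + l * j))⁻¹ : Fˣ) : F) • x) hv1'
    simp only [smul_smul] at h3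
    rw [← Units.val_mul, inv_mul_cancel, Units.val_one, one_smul] at h3
    rw [h3, mul_comm]
  calc r * finrank F (Eig g c)
      = ∑ j ∈ Finset.range r, finrank F (Eig g c) := by
        rw [Finset.sum_const, Finset.card_range, smul_eq_mul]
    _ = ∑ j ∈ Finset.range r, ∑ l ∈ Finset.range r,
          finrank F (Eig (sc n ((ζ ^ k) ^ (j * (j - 1) / 2)) * c₁ ^ j * g) c ⊓
            Eig c₁ ((ζ ^ l : Fˣ) : F) : Submodule F (Fin n → F)) :=
        Finset.sum_congr rfl (fun j _ => hdec j)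
    _ ≤ ∑ j ∈ Finset.range r, ∑ l ∈ Finset.range r,
          finrank F (Eig g (c * (((ζ ^ (k * (j * (j - 1) / 2) + l * j))⁻¹ : Fˣ) : F)) ⊓
            Eig c₁ ((ζ ^ l : Fˣ) : F) : Submodule F (Fin n → F)) := by
        apply Finset.sum_le_sum
        intro j _
        apply Finset.sum_le_sum
        intro l _
        exact Submodule.finrank_mono (hle j l)
    _ = _ := Finset.sum_comm

end Cfsg.Agent.S5877P
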