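import Mathlib
import Cfsg.Agent.Helper13.PGDefs
import Cfsg.Agent.S1018

set_option autoImplicit false

/-!
# S2490 piece N45A: `n₁₁ = 45` gives a nontrivial `2`-element of `C_G(X)` with `23` fixed cosets
-/

namespace Cfsg.Agent.Helper23.PG

open Cfsg.Agent.Helper13.PG MulAction

variable {G : Type*} [Group G]

/-- powers of commuting elements acting the same way on a point -/
theorem n45a_pow_smul {Ω : Type*} [MulAction G Ω] (k x : G) (hkx : Commute k x) (β : Ω)
    (h : k • β = x • β) (m : ℕ) : k ^ m • β = x ^ m • β := by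
  induction m with
  | zero => simp
  | succ m ih =>
    rw [pow_succ, mul_smul, h, ← mul_smul, (hkx.pow_left m).eq, mul_smul, ih, ← mul_smul,
      ← pow_succ']

/-- a Sylow `11`-subgroup of a group of order `7920` has order `11` -/
theorem n45a_card_X [Finite G] (hord : Nat.card G = 7920) (X : Sylow 11 G) :
    Nat.card ↥(X : Subgroup G) = 11 := by
  have : Fact (Nat.Prime 11) := ⟨by norm_num⟩
  rw [Sylow.card_eq_multiplicity, hord]
  have h : (7920 : ℕ).factorization 11 = 1 := by
    have h1 : (7920 : ℕ) = 11 * 720 := by norm_num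
    rw [h1, Nat.factorization_mul (by norm_num) (by norm_num), Finsupp.add_apply,
      Nat.Prime.factorization_self (by norm_num),
      Nat.factorization_eq_zero_of_not_dvd (by norm_num)]
  rw [h, pow_one]

/-- the fixed points of `zpowers k` are the fixed points of `k` -/
theorem n45a_fixedPoints_zpowers {Ω : Type*} [MulAction G Ω] (k : G) :
    (fixedPoints ↥(Subgroup.zpowers k) Ω : Set Ω) = fixedBy Ω k := by
  ext β
  constructor
  · intro h
    exact h ⟨k, Subgroup.mem_zpowers k⟩
  · intro h g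
    have hk : k ∈ stabilizer G β := h
    have hle : Subgroup.zpowers k ≤ stabilizer G β := by
      rw [Subgroup.zpowers_le]; exact hk
    exact hle g.2

/-- N45A -/
theorem exists_two_element_many_fixed [Finite G] (hord : Nat.card G = 7920) (X : Sylow 11 G)
    (hcore : (Subgroup.normalizer ((X : Subgroup G) : Set G)).normalCore = ⊥)
    (hn : Nat.card (Sylow 11 G) = 45) :
    ∃ k : G, k ∈ Subgroup.centralizer ((X : Subgroup G) : Set G) ∧ k ≠ 1 ∧
      (∃ j : ℕ, orderOf k = 2 ^ j) ∧
      (Nat.card (fixedBy (G ⧸ Subgroup.normalizer ((X : Subgroup G) : Set G)) k) = 23 ∨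
        Nat.card (fixedBy (G ⧸ Subgroup.normalizer ((X : Subgroup G) : Set G)) k) = 34) := by
  have : Fact (Nat.Prime 11) := ⟨by norm_num⟩
  have hp11 : Nat.Prime 11 := by norm_num
  set H : Subgroup G := Subgroup.normalizer ((X : Subgroup G) : Set G) with hH
  set C : Subgroup G := Subgroup.centralizer ((X : Subgroup G) : Set G) with hC
  have hX11 : Nat.card ↥(X : Subgroup G) = 11 := n45a_card_X hord X
  have hXH : (X : Subgroup G) ≤ H := Subgroup.le_normalizer
  have hCH : C ≤ H := Subgroup.centralizer_le_normalizer _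
  have hidx : H.index = 45 := by rw [← hn]; exact (Sylow.card_eq_index_normalizer X).symm
  have hcardΩ : Nat.card (G ⧸ H) = 45 := hidx
  have hcardH : Nat.card ↥H = 176 := by
    have := Subgroup.card_mul_index H
    rw [hidx, hord] at this
    omega
  -- |C|
  have hXcyc : IsCyclic ↥(X : Subgroup G) := isCyclic_of_prime_card hX11
  have key := Subgroup.card_dvd_of_injective _
    (QuotientGroup.kerLift_injective (X : Subgroup G).normalizerMonoidHom)
  rw [Subgroup.normalizerMonoidHom_ker, ← Subgroup.index, ← Subgroup.relIndex,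
    IsCyclic.card_mulAut, hX11, Nat.totient_prime hp11] at key
  have hdcard : Nat.card ↥H = Nat.card ↥C * C.relIndex H := by
    have h1 := Subgroup.card_mul_index (C.subgroupOf H)
    rw [← h1, Subgroup.relIndex]
    congr 1
    exact (Nat.card_congr (Subgroup.subgroupOfEquivOfLe hCH).toEquiv)
  have h8 : 2 ^ 3 ∣ Nat.card ↥C := by
    rw [hcardH] at hdcard
    have hr : C.relIndex H ∣ 176 := ⟨Nat.card ↥C, by rw [hdcard]; ring⟩
    have hr2 : C.relIndex H ∣ Nat.gcd 10 176 := Nat.dvd_gcd key hr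
    have hg : Nat.gcd 10 176 = 2 := by norm_num
    rw [hg] at hr2
    have hle : C.relIndex H ≤ 2 := Nat.le_of_dvd (by norm_num) hr2
    have hpos : C.relIndex H ≠ 0 := by
      intro h0
      rw [h0] at hr2
      omega
    rcases (by omega : C.relIndex H = 1 ∨ C.relIndex H = 2) with h1 | h1
    · rw [h1] at hdcard
      exact ⟨22, by omega⟩
    · rw [h1] at hdcard
      exact ⟨11, by omega⟩
  obtain ⟨K₀, hK₀⟩ := Sylow.exists_subgroup_card_pow_prime 2 h8
  obtain ⟨K, hKdef⟩ : ∃ K : Subgroup G, K = K₀.map C.subtype := ⟨_, rfl⟩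
  have hKcard : Nat.card ↥K = 8 := by
    rw [hKdef, Subgroup.card_map_of_injective C.subtype_injective, hK₀]; norm_num
  have hKC : K ≤ C := hKdef ▸ Subgroup.map_subtype_le _
  have hK2 : ∀ k ∈ K, ∃ j : ℕ, orderOf k = 2 ^ j := by
    intro k hk
    have h1 : orderOf k ∣ 2 ^ 3 := by
      have := Subgroup.orderOf_dvd_natCard K hk
      rw [hKcard] at this
      exact this
    obtain ⟨j, -, hj⟩ := (Nat.dvd_prime_pow Nat.prime_two).mp h1
    exact ⟨j, hj⟩
  -- the action on cosets
  set α : G ⧸ H := ((1 : G) : G ⧸ H) with hα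
  have hHα : ∀ h ∈ H, h • α = α := by
    intro h hh
    rw [hα, MulAction.Quotient.smul_mk, QuotientGroup.eq]
    simpa using hh
  have hcomm : ∀ k ∈ C, ∀ x ∈ (X : Subgroup G), Commute k x := by
    intro k hk x hx
    exact ((Subgroup.mem_centralizer_iff.mp hk) x hx).symm
  -- nontrivial elements of X fix only α
  have hS := (Cfsg.Agent.S1018.result 11 X hX11).1
  have hXfix : ∀ x ∈ (X : Subgroup G), x ≠ 1 → ∀ β : G ⧸ H, x • β = β → β = α := by
    intro x hx hx1 β hβ
    have hxo : orderOf x = 11 := by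
      have h1 : orderOf x ∣ 11 := by
        have := Subgroup.orderOf_dvd_natCard (X : Subgroup G) hx
        rw [hX11] at this
        exact this
      rcases (Nat.dvd_prime hp11).mp h1 with h2 | h2
      · exact absurd (orderOf_eq_one_iff.mp h2) hx1
      · exact h2
    have hc := hS x hxo
    obtain ⟨hsub, -⟩ := Nat.card_eq_one_iff_unique.mp hc
    have hαm : α ∈ fixedBy (G ⧸ H) x := hHα x (hXH hx)
    have hβm : β ∈ fixedBy (G ⧸ H) x := hβ
    have := hsub.elim (⟨β, hβm⟩ : fixedBy (G ⧸ H) x) ⟨α, hαm⟩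
    exact congrArg Subtype.val this
  -- key lemma: a 2-element of C mapping β into X β fixes it (β ≠ α)
  have hP1 : ∀ k ∈ C, (∃ j : ℕ, orderOf k = 2 ^ j) → ∀ x ∈ (X : Subgroup G),
      ∀ β : G ⧸ H, β ≠ α → k • β = x • β → x = 1 := by
    intro k hk ⟨j, hj⟩ x hx β hβ hkx
    have h1 := n45a_pow_smul k x (hcomm k hk x hx) β hkx (2 ^ j)
    rw [← hj, pow_orderOf_eq_one, one_smul, hj] at h1
    by_contra hx1
    have hpow1 : x ^ (2 ^ j) = 1 := by
      by_contra hne
      exact hβ (hXfix _ (Subgroup.pow_mem _ hx _) hne β h1.symm)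
    have hxo : orderOf x ∣ 11 := by
      have := Subgroup.orderOf_dvd_natCard (X : Subgroup G) hx
      rw [hX11] at this
      exact this
    have hxo2 : orderOf x ∣ 2 ^ j := orderOf_dvd_of_pow_eq_one hpow1
    have hcop : Nat.Coprime 11 (2 ^ j) := Nat.Coprime.pow_right _ (by norm_num)
    have : orderOf x = 1 := Nat.eq_one_of_dvd_coprimes hcop hxo hxo2
    exact hx1 (orderOf_eq_one_iff.mp this)
  -- a point β ≠ α
  obtain ⟨β, hβ⟩ : ∃ β : G ⧸ H, β ≠ α := by
    by_contra hall
    push Not at hall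
    have : Nat.card (G ⧸ H) ≤ 1 := by
      have : Subsingleton (G ⧸ H) := ⟨fun a b => (hall a).trans (hall b).symm⟩
      exact Finite.card_le_one_iff_subsingleton.mpr this
    omega
  -- some nontrivial k ∈ K fixes β
  obtain ⟨k, hkK, hk1, hkβ⟩ : ∃ k ∈ K, k ≠ 1 ∧ k • β = β := by
    by_contra hall
    push Not at hall
    have hinj : Function.Injective
        (fun q : ↥K × ↥(X : Subgroup G) => ((q.2 : G) * (q.1 : G)) • β) := by
      rintro ⟨k₁, x₁⟩ ⟨k₂, x₂⟩ heq
      simp only at heq
      have hc2 : Commute (k₂ : G) ((x₁ : G)⁻¹ * (x₂ : G)) :=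
        hcomm _ (hKC k₂.2) _ (Subgroup.mul_mem _ (Subgroup.inv_mem _ x₁.2) x₂.2)
      have h2 : (((k₂ : G)⁻¹ * (k₁ : G))) • β = ((x₁ : G)⁻¹ * (x₂ : G)) • β := by
        have h3 : (k₁ : G) • β = ((x₁ : G)⁻¹ * ((x₂ : G) * (k₂ : G))) • β := by
          rw [mul_smul (x₁ : G)⁻¹, ← heq, ← mul_smul, inv_mul_cancel_left]
        rw [mul_smul, h3, ← mul_smul]
        congr 1
        rw [← mul_assoc (x₁ : G)⁻¹, ← hc2.eq, inv_mul_cancel_left]
      have hkm : (k₂ : G)⁻¹ * (k₁ : G) ∈ K := Subgroup.mul_mem _ (Subgroup.inv_mem _ k₂.2) k₁.2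
      have hxm : (x₁ : G)⁻¹ * (x₂ : G) ∈ (X : Subgroup G) :=
        Subgroup.mul_mem _ (Subgroup.inv_mem _ x₁.2) x₂.2
      have hx1 := hP1 _ (hKC hkm) (hK2 _ hkm) _ hxm β hβ h2
      rw [hx1, one_smul] at h2
      have hk1 : (k₂ : G)⁻¹ * (k₁ : G) = 1 := by
        by_contra hne
        exact hall _ hkm hne h2
      have e1 : (k₁ : G) = k₂ := by
        have := inv_mul_eq_one.mp hk1
        exact this.symm
      have e2 : (x₁ : G) = x₂ := inv_mul_eq_one.mp hx1
      exact Prod.ext (Subtype.ext e1) (Subtype.ext e2)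
    have hle := Nat.card_le_card_of_injective _ hinj
    rw [Nat.card_prod, hKcard, hX11, hcardΩ] at hle
    omega
  have hkC : k ∈ C := hKC hkK
  obtain ⟨j, hj⟩ := hK2 k hkK
  refine ⟨k, hkC, hk1, ⟨j, hj⟩, Or.inl ?_⟩
  -- parity
  have hodd : Nat.card (fixedBy (G ⧸ H) k) % 2 = 1 := by
    have hz : IsPGroup 2 ↥(Subgroup.zpowers k) := by
      apply IsPGroup.of_card (n := j)
      rw [Nat.card_zpowers, hj]
    have : Fact (Nat.Prime 2) := ⟨Nat.prime_two⟩
    have h1 := hz.card_modEq_card_fixedPoints (G ⧸ H)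
    have hfp : (fixedPoints ↥(Subgroup.zpowers k) (G ⧸ H) : Set (G ⧸ H)) = fixedBy (G ⧸ H) k :=
      n45a_fixedPoints_zpowers k
    rw [hfp, hcardΩ] at h1
    have h2 : 45 % 2 = Nat.card (fixedBy (G ⧸ H) k) % 2 := h1
    omega
  -- mod 11
  have h11 : Nat.card (fixedBy (G ⧸ H) k) % 11 = 1 := by
    let S : SubMulAction ↥(X : Subgroup G) (G ⧸ H) :=
      { carrier := fixedBy (G ⧸ H) k
        smul_mem' := by
          intro c γ hγ
          have hγ' : k • γ = γ := hγ
          show k • (c • γ) = c • γ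
          have hcc : Commute k (c : G) := hcomm k hkC c c.2
          have hcγ : c • γ = (c : G) • γ := rfl
          rw [hcγ, ← mul_smul, hcc.eq, mul_smul, hγ'] }
    have h1 := (X.2).card_modEq_card_fixedPoints ↥S
    have hScard : Nat.card ↥S = Nat.card (fixedBy (G ⧸ H) k) := rfl
    have hfix1 : Nat.card (fixedPoints ↥(X : Subgroup G) ↥S) = 1 := by
      rw [Nat.card_eq_one_iff_unique]
      have hαS : α ∈ S := hHα k (hCH hkC)
      obtain ⟨x, hx1⟩ : ∃ x : ↥(X : Subgroup G), x ≠ 1 := by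
        have : Nontrivial ↥(X : Subgroup G) := by
          rw [← Finite.one_lt_card_iff_nontrivial, hX11]; norm_num
        exact exists_ne 1
      constructor
      · constructor
        rintro ⟨⟨a, haS⟩, ha⟩ ⟨⟨b, hbS⟩, hb⟩
        have ha' : (x : G) • a = a := by
          have := ha x
          exact congrArg Subtype.val this
        have hb' : (x : G) • b = b := by
          have := hb x
          exact congrArg Subtype.val this
        have hxne : (x : G) ≠ 1 := fun h => hx1 (Subtype.ext h)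
        have e1 := hXfix _ x.2 hxne a ha'
        have e2 := hXfix _ x.2 hxne b hb'
        apply Subtype.ext
        apply Subtype.ext
        show a = b
        rw [e1, e2]
      · refine ⟨⟨⟨α, hαS⟩, ?_⟩⟩
        intro c
        apply Subtype.ext
        show (c : G) • α = α
        exact hHα _ (hXH c.2)
    rw [hScard, hfix1] at h1
    have h2 : Nat.card (fixedBy (G ⧸ H) k) % 11 = 1 % 11 := h1
    omega
  -- bounds
  have hle : Nat.card (fixedBy (G ⧸ H) k) ≤ 45 := by
    rw [← hcardΩ]
    exact Nat.card_le_card_of_injective _ Subtype.val_injective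
  have hne1 : Nat.card (fixedBy (G ⧸ H) k) ≠ 1 := by
    intro h1
    obtain ⟨hsub, -⟩ := Nat.card_eq_one_iff_unique.mp h1
    have hαm : α ∈ fixedBy (G ⧸ H) k := hHα k (hCH hkC)
    have hβm : β ∈ fixedBy (G ⧸ H) k := hkβ
    have := hsub.elim (⟨β, hβm⟩ : fixedBy (G ⧸ H) k) ⟨α, hαm⟩
    exact hβ (congrArg Subtype.val this)
  have hne45 : Nat.card (fixedBy (G ⧸ H) k) ≠ 45 := by
    intro h45
    have huniv : fixedBy (G ⧸ H) k = Set.univ := by
      apply Set.eq_of_subset_of_ncard_le (Set.subset_univ _) _ Set.finite_univ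
      rw [Set.ncard_univ, hcardΩ, ← Nat.card_coe_set_eq, h45]
    have hkcore : k ∈ H.normalCore := by
      intro b
      have hmem : ((b⁻¹ : G) : G ⧸ H) ∈ fixedBy (G ⧸ H) k := by
        rw [huniv]; exact Set.mem_univ _
      have h2 : k • ((b⁻¹ : G) : G ⧸ H) = ((b⁻¹ : G) : G ⧸ H) := hmem
      rw [MulAction.Quotient.smul_mk, QuotientGroup.eq] at h2
      have h3 : (k • b⁻¹)⁻¹ * b⁻¹ = (b * k * b⁻¹)⁻¹ := by
        rw [smul_eq_mul]; group
      rw [h3] at h2
      exact (Subgroup.inv_mem_iff _).mp h2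
    rw [hcore, Subgroup.mem_bot] at hkcore
    exact hk1 hkcore
  omega

end Cfsg.Agent.Helper23.PG
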