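import Mathlib
import Cfsg.Agent.Helper2.S2096.Defs
import Cfsg.Agent.Helper2.Transvec

/-! S2096 piece PIHALF (helper23): the matrix of the image of `SL_n` in a half. -/

set_option autoImplicit false
set_option linter.unusedSectionVars false
set_option linter.unusedVariables false

namespace Cfsg.Agent.S2096P

open Matrix Cfsg.Agent.S3352P Cfsg.Agent.S3351P Cfsg.Agent.S2086P

variable {n : ℕ} {F : Type*} [Field F] [Fintype F] {M : Type*} [Group M] {X : J n → J n → F → M}

namespace PIHALF

/-- the block diagonal embedding `g ↦ diag(g, g⁻ᵀ)` -/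
def blk (n : ℕ) (F : Type*) [Field F] :
    Matrix.SpecialLinearGroup (Fin n) F →* Matrix (J n) (J n) F where
  toFun g := Matrix.fromBlocks (g : Matrix (Fin n) (Fin n) F) 0 0
      ((g⁻¹ : Matrix.SpecialLinearGroup (Fin n) F) : Matrix (Fin n) (Fin n) F)ᵀ
  map_one' := by
    rw [inv_one, Matrix.SpecialLinearGroup.coe_one, Matrix.transpose_one, Matrix.fromBlocks_one]
  map_mul' := by
    intro g h
    rw [Matrix.fromBlocks_multiply, _root_.mul_inv_rev, Matrix.SpecialLinearGroup.coe_mul,
      Matrix.SpecialLinearGroup.coe_mul, Matrix.transpose_mul]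
    simp

theorem blk_apply (g : Matrix.SpecialLinearGroup (Fin n) F) :
    blk n F g = Matrix.fromBlocks (g : Matrix (Fin n) (Fin n) F) 0 0
      ((g⁻¹ : Matrix.SpecialLinearGroup (Fin n) F) : Matrix (Fin n) (Fin n) F)ᵀ := rfl

theorem blk_transvection {i j : Fin n} (hij : i ≠ j) (t : F) :
    blk n F (Matrix.SpecialLinearGroup.transvection hij t) =
      xm (Sum.inl i : J n) (Sum.inl j) t := by
  rw [blk_apply, Matrix.SpecialLinearGroup.transvection_inv,
    Matrix.SpecialLinearGroup.transvection_coe, Matrix.SpecialLinearGroup.transvection_coe]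
  unfold xm
  rw [ng_inl, ng_inl]
  ext (a | a) (b | b)
  · simp [Matrix.single_apply, Matrix.one_apply]
  · simp
  · simp
  · simp only [Matrix.fromBlocks_apply₂₂, Matrix.transpose_apply, Matrix.add_apply,
      Matrix.one_apply, Matrix.single_apply, Matrix.smul_apply, Matrix.sub_apply, Sum.inr.injEq,
      reduceCtorEq, false_and, if_false, zero_sub, smul_eq_mul]
    have e1 : (if b = a then (1 : F) else 0) = if a = b then 1 else 0 := by
      by_cases hab : a = b
      · rw [if_pos hab, if_pos hab.symm]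
      · rw [if_neg hab, if_neg (Ne.symm hab)]
    have e2 : (if i = b ∧ j = a then -t else 0) = t * -(if j = a ∧ i = b then (1 : F) else 0) := by
      by_cases h : j = a ∧ i = b
      · rw [if_pos h, if_pos ⟨h.2, h.1⟩, mul_neg, mul_one]
      · rw [if_neg h, if_neg (fun h' => h ⟨h'.2, h'.1⟩), neg_zero, mul_zero]
    rw [e1, e2]

end PIHALF

/-- PIHALF -/
theorem pi_Theta (π : M →* Matrix (J n) (J n) F)
    (hπ : ∀ a b, IsRoot a b → ∀ t : F, π (X a b t) = xm a b t) (Θ : Matrix.SpecialLinearGroup (Fin n) F →* M)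
    (hΘ : ∀ (i j : Fin n) (hij : i ≠ j) (t : F),
      Θ (Matrix.SpecialLinearGroup.transvection hij t) = X (Sum.inl i) (Sum.inl j) t) (g : Matrix.SpecialLinearGroup (Fin n) F) :
    π (Θ g) = Matrix.fromBlocks (g : Matrix (Fin n) (Fin n) F) 0 0
      ((g⁻¹ : Matrix.SpecialLinearGroup (Fin n) F) : Matrix (Fin n) (Fin n) F)ᵀ := by
  rw [← PIHALF.blk_apply]
  rcases subsingleton_or_nontrivial (Fin n) with hs | hnt
  · rw [Subsingleton.elim g 1, map_one, map_one, map_one]
  · refine Cfsg.Agent.Helper2.SL_transvection_induction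
      (fun g => π (Θ g) = PIHALF.blk n F g) ?_ ?_ g
    · intro i j hij t
      have hr : IsRoot (Sum.inl i : J n) (Sum.inl j) :=
        isRoot_iff_ab.2 (by simpa using hij)
      show π (Θ (Matrix.SpecialLinearGroup.transvection hij t)) = _
      rw [hΘ i j hij t, hπ _ _ hr, PIHALF.blk_transvection hij t]
    · intro A B hA hB
      show π (Θ (A * B)) = PIHALF.blk n F (A * B)
      rw [map_mul, map_mul, map_mul, hA, hB]

end Cfsg.Agent.S2096P
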