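import Mathlib
import Cfsg.Agent.Helper2.S2099.DefsR
import Cfsg.Agent.Helper2.S2099.DefsN
import Cfsg.Agent.Helper23.S2096PIHALF
import Cfsg.Agent.Helper24.S2099XMATQ

set_option autoImplicit false
set_option linter.unusedSectionVars false
set_option linter.unusedVariables false

/-! S2099 chapter N, piece PIHALFQ (helper23; driver helper2): the matrix of `Θ g`, `g ∈ SL_n(F)`,
is `blkQ (diag (g, g⁻ᵀ))`. Port of S2094 PIHALFB. -/

namespace Cfsg.Agent.S2099P

open Matrix Cfsg.Agent.S3352P Cfsg.Agent.S3351P Cfsg.Agent.S2096P Cfsg.Agent.S2086P Cfsg.Agent.RGD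
open Cfsg.Agent.S2094P (RB RootB sc NgEquivariant mapB reflB MD XD XD_coe isRoot_ng_right'
  isRoot_ng_left' sw_ngEquivariant sc_ngEquivariant)

section pi

variable {n : ℕ} {F : Type*} [Field F] {κ : Type} [Fintype κ] [DecidableEq κ]
  {M : Type*} [Group M] {Q0 : QuadraticForm F (κ → F)} {X : J n → J n → F → M}
  {Ys : J n → (κ → F) → M}

/-- PIHALFQ -/
theorem pi_Theta_Q [Fintype F] (π : M →* Matrix (IQ n κ) (IQ n κ) F)
    (hπX : ∀ a b, IsRoot a b → ∀ t : F, π (X a b t) = xmQ a b t)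
    (Θ : Matrix.SpecialLinearGroup (Fin n) F →* M)
    (hΘ : ∀ (i j : Fin n) (hij : i ≠ j) (t : F),
      Θ (Matrix.SpecialLinearGroup.transvection hij t) = X (Sum.inl i) (Sum.inl j) t)
    (g : Matrix.SpecialLinearGroup (Fin n) F) :
    π (Θ g) = blkQ (Matrix.fromBlocks (g : Matrix (Fin n) (Fin n) F) 0 0
      ((g⁻¹ : Matrix.SpecialLinearGroup (Fin n) F) : Matrix (Fin n) (Fin n) F)ᵀ) := by
  rw [← PIHALF.blk_apply]
  rcases subsingleton_or_nontrivial (Fin n) with hs | hnt
  · rw [Subsingleton.elim g 1, map_one, map_one, map_one, blkQ_one]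
  · refine Cfsg.Agent.Helper2.SL_transvection_induction
      (fun g => π (Θ g) = blkQ (PIHALF.blk n F g)) ?_ ?_ g
    · intro i j hij t
      have hr : IsRoot (Sum.inl i : J n) (Sum.inl j) :=
        isRoot_iff_ab.2 (by simpa using hij)
      show π (Θ (Matrix.SpecialLinearGroup.transvection hij t)) = _
      rw [hΘ i j hij t, hπX _ _ hr, PIHALF.blk_transvection hij t]
      rfl
    · intro A B hA hB
      show π (Θ (A * B)) = blkQ (PIHALF.blk n F (A * B))
      rw [map_mul, map_mul, map_mul, hA, hB, blkQ_mul]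

end pi

end Cfsg.Agent.S2099P
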