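import Mathlib
import Cfsg.Agent.Helper2.S2099.DefsR
import Cfsg.Agent.Helper2.S2099.DefsN
import Cfsg.Agent.Helper20.S2099MODELQ
import Cfsg.Agent.Helper20.S2099BLOCKQ
import Cfsg.Agent.Helper23.S2094PITB

set_option autoImplicit false
set_option linter.unusedSectionVars false
set_option linter.unusedVariables false

/-! S2099 chapter N, piece PITQ (helper23; driver helper2): the matrices of the Weyl and torus
elements. Port of S2094 PITB. -/

namespace Cfsg.Agent.S2099P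

open Matrix Cfsg.Agent.S3352P Cfsg.Agent.S3351P Cfsg.Agent.S2096P Cfsg.Agent.S2086P Cfsg.Agent.RGD
open Cfsg.Agent.S2094P (RB RootB sc NgEquivariant mapB reflB MD XD XD_coe isRoot_ng_right'
  isRoot_ng_left' sw_ngEquivariant sc_ngEquivariant)

section pi

variable {n : ℕ} {F : Type*} [Field F] {κ : Type} [Fintype κ] [DecidableEq κ]
  {M : Type*} [Group M] {Q0 : QuadraticForm F (κ → F)} {X : J n → J n → F → M}
  {Ys : J n → (κ → F) → M}

namespace PITQ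

open MODELQ

/-- the basis vector `e_c` -/
def E (n : ℕ) (F : Type*) [Field F] (κ : Type) [DecidableEq κ] (c : J n) : IQ n κ → F :=
  Pi.single (Sum.inl c) 1

theorem E_def (c : J n) : E n F κ c = Pi.single (Sum.inl c) 1 := rfl

theorem inP_add (w v : κ → F) : inP (n := n) (w + v) = inP w + inP v := by
  funext k
  rcases k with c | k <;> simp [inP]

theorem inP_sub (w v : κ → F) : inP (n := n) (w - v) = inP w - inP v := by
  funext k
  rcases k with c | k <;> simp [inP]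

theorem inP_smul (c : F) (w : κ → F) : inP (n := n) (c • w) = c • inP w := by
  funext k
  rcases k with c' | k <;> simp [inP]

theorem inP_single (k : κ) :
    inP (n := n) (Pi.single k (1 : F)) = Pi.single (Sum.inr k) 1 := by
  funext j
  rcases j with c | j
  · simp [inP]
  · simp [inP, Pi.single_apply]

theorem comp_inr_E (c : J n) : (fun k => E n F κ c (Sum.inr k)) = 0 := by
  funext k
  simp [E]

theorem comp_inr_inP (z : κ → F) : (fun k => inP (n := n) z (Sum.inr k)) = z := rfl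

/-- `ymQ a w` fixes `e_c`, `c ≠ -a` -/
theorem ymQ_E_of_ne (a : J n) (w : κ → F) {c : J n} (h : c ≠ ng a) :
    ymQ Q0 a w *ᵥ E n F κ c = E n F κ c := by
  rw [ymQ_mulVec, comp_inr_E]
  have h0 : E n F κ c (Sum.inl (ng a)) = 0 := by
    unfold E
    rw [Pi.single_eq_of_ne]
    intro h'
    exact h (Sum.inl_injective h').symm
  have hp : QuadraticMap.polar Q0 (0 : κ → F) w = 0 := by
    have := QuadraticMap.polar_smul_left Q0 (0 : F) (0 : κ → F) w
    simpa using this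
  rw [h0, hp, zero_smul, zero_smul, mul_zero, zero_smul, sub_zero, add_zero, sub_zero]

theorem ymQ_E_ng (a : J n) (w : κ → F) :
    ymQ Q0 a w *ᵥ E n F κ (ng a) = E n F κ (ng a) - inP w - Q0 w • E n F κ a := by
  rw [ymQ_mulVec, comp_inr_E]
  have h0 : E n F κ (ng a) (Sum.inl (ng a)) = 1 := by
    unfold E
    rw [Pi.single_eq_same]
  have hp : QuadraticMap.polar Q0 (0 : κ → F) w = 0 := by
    have := QuadraticMap.polar_smul_left Q0 (0 : F) (0 : κ → F) w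
    simpa using this
  rw [h0, hp, one_smul, zero_smul, mul_one, add_zero]
  rfl

theorem ymQ_ng_E (a : J n) (w : κ → F) :
    ymQ Q0 (ng a) w *ᵥ E n F κ a = E n F κ a - inP w - Q0 w • E n F κ (ng a) := by
  have := ymQ_E_ng (Q0 := Q0) (ng a) w
  rw [ng_ng] at this
  exact this

theorem ymQ_inP (a : J n) (w z : κ → F) :
    ymQ Q0 a w *ᵥ inP z = inP z + QuadraticMap.polar Q0 z w • E n F κ a := by
  rw [ymQ_mulVec, comp_inr_inP, inP_inl, zero_smul, mul_zero, zero_smul, sub_zero, sub_zero]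
  rfl

/-! ### the Weyl matrix -/

theorem pi_wY (π : M →* Matrix (IQ n κ) (IQ n κ) F)
    (hπY : ∀ a, ∀ w : κ → F, π (Ys a w) = ymQ Q0 a w) (a : J n) (w : κ → F) :
    π (wY Q0 Ys a w) = ymQ Q0 a w * ymQ Q0 (ng a) ((Q0 w)⁻¹ • w) * ymQ Q0 a w := by
  unfold wY
  rw [map_mul, map_mul, hπY, hπY]

theorem Q0_mid {w : κ → F} (hw : Q0 w ≠ 0) : Q0 ((Q0 w)⁻¹ • w) = (Q0 w)⁻¹ := by
  rw [QuadraticMap.map_smul, smul_eq_mul, mul_assoc, inv_mul_cancel₀ hw, mul_one]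

theorem polar_self' (w : κ → F) : QuadraticMap.polar Q0 w w = 2 * Q0 w := by
  rw [QuadraticMap.polar_self, two_nsmul, two_mul]

theorem polar_mid_left {w : κ → F} (hw : Q0 w ≠ 0) :
    QuadraticMap.polar Q0 ((Q0 w)⁻¹ • w) w = 2 := by
  rw [QuadraticMap.polar_smul_left, polar_self', smul_eq_mul]
  field_simp

theorem polar_mid_right' {w : κ → F} (hw : Q0 w ≠ 0) :
    QuadraticMap.polar Q0 w ((Q0 w)⁻¹ • w) = 2 := by
  rw [QuadraticMap.polar_comm, polar_mid_left hw]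

theorem polar_mid_right (w z : κ → F) :
    QuadraticMap.polar Q0 z ((Q0 w)⁻¹ • w) = (Q0 w)⁻¹ * QuadraticMap.polar Q0 z w := by
  rw [QuadraticMap.polar_smul_right, smul_eq_mul]

/-- the Weyl matrix on `e_a` -/
theorem w_self (a : J n) {w : κ → F} (hw : Q0 w ≠ 0) :
    (ymQ Q0 a w * ymQ Q0 (ng a) ((Q0 w)⁻¹ • w) * ymQ Q0 a w) *ᵥ E n F κ a =
      (-(Q0 w)⁻¹) • E n F κ (ng a) := by
  have hq : (Q0 w)⁻¹ * Q0 w = 1 := inv_mul_cancel₀ hw
  rw [← Matrix.mulVec_mulVec, ← Matrix.mulVec_mulVec, ymQ_E_of_ne a w (ng_ne a).symm, ymQ_ng_E,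
    Matrix.mulVec_sub, Matrix.mulVec_sub, Matrix.mulVec_smul, ymQ_E_of_ne a w (ng_ne a).symm,
    ymQ_inP, ymQ_E_ng, Q0_mid hw, polar_mid_left hw, inP_smul]
  have h1 : ((Q0 w)⁻¹ * Q0 w) • E n F κ a = E n F κ a := by rw [hq, one_smul]
  linear_combination (norm := module) h1

/-- the Weyl matrix on `e_{-a}` -/
theorem w_ng (a : J n) {w : κ → F} (hw : Q0 w ≠ 0) :
    (ymQ Q0 a w * ymQ Q0 (ng a) ((Q0 w)⁻¹ • w) * ymQ Q0 a w) *ᵥ E n F κ (ng a) =
      (-(Q0 w)) • E n F κ a := by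
  have hq : (Q0 w)⁻¹ * Q0 w = 1 := inv_mul_cancel₀ hw
  have hfix : ymQ Q0 (ng a) ((Q0 w)⁻¹ • w) *ᵥ E n F κ (ng a) = E n F κ (ng a) :=
    ymQ_E_of_ne (ng a) _ (by rw [ng_ng]; exact ng_ne a)
  rw [← Matrix.mulVec_mulVec, ← Matrix.mulVec_mulVec, ymQ_E_ng]
  simp only [Matrix.mulVec_sub, Matrix.mulVec_add, Matrix.mulVec_smul, hfix, ymQ_inP, ymQ_ng_E,
    ymQ_E_ng, ymQ_E_of_ne a w (ng_ne a).symm, Q0_mid hw, polar_mid_right' hw, inP_smul, polar_self']
  have h1 : ((Q0 w)⁻¹ * Q0 w) • E n F κ a = E n F κ a := by rw [hq, one_smul]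
  have h2 : ((Q0 w)⁻¹ * Q0 w) • E n F κ (ng a) = E n F κ (ng a) := by rw [hq, one_smul]
  linear_combination (norm := module) h2 + (Q0 w) • h1

/-- the Weyl matrix on the other basis vectors -/
theorem w_other (a : J n) (w : κ → F) {c : J n} (h1 : c ≠ a) (h2 : c ≠ ng a) :
    (ymQ Q0 a w * ymQ Q0 (ng a) ((Q0 w)⁻¹ • w) * ymQ Q0 a w) *ᵥ E n F κ c = E n F κ c := by
  have h1' : c ≠ ng (ng a) := by rw [ng_ng]; exact h1
  rw [← Matrix.mulVec_mulVec, ← Matrix.mulVec_mulVec, ymQ_E_of_ne a w h2,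
    ymQ_E_of_ne (ng a) _ h1', ymQ_E_of_ne a w h2]

/-- the Weyl matrix on the anisotropic part: the reflection -/
theorem w_inP (a : J n) {w : κ → F} (hw : Q0 w ≠ 0) (z : κ → F) :
    (ymQ Q0 a w * ymQ Q0 (ng a) ((Q0 w)⁻¹ • w) * ymQ Q0 a w) *ᵥ inP z =
      inP (rfl0 Q0 w z) := by
  rw [← Matrix.mulVec_mulVec, ← Matrix.mulVec_mulVec, ymQ_inP]
  simp only [Matrix.mulVec_sub, Matrix.mulVec_add, Matrix.mulVec_smul, ymQ_inP, ymQ_ng_E,
    ymQ_E_ng, ymQ_E_of_ne a w (ng_ne a).symm, Q0_mid hw, polar_mid_right, inP_smul, polar_self']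
  unfold rfl0
  rw [inP_sub, inP_smul]
  have hq : (Q0 w)⁻¹ * Q0 w = 1 := inv_mul_cancel₀ hw
  have h1 : ((Q0 w)⁻¹ * Q0 w) • E n F κ a = E n F κ a := by rw [hq, one_smul]
  linear_combination (norm := module) (-(2 * QuadraticMap.polar Q0 z w)) • h1

/-! ### the torus matrix -/

/-- a reflection is an involution -/
theorem rfl0_rfl0 {e₁ : κ → F} (he₁ : Q0 e₁ = 1) (z : κ → F) :
    rfl0 Q0 e₁ (rfl0 Q0 e₁ z) = z := by
  unfold rfl0
  rw [QuadraticMap.polar_sub_left, QuadraticMap.polar_smul_left, polar_self', he₁, inv_one,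
    smul_eq_mul]
  module

theorem fromBlocks_E (d : J n → F) (R : Matrix κ κ F) (c : J n) :
    Matrix.fromBlocks (Matrix.diagonal d) 0 0 R *ᵥ E n F κ c = d c • E n F κ c := by
  have h1 : (E n F κ c) ∘ Sum.inl = Pi.single c 1 := by
    funext c'
    simp [E, Pi.single_apply]
  have h2 : (E n F κ c) ∘ Sum.inr = 0 := by
    funext k
    simp [E]
  rw [Matrix.fromBlocks_mulVec, h1, h2, Matrix.diagonal_mulVec_single, mul_one, Matrix.mulVec_zero,
    Matrix.mulVec_zero, Matrix.zero_mulVec, add_zero, add_zero]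
  funext j
  rcases j with c' | k
  · simp [E, Pi.single_apply]
  · simp [E]

theorem fromBlocks_inP (d : J n → F) (R : Matrix κ κ F) (z : κ → F) :
    Matrix.fromBlocks (Matrix.diagonal d) 0 0 R *ᵥ inP (n := n) z = inP (R *ᵥ z) := by
  have h1 : (inP (n := n) z) ∘ Sum.inl = 0 := rfl
  have h2 : (inP (n := n) z) ∘ Sum.inr = z := rfl
  rw [Matrix.fromBlocks_mulVec, h1, h2, Matrix.mulVec_zero, Matrix.mulVec_zero, Matrix.zero_mulVec,
    add_zero, zero_add]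
  rfl

/-- the matrix of the inverse of the base Weyl element -/
theorem pi_wY_inv_mulVec (π : M →* Matrix (IQ n κ) (IQ n κ) F) (g : M) {x y : IQ n κ → F}
    (h : π g *ᵥ y = x) : π g⁻¹ *ᵥ x = y := by
  rw [← h, Matrix.mulVec_mulVec, ← map_mul, inv_mul_cancel, map_one, Matrix.one_mulVec]

end PITQ

open PITQ MODELQ

/-! ### PITQ: the matrices of the Weyl and torus elements -/

theorem pi_wY_mulVec_inl (π : M →* Matrix (IQ n κ) (IQ n κ) F)
    (hπY : ∀ a, ∀ w : κ → F, π (Ys a w) = ymQ Q0 a w) (a : J n) {w : κ → F} (hw : Q0 w ≠ 0)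
    (c : J n) :
    (π (wY Q0 Ys a w)).mulVec (Pi.single (Sum.inl c) 1) =
      if c = a then (-(Q0 w)⁻¹) • Pi.single (Sum.inl (ng a)) 1
      else if c = ng a then (-(Q0 w)) • Pi.single (Sum.inl a) 1
      else Pi.single (Sum.inl c) 1 := by
  rw [PITQ.pi_wY π hπY]
  by_cases h1 : c = a
  · rw [if_pos h1, h1]
    exact PITQ.w_self a hw
  rw [if_neg h1]
  by_cases h2 : c = ng a
  · rw [if_pos h2, h2]
    exact PITQ.w_ng a hw
  rw [if_neg h2]
  exact PITQ.w_other a w h1 h2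

theorem pi_wY_mulVec_inr (π : M →* Matrix (IQ n κ) (IQ n κ) F)
    (hπY : ∀ a, ∀ w : κ → F, π (Ys a w) = ymQ Q0 a w) (a : J n) {w : κ → F} (hw : Q0 w ≠ 0)
    (z : κ → F) :
    (π (wY Q0 Ys a w)).mulVec (Sum.elim (0 : J n → F) z) =
      Sum.elim (0 : J n → F) (rfl0 Q0 w z) := by
  rw [PITQ.pi_wY π hπY]
  exact PITQ.w_inP a hw z

theorem pi_tY (π : M →* Matrix (IQ n κ) (IQ n κ) F)
    (hπY : ∀ a, ∀ w : κ → F, π (Ys a w) = ymQ Q0 a w) {e₁ : κ → F} (he₁ : Q0 e₁ = 1)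
    (a : J n) {w : κ → F} (hw : Q0 w ≠ 0) :
    π (tY Q0 Ys e₁ a w) = Matrix.fromBlocks (Matrix.diagonal (fun c : J n =>
      if c = a then Q0 w else if c = ng a then (Q0 w)⁻¹ else 1)) 0 0 (rotM Q0 e₁ w) := by
  have he₁0 : Q0 e₁ ≠ 0 := by rw [he₁]; exact one_ne_zero
  have W1 := PITQ.pi_wY (Q0 := Q0) π hπY a e₁
  have Ww := PITQ.pi_wY (Q0 := Q0) π hπY a w
  apply Matrix.ext_of_mulVec_single
  intro c
  unfold tY
  rw [map_mul, ← Matrix.mulVec_mulVec]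
  rcases c with c | k
  · show π (wY Q0 Ys a w) *ᵥ π (wY Q0 Ys a e₁)⁻¹ *ᵥ E n F κ c = _ *ᵥ E n F κ c
    rw [PITQ.fromBlocks_E]
    by_cases h1 : c = a
    · subst h1
      have hy : π (wY Q0 Ys c e₁) *ᵥ (-E n F κ (ng c)) = E n F κ c := by
        rw [Matrix.mulVec_neg, W1, PITQ.w_ng c he₁0, he₁, neg_smul, one_smul, neg_neg]
      rw [PITQ.pi_wY_inv_mulVec π _ hy, Matrix.mulVec_neg, Ww, PITQ.w_ng c hw, if_pos rfl,
        neg_smul, neg_neg]
    · by_cases h2 : c = ng a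
      · subst h2
        have hy : π (wY Q0 Ys a e₁) *ᵥ (-E n F κ a) = E n F κ (ng a) := by
          rw [Matrix.mulVec_neg, W1, PITQ.w_self a he₁0, he₁, inv_one, neg_smul, one_smul, neg_neg]
        rw [PITQ.pi_wY_inv_mulVec π _ hy, Matrix.mulVec_neg, Ww, PITQ.w_self a hw, if_neg h1,
          if_pos rfl, neg_smul, neg_neg]
      · have hy : π (wY Q0 Ys a e₁) *ᵥ E n F κ c = E n F κ c := by
          rw [W1, PITQ.w_other a e₁ h1 h2]
        rw [PITQ.pi_wY_inv_mulVec π _ hy, Ww, PITQ.w_other a w h1 h2, if_neg h1, if_neg h2,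
          one_smul]
  · rw [← PITQ.inP_single (n := n) k]
    have hy : π (wY Q0 Ys a e₁) *ᵥ inP (rfl0 Q0 e₁ (Pi.single k 1)) =
        inP (n := n) (Pi.single k (1 : F)) := by
      rw [W1, PITQ.w_inP a he₁0, PITQ.rfl0_rfl0 he₁]
    rw [PITQ.pi_wY_inv_mulVec π _ hy, Ww, PITQ.w_inP a hw, PITQ.fromBlocks_inP, rotM_mulVec]

theorem pi_tX_Q (π : M →* Matrix (IQ n κ) (IQ n κ) F)
    (hπX : ∀ a b, IsRoot a b → ∀ t : F, π (X a b t) = xmQ a b t) {a b : J n} (hab : IsRoot a b)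
    {t : F} (ht : t ≠ 0) :
    π (tX X a b t) = blkQ (Matrix.diagonal (fun c => ev a b c t)) := by
  obtain ⟨πD, hπD, hblk⟩ := exists_piD (X := X) π hπX
  rw [← Cfsg.Agent.S2094P.coe_tX_XD hab t, hblk,
    Cfsg.Agent.S2094P.PITB.DN.pi_tX πD hπD hab ht]

end pi

end Cfsg.Agent.S2099P
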