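import Mathlib
import Cfsg.Agent.Helper13.S2276Defs
import Cfsg.Agent.Helper4.S2276NS3

/-! # S2276, piece S3A: two 3-cycles on `Fin 5` generating `A_5` with product a 5-cycle. -/

set_option autoImplicit false

namespace Cfsg.Agent.S2276P

open Equiv Equiv.Perm

namespace S3A

/-- `U = (0 1 2)` -/
def U : Perm (Fin 5) := swap 0 2 * swap 0 1

/-- `W = (2 3 4)` -/
def W : Perm (Fin 5) := swap 2 4 * swap 2 3

theorem U_three : U.IsThreeCycle :=
  isThreeCycle_swap_mul_swap_same (by decide) (by decide) (by decide)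

theorem W_three : W.IsThreeCycle :=
  isThreeCycle_swap_mul_swap_same (by decide) (by decide) (by decide)

theorem UW : U * W = finRotate 5 := by
  unfold U W
  decide

theorem order_UW : orderOf (U * W) = 5 := by
  have : Fact (Nat.Prime 5) := ⟨by norm_num⟩
  apply orderOf_eq_prime
  · rw [UW]; decide
  · rw [UW]; decide

end S3A

/-- S3A [M]: `U = (0 1 2)`, `W = (2 3 4)` on `Fin 5`: `U * W = finRotate 5` (5-cycle, not a 3-element),
`U` is a 3-cycle with `U 0 = 1 = c 0` (NS3 with `d = 1`). -/
theorem S3A.main : ∃ U W : Perm (Fin 5), U.cycleType = {3} ∧ W.cycleType = {3} ∧ Good 3 U W := by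
  refine ⟨S3A.U, S3A.W, S3A.U_three, S3A.W_three, ?_, ?_⟩
  · rintro ⟨k, hk⟩
    rw [S3A.order_UW] at hk
    have h3 : (3 : ℕ) ∣ 5 := by
      rcases k with _ | k
      · norm_num at hk
      · rw [hk, pow_succ]; exact dvd_mul_left _ _
    norm_num at h3
  · have hU : S3A.U ∈ Subgroup.closure ({S3A.U, S3A.W} : Set (Perm (Fin 5))) :=
      Subgroup.subset_closure (by simp)
    have hW : S3A.W ∈ Subgroup.closure ({S3A.U, S3A.W} : Set (Perm (Fin 5))) :=
      Subgroup.subset_closure (by simp)
    have hc : finRotate 5 ∈ Subgroup.closure ({S3A.U, S3A.W} : Set (Perm (Fin 5))) := by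
      rw [← S3A.UW]
      exact Subgroup.mul_mem _ hU hW
    exact NS3.main (r := 5) (by decide) (le_refl 5) _ hc hU S3A.U_three (x := 0) (d := 1)
      (by decide) (by unfold S3A.U; decide)

end Cfsg.Agent.S2276P
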