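import Mathlib
import Cfsg.Prelude.Def_Classical
import Cfsg.Agent.Helper13.S2511Defs

/-! S2511 pieces DETUNI, UORD (helper23): determinant and order of `1 + M`, `M` nilpotent. -/

set_option autoImplicit false
set_option linter.unusedSectionVars false

namespace Cfsg.Agent.S2511P

open Polynomial Matrix
open Cfsg.Agent.S2263P Cfsg.Agent.S2264P Cfsg.Agent.S2496P

section layerU

variable {F : Type*} [Field F]

/-- DETUNI (S-M) -/
theorem det_one_add_nilpotent {V : Type*} [AddCommGroup V] [Module F V] [FiniteDimensional F V]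
    (M : V →ₗ[F] V) (hM : IsNilpotent M) : LinearMap.det (1 + M) = 1 := by
  have h1 : IsNilpotent (-M) := hM.neg
  have h2 := IsNilpotent.charpoly_eq_X_pow_finrank h1
  have h3 := LinearMap.eval_charpoly (-M) (1 : F)
  rw [h2, eval_pow, eval_X, one_pow, map_one, sub_neg_eq_add] at h3
  exact h3.symm

variable [Fintype F] {p : ℕ} [Fact p.Prime] [CharP F p] {f q : ℕ}

/-- UORD (M) -/
theorem one_add_pow_eq_one_iff {V : Type*} [AddCommGroup V] [Module F V] (M : V →ₗ[F] V)
    (b k : ℕ) (hM : ∀ j : ℕ, M ^ j = 0 ↔ b ≤ j) (hb : 1 ≤ b) (hk : b ≤ p ^ k)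
    (hk' : k = 0 ∨ p ^ (k - 1) < b) (j : ℕ) : (1 + M) ^ j = 1 ↔ p ^ k ∣ j := by
  have hnt : Nontrivial (Module.End F V) := by
    refine ⟨⟨1, 0, ?_⟩⟩
    intro h10
    have := (hM 0).mp (by rw [pow_zero]; exact h10)
    omega
  have hchar : CharP (Module.End F V) p :=
    charP_of_injective_algebraMap (algebraMap F (Module.End F V)).injective p
  have hpow : ∀ i : ℕ, (1 + M) ^ p ^ i = 1 + M ^ p ^ i := by
    intro i
    rw [add_pow_char_pow_of_commute p i (Commute.one_left M), one_pow]
  have hfin : (1 + M) ^ p ^ k = 1 := by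
    rw [hpow, (hM (p ^ k)).mpr hk, add_zero]
  rcases hk' with rfl | hlt
  · rw [pow_zero, pow_one] at hfin
    rw [hfin, one_pow, pow_zero]
    simp
  · obtain ⟨n, rfl⟩ : ∃ n, k = n + 1 := by
      rcases k with _ | n
      · exfalso
        simp only [Nat.zero_sub, pow_zero] at hlt
        simp only [pow_zero] at hk
        omega
      · exact ⟨n, rfl⟩
    rw [Nat.add_sub_cancel] at hlt
    have hnot : ¬ (1 + M) ^ p ^ n = 1 := by
      rw [hpow]
      intro h
      have h0 : M ^ p ^ n = 0 := by
        have := congrArg (fun x => x - 1) h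
        simpa using this
      have := (hM (p ^ n)).mp h0
      omega
    have hord := orderOf_eq_prime_pow hnot hfin
    rw [← hord, orderOf_dvd_iff_pow_eq_one]

end layerU

end Cfsg.Agent.S2511P
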