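import Mathlib
import Cfsg.Prelude.Def_LieClassical
import Cfsg.Agent.Helper13.S2263Defs
import Cfsg.Agent.Helper16.S2496FROB

/-! S2263 pieces U2A, U2B (helper23): the hyperbolic plane `H2` and its unipotent `u2 t`. -/

set_option autoImplicit false
set_option linter.unusedSectionVars false

namespace Cfsg.Agent.S2263P

open Cfsg.Agent.S2496P

section general

variable {F : Type*} [Field F] [Fintype F] {p : ℕ} [Fact p.Prime] [CharP F p] {f q : ℕ}

/-- U2a -/
theorem isHerm_H2 (hq : q = p ^ f) (hF : Fintype.card F = q ^ 2) :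
    IsHerm (frob F p f) (H2 (frob F p f)) := by
  refine ⟨?_, ?_, ?_, ?_⟩
  · intro u u' v
    simp only [H2_apply, Prod.fst_add, Prod.snd_add]
    ring
  · intro c u v
    simp only [H2_apply, Prod.smul_fst, Prod.smul_snd, smul_eq_mul]
    ring
  · intro u v
    simp only [H2_apply, map_add, map_mul, frob_frob_F hq hF]
    ring
  · intro u hu
    have h1 := hu (0, 1)
    have h2 := hu (1, 0)
    simp only [H2_apply, map_one, map_zero, mul_one, mul_zero, add_zero, zero_add] at h1 h2
    exact Prod.ext h1 h2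

/-- U2a -/
theorem H2_u2 (t : F) (ht : t + frob F p f t = 0) (u v : F × F) :
    H2 (frob F p f) (u2 t u) (u2 t v) = H2 (frob F p f) u v := by
  simp only [H2_apply, u2_apply, map_add, map_mul]
  linear_combination (u.2 * frob F p f v.2) * ht

/-- U2b -/
theorem exists_trace_zero (hq : q = p ^ f) (hF : Fintype.card F = q ^ 2) :
    ∃ t : F, t ≠ 0 ∧ t + frob F p f t = 0 := by
  have hne : frob F p f ≠ RingHom.id F := frob_F_ne_id hq hF
  have hex : ∃ c : F, frob F p f c ≠ c := by
    by_contra hcon
    push Not at hcon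
    exact hne (RingHom.ext fun c => by rw [hcon c, RingHom.id_apply])
  obtain ⟨c, hc⟩ := hex
  refine ⟨c - frob F p f c, ?_, ?_⟩
  · intro h0
    exact hc (sub_eq_zero.mp h0).symm
  · rw [map_sub, frob_frob_F hq hF]
    ring

namespace U2B

theorem u2_comp {F : Type*} [Field F] (s t : F) : u2 s * u2 t = u2 (s + t) := by
  apply LinearMap.ext
  intro u
  rw [Module.End.mul_apply, u2_apply, u2_apply, u2_apply]
  apply Prod.ext
  · simp only
    ring
  · rfl

theorem u2_zero {F : Type*} [Field F] : u2 (0 : F) = 1 := by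
  apply LinearMap.ext
  intro u
  rw [u2_apply, Module.End.one_apply]
  apply Prod.ext
  · simp only
    ring
  · rfl

theorem u2_pow {F : Type*} [Field F] (t : F) (k : ℕ) : (u2 t) ^ k = u2 ((k : F) * t) := by
  induction k with
  | zero => rw [pow_zero, Nat.cast_zero, zero_mul, u2_zero]
  | succ k ih =>
    rw [pow_succ, ih, u2_comp]
    congr 1
    push_cast
    ring

theorem u2_eq_one_iff {F : Type*} [Field F] (s : F) : u2 s = 1 ↔ s = 0 := by
  constructor
  · intro h
    have h1 := congrArg (fun X : F × F →ₗ[F] F × F => (X (0, 1)).1) h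
    simp only [u2_apply, Module.End.one_apply, mul_one, zero_add] at h1
    exact h1
  · rintro rfl
    exact u2_zero

end U2B

/-- U2b -/
theorem u2_pow_eq_one_iff (t : F) (ht : t ≠ 0) (k : ℕ) : (u2 t) ^ k = 1 ↔ p ∣ k := by
  rw [U2B.u2_pow, U2B.u2_eq_one_iff, mul_eq_zero, or_iff_left ht]
  exact CharP.cast_eq_zero_iff F p k

end general

end Cfsg.Agent.S2263P
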