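import Mathlib
import Cfsg.Prelude.Def_Classical
import Cfsg.Agent.Helper13.S2511Defs
import Cfsg.Agent.Helper16.S2496FROB
import Cfsg.Agent.Helper23.S2263U2

/-! S2511 pieces HSTD, HANTI (helper23): the standard form and the antidiagonal form are `IsHerm`. -/

set_option autoImplicit false
set_option linter.unusedSectionVars false

namespace Cfsg.Agent.S2511P

open Polynomial Matrix
open Cfsg.Agent.S2263P Cfsg.Agent.S2264P Cfsg.Agent.S2496P

namespace HANTI

theorem neg_one_pow_rev {F : Type*} [Field F] (b : ℕ) (j : Fin b) :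
    ((-1 : F) ^ (b + 1)) * (-1) ^ ((Fin.rev j : Fin b) : ℕ) = (-1) ^ (j : ℕ) := by
  rw [Fin.val_rev]
  have hj : (j : ℕ) < b := j.2
  have h1 : ((-1 : F) ^ (b + 1)) * (-1) ^ (b - ((j : ℕ) + 1)) * (-1) ^ (j : ℕ) = 1 := by
    rw [← pow_add, ← pow_add]
    have : b + 1 + (b - ((j : ℕ) + 1)) + (j : ℕ) = 2 * b := by omega
    rw [this, pow_mul]
    simp
  have h2 : ((-1 : F) ^ (j : ℕ)) * (-1) ^ (j : ℕ) = 1 := by
    rw [← pow_add, ← two_mul, pow_mul]
    simp
  calc ((-1 : F) ^ (b + 1)) * (-1) ^ (b - ((j : ℕ) + 1))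
      = ((-1 : F) ^ (b + 1)) * (-1) ^ (b - ((j : ℕ) + 1)) * ((-1) ^ (j : ℕ) * (-1) ^ (j : ℕ)) := by
        rw [h2, mul_one]
    _ = (((-1 : F) ^ (b + 1)) * (-1) ^ (b - ((j : ℕ) + 1)) * (-1) ^ (j : ℕ)) * (-1) ^ (j : ℕ) := by
        ring
    _ = (-1) ^ (j : ℕ) := by rw [h1, one_mul]

end HANTI

section layerU

variable {F : Type*} [Field F]

variable [Fintype F] {p : ℕ} [Fact p.Prime] [CharP F p] {f q : ℕ}

/-- HSTD (S-M) -/
theorem isHerm_Hstd (hq : q = p ^ f) (hF : Fintype.card F = q ^ 2) (m : ℕ) :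
    IsHerm (frob F p f) (Hstd F q m) := by
  have hσ : ∀ x : F, frob F p f x = x ^ q := by
    intro x
    rw [frob_apply, hq]
  refine ⟨?_, ?_, ?_, ?_⟩
  · intro u u' v
    unfold Hstd Cfsg.hermForm
    rw [← Finset.sum_add_distrib]
    refine Finset.sum_congr rfl (fun i _ => ?_)
    rw [Pi.add_apply, add_mul]
  · intro c u v
    unfold Hstd Cfsg.hermForm
    rw [Finset.mul_sum]
    refine Finset.sum_congr rfl (fun i _ => ?_)
    rw [Pi.smul_apply, smul_eq_mul, mul_assoc]
  · intro u v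
    unfold Hstd Cfsg.hermForm
    rw [map_sum]
    refine Finset.sum_congr rfl (fun i _ => ?_)
    rw [map_mul, ← hσ (v i), frob_frob_F hq hF, hσ, mul_comm]
  · intro u hu
    funext i
    have h := hu (Pi.single i 1)
    unfold Hstd Cfsg.hermForm at h
    rw [Finset.sum_eq_single i] at h
    · rw [Pi.single_eq_same, one_pow, mul_one] at h
      exact h
    · intro j _ hji
      rw [Pi.single_eq_of_ne hji, zero_pow, mul_zero]
      rintro rfl
      have : Fintype.card F = 0 := by rw [hF]; simp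
      exact Fintype.card_ne_zero this
    · intro hi
      exact absurd (Finset.mem_univ i) hi

/-- HANTI (M) -/
theorem isHerm_Hanti (hq : q = p ^ f) (hF : Fintype.card F = q ^ 2) (b : ℕ) (ε : F) (hε0 : ε ≠ 0)
    (hε : frob F p f ε = (-1) ^ (b + 1) * ε) : IsHerm (frob F p f) (Hanti (frob F p f) b ε) := by
  refine ⟨?_, ?_, ?_, ?_⟩
  · intro u u' v
    rw [Hanti_apply, Hanti_apply, Hanti_apply, ← mul_add, ← Finset.sum_add_distrib]
    congr 1
    refine Finset.sum_congr rfl (fun i _ => ?_)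
    rw [Pi.add_apply]
    ring
  · intro c u v
    rw [Hanti_apply, Hanti_apply]
    have h1 : ∀ i ∈ (Finset.univ : Finset (Fin b)),
        (-1 : F) ^ (i : ℕ) * (c • u) i * frob F p f (v (Fin.rev i))
          = c * ((-1) ^ (i : ℕ) * u i * frob F p f (v (Fin.rev i))) := by
      intro i _
      rw [Pi.smul_apply, smul_eq_mul]
      ring
    rw [Finset.sum_congr rfl h1, ← Finset.mul_sum]
    ring
  · intro u v
    rw [Hanti_apply, Hanti_apply, map_mul, hε, map_sum]
    have h1 : ∑ i : Fin b, frob F p f ((-1) ^ (i : ℕ) * u i * frob F p f (v (Fin.rev i)))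
        = ∑ j : Fin b, (-1) ^ ((Fin.rev j : Fin b) : ℕ) * frob F p f (u (Fin.rev j)) * v j := by
      rw [← Equiv.sum_comp Fin.revPerm]
      refine Finset.sum_congr rfl (fun j _ => ?_)
      rw [Fin.revPerm_apply, map_mul, map_mul, map_pow, map_neg, map_one, frob_frob_F hq hF,
        Fin.rev_rev]
    rw [h1, mul_comm ((-1 : F) ^ (b + 1)) ε, mul_assoc, Finset.mul_sum (a := (-1 : F) ^ (b + 1))]
    congr 1
    refine Finset.sum_congr rfl (fun j _ => ?_)
    rw [← HANTI.neg_one_pow_rev b j]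
    ring
  · intro u hu
    funext k
    have h := hu (Pi.single (Fin.rev k) 1)
    rw [Hanti_apply] at h
    rw [Finset.sum_eq_single k] at h
    · rw [Pi.single_eq_same, map_one, mul_one] at h
      rcases mul_eq_zero.mp h with h1 | h1
      · exact absurd h1 hε0
      · rcases mul_eq_zero.mp h1 with h2 | h2
        · exfalso
          exact pow_ne_zero _ (neg_ne_zero.mpr one_ne_zero) h2
        · exact h2
    · intro j _ hjk
      have hne : Fin.rev j ≠ Fin.rev k := fun h => hjk (Fin.rev_injective h)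
      rw [Pi.single_eq_of_ne hne, map_zero, mul_zero]
    · intro hk
      exact absurd (Finset.mem_univ k) hk

/-- HANTI (M) -/
theorem exists_eps (hq : q = p ^ f) (hF : Fintype.card F = q ^ 2) (b : ℕ) :
    ∃ ε : F, ε ≠ 0 ∧ frob F p f ε = (-1) ^ (b + 1) * ε := by
  rcases Nat.even_or_odd (b + 1) with he | ho
  · refine ⟨1, one_ne_zero, ?_⟩
    rw [map_one, he.neg_one_pow, mul_one]
  · obtain ⟨t, ht0, ht⟩ := exists_trace_zero (F := F) hq hF
    refine ⟨t, ht0, ?_⟩
    rw [ho.neg_one_pow]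
    linear_combination ht

end layerU

end Cfsg.Agent.S2511P
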