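import Mathlib
import Cfsg.Prelude.Def_LieClassical
import Cfsg.Agent.Helper29.S2263Defs
import Cfsg.Agent.Helper23.S2263UPFACTS

/-! S2263 piece ARITH1 (helper23): a single component. -/

set_option autoImplicit false

namespace Cfsg.Agent.S2263P

namespace ARITH1

theorem q_ge {p f : ℕ} (hp : p.Prime) (hf : 1 ≤ f) : p ≤ p ^ f := by
  calc p = p ^ 1 := (pow_one p).symm
    _ ≤ p ^ f := Nat.pow_le_pow_right hp.pos hf

/-- every branch of `Mx` is at least `q^(d-1) - 1` -/
theorem Mx_ge {p f d : ℕ} (hp : p.Prime) (hf : 1 ≤ f) (hd : 3 ≤ d) :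
    (p ^ f) ^ (d - 1) - 1 ≤ Mx p f d := by
  unfold Mx
  split_ifs with h1 h2 h3
  · exact le_rfl
  · have hf1 : f = 1 := by omega
    subst hf1
    rw [pow_one]
    have h4 : p ^ (d - 1) = p ^ (d - 2) * p := by
      rw [← pow_succ]
      congr 1
      omega
    have h5 : (p ^ (d - 2) + 1) * p = p ^ (d - 2) * p + p := by ring
    omega
  · omega
  · have hq2 : p ^ f = 2 := by
      have := q_ge hp hf
      have := hp.two_le
      omega
    rw [hq2]
    have hd4 : 4 ≤ d := by
      rcases Nat.even_or_odd d with he | ho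
      · obtain ⟨k, hk⟩ := he
        omega
      · exact absurd ho h1
    have h4 : 2 ^ (d - 1) = 4 * 2 ^ (d - 3) := by
      have : d - 1 = (d - 3) + 2 := by omega
      rw [this, pow_add]
      ring
    omega

theorem pow_step {q d : ℕ} (hq : 2 ≤ q) (hd : 2 ≤ d) : q ^ (d - 2) ≤ q ^ (d - 1) - 1 := by
  have h1 : q ^ (d - 1) = q ^ (d - 2) * q := by
    rw [← pow_succ]
    congr 1
    omega
  have h2 : 1 ≤ q ^ (d - 2) := Nat.one_le_pow _ _ (by omega)
  have h3 : q ^ (d - 2) * 2 ≤ q ^ (d - 2) * q := Nat.mul_le_mul_left _ hq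
  omega

theorem pow_le_step {q d k : ℕ} (hq : 2 ≤ q) (hd : 2 ≤ d) (hk : k ≤ d - 2) :
    q ^ k ≤ q ^ (d - 1) - 1 :=
  le_trans (Nat.pow_le_pow_right (by omega) hk) (pow_step hq hd)

theorem wq_one {q : ℕ} (hq : 2 ≤ q) : wq q 1 = 1 := by
  have h := wq_mul hq 1
  have h1 : ¬ Even 1 := by decide
  rw [if_neg h1, pow_one] at h
  have h2 : (q + 1) * wq q 1 = (q + 1) * 1 := by rw [h, mul_one]
  exact Nat.eq_of_mul_eq_mul_left (by omega) h2

end ARITH1

/-- ARITH1: a single component -/
theorem arith_single {p f d : ℕ} (hp : p.Prime) (hf : 1 ≤ f) (hd : 3 ≤ d)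
    (h32 : ¬ (d = 3 ∧ p ^ f = 2)) {s m : ℕ} (hs : 1 ≤ s) (hm : 1 ≤ m) (h : s * m ≤ d) :
    Up p m * wq (p ^ f) s ≤ Mx p f d := by
  have hpq : p ≤ p ^ f := ARITH1.q_ge hp hf
  have hq2 : 2 ≤ p ^ f := le_trans hp.two_le hpq
  refine le_trans ?_ (ARITH1.Mx_ge hp hf hd)
  generalize hqdef : p ^ f = q at *
  have hd2 : 2 ≤ d := by omega
  by_cases hm1 : m = 1
  · subst hm1
    rw [Up_one, one_mul]
    rw [mul_one] at h
    by_cases hsd : s = d
    · subst hsd
      exact wq_le_single hq2 hd
    · exact le_trans (wq_le hq2 hs) (ARITH1.pow_le_step hq2 hd2 (by omega))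
  · have hm2 : 2 ≤ m := by omega
    by_cases hs1 : s = 1
    · subst hs1
      rw [ARITH1.wq_one hq2, mul_one]
      rw [one_mul] at h
      by_cases hm4 : 4 ≤ m
      · calc Up p m ≤ p ^ (m - 2) := Up_le' hp hm4
          _ ≤ q ^ (m - 2) := Nat.pow_le_pow_left hpq _
          _ ≤ q ^ (d - 1) - 1 := ARITH1.pow_le_step hq2 hd2 (by omega)
      · have hpq1 : p ≤ q ^ (d - 1) - 1 := by
          calc p ≤ q := hpq
            _ = q ^ 1 := (pow_one q).symm
            _ ≤ q ^ (d - 1) - 1 := ARITH1.pow_le_step hq2 hd2 (by omega)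
        have hm23 : m = 2 ∨ m = 3 := by omega
        rcases hm23 with rfl | rfl
        · rw [Up_two hp]
          exact hpq1
        · rw [Up_three hp]
          split_ifs with hp2
          · subst hp2
            by_cases hf2 : 2 ≤ f
            · have h4 : 4 ≤ q := by
                rw [← hqdef]
                calc 4 = 2 ^ 2 := by norm_num
                  _ ≤ 2 ^ f := Nat.pow_le_pow_right (by norm_num) hf2
              have h5 : q ^ 2 ≤ q ^ (d - 1) := Nat.pow_le_pow_right (by omega) (by omega)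
              have h6 : 16 ≤ q ^ 2 := by nlinarith
              omega
            · have hf1 : f = 1 := by omega
              subst hf1
              rw [pow_one] at hqdef
              subst hqdef
              have hd4 : 4 ≤ d := by
                by_contra hcon
                exact h32 ⟨by omega, rfl⟩
              have h5 : 2 ^ 3 ≤ 2 ^ (d - 1) := Nat.pow_le_pow_right (by norm_num) (by omega)
              omega
          · exact hpq1
    · have hs2 : 2 ≤ s := by omega
      have hsum : (m - 1) + (s - 1) ≤ d - 2 := by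
        obtain ⟨a, rfl⟩ : ∃ a, s = a + 2 := ⟨s - 2, by omega⟩
        obtain ⟨b, rfl⟩ : ∃ b, m = b + 2 := ⟨m - 2, by omega⟩
        have h7 : (a + 2) * (b + 2) = a * b + 2 * a + 2 * b + 4 := by ring
        have h8 : 0 ≤ a * b := Nat.zero_le _
        omega
      calc Up p m * wq q s ≤ q ^ (m - 1) * q ^ (s - 1) :=
            Nat.mul_le_mul (le_trans (Up_le hp hm) (Nat.pow_le_pow_left hpq _)) (wq_le hq2 hs)
        _ = q ^ ((m - 1) + (s - 1)) := (pow_add _ _ _).symm
        _ ≤ q ^ (d - 1) - 1 := ARITH1.pow_le_step hq2 hd2 hsum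

end Cfsg.Agent.S2263P
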