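import Mathlib
import Cfsg.Agent.Helper27.S0996Defs
import Cfsg.Agent.Helper8.Ind
import Cfsg.Agent.Helper23.S0996IND4

set_option autoImplicit false
set_option linter.unusedSectionVars false
set_option linter.style.haveILetI false

/-! S0996 piece C1A: `⟨ψ ψ̄, Λ_φ⟩ = 1` when `ε = 1`. -/

namespace Cfsg.Agent.Helper23.S0996C1A

open Cfsg Cfsg.Agent.Helper24 Cfsg.Agent.Helper1.W2p Cfsg.Agent.S0996P

universe u

variable {G : Type u} [Group G] {P : Subgroup G}

theorem lam_of_mem (φ : Lin P) (k : ↥(NP P)) (hk : (k : G) ∈ P) : lam P φ k = 1 := by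
  unfold lam
  have h1 : (QuotientGroup.mk k : QP P) = 1 := by
    rw [QuotientGroup.eq_one_iff]
    exact Subgroup.mem_subgroupOf.mpr hk
  rw [h1, map_one]
  rfl

end Cfsg.Agent.Helper23.S0996C1A

namespace Cfsg.Agent.S0996P

open Cfsg Cfsg.Agent.Helper24 Cfsg.Agent.Helper1.W2p
open Cfsg.Agent.Helper23.S0996IND4 Cfsg.Agent.Helper23.S0996C1A

universe u

variable {G : Type u} [Group G]

section L6
variable [Fintype G] [Fintype (IrrCharacter G)] {p : ℕ} [Fact p.Prime] {P : Subgroup G} {n : ℕ}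
  [Fintype (Lin P)]

/-- C1A -/
theorem psi_sq_inner (B : Basic p P n) (D : BrauerData p P) (T : Dict p P n D)
    (S : Struc p P n D) (hε : D.ε = 1) (ψ : IrrCharacter G) (hψ : ψ ∈ D.Y) (φ : Lin P) :
    Cfsg.classInner (fun g => (ψ : G → ℂ) g * (starRingEnd ℂ) ((ψ : G → ℂ) g)) (indL P φ) = 1 := by
  classical
  haveI : Fintype ↥(NP P) := Fintype.ofFinite _
  haveI : Fintype ↥P := Fintype.ofFinite _
  have hp0 : (p : ℂ) ≠ 0 := Nat.cast_ne_zero.mpr (Fact.out : p.Prime).ne_zero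
  have he0 : (eN P : ℂ) ≠ 0 := by
    have := B.two_le_eN
    exact Nat.cast_ne_zero.mpr (by omega)
  set f : G → ℂ := fun g => (ψ : G → ℂ) g * (starRingEnd ℂ) ((ψ : G → ℂ) g) with hf
  have hcfψ : IsClassFunction G (ψ : G → ℂ) :=
    IsCharacter.isClassFunction (IsIrrCharacter.isCharacter ψ.2)
  have hcf : IsClassFunction G f := by
    intro g x
    show (ψ : G → ℂ) (x * g * x⁻¹) * (starRingEnd ℂ) ((ψ : G → ℂ) (x * g * x⁻¹)) = _
    rw [hcfψ g x]
  have hfreal : ∀ g, (starRingEnd ℂ) (f g) = f g := by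
    intro g
    show (starRingEnd ℂ) ((ψ : G → ℂ) g * (starRingEnd ℂ) ((ψ : G → ℂ) g)) = _
    rw [map_mul, Complex.conj_conj, mul_comm]
  -- all multiplicities of `ψ` vanish
  have hmult : ∀ φ' : Lin P, mult P φ' ψ = 0 := by
    have h1 := T.sumY ψ hψ
    rw [(S.posY hε ψ hψ).2] at h1
    intro φ'
    exact (Finset.sum_eq_zero_iff.mp h1) φ' (Finset.mem_univ _)
  -- `ψ` vanishes on `N ∖ P`
  have hzero : ∀ k : ↥(NP P), (k : G) ∉ P → (ψ : G → ℂ) (k : G) = 0 := by
    intro k hk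
    rw [T.val ψ k hk]
    apply Finset.sum_eq_zero
    intro φ' _
    rw [hmult φ']
    simp
  -- `ψ = Lam ψ` on `P`
  have hP : ∀ y : ↥P, (ψ : G → ℂ) (y : G) = D.Lam ψ (y : G) := by
    intro y
    by_cases hy : (y : G) = 1
    · rw [hy, irrDeg_spec, (S.posY hε ψ hψ).1, D.Lam_one ψ hψ]
    · rw [D.val_Y ψ hψ (y : G) y.2 hy, hε]
      simp
  have h1 : Cfsg.classInner (indL P φ) f = 1 := by
    unfold indL
    rw [Cfsg.Agent.Helper8.frobenius_reciprocity (NP P) (lam P φ) f hcf]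
    unfold Cfsg.classInner
    have h2 : ∑ k : ↥(NP P), lam P φ k * (starRingEnd ℂ) (f (k : G)) =
        ∑ k : ↥(NP P), (if (k : G) ∈ P then (1 : ℂ) else 0) * f (k : G) := by
      apply Finset.sum_congr rfl
      intro k _
      rw [hfreal]
      split_ifs with hk
      · rw [lam_of_mem φ k hk]
      · have : f (k : G) = 0 := by
          show (ψ : G → ℂ) (k : G) * _ = 0
          rw [hzero k hk, zero_mul]
        rw [this, mul_zero, mul_zero]
    rw [h2, sum_NP_ite (P := P) f 1, one_mul]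
    have h3 : ∑ y : ↥P, f (y : G) = ((p * eN P : ℕ) : ℂ) := by
      rw [← D.Lam_norm ψ hψ, finsum_eq_sum_of_fintype]
      apply Finset.sum_congr rfl
      intro y _
      show (ψ : G → ℂ) (y : G) * (starRingEnd ℂ) ((ψ : G → ℂ) (y : G)) = _
      rw [hP y]
    rw [h3, B.card_NP]
    push_cast
    field_simp
  rw [← classInner_conj_symm (indL P φ) f, h1, map_one]

end L6

end Cfsg.Agent.S0996P
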