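import Mathlib
import Cfsg.Agent.Helper27.S0996Defs
import Cfsg.Agent.Helper8.Ind

set_option autoImplicit false
set_option linter.unusedSectionVars false
set_option linter.style.haveILetI false

/-! S0996 piece FIX: every `h ∈ N ∖ P` fixes exactly `n + 1` cosets of `N`. -/

namespace Cfsg.Agent.S0996P

open Cfsg Cfsg.Agent.Helper24 Cfsg.Agent.Helper1.W2p

universe u

variable {G : Type u} [Group G]

section L5
variable [Fintype G] [Fintype (IrrCharacter G)] {p : ℕ} [Fact p.Prime] {P : Subgroup G} {n : ℕ}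
  [Fintype (Lin P)]

/-- FIX -/
theorem fixcount_of (B : Basic p P n) (D : BrauerData p P) (T : Dict p P n D)
    (S : Struc p P n D) (h : G) (hN : h ∈ NP P) (hP : h ∉ P) :
    Nat.card {x : G // x⁻¹ * h * x ∈ NP P} = (n + 1) * (p * eN P) := by
  classical
  have hp0 : (p : ℂ) ≠ 0 := Nat.cast_ne_zero.mpr (Fact.out : p.Prime).ne_zero
  have he0 : (eN P : ℂ) ≠ 0 := by
    have := B.two_le_eN
    exact Nat.cast_ne_zero.mpr (by omega)
  have hlam1 : ∀ k : ↥(NP P), lam P (1 : Lin P) k = 1 := by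
    intro k
    unfold lam
    rw [MonoidHom.one_apply, Units.val_one]
  -- the value of `π = Λ_1` at `h` from the definition
  have hA : indL P (1 : Lin P) h =
      (Nat.card (NP P) : ℂ)⁻¹ * (Nat.card {x : G // x⁻¹ * h * x ∈ NP P} : ℂ) := by
    unfold indL
    rw [Cfsg.Agent.Helper8.indFun_def]
    congr 1
    have h1 : ∀ x : G, Cfsg.extendByZero (NP P) (lam P (1 : Lin P)) (x⁻¹ * h * x) =
        if x⁻¹ * h * x ∈ NP P then (1 : ℂ) else 0 := by
      intro x
      split_ifs with hx
      · rw [Cfsg.Agent.Helper8.ebz_mem _ _ hx, hlam1]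
      · exact Cfsg.Agent.Helper8.ebz_not_mem _ _ hx
    rw [Finset.sum_congr rfl (fun x _ => h1 x), Finset.sum_boole, Nat.card_eq_fintype_card,
      Fintype.card_subtype]
  -- the value of `π` at `h` from the expansion
  have hB : indL P (1 : Lin P) h =
      ∑ χ : IrrCharacter G, (mult P (1 : Lin P) χ : ℂ) * (χ : G → ℂ) h := by
    rw [T.expand (1 : Lin P), Finset.sum_apply]
    apply Finset.sum_congr rfl
    intro χ _
    rw [Pi.smul_apply, smul_eq_mul]
  have hC : ∀ χ : IrrCharacter G, (mult P (1 : Lin P) χ : ℂ) * (χ : G → ℂ) h =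
      ((mult P (1 : Lin P) χ ^ 2 : ℕ) : ℂ) := by
    intro χ
    by_cases ht : χ = trivIrr G
    · rw [ht, T.triv_one]
      simp
    by_cases hX : χ ∈ D.X
    · rw [S.pi_zero χ (Or.inl ⟨hX, ht⟩)]
      simp
    by_cases hY : χ ∈ D.Y
    · rw [S.pi_zero χ (Or.inr hY)]
      simp
    -- the other characters
    have hval := T.val χ ⟨h, hN⟩ hP
    have hval' : (χ : G → ℂ) h = (mult P (1 : Lin P) χ : ℂ) := by
      rw [show (χ : G → ℂ) h = (χ : G → ℂ) ((⟨h, hN⟩ : ↥(NP P)) : G) from rfl, hval,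
        Finset.sum_eq_single (1 : Lin P)]
      · rw [hlam1, mul_one]
      · intro φ _ hφ
        have h0 : mult P φ χ = 0 := by
          rcases S.form φ hφ with ⟨χ₀, hχ₀, -, -, -, hall⟩ | ⟨-, -, hall⟩
          · apply hall
            intro heq
            exact hX (heq ▸ hχ₀)
          · exact hall χ hY
        rw [h0]
        simp
      · intro h1
        exact absurd (Finset.mem_univ _) h1
    rw [hval']
    push_cast
    ring
  have hD : indL P (1 : Lin P) h = ((n + 1 : ℕ) : ℂ) := by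
    rw [hB, Finset.sum_congr rfl (fun χ _ => hC χ), ← Nat.cast_sum, S.pi_norm]
  rw [hA, B.card_NP] at hD
  have hpe : ((p * eN P : ℕ) : ℂ) ≠ 0 := by
    push_cast
    exact mul_ne_zero hp0 he0
  have hE : (Nat.card {x : G // x⁻¹ * h * x ∈ NP P} : ℂ) = (((n + 1) * (p * eN P) : ℕ) : ℂ) := by
    rw [inv_mul_eq_iff_eq_mul₀ hpe] at hD
    rw [hD]
    push_cast
    ring
  exact_mod_cast hE

end L5

end Cfsg.Agent.S0996P
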