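import Mathlib
import Cfsg.Prelude.Def_Characters
import Cfsg.Agent.Helper1.W2pDefs
import Cfsg.Agent.Helper8.GaloisChar
import Cfsg.Agent.Helper8.RationalValue

/-!
# S4707 piece INT: the character `χ₁` of degree `p - 1` in `X` is integer valued
-/

set_option autoImplicit false

open Cfsg Cfsg.Agent.Helper24 Cfsg.Agent.Helper1.W2p MulAction

universe u v

namespace Cfsg.Agent.Helper23.S4707

theorem eq_or_eq_of_card_two {α : Type*} {s : Set α} (h : Nat.card s = 2) {a b c : α}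
    (ha : a ∈ s) (hb : b ∈ s) (hc : c ∈ s) (hab : a ≠ b) : c = a ∨ c = b := by
  by_contra hcon
  push Not at hcon
  have hinj : Function.Injective (![⟨a, ha⟩, ⟨b, hb⟩, ⟨c, hc⟩] : Fin 3 → s) := by
    intro i j hij
    fin_cases i <;> fin_cases j <;> simp_all [Subtype.ext_iff]
  have hfin : Finite s := Nat.finite_of_card_ne_zero (by omega)
  have := Nat.card_le_card_of_injective _ hinj
  rw [Nat.card_fin] at this
  omega

theorem int_valued {H : Type u} [Group H] [Finite H] (p : ℕ) [Fact p.Prime] (hp5 : 5 ≤ p)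
    (P : Sylow p H) (hP : Nat.card P = p) (he : eN (P : Subgroup H) = 2)
    (D : BrauerData p (P : Subgroup H))
    (χ₁ : IrrCharacter H) (hχX : χ₁ ∈ D.X) (hχdeg : irrDeg χ₁ = p - 1) (g : H) :
    ∃ n : ℤ, (χ₁ : H → ℂ) g = n := by
  classical
  have hpp : p.Prime := Fact.out
  apply Cfsg.Agent.Helper8.char_int_of_pow_invariant (IsIrrCharacter.isCharacter χ₁.2) g
  intro k hk
  -- the Galois conjugate
  let χ' : IrrCharacter H :=
    ⟨fun x => (χ₁ : H → ℂ) (x ^ k), Cfsg.Agent.Helper8.isIrrCharacter_pow_of_coprime k hk χ₁.2⟩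
  have hχ'app : ∀ x : H, (χ' : H → ℂ) x = (χ₁ : H → ℂ) (x ^ k) := fun _ => rfl
  suffices hχ' : χ' = χ₁ by
    rw [← hχ'app, hχ']
  have hpH : p ∣ Nat.card H := by
    rw [← hP]; exact Subgroup.card_subgroup_dvd_card _
  have hpk : ¬ p ∣ k := by
    intro h
    have := Nat.dvd_gcd h hpH
    rw [Nat.Coprime.gcd_eq_one hk] at this
    exact hpp.one_lt.ne' (Nat.dvd_one.1 this)
  -- values on P \ 1
  have hδ : D.δ χ₁ = 1 ∨ D.δ χ₁ = -1 := D.δ_pm χ₁ hχX
  have hval : ∀ y ∈ (P : Subgroup H), y ≠ 1 → (χ' : H → ℂ) y = (D.δ χ₁ : ℂ) := by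
    intro y hy hy1
    rw [hχ'app]
    apply D.val_X χ₁ hχX (y ^ k) (Subgroup.pow_mem _ hy k)
    intro hyk
    have hord : orderOf y = p := by
      have h1 : orderOf (⟨y, hy⟩ : (P : Subgroup H)) ∣ p := by
        have h0 := orderOf_dvd_natCard (⟨y, hy⟩ : (P : Subgroup H))
        rwa [hP] at h0
      rw [Subgroup.orderOf_mk] at h1
      rcases (Nat.dvd_prime hpp).1 h1 with h | h
      · exact absurd (orderOf_eq_one_iff.1 h) hy1
      · exact h
    exact hpk (hord ▸ orderOf_dvd_of_pow_eq_one hyk)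
  have hδne : (D.δ χ₁ : ℂ) ≠ 0 := by
    rcases hδ with h | h <;> rw [h] <;> norm_num
  -- an element of P \ 1
  have hex : ∃ y ∈ (P : Subgroup H), y ≠ 1 := by
    have h1 : 1 < Nat.card (P : Subgroup H) := by rw [hP]; exact hpp.one_lt
    have : Nontrivial (P : Subgroup H) := (Finite.one_lt_card_iff_nontrivial).1 h1
    obtain ⟨y, hy⟩ := exists_ne (1 : (P : Subgroup H))
    exact ⟨y, y.2, fun h => hy (Subtype.ext h)⟩
  obtain ⟨y₀, hy₀, hy₀1⟩ := hex
  -- χ' is in X or Y
  have hnot_other : χ' ∈ D.X ∨ χ' ∈ D.Y := by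
    by_contra hcon
    push Not at hcon
    have := D.val_other χ' hcon.1 hcon.2 y₀ hy₀ hy₀1
    rw [hval y₀ hy₀ hy₀1] at this
    exact hδne this
  have hnotY : χ' ∉ D.Y := by
    intro hY
    have hε : D.ε = 1 ∨ D.ε = -1 := D.ε_pm
    have hLam : ∀ y : (P : Subgroup H), D.Lam χ' (y : H) =
        ((D.ε * D.δ χ₁ : ℤ) : ℂ) + (if y = 1 then (2 - ((D.ε * D.δ χ₁ : ℤ) : ℂ)) else 0) := by
      intro y
      by_cases hy1 : y = 1
      · rw [if_pos hy1, hy1, Subgroup.coe_one, D.Lam_one χ' hY, he]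
        push_cast
        ring
      · rw [if_neg hy1, add_zero]
        have hy1' : (y : H) ≠ 1 := fun h => hy1 (Subtype.ext h)
        have h1 := D.val_Y χ' hY (y : H) y.2 hy1'
        rw [hval (y : H) y.2 hy1'] at h1
        have hεε : (D.ε : ℂ) * (D.ε : ℂ) = 1 := by
          rcases hε with h | h <;> rw [h] <;> norm_num
        push_cast
        calc D.Lam χ' (y : H) = ((D.ε : ℂ) * (D.ε : ℂ)) * D.Lam χ' (y : H) := by
              rw [hεε, one_mul]
          _ = (D.ε : ℂ) * ((D.ε : ℂ) * D.Lam χ' (y : H)) := by ring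
          _ = (D.ε : ℂ) * (D.δ χ₁ : ℂ) := by rw [← h1]
    have hsum := D.Lam_sum χ' hY
    have : Fintype (P : Subgroup H) := Fintype.ofFinite _
    rw [finsum_eq_sum_of_fintype] at hsum
    simp_rw [hLam] at hsum
    rw [Finset.sum_add_distrib, Finset.sum_const, Finset.sum_ite_eq', if_pos (Finset.mem_univ _),
      Finset.card_univ, ← Nat.card_eq_fintype_card, hP, nsmul_eq_mul] at hsum
    have hint : (p : ℤ) * (D.ε * D.δ χ₁) + (2 - D.ε * D.δ χ₁) = 0 := by
      have : (((p : ℤ) * (D.ε * D.δ χ₁) + (2 - D.ε * D.δ χ₁) : ℤ) : ℂ) = 0 := by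
        push_cast
        push_cast at hsum
        exact hsum
      exact_mod_cast this
    have hp5' : (5 : ℤ) ≤ p := by exact_mod_cast hp5
    rcases hε with h1 | h1 <;> rcases hδ with h2 | h2 <;> rw [h1, h2] at hint <;> omega
  have hX : χ' ∈ D.X := hnot_other.resolve_right hnotY
  -- X = {1, χ₁}
  have hp1 : p - 1 ≠ 1 := by omega
  have hne : trivIrr H ≠ χ₁ := by
    intro h
    have h1 := irrDeg_spec χ₁
    rw [hχdeg, ← h, trivIrr_apply] at h1
    have : (p - 1 : ℕ) = 1 := by exact_mod_cast h1.symm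
    exact hp1 this
  have hcard : Nat.card D.X = 2 := by rw [D.card_X, he]
  rcases eq_or_eq_of_card_two hcard D.triv_mem hχX hX hne with h | h
  · exfalso
    have h1 : (χ' : H → ℂ) 1 = 1 := by rw [h, trivIrr_apply]
    rw [hχ'app, one_pow, irrDeg_spec, hχdeg] at h1
    have : (p - 1 : ℕ) = 1 := by exact_mod_cast h1
    exact hp1 this
  · exact h

end Cfsg.Agent.Helper23.S4707
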