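import Mathlib

set_option autoImplicit false

/-! # S0997, piece R-ARA: arithmetic of case A (`G ≅ PSL₂(p)`, `|G| = p q^b g₀`, `g₀ < p - 1`). -/

namespace Cfsg.Agent.Helper23.S0997RARA

/-- a prime power dividing a product of coprime numbers divides one of them -/
theorem prime_pow_dvd_of_coprime {q b a c : ℕ} (hq : q.Prime) (hac : Nat.Coprime a c)
    (h : q ^ b ∣ a * c) : q ^ b ∣ a ∨ q ^ b ∣ c := by
  by_cases hqa : q ∣ a
  · left
    have hqc : ¬ q ∣ c := by
      intro hqc
      have := Nat.dvd_gcd hqa hqc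
      rw [hac] at this
      exact hq.one_lt.ne' (Nat.dvd_one.mp this)
    have hcop : Nat.Coprime (q ^ b) c :=
      Nat.Coprime.pow_left b ((Nat.Prime.coprime_iff_not_dvd hq).mpr hqc)
    exact (Nat.Coprime.dvd_mul_right hcop).mp h
  · right
    have hcop : Nat.Coprime (q ^ b) a :=
      Nat.Coprime.pow_left b ((Nat.Prime.coprime_iff_not_dvd hq).mpr hqa)
    exact Nat.Coprime.dvd_of_dvd_mul_left hcop h

/-- an even prime power is a power of two -/
theorem eq_two_of_even_pow {q b : ℕ} (hq : q.Prime) (h : 2 ∣ q ^ b) : q = 2 := by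
  have := (Nat.prime_two.dvd_of_dvd_pow h)
  exact ((Nat.prime_dvd_prime_iff_eq Nat.prime_two hq).mp this).symm

end Cfsg.Agent.Helper23.S0997RARA

namespace Cfsg.Agent.S0997R

open Cfsg.Agent.Helper23.S0997RARA

/-- R-ARA -/
theorem arith_caseA {p q b g₀ n : ℕ} (hp : p.Prime) (hq : q.Prime) (hpq : p ≠ q) (hpn : p = 2 * n + 1)
    (hn : 0 < n) (h : (p + 1) * (p * n) = p * q ^ b * g₀) (hg : g₀ < p - 1) :
    ∃ m : ℕ, p = 2 ^ m + 1 ∨ p = 2 ^ m - 1 := by
  have hp0 : 0 < p := hp.pos
  have h1 : (p + 1) * n = q ^ b * g₀ := by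
    have : p * ((p + 1) * n) = p * (q ^ b * g₀) := by
      rw [← mul_assoc p (q ^ b), ← h]; ring
    exact Nat.eq_of_mul_eq_mul_left hp0 this
  have hg' : g₀ < 2 * n := by omega
  subst hpn
  have h2 : (2 * n + 2) * n = q ^ b * g₀ := by
    rw [← h1]
  have hqb : 0 < q ^ b := pow_pos hq.pos b
  rcases Nat.even_or_odd n with hev | hodd
  · -- `n` even: `a = n + 1`, `c = 2 n`
    have hac : Nat.Coprime (n + 1) (2 * n) := by
      obtain ⟨t, ht⟩ := hev
      have h2c : Nat.Coprime (n + 1) 2 := by
        rw [Nat.coprime_two_right]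
        exact ⟨t, by omega⟩
      have hnc : Nat.Coprime (n + 1) n := by
        rw [Nat.coprime_self_add_left]
        exact Nat.coprime_one_left n
      exact Nat.Coprime.mul_right h2c hnc
    have hprod : (n + 1) * (2 * n) = q ^ b * g₀ := by rw [← h2]; ring
    have hdvd : q ^ b ∣ (n + 1) * (2 * n) := ⟨g₀, hprod⟩
    rcases prime_pow_dvd_of_coprime hq hac hdvd with ⟨k, hk⟩ | ⟨k, hk⟩
    · exfalso
      have hk0 : 0 < k := by
        rcases Nat.eq_zero_or_pos k with h0 | h0
        · rw [h0, mul_zero] at hk; omega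
        · exact h0
      have : q ^ b * (k * (2 * n)) = q ^ b * g₀ := by
        rw [← hprod, hk]; ring
      have hg0 : g₀ = k * (2 * n) := (Nat.eq_of_mul_eq_mul_left hqb this).symm
      have : 2 * n ≤ k * (2 * n) := Nat.le_mul_of_pos_left _ hk0
      omega
    · have hg0 : g₀ = k * (n + 1) := by
        have : q ^ b * (k * (n + 1)) = q ^ b * g₀ := by
          rw [← hprod, hk]; ring
        exact (Nat.eq_of_mul_eq_mul_left hqb this).symm
      have hk1 : k = 1 := by
        rcases Nat.lt_or_ge k 2 with hlt | hge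
        · rcases Nat.eq_zero_or_pos k with h0 | h0
          · rw [h0, mul_zero] at hk; omega
          · omega
        · exfalso
          have : 2 * (n + 1) ≤ k * (n + 1) := Nat.mul_le_mul_right _ hge
          omega
      rw [hk1, mul_one] at hk
      have hq2 : q = 2 := eq_two_of_even_pow hq ⟨n, hk.symm⟩
      refine ⟨b, Or.inl ?_⟩
      rw [hk, hq2]
  · -- `n` odd: `a = n`, `c = 2 (n + 1)`
    have hac : Nat.Coprime n (2 * (n + 1)) := by
      have h2c : Nat.Coprime n 2 := by
        rw [Nat.coprime_two_right]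
        exact hodd
      have hnc : Nat.Coprime n (n + 1) := by
        rw [Nat.coprime_self_add_right]
        exact Nat.coprime_one_right n
      exact Nat.Coprime.mul_right h2c hnc
    have hprod : n * (2 * (n + 1)) = q ^ b * g₀ := by rw [← h2]; ring
    have hdvd : q ^ b ∣ n * (2 * (n + 1)) := ⟨g₀, hprod⟩
    rcases prime_pow_dvd_of_coprime hq hac hdvd with ⟨k, hk⟩ | ⟨k, hk⟩
    · exfalso
      have hk0 : 0 < k := by
        rcases Nat.eq_zero_or_pos k with h0 | h0
        · rw [h0, mul_zero] at hk; omega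
        · exact h0
      have : q ^ b * (k * (2 * (n + 1))) = q ^ b * g₀ := by
        rw [← hprod]; nth_rewrite 2 [hk]; ring
      have hg0 : g₀ = k * (2 * (n + 1)) := (Nat.eq_of_mul_eq_mul_left hqb this).symm
      have : 2 * (n + 1) ≤ k * (2 * (n + 1)) := Nat.le_mul_of_pos_left _ hk0
      omega
    · have hg0 : g₀ = k * n := by
        have : q ^ b * (k * n) = q ^ b * g₀ := by
          rw [← hprod, hk]; ring
        exact (Nat.eq_of_mul_eq_mul_left hqb this).symm
      have hk1 : k = 1 := by
        rcases Nat.lt_or_ge k 2 with hlt | hge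
        · rcases Nat.eq_zero_or_pos k with h0 | h0
          · rw [h0, mul_zero] at hk; omega
          · omega
        · exfalso
          have : 2 * n ≤ k * n := Nat.mul_le_mul_right _ hge
          omega
      rw [hk1, mul_one] at hk
      have hq2 : q = 2 := eq_two_of_even_pow hq ⟨n + 1, hk.symm⟩
      refine ⟨b, Or.inr ?_⟩
      rw [hq2] at hk
      omega

end Cfsg.Agent.S0997R
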