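import Mathlib
import Cfsg.Agent.Helper13.S3816Defs
import Cfsg.Agent.Helper13.S3816Basic
import Cfsg.Agent.Helper23.FreeD

/-! Board `s3816pieces`, row FREE: the bridge from `Cfsg.Agent.Helper23.Free.free_main` to the count
`|C_N(A)|^p = |N|` for an elementary abelian `r`-group `N` acted on by `W ⋊ A`, `A` of prime order `p`
fixed-point-free on the abelian group `W`, `C_N(W) = 1`, `(|W|, r) = 1`. -/

set_option autoImplicit false
set_option linter.style.haveILetI false

namespace Cfsg.Agent.S3816P

open Cfsg.Agent.Helper23.Free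

/-- counting in a free module `V = ⊕ₕ σ(h) W₀` -/
theorem free_aux_card {k : Type*} [Field k] {V : Type*} [AddCommGroup V] [Module k V] [Finite V]
    {H : Type*} [Group H] [Fintype H] (σ : Representation k H V) (W₀ : Submodule k V)
    (hD : Dec (fun h => σ h) W₀) :
    Nat.card V = Nat.card W₀ ^ Fintype.card H ∧ Nat.card {v : V // ∀ h, σ h v = v} = Nat.card W₀ := by
  classical
  constructor
  · let Φ : (H → W₀) → V := fun x => ∑ h, σ h (x h : V)
    have hinj : Function.Injective Φ := by
      intro x y hxy
      have h0 : ∑ h, σ h ((x h : V) - (y h : V)) = 0 := by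
        simp only [map_sub, Finset.sum_sub_distrib]
        exact sub_eq_zero.mpr hxy
      have := hD.indep (fun h => (x h : V) - (y h : V)) (fun h => W₀.sub_mem (x h).2 (y h).2) h0
      funext h
      exact Subtype.ext (sub_eq_zero.mp (this h))
    have hsurj : Function.Surjective Φ := by
      intro v
      obtain ⟨x, hx, hv⟩ := hD.span v
      exact ⟨fun h => ⟨x h, hx h⟩, hv⟩
    rw [← Nat.card_congr (Equiv.ofBijective Φ ⟨hinj, hsurj⟩), Nat.card_fun, Nat.card_eq_fintype_card (α := H)]
  · let Ψ : W₀ → {v : V // ∀ h, σ h v = v} := fun w => ⟨∑ h, σ h (w : V), by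
      intro g
      rw [map_sum]
      have : ∀ h, σ g (σ h (w : V)) = σ (g * h) (w : V) := by
        intro h; rw [map_mul]; rfl
      simp only [this]
      exact Fintype.sum_equiv (Equiv.mulLeft g) _ _ (fun h => rfl)⟩
    have hinj : Function.Injective Ψ := by
      intro w w' hww
      have h1 : ∑ h, σ h (w : V) = ∑ h, σ h (w' : V) := congrArg Subtype.val hww
      have h0 : ∑ h, σ h ((w : V) - (w' : V)) = 0 := by
        simp only [map_sub, Finset.sum_sub_distrib]
        exact sub_eq_zero.mpr h1
      have := hD.indep (fun _ => (w : V) - (w' : V)) (fun _ => W₀.sub_mem w.2 w'.2) h0 1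
      exact Subtype.ext (sub_eq_zero.mp this)
    have hsurj : Function.Surjective Ψ := by
      rintro ⟨v, hv⟩
      obtain ⟨x, hx, hxv⟩ := hD.span v
      have hconst : ∀ g h, x (g⁻¹ * h) = x h := by
        intro g
        have h1 : σ g v = ∑ h, σ h (x (g⁻¹ * h)) := by
          rw [← hxv, map_sum]
          have : ∀ h, σ g (σ h (x h)) = σ (g * h) (x (g⁻¹ * (g * h))) := by
            intro h; rw [map_mul, inv_mul_cancel_left]; rfl
          simp only [this]
          exact Fintype.sum_equiv (Equiv.mulLeft g) _ _ (fun h => rfl)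
        rw [hv g] at h1
        have h0 : ∑ h, σ h (x (g⁻¹ * h) - x h) = 0 := by
          simp only [map_sub, Finset.sum_sub_distrib]
          rw [← h1, hxv, sub_self]
        have := hD.indep (fun h => x (g⁻¹ * h) - x h) (fun h => W₀.sub_mem (hx _) (hx _)) h0
        intro h
        exact sub_eq_zero.mp (this h)
      refine ⟨⟨x 1, hx 1⟩, Subtype.ext ?_⟩
      change ∑ h, σ h (x 1) = v
      rw [← hxv]
      refine Finset.sum_congr rfl (fun h _ => ?_)
      have := hconst h h
      rw [inv_mul_cancel] at this
      rw [this]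
    rw [← Nat.card_congr (Equiv.ofBijective Ψ ⟨hinj, hsurj⟩)]

/-- an automorphism of `Nn` as a `ZMod r`-linear endomorphism of `Additive Nn` -/
def free_aux_mk {Nn : Type*} [CommGroup Nn] (r : ℕ) [Module (ZMod r) (Additive Nn)] :
    MulAut Nn →* Module.End (ZMod r) (Additive Nn) where
  toFun := fun e => (MonoidHom.toAdditive e.toMonoidHom).toZModLinearMap r
  map_one' := by
    refine LinearMap.ext fun x => ?_
    rfl
  map_mul' := fun a b => by
    refine LinearMap.ext fun x => ?_
    rfl

theorem free_aux_mk_apply {Nn : Type*} [CommGroup Nn] (r : ℕ) [Module (ZMod r) (Additive Nn)]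
    (e : MulAut Nn) (x : Additive Nn) : free_aux_mk r e x = Additive.ofMul (e (Additive.toMul x)) := rfl

/-- the abstract form, with the `ZMod r`-module structure as an instance argument -/
theorem free_aux_abs' {H F Nn : Type*} [Group H] [Fintype H] [Group F] [Finite F] [CommGroup Nn] [Finite Nn]
    (r : ℕ) [Fact r.Prime] [Module (ZMod r) (Additive Nn)] (cH : H →* MulAut Nn) (cF : F →* MulAut Nn)
    (φ : H →* MulAut F) (hcomm : ∀ h f n, cH h (cF f n) = cF (φ h f) (cH h n))
    (hfpf : ∀ h f, φ h f = f → h = 1 ∨ f = 1) (hfix : ∀ n, (∀ f, cF f n = n) → n = 1)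
    (hnil : Group.IsNilpotent F) (hcop : (Nat.card F).Coprime r) :
    Nat.card {n : Nn // ∀ h, cH h n = n} ^ Fintype.card H = Nat.card Nn := by
  classical
  haveI : Finite (Additive Nn) := inferInstanceAs (Finite Nn)
  haveI : Module.Finite (ZMod r) (Additive Nn) := Module.Finite.of_finite
  let mk : MulAut Nn →* Module.End (ZMod r) (Additive Nn) := free_aux_mk r
  let σ : Representation (ZMod r) H (Additive Nn) := mk.comp cH
  let τ : Representation (ZMod r) F (Additive Nn) := mk.comp cF
  have hσ : ∀ h (x : Additive Nn), σ h x = Additive.ofMul (cH h (Additive.toMul x)) :=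
    fun h x => free_aux_mk_apply r (cH h) x
  have hτ : ∀ f (x : Additive Nn), τ f x = Additive.ofMul (cF f (Additive.toMul x)) :=
    fun f x => free_aux_mk_apply r (cF f) x
  have hyp : Cfsg.Agent.Helper23.Free.Hyp σ τ φ :=
    { comm := by
        intro h f v
        rw [hσ, hτ, hτ, hσ]
        exact congrArg Additive.ofMul (hcomm h f (Additive.toMul v))
      fpf := hfpf
      fix := by
        intro v hv
        have := hfix (Additive.toMul v) (fun f => by
          have := hv f
          rw [hτ] at this
          exact congrArg Additive.toMul this)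
        exact congrArg Additive.ofMul this }
  have hcard : (Nat.card F : ZMod r) ≠ 0 := by
    rw [Ne, ZMod.natCast_eq_zero_iff]
    intro hdvd
    have := Nat.Coprime.eq_one_of_dvd hcop.symm hdvd
    exact (Fact.out : r.Prime).one_lt.ne' this
  obtain ⟨W₀, hW₀⟩ := free_main (k := ZMod r) hnil hcard _ H (Additive Nn) σ τ φ hyp rfl
  obtain ⟨h1, h2⟩ := free_aux_card σ W₀ hW₀
  have e1 : Nat.card {n : Nn // ∀ h, cH h n = n} = Nat.card {v : Additive Nn // ∀ h, σ h v = v} := by
    refine Nat.card_congr ?_
    refine (Equiv.subtypeEquiv Additive.ofMul ?_)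
    intro n
    constructor
    · intro hn h
      rw [hσ]
      exact congrArg Additive.ofMul (hn h)
    · intro hn h
      have := hn h
      rw [hσ] at this
      exact congrArg Additive.toMul this
  have e2 : Nat.card Nn = Nat.card (Additive Nn) := rfl
  rw [e1, h2, e2, h1]

/-- the abstract form: a commutative group `Nn` of exponent `r` with compatible actions of `H` and `F` -/
theorem free_aux_abs {H F Nn : Type*} [Group H] [Fintype H] [Group F] [Finite F] [CommGroup Nn] [Finite Nn]
    (r : ℕ) [Fact r.Prime] (hNr : ∀ n : Nn, n ^ r = 1) (cH : H →* MulAut Nn) (cF : F →* MulAut Nn)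
    (φ : H →* MulAut F) (hcomm : ∀ h f n, cH h (cF f n) = cF (φ h f) (cH h n))
    (hfpf : ∀ h f, φ h f = f → h = 1 ∨ f = 1) (hfix : ∀ n, (∀ f, cF f n = n) → n = 1)
    (hnil : Group.IsNilpotent F) (hcop : (Nat.card F).Coprime r) :
    Nat.card {n : Nn // ∀ h, cH h n = n} ^ Fintype.card H = Nat.card Nn := by
  have hmod : ∀ x : Additive Nn, r • x = 0 := by
    intro x
    have := hNr (Additive.toMul x)
    exact congrArg Additive.ofMul this
  exact @free_aux_abs' H F Nn _ _ _ _ _ _ r _ (AddCommGroup.zmodModule hmod) cH cF φ hcomm hfpf hfix hnil hcop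

/-- the abstract form for a group `Nn` that happens to be commutative -/
theorem free_aux_abs_grp {H F Nn : Type*} [Group H] [Fintype H] [Group F] [Finite F] [Group Nn] [Finite Nn]
    (hc : ∀ a b : Nn, a * b = b * a)
    (r : ℕ) [Fact r.Prime] (hNr : ∀ n : Nn, n ^ r = 1) (cH : H →* MulAut Nn) (cF : F →* MulAut Nn)
    (φ : H →* MulAut F) (hcomm : ∀ h f n, cH h (cF f n) = cF (φ h f) (cH h n))
    (hfpf : ∀ h f, φ h f = f → h = 1 ∨ f = 1) (hfix : ∀ n, (∀ f, cF f n = n) → n = 1)
    (hnil : Group.IsNilpotent F) (hcop : (Nat.card F).Coprime r) :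
    Nat.card {n : Nn // ∀ h, cH h n = n} ^ Fintype.card H = Nat.card Nn :=
  @free_aux_abs H F Nn _ _ _ _ { (inferInstance : Group Nn) with mul_comm := hc } _ r _ hNr cH cF φ hcomm hfpf
    hfix hnil hcop

universe u

variable {G : Type u} [Group G] [Finite G] {p : ℕ} [Fact p.Prime] {A K N : Subgroup G}

/-- the conjugation action of a subgroup `X ≤ N_G(Y)` on `Y` -/
def free_aux_conj (Y X : Subgroup G) (hX : X ≤ Subgroup.normalizer (Y : Set G)) : ↥X →* MulAut ↥Y where
  toFun x :=
    { toFun := fun y => ⟨(x : G) * y * (x : G)⁻¹, (Subgroup.mem_normalizer_iff.mp (hX x.2) y).mp y.2⟩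
      invFun := fun y => ⟨(x : G)⁻¹ * y * (x : G), by
        have h := (Subgroup.mem_normalizer_iff.mp (hX x.2) ((x : G)⁻¹ * y * (x : G))).mpr
        apply h
        have e : (x : G) * ((x : G)⁻¹ * y * (x : G)) * (x : G)⁻¹ = y := by group
        rw [e]; exact y.2⟩
      left_inv := fun y => Subtype.ext (by
        change (x : G)⁻¹ * ((x : G) * y * (x : G)⁻¹) * (x : G) = y; group)
      right_inv := fun y => Subtype.ext (by
        change (x : G) * ((x : G)⁻¹ * y * (x : G)) * (x : G)⁻¹ = y; group)
      map_mul' := fun a b => Subtype.ext (by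
        change (x : G) * ((a : G) * (b : G)) * (x : G)⁻¹ = ((x : G) * a * (x : G)⁻¹) * ((x : G) * b * (x : G)⁻¹)
        group) }
  map_one' := by
    refine MulEquiv.ext fun y => Subtype.ext ?_
    change ((1 : ↥X) : G) * y * ((1 : ↥X) : G)⁻¹ = y
    simp
  map_mul' := fun a b => by
    refine MulEquiv.ext fun y => Subtype.ext ?_
    change ((a * b : ↥X) : G) * y * ((a * b : ↥X) : G)⁻¹ = (a : G) * ((b : G) * y * (b : G)⁻¹) * (a : G)⁻¹
    rw [Subgroup.coe_mul]; group

theorem free_aux_conj_apply (Y X : Subgroup G) (hX : X ≤ Subgroup.normalizer (Y : Set G)) (x : ↥X) (y : ↥Y) :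
    ((free_aux_conj Y X hX x y : ↥Y) : G) = (x : G) * y * (x : G)⁻¹ := rfl

/-- FREE (bridge to `Helper23` `free_main`) -/
theorem free_count (hA : Nat.card A = p) (W N : Subgroup G)
    (hWab : ∀ x ∈ W, ∀ y ∈ W, x * y = y * x) (hAW : A ≤ Subgroup.normalizer (W : Set G))
    (hWN : W ≤ Subgroup.normalizer (N : Set G)) (hAN : A ≤ Subgroup.normalizer (N : Set G))
    (hNab : ∀ m ∈ N, ∀ n ∈ N, m * n = n * m) (r : ℕ) (hr : r.Prime) (hNr : ∀ n ∈ N, n ^ r = 1)
    (hrW : (Nat.card W).Coprime r) (hWfix : W ⊓ Subgroup.centralizer (A : Set G) = ⊥)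
    (hNW : N ⊓ Subgroup.centralizer (W : Set G) = ⊥) :
    Nat.card ↥(N ⊓ Subgroup.centralizer (A : Set G)) ^ p = Nat.card N := by
  classical
  haveI : Fact r.Prime := ⟨hr⟩
  letI : Fintype ↥A := Fintype.ofFinite _
  have hcardA : Fintype.card ↥A = p := by rw [← Nat.card_eq_fintype_card]; exact hA
  let cH := free_aux_conj N A hAN
  let cF := free_aux_conj N W hWN
  let φ := free_aux_conj W A hAW
  have hnil : Group.IsNilpotent ↥W := by
    let cg : CommGroup ↥W :=
      { (inferInstance : Group ↥W) with mul_comm := fun a b => Subtype.ext (hWab a a.2 b b.2) }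
    exact @CommGroup.isNilpotent ↥W cg
  have key := free_aux_abs_grp (H := ↥A) (F := ↥W) (Nn := ↥N)
    (fun a b => Subtype.ext (hNab a a.2 b b.2)) r
    (fun n => Subtype.ext (by rw [Subgroup.coe_pow, hNr n n.2]; rfl)) cH cF φ
    (by
      intro h f n
      apply Subtype.ext
      rw [free_aux_conj_apply, free_aux_conj_apply, free_aux_conj_apply, free_aux_conj_apply,
        free_aux_conj_apply]
      group)
    (by
      intro h f hf
      by_cases h1 : h = 1
      · left; exact h1
      right
      have hcomm : (h : G) * (f : G) = (f : G) * (h : G) := by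
        have := congrArg (fun w : ↥W => (w : G)) hf
        simp only [φ, free_aux_conj_apply] at this
        calc (h : G) * (f : G) = ((h : G) * (f : G) * (h : G)⁻¹) * (h : G) := by group
          _ = (f : G) * (h : G) := by rw [this]
      have hmem : (f : G) ∈ W ⊓ Subgroup.centralizer (A : Set G) := by
        refine Subgroup.mem_inf.mpr ⟨f.2, ?_⟩
        rw [Subgroup.mem_centralizer_iff]
        intro a ha
        have hpow : (⟨a, ha⟩ : ↥A) ∈ Submonoid.powers h := mem_powers_of_prime_card hA h1
        obtain ⟨k, hk⟩ := hpow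
        have hak : a = (h : G) ^ k := by
          have := congrArg (fun w : ↥A => (w : G)) hk
          simp only [Subgroup.coe_pow] at this
          exact this.symm
        rw [hak]
        exact ((Commute.pow_left (show Commute (h : G) (f : G) from hcomm) k).eq)
      rw [hWfix, Subgroup.mem_bot] at hmem
      exact Subtype.ext hmem)
    (by
      intro n hn
      have hmem : (n : G) ∈ N ⊓ Subgroup.centralizer (W : Set G) := by
        refine Subgroup.mem_inf.mpr ⟨n.2, ?_⟩
        rw [Subgroup.mem_centralizer_iff]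
        intro w hw
        have := congrArg (fun y : ↥N => (y : G)) (hn ⟨w, hw⟩)
        simp only [cF, free_aux_conj_apply] at this
        calc w * (n : G) = (w * (n : G) * w⁻¹) * w := by group
          _ = (n : G) * w := by rw [this]
      rw [hNW, Subgroup.mem_bot] at hmem
      exact Subtype.ext hmem)
    hnil hrW
  rw [hcardA] at key
  rw [← key]
  congr 1
  refine Nat.card_congr ?_
  refine
    { toFun := fun g => ⟨⟨(g : G), g.2.1⟩, fun h => Subtype.ext (by
        rw [free_aux_conj_apply]
        have := (Subgroup.mem_centralizer_iff.mp g.2.2) (h : G) h.2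
        change (h : G) * (g : G) * (h : G)⁻¹ = (g : G)
        rw [this]; group)⟩
      invFun := fun n => ⟨(n.1 : G), Subgroup.mem_inf.mpr ⟨n.1.2, by
        rw [Subgroup.mem_centralizer_iff]
        intro a ha
        have := congrArg (fun y : ↥N => (y : G)) (n.2 ⟨a, ha⟩)
        simp only [cH, free_aux_conj_apply] at this
        calc a * (n.1 : G) = (a * (n.1 : G) * a⁻¹) * a := by group
          _ = (n.1 : G) * a := by rw [this]⟩⟩
      left_inv := fun g => rfl
      right_inv := fun n => rfl }

end Cfsg.Agent.S3816P
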