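import Mathlib
import Cfsg.Prelude.Def_GeometricClasses
import Cfsg.Prelude.Def_Classical
import Cfsg.Prelude.Def_LieClassical
import Cfsg.Agent.Helper28.UPair6

set_option autoImplicit false
open scoped MatrixGroups Matrix

/-! # S5984: basic definitions and small lemmas shared by all pieces. -/

namespace Cfsg.Agent.S5984P

open Cfsg.Agent.S2644 Cfsg.Agent.Helper2.SUGen Cfsg.Agent.Helper28.UPair

variable {F : Type*} [Field F] {q n : ℕ}

/-- dimension of the `μ`-eigenspace of a matrix -/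
noncomputable def kd (x : Matrix (Fin n) (Fin n) F) (μ : F) : ℕ :=
  Module.finrank F (Module.End.eigenspace (Matrix.toLin' x) μ)

theorem kd_def (x : Matrix (Fin n) (Fin n) F) (μ : F) :
    kd x μ = Module.finrank F (Module.End.eigenspace (Matrix.toLin' x) μ) := rfl

theorem mem_eig (x : Matrix (Fin n) (Fin n) F) (μ : F) (v : Fin n → F) :
    v ∈ Module.End.eigenspace (Matrix.toLin' x) μ ↔ x *ᵥ v = μ • v := by
  rw [Module.End.mem_eigenspace_iff, Matrix.toLin'_apply]

/-- the Frobenius data of a field with `q ^ 2` elements -/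
theorem frobOf [Fintype F] (hF : Fintype.card F = q ^ 2) : Nonempty (Frob F q) := by
  obtain ⟨σ, hσ, hσ2⟩ := Cfsg.Agent.Helper28.exists_frob hF
  exact ⟨⟨σ, hσ, hσ2, Cfsg.Agent.S0837.frob_ne_id hF σ hσ⟩⟩

/-- the two members of a decomposition into two totally singular subspaces form a polar pair -/
theorem lp_of_decomp {k : ℕ} (D : Fin 2 → Submodule F (Fin n → F))
    (hD : Cfsg.Geo.IsMDecomposition k D)
    (hDs : ∀ i, Cfsg.Geo.IsTotallySingularFor (Cfsg.hermForm n F q) (D i)) :
    LP q (D 0) (D 1) := by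
  refine ⟨hDs 0, hDs 1, fun x => ?_⟩
  have hx : x ∈ iSup D := by rw [hD.iSup_eq_top]; trivial
  have hle : iSup D ≤ D 0 ⊔ D 1 := by
    apply iSup_le
    intro i
    fin_cases i
    · exact le_sup_left
    · exact le_sup_right
  obtain ⟨a, ha, b, hb, rfl⟩ := Submodule.mem_sup.mp (hle hx)
  exact ⟨a, ha, b, hb, rfl⟩

/-- membership in the stabilizer of a pair: the two cases -/
theorem mem_stab_cases (D : Fin 2 → Submodule F (Fin n → F)) (y : GL (Fin n) F)
    (hy : y ∈ Cfsg.Geo.decompositionStabilizer D) :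
    ((∀ a ∈ D 0, (y : Matrix (Fin n) (Fin n) F) *ᵥ a ∈ D 0) ∧
      (∀ b ∈ D 1, (y : Matrix (Fin n) (Fin n) F) *ᵥ b ∈ D 1)) ∨
    ((∀ a ∈ D 0, (y : Matrix (Fin n) (Fin n) F) *ᵥ a ∈ D 1) ∧
      (∀ b ∈ D 1, (y : Matrix (Fin n) (Fin n) F) *ᵥ b ∈ D 0)) := by
  obtain ⟨σ, hσ⟩ := forall_of_mem_decompStab' D y hy
  have hcases : σ 0 = 0 ∨ σ 0 = 1 := by
    generalize σ 0 = j
    fin_cases j
    · left; rfl
    · right; rfl
  rcases hcases with h0 | h0
  · have h1 : σ 1 = 1 := by
      have hne : σ 1 ≠ σ 0 := fun h => by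
        have := σ.injective h
        exact absurd this (by decide)
      rw [h0] at hne
      generalize σ 1 = j at hne
      fin_cases j
      · exact absurd rfl hne
      · rfl
    left
    refine ⟨fun a ha => ?_, fun b hb => ?_⟩
    · have := hσ 0 a ha; rwa [h0] at this
    · have := hσ 1 b hb; rwa [h1] at this
  · have h1 : σ 1 = 0 := by
      have hne : σ 1 ≠ σ 0 := fun h => by
        have := σ.injective h
        exact absurd this (by decide)
      rw [h0] at hne
      generalize σ 1 = j at hne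
      fin_cases j
      · rfl
      · exact absurd rfl hne
    right
    refine ⟨fun a ha => ?_, fun b hb => ?_⟩
    · have := hσ 0 a ha; rwa [h0] at this
    · have := hσ 1 b hb; rwa [h1] at this

theorem mem_stab_of_fix {k : ℕ} (D : Fin 2 → Submodule F (Fin n → F))
    (hk : ∀ i, Module.finrank F (D i) = k) (y : GL (Fin n) F)
    (h0 : ∀ a ∈ D 0, (y : Matrix (Fin n) (Fin n) F) *ᵥ a ∈ D 0)
    (h1 : ∀ b ∈ D 1, (y : Matrix (Fin n) (Fin n) F) *ᵥ b ∈ D 1) :
    y ∈ Cfsg.Geo.decompositionStabilizer D := by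
  refine mem_decompStab_of' D hk y 1 ?_
  intro i x hx
  fin_cases i
  · exact h0 x hx
  · exact h1 x hx

theorem mem_stab_of_swap {k : ℕ} (D : Fin 2 → Submodule F (Fin n → F))
    (hk : ∀ i, Module.finrank F (D i) = k) (y : GL (Fin n) F)
    (h0 : ∀ a ∈ D 0, (y : Matrix (Fin n) (Fin n) F) *ᵥ a ∈ D 1)
    (h1 : ∀ b ∈ D 1, (y : Matrix (Fin n) (Fin n) F) *ᵥ b ∈ D 0) :
    y ∈ Cfsg.Geo.decompositionStabilizer D := by
  refine mem_decompStab_of' D hk y (Equiv.swap 0 1) ?_
  intro i x hx
  fin_cases i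
  · exact h0 x hx
  · exact h1 x hx

/-- a scalar matrix has eigenspaces of dimension `0` or `n` -/
theorem kd_scalar (z μ : F) :
    kd (z • (1 : Matrix (Fin n) (Fin n) F)) μ = 0 ∨ kd (z • (1 : Matrix (Fin n) (Fin n) F)) μ = n := by
  by_cases hz : z = μ
  · right
    have : Module.End.eigenspace (Matrix.toLin' (z • (1 : Matrix (Fin n) (Fin n) F))) μ = ⊤ := by
      rw [eq_top_iff]
      intro v _
      rw [mem_eig, Matrix.smul_mulVec, Matrix.one_mulVec, hz]
    rw [kd_def, this, finrank_top, Module.finrank_fin_fun]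
  · left
    have : Module.End.eigenspace (Matrix.toLin' (z • (1 : Matrix (Fin n) (Fin n) F))) μ = ⊥ := by
      rw [eq_bot_iff]
      intro v hv
      rw [mem_eig, Matrix.smul_mulVec, Matrix.one_mulVec] at hv
      have h1 : (z - μ) • v = 0 := by rw [sub_smul, hv, sub_self]
      rcases smul_eq_zero.mp h1 with h2 | h2
      · exact absurd (sub_eq_zero.mp h2) hz
      · exact h2
    rw [kd_def, this, finrank_bot]

theorem not_scalar_of_kd (x : Matrix (Fin n) (Fin n) F) (μ : F) (h0 : 0 < kd x μ) (hn : kd x μ < n) :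
    ∀ z : F, x ≠ z • (1 : Matrix (Fin n) (Fin n) F) := by
  intro z hz
  rcases kd_scalar (n := n) z μ with h | h
  · rw [← hz] at h; omega
  · rw [← hz] at h; omega

/-- the square of a matrix preserving the form that is a scalar: the scalar has norm one -/
theorem norm_of_sq (D : Frob F q) (hn : 0 < n) (x : Matrix (Fin n) (Fin n) F) (hx : Pres (q := q) x)
    (z : F) (hz : x * x = z • (1 : Matrix (Fin n) (Fin n) F)) : z ^ (q + 1) = 1 := by
  classical
  let e : Fin n → F := Pi.single ⟨0, hn⟩ 1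
  have he : Cfsg.hermForm n F q e e = 1 := by
    have := herm_single_right D.σ D.pow e ⟨0, hn⟩
    rw [this]
    simp [e]
  have h1 : Cfsg.hermForm n F q ((x * x) *ᵥ e) ((x * x) *ᵥ e) = Cfsg.hermForm n F q e e :=
    (hx.mul hx) e e
  rw [hz, Matrix.smul_mulVec, Matrix.one_mulVec, h_smul_left, h_smul_right D, he, D.pow] at h1
  rw [pow_succ, mul_comm]
  simpa using h1

end Cfsg.Agent.S5984P
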