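import Mathlib
import Cfsg.Agent.Helper5.ZasDefs

/-!
# Zassenhaus cluster, piece Z1: a two-dimensional invariant subspace gives an embedding into `SL₂`

If a set `T` of elements of order three of a fixed-point-free group leaves a two-dimensional
subspace `W` invariant and no member of `T` acts on `W` as a scalar, then the subgroup generated
by `T` embeds into `SL₂(𝔽_p)`.
-/

set_option autoImplicit false
set_option linter.style.haveILetI false

namespace Cfsg.Agent.Helper5.Zas

variable {p : ℕ} [Fact p.Prime] {G : Type*} [Group G] [Finite G] {V : Type*} [AddCommGroup V]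
  [Module (ZMod p) V] [Finite V] [Nontrivial V]

local notation "SL2p" => Matrix.SpecialLinearGroup (Fin 2) (ZMod p)

namespace Z1

omit [Finite G] [Finite V] [Nontrivial V] in
/-- An element of order three satisfies `ρ² + ρ + 1 = 0` pointwise. -/
theorem rho_three_apply (S : Setup p G V) {g : G} (hg : orderOf g = 3) (v : V) :
    S.ρ g (S.ρ g v) + S.ρ g v + v = 0 := by
  have hg1 : g ≠ 1 := by
    rintro rfl
    simp at hg
  have h3 : g ^ 3 = 1 := by
    rw [← hg]; exact pow_orderOf_eq_one g
  have hρ3 : S.ρ g (S.ρ g (S.ρ g v)) = v := by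
    have : S.ρ (g ^ 3) v = v := by rw [h3, map_one]; rfl
    rw [pow_succ, pow_succ, pow_one, map_mul, map_mul] at this
    exact this
  apply S.fpf g hg1
  rw [map_add, map_add, hρ3]
  abel

set_option linter.unusedSectionVars false in
omit [Finite G] [Finite V] [Nontrivial V] in
/-- The inverse of an element of order three acts as the square. -/
theorem rho_inv_three (S : Setup p G V) {g : G} (hg : orderOf g = 3) :
    S.ρ g⁻¹ = S.ρ g * S.ρ g := by
  have h3 : g ^ 3 = 1 := by
    rw [← hg]; exact pow_orderOf_eq_one g
  have : g⁻¹ = g * g := by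
    rw [inv_eq_iff_mul_eq_one]
    rw [← h3, pow_succ, pow_succ, pow_one]
    group
  rw [this, map_mul]

/-- The subgroup of all elements leaving `W` invariant together with their inverses. -/
def stab (S : Setup p G V) (W : Submodule (ZMod p) V) : Subgroup G where
  carrier := {h | (∀ v ∈ W, S.ρ h v ∈ W) ∧ (∀ v ∈ W, S.ρ h⁻¹ v ∈ W)}
  mul_mem' := by
    intro a b ha hb
    refine ⟨fun v hv => ?_, fun v hv => ?_⟩
    · rw [map_mul]
      exact ha.1 _ (hb.1 _ hv)
    · rw [mul_inv_rev, map_mul]
      exact hb.2 _ (ha.2 _ hv)
  one_mem' := by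
    refine ⟨fun v hv => ?_, fun v hv => ?_⟩
    · rw [map_one]; exact hv
    · rw [inv_one, map_one]; exact hv
  inv_mem' := by
    intro a ha
    refine ⟨ha.2, fun v hv => ?_⟩
    rw [inv_inv]
    exact ha.1 _ hv

omit [Finite G] [Finite V] [Nontrivial V] in
theorem closure_le_stab (S : Setup p G V) (T : Set G) (W : Submodule (ZMod p) V)
    (hinv : ∀ g ∈ T, ∀ v ∈ W, S.ρ g v ∈ W) (h3 : ∀ g ∈ T, orderOf g = 3) :
    Subgroup.closure T ≤ stab S W := by
  rw [Subgroup.closure_le]
  intro g hg
  refine ⟨hinv g hg, fun v hv => ?_⟩
  rw [rho_inv_three S (h3 g hg)]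
  exact hinv g hg _ (hinv g hg _ hv)

/-- The action on `W` of the elements of the stabilizer, as a monoid homomorphism. -/
def resHom (S : Setup p G V) (W : Submodule (ZMod p) V) :
    stab S W →* Module.End (ZMod p) W where
  toFun h := (S.ρ (h : G)).restrict h.2.1
  map_one' := by
    apply LinearMap.ext
    intro v
    apply Subtype.ext
    simp [LinearMap.restrict_apply]
  map_mul' a b := by
    apply LinearMap.ext
    intro v
    apply Subtype.ext
    simp [LinearMap.restrict_apply]

omit [Finite G] [Finite V] [Nontrivial V] in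
theorem resHom_apply (S : Setup p G V) (W : Submodule (ZMod p) V) (h : stab S W) (v : W) :
    ((resHom S W h v : W) : V) = S.ρ (h : G) (v : V) := rfl

/-- Two-by-two Cayley–Hamilton for a non-scalar matrix with `A² + A + 1 = 0`. -/
theorem det_eq_one_of_sq {F : Type*} [Field F] (A : Matrix (Fin 2) (Fin 2) F)
    (hA : A * A + A + 1 = 0) (hns : ¬ ∃ c : F, A = c • (1 : Matrix (Fin 2) (Fin 2) F)) :
    A.det = 1 := by
  have h00 := congrFun (congrFun hA 0) 0
  have h01 := congrFun (congrFun hA 0) 1
  have h10 := congrFun (congrFun hA 1) 0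
  have h11 := congrFun (congrFun hA 1) 1
  simp only [Matrix.add_apply, Matrix.mul_apply, Fin.sum_univ_two, Matrix.one_apply_eq,
    Matrix.zero_apply, ne_eq, zero_ne_one, one_ne_zero, not_false_eq_true,
    Matrix.one_apply_ne, add_zero, Fin.isValue] at h00 h01 h10 h11
  rw [Matrix.det_fin_two]
  set a := A 0 0
  set b := A 0 1
  set c := A 1 0
  set d := A 1 1
  have htr : a + d + 1 = 0 := by
    by_contra hne
    have hb : b = 0 := by
      have : b * (a + d + 1) = 0 := by linear_combination h01
      rcases mul_eq_zero.mp this with h | h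
      · exact h
      · exact absurd h hne
    have hc : c = 0 := by
      have : c * (a + d + 1) = 0 := by linear_combination h10
      rcases mul_eq_zero.mp this with h | h
      · exact h
      · exact absurd h hne
    have had : a = d := by
      have : (a - d) * (a + d + 1) = 0 := by
        rw [hb, hc] at h00 h11
        linear_combination h00 - h11
      rcases mul_eq_zero.mp this with h | h
      · exact sub_eq_zero.mp h
      · exact absurd h hne
    apply hns
    refine ⟨a, ?_⟩
    ext i j
    fin_cases i <;> fin_cases j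
    · simp [a]
    · simpa using hb
    · simpa using hc
    · simp only [Fin.mk_one, Fin.isValue, Matrix.smul_apply, Matrix.one_apply_eq, smul_eq_mul,
        mul_one]
      exact had.symm
  linear_combination (-1 : F) * h00 + a * htr

end Z1

set_option linter.unusedSectionVars false in
open Z1 in
/-- **Piece Z1.** A two-dimensional invariant subspace on which the generators (of order three)
act non-scalarly gives an embedding of the generated subgroup into `SL₂(𝔽_p)`. -/
theorem exists_sl2_of_invariant (S : Setup p G V) (T : Set G) (W : Submodule (ZMod p) V)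
    (hrank : Module.finrank (ZMod p) W = 2)
    (hinv : ∀ g ∈ T, ∀ v ∈ W, S.ρ g v ∈ W)
    (h3 : ∀ g ∈ T, orderOf g = 3)
    (hns : ∀ g ∈ T, ¬ ∃ c : ZMod p, ∀ v ∈ W, S.ρ g v = c • v) :
    ∃ φ : Subgroup.closure T →* SL2p, Function.Injective φ := by
  classical
  have hle := closure_le_stab S T W hinv h3
  haveI : Module.Finite (ZMod p) W := Module.finite_of_finrank_pos (by omega)
  let b : Module.Basis (Fin 2) (ZMod p) W := Module.finBasisOfFinrankEq (ZMod p) W hrank
  -- the matrix hom on the closure
  let ψ : Subgroup.closure T →* Matrix (Fin 2) (Fin 2) (ZMod p) :=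
    ((LinearMap.toMatrixAlgEquiv b).toAlgHom.toRingHom.toMonoidHom.comp (resHom S W)).comp
      (Subgroup.inclusion hle)
  have hψ : ∀ h : Subgroup.closure T,
      ψ h = LinearMap.toMatrixAlgEquiv b (resHom S W (Subgroup.inclusion hle h)) := fun h => rfl
  -- generators have determinant one
  have hgen : ∀ g (hg : g ∈ T), (ψ ⟨g, Subgroup.subset_closure hg⟩).det = 1 := by
    intro g hg
    set f := resHom S W (Subgroup.inclusion hle ⟨g, Subgroup.subset_closure hg⟩) with hf
    have hfv : ∀ v : W, ((f v : W) : V) = S.ρ g (v : V) := fun v => rfl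
    have hquad : f * f + f + 1 = 0 := by
      apply LinearMap.ext
      intro v
      apply Subtype.ext
      simp only [LinearMap.add_apply, Module.End.mul_apply, Module.End.one_apply,
        Submodule.coe_add, LinearMap.zero_apply, ZeroMemClass.coe_zero, hfv]
      exact rho_three_apply S (h3 g hg) (v : V)
    apply det_eq_one_of_sq
    · rw [hψ, ← hf, ← map_mul, ← map_add, ← map_one (LinearMap.toMatrixAlgEquiv b), ← map_add,
        hquad, map_zero]
    · rintro ⟨c, hc⟩
      apply hns g hg
      refine ⟨c, fun v hv => ?_⟩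
      have h1 : f = c • (1 : Module.End (ZMod p) W) := by
        apply (LinearMap.toMatrixAlgEquiv b).injective
        rw [← hψ, hc, map_smul, map_one]
      have := congrArg (fun e : Module.End (ZMod p) W => ((e ⟨v, hv⟩ : W) : V)) h1
      simpa [hfv] using this
  have hdet : ∀ h : Subgroup.closure T, (ψ h).det = 1 := by
    rintro ⟨h, hh⟩
    induction hh using Subgroup.closure_induction with
    | mem x hx => exact hgen x hx
    | one =>
      have : (⟨1, Subgroup.one_mem _⟩ : Subgroup.closure T) = 1 := rfl
      rw [this, map_one, Matrix.det_one]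
    | mul x y hx hy ihx ihy =>
      have : (⟨x * y, Subgroup.mul_mem _ hx hy⟩ : Subgroup.closure T) = ⟨x, hx⟩ * ⟨y, hy⟩ := rfl
      rw [this, map_mul, Matrix.det_mul, ihx, ihy, mul_one]
    | inv x hx ihx =>
      have h1 : (⟨x⁻¹, Subgroup.inv_mem _ hx⟩ : Subgroup.closure T) * ⟨x, hx⟩ = 1 := by
        apply Subtype.ext
        simp
      have h2 := congrArg (fun m => Matrix.det (ψ m)) h1
      simp only [map_mul, Matrix.det_mul, ihx, mul_one, map_one, Matrix.det_one] at h2
      exact h2
  let φ : Subgroup.closure T →* SL2p :=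
    { toFun := fun h => ⟨ψ h, hdet h⟩
      map_one' := by
        apply Subtype.ext
        simp
      map_mul' := fun a c => by
        apply Subtype.ext
        exact map_mul ψ a c }
  refine ⟨φ, ?_⟩
  rw [injective_iff_map_eq_one]
  intro h hh
  have hψ1 : ψ h = 1 := by
    have := congrArg Subtype.val hh
    exact this
  have hres : resHom S W (Subgroup.inclusion hle h) = 1 := by
    apply (LinearMap.toMatrixAlgEquiv b).injective
    rw [← hψ, hψ1, map_one]
  -- pick a nonzero vector of `W`
  have hWne : W ≠ ⊥ := by
    intro hbot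
    rw [hbot] at hrank
    simp at hrank
  obtain ⟨v, hvW, hv0⟩ := (Submodule.ne_bot_iff W).mp hWne
  by_contra hne
  have hne' : (h : G) ≠ 1 := fun e => hne (Subtype.ext e)
  apply hv0
  apply S.fpf (h : G) hne' v
  have := congrArg (fun e : Module.End (ZMod p) W => ((e ⟨v, hvW⟩ : W) : V)) hres
  simpa [resHom_apply] using this

end Cfsg.Agent.Helper5.Zas
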