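import Mathlib

/-!
# Zassenhaus cluster, piece Z6 (algebra part): three "pure quaternions" with scalar anticommutators

In an algebra `E` over a field `F`, let `u₁ u₂ u₃` satisfy `u_i² = -3` and
`u_i u_j + u_j u_i = b_ij` (scalars).  The element
`z = 2 u₁u₂u₃ - b₂₃ u₁ + b₁₃ u₂ - b₁₂ u₃` (one third of the antisymmetrised product) commutes with
`u₁, u₂`, its square is the scalar `108 - b₁₂b₁₃b₂₃ - 3(b₁₂² + b₁₃² + b₂₃²)`, and
`q = 2 u₁u₂ - b₁₂` has square `b₁₂² - 36`.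
-/

set_option autoImplicit false
set_option linter.unusedSimpArgs false

namespace Cfsg.Agent.Helper5.Zas.Z6

variable {F E : Type*} [Field F] [Ring E] [Algebra F E]

/-- The relations. -/
structure Rel (u₁ u₂ u₃ : E) (b₁₂ b₁₃ b₂₃ : F) : Prop where
  h1 : u₁ * u₁ = -3
  h2 : u₂ * u₂ = -3
  h3 : u₃ * u₃ = -3
  e12 : u₁ * u₂ + u₂ * u₁ = algebraMap F E b₁₂
  e13 : u₁ * u₃ + u₃ * u₁ = algebraMap F E b₁₃
  e23 : u₂ * u₃ + u₃ * u₂ = algebraMap F E b₂₃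

/-- The central "pseudoscalar". -/
def zz (u₁ u₂ u₃ : E) (b₁₂ b₁₃ b₂₃ : F) : E :=
  (2 : F) • (u₁ * (u₂ * u₃)) - b₂₃ • u₁ + b₁₃ • u₂ - b₁₂ • u₃

/-- The commutator of `u₁` and `u₂`. -/
def qq (u₁ u₂ : E) (b₁₂ : F) : E := (2 : F) • (u₁ * u₂) - b₁₂ • (1 : E)

theorem neg_three_mul (X : E) : (-3 : E) * X = (-3 : F) • X := by
  rw [Algebra.smul_def, map_neg, map_ofNat]

section rules

variable {u₁ u₂ u₃ : E} {b₁₂ b₁₃ b₂₃ : F} (H : Rel u₁ u₂ u₃ b₁₂ b₁₃ b₂₃)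
include H

theorem r21 : u₂ * u₁ = b₁₂ • (1 : E) - u₁ * u₂ := by
  rw [← Algebra.algebraMap_eq_smul_one, ← H.e12]; abel

theorem r31 : u₃ * u₁ = b₁₃ • (1 : E) - u₁ * u₃ := by
  rw [← Algebra.algebraMap_eq_smul_one, ← H.e13]; abel

theorem r32 : u₃ * u₂ = b₂₃ • (1 : E) - u₂ * u₃ := by
  rw [← Algebra.algebraMap_eq_smul_one, ← H.e23]; abel

theorem r21' (X : E) : u₂ * (u₁ * X) = b₁₂ • X - u₁ * (u₂ * X) := by
  rw [← mul_assoc, r21 H, sub_mul, smul_mul_assoc, one_mul, mul_assoc]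

theorem r31' (X : E) : u₃ * (u₁ * X) = b₁₃ • X - u₁ * (u₃ * X) := by
  rw [← mul_assoc, r31 H, sub_mul, smul_mul_assoc, one_mul, mul_assoc]

theorem r32' (X : E) : u₃ * (u₂ * X) = b₂₃ • X - u₂ * (u₃ * X) := by
  rw [← mul_assoc, r32 H, sub_mul, smul_mul_assoc, one_mul, mul_assoc]

theorem s1 : u₁ * u₁ = (-3 : F) • (1 : E) := by
  rw [H.h1, ← neg_three_mul (F := F), mul_one]

theorem s2 : u₂ * u₂ = (-3 : F) • (1 : E) := by
  rw [H.h2, ← neg_three_mul (F := F), mul_one]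

theorem s3 : u₃ * u₃ = (-3 : F) • (1 : E) := by
  rw [H.h3, ← neg_three_mul (F := F), mul_one]

theorem s1' (X : E) : u₁ * (u₁ * X) = (-3 : F) • X := by
  rw [← mul_assoc, H.h1, neg_three_mul (F := F)]

theorem s2' (X : E) : u₂ * (u₂ * X) = (-3 : F) • X := by
  rw [← mul_assoc, H.h2, neg_three_mul (F := F)]

theorem s3' (X : E) : u₃ * (u₃ * X) = (-3 : F) • X := by
  rw [← mul_assoc, H.h3, neg_three_mul (F := F)]

/-- `z` commutes with `u₁`. -/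
theorem zz_comm1 : zz u₁ u₂ u₃ b₁₂ b₁₃ b₂₃ * u₁ = u₁ * zz u₁ u₂ u₃ b₁₂ b₁₃ b₂₃ := by
  unfold zz
  simp only [mul_add, add_mul, mul_sub, sub_mul, mul_assoc, smul_mul_assoc, mul_smul_comm,
    mul_one, one_mul, r21 H, r31 H, r32 H, r21' H, r31' H, r32' H, s1 H, s2 H, s3 H, s1' H,
    s2' H, s3' H, smul_sub, smul_add, smul_smul]
  module

/-- `z` commutes with `u₂`. -/
theorem zz_comm2 : zz u₁ u₂ u₃ b₁₂ b₁₃ b₂₃ * u₂ = u₂ * zz u₁ u₂ u₃ b₁₂ b₁₃ b₂₃ := by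
  unfold zz
  simp only [mul_add, add_mul, mul_sub, sub_mul, mul_assoc, smul_mul_assoc, mul_smul_comm,
    mul_one, one_mul, r21 H, r31 H, r32 H, r21' H, r31' H, r32' H, s1 H, s2 H, s3 H, s1' H,
    s2' H, s3' H, smul_sub, smul_add, smul_smul]
  module

/-- `z` commutes with `u₃`. -/
theorem zz_comm3 : zz u₁ u₂ u₃ b₁₂ b₁₃ b₂₃ * u₃ = u₃ * zz u₁ u₂ u₃ b₁₂ b₁₃ b₂₃ := by
  unfold zz
  simp only [mul_add, add_mul, mul_sub, sub_mul, mul_assoc, smul_mul_assoc, mul_smul_comm,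
    mul_one, one_mul, r21 H, r31 H, r32 H, r21' H, r31' H, r32' H, s1 H, s2 H, s3 H, s1' H,
    s2' H, s3' H, smul_sub, smul_add, smul_smul]
  module

/-- The square of `z` is a scalar. -/
theorem zz_sq : zz u₁ u₂ u₃ b₁₂ b₁₃ b₂₃ * zz u₁ u₂ u₃ b₁₂ b₁₃ b₂₃ =
    (108 - b₁₂ * b₁₃ * b₂₃ - 3 * (b₁₂ ^ 2 + b₁₃ ^ 2 + b₂₃ ^ 2)) • (1 : E) := by
  unfold zz
  simp only [mul_add, add_mul, mul_sub, sub_mul, mul_assoc, smul_mul_assoc, mul_smul_comm,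
    mul_one, one_mul, r21 H, r31 H, r32 H, r21' H, r31' H, r32' H, s1 H, s2 H, s3 H, s1' H,
    s2' H, s3' H, smul_sub, smul_add, smul_smul]
  module

/-- The square of `q` is the scalar `b₁₂² - 36`. -/
theorem qq_sq : qq u₁ u₂ b₁₂ * qq u₁ u₂ b₁₂ = (b₁₂ ^ 2 - 36) • (1 : E) := by
  unfold qq
  simp only [mul_add, add_mul, mul_sub, sub_mul, mul_assoc, smul_mul_assoc, mul_smul_comm,
    mul_one, one_mul, r21 H, r31 H, r32 H, r21' H, r31' H, r32' H, s1 H, s2 H, s3 H, s1' H,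
    s2' H, s3' H, smul_sub, smul_add, smul_smul]
  module

/-- `(u₁ + u₂)² = b₁₂ - 6` and `(u₁ - u₂)² = -b₁₂ - 6`. -/
theorem add_sq : (u₁ + u₂) * (u₁ + u₂) = (b₁₂ - 6) • (1 : E) := by
  simp only [mul_add, add_mul, mul_sub, sub_mul, mul_assoc, smul_mul_assoc, mul_smul_comm,
    mul_one, one_mul, r21 H, s1 H, s2 H, smul_sub, smul_add, smul_smul]
  module

theorem sub_sq : (u₁ - u₂) * (u₁ - u₂) = (-b₁₂ - 6) • (1 : E) := by
  simp only [mul_add, add_mul, mul_sub, sub_mul, mul_assoc, smul_mul_assoc, mul_smul_comm,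
    mul_one, one_mul, r21 H, s1 H, s2 H, smul_sub, smul_add, smul_smul]
  module

end rules

theorem zz_eq (u₁ u₂ u₃ : E) (b₁₂ b₁₃ b₂₃ : F) :
    zz u₁ u₂ u₃ b₁₂ b₁₃ b₂₃ = qq u₁ u₂ b₁₂ * u₃ - b₂₃ • u₁ + b₁₃ • u₂ := by
  unfold zz qq
  simp only [sub_mul, smul_mul_assoc, one_mul, mul_assoc]
  abel

end Cfsg.Agent.Helper5.Zas.Z6
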