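import Mathlib
import Cfsg.Agent.Helper5.ZasDefs
import Cfsg.Agent.Helper3.ZasBasic
import Cfsg.Agent.Helper23.ZasSL2
import Cfsg.Agent.Helper23.ZasCliff

/-!
# Zassenhaus cluster, piece Z6 (part a): pointwise facts about elements of order three
-/

set_option autoImplicit false
set_option linter.unusedSectionVars false

namespace Cfsg.Agent.Helper5.Zas

variable {p : ℕ} [Fact p.Prime] {G : Type*} [Group G] [Finite G] {V : Type*} [AddCommGroup V]
  [Module (ZMod p) V] [Finite V] [Nontrivial V]

namespace Z6

theorem two_ne_zero (S : Setup p G V) : (2 : ZMod p) ≠ 0 := by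
  have := S.natCast_ne_zero (n := 2) (by norm_num) (by norm_num)
  simpa using this

theorem rho_sq_apply (S : Setup p G V) {g : G} (hg : orderOf g = 3) (v : V) :
    S.ρ g (S.ρ g v) = -v - S.ρ g v := by
  have := Z1.rho_three_apply S hg v
  rw [eq_sub_iff_add_eq, eq_neg_iff_add_eq_zero]
  rw [← this]

theorem rho_inv_apply (S : Setup p G V) {g : G} (hg : orderOf g = 3) (v : V) :
    S.ρ g⁻¹ v = -v - S.ρ g v := by
  rw [Z1.rho_inv_three S hg, Module.End.mul_apply, rho_sq_apply S hg]

theorem pure_apply (S : Setup p G V) (g : G) (v : V) :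
    S.pure g v = (2 : ZMod p) • S.ρ g v + v := by
  unfold Setup.pure
  rw [LinearMap.add_apply, Module.End.one_apply, two_mul, LinearMap.add_apply, two_smul]

theorem pure_sq (S : Setup p G V) {g : G} (hg : orderOf g = 3) :
    S.pure g * S.pure g = -3 := by
  apply LinearMap.ext
  intro v
  rw [Module.End.mul_apply, pure_apply, pure_apply, map_add, map_smul, rho_sq_apply S hg,
    LinearMap.neg_apply, Module.End.ofNat_apply]
  have h3 : (OfNat.ofNat 3 : ℕ) • v = (3 : ZMod p) • v := by
    rw [← Nat.cast_smul_eq_nsmul (ZMod p)]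
    norm_num
  rw [h3]
  module

theorem rho_apply_of_pure (S : Setup p G V) (g : G) (v : V) :
    S.ρ g v = (2 : ZMod p)⁻¹ • (S.pure g v - v) := by
  rw [pure_apply, add_sub_cancel_right, smul_smul, inv_mul_cancel₀ (two_ne_zero S), one_smul]

/-- For a root `c` of `X² + X + 1`, the vector `ρ g v - (-1 - c) v` is a `c`-eigenvector. -/
theorem eigen_shift (S : Setup p G V) {g : G} (hg : orderOf g = 3) (c : ZMod p)
    (hc : c * c + c + 1 = 0) (v : V) :
    S.ρ g (S.ρ g v - (-1 - c) • v) = c • (S.ρ g v - (-1 - c) • v) := by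
  rw [map_sub, map_smul, rho_sq_apply S hg]
  have h1 : c * (-1 - c) = 1 := by linear_combination (-1 : ZMod p) * hc
  rw [smul_sub, smul_smul, h1]
  module

/-- If `(ρ g - ρ h)` or similar difference operator `d` squares to zero and `d w = 0` forces an
equality of group elements, we get that equality: a vector killed by `d`. -/
theorem exists_killed (d : Module.End (ZMod p) V) (hd : d * d = 0) :
    ∃ w : V, w ≠ 0 ∧ d w = 0 := by
  obtain ⟨v, hv⟩ := exists_ne (0 : V)
  by_cases h : d v = 0
  · exact ⟨v, hv, h⟩
  · refine ⟨d v, h, ?_⟩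
    have := congrArg (fun e : Module.End (ZMod p) V => e v) hd
    simpa using this

/-- A scalar-square operator has a nonzero eigenspace. -/
theorem exists_eigenspace (z : Module.End (ZMod p) V) (R : ZMod p)
    (hz : z * z = (R * R) • (1 : Module.End (ZMod p) V)) :
    ∃ c : ZMod p, LinearMap.ker (z - c • (1 : Module.End (ZMod p) V)) ≠ ⊥ := by
  by_cases h : LinearMap.ker (z - R • (1 : Module.End (ZMod p) V)) = ⊥
  · refine ⟨-R, ?_⟩
    have htop : LinearMap.ker (z - (-R) • (1 : Module.End (ZMod p) V)) = ⊤ := by
      rw [eq_top_iff]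
      intro v _
      rw [LinearMap.mem_ker]
      have h1 : (z - (-R) • (1 : Module.End (ZMod p) V)) v ∈
          LinearMap.ker (z - R • (1 : Module.End (ZMod p) V)) := by
        rw [LinearMap.mem_ker]
        have h2 := congrArg (fun e : Module.End (ZMod p) V => e v) hz
        simp only [Module.End.mul_apply, LinearMap.smul_apply, Module.End.one_apply] at h2
        simp only [LinearMap.sub_apply, LinearMap.smul_apply, Module.End.one_apply, map_sub,
          map_smul, h2]
        module
      rw [h] at h1
      exact (Submodule.mem_bot _).mp h1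
    rw [htop]
    exact top_ne_bot
  · exact ⟨R, h⟩

end Z6

end Cfsg.Agent.Helper5.Zas
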