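import Mathlib
import Cfsg.Agent.Helper5.ZasDefs
import Cfsg.Agent.Helper3.ZasBasic2
import Cfsg.Agent.Helper23.ZasCliff
import Cfsg.Agent.Helper23.ZasThmCa

/-!
# Zassenhaus cluster, piece Z7 (part a): auxiliary facts for `corA_card` and `thmB`
-/

set_option autoImplicit false
set_option linter.unusedSectionVars false
set_option linter.unusedSimpArgs false
set_option linter.style.haveILetI false

namespace Cfsg.Agent.Helper5.Zas

variable {p : ℕ} [Fact p.Prime] {G : Type*} [Group G] [Finite G] {V : Type*} [AddCommGroup V]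
  [Module (ZMod p) V] [Finite V] [Nontrivial V]

namespace Z7

section Cliff

variable {F E : Type*} [Field F] [Ring E] [Algebra F E]

/-- If `u₃` has scalar anticommutators with `u₁` and `u₂`, it commutes with the anticommutator of
`u₁` and `u₂`. -/
theorem anticomm_comm3 (u₁ u₂ u₃ : E) (b₁₃ b₂₃ : F)
    (e13 : u₁ * u₃ + u₃ * u₁ = algebraMap F E b₁₃)
    (e23 : u₂ * u₃ + u₃ * u₂ = algebraMap F E b₂₃) :
    (u₁ * u₂ + u₂ * u₁) * u₃ = u₃ * (u₁ * u₂ + u₂ * u₁) := by
  have r31 : u₃ * u₁ = b₁₃ • (1 : E) - u₁ * u₃ := by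
    rw [← Algebra.algebraMap_eq_smul_one, ← e13]; abel
  have r32 : u₃ * u₂ = b₂₃ • (1 : E) - u₂ * u₃ := by
    rw [← Algebra.algebraMap_eq_smul_one, ← e23]; abel
  have r31' : ∀ X : E, u₃ * (u₁ * X) = b₁₃ • X - u₁ * (u₃ * X) := by
    intro X; rw [← mul_assoc, r31, sub_mul, smul_mul_assoc, one_mul, mul_assoc]
  have r32' : ∀ X : E, u₃ * (u₂ * X) = b₂₃ • X - u₂ * (u₃ * X) := by
    intro X; rw [← mul_assoc, r32, sub_mul, smul_mul_assoc, one_mul, mul_assoc]
  simp only [mul_add, add_mul, mul_sub, sub_mul, mul_assoc, smul_mul_assoc, mul_smul_comm,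
    mul_one, one_mul, r31, r32, r31', r32', smul_sub, smul_add, smul_smul]
  module

end Cliff

/-- `√5` exists in `ZMod p`. -/
theorem exists_sqrt_five (S : Setup p G V) : ∃ s : ZMod p, s * s = 5 := by
  haveI : Fact (Nat.Prime 5) := ⟨by norm_num⟩
  have hG : 0 < Nat.card G := Nat.card_pos
  have hdvd : 120 ∣ p - 1 := dvd_trans (Dvd.intro _ rfl) S.split
  have hp1 : 1 ≤ p := (Fact.out : p.Prime).one_lt.le
  have h4 : p % 4 = 1 := by
    have : 4 ∣ p - 1 := dvd_trans (by norm_num) hdvd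
    omega
  have h5 : p % 5 = 1 := by
    have : 5 ∣ p - 1 := dvd_trans (by norm_num) hdvd
    omega
  have hsq : IsSquare ((5 : ℕ) : ZMod p) := by
    rw [ZMod.exists_sq_eq_prime_iff_of_mod_four_eq_one h4 (by norm_num)]
    have : ((p : ℕ) : ZMod 5) = 1 := by
      rw [← ZMod.natCast_mod, h5]; simp
    rw [this]
    exact IsSquare.one
  obtain ⟨s, hs⟩ := hsq
  exact ⟨s, by rw [← hs]; simp⟩

/-- A good pair has scalar anticommutator `±2`. -/
theorem good_anticomm (S : Setup p G V) {x w : G} (hx : orderOf x = 3) (hw : orderOf w = 3)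
    (hg : Good x w) :
    ∃ b : ZMod p, (b = 2 ∨ b = -2) ∧
      S.pure x * S.pure w + S.pure w * S.pure x = algebraMap (ZMod p) (Module.End (ZMod p) V) b := by
  rcases hg with h | h
  · refine ⟨-2, Or.inr rfl, ?_⟩
    rw [S.pure_anticomm hx hw, S.tr_of_orderOf_four h, mul_zero, zero_sub, map_neg, map_ofNat]
  · refine ⟨2, Or.inl rfl, ?_⟩
    rw [S.pure_anticomm hx hw, S.tr_of_orderOf_six h, mul_one, map_ofNat]
    norm_num

omit [Finite G] in
theorem closure_triple {a b w : G} :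
    Subgroup.closure ({a, b, w} : Set G) = Subgroup.closure ({a, b} : Set G) ⊔ Subgroup.zpowers w := by
  have : ({a, b, w} : Set G) = ({a, b} : Set G) ∪ {w} := by
    ext g
    simp only [Set.mem_insert_iff, Set.mem_singleton_iff, Set.mem_union]
    tauto
  rw [this, Subgroup.closure_union, Subgroup.zpowers_eq_closure]

theorem card_of_isBinary {H : Subgroup G} (h : IsBinary H) : Nat.card H = 24 ∨ Nat.card H = 120 := by
  rcases h with ⟨h, -⟩ | ⟨h, -⟩
  · exact Or.inl h
  · exact Or.inr h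

end Z7

end Cfsg.Agent.Helper5.Zas
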