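import Mathlib
import Cfsg.Agent.Helper5.ZasDefs
import Cfsg.Agent.Helper3.ZasBasic
import Cfsg.Agent.Helper3.ZasBasic2
import Cfsg.Agent.Helper23.ZasSL2
import Cfsg.Agent.Helper23.ZasCliff
import Cfsg.Agent.Helper23.ZasThmCa

/-!
# Zassenhaus cluster, piece Z6: Theorem C (`three_sl2`)

Three elements of order three whose "pure parts" have scalar anticommutators, with the
discriminant `108 - b₁₂b₁₃b₂₃ - 3(b₁₂² + b₁₃² + b₂₃²)` a square, generate a subgroup of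
`SL₂(𝔽_p)`.
-/

set_option autoImplicit false
set_option linter.unusedSectionVars false
set_option linter.style.haveILetI false

namespace Cfsg.Agent.Helper5.Zas

variable {p : ℕ} [Fact p.Prime] {G : Type*} [Group G] [Finite G] {V : Type*} [AddCommGroup V]
  [Module (ZMod p) V] [Finite V] [Nontrivial V]

local notation "SL2p" => Matrix.SpecialLinearGroup (Fin 2) (ZMod p)

namespace Z6

/-- `b₁₂² ≠ 36` when `x₂ ∉ ⟨x₁⟩`. -/
theorem delta_ne_zero (S : Setup p G V) {x₁ x₂ x₃ : G}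
    (h₂ : orderOf x₂ = 3) (h12 : x₂ ∉ Subgroup.zpowers x₁) {b₁₂ b₁₃ b₂₃ : ZMod p}
    (H : Rel (S.pure x₁) (S.pure x₂) (S.pure x₃) b₁₂ b₁₃ b₂₃) : b₁₂ ^ 2 - 36 ≠ 0 := by
  intro h0
  have hfac : (b₁₂ - 6) * (b₁₂ + 6) = 0 := by linear_combination h0
  have h2 := two_ne_zero S
  rcases mul_eq_zero.mp hfac with h | h
  · -- `b₁₂ = 6`: `(u₁ + u₂)² = 0`, so `x₁ = x₂⁻¹`
    have hd : (S.pure x₁ + S.pure x₂) * (S.pure x₁ + S.pure x₂) = 0 := by
      rw [add_sq H, h, zero_smul]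
    obtain ⟨w, hw0, hw⟩ := exists_killed _ hd
    rw [LinearMap.add_apply, pure_apply, pure_apply] at hw
    have e : S.ρ x₁ w = S.ρ x₂⁻¹ w := by
      rw [rho_inv_apply S h₂]
      have h3 : (2 : ZMod p) • (S.ρ x₁ w - (-w - S.ρ x₂ w)) = 0 := by
        rw [← hw]; module
      rcases smul_eq_zero.mp h3 with h4 | h4
      · exact absurd h4 h2
      · exact sub_eq_zero.mp h4
    have := S.eq_of_apply_eq hw0 e
    apply h12
    rw [this, Subgroup.zpowers_inv]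
    exact Subgroup.mem_zpowers x₂
  · -- `b₁₂ = -6`: `(u₁ - u₂)² = 0`, so `x₁ = x₂`
    have hb : -b₁₂ - 6 = 0 := by linear_combination (-1 : ZMod p) * h
    have hd : (S.pure x₁ - S.pure x₂) * (S.pure x₁ - S.pure x₂) = 0 := by
      rw [sub_sq H, hb, zero_smul]
    obtain ⟨w, hw0, hw⟩ := exists_killed _ hd
    rw [LinearMap.sub_apply, pure_apply, pure_apply] at hw
    have e : S.ρ x₁ w = S.ρ x₂ w := by
      have h3 : (2 : ZMod p) • (S.ρ x₁ w - S.ρ x₂ w) = 0 := by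
        rw [← hw]; module
      rcases smul_eq_zero.mp h3 with h4 | h4
      · exact absurd h4 h2
      · exact sub_eq_zero.mp h4
    have := S.eq_of_apply_eq hw0 e
    apply h12
    rw [this]
    exact Subgroup.mem_zpowers x₂

/-- An operator commuting with `pure g` commutes with `ρ g`. -/
theorem comm_rho_of_comm_pure (S : Setup p G V) (g : G) (z : Module.End (ZMod p) V)
    (hz : z * S.pure g = S.pure g * z) (v : V) : z (S.ρ g v) = S.ρ g (z v) := by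
  have h := congrArg (fun e : Module.End (ZMod p) V => e v) hz
  simp only [Module.End.mul_apply, pure_apply, map_add, map_smul] at h
  have h3 : (2 : ZMod p) • (z (S.ρ g v) - S.ρ g (z v)) = 0 := by
    rw [smul_sub, sub_eq_zero]
    exact add_right_cancel h
  rcases smul_eq_zero.mp h3 with h4 | h4
  · exact absurd h4 (two_ne_zero S)
  · exact sub_eq_zero.mp h4

/-- The two-dimensional space spanned by an eigenvector `v` of `ρ(x₁x₂)` and `ρ x₁ v`. -/
def WW (S : Setup p G V) (x₁ : G) (v : V) : Submodule (ZMod p) V :=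
  Submodule.span (ZMod p) (Set.range ![v, S.ρ x₁ v])

theorem v_mem_WW (S : Setup p G V) (x₁ : G) (v : V) : v ∈ WW S x₁ v :=
  Submodule.subset_span ⟨0, rfl⟩

theorem rho_v_mem_WW (S : Setup p G V) (x₁ : G) (v : V) : S.ρ x₁ v ∈ WW S x₁ v :=
  Submodule.subset_span ⟨1, rfl⟩

/-- To check invariance of `WW` under a linear map it suffices to look at the two generators. -/
theorem WW_invariant (S : Setup p G V) (x₁ : G) (v : V) (f : Module.End (ZMod p) V)
    (hv : f v ∈ WW S x₁ v) (hρv : f (S.ρ x₁ v) ∈ WW S x₁ v) :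
    ∀ w ∈ WW S x₁ v, f w ∈ WW S x₁ v := by
  have : WW S x₁ v ≤ (WW S x₁ v).comap f := by
    unfold WW
    rw [Submodule.span_le]
    rintro _ ⟨i, rfl⟩
    fin_cases i
    · exact hv
    · exact hρv
  exact fun w hw => this hw

theorem WW_le (S : Setup p G V) (x₁ : G) (v : V) (U : Submodule (ZMod p) V) (hv : v ∈ U)
    (hρv : S.ρ x₁ v ∈ U) : WW S x₁ v ≤ U := by
  unfold WW
  rw [Submodule.span_le]
  rintro _ ⟨i, rfl⟩
  fin_cases i
  · exact hv
  · exact hρv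


theorem rho_inv_rho (S : Setup p G V) (g : G) (y : V) : S.ρ g⁻¹ (S.ρ g y) = y := by
  have := congrArg (fun e : Module.End (ZMod p) V => e y) (S.rho_inv_mul g)
  simp only [Module.End.mul_apply, Module.End.one_apply] at this
  exact this

theorem rho_rho_inv (S : Setup p G V) (g : G) (y : V) : S.ρ g (S.ρ g⁻¹ y) = y := by
  have := congrArg (fun e : Module.End (ZMod p) V => e y) (S.rho_mul_inv g)
  simp only [Module.End.mul_apply, Module.End.one_apply] at this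
  exact this

theorem mu_ne_zero (S : Setup p G V) {g : G} {v : V} {μ : ZMod p} (hv : v ≠ 0)
    (hμ : S.ρ g v = μ • v) : μ ≠ 0 := by
  rintro rfl
  rw [zero_smul] at hμ
  apply hv
  rw [← rho_inv_rho S g v, hμ, map_zero]

theorem pair_inv1 (S : Setup p G V) {x₁ : G} (h₁ : orderOf x₁ = 3) (v : V) :
    ∀ w ∈ WW S x₁ v, S.ρ x₁ w ∈ WW S x₁ v := by
  apply WW_invariant
  · exact rho_v_mem_WW S x₁ v
  · rw [rho_sq_apply S h₁]
    exact Submodule.sub_mem _ (Submodule.neg_mem _ (v_mem_WW S x₁ v)) (rho_v_mem_WW S x₁ v)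

theorem rho2_v (S : Setup p G V) {x₁ x₂ : G} (h₁ : orderOf x₁ = 3) {v : V} {μ : ZMod p}
    (hμ : S.ρ (x₁ * x₂) v = μ • v) : S.ρ x₂ v = μ • (-v - S.ρ x₁ v) := by
  rw [map_mul, Module.End.mul_apply] at hμ
  rw [← rho_inv_rho S x₁ (S.ρ x₂ v), hμ, map_smul, rho_inv_apply S h₁]

theorem rho2_rho1_v (S : Setup p G V) {x₁ x₂ : G} (h₁ : orderOf x₁ = 3) (h₂ : orderOf x₂ = 3)
    {v : V} {μ : ZMod p} (hv : v ≠ 0) (hμ : S.ρ (x₁ * x₂) v = μ • v) :
    S.ρ x₂ (S.ρ x₁ v) = μ⁻¹ • v - v - S.ρ x₁ v - S.ρ x₂ v := by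
  have hμ0 := mu_ne_zero S hv hμ
  have h1 : S.ρ (x₁ * x₂)⁻¹ v = μ⁻¹ • v := by
    have : v = μ⁻¹ • S.ρ (x₁ * x₂) v := by
      rw [hμ, smul_smul, inv_mul_cancel₀ hμ0, one_smul]
    conv_lhs => rw [this]
    rw [map_smul, rho_inv_rho]
  rw [mul_inv_rev, map_mul, Module.End.mul_apply, rho_inv_apply S h₁, map_sub, map_neg,
    rho_inv_apply S h₂, rho_inv_apply S h₂] at h1
  rw [← h1]
  abel

theorem pair_inv2 (S : Setup p G V) {x₁ x₂ : G} (h₁ : orderOf x₁ = 3) (h₂ : orderOf x₂ = 3)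
    {v : V} {μ : ZMod p} (hv : v ≠ 0) (hμ : S.ρ (x₁ * x₂) v = μ • v) :
    ∀ w ∈ WW S x₁ v, S.ρ x₂ w ∈ WW S x₁ v := by
  have hv2 : S.ρ x₂ v ∈ WW S x₁ v := by
    rw [rho2_v S h₁ hμ]
    exact Submodule.smul_mem _ _
      (Submodule.sub_mem _ (Submodule.neg_mem _ (v_mem_WW S x₁ v)) (rho_v_mem_WW S x₁ v))
  apply WW_invariant
  · exact hv2
  · rw [rho2_rho1_v S h₁ h₂ hv hμ]
    refine Submodule.sub_mem _ (Submodule.sub_mem _ (Submodule.sub_mem _ ?_ ?_) ?_) hv2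
    · exact Submodule.smul_mem _ _ (v_mem_WW S x₁ v)
    · exact v_mem_WW S x₁ v
    · exact rho_v_mem_WW S x₁ v

/-- a scalar eigenvalue of an element of order three is a root of `X² + X + 1` -/
theorem root_of_eigen (S : Setup p G V) {g : G} (hg : orderOf g = 3) {v : V} {a : ZMod p}
    (hv : v ≠ 0) (ha : S.ρ g v = a • v) : a * a + a + 1 = 0 := by
  have h := rho_sq_apply S hg v
  rw [ha, map_smul, ha] at h
  have h3 : (a * a + a + 1) • v = 0 := by
    have : (a * a + a + 1) • v = a • a • v - (-v - a • v) := by module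
    rw [this, h, sub_self]
  rcases smul_eq_zero.mp h3 with h4 | h4
  · exact h4
  · exact absurd h4 hv

theorem indep (S : Setup p G V) {x₁ x₂ : G} (h₁ : orderOf x₁ = 3) (h₂ : orderOf x₂ = 3)
    (h12 : x₂ ∉ Subgroup.zpowers x₁) {v : V} {μ : ZMod p} (hv : v ≠ 0)
    (hμ : S.ρ (x₁ * x₂) v = μ • v) : LinearIndependent (ZMod p) ![v, S.ρ x₁ v] := by
  rw [LinearIndependent.pair_iff]
  intro s t hst
  by_cases ht : t = 0
  · subst ht
    rw [zero_smul, add_zero] at hst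
    rcases smul_eq_zero.mp hst with h | h
    · exact ⟨h, rfl⟩
    · exact absurd h hv
  · exfalso
    -- `ρ x₁ v = a • v`
    have ha : S.ρ x₁ v = (-(t⁻¹ * s)) • v := by
      have : S.ρ x₁ v = t⁻¹ • (s • v + t • S.ρ x₁ v) - (t⁻¹ * s) • v := by
        rw [smul_add, smul_smul, smul_smul, inv_mul_cancel₀ ht, one_smul]; abel
      rw [this, hst, smul_zero, zero_sub, neg_smul]
    set a := -(t⁻¹ * s) with ha_def
    have hroot := root_of_eigen S h₁ hv ha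
    have ha2 : S.ρ x₂ v = (μ * (-1 - a)) • v := by
      rw [rho2_v S h₁ hμ, ha]; module
    have hroot2 := root_of_eigen S h₂ hv ha2
    set a₂ := μ * (-1 - a) with ha2_def
    have hfac : (a - a₂) * (a + a₂ + 1) = 0 := by linear_combination hroot - hroot2
    rcases mul_eq_zero.mp hfac with h | h
    · have e : S.ρ x₁ v = S.ρ x₂ v := by
        rw [ha, ha2, sub_eq_zero.mp h]
      have := S.eq_of_apply_eq hv e
      apply h12
      rw [this]
      exact Subgroup.mem_zpowers x₂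
    · have e : S.ρ x₂ v = S.ρ x₁⁻¹ v := by
        rw [rho_inv_apply S h₁, ha, ha2]
        have : a₂ = -1 - a := by linear_combination h
        rw [this]; module
      have := S.eq_of_apply_eq hv e
      apply h12
      rw [this]
      exact Subgroup.inv_mem _ (Subgroup.mem_zpowers x₁)

theorem finrank_WW (S : Setup p G V) {x₁ x₂ : G} (h₁ : orderOf x₁ = 3) (h₂ : orderOf x₂ = 3)
    (h12 : x₂ ∉ Subgroup.zpowers x₁) {v : V} {μ : ZMod p} (hv : v ≠ 0)
    (hμ : S.ρ (x₁ * x₂) v = μ • v) : Module.finrank (ZMod p) (WW S x₁ v) = 2 := by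
  unfold WW
  rw [finrank_span_eq_card (indep S h₁ h₂ h12 hv hμ)]
  simp

/-- Invariance under the third element. -/
theorem inv3 (S : Setup p G V) {x₁ x₂ x₃ : G} {b₁₂ b₁₃ b₂₃ : ZMod p}
    (H : Rel (S.pure x₁) (S.pure x₂) (S.pure x₃) b₁₂ b₁₃ b₂₃) (hδ : b₁₂ ^ 2 - 36 ≠ 0)
    (c : ZMod p) (W : Submodule (ZMod p) V) (hW1 : ∀ w ∈ W, S.ρ x₁ w ∈ W)
    (hW2 : ∀ w ∈ W, S.ρ x₂ w ∈ W)
    (hWz : ∀ w ∈ W, zz (S.pure x₁) (S.pure x₂) (S.pure x₃) b₁₂ b₁₃ b₂₃ w = c • w) :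
    ∀ w ∈ W, S.ρ x₃ w ∈ W := by
  have hu1 : ∀ w ∈ W, S.pure x₁ w ∈ W := fun w hw => by
    rw [pure_apply]
    exact Submodule.add_mem _ (Submodule.smul_mem _ _ (hW1 w hw)) hw
  have hu2 : ∀ w ∈ W, S.pure x₂ w ∈ W := fun w hw => by
    rw [pure_apply]
    exact Submodule.add_mem _ (Submodule.smul_mem _ _ (hW2 w hw)) hw
  have hq : ∀ w ∈ W, qq (S.pure x₁) (S.pure x₂) b₁₂ w ∈ W := fun w hw => by
    unfold qq
    simp only [LinearMap.sub_apply, LinearMap.smul_apply, Module.End.mul_apply,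
      Module.End.one_apply]
    exact Submodule.sub_mem _ (Submodule.smul_mem _ _ (hu1 _ (hu2 _ hw)))
      (Submodule.smul_mem _ _ hw)
  intro w hw
  have h1 := hWz w hw
  rw [zz_eq] at h1
  simp only [LinearMap.sub_apply, LinearMap.add_apply, LinearMap.smul_apply,
    Module.End.mul_apply] at h1
  -- `q (u₃ w) ∈ W`
  have h2 : qq (S.pure x₁) (S.pure x₂) b₁₂ (S.pure x₃ w) ∈ W := by
    have : qq (S.pure x₁) (S.pure x₂) b₁₂ (S.pure x₃ w) =
        c • w + b₂₃ • S.pure x₁ w - b₁₃ • S.pure x₂ w := by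
      rw [← h1]; abel
    rw [this]
    exact Submodule.sub_mem _ (Submodule.add_mem _ (Submodule.smul_mem _ _ hw)
      (Submodule.smul_mem _ _ (hu1 w hw))) (Submodule.smul_mem _ _ (hu2 w hw))
  have h3 := hq _ h2
  have h4 := congrArg (fun e : Module.End (ZMod p) V => e (S.pure x₃ w)) (qq_sq H)
  simp only [Module.End.mul_apply, LinearMap.smul_apply, Module.End.one_apply] at h4
  rw [h4] at h3
  have h5 : S.pure x₃ w ∈ W := by
    have : S.pure x₃ w = (b₁₂ ^ 2 - 36)⁻¹ • ((b₁₂ ^ 2 - 36) • S.pure x₃ w) := by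
      rw [smul_smul, inv_mul_cancel₀ hδ, one_smul]
    rw [this]
    exact Submodule.smul_mem _ _ h3
  rw [rho_apply_of_pure]
  exact Submodule.smul_mem _ _ (Submodule.sub_mem _ h5 hw)


/-- `x₁` does not act as a scalar on `WW`. -/
theorem ns1 (S : Setup p G V) {x₁ : G} {v : V}
    (hind : LinearIndependent (ZMod p) ![v, S.ρ x₁ v]) :
    ¬ ∃ c : ZMod p, ∀ w ∈ WW S x₁ v, S.ρ x₁ w = c • w := by
  rintro ⟨c, hc⟩
  have h := hc v (v_mem_WW S x₁ v)
  rw [LinearIndependent.pair_iff] at hind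
  have := (hind (-c) 1 (by rw [h]; module)).2
  exact one_ne_zero this

/-- `x₂` does not act as a scalar on `WW`. -/
theorem ns2 (S : Setup p G V) {x₁ x₂ : G} (h₁ : orderOf x₁ = 3) {v : V} {μ : ZMod p}
    (hv : v ≠ 0) (hμ : S.ρ (x₁ * x₂) v = μ • v)
    (hind : LinearIndependent (ZMod p) ![v, S.ρ x₁ v]) :
    ¬ ∃ c : ZMod p, ∀ w ∈ WW S x₁ v, S.ρ x₂ w = c • w := by
  rintro ⟨c, hc⟩
  have h := hc v (v_mem_WW S x₁ v)
  rw [rho2_v S h₁ hμ] at h
  rw [LinearIndependent.pair_iff] at hind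
  have := (hind (c + μ) μ (by
    have : (c + μ) • v + μ • S.ρ x₁ v = c • v - μ • (-v - S.ρ x₁ v) := by module
    rw [this, h, sub_self])).2
  exact mu_ne_zero S hv hμ this

/-- `x₃` does not act as a scalar on `WW`. -/
theorem ns3 (S : Setup p G V) {x₁ x₂ x₃ : G} (h₁ : orderOf x₁ = 3) (h₂ : orderOf x₂ = 3)
    (h₃ : orderOf x₃ = 3) (h12 : x₂ ∉ Subgroup.zpowers x₁) {v : V} {μ : ZMod p}
    (hv : v ≠ 0) (hμ : S.ρ (x₁ * x₂) v = μ • v)
    (hind : LinearIndependent (ZMod p) ![v, S.ρ x₁ v])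
    (hW2 : ∀ w ∈ WW S x₁ v, S.ρ x₂ w ∈ WW S x₁ v) :
    ¬ ∃ c : ZMod p, ∀ w ∈ WW S x₁ v, S.ρ x₃ w = c • w := by
  rintro ⟨c, hc⟩
  have hroot := root_of_eigen S h₃ hv (hc v (v_mem_WW S x₁ v))
  have hind' := hind
  rw [LinearIndependent.pair_iff] at hind'
  -- an eigenvector of `x₁` in `WW` for the eigenvalue `c`
  have hv1W : S.ρ x₁ v - (-1 - c) • v ∈ WW S x₁ v :=
    Submodule.sub_mem _ (rho_v_mem_WW S x₁ v) (Submodule.smul_mem _ _ (v_mem_WW S x₁ v))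
  have hv1 : S.ρ x₁ v - (-1 - c) • v ≠ 0 := by
    intro h0
    have := (hind' (-(-1 - c)) 1 (by rw [← h0]; module)).2
    exact one_ne_zero this
  have e1 : S.ρ x₁ (S.ρ x₁ v - (-1 - c) • v) = S.ρ x₃ (S.ρ x₁ v - (-1 - c) • v) := by
    rw [eigen_shift S h₁ c hroot, hc _ hv1W]
  have h13 := S.eq_of_apply_eq hv1 e1
  -- an eigenvector of `x₂` in `WW` for the eigenvalue `c`
  have hv2W : S.ρ x₂ v - (-1 - c) • v ∈ WW S x₁ v :=
    Submodule.sub_mem _ (hW2 v (v_mem_WW S x₁ v)) (Submodule.smul_mem _ _ (v_mem_WW S x₁ v))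
  have hv2 : S.ρ x₂ v - (-1 - c) • v ≠ 0 := by
    intro h0
    rw [rho2_v S h₁ hμ] at h0
    have := (hind' (-μ + 1 + c) (-μ) (by rw [← h0]; module)).2
    exact mu_ne_zero S hv hμ (neg_eq_zero.mp this)
  have e2 : S.ρ x₂ (S.ρ x₂ v - (-1 - c) • v) = S.ρ x₃ (S.ρ x₂ v - (-1 - c) • v) := by
    rw [eigen_shift S h₂ c hroot, hc _ hv2W]
  have h23 := S.eq_of_apply_eq hv2 e2
  apply h12
  rw [h23, ← h13]
  exact Subgroup.mem_zpowers x₁

end Z6

open Z6 in
/-- **Piece Z6 (Theorem C).** -/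
theorem three_sl2 (S : Setup p G V) {x₁ x₂ x₃ : G} (h₁ : orderOf x₁ = 3) (h₂ : orderOf x₂ = 3)
    (h₃ : orderOf x₃ = 3) (h12 : x₂ ∉ Subgroup.zpowers x₁) (b₁₂ b₁₃ b₂₃ r : ZMod p)
    (e12 : S.pure x₁ * S.pure x₂ + S.pure x₂ * S.pure x₁ = algebraMap _ _ b₁₂)
    (e13 : S.pure x₁ * S.pure x₃ + S.pure x₃ * S.pure x₁ = algebraMap _ _ b₁₃)
    (e23 : S.pure x₂ * S.pure x₃ + S.pure x₃ * S.pure x₂ = algebraMap _ _ b₂₃)
    (hr : 4 * r ^ 2 = 108 - b₁₂ * b₁₃ * b₂₃ - 3 * (b₁₂ ^ 2 + b₁₃ ^ 2 + b₂₃ ^ 2)) :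
    ∃ φ : Subgroup.closure ({x₁, x₂, x₃} : Set G) →* SL2p, Function.Injective φ := by
  have H : Rel (S.pure x₁) (S.pure x₂) (S.pure x₃) b₁₂ b₁₃ b₂₃ :=
    ⟨pure_sq S h₁, pure_sq S h₂, pure_sq S h₃, e12, e13, e23⟩
  have hδ := delta_ne_zero S h₂ h12 H
  set z := zz (S.pure x₁) (S.pure x₂) (S.pure x₃) b₁₂ b₁₃ b₂₃ with hz
  have hzz : z * z = ((2 * r) * (2 * r)) • (1 : Module.End (ZMod p) V) := by
    rw [hz, zz_sq H]
    congr 1
    linear_combination (-1 : ZMod p) * hr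
  obtain ⟨c, hc⟩ := exists_eigenspace z (2 * r) hzz
  have hV2z : ∀ w ∈ LinearMap.ker (z - c • (1 : Module.End (ZMod p) V)), z w = c • w := by
    intro w hw
    rw [LinearMap.mem_ker, LinearMap.sub_apply, LinearMap.smul_apply, Module.End.one_apply,
      sub_eq_zero] at hw
    exact hw
  have hV2mem : ∀ w, z w = c • w → w ∈ LinearMap.ker (z - c • (1 : Module.End (ZMod p) V)) := by
    intro w hw
    rw [LinearMap.mem_ker, LinearMap.sub_apply, LinearMap.smul_apply, Module.End.one_apply,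
      sub_eq_zero]
    exact hw
  have hz1 := comm_rho_of_comm_pure S x₁ z (zz_comm1 H)
  have hz2 := comm_rho_of_comm_pure S x₂ z (zz_comm2 H)
  have hinv1 : ∀ w ∈ LinearMap.ker (z - c • (1 : Module.End (ZMod p) V)),
      S.ρ x₁ w ∈ LinearMap.ker (z - c • (1 : Module.End (ZMod p) V)) := fun w hw =>
    hV2mem _ (by rw [hz1, hV2z w hw, map_smul])
  have hinv2 : ∀ w ∈ LinearMap.ker (z - c • (1 : Module.End (ZMod p) V)),
      S.ρ x₂ w ∈ LinearMap.ker (z - c • (1 : Module.End (ZMod p) V)) := fun w hw =>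
    hV2mem _ (by rw [hz2, hV2z w hw, map_smul])
  have hinv12 : ∀ w ∈ LinearMap.ker (z - c • (1 : Module.End (ZMod p) V)),
      S.ρ (x₁ * x₂) w ∈ LinearMap.ker (z - c • (1 : Module.End (ZMod p) V)) := by
    intro w hw
    rw [map_mul, Module.End.mul_apply]
    exact hinv1 _ (hinv2 _ hw)
  obtain ⟨v, hvV2, hv0, μ, hμ⟩ := S.exists_eigenvector (x₁ * x₂) _ hc hinv12
  have hWV2 : WW S x₁ v ≤ LinearMap.ker (z - c • (1 : Module.End (ZMod p) V)) :=
    WW_le S x₁ v _ hvV2 (hinv1 v hvV2)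
  have hW1 := pair_inv1 S h₁ v
  have hW2 := pair_inv2 S h₁ h₂ hv0 hμ
  have hW3 := inv3 S H hδ c (WW S x₁ v) hW1 hW2 (fun w hw => hV2z w (hWV2 hw))
  have hrank := finrank_WW S h₁ h₂ h12 hv0 hμ
  have hind := indep S h₁ h₂ h12 hv0 hμ
  apply exists_sl2_of_invariant S ({x₁, x₂, x₃} : Set G) (WW S x₁ v) hrank
  · intro g hg
    simp only [Set.mem_insert_iff, Set.mem_singleton_iff] at hg
    rcases hg with rfl | rfl | rfl
    · exact hW1
    · exact hW2
    · exact hW3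
  · intro g hg
    simp only [Set.mem_insert_iff, Set.mem_singleton_iff] at hg
    rcases hg with rfl | rfl | rfl
    · exact h₁
    · exact h₂
    · exact h₃
  · intro g hg
    simp only [Set.mem_insert_iff, Set.mem_singleton_iff] at hg
    rcases hg with rfl | rfl | rfl
    · exact ns1 S hind
    · exact ns2 S h₁ hv0 hμ hind
    · exact ns3 S h₁ h₂ h₃ h12 hv0 hμ hind hW2

end Cfsg.Agent.Helper5.Zas
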