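import Mathlib
import Cfsg.Agent.Helper5.ZasDefs
import Cfsg.Agent.Helper3.ZasBasic2
import Cfsg.Agent.Helper18.ZasBinary
import Cfsg.Agent.Helper3.ZasPair2
import Cfsg.Agent.Helper23.ZasThmC
import Cfsg.Agent.Helper23.ZasCardA

/-!
# Zassenhaus cluster, piece Z7 (second half): Theorem B (`thmB`)
-/

set_option autoImplicit false
set_option linter.unusedSectionVars false
set_option linter.style.haveILetI false

namespace Cfsg.Agent.Helper5.Zas

variable {p : ℕ} [Fact p.Prime] {G : Type*} [Group G] [Finite G] {V : Type*} [AddCommGroup V]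
  [Module (ZMod p) V] [Finite V] [Nontrivial V]

local notation "SL2p" => Matrix.SpecialLinearGroup (Fin 2) (ZMod p)

namespace Z7

/-- The anticommutator of a bad pair squares to `20`. -/
theorem beta_sq (S : Setup p G V) {x y : G} (hx : orderOf x = 3) (hy : orderOf y = 3)
    (hbad : orderOf (x * y) = 10) :
    (S.pure x * S.pure y + S.pure y * S.pure x) * (S.pure x * S.pure y + S.pure y * S.pure x) =
      (20 : ZMod p) • (1 : Module.End (ZMod p) V) := by
  have ht := S.tr_of_orderOf_ten hbad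
  rw [S.pure_anticomm hx hy]
  have key : (4 * S.tr (x * y) - 2) * (4 * S.tr (x * y) - 2) =
      16 * (S.tr (x * y) * S.tr (x * y) - S.tr (x * y) - 1) + 20 := by
    noncomm_ring
    norm_num
  rw [key, ht, mul_zero, zero_add, ← Algebra.algebraMap_eq_smul_one, map_ofNat]

/-- The anticommutator of a pair commutes with both members (operator form). -/
theorem beta_comm_left (S : Setup p G V) {x y : G} (hx : orderOf x = 3) (hy : orderOf y = 3)
    (v : V) : (S.pure x * S.pure y + S.pure y * S.pure x) (S.ρ x v) =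
      S.ρ x ((S.pure x * S.pure y + S.pure y * S.pure x) v) := by
  have h := S.tr_mul_comm_left hx hy
  have hc : Commute (4 * S.tr (x * y) - 2) (S.ρ x) :=
    Commute.sub_left (Commute.mul_left (Commute.ofNat_left 4 _) h) (Commute.ofNat_left 2 _)
  rw [S.pure_anticomm hx hy, ← Module.End.mul_apply, hc.eq, Module.End.mul_apply]

theorem beta_comm_right (S : Setup p G V) {x y : G} (hx : orderOf x = 3) (hy : orderOf y = 3)
    (v : V) : (S.pure x * S.pure y + S.pure y * S.pure x) (S.ρ y v) =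
      S.ρ y ((S.pure x * S.pure y + S.pure y * S.pure x) v) := by
  have h := S.tr_mul_comm_right hx hy
  have hc : Commute (4 * S.tr (x * y) - 2) (S.ρ y) :=
    Commute.sub_left (Commute.mul_left (Commute.ofNat_left 4 _) h) (Commute.ofNat_left 2 _)
  rw [S.pure_anticomm hx hy, ← Module.End.mul_apply, hc.eq, Module.End.mul_apply]

/-- restriction commutes with `pure` -/
theorem restrict_pure_apply (S : Setup p G V) (H : Subgroup G) (W : Submodule (ZMod p) V)
    (hinv : ∀ h ∈ H, ∀ v ∈ W, S.ρ h v ∈ W) (h : H) (v : W) :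
    (((S.restrict H W hinv).pure h v : W) : V) = S.pure (h : G) (v : V) := by
  unfold Setup.pure
  simp only [LinearMap.add_apply, Module.End.one_apply, two_mul, Submodule.coe_add,
    S.restrict_apply]

/-- a scalar anticommutator on an invariant subspace restricts -/
theorem restrict_anticomm (S : Setup p G V) (H : Subgroup G) (W : Submodule (ZMod p) V)
    (hinv : ∀ h ∈ H, ∀ v ∈ W, S.ρ h v ∈ W) (g h : H) (b : ZMod p)
    (hb : ∀ v ∈ W, (S.pure (g : G) * S.pure (h : G) + S.pure (h : G) * S.pure (g : G)) v = b • v) :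
    (S.restrict H W hinv).pure g * (S.restrict H W hinv).pure h +
      (S.restrict H W hinv).pure h * (S.restrict H W hinv).pure g =
      algebraMap (ZMod p) (Module.End (ZMod p) W) b := by
  apply LinearMap.ext
  intro v
  apply Subtype.ext
  have := hb (v : V) v.2
  simp only [LinearMap.add_apply, Module.End.mul_apply] at this
  simp only [LinearMap.add_apply, Module.End.mul_apply, Submodule.coe_add,
    restrict_pure_apply, Module.algebraMap_end_apply, Submodule.coe_smul]
  exact this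

/-- the discriminant for a bad pair and two good pairs is a square -/
theorem exists_r_bad (S : Setup p G V) {c b₁₃ b₂₃ : ZMod p} (hc : c * c = 20)
    (h13 : b₁₃ = 2 ∨ b₁₃ = -2) (h23 : b₂₃ = 2 ∨ b₂₃ = -2) :
    ∃ r : ZMod p, 4 * r ^ 2 = 108 - c * b₁₃ * b₂₃ - 3 * (c ^ 2 + b₁₃ ^ 2 + b₂₃ ^ 2) := by
  have h2 := Z6.two_ne_zero S
  have key : b₁₃ * b₂₃ = 4 ∨ b₁₃ * b₂₃ = -4 := by
    rcases h13 with rfl | rfl <;> rcases h23 with rfl | rfl <;>
      first
      | (left; ring1)
      | (right; ring1)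
  have hsq : b₁₃ ^ 2 + b₂₃ ^ 2 = 8 := by
    rcases h13 with rfl | rfl <;> rcases h23 with rfl | rfl <;> ring
  rcases key with h | h
  · refine ⟨c * 2⁻¹ - 1, ?_⟩
    have e : c * b₁₃ * b₂₃ = 4 * c := by rw [mul_assoc, h]; ring
    have hi : (2 : ZMod p) * 2⁻¹ = 1 := mul_inv_cancel₀ h2
    rw [e]
    linear_combination (c ^ 2 * (2 * 2⁻¹ + 1) - 4 * c) * hi + 4 * hc + 3 * hsq
  · refine ⟨c * 2⁻¹ + 1, ?_⟩
    have e : c * b₁₃ * b₂₃ = -(4 * c) := by rw [mul_assoc, h]; ring
    have hi : (2 : ZMod p) * 2⁻¹ = 1 := mul_inv_cancel₀ h2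
    rw [e]
    linear_combination (c ^ 2 * (2 * 2⁻¹ + 1) + 4 * c) * hi + 4 * hc + 3 * hsq

/-- The core of Theorem B: three elements of order three with scalar anticommutators on a common
invariant subspace generate a group of order at most `120`. -/
theorem card_le_of_scalar (S : Setup p G V) {x y w : G} (hx : orderOf x = 3) (hy : orderOf y = 3)
    (hw : orderOf w = 3) (hxy : y ∉ Subgroup.zpowers x) (N : Subgroup G)
    (hN : N = Subgroup.closure ({x, y, w} : Set G))
    (W : Submodule (ZMod p) V) (hne : W ≠ ⊥)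
    (hinvN : ∀ h ∈ N, ∀ v ∈ W, S.ρ h v ∈ W) (c b₁₃ b₂₃ r : ZMod p)
    (h12 : ∀ v ∈ W, (S.pure x * S.pure y + S.pure y * S.pure x) v = c • v)
    (h13 : ∀ v ∈ W, (S.pure x * S.pure w + S.pure w * S.pure x) v = b₁₃ • v)
    (h23 : ∀ v ∈ W, (S.pure y * S.pure w + S.pure w * S.pure y) v = b₂₃ • v)
    (hr : 4 * r ^ 2 = 108 - c * b₁₃ * b₂₃ - 3 * (c ^ 2 + b₁₃ ^ 2 + b₂₃ ^ 2)) :
    Nat.card N ≤ 120 := by
  classical
  haveI : Nontrivial ↥W := Submodule.nontrivial_iff_ne_bot.mpr hne
  have hxN : x ∈ N := by rw [hN]; exact Subgroup.subset_closure (by simp)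
  have hyN : y ∈ N := by rw [hN]; exact Subgroup.subset_closure (by simp)
  have hwN : w ∈ N := by rw [hN]; exact Subgroup.subset_closure (by simp)
  have hx' : orderOf (⟨x, hxN⟩ : N) = 3 := by
    rw [Subgroup.orderOf_mk]; exact hx
  have hy' : orderOf (⟨y, hyN⟩ : N) = 3 := by
    rw [Subgroup.orderOf_mk]; exact hy
  have hw' : orderOf (⟨w, hwN⟩ : N) = 3 := by
    rw [Subgroup.orderOf_mk]; exact hw
  have hxy' : (⟨y, hyN⟩ : N) ∉ Subgroup.zpowers (⟨x, hxN⟩ : N) := by
    intro hmem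
    obtain ⟨k, hk⟩ := Subgroup.mem_zpowers_iff.mp hmem
    apply hxy
    rw [Subgroup.mem_zpowers_iff]
    exact ⟨k, by simpa using congrArg Subtype.val hk⟩
  have e12' := restrict_anticomm S N W hinvN ⟨x, hxN⟩ ⟨y, hyN⟩ c h12
  have e13' := restrict_anticomm S N W hinvN ⟨x, hxN⟩ ⟨w, hwN⟩ b₁₃ h13
  have e23' := restrict_anticomm S N W hinvN ⟨y, hyN⟩ ⟨w, hwN⟩ b₂₃ h23
  obtain ⟨φ, hφ⟩ := three_sl2 (S.restrict N W hinvN) hx' hy' hw' hxy' c b₁₃ b₂₃ r e12' e13' e23' hr
  have h3T : ∀ g ∈ ({⟨x, hxN⟩, ⟨y, hyN⟩, ⟨w, hwN⟩} : Set N), orderOf g = 3 := by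
    intro g hg
    simp only [Set.mem_insert_iff, Set.mem_singleton_iff] at hg
    rcases hg with rfl | rfl | rfl
    · exact hx'
    · exact hy'
    · exact hw'
  have hbin : IsBinary (Subgroup.closure ({⟨x, hxN⟩, ⟨y, hyN⟩, ⟨w, hwN⟩} : Set N)) := by
    apply isBinary_of_sl2 (S.restrict N W hinvN) _ h3T (x := ⟨x, hxN⟩) (y := ⟨y, hyN⟩) _ _ hxy' φ hφ
    · exact Set.mem_insert _ _
    · exact Set.mem_insert_of_mem _ (Set.mem_insert _ _)
  have htop : Subgroup.closure ({⟨x, hxN⟩, ⟨y, hyN⟩, ⟨w, hwN⟩} : Set N) = ⊤ := by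
    have h1 : ({⟨x, hxN⟩, ⟨y, hyN⟩, ⟨w, hwN⟩} : Set N) =
        ((↑) : N → G) ⁻¹' ({x, y, w} : Set G) := by
      ext ⟨g, hg⟩
      simp only [Set.mem_insert_iff, Set.mem_singleton_iff, Set.mem_preimage, Subtype.mk.injEq]
    rw [h1]
    subst hN
    exact Subgroup.closure_closure_coe_preimage
  have h1 := card_of_isBinary hbin
  rw [htop, Subgroup.card_top] at h1
  omega

end Z7

open Z7 in
/-- **Piece Z7, second half (Theorem B).** -/
theorem thmB (S : Setup p G V) {x y w : G} (hx : orderOf x = 3) (hy : orderOf y = 3)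
    (hw : orderOf w = 3) (hbad : orderOf (x * y) = 10) (hxw : Good x w) (hyw : Good y w) :
    w ∈ Subgroup.closure ({x, y} : Set G) := by
  classical
  -- `y ∉ ⟨x⟩`
  have hxy : y ∉ Subgroup.zpowers x := by
    intro hmem
    have h1 : x * y ∈ Subgroup.zpowers x := Subgroup.mul_mem _ (Subgroup.mem_zpowers x) hmem
    have h2 : orderOf (x * y) ∣ 3 := by
      have := Subgroup.orderOf_dvd_natCard _ h1
      rwa [Nat.card_zpowers, hx] at this
    rw [hbad] at h2
    omega
  have hL : Nat.card (Subgroup.closure ({x, y} : Set G)) = 120 := by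
    rcases pair_cases S hx hy hxy with h | h
    · exfalso
      rcases h.1 with h4 | h6
      · rw [hbad] at h4; omega
      · rw [hbad] at h6; omega
    · exact h.2
  obtain ⟨b₁₃, h13, e13⟩ := good_anticomm S hx hw hxw
  obtain ⟨b₂₃, h23, e23⟩ := good_anticomm S hy hw hyw
  obtain ⟨β, hβ⟩ : ∃ β, β = S.pure x * S.pure y + S.pure y * S.pure x := ⟨_, rfl⟩
  obtain ⟨s, hs⟩ := exists_sqrt_five S
  have hββ : β * β = ((2 * s) * (2 * s)) • (1 : Module.End (ZMod p) V) := by
    rw [hβ, beta_sq S hx hy hbad]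
    congr 1
    linear_combination (-4 : ZMod p) * hs
  obtain ⟨c, hc⟩ := Z6.exists_eigenspace β (2 * s) hββ
  obtain ⟨W, hW⟩ : ∃ W, W = LinearMap.ker (β - c • (1 : Module.End (ZMod p) V)) := ⟨_, rfl⟩
  rw [← hW] at hc
  have hV2z : ∀ v ∈ W, β v = c • v := by
    intro v hv
    rw [hW, LinearMap.mem_ker, LinearMap.sub_apply, LinearMap.smul_apply, Module.End.one_apply,
      sub_eq_zero] at hv
    exact hv
  have hV2mem : ∀ v, β v = c • v → v ∈ W := by
    intro v hv
    rw [hW, LinearMap.mem_ker, LinearMap.sub_apply, LinearMap.smul_apply, Module.End.one_apply,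
      sub_eq_zero]
    exact hv
  -- `c² = 20`
  have hcc : c * c = 20 := by
    obtain ⟨v, hvV, hv0⟩ := (Submodule.ne_bot_iff _).mp hc
    have h1 := hV2z v hvV
    have h2 := congrArg (fun e : Module.End (ZMod p) V => e v) (beta_sq S hx hy hbad)
    simp only [Module.End.mul_apply, LinearMap.smul_apply, Module.End.one_apply] at h2
    rw [← hβ, h1, map_smul, h1, smul_smul] at h2
    have h3 : (c * c - 20) • v = 0 := by rw [sub_smul, h2, sub_self]
    rcases smul_eq_zero.mp h3 with h4 | h4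
    · exact sub_eq_zero.mp h4
    · exact absurd h4 hv0
  -- invariance
  have hβw : ∀ v, β (S.ρ w v) = S.ρ w (β v) := by
    rw [hβ]
    exact Z6.comm_rho_of_comm_pure S w _ (anticomm_comm3 _ _ _ b₁₃ b₂₃ e13 e23)
  have hinvT : ∀ g ∈ ({x, y, w} : Set G), ∀ v ∈ W, S.ρ g v ∈ W := by
    intro g hg v hv
    simp only [Set.mem_insert_iff, Set.mem_singleton_iff] at hg
    apply hV2mem
    rcases hg with rfl | rfl | rfl
    · rw [hβ, beta_comm_left S hx hy, ← hβ, hV2z v hv, map_smul]
    · rw [hβ, beta_comm_right S hx hy, ← hβ, hV2z v hv, map_smul]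
    · rw [hβw, hV2z v hv, map_smul]
  have h3T : ∀ g ∈ ({x, y, w} : Set G), orderOf g = 3 := by
    intro g hg
    simp only [Set.mem_insert_iff, Set.mem_singleton_iff] at hg
    rcases hg with rfl | rfl | rfl
    · exact hx
    · exact hy
    · exact hw
  have hstab := Z1.closure_le_stab S ({x, y, w} : Set G) W hinvT h3T
  have hinvN : ∀ h ∈ Subgroup.closure ({x, y, w} : Set G), ∀ v ∈ W, S.ρ h v ∈ W :=
    fun h hh => (hstab hh).1
  obtain ⟨r, hr⟩ := exists_r_bad S hcc h13 h23
  have hNcard := card_le_of_scalar S hx hy hw hxy _ rfl W hc hinvN c b₁₃ b₂₃ r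
    (fun v hv => by rw [← hβ]; exact hV2z v hv)
    (fun v _ => by rw [e13, Module.algebraMap_end_apply])
    (fun v _ => by rw [e23, Module.algebraMap_end_apply]) hr
  have hle : Subgroup.closure ({x, y} : Set G) ≤ Subgroup.closure ({x, y, w} : Set G) := by
    apply Subgroup.closure_mono
    intro g hg
    simp only [Set.mem_insert_iff, Set.mem_singleton_iff] at hg ⊢
    tauto
  have heq := Subgroup.eq_of_le_of_card_ge hle (by rw [hL]; exact hNcard)
  rw [heq]
  exact Subgroup.subset_closure (by simp)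

end Cfsg.Agent.Helper5.Zas
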