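import Mathlib
import Cfsg.Agent.Helper5.ZasDefs
import Cfsg.Agent.Helper5.ZasAlgB
import Cfsg.Agent.Helper3.ZasBasic2
import Cfsg.Agent.Helper3.ZasPair2
import Cfsg.Agent.Helper23.ZasCardA
import Cfsg.Agent.Helper23.ZasThmB

/-!
# Zassenhaus cluster, piece Z5 (second half): the core of Corollary A

Given a quaternion frame `qi, qj, qk` of elements of order four in a subgroup `T` and an element
`x ∈ T` of order three with `pure x = -(I + J + K)`, and `w` of order three outside `T`: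
two of the four elements `x⁻¹`, `qi x⁻¹ qi⁻¹`, `qj x⁻¹ qj⁻¹`, `qk x⁻¹ qk⁻¹` are good with `w`.
-/

set_option autoImplicit false
set_option linter.unusedSectionVars false
set_option linter.unusedSimpArgs false
set_option linter.style.haveILetI false

namespace Cfsg.Agent.Helper5.Zas

variable {p : ℕ} [Fact p.Prime] {G : Type*} [Group G] [Finite G] {V : Type*} [AddCommGroup V]
  [Module (ZMod p) V] [Finite V] [Nontrivial V]

namespace Z5b

/-- The square of the anticommutator of a non-cyclic pair: `4` for a good pair, `20` for a bad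
one. -/
theorem anticomm_sq (S : Setup p G V) {g w : G} (hg : orderOf g = 3) (hw : orderOf w = 3)
    (hgw : w ∉ Subgroup.zpowers g) :
    (Good g w ∧ (S.pure g * S.pure w + S.pure w * S.pure g) ^ 2 = 4) ∨
    (orderOf (g * w) = 10 ∧ (S.pure g * S.pure w + S.pure w * S.pure g) ^ 2 = 20) := by
  rcases pair_cases S hg hw hgw with ⟨hgood, -⟩ | ⟨hbad, -⟩
  · left
    refine ⟨hgood, ?_⟩
    obtain ⟨b, hb, e⟩ := Z7.good_anticomm S hg hw hgood
    rw [e, sq, ← map_mul]
    have h4 : b * b = 4 := by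
      rcases hb with rfl | rfl <;> norm_num
    rw [h4, map_ofNat]
  · right
    refine ⟨hbad, ?_⟩
    rw [sq, Z7.beta_sq S hg hw hbad, ← Algebra.algebraMap_eq_smul_one, map_ofNat]

/-- The hypothesis of `thmA_alg` for one order-three element. -/
theorem hyp_of (S : Setup p G V) {g w : G} (hg : orderOf g = 3) (hw : orderOf w = 3)
    (hgw : w ∉ Subgroup.zpowers g) {e : Module.End (ZMod p) V} (he : S.pure g = e) :
    (e * S.pure w + S.pure w * e) ^ 2 =
      if decide (orderOf (g * w) = 10) then 20 else 4 := by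
  subst he
  rcases anticomm_sq S hg hw hgw with ⟨hgood, h⟩ | ⟨hbad, h⟩
  · have hne : ¬ orderOf (g * w) = 10 := by
      rcases hgood with h' | h' <;> rw [h'] <;> norm_num
    simp [hne, h]
  · simp [hbad, h]

/-- An element that is not bad with `w` is good. -/
theorem good_of_not_bad (S : Setup p G V) {g w : G} (hg : orderOf g = 3) (hw : orderOf w = 3)
    (hgw : w ∉ Subgroup.zpowers g) (h : decide (orderOf (g * w) = 10) = false) : Good g w := by
  rcases anticomm_sq S hg hw hgw with ⟨hgood, -⟩ | ⟨hbad, -⟩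
  · exact hgood
  · simp [hbad] at h

theorem rho_inv_of_orderOf_four (S : Setup p G V) {q : G} (hq : orderOf q = 4) :
    S.ρ q⁻¹ = -S.ρ q := by
  have h1 := S.rho_of_orderOf_four hq
  have h2 := S.rho_inv_mul q
  calc S.ρ q⁻¹ = S.ρ q⁻¹ * (S.ρ q * (-S.ρ q)) := by rw [mul_neg, h1, neg_neg, mul_one]
    _ = (S.ρ q⁻¹ * S.ρ q) * (-S.ρ q) := by rw [mul_assoc]
    _ = -S.ρ q := by rw [h2, one_mul]

theorem pure_inv (S : Setup p G V) {x : G} (hx : orderOf x = 3) : S.pure x⁻¹ = -S.pure x := by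
  unfold Setup.pure
  rw [S.rho_inv_of_orderOf_three hx]
  noncomm_ring

theorem pure_conj (S : Setup p G V) {q : G} (hq : orderOf q = 4) (g : G) :
    S.pure (q * g * q⁻¹) = -(S.ρ q * S.pure g * S.ρ q) := by
  have h1 := S.rho_of_orderOf_four hq
  unfold Setup.pure
  rw [map_mul, map_mul, rho_inv_of_orderOf_four S hq]
  have e : S.ρ q * (2 * S.ρ g + 1) * S.ρ q = 2 * (S.ρ q * S.ρ g * S.ρ q) + S.ρ q * S.ρ q := by
    noncomm_ring
  rw [e, h1]
  noncomm_ring

omit [Finite G] in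
theorem orderOf_conj' (q g : G) : orderOf (q * g * q⁻¹) = orderOf g := by
  rw [← MulAut.conj_apply, MulEquiv.orderOf_eq]


/-- Killing the second alternative of `thmA_alg`: an element `g` of order four whose commutator
with `pure w` kills a nonzero operator commutes with `w`; conjugating `w` by an anticommuting
element `g'` of order four gives a second element of order three commuting with `g`. -/
theorem alt_false_aux (S : Setup p G V) {g g' w : G} (hw : orderOf w = 3) (hg : orderOf g = 4)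
    (hanti : S.ρ g * S.ρ g' = -(S.ρ g' * S.ρ g))
    {u : Module.End (ZMod p) V} (hu : u ≠ 0)
    (h0 : (S.ρ g * S.pure w - S.pure w * S.ρ g) * u = 0)
    (h1 : S.ρ g' * S.pure w ≠ S.pure w * S.ρ g')
    (h2 : S.ρ g' * S.pure w ≠ -(S.pure w * S.ρ g')) : False := by
  obtain ⟨v, hv⟩ : ∃ v, u v ≠ 0 := by
    by_contra hcon
    push Not at hcon
    exact hu (LinearMap.ext hcon)
  have h2ne := Z6.two_ne_zero S
  -- `g` commutes with `w`
  have hgw : g * w = w * g := by
    apply S.eq_of_apply_eq hv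
    have h := LinearMap.congr_fun h0 v
    rw [Module.End.mul_apply, LinearMap.sub_apply, Module.End.mul_apply, Module.End.mul_apply,
      Z6.pure_apply, Z6.pure_apply, map_add, map_smul, LinearMap.zero_apply] at h
    have h' : (2 : ZMod p) • (S.ρ g (S.ρ w (u v)) - S.ρ w (S.ρ g (u v))) = 0 := by
      rw [← h]; module
    rcases smul_eq_zero.mp h' with h'' | h''
    · exact absurd h'' h2ne
    · rw [map_mul, map_mul, Module.End.mul_apply, Module.End.mul_apply]
      exact sub_eq_zero.mp h''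
  -- the group relation between `g` and `g'`
  have hrel : g * g' = g' * g⁻¹ := by
    apply S.rho_injective
    rw [map_mul, map_mul, rho_inv_of_orderOf_four S hg, mul_neg, hanti]
  have h3 : g⁻¹ * g'⁻¹ = g'⁻¹ * g := by
    have : g' * g = g⁻¹ * g' := by
      rw [eq_inv_mul_iff_mul_eq, ← mul_assoc, hrel, inv_mul_cancel_right]
    rw [← mul_inv_rev, this, mul_inv_rev, inv_inv]
  have hgw' : g⁻¹ * w = w * g⁻¹ := by
    rw [inv_mul_eq_iff_eq_mul, ← mul_assoc, hgw, mul_inv_cancel_right]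
  have hcomm : g * (g' * w * g'⁻¹) = (g' * w * g'⁻¹) * g := by
    calc g * (g' * w * g'⁻¹) = (g * g') * w * g'⁻¹ := by group
      _ = g' * (g⁻¹ * w) * g'⁻¹ := by rw [hrel]; group
      _ = g' * w * (g⁻¹ * g'⁻¹) := by rw [hgw']; group
      _ = (g' * w * g'⁻¹) * g := by rw [h3]; group
  have ho : orderOf (g' * w * g'⁻¹) = 3 := by rw [orderOf_conj', hw]
  have hW := S.rho_inv_of_orderOf_three hw
  have hl : S.ρ g' * (2 * S.ρ w + 1) = 2 * (S.ρ g' * S.ρ w) + S.ρ g' := by noncomm_ring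
  have hr : (2 * S.ρ w + 1) * S.ρ g' = 2 * (S.ρ w * S.ρ g') + S.ρ g' := by noncomm_ring
  have hnot : g' * w * g'⁻¹ ∉ Subgroup.zpowers w := by
    classical
    intro hmem
    rw [mem_zpowers_iff_mem_range_orderOf, hw] at hmem
    simp only [Finset.mem_image, Finset.mem_range] at hmem
    obtain ⟨n, hn, e⟩ := hmem
    have hcases : n = 0 ∨ n = 1 ∨ n = 2 := by omega
    rcases hcases with rfl | rfl | rfl
    · rw [pow_zero] at e
      rw [← e, orderOf_one] at ho
      norm_num at ho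
    · rw [pow_one] at e
      have e' : g' * w = w * g' := by
        conv_rhs => rw [e]
        group
      apply h1
      unfold Setup.pure
      have e'' : S.ρ g' * S.ρ w = S.ρ w * S.ρ g' := by rw [← map_mul, ← map_mul, e']
      rw [hl, hr, e'']
    · have e' : g' * w = w ^ 2 * g' := by
        rw [e]
        group
      apply h2
      unfold Setup.pure
      have hw3 := S.rho_of_orderOf_three hw
      have hww : S.ρ w * S.ρ w = -1 - S.ρ w := by
        rw [eq_sub_iff_add_eq, eq_neg_iff_add_eq_zero]; exact hw3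
      have e'' : S.ρ g' * S.ρ w = (-1 - S.ρ w) * S.ρ g' := by
        rw [← hww, ← map_mul, ← map_mul, ← map_mul, e', sq]
      rw [hl, hr, e'']
      noncomm_ring
  exact no_central_four S hw ho hnot hg hgw hcomm


theorem two_ne_zero_end (S : Setup p G V) : (2 : Module.End (ZMod p) V) ≠ 0 := by
  intro h
  have h2 : (2 : Module.End (ZMod p) V) = algebraMap (ZMod p) _ 2 := (map_ofNat _ 2).symm
  rw [h2, ← map_zero (algebraMap (ZMod p) (Module.End (ZMod p) V))] at h
  exact Z6.two_ne_zero S ((algebraMap (ZMod p) (Module.End (ZMod p) V)).injective h)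

theorem ne_of_anticomm (S : Setup p G V) {a b : Module.End (ZMod p) V}
    (h : a * b = -(b * a)) (ha : a * a = -1) : b ≠ a := by
  intro e
  subst e
  rw [ha, neg_neg] at h
  apply two_ne_zero_end S
  have : (2 : Module.End (ZMod p) V) = 1 + 1 := by norm_num
  rw [this]
  nth_rewrite 1 [← h]
  exact neg_add_cancel 1

section Frame

variable {E : Type*} [Ring E] [Algebra (ZMod p) E]

theorem frame_norm {I J K : E} (F : Alg.Frame I J K) (a b c : ZMod p) :
    (a • I + b • J + c • K) * (a • I + b • J + c • K) =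
      -((a * a + b * b + c * c) • (1 : E)) := by
  simp only [mul_add, add_mul, smul_mul_assoc, mul_smul_comm, F.ii, F.jj, F.kk, F.ij, F.ji,
    F.ik, F.ki, F.jk, F.kj, smul_neg, smul_smul, smul_add]
  module

theorem frame_ne_zero [Nontrivial E] {I J K : E} (F : Alg.Frame I J K) {a b c : ZMod p}
    (h : a * a + b * b + c * c ≠ 0) : a • I + b • J + c • K ≠ 0 := by
  intro e
  have hn := frame_norm (p := p) F a b c
  rw [e, mul_zero, eq_comm, neg_eq_zero, smul_eq_zero] at hn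
  rcases hn with hn | hn
  · exact h hn
  · exact one_ne_zero hn

end Frame

/-- the four even sign patterns -/
def sg (p : ℕ) : Fin 4 → Fin 3 → ZMod p :=
  ![![1, 1, 1], ![1, -1, -1], ![-1, 1, -1], ![-1, -1, 1]]

theorem sg_sub (S : Setup p G V) (m m' : Fin 4) (h : m ≠ m') :
    (sg p m' 0 - sg p m 0) * (sg p m' 0 - sg p m 0) + (sg p m' 1 - sg p m 1) * (sg p m' 1 - sg p m 1)
      + (sg p m' 2 - sg p m 2) * (sg p m' 2 - sg p m 2) ≠ 0 := by
  have h8 : (8 : ZMod p) ≠ 0 := by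
    have := S.natCast_ne_zero (n := 8) (by norm_num) (by norm_num)
    simpa using this
  have e : (sg p m' 0 - sg p m 0) * (sg p m' 0 - sg p m 0) +
      (sg p m' 1 - sg p m 1) * (sg p m' 1 - sg p m 1)
      + (sg p m' 2 - sg p m 2) * (sg p m' 2 - sg p m 2) = 8 := by
    fin_cases m <;> fin_cases m' <;> first | exact absurd rfl h | (simp [sg]; norm_num)
  rw [e]
  exact h8

theorem sg_add (S : Setup p G V) (m m' : Fin 4) (h : m ≠ m') :
    (sg p m' 0 + sg p m 0) * (sg p m' 0 + sg p m 0) + (sg p m' 1 + sg p m 1) * (sg p m' 1 + sg p m 1)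
      + (sg p m' 2 + sg p m 2) * (sg p m' 2 + sg p m 2) ≠ 0 := by
  have h4 : (4 : ZMod p) ≠ 0 := by
    have := S.natCast_ne_zero (n := 4) (by norm_num) (by norm_num)
    simpa using this
  have e : (sg p m' 0 + sg p m 0) * (sg p m' 0 + sg p m 0) +
      (sg p m' 1 + sg p m 1) * (sg p m' 1 + sg p m 1)
      + (sg p m' 2 + sg p m 2) * (sg p m' 2 + sg p m 2) = 4 := by
    fin_cases m <;> fin_cases m' <;> first | exact absurd rfl h | (simp [sg]; norm_num)
  rw [e]
  exact h4

theorem two_good : ∀ b : Fin 4 → Bool, (Finset.univ.filter fun m => b m = true).card = 2 →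
    ∃ m m' : Fin 4, m ≠ m' ∧ b m = false ∧ b m' = false := by
  decide


/-- An element of `zpowers g` (with `g` of order three) has `pure` equal to `± pure g`, or is
trivial. -/
theorem pure_of_mem_zpowers (S : Setup p G V) {g h : G} (hg : orderOf g = 3)
    (hh : orderOf h = 3) (hmem : h ∈ Subgroup.zpowers g) :
    S.pure h = S.pure g ∨ S.pure h = -S.pure g := by
  classical
  rw [mem_zpowers_iff_mem_range_orderOf, hg] at hmem
  simp only [Finset.mem_image, Finset.mem_range] at hmem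
  obtain ⟨n, hn, e⟩ := hmem
  have hcases : n = 0 ∨ n = 1 ∨ n = 2 := by omega
  rcases hcases with rfl | rfl | rfl
  · rw [pow_zero] at e
    rw [← e, orderOf_one] at hh
    norm_num at hh
  · rw [pow_one] at e
    left
    rw [e]
  · right
    have e' : h = g⁻¹ := by
      rw [← e, eq_inv_iff_mul_eq_one, ← pow_succ]
      have := pow_orderOf_eq_one g
      rwa [hg] at this
    rw [e', pure_inv S hg]

end Z5b

/-- **Core of Corollary A.** -/
theorem corA_core (S : Setup p G V) (T : Subgroup G) {x qi qj qk w : G} (hxT : x ∈ T)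
    (hiT : qi ∈ T) (hjT : qj ∈ T) (hkT : qk ∈ T) (hx : orderOf x = 3) (hqi : orderOf qi = 4)
    (hqj : orderOf qj = 4) (hqk : orderOf qk = 4) (hij : S.ρ qi * S.ρ qj = S.ρ qk)
    (hji : S.ρ qj * S.ρ qi = -S.ρ qk) (hsum : S.pure x = -(S.ρ qi + S.ρ qj + S.ρ qk))
    (hw : orderOf w = 3) (hwT : w ∉ T) :
    ∃ a b : G, a ∈ T ∧ b ∈ T ∧ orderOf a = 3 ∧ orderOf b = 3 ∧ b ∉ Subgroup.zpowers a ∧
      Good a w ∧ Good b w := by
  have F : Alg.Frame (S.ρ qi) (S.ρ qj) (S.ρ qk) :=
    ⟨S.rho_of_orderOf_four hqi, S.rho_of_orderOf_four hqj, hij, hji⟩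
  have hxi : orderOf x⁻¹ = 3 := by rw [orderOf_inv]; exact hx
  have hxiT : x⁻¹ ∈ T := T.inv_mem hxT
  -- the four pure parts
  have p0 : S.pure x⁻¹ = S.ρ qi + S.ρ qj + S.ρ qk := by rw [Z5b.pure_inv S hx, hsum, neg_neg]
  have p1 : S.pure (qi * x⁻¹ * qi⁻¹) = S.ρ qi - S.ρ qj - S.ρ qk := by
    rw [Z5b.pure_conj S hqi, p0]
    simp only [mul_add, add_mul, F.ii, F.jj, F.kk, F.ij, F.ji, F.ik, F.ki, F.jk, F.kj, neg_mul,
      mul_neg, one_mul, mul_one]
    abel
  have p2 : S.pure (qj * x⁻¹ * qj⁻¹) = -S.ρ qi + S.ρ qj - S.ρ qk := by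
    rw [Z5b.pure_conj S hqj, p0]
    simp only [mul_add, add_mul, F.ii, F.jj, F.kk, F.ij, F.ji, F.ik, F.ki, F.jk, F.kj, neg_mul,
      mul_neg, one_mul, mul_one]
    abel
  have p3 : S.pure (qk * x⁻¹ * qk⁻¹) = -S.ρ qi - S.ρ qj + S.ρ qk := by
    rw [Z5b.pure_conj S hqk, p0]
    simp only [mul_add, add_mul, F.ii, F.jj, F.kk, F.ij, F.ji, F.ik, F.ki, F.jk, F.kj, neg_mul,
      mul_neg, one_mul, mul_one]
    abel
  -- the four elements
  let gm : Fin 4 → G := ![x⁻¹, qi * x⁻¹ * qi⁻¹, qj * x⁻¹ * qj⁻¹, qk * x⁻¹ * qk⁻¹]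
  have hgT : ∀ m, gm m ∈ T := by
    intro m
    fin_cases m
    · exact hxiT
    · exact T.mul_mem (T.mul_mem hiT hxiT) (T.inv_mem hiT)
    · exact T.mul_mem (T.mul_mem hjT hxiT) (T.inv_mem hjT)
    · exact T.mul_mem (T.mul_mem hkT hxiT) (T.inv_mem hkT)
  have hgo : ∀ m, orderOf (gm m) = 3 := by
    intro m
    fin_cases m
    · exact hxi
    · exact (Z5b.orderOf_conj' qi x⁻¹).trans hxi
    · exact (Z5b.orderOf_conj' qj x⁻¹).trans hxi
    · exact (Z5b.orderOf_conj' qk x⁻¹).trans hxi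
  have hgw : ∀ m, w ∉ Subgroup.zpowers (gm m) := fun m h =>
    hwT ((Subgroup.zpowers_le.mpr (hgT m)) h)
  have hpure : ∀ m, S.pure (gm m) =
      Z5b.sg p m 0 • S.ρ qi + Z5b.sg p m 1 • S.ρ qj + Z5b.sg p m 2 • S.ρ qk := by
    intro m
    fin_cases m
    · show S.pure x⁻¹ = _
      rw [p0]; simp [Z5b.sg]
    · show S.pure (qi * x⁻¹ * qi⁻¹) = _
      rw [p1]; simp [Z5b.sg, sub_eq_add_neg]
    · show S.pure (qj * x⁻¹ * qj⁻¹) = _
      rw [p2]; simp [Z5b.sg, sub_eq_add_neg]
    · show S.pure (qk * x⁻¹ * qk⁻¹) = _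
      rw [p3]; simp [Z5b.sg, sub_eq_add_neg]
  have hdist : ∀ m m', m ≠ m' → gm m' ∉ Subgroup.zpowers (gm m) := by
    intro m m' hne hmem
    rcases Z5b.pure_of_mem_zpowers S (hgo m) (hgo m') hmem with e | e
    · rw [hpure m, hpure m'] at e
      refine Z5b.frame_ne_zero (p := p) F (Z5b.sg_sub S m m' hne) ?_
      rw [← sub_eq_zero] at e
      rw [← e]
      module
    · rw [hpure m, hpure m'] at e
      refine Z5b.frame_ne_zero (p := p) F (Z5b.sg_add S m m' hne) ?_
      rw [← sub_eq_zero] at e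
      rw [← e]
      module
  let bad : Fin 4 → Bool := fun m => decide (orderOf (gm m * w) = 10)
  have h0 : ((S.ρ qi + S.ρ qj + S.ρ qk) * S.pure w + S.pure w * (S.ρ qi + S.ρ qj + S.ρ qk)) ^ 2 =
      if bad 0 then 20 else 4 := Z5b.hyp_of S (hgo 0) hw (hgw 0) p0
  have h1 : ((S.ρ qi - S.ρ qj - S.ρ qk) * S.pure w + S.pure w * (S.ρ qi - S.ρ qj - S.ρ qk)) ^ 2 =
      if bad 1 then 20 else 4 := Z5b.hyp_of S (hgo 1) hw (hgw 1) p1
  have h2 : ((-S.ρ qi + S.ρ qj - S.ρ qk) * S.pure w +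
      S.pure w * (-S.ρ qi + S.ρ qj - S.ρ qk)) ^ 2 =
      if bad 2 then 20 else 4 := Z5b.hyp_of S (hgo 2) hw (hgw 2) p2
  have h3 : ((-S.ρ qi - S.ρ qj + S.ρ qk) * S.pure w +
      S.pure w * (-S.ρ qi - S.ρ qj + S.ρ qk)) ^ 2 =
      if bad 3 then 20 else 4 := Z5b.hyp_of S (hgo 3) hw (hgw 3) p3
  have hp7 : 7 < p := by
    have h1 := S.p_gt
    have h2 : 0 < Nat.card G := Nat.card_pos
    omega
  rcases thmA_alg (p := p) hp7 (S.ρ qi) (S.ρ qj) (S.ρ qk) (S.pure w) F.ii F.jj hij hji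
    (S.pure_sq hw) bad h0 h1 h2 h3 with hc | halt
  · obtain ⟨m, m', hne, hm, hm'⟩ := Z5b.two_good bad hc
    exact ⟨gm m, gm m', hgT m, hgT m', hgo m, hgo m', hdist m m' hne,
      Z5b.good_of_not_bad S (hgo m) hw (hgw m) hm, Z5b.good_of_not_bad S (hgo m') hw (hgw m') hm'⟩
  · exfalso
    obtain ⟨q, hq, u, hu, h0', hall⟩ := halt
    have aIJ : S.ρ qi * S.ρ qj = -(S.ρ qj * S.ρ qi) := by rw [F.ij, F.ji, neg_neg]
    have aJK : S.ρ qj * S.ρ qk = -(S.ρ qk * S.ρ qj) := by rw [F.jk, F.kj, neg_neg]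
    have aKI : S.ρ qk * S.ρ qi = -(S.ρ qi * S.ρ qk) := by rw [F.ki, F.ik, neg_neg]
    simp only [Set.mem_insert_iff, Set.mem_singleton_iff] at hq
    rcases hq with e | e | e
    · subst e
      obtain ⟨h1', h2'⟩ := hall (S.ρ qj) (by simp) (Z5b.ne_of_anticomm S aIJ F.ii)
      exact Z5b.alt_false_aux S hw hqi aIJ hu h0' h1' h2'
    · subst e
      obtain ⟨h1', h2'⟩ := hall (S.ρ qk) (by simp) (Z5b.ne_of_anticomm S aJK F.jj)
      exact Z5b.alt_false_aux S hw hqj aJK hu h0' h1' h2'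
    · subst e
      obtain ⟨h1', h2'⟩ := hall (S.ρ qi) (by simp) (Z5b.ne_of_anticomm S aKI F.kk)
      exact Z5b.alt_false_aux S hw hqk aKI hu h0' h1' h2'

end Cfsg.Agent.Helper5.Zas
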