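import Mathlib
import Cfsg.Agent.Helper5.ZasDefs
import Cfsg.Agent.Helper3.ZasBasic2
import Cfsg.Agent.Helper3.ZasPair2
import Cfsg.Agent.Helper23.ZasCorACore

/-!
# Zassenhaus cluster, piece Z5 (first half): the quaternion frame of a good pair

For a good pair `(x, y)` with `o(xy) = 4`, the elements `qi = xy`, `qj = x (xy) x⁻¹`, `qk = yx`
form a quaternion frame and `pure x = -(I + J + K)`.
-/

set_option autoImplicit false
set_option linter.unusedSectionVars false
set_option linter.unusedSimpArgs false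
set_option linter.style.haveILetI false

namespace Cfsg.Agent.Helper5.Zas

variable {p : ℕ} [Fact p.Prime] {G : Type*} [Group G] [Finite G] {V : Type*} [AddCommGroup V]
  [Module (ZMod p) V] [Finite V] [Nontrivial V]

namespace Z5b

/-- The quaternion frame of a pair with `o(xy) = 4`. -/
theorem frame_of_four (S : Setup p G V) {x y : G} (hx : orderOf x = 3) (hy : orderOf y = 3)
    (h4 : orderOf (x * y) = 4) :
    orderOf (x * (x * y) * x⁻¹) = 4 ∧ orderOf (y * x) = 4 ∧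
    S.ρ (x * y) * S.ρ (x * (x * y) * x⁻¹) = S.ρ (y * x) ∧
    S.ρ (x * (x * y) * x⁻¹) * S.ρ (x * y) = -S.ρ (y * x) ∧
    S.pure x = -(S.ρ (x * y) + S.ρ (x * (x * y) * x⁻¹) + S.ρ (y * x)) := by
  have hXX : S.ρ x * S.ρ x = -1 - S.ρ x := by
    have := S.rho_of_orderOf_three hx
    rw [eq_sub_iff_add_eq, eq_neg_iff_add_eq_zero]; exact this
  have hYY : S.ρ y * S.ρ y = -1 - S.ρ y := by
    have := S.rho_of_orderOf_three hy
    rw [eq_sub_iff_add_eq, eq_neg_iff_add_eq_zero]; exact this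
  have hYX : S.ρ y * S.ρ x = -(S.ρ x * S.ρ y) - 1 - S.ρ x - S.ρ y := by
    have h := S.tr_of_orderOf_four h4
    unfold Setup.tr at h
    rw [mul_inv_rev, map_mul, map_mul, S.rho_inv_of_orderOf_three hx,
      S.rho_inv_of_orderOf_three hy] at h
    have e : (-1 - S.ρ y) * (-1 - S.ρ x) = 1 + S.ρ x + S.ρ y + S.ρ y * S.ρ x := by noncomm_ring
    rw [e] at h
    calc S.ρ y * S.ρ x = (S.ρ x * S.ρ y + (1 + S.ρ x + S.ρ y + S.ρ y * S.ρ x))
          - S.ρ x * S.ρ y - 1 - S.ρ x - S.ρ y := by abel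
      _ = _ := by rw [h]; abel
  have hXX' : ∀ Z : Module.End (ZMod p) V, S.ρ x * (S.ρ x * Z) = -Z - S.ρ x * Z := by
    intro Z; rw [← mul_assoc, hXX, sub_mul, neg_mul, one_mul]
  have hYY' : ∀ Z : Module.End (ZMod p) V, S.ρ y * (S.ρ y * Z) = -Z - S.ρ y * Z := by
    intro Z; rw [← mul_assoc, hYY, sub_mul, neg_mul, one_mul]
  have hYX' : ∀ Z : Module.End (ZMod p) V, S.ρ y * (S.ρ x * Z) =
      -(S.ρ x * (S.ρ y * Z)) - Z - S.ρ x * Z - S.ρ y * Z := by
    intro Z; rw [← mul_assoc, hYX, sub_mul, sub_mul, sub_mul, neg_mul, one_mul, mul_assoc]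
  have hJ : S.ρ (x * (x * y) * x⁻¹) = S.ρ y - S.ρ x := by
    rw [map_mul, map_mul, map_mul, S.rho_inv_of_orderOf_three hx]
    simp only [mul_sub, sub_mul, mul_neg, neg_mul, mul_one, one_mul, mul_assoc, hXX, hXX', hYY,
      hYY', hYX, hYX', neg_sub, sub_neg_eq_add, neg_neg, neg_add_rev]
    abel
  have hI : S.ρ (x * y) = S.ρ x * S.ρ y := map_mul _ _ _
  have hK : S.ρ (y * x) = -(S.ρ x * S.ρ y) - 1 - S.ρ x - S.ρ y := by rw [map_mul, hYX]
  refine ⟨?_, ?_, ?_, ?_, ?_⟩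
  · exact (orderOf_conj' x (x * y)).trans h4
  · have : y * x = x⁻¹ * (x * y) * x⁻¹⁻¹ := by group
    rw [this, orderOf_conj', h4]
  · rw [hJ, hI, hK]
    simp only [mul_sub, sub_mul, mul_neg, neg_mul, mul_one, one_mul, mul_assoc, hXX, hXX', hYY,
      hYY', hYX, hYX', neg_sub, sub_neg_eq_add, neg_neg, neg_add_rev]
    abel
  · rw [hJ, hI, hK]
    simp only [mul_sub, sub_mul, mul_neg, neg_mul, mul_one, one_mul, mul_assoc, hXX, hXX', hYY,
      hYY', hYX, hYX', neg_sub, sub_neg_eq_add, neg_neg, neg_add_rev]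
    abel
  · rw [hJ, hI, hK]
    unfold Setup.pure
    rw [two_mul]
    abel

/-- Corollary A, full statement (same as `corA` of the plan, under another name). -/
theorem corA_full (S : Setup p G V) {x y w : G} (hx : orderOf x = 3) (hy : orderOf y = 3)
    (hxy : y ∉ Subgroup.zpowers x) (hg : Good x y) (hw : orderOf w = 3)
    (hwT : w ∉ Subgroup.closure ({x, y} : Set G)) :
    ∃ a b : G, a ∈ Subgroup.closure ({x, y} : Set G) ∧ b ∈ Subgroup.closure ({x, y} : Set G) ∧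
      orderOf a = 3 ∧ orderOf b = 3 ∧ b ∉ Subgroup.zpowers a ∧ Good a w ∧ Good b w := by
  have hxT : x ∈ Subgroup.closure ({x, y} : Set G) := Subgroup.subset_closure (by simp)
  have hyT : y ∈ Subgroup.closure ({x, y} : Set G) := Subgroup.subset_closure (by simp)
  have hxiT := Subgroup.inv_mem _ hxT
  rcases hg with h4 | h6
  · obtain ⟨hqj, hqk, hij, hji, hsum⟩ := frame_of_four S hx hy h4
    exact corA_core S _ hxT (Subgroup.mul_mem _ hxT hyT)
      (Subgroup.mul_mem _ (Subgroup.mul_mem _ hxT (Subgroup.mul_mem _ hxT hyT)) hxiT)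
      (Subgroup.mul_mem _ hyT hxT) hx h4 hqj hqk hij hji hsum hw hwT
  · have hM := Z3.pair_binary S hx hy hxy
    have ha := Z3.orderOf_mem_of_isBinary hM (Subgroup.mul_mem _ hxT hyT)
    have hb := Z3.orderOf_mem_of_isBinary hM (Subgroup.mul_mem _ hxiT hyT)
    have h4 : orderOf (x⁻¹ * y) = 4 := by
      rcases Z3.orders_pair S hx hy hxy ha hb with ⟨h, -⟩ | ⟨-, h⟩ | ⟨h, -⟩
      · rw [h6] at h; norm_num at h
      · exact h
      · rw [h6] at h; norm_num at h
    have hxi : orderOf x⁻¹ = 3 := by rw [orderOf_inv]; exact hx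
    obtain ⟨hqj, hqk, hij, hji, hsum⟩ := frame_of_four S hxi hy h4
    exact corA_core S _ hxiT (Subgroup.mul_mem _ hxiT hyT)
      (Subgroup.mul_mem _ (Subgroup.mul_mem _ hxiT (Subgroup.mul_mem _ hxiT hyT))
        (Subgroup.inv_mem _ hxiT))
      (Subgroup.mul_mem _ hyT hxiT) hxi h4 hqj hqk hij hji hsum hw hwT

end Z5b

end Cfsg.Agent.Helper5.Zas

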