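import Mathlib
import Cfsg.Agent.Helper5.ZasDefs
import Cfsg.Agent.Helper23.ZasCorAFrame

/-!
# Zassenhaus cluster, piece Z5: Corollary A (official name and signature of the plan)
-/

set_option autoImplicit false
set_option linter.unusedSectionVars false

namespace Cfsg.Agent.Helper5.Zas

variable {p : ℕ} [Fact p.Prime] {G : Type*} [Group G] [Finite G] {V : Type*} [AddCommGroup V]
  [Module (ZMod p) V] [Finite V] [Nontrivial V]

/-! ## Cor A -/
theorem corA (S : Setup p G V) {x y w : G} (hx : orderOf x = 3) (hy : orderOf y = 3)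
    (hxy : y ∉ Subgroup.zpowers x) (hg : Good x y) (hw : orderOf w = 3)
    (hwT : w ∉ Subgroup.closure ({x, y} : Set G)) :
    ∃ a b : G, a ∈ Subgroup.closure ({x, y} : Set G) ∧ b ∈ Subgroup.closure ({x, y} : Set G) ∧
      orderOf a = 3 ∧ orderOf b = 3 ∧ b ∉ Subgroup.zpowers a ∧ Good a w ∧ Good b w :=
  Z5b.corA_full S hx hy hxy hg hw hwT

end Cfsg.Agent.Helper5.Zas
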