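import Mathlib
import Cfsg.Agent.Helper5.ZasDefs
import Cfsg.Agent.Helper3.ZasBasic2
import Cfsg.Agent.Helper23.ZasCorA
import Cfsg.Agent.Helper23.ZasThmC
import Cfsg.Agent.Helper23.ZasCardA
import Cfsg.Agent.Helper18.ZasBinary
import Cfsg.Agent.Helper3.ZasPair2

/-!
# Zassenhaus cluster, piece Z7 (first half): `corA_card`
-/

set_option autoImplicit false
set_option linter.unusedSectionVars false
set_option linter.style.haveILetI false

namespace Cfsg.Agent.Helper5.Zas

variable {p : ℕ} [Fact p.Prime] {G : Type*} [Group G] [Finite G] {V : Type*} [AddCommGroup V]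
  [Module (ZMod p) V] [Finite V] [Nontrivial V]

local notation "SL2p" => Matrix.SpecialLinearGroup (Fin 2) (ZMod p)

namespace Z7

/-- A good pair generates a subgroup of order `24`. -/
theorem card_of_good (S : Setup p G V) {x y : G} (hx : orderOf x = 3) (hy : orderOf y = 3)
    (hxy : y ∉ Subgroup.zpowers x) (hg : Good x y) :
    Nat.card (Subgroup.closure ({x, y} : Set G)) = 24 := by
  rcases pair_cases S hx hy hxy with h | h
  · exact h.2
  · exfalso
    rcases hg with h4 | h6
    · rw [h4] at h; omega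
    · rw [h6] at h; omega

/-- For `b₁₂, b₁₃, b₂₃ ∈ {±2}` the discriminant is a square. -/
theorem exists_r (S : Setup p G V) {b₁₂ b₁₃ b₂₃ : ZMod p} (h12 : b₁₂ = 2 ∨ b₁₂ = -2)
    (h13 : b₁₃ = 2 ∨ b₁₃ = -2) (h23 : b₂₃ = 2 ∨ b₂₃ = -2) :
    ∃ r : ZMod p, 4 * r ^ 2 = 108 - b₁₂ * b₁₃ * b₂₃ - 3 * (b₁₂ ^ 2 + b₁₃ ^ 2 + b₂₃ ^ 2) := by
  obtain ⟨s, hs⟩ := exists_sqrt_five S
  have key : b₁₂ * b₁₃ * b₂₃ = 8 ∨ b₁₂ * b₁₃ * b₂₃ = -8 := by
    rcases h12 with rfl | rfl <;> rcases h13 with rfl | rfl <;> rcases h23 with rfl | rfl <;>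
      first
      | (left; ring1)
      | (right; ring1)
  have hsq : b₁₂ ^ 2 + b₁₃ ^ 2 + b₂₃ ^ 2 = 12 := by
    rcases h12 with rfl | rfl <;> rcases h13 with rfl | rfl <;> rcases h23 with rfl | rfl <;> ring
  rcases key with h | h
  · refine ⟨4, ?_⟩
    rw [h, hsq]; ring
  · refine ⟨2 * s, ?_⟩
    rw [h, hsq]
    linear_combination (16 : ZMod p) * hs

end Z7

open Z7 in
/-- **Piece Z7, first half.** -/
theorem corA_card (S : Setup p G V) {x y w : G} (hx : orderOf x = 3) (hy : orderOf y = 3)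
    (hxy : y ∉ Subgroup.zpowers x) (hg : Good x y) (hw : orderOf w = 3)
    (hwT : w ∉ Subgroup.closure ({x, y} : Set G)) :
    Nat.card (Subgroup.closure ({x, y, w} : Set G)) = 120 ∧
      IsBinary (Subgroup.closure ({x, y, w} : Set G)) := by
  have hT := card_of_good S hx hy hxy hg
  obtain ⟨a, b, haT, hbT, ha, hb, hab, hgaw, hgbw⟩ := corA S hx hy hxy hg hw hwT
  -- `⟨a, b⟩ = ⟨x, y⟩`
  have hle : Subgroup.closure ({a, b} : Set G) ≤ Subgroup.closure ({x, y} : Set G) := by
    rw [Subgroup.closure_le]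
    intro g hg'
    simp only [Set.mem_insert_iff, Set.mem_singleton_iff] at hg'
    rcases hg' with rfl | rfl
    · exact haT
    · exact hbT
  have hcardle : Nat.card (Subgroup.closure ({a, b} : Set G)) ≤
      Nat.card (Subgroup.closure ({x, y} : Set G)) := Subgroup.card_le_of_le hle
  have hgab : Good a b ∧ Nat.card (Subgroup.closure ({a, b} : Set G)) = 24 := by
    rcases pair_cases S ha hb hab with h | h
    · exact h
    · exfalso
      rw [h.2, hT] at hcardle
      omega
  have heq : Subgroup.closure ({a, b} : Set G) = Subgroup.closure ({x, y} : Set G) := by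
    apply Subgroup.eq_of_le_of_card_ge hle
    rw [hgab.2, hT]
  have hcl : Subgroup.closure ({a, b, w} : Set G) = Subgroup.closure ({x, y, w} : Set G) := by
    rw [closure_triple, closure_triple, heq]
  -- the three anticommutators
  obtain ⟨b₁₂, h12, e12⟩ := good_anticomm S ha hb hgab.1
  obtain ⟨b₁₃, h13, e13⟩ := good_anticomm S ha hw hgaw
  obtain ⟨b₂₃, h23, e23⟩ := good_anticomm S hb hw hgbw
  obtain ⟨r, hr⟩ := exists_r S h12 h13 h23
  obtain ⟨φ, hφ⟩ := three_sl2 S ha hb hw hab b₁₂ b₁₃ b₂₃ r e12 e13 e23 hr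
  have hbin : IsBinary (Subgroup.closure ({a, b, w} : Set G)) := by
    apply isBinary_of_sl2 S ({a, b, w} : Set G) _ (x := a) (y := b) (by simp) (by simp) hab φ hφ
    intro g hg'
    simp only [Set.mem_insert_iff, Set.mem_singleton_iff] at hg'
    rcases hg' with rfl | rfl | rfl
    · exact ha
    · exact hb
    · exact hw
  rw [hcl] at hbin
  refine ⟨?_, hbin⟩
  rcases card_of_isBinary hbin with h | h
  · exfalso
    -- `⟨x, y⟩` would be all of `⟨x, y, w⟩`
    have hle2 : Subgroup.closure ({x, y} : Set G) ≤ Subgroup.closure ({x, y, w} : Set G) := by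
      apply Subgroup.closure_mono
      intro g hg'
      simp only [Set.mem_insert_iff, Set.mem_singleton_iff] at hg' ⊢
      tauto
    have := Subgroup.eq_of_le_of_card_ge hle2 (by rw [h, hT])
    apply hwT
    rw [this]
    exact Subgroup.subset_closure (by simp)
  · exact h


end Cfsg.Agent.Helper5.Zas
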