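import Mathlib
import Cfsg.Prelude.Def_GeometricClasses
import Cfsg.Agent.Helper3.OC2.Defs

set_option autoImplicit false
set_option linter.unusedSectionVars false
set_option linter.unusedVariables false

/-! # S5692 / S5694, chapter TRANSPORT, piece ISOPLUS: plus type is an isometry invariant. -/

namespace Cfsg.Agent.OC2P

open Matrix Cfsg.Geo

variable {F : Type*} [Field F] {t k n : ℕ}

namespace ISOPLUS

/-- plus type transports along an injective isometry -/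
theorem plus_iff {κ ι : Type} [Fintype κ] [DecidableEq κ] [Fintype ι] [DecidableEq ι]
    {Q : (ι → F) → F} {Q₀ : (κ → F) → F} (Φ : (κ → F) →ₗ[F] (ι → F)) (hΦ : Function.Injective Φ)
    (hQ : ∀ y, Q (Φ y) = Q₀ y) (W : Submodule F (κ → F)) :
    IsPlusTypeOn Q (W.map Φ) ↔ IsPlusTypeOn Q₀ W := by
  constructor
  · rintro ⟨U', hU'W, hU'Q, hdim⟩
    have hrange : U' ≤ LinearMap.range Φ := le_trans hU'W (LinearMap.map_le_range)
    have hmap : (U'.comap Φ).map Φ = U' := Submodule.map_comap_eq_self hrange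
    refine ⟨U'.comap Φ, ?_, ?_, ?_⟩
    · intro y hy
      have h1 : Φ y ∈ W.map Φ := hU'W hy
      obtain ⟨w, hw, hwy⟩ := h1
      rw [← hΦ hwy]
      exact hw
    · intro y hy
      rw [← hQ y]
      exact hU'Q _ hy
    · have e1 := (Submodule.equivMapOfInjective Φ hΦ (U'.comap Φ)).finrank_eq
      have e2 := (Submodule.equivMapOfInjective Φ hΦ W).finrank_eq
      rw [hmap] at e1
      rw [e1, e2]
      exact hdim
  · rintro ⟨U, hUW, hUQ, hdim⟩
    refine ⟨U.map Φ, Submodule.map_mono hUW, ?_, ?_⟩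
    · rintro _ ⟨y, hy, rfl⟩
      rw [hQ y]
      exact hUQ y hy
    · have e1 := (Submodule.equivMapOfInjective Φ hΦ U).finrank_eq
      have e2 := (Submodule.equivMapOfInjective Φ hΦ W).finrank_eq
      rw [← e1, ← e2]
      exact hdim

/-- the linear map `y ↦ P (y ∘ e⁻¹)` -/
noncomputable def phi {κ ι : Type} [Fintype κ] [DecidableEq κ] [Fintype ι] [DecidableEq ι]
    (e : κ ≃ ι) (P : GL ι F) : (κ → F) →ₗ[F] (ι → F) :=
  (Matrix.toLin' (P : Matrix ι ι F)).comp (LinearEquiv.funCongrLeft F F e.symm).toLinearMap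

theorem phi_apply {κ ι : Type} [Fintype κ] [DecidableEq κ] [Fintype ι] [DecidableEq ι]
    (e : κ ≃ ι) (P : GL ι F) (y : κ → F) : phi e P y = (P : Matrix ι ι F) *ᵥ (y ∘ e.symm) := rfl

theorem phi_injective {κ ι : Type} [Fintype κ] [DecidableEq κ] [Fintype ι] [DecidableEq ι]
    (e : κ ≃ ι) (P : GL ι F) : Function.Injective (phi (F := F) e P) := by
  intro y y' hyy
  rw [phi_apply, phi_apply] at hyy
  have h1 : ((P⁻¹ : GL ι F) : Matrix ι ι F) *ᵥ ((P : Matrix ι ι F) *ᵥ (y ∘ e.symm)) =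
      ((P⁻¹ : GL ι F) : Matrix ι ι F) *ᵥ ((P : Matrix ι ι F) *ᵥ (y' ∘ e.symm)) := by rw [hyy]
  rw [Matrix.mulVec_mulVec, Matrix.mulVec_mulVec, ← Units.val_mul, inv_mul_cancel, Units.val_one,
    Matrix.one_mulVec, Matrix.one_mulVec] at h1
  funext a
  have := congrFun h1 (e a)
  simpa using this

theorem phi_surjective {κ ι : Type} [Fintype κ] [DecidableEq κ] [Fintype ι] [DecidableEq ι]
    (e : κ ≃ ι) (P : GL ι F) : Function.Surjective (phi (F := F) e P) := by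
  intro x
  refine ⟨(((P⁻¹ : GL ι F) : Matrix ι ι F) *ᵥ x) ∘ e, ?_⟩
  rw [phi_apply]
  have : ((((P⁻¹ : GL ι F) : Matrix ι ι F) *ᵥ x) ∘ e) ∘ e.symm = ((P⁻¹ : GL ι F) : Matrix ι ι F) *ᵥ x := by
    funext a
    simp
  rw [this, Matrix.mulVec_mulVec, ← Units.val_mul, mul_inv_cancel, Units.val_one, Matrix.one_mulVec]

theorem phi_Q {κ ι : Type} [Fintype κ] [DecidableEq κ] [Fintype ι] [DecidableEq ι]
    {Q : (ι → F) → F} {Q₀ : (κ → F) → F} (e : κ ≃ ι) (P : GL ι F)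
    (hP : ∀ x : ι → F, Q ((P : Matrix ι ι F) *ᵥ x) = Q₀ (x ∘ e)) (y : κ → F) :
    Q (phi e P y) = Q₀ y := by
  rw [phi_apply, hP]
  congr 1
  funext a
  simp

end ISOPLUS

theorem ISOPLUS.main {κ ι : Type} [Fintype κ] [DecidableEq κ] [Fintype ι] [DecidableEq ι]
    {Q : (ι → F) → F} {Q₀ : (κ → F) → F} (e : κ ≃ ι) (P : GL ι F)
    (hP : ∀ x : ι → F, Q ((P : Matrix ι ι F) *ᵥ x) = Q₀ (x ∘ e)) (W : Submodule F (κ → F)) :
    IsPlusTypeOn Q ((W.map (LinearEquiv.funCongrLeft F F e.symm).toLinearMap).map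
      (Matrix.toLin' (P : Matrix ι ι F))) ↔ IsPlusTypeOn Q₀ W := by
  rw [← Submodule.map_comp]
  exact ISOPLUS.plus_iff (ISOPLUS.phi e P) (ISOPLUS.phi_injective e P) (ISOPLUS.phi_Q e P hP) W

theorem ISOPLUS.top {κ ι : Type} [Fintype κ] [DecidableEq κ] [Fintype ι] [DecidableEq ι]
    {Q : (ι → F) → F} {Q₀ : (κ → F) → F} (e : κ ≃ ι) (P : GL ι F)
    (hP : ∀ x : ι → F, Q ((P : Matrix ι ι F) *ᵥ x) = Q₀ (x ∘ e)) :
    IsPlusTypeOn Q ⊤ ↔ IsPlusTypeOn Q₀ ⊤ := by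
  have h := ISOPLUS.plus_iff (ISOPLUS.phi e P) (ISOPLUS.phi_injective e P) (ISOPLUS.phi_Q e P hP) ⊤
  rw [Submodule.map_top, LinearMap.range_eq_top.mpr (ISOPLUS.phi_surjective e P)] at h
  exact h

end Cfsg.Agent.OC2P
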