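import Mathlib
import Cfsg.Agent.Helper7.K2M.Defs2
import Cfsg.Agent.Helper4.K2MQB
import Cfsg.Agent.Helper3.K2MRACT
import Cfsg.Agent.Helper7.K2MSMOVE
import Cfsg.Agent.Helper16.K2MSPAIR
import Cfsg.Agent.Helper3.K2MSCHANGEB
import Cfsg.Agent.Helper16.K2MSREFL4

set_option autoImplicit false
set_option linter.unusedSectionVars false
set_option linter.unusedVariables false

/-! # S5694 K2M piece S-FOUR (helper23): five nonzero components give a Siegel element. -/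

namespace Cfsg.Agent.K2M

open Matrix Cfsg.Agent.OC2P Cfsg.Agent.Helper28.Sg Cfsg.Agent.Helper28.Spin
  Cfsg.Agent.Helper12.OrthGen

variable {F : Type*} [Field F] [Fintype F] {t : ℕ} {Q : QuadraticForm F (Fin t × Fin 2 → F)}
  {q : QuadraticForm F (Fin 2 → F)}

omit [Fintype F] in
theorem SFOUR.refl_step (v : Fin t × Fin 2 → F) (hv : Q v ≠ 0) (x : Fin t × Fin 2 → F)
    (h : B Q v x = 1) : mt Q (reflO Q v hv) *ᵥ x = x - (Q v)⁻¹ • v := by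
  rw [RACT.mulVec, h, mul_one]

omit [Fintype F] in
theorem SFOUR.refl_fix (v : Fin t × Fin 2 → F) (hv : Q v ≠ 0) (x : Fin t × Fin 2 → F)
    (h : B Q v x = 0) : mt Q (reflO Q v hv) *ᵥ x = x := by
  rw [RACT.mulVec, h, mul_zero, zero_smul, sub_zero]

omit [Fintype F] in
theorem SFOUR.prod_fix {v0 v1 v2 v3 : Fin t × Fin 2 → F} (h0 : Q v0 ≠ 0) (h1 : Q v1 ≠ 0)
    (h2 : Q v2 ≠ 0) (h3 : Q v3 ≠ 0) (b : Fin t × Fin 2 → F) (b0 : B Q v0 b = 0)
    (b1 : B Q v1 b = 0) (b2 : B Q v2 b = 0) (b3 : B Q v3 b = 0) :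
    mt Q (reflO Q v0 h0 * reflO Q v1 h1 * (reflO Q v2 h2 * reflO Q v3 h3)) *ᵥ b = b := by
  rw [mt_mul_mulVec, mt_mul_mulVec, mt_mul_mulVec, SFOUR.refl_fix v3 h3 b b3,
    SFOUR.refl_fix v2 h2 b b2, SFOUR.refl_fix v1 h1 b b1, SFOUR.refl_fix v0 h0 b b0]

omit [Fintype F] in
theorem SFOUR.prod_act {v0 v1 v2 v3 : Fin t × Fin 2 → F} (h0 : Q v0 ≠ 0) (h1 : Q v1 ≠ 0)
    (h2 : Q v2 ≠ 0) (h3 : Q v3 ≠ 0) (o01 : B Q v0 v1 = 0) (o02 : B Q v0 v2 = 0)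
    (o03 : B Q v0 v3 = 0) (o12 : B Q v1 v2 = 0) (o13 : B Q v1 v3 = 0) (o23 : B Q v2 v3 = 0)
    (a : Fin t × Fin 2 → F) (a0 : B Q v0 a = 1) (a1 : B Q v1 a = 1) (a2 : B Q v2 a = 1)
    (a3 : B Q v3 a = 1) :
    mt Q (reflO Q v0 h0 * reflO Q v1 h1 * (reflO Q v2 h2 * reflO Q v3 h3)) *ᵥ a =
      a - (Q v3)⁻¹ • v3 - (Q v2)⁻¹ • v2 - (Q v1)⁻¹ • v1 - (Q v0)⁻¹ • v0 := by
  have s2 : B Q v2 (a - (Q v3)⁻¹ • v3) = 1 := by
    show QuadraticMap.polar ⇑Q v2 (a - (Q v3)⁻¹ • v3) = 1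
    rw [QuadraticMap.polar_sub_right, QuadraticMap.polar_smul_right]
    have e1 : QuadraticMap.polar ⇑Q v2 a = 1 := a2
    have e2 : QuadraticMap.polar ⇑Q v2 v3 = 0 := o23
    rw [e1, e2]; simp only [smul_zero, sub_zero]
  have s1 : B Q v1 (a - (Q v3)⁻¹ • v3 - (Q v2)⁻¹ • v2) = 1 := by
    show QuadraticMap.polar ⇑Q v1 (a - (Q v3)⁻¹ • v3 - (Q v2)⁻¹ • v2) = 1
    rw [QuadraticMap.polar_sub_right, QuadraticMap.polar_sub_right,
      QuadraticMap.polar_smul_right, QuadraticMap.polar_smul_right]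
    have e1 : QuadraticMap.polar ⇑Q v1 a = 1 := a1
    have e2 : QuadraticMap.polar ⇑Q v1 v3 = 0 := o13
    have e3 : QuadraticMap.polar ⇑Q v1 v2 = 0 := o12
    rw [e1, e2, e3]; simp only [smul_zero, sub_zero]
  have s0 : B Q v0 (a - (Q v3)⁻¹ • v3 - (Q v2)⁻¹ • v2 - (Q v1)⁻¹ • v1) = 1 := by
    show QuadraticMap.polar ⇑Q v0 (a - (Q v3)⁻¹ • v3 - (Q v2)⁻¹ • v2 - (Q v1)⁻¹ • v1) = 1
    rw [QuadraticMap.polar_sub_right, QuadraticMap.polar_sub_right,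
      QuadraticMap.polar_sub_right, QuadraticMap.polar_smul_right,
      QuadraticMap.polar_smul_right, QuadraticMap.polar_smul_right]
    have e1 : QuadraticMap.polar ⇑Q v0 a = 1 := a0
    have e2 : QuadraticMap.polar ⇑Q v0 v3 = 0 := o03
    have e3 : QuadraticMap.polar ⇑Q v0 v2 = 0 := o02
    have e4 : QuadraticMap.polar ⇑Q v0 v1 = 0 := o01
    rw [e1, e2, e3, e4]; simp only [smul_zero, sub_zero]
  rw [mt_mul_mulVec, mt_mul_mulVec, mt_mul_mulVec, SFOUR.refl_step v3 h3 a a3,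
    SFOUR.refl_step v2 h2 _ s2, SFOUR.refl_step v1 h1 _ s1, SFOUR.refl_step v0 h0 _ s0]

omit [Fintype F] in
theorem SFOUR.Q_add_orth {x y : Fin t × Fin 2 → F} (h : B Q x y = 0) : Q (x + y) = Q x + Q y := by
  rw [Q_add, h, add_zero]

omit [Fintype F] in
theorem SFOUR.Q_inv_smul {v : Fin t × Fin 2 → F} (hv : Q v ≠ 0) : Q ((Q v)⁻¹ • v) = (Q v)⁻¹ := by
  rw [Q_smul]
  field_simp

omit [Fintype F] in
theorem SFOUR.Q_sum {v0 v1 v2 v3 : Fin t × Fin 2 → F} (h0 : Q v0 ≠ 0) (h1 : Q v1 ≠ 0)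
    (h2 : Q v2 ≠ 0) (h3 : Q v3 ≠ 0) (o01 : B Q v0 v1 = 0) (o02 : B Q v0 v2 = 0)
    (o03 : B Q v0 v3 = 0) (o12 : B Q v1 v2 = 0) (o13 : B Q v1 v3 = 0) (o23 : B Q v2 v3 = 0)
    (k01 : Q v1 = - Q v0) (k23 : Q v3 = - Q v2) :
    Q ((Q v3)⁻¹ • v3 + (Q v2)⁻¹ • v2 + (Q v1)⁻¹ • v1 + (Q v0)⁻¹ • v0) = 0 := by
  have p01 : QuadraticMap.polar ⇑Q v0 v1 = 0 := o01
  have p02 : QuadraticMap.polar ⇑Q v0 v2 = 0 := o02
  have p03 : QuadraticMap.polar ⇑Q v0 v3 = 0 := o03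
  have p12 : QuadraticMap.polar ⇑Q v1 v2 = 0 := o12
  have p13 : QuadraticMap.polar ⇑Q v1 v3 = 0 := o13
  have p23 : QuadraticMap.polar ⇑Q v2 v3 = 0 := o23
  have p10 : QuadraticMap.polar ⇑Q v1 v0 = 0 := by rw [QuadraticMap.polar_comm]; exact p01
  have p20 : QuadraticMap.polar ⇑Q v2 v0 = 0 := by rw [QuadraticMap.polar_comm]; exact p02
  have p30 : QuadraticMap.polar ⇑Q v3 v0 = 0 := by rw [QuadraticMap.polar_comm]; exact p03
  have p21 : QuadraticMap.polar ⇑Q v2 v1 = 0 := by rw [QuadraticMap.polar_comm]; exact p12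
  have p31 : QuadraticMap.polar ⇑Q v3 v1 = 0 := by rw [QuadraticMap.polar_comm]; exact p13
  have p32 : QuadraticMap.polar ⇑Q v3 v2 = 0 := by rw [QuadraticMap.polar_comm]; exact p23
  have c1 : B Q ((Q v3)⁻¹ • v3) ((Q v2)⁻¹ • v2) = 0 := by
    show QuadraticMap.polar ⇑Q ((Q v3)⁻¹ • v3) ((Q v2)⁻¹ • v2) = 0
    rw [QuadraticMap.polar_smul_left, QuadraticMap.polar_smul_right, p32, smul_zero, smul_zero]
  have c2 : B Q ((Q v3)⁻¹ • v3 + (Q v2)⁻¹ • v2) ((Q v1)⁻¹ • v1) = 0 := by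
    show QuadraticMap.polar ⇑Q ((Q v3)⁻¹ • v3 + (Q v2)⁻¹ • v2) ((Q v1)⁻¹ • v1) = 0
    rw [QuadraticMap.polar_add_left, QuadraticMap.polar_smul_left, QuadraticMap.polar_smul_left,
      QuadraticMap.polar_smul_right, QuadraticMap.polar_smul_right, p31, p21]
    simp only [smul_zero, add_zero]
  have c3 : B Q ((Q v3)⁻¹ • v3 + (Q v2)⁻¹ • v2 + (Q v1)⁻¹ • v1) ((Q v0)⁻¹ • v0) = 0 := by
    show QuadraticMap.polar ⇑Q ((Q v3)⁻¹ • v3 + (Q v2)⁻¹ • v2 + (Q v1)⁻¹ • v1)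
      ((Q v0)⁻¹ • v0) = 0
    rw [QuadraticMap.polar_add_left, QuadraticMap.polar_add_left, QuadraticMap.polar_smul_left,
      QuadraticMap.polar_smul_left, QuadraticMap.polar_smul_left, QuadraticMap.polar_smul_right,
      QuadraticMap.polar_smul_right, QuadraticMap.polar_smul_right, p30, p20, p10]
    simp only [smul_zero, add_zero]
  rw [SFOUR.Q_add_orth c3, SFOUR.Q_add_orth c2, SFOUR.Q_add_orth c1, SFOUR.Q_inv_smul h0,
    SFOUR.Q_inv_smul h1, SFOUR.Q_inv_smul h2, SFOUR.Q_inv_smul h3, k01, k23, inv_neg, inv_neg]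
  ring

theorem SFOUR.main (bm : BM Q q) (ht : 5 ≤ t) {H : Subgroup (OG Q)} (hH : HasMO H)
    {a : Fin t × Fin 2 → F} (ha : InA H a) (e : Fin 5 → Fin t) (he : Function.Injective e)
    (hne : ∀ s, bproj (e s) a ≠ 0) : SiegOut H := by
  have ht3 : 3 ≤ t := by omega
  obtain ⟨y, ha', hb, hqy, hab⟩ := SCHANGEB.main bm ht3 hH ha (e 4)
  obtain ⟨d0, d1, hd0, hd1, h01⟩ := SPAIR.main bm (hne 0) (hne 1)
  obtain ⟨d2, d3, hd2, hd3, h23⟩ := SPAIR.main bm (hne 2) (hne 3)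
  -- the four block indices and vectors
  let e' : Fin 4 → Fin t := fun s => e (Fin.castSucc s)
  have he' : Function.Injective e' := fun s s' h => Fin.castSucc_injective _ (he h)
  let d : Fin 4 → (Fin 2 → F) := ![d0, d1, d2, d3]
  -- nonvanishing of the norms
  have nz : ∀ {x z : Fin 2 → F}, QuadraticMap.polar ⇑q x z = 1 → q z ≠ 0 := by
    intro x z hxz hqz
    have hz0 : z = 0 := bm.aniso z hqz
    rw [hz0, QuadraticMap.polar_zero_right] at hxz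
    exact zero_ne_one hxz
  have k0 : q d0 ≠ 0 := nz hd0
  have k2 : q d2 ≠ 0 := nz hd2
  have k1 : q d1 ≠ 0 := by rw [h01]; exact neg_ne_zero.mpr k0
  have k3 : q d3 ≠ 0 := by rw [h23]; exact neg_ne_zero.mpr k2
  have hd : ∀ s, Q (binj (e' s) (d s)) ≠ 0 := by
    intro s
    rw [QB.Q_binj bm]
    fin_cases s
    · exact k0
    · exact k1
    · exact k2
    · exact k3
  have hm : reflO Q (binj (e' 0) (d 0)) (hd 0) * reflO Q (binj (e' 1) (d 1)) (hd 1) *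
      (reflO Q (binj (e' 2) (d 2)) (hd 2) * reflO Q (binj (e' 3) (d 3)) (hd 3)) ∈ H :=
    SREFL4.main bm ht3 hH e' he' d hd h01 h23
  -- orthogonality
  have orth : ∀ s s' : Fin 4, s ≠ s' → B Q (binj (e' s) (d s)) (binj (e' s') (d s')) = 0 :=
    fun s s' h => QB.B_binj_binj_ne bm (fun h' => h (he' h')) _ _
  have e4 : ∀ s : Fin 4, e' s ≠ e 4 := by
    intro s h
    have h1 : Fin.castSucc s = (4 : Fin 5) := he h
    have h2 := Fin.castSucc_lt_last s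
    rw [h1] at h2
    exact absurd h2 (by decide)
  have orthb : ∀ s : Fin 4, B Q (binj (e' s) (d s)) (binj (e 4) y) = 0 :=
    fun s => QB.B_binj_binj_ne bm (e4 s) _ _
  have Ba : ∀ s : Fin 4, QuadraticMap.polar ⇑q (bproj (e' s) a) (d s) = 1 →
      B Q (binj (e' s) (d s)) a = 1 := by
    intro s h
    rw [QB.B_binj_left bm, QuadraticMap.polar_comm]
    exact h
  have a0 : B Q (binj (e' 0) (d 0)) a = 1 := Ba 0 hd0
  have a1 : B Q (binj (e' 1) (d 1)) a = 1 := Ba 1 hd1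
  have a2 : B Q (binj (e' 2) (d 2)) a = 1 := Ba 2 hd2
  have a3 : B Q (binj (e' 3) (d 3)) a = 1 := Ba 3 hd3
  have hmb := SFOUR.prod_fix (hd 0) (hd 1) (hd 2) (hd 3) (binj (e 4) y) (orthb 0) (orthb 1)
    (orthb 2) (orthb 3)
  have hma := SFOUR.prod_act (hd 0) (hd 1) (hd 2) (hd 3) (orth 0 1 (by decide))
    (orth 0 2 (by decide)) (orth 0 3 (by decide)) (orth 1 2 (by decide)) (orth 1 3 (by decide))
    (orth 2 3 (by decide)) a a0 a1 a2 a3
  have k01 : Q (binj (e' 1) (d 1)) = - Q (binj (e' 0) (d 0)) := by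
    rw [QB.Q_binj bm, QB.Q_binj bm]; exact h01
  have k23 : Q (binj (e' 3) (d 3)) = - Q (binj (e' 2) (d 2)) := by
    rw [QB.Q_binj bm, QB.Q_binj bm]; exact h23
  have hQz := SFOUR.Q_sum (hd 0) (hd 1) (hd 2) (hd 3) (orth 0 1 (by decide))
    (orth 0 2 (by decide)) (orth 0 3 (by decide)) (orth 1 2 (by decide)) (orth 1 3 (by decide))
    (orth 2 3 (by decide)) k01 k23
  -- abbreviations
  set m : OG Q := reflO Q (binj (e' 0) (d 0)) (hd 0) * reflO Q (binj (e' 1) (d 1)) (hd 1) *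
      (reflO Q (binj (e' 2) (d 2)) (hd 2) * reflO Q (binj (e' 3) (d 3)) (hd 3)) with hmdef
  have hz_eq : a - mt Q m *ᵥ a =
      (Q (binj (e' 3) (d 3)))⁻¹ • binj (e' 3) (d 3) + (Q (binj (e' 2) (d 2)))⁻¹ • binj (e' 2) (d 2) +
        (Q (binj (e' 1) (d 1)))⁻¹ • binj (e' 1) (d 1) +
        (Q (binj (e' 0) (d 0)))⁻¹ • binj (e' 0) (d 0) := by
    rw [hma]; abel
  have hQma : Q (mt Q m *ᵥ a) ≠ 0 := by rw [Q_isom]; exact ha'
  have hQma' : Q (mt Q m *ᵥ a) = Q a := Q_isom m a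
  have hz : Q (a - mt Q m *ᵥ a) = 0 := by rw [hz_eq]; exact hQz
  have hmove := SMOVE.main ha' hb hab hm hmb hQma
  have hrad := STOSIEG.main ha' hQma hQma' hz hmove
  -- components of `z`
  have hcomp : ∀ i : Fin t, bproj i (a - mt Q m *ᵥ a) =
      (Q (binj (e' 3) (d 3)))⁻¹ • bproj i (binj (e' 3) (d 3)) +
        (Q (binj (e' 2) (d 2)))⁻¹ • bproj i (binj (e' 2) (d 2)) +
        (Q (binj (e' 1) (d 1)))⁻¹ • bproj i (binj (e' 1) (d 1)) +
        (Q (binj (e' 0) (d 0)))⁻¹ • bproj i (binj (e' 0) (d 0)) := by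
    intro i
    rw [hz_eq]
    rfl
  refine ⟨a - mt Q m *ᵥ a, (-(Q a)⁻¹) • a, hz, Finset.image e' Finset.univ, e 4, ?_, ?_, ?_, ?_,
    hrad, ?_⟩
  · -- `z ≠ 0`
    intro h0
    have h1 : bproj (e' 0) (a - mt Q m *ᵥ a) = 0 := by rw [h0]; rfl
    rw [hcomp, bproj_binj_ne (he'.ne (by decide : (0 : Fin 4) ≠ 3)),
      bproj_binj_ne (he'.ne (by decide : (0 : Fin 4) ≠ 2)),
      bproj_binj_ne (he'.ne (by decide : (0 : Fin 4) ≠ 1)), bproj_binj, smul_zero, smul_zero,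
      smul_zero, zero_add, zero_add, zero_add] at h1
    have h2 : d 0 = 0 := (smul_eq_zero.mp h1).resolve_left (inv_ne_zero (hd 0))
    have h3 : d0 = 0 := h2
    rw [h3, map_zero] at k0
    exact k0 rfl
  · -- card
    calc (Finset.image e' Finset.univ).card ≤ (Finset.univ : Finset (Fin 4)).card :=
          Finset.card_image_le
      _ = 4 := by simp
  · -- support
    intro i hi
    have hi' : ∀ s : Fin 4, i ≠ e' s := by
      intro s h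
      exact hi (Finset.mem_image.mpr ⟨s, Finset.mem_univ s, h.symm⟩)
    rw [hcomp, bproj_binj_ne (hi' 3), bproj_binj_ne (hi' 2), bproj_binj_ne (hi' 1),
      bproj_binj_ne (hi' 0)]
    simp only [smul_zero, add_zero]
  · -- `p ∉ I`
    intro h
    obtain ⟨s, _, hs⟩ := Finset.mem_image.mp h
    exact e4 s hs
  · -- the component of `w`
    show (-(Q a)⁻¹) • bproj (e 4) a ≠ 0
    exact smul_ne_zero (neg_ne_zero.mpr (inv_ne_zero ha')) (hne 4)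

end Cfsg.Agent.K2M
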