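import Mathlib
import Cfsg.Agent.Helper7.K2M.Defs2

set_option autoImplicit false
set_option linter.unusedSectionVars false
set_option linter.unusedVariables false

/-! # S5694 K2M piece S-SUPP (helper23): a non-block vector has two nonzero components. -/

namespace Cfsg.Agent.K2M

open Matrix Cfsg.Agent.OC2P Cfsg.Agent.Helper28.Sg Cfsg.Agent.Helper28.Spin
  Cfsg.Agent.Helper12.OrthGen

variable {F : Type*} [Field F] [Fintype F] {t : ℕ} {Q : QuadraticForm F (Fin t × Fin 2 → F)}
  {q : QuadraticForm F (Fin 2 → F)}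

/-! ## S-SUPP (S-M): a vector which is not a block vector has two nonzero components -/
omit [Fintype F] in
theorem SSUPP.main (ht : 1 ≤ t) {a : Fin t × Fin 2 → F} (ha : ¬ IsBlk a) :
    ∃ i j : Fin t, i ≠ j ∧ bproj i a ≠ 0 ∧ bproj j a ≠ 0 := by
  by_contra hcon
  push Not at hcon
  apply ha
  by_cases h0 : ∀ i : Fin t, bproj i a = 0
  · refine ⟨⟨0, ht⟩, ?_⟩
    intro i' j _
    exact congrFun (h0 i') j
  · push Not at h0
    obtain ⟨i, hi⟩ := h0
    refine ⟨i, ?_⟩
    intro i' j hi'
    by_contra hne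
    have h1 : bproj i' a ≠ 0 := by
      intro h
      exact hne (congrFun h j)
    exact h1 (hcon i i' (Ne.symm hi') hi)
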