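import Mathlib
import Cfsg.Agent.Helper14.S2481.Defs
import Cfsg.Agent.Helper8.S2481FIELDNORM

/-! S2481 piece WFIELD (helper23): a `σ`-fixed irreducible `ρ ≠ X` divides some `P * σ P - X`
(norm surjectivity in the finite field `AdjoinRoot ρ` with the induced involution). -/

set_option autoImplicit false

namespace Cfsg.Agent.S2481P

open Polynomial DirectSum Matrix Cfsg.Agent.S2478P Cfsg.Agent.S2479P

namespace WFIELD

variable {F : Type*} [Field F] {σ : F →+* F}

/-- the involution of `AdjoinRoot ρ` induced by `σ` when `σ ρ = ρ` -/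
noncomputable def tau (σ : F →+* F) (ρ : F[X]) (hρσ : ρ.map σ = ρ) :
    AdjoinRoot ρ →+* AdjoinRoot ρ :=
  AdjoinRoot.lift ((AdjoinRoot.of ρ).comp σ) (AdjoinRoot.root ρ) (by
    rw [← Polynomial.eval₂_map, hρσ]
    exact AdjoinRoot.eval₂_root ρ)

theorem tau_mk (σ : F →+* F) (ρ : F[X]) (hρσ : ρ.map σ = ρ) (P : F[X]) :
    tau σ ρ hρσ (AdjoinRoot.mk ρ P) = AdjoinRoot.mk ρ (P.map σ) := by
  unfold tau
  rw [AdjoinRoot.lift_mk, ← Polynomial.eval₂_map]
  exact (AdjoinRoot.aeval_eq (P.map σ)) ▸ rfl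

end WFIELD

section wall

variable {F : Type*} [Field F] [Finite F] {σ : F →+* F}

-- piece WFIELD
theorem exists_norm_mod_irr (hσ : IsInvol σ) {ρ : F[X]} (hρ : Irreducible ρ) (hρm : ρ.Monic)
    (hρσ : ρ.map σ = ρ) (hρX : ρ ≠ X) : ∃ P : F[X], ρ ∣ P * P.map σ - X := by
  have : Fact (Irreducible ρ) := ⟨hρ⟩
  have : Module.Finite F (AdjoinRoot ρ) := (AdjoinRoot.powerBasis hρm.ne_zero).finite
  have : Finite (AdjoinRoot ρ) := Module.finite_of_finite F
  have hτ : IsInvol (WFIELD.tau σ ρ hρσ) := by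
    constructor
    · intro a
      obtain ⟨P, rfl⟩ := AdjoinRoot.mk_surjective a
      rw [WFIELD.tau_mk, WFIELD.tau_mk, Polynomial.map_map]
      have hσσ : σ.comp σ = RingHom.id F := RingHom.ext hσ.sq
      rw [hσσ, Polynomial.map_id]
    · intro h
      apply hσ.ne
      ext a
      have h1 := congrArg (fun φ : AdjoinRoot ρ →+* AdjoinRoot ρ => φ (AdjoinRoot.of ρ a)) h
      simp only [RingHom.id_apply] at h1
      have h2 : WFIELD.tau σ ρ hρσ (AdjoinRoot.of ρ a) = AdjoinRoot.of ρ (σ a) := by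
        rw [← AdjoinRoot.mk_C, WFIELD.tau_mk, Polynomial.map_C, AdjoinRoot.mk_C]
      rw [h2] at h1
      exact (AdjoinRoot.of ρ).injective h1
  have hroot_fixed : WFIELD.tau σ ρ hρσ (AdjoinRoot.root ρ) = AdjoinRoot.root ρ := by
    rw [← AdjoinRoot.mk_X, WFIELD.tau_mk, Polynomial.map_X]
  have hroot_ne : AdjoinRoot.root ρ ≠ 0 := by
    intro h
    rw [← AdjoinRoot.mk_X, AdjoinRoot.mk_eq_zero] at h
    apply hρX
    have hassoc : Associated ρ X := hρ.associated_of_dvd Polynomial.irreducible_X h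
    exact Polynomial.eq_of_monic_of_associated hρm Polynomial.monic_X hassoc
  obtain ⟨y, hy⟩ := norm_surj hτ hroot_fixed hroot_ne
  obtain ⟨P, rfl⟩ := AdjoinRoot.mk_surjective y
  refine ⟨P, ?_⟩
  rw [← AdjoinRoot.mk_eq_zero, map_sub, map_mul, ← WFIELD.tau_mk σ ρ hρσ, AdjoinRoot.mk_X, hy,
    sub_self]

end wall

end Cfsg.Agent.S2481P
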