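import Mathlib
import Cfsg.Agent.Helper14.S2481.Defs
import Cfsg.Agent.Helper22.S2481WMAIN

/-! S2481 piece WMAT (helper23): Wall's theorem, matrix glue. Unitary matrices conjugate in `GL`
are conjugate by a unitary matrix. -/

set_option autoImplicit false
set_option linter.unusedSectionVars false

namespace Cfsg.Agent.S2481P

open Polynomial DirectSum Matrix Cfsg.Agent.S2478P Cfsg.Agent.S2479P

namespace WMAT

variable {F : Type*} [Field F] {σ : F →+* F} {n : Type*} [Fintype n] [DecidableEq n]

theorem ct_ct (hσ : IsInvol σ) (M : Matrix n n F) : ct σ (ct σ M) = M := by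
  ext i j
  rw [ct_apply, ct_apply, hσ.sq]

theorem ct_add (σ : F →+* F) (A B : Matrix n n F) : ct σ (A + B) = ct σ A + ct σ B := by
  ext i j
  rw [Matrix.add_apply, ct_apply, ct_apply, ct_apply, Matrix.add_apply, map_add]

theorem ct_algebraMap (σ : F →+* F) (c : F) :
    ct σ (algebraMap F (Matrix n n F) c) = algebraMap F (Matrix n n F) (σ c) := by
  ext i j
  rw [ct_apply, Matrix.algebraMap_matrix_apply, Matrix.algebraMap_matrix_apply]
  by_cases h : i = j
  · subst h
    rw [if_pos rfl, if_pos rfl]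
    rfl
  · rw [if_neg h, if_neg (Ne.symm h), map_zero]

theorem ct_pow (σ : F →+* F) (M : Matrix n n F) (k : ℕ) : ct σ (M ^ k) = (ct σ M) ^ k := by
  induction k with
  | zero => rw [pow_zero, pow_zero, ct_one]
  | succ k ih => rw [pow_succ, ct_mul, ih, pow_succ']

theorem ct_aeval (σ : F →+* F) (M : Matrix n n F) (P : F[X]) :
    ct σ (aeval M P) = aeval (ct σ M) (P.map σ) := by
  induction P using Polynomial.induction_on' with
  | add p q hp hq => rw [map_add, ct_add, hp, hq, Polynomial.map_add, map_add]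
  | monomial k c =>
    rw [Polynomial.aeval_monomial, ct_mul, ct_pow, ct_algebraMap, Polynomial.map_monomial,
      Polynomial.aeval_monomial]
    exact (Algebra.commutes _ _).symm

theorem commute_aeval {M g : Matrix n n F} (h : Commute M g) (P : F[X]) :
    Commute (aeval M P) g := by
  induction P using Polynomial.induction_on' with
  | add p q hp hq =>
    rw [map_add]
    exact hp.add_left hq
  | monomial k c =>
    rw [Polynomial.aeval_monomial]
    exact (Algebra.commute_algebraMap_left c g).mul_left (h.pow_left k)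

end WMAT

section wall

variable {F : Type*} [Field F] [Finite F] {σ : F →+* F}

-- piece WMAT (matrix glue; uses WMAIN with `μ = charpoly (ct σ x * x)`)
theorem wall (hσ : IsInvol σ) {n : ℕ}
    (g g' x : Matrix (Fin n) (Fin n) F) (hg : IsU σ g) (hg' : IsU σ g') (hx : IsUnit x.det)
    (h : x * g = g' * x) : ∃ u : Matrix (Fin n) (Fin n) F, IsU σ u ∧ u * g = g' * u := by
  have hxd : x.det ≠ 0 := hx.ne_zero
  set a : Matrix (Fin n) (Fin n) F := ct σ x * x with ha
  -- `a` is Hermitian
  have ha_herm : ct σ a = a := by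
    rw [ha, ct_mul, WMAT.ct_ct hσ]
  -- `a` commutes with `g`
  have hcx : ct σ x * g' = g * ct σ x := by
    have h1 : ct σ g * ct σ x = ct σ x * ct σ g' := by
      rw [← ct_mul, ← ct_mul, h]
    calc ct σ x * g' = (g * ct σ g) * (ct σ x * g') := by rw [hg.mul_ct, Matrix.one_mul]
      _ = g * ((ct σ g * ct σ x) * g') := by simp only [Matrix.mul_assoc]
      _ = g * ((ct σ x * ct σ g') * g') := by rw [h1]
      _ = g * ct σ x * (ct σ g' * g') := by simp only [Matrix.mul_assoc]
      _ = g * ct σ x := by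
        have : ct σ g' * g' = 1 := hg'
        rw [this, Matrix.mul_one]
  have ha_comm : Commute a g := by
    unfold Commute SemiconjBy
    calc a * g = ct σ x * (x * g) := by rw [ha, Matrix.mul_assoc]
      _ = (ct σ x * g') * x := by rw [h, Matrix.mul_assoc]
      _ = g * a := by rw [hcx, ha, Matrix.mul_assoc]
  -- the characteristic polynomial of `a`
  have hdet_a : a.det ≠ 0 := by
    rw [ha, Matrix.det_mul, det_ct]
    exact mul_ne_zero ((map_ne_zero σ).mpr hxd) hxd
  have hμσ : a.charpoly.map σ = a.charpoly := by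
    have h1 : (ct σ a).charpoly = a.charpoly.map σ := by
      unfold ct
      rw [Matrix.charpoly_transpose, Matrix.charpoly_map]
    rw [← h1, ha_herm]
  have hμ0 : a.charpoly.coeff 0 ≠ 0 := by
    intro h0
    apply hdet_a
    rw [Matrix.det_eq_sign_charpoly_coeff, h0, mul_zero]
  obtain ⟨P, hP⟩ := poly_norm hσ a.charpoly hμσ hμ0
  set y : Matrix (Fin n) (Fin n) F := aeval a P with hy
  have hcty : ct σ y = aeval a (P.map σ) := by
    rw [hy, WMAT.ct_aeval, ha_herm]
  have hyy : ct σ y * y = a := by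
    obtain ⟨Q, hQ⟩ := hP
    have h1 : aeval a (P * P.map σ - X) = 0 := by
      rw [hQ, map_mul, Matrix.aeval_self_charpoly, zero_mul]
    rw [map_sub, map_mul, Polynomial.aeval_X, sub_eq_zero] at h1
    rw [hcty, hy]
    have h2 : aeval a (P.map σ) * aeval a P = aeval a P * aeval a (P.map σ) := by
      rw [← map_mul, ← map_mul, mul_comm]
    rw [h2, h1]
  have hydet : IsUnit y.det := by
    rw [isUnit_iff_ne_zero]
    intro h0
    apply hdet_a
    rw [← hyy, Matrix.det_mul, h0, mul_zero]
  have hy1 : y * y⁻¹ = 1 := Matrix.mul_nonsing_inv y hydet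
  have hy2 : y⁻¹ * y = 1 := Matrix.nonsing_inv_mul y hydet
  have hyg : Commute y g := WMAT.commute_aeval ha_comm P
  have hyig : y⁻¹ * g = g * y⁻¹ := by
    calc y⁻¹ * g = y⁻¹ * g * (y * y⁻¹) := by rw [hy1, Matrix.mul_one]
      _ = y⁻¹ * (g * y) * y⁻¹ := by simp only [Matrix.mul_assoc]
      _ = y⁻¹ * (y * g) * y⁻¹ := by rw [hyg.eq]
      _ = (y⁻¹ * y) * g * y⁻¹ := by simp only [Matrix.mul_assoc]
      _ = g * y⁻¹ := by rw [hy2, Matrix.one_mul]
  refine ⟨x * y⁻¹, ?_, ?_⟩
  · unfold IsU
    calc ct σ (x * y⁻¹) * (x * y⁻¹) = ct σ y⁻¹ * (ct σ x * x) * y⁻¹ := by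
          rw [ct_mul]
          simp only [Matrix.mul_assoc]
      _ = ct σ y⁻¹ * (ct σ y * y) * y⁻¹ := by rw [← ha, hyy]
      _ = (ct σ y⁻¹ * ct σ y) * (y * y⁻¹) := by simp only [Matrix.mul_assoc]
      _ = 1 := by rw [← ct_mul, hy1, ct_one, Matrix.one_mul]
  · calc x * y⁻¹ * g = x * (y⁻¹ * g) := by rw [Matrix.mul_assoc]
      _ = (x * g) * y⁻¹ := by rw [hyig, Matrix.mul_assoc]
      _ = g' * (x * y⁻¹) := by rw [h, Matrix.mul_assoc]

end wall

end Cfsg.Agent.S2481P
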