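import Mathlib
import Cfsg.Prelude.Def_LieClassical
import Cfsg.Agent.Helper7.S2481Defs

/-! S2481 chapter (R), piece RDUALROOT (helper23): roots of the dual polynomial. -/

set_option autoImplicit false

namespace Cfsg.Agent.S2481P

open Polynomial

namespace RDUALROOT

/-- if `φ : K → K'` is a ring homomorphism that is `σ` on `F` and `s ≠ 0` is a root of `P`, then
`(φ s)⁻¹` is a root of `pdual σ P` -/
theorem aeval_pdual {F K K' : Type*} [Field F] [Field K] [Algebra F K] [Field K'] [Algebra F K']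
    (σ : F →+* F) (φ : K →+* K')
    (hφ : ∀ c : F, φ (algebraMap F K c) = algebraMap F K' (σ c)) (P : F[X]) (s : K) (hs0 : s ≠ 0)
    (hs : aeval s P = 0) : aeval (φ s)⁻¹ (pdual σ P) = 0 := by
  have hφs : φ s ≠ 0 := (map_ne_zero φ).mpr hs0
  let _ : Invertible (φ s) := invertibleOfNonzero hφs
  have h1 : eval₂ (algebraMap F K') (φ s) (P.map σ) = 0 := by
    rw [Polynomial.eval₂_map]
    have hcomp : (algebraMap F K').comp σ = φ.comp (algebraMap F K) := by
      ext c
      simp only [RingHom.comp_apply]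
      exact (hφ c).symm
    rw [hcomp, ← Polynomial.hom_eval₂]
    have : eval₂ (algebraMap F K) s P = 0 := hs
    rw [this, map_zero]
  have h2 := (Polynomial.eval₂_reverse_eq_zero_iff (algebraMap F K') (φ s) (P.map σ)).mpr h1
  rw [invOf_eq_inv] at h2
  unfold pdual
  rw [map_mul, Polynomial.aeval_C]
  have : aeval (φ s)⁻¹ (P.map σ).reverse = 0 := h2
  rw [this, mul_zero]

/-- for the definition of the involution of `F[X]/(P)`, `P` self-dual: `(σ P)(s⁻¹) = 0` -/
theorem eval₂_inv {F K : Type*} [Field F] [Field K] [Algebra F K]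
    (σ : F →+* F) (_hσσ : ∀ x, σ (σ x) = x) (P : F[X]) (hP : P.Monic) (hsd : pdual σ P = P)
    (s : K) (hs : aeval s P = 0) :
    s ≠ 0 ∧ P.eval₂ ((algebraMap F K).comp σ) s⁻¹ = 0 := by
  have hP0 : P.coeff 0 ≠ 0 := by
    intro h0
    apply hP.ne_zero
    rw [← hsd]
    unfold pdual
    rw [h0, map_zero, inv_zero, map_zero, zero_mul]
  have hs0 : s ≠ 0 := by
    rintro rfl
    rw [← Polynomial.coeff_zero_eq_aeval_zero'] at hs
    exact hP0 ((map_eq_zero (algebraMap F K)).mp hs)
  refine ⟨hs0, ?_⟩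
  have hc : (σ (P.coeff 0))⁻¹ ≠ 0 := inv_ne_zero ((map_ne_zero σ).mpr hP0)
  have h1 : aeval s (P.map σ).reverse = 0 := by
    have h2 : aeval s (pdual σ P) = 0 := by rw [hsd]; exact hs
    unfold pdual at h2
    rw [map_mul, Polynomial.aeval_C] at h2
    rcases mul_eq_zero.mp h2 with h3 | h3
    · exact absurd ((map_eq_zero (algebraMap F K)).mp h3) hc
    · exact h3
  have hsi : s⁻¹ ≠ 0 := inv_ne_zero hs0
  let _ : Invertible (s⁻¹) := invertibleOfNonzero hsi
  have h4 := (Polynomial.eval₂_reverse_eq_zero_iff (algebraMap F K) (s⁻¹) (P.map σ))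
  rw [invOf_eq_inv, inv_inv] at h4
  have h5 : eval₂ (algebraMap F K) s⁻¹ (P.map σ) = 0 := h4.mp h1
  rw [Polynomial.eval₂_map] at h5
  exact h5

end RDUALROOT

end Cfsg.Agent.S2481P
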