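import Mathlib
import Cfsg.Prelude.Def_LieClassical
import Cfsg.Agent.Helper13.S2263Defs

/-! S2481 chapter (R), piece RSDFORM (helper23): the Hermitian trace form `Tr(x τ(y))` of a finite
field with an involution `τ` extending `σ`. -/

set_option autoImplicit false

namespace Cfsg.Agent.S2481P

open Polynomial Cfsg.Agent.S2263P

namespace RSDFORM

/-- the trace commutes with `τ` / `σ` -/
theorem trace_tau {F K : Type*} [Field F] [Fintype F] [Field K] [Algebra F K] [Finite K]
    (σ : F →+* F) (τ : K →+* K)
    (hτF : ∀ c : F, τ (algebraMap F K c) = algebraMap F K (σ c)) (z : K) :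
    Algebra.trace F K (τ z) = σ (Algebra.trace F K z) := by
  apply (algebraMap F K).injective
  rw [← hτF, FiniteField.algebraMap_trace_eq_sum_pow, FiniteField.algebraMap_trace_eq_sum_pow,
    map_sum]
  refine Finset.sum_congr rfl (fun i _ => ?_)
  rw [map_pow]

theorem isHerm_trace {F K : Type*} [Field F] [Fintype F] [Field K] [Algebra F K] [Finite K]
    (σ : F →+* F) (τ : K →+* K)
    (hτF : ∀ c : F, τ (algebraMap F K c) = algebraMap F K (σ c)) (hττ : ∀ x, τ (τ x) = x) :
    IsHerm σ (fun x y : K => Algebra.trace F K (x * τ y)) := by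
  refine ⟨?_, ?_, ?_, ?_⟩
  · intro u u' v
    simp only [add_mul, map_add]
  · intro c u v
    change Algebra.trace F K (c • u * τ v) = c * Algebra.trace F K (u * τ v)
    rw [smul_mul_assoc, map_smul, smul_eq_mul]
  · intro u v
    rw [← trace_tau σ τ hτF, RingHom.map_mul, hττ, mul_comm]
  · intro u hu
    apply (traceForm_nondegenerate F K).1 u
    intro y
    rw [Algebra.traceForm_apply]
    have := hu (τ y)
    simp only [hττ] at this
    exact this

end RSDFORM

end Cfsg.Agent.S2481P
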