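import Mathlib
import Cfsg.Prelude.Def_JComponents
import Cfsg.Prelude.Def_Involutions
import Cfsg.Agent.Helper5.S2951Defs

/-! # S2951 board, piece SYLGE (blueprint §1 P4) -/

set_option autoImplicit false

universe u

namespace Cfsg.Agent.S2951P

open Cfsg Subgroup Cfsg.Agent.Helper15.JComp

variable {G : Type u} [Group G] [Finite G]

theorem SYLGE (S : Sylow 2 G) {M T : Subgroup G}
    (hMJ : normalizer ((thompsonSubgroupOf 2 (S : Subgroup G) : Subgroup G) : Set G) ≤ M)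
    (hT2 : IsPGroup 2 ↥T) (hTM : T ≤ M) :
    ∃ S' : Sylow 2 G, T ≤ (S' : Subgroup G) ∧ (S' : Subgroup G) ≤ M ∧
      normalizer ((thompsonSubgroupOf 2 (S' : Subgroup G) : Subgroup G) : Set G) ≤ M := by
  have : Fact (Nat.Prime 2) := ⟨Nat.prime_two⟩
  have hSM : (S : Subgroup G) ≤ M := (le_normalizer_thompsonSubgroupOf 2 _).trans hMJ
  have hTp : IsPGroup 2 ↥(T.subgroupOf M) := hT2.comap_subtype
  obtain ⟨Q, hQ⟩ := hTp.exists_le_sylow
  obtain ⟨n, hn⟩ := MulAction.exists_smul_eq ↥M (S.subtype hSM) Q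
  rw [Sylow.smul_subtype hSM n] at hn
  refine ⟨n • S, ?_, Sylow.smul_le hSM n, ?_⟩
  · intro t ht
    have h1 : (⟨t, hTM ht⟩ : ↥M) ∈ (Q : Subgroup ↥M) := hQ (mem_subgroupOf.mpr ht)
    rw [← hn, Sylow.coe_subtype, mem_subgroupOf] at h1
    exact h1
  · have hcoe : ((n • S : Sylow 2 G) : Subgroup G) =
        (S : Subgroup G).map (MulAut.conj (n : G)).toMonoidHom := rfl
    rw [hcoe, thompsonSubgroupOf_map (MulAut.conj (n : G)).injective,
      ← Subgroup.map_equiv_normalizer_eq]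
    rintro x ⟨y, hy, rfl⟩
    have hyM : y ∈ M := hMJ hy
    change (n : G) * y * (n : G)⁻¹ ∈ M
    exact M.mul_mem (M.mul_mem n.2 hyM) (M.inv_mem n.2)

end Cfsg.Agent.S2951P
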