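import Mathlib
import Cfsg.Agent.Helper10.PGroupBasic

/-! # S3174, piece NORMK: a normal subgroup of order at most `p^k` of a finite `p`-group lies in `Z_k`. -/

set_option autoImplicit false

namespace Cfsg.Agent.S3174P

open scoped commutatorElement

universe u

theorem NORMK_aux {p : ℕ} [hp : Fact p.Prime] : ∀ (k : ℕ) (G : Type u) [Group G] [Finite G], IsPGroup p G →
    ∀ (N : Subgroup G), N.Normal → Nat.card ↥N ≤ p ^ k → N ≤ Subgroup.upperCentralSeries G k := by
  intro k
  induction k with
  | zero =>
    intro G _ _ hG N hNn hN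
    have : N = ⊥ := (Subgroup.card_le_one_iff_eq_bot N).mp (by simpa using hN)
    rw [this]; exact bot_le
  | succ k ih =>
    intro G _ _ hG N hNn hN
    by_cases hbot : N = ⊥
    · rw [hbot]; exact bot_le
    obtain ⟨z, hzN, hz1, hzZ⟩ := Helper10.exists_ne_one_mem_inf_center hG N hbot
    have hNbar : (N.map (QuotientGroup.mk' (Subgroup.center G))).Normal :=
      hNn.map _ (QuotientGroup.mk'_surjective _)
    have hdvd : Nat.card ↥(N.map (QuotientGroup.mk' (Subgroup.center G))) ∣ Nat.card ↥N :=
      Subgroup.card_map_dvd _ _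
    have hne : Nat.card ↥(N.map (QuotientGroup.mk' (Subgroup.center G))) ≠ Nat.card ↥N := by
      intro heq
      have hsurj := MonoidHom.subgroupMap_surjective (QuotientGroup.mk' (Subgroup.center G)) N
      have hbij := hsurj.bijective_of_nat_card_le (le_of_eq heq.symm)
      have h1 : (QuotientGroup.mk' (Subgroup.center G)).subgroupMap N ⟨z, hzN⟩ =
          (QuotientGroup.mk' (Subgroup.center G)).subgroupMap N 1 := by
        rw [map_one]
        apply Subtype.ext
        simp only [MonoidHom.subgroupMap_apply_coe, QuotientGroup.mk'_apply, OneMemClass.coe_one]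
        rw [QuotientGroup.eq_one_iff]
        exact hzZ
      have h2 := hbij.1 h1
      exact hz1 (congrArg Subtype.val h2)
    obtain ⟨j, hj⟩ := IsPGroup.iff_card.mp (hG.to_subgroup N)
    rw [hj] at hdvd hne hN
    obtain ⟨i, hij, hi⟩ := (Nat.dvd_prime_pow hp.out).mp hdvd
    have hjk : j ≤ k + 1 := (Nat.pow_le_pow_iff_right hp.out.one_lt).mp hN
    have hilt : i < j := by
      rcases Nat.lt_or_ge i j with h | h
      · exact h
      · exfalso
        have : i = j := le_antisymm hij h
        rw [hi, this] at hne
        exact hne rfl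
    have hcard : Nat.card ↥(N.map (QuotientGroup.mk' (Subgroup.center G))) ≤ p ^ k := by
      rw [hi]
      exact Nat.pow_le_pow_right hp.out.pos (by omega)
    have h1 := ih (G ⧸ Subgroup.center G) (hG.to_quotient _) _ hNbar hcard
    intro x hx
    have h2 : (QuotientGroup.mk' (Subgroup.center G)) x ∈
        Subgroup.upperCentralSeries (G ⧸ Subgroup.center G) k := h1 (Subgroup.mem_map_of_mem _ hx)
    rw [← Subgroup.comap_upperCentralSeries_quotient_center]
    exact h2

/-- NORMK: a normal subgroup of order at most `p^k` of a finite `p`-group lies in `Z_k`. -/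
theorem normal_le_ucs {G : Type*} [Group G] [Finite G] {p : ℕ} [Fact p.Prime] (hG : IsPGroup p G)
    (N : Subgroup G) [N.Normal] (k : ℕ) (hN : Nat.card ↥N ≤ p ^ k) :
    N ≤ Subgroup.upperCentralSeries G k :=
  NORMK_aux k G hG N inferInstance hN

end Cfsg.Agent.S3174P
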