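import Mathlib
import Cfsg.Prelude.Def_GeometricClasses

set_option autoImplicit false

/-! # S5958, piece FREEACT: `t!` divides the number of ordered decompositions. -/

namespace Cfsg.Agent.Helper23.S5958FREEACT

/-- the order of a group acting freely divides the size of the set -/
theorem card_dvd_of_free {G X : Type*} [Group G] [MulAction G X]
    (hfree : ∀ (g : G) (x : X), g • x = x → g = 1) : Nat.card G ∣ Nat.card X := by
  have hstab : ∀ x : X, MulAction.stabilizer G x = ⊥ := by
    intro x
    rw [eq_bot_iff]
    intro g hg
    rw [Subgroup.mem_bot]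
    exact hfree g x (MulAction.mem_stabilizer_iff.mp hg)
  have e := MulAction.selfEquivSigmaOrbitsQuotientStabilizer' G X (φ := Quotient.out)
    Quotient.out_eq'
  have e2 : ((ω : Quotient (MulAction.orbitRel G X)) × G ⧸ MulAction.stabilizer G (Quotient.out ω)) ≃
      Quotient (MulAction.orbitRel G X) × G :=
    (Equiv.sigmaCongrRight fun ω =>
      (Subgroup.quotientEquivOfEq (hstab (Quotient.out ω))).trans
        QuotientGroup.quotientBot.toEquiv).trans (Equiv.sigmaEquivProd _ _)
  rw [Nat.card_congr (e.trans e2), Nat.card_prod]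
  exact Dvd.intro_left _ rfl

variable {F : Type*} [Field F] {ι : Type}

/-- permuting the members of a decomposition -/
theorem isMDecomposition_comp {t a : ℕ} {D : Fin t → Submodule F (ι → F)}
    (hD : Cfsg.Geo.IsMDecomposition a D) (π : Equiv.Perm (Fin t)) :
    Cfsg.Geo.IsMDecomposition a (D ∘ π) where
  two_le := hD.two_le
  pos := hD.pos
  finrank_eq := fun i => hD.finrank_eq (π i)
  indep := hD.indep.comp π.injective
  iSup_eq_top := by
    rw [← hD.iSup_eq_top]
    exact Equiv.iSup_comp (g := D) π

theorem injective_of_isMDecomposition {t a : ℕ} {D : Fin t → Submodule F (ι → F)}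
    (hD : Cfsg.Geo.IsMDecomposition a D) : Function.Injective D := by
  apply hD.indep.injective
  intro i hi
  have h1 := hD.finrank_eq i
  rw [hi, finrank_bot] at h1
  exact (Nat.ne_of_gt hD.pos) h1.symm

end Cfsg.Agent.Helper23.S5958FREEACT

namespace Cfsg.Agent.S5958P

open Cfsg.Agent.Helper23.S5958FREEACT

/-- FREEACT -/
theorem factorial_dvd_card_decomp {F : Type*} [Field F] [Fintype F] (n a t : ℕ) :
    t.factorial ∣
      Nat.card {D : Fin t → Submodule F (Fin n → F) // Cfsg.Geo.IsMDecomposition a D} := by
  classical
  letI act : MulAction (Equiv.Perm (Fin t))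
      {D : Fin t → Submodule F (Fin n → F) // Cfsg.Geo.IsMDecomposition a D} :=
    { smul := fun π D => ⟨D.1 ∘ π.symm, isMDecomposition_comp D.2 π.symm⟩
      one_smul := fun D => by
        apply Subtype.ext
        rfl
      mul_smul := fun π₁ π₂ D => by
        apply Subtype.ext
        rfl }
  have hfree : ∀ (π : Equiv.Perm (Fin t))
      (D : {D : Fin t → Submodule F (Fin n → F) // Cfsg.Geo.IsMDecomposition a D}),
      π • D = D → π = 1 := by
    intro π D h
    have h1 : D.1 ∘ π.symm = D.1 := congrArg Subtype.val h
    have hinj := injective_of_isMDecomposition D.2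
    ext i
    have h2 := congrFun h1 (π i)
    simp only [Function.comp_apply, Equiv.symm_apply_apply] at h2
    have h3 : i = π i := hinj h2
    rw [Equiv.Perm.one_apply]
    exact congrArg Fin.val h3.symm
  have := card_dvd_of_free hfree
  rwa [Nat.card_eq_fintype_card, Fintype.card_perm, Fintype.card_fin] at this

end Cfsg.Agent.S5958P
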