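import Mathlib
import Cfsg.Prelude.Def_GeometricClasses
import Cfsg.Prelude.Def_ClassicalGeometry
import Cfsg.Agent.Helper23.S5958FREEACT

set_option autoImplicit false

/-! # S5961, pieces FREEACTSP and SCALAR. -/

namespace Cfsg.Agent.S5961P

open Cfsg.Agent.Helper23.S5958FREEACT

/-- FREEACTSP -/
theorem factorial_dvd_card_decomp_sp {F : Type*} [Field F] [Fintype F] (d a t : ℕ) :
    t.factorial ∣ Nat.card {D : Fin t → Submodule F (Fin d ⊕ Fin d → F) //
      (Cfsg.Geo.IsMDecomposition a D ∧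
        (∀ j, ∀ u ∈ D j, u ≠ 0 → ∃ v ∈ D j, Cfsg.sympForm d F u v ≠ 0) ∧
        (∀ j j', j ≠ j' → ∀ u ∈ D j, ∀ v ∈ D j', Cfsg.sympForm d F u v = 0))} := by
  classical
  let act : MulAction (Equiv.Perm (Fin t))
      {D : Fin t → Submodule F (Fin d ⊕ Fin d → F) //
      (Cfsg.Geo.IsMDecomposition a D ∧
        (∀ j, ∀ u ∈ D j, u ≠ 0 → ∃ v ∈ D j, Cfsg.sympForm d F u v ≠ 0) ∧
        (∀ j j', j ≠ j' → ∀ u ∈ D j, ∀ v ∈ D j', Cfsg.sympForm d F u v = 0))} :=
    { smul := fun π D => ⟨D.1 ∘ π.symm, isMDecomposition_comp D.2.1 π.symm,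
        fun j => D.2.2.1 (π.symm j),
        fun j j' hjj' => D.2.2.2 (π.symm j) (π.symm j') (fun h => hjj' (π.symm.injective h))⟩
      one_smul := fun D => by
        apply Subtype.ext
        rfl
      mul_smul := fun π₁ π₂ D => by
        apply Subtype.ext
        rfl }
  have hfree : ∀ (π : Equiv.Perm (Fin t))
      (D : {D : Fin t → Submodule F (Fin d ⊕ Fin d → F) //
      (Cfsg.Geo.IsMDecomposition a D ∧
        (∀ j, ∀ u ∈ D j, u ≠ 0 → ∃ v ∈ D j, Cfsg.sympForm d F u v ≠ 0) ∧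
        (∀ j j', j ≠ j' → ∀ u ∈ D j, ∀ v ∈ D j', Cfsg.sympForm d F u v = 0))}),
      π • D = D → π = 1 := by
    intro π D h
    have h1 : D.1 ∘ π.symm = D.1 := congrArg Subtype.val h
    have hinj := injective_of_isMDecomposition D.2.1
    ext i
    have h2 := congrFun h1 (π i)
    simp only [Function.comp_apply, Equiv.symm_apply_apply] at h2
    have h3 : i = π i := hinj h2
    rw [Equiv.Perm.one_apply]
    exact congrArg Fin.val h3.symm
  have := card_dvd_of_free hfree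
  rwa [Nat.card_eq_fintype_card, Fintype.card_perm, Fintype.card_fin] at this

/-- SCALAR: scalar symplectic matrices are `± 1` -/
theorem scalar_sq_eq_one {F : Type*} [Field F] (d : ℕ) (hd : 1 ≤ d) (z : F)
    (h : z • (1 : Matrix (Fin d ⊕ Fin d) (Fin d ⊕ Fin d) F) ∈ Matrix.symplecticGroup (Fin d) F) :
    z * z = 1 := by
  rw [SymplecticGroup.mem_iff] at h
  have h1 := congrFun (congrFun h (Sum.inl ⟨0, hd⟩)) (Sum.inr ⟨0, hd⟩)
  simp only [Matrix.transpose_smul, Matrix.transpose_one, Matrix.smul_mul, Matrix.mul_smul,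
    Matrix.one_mul, Matrix.mul_one, Matrix.smul_apply, smul_eq_mul] at h1
  have hJ : Matrix.J (Fin d) F (Sum.inl ⟨0, hd⟩) (Sum.inr ⟨0, hd⟩) = -1 := by
    simp [Matrix.J]
  rw [hJ] at h1
  linear_combination -h1

end Cfsg.Agent.S5961P
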