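import Mathlib
import Cfsg.Agent.Helper4.SU3Defs
set_option autoImplicit false

/-!
# S2283 piece NTA: the subring generated by an element of a finite field
-/

namespace Cfsg.Agent.Helper23.SU3G
open Matrix Cfsg.Agent.S2644 Cfsg.Agent.Helper2.SUGen Cfsg.Agent.Helper4.SU3G
variable {K : Type*} [Field K] {q : ℕ}

/-- In a finite field every subring is closed under inverses. -/
theorem nta_inv_mem [Fintype K] (S : Subring K) {y : K} (hy : y ∈ S) : y⁻¹ ∈ S := by
  classical
  by_cases h0 : y = 0
  · rw [h0, _root_.inv_zero]; exact S.zero_mem
  · have h1 := FiniteField.pow_card_sub_one_eq_one y h0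
    have hcard : 2 ≤ Fintype.card K := Fintype.one_lt_card
    have h2 : y⁻¹ = y ^ (Fintype.card K - 2) := by
      apply inv_eq_of_mul_eq_one_right
      rw [← pow_succ']
      have : Fintype.card K - 2 + 1 = Fintype.card K - 1 := by omega
      rw [this, h1]
    rw [h2]
    exact S.pow_mem hy _

theorem closure_singleton_eq_top [Fintype K] (x : K)
    (hx : ∀ r k : ℕ, r ^ k = Fintype.card K → 2 ≤ k → x ^ r ≠ x) : Subring.closure {x} = ⊤ := by
  classical
  let F : Subfield K :=
    { Subring.closure {x} with
      inv_mem' := fun y hy => nta_inv_mem (Subring.closure {x}) hy }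
  have hFmem : ∀ y : K, y ∈ F ↔ y ∈ Subring.closure {x} := fun y => Iff.rfl
  have hxF : x ∈ F := (hFmem x).mpr (Subring.subset_closure rfl)
  have : Fintype F := Fintype.ofFinite F
  have hcard : Fintype.card K = Fintype.card F ^ Module.finrank F K :=
    Module.card_eq_pow_finrank (K := F) (V := K)
  have hpow : x ^ Fintype.card F = x := by
    have h1 := FiniteField.pow_card (⟨x, hxF⟩ : F)
    have h2 := congrArg (Subtype.val : F → K) h1
    simpa using h2
  have hk : Module.finrank F K < 2 := by
    by_contra hcon
    push Not at hcon
    exact hx (Fintype.card F) (Module.finrank F K) hcard.symm hcon hpow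
  have hkpos : 0 < Module.finrank F K := Module.finrank_pos
  have hk1 : Module.finrank F K = 1 := by omega
  rw [hk1, pow_one] at hcard
  -- F has as many elements as K, so it is everything
  rw [eq_top_iff]
  intro y _
  rw [← hFmem]
  have hsurj : Function.Surjective (Subtype.val : F → K) := by
    have hinj : Function.Injective (Subtype.val : F → K) := Subtype.val_injective
    exact (Fintype.bijective_iff_injective_and_card _).mpr ⟨hinj, hcard.symm⟩ |>.2
  obtain ⟨z, hz⟩ := hsurj y
  rw [← hz]
  exact z.2

end Cfsg.Agent.Helper23.SU3G
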