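import Mathlib
import Cfsg.Agent.Helper2.S2099.DefsR
import Cfsg.Agent.Helper16.S2099CONJSLQ
import Cfsg.Agent.Helper16.S2099CONJSS1Q

set_option autoImplicit false
set_option linter.unusedSectionVars false
set_option linter.unusedVariables false

/-! S2099 piece CONJSS2Q (driver helper2; helper23): a short Weyl element `wY Q0 Ys a w` conjugating
the short root elements `Ys a u`, `Ys (ng a) u` (uses CONJSLQ + CONJSS1Q). -/

namespace Cfsg.Agent.S2099P

open Matrix Cfsg.Agent.S3352P Cfsg.Agent.S3351P Cfsg.Agent.S2096P Cfsg.Agent.RGD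
open Cfsg.Agent.S2094P (RB RootB sc NgEquivariant mapB reflB MD XD XD_coe isRoot_ng_right'
  isRoot_ng_left' sw_ngEquivariant sc_ngEquivariant)

variable {n : ℕ} {F : Type*} [Field F] {P : Type*} [AddCommGroup P] [Module F P]
  {M : Type*} [Group M] {Q0 : QuadraticForm F P} {X : J n → J n → F → M} {Ys : J n → P → M}

namespace CONJSS2Q

/-- for `n ≥ 2` every signed index is the first index of a root -/
theorem exists_isRoot (hn : 2 ≤ n) (a : J n) : ∃ b : J n, IsRoot a b := by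
  obtain ⟨i, rfl | rfl⟩ : ∃ i : Fin n, a = Sum.inl i ∨ a = Sum.inr i := by
    cases a with
    | inl i => exact ⟨i, Or.inl rfl⟩
    | inr i => exact ⟨i, Or.inr rfl⟩
  · obtain ⟨j, hj⟩ : ∃ j : Fin n, j ≠ i := by
      by_cases h0 : i.val = 0
      · exact ⟨⟨1, by omega⟩, fun h => by have := congrArg Fin.val h; simp at this; omega⟩
      · exact ⟨⟨0, by omega⟩, fun h => by have := congrArg Fin.val h; simp at this; omega⟩
    refine ⟨Sum.inl j, ?_, ?_⟩
    · intro h; exact hj (Sum.inl_injective h).symm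
    · intro h; simp at h
  · obtain ⟨j, hj⟩ : ∃ j : Fin n, j ≠ i := by
      by_cases h0 : i.val = 0
      · exact ⟨⟨1, by omega⟩, fun h => by have := congrArg Fin.val h; simp at this; omega⟩
      · exact ⟨⟨0, by omega⟩, fun h => by have := congrArg Fin.val h; simp at this; omega⟩
    refine ⟨Sum.inl j, ?_, ?_⟩
    · intro h; simp at h
    · intro h
      rw [ng_inl] at h
      exact hj (Sum.inr_injective h).symm

/-- conjugation distributes over `cm` -/
theorem conj_cm (w x y : M) : w * cm x y * w⁻¹ = cm (w * x * w⁻¹) (w * y * w⁻¹) := by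
  simp only [cm_def]
  group

/-- conjugation distributes over `x * y⁻¹` -/
theorem conj_mul_inv (w x y : M) : w * (x * y⁻¹) * w⁻¹ = (w * x * w⁻¹) * (w * y * w⁻¹)⁻¹ := by
  group

/-- a short root element as a commutator (from `xy`) -/
theorem Ys_eq_cm (hB : QRel Q0 X Ys) {a b : J n} (hab : IsRoot a b) (u : P) :
    Ys a u = cm (X a b 1) (Ys b u) * (X a (ng b) (Q0 u))⁻¹ := by
  have h := hB.xy a b hab 1 u
  rw [one_smul, one_mul] at h
  rw [h, mul_inv_cancel_right]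

end CONJSS2Q

open CONJSS2Q

/-- CONJSS2Q -/
theorem wY_conj_Ys_self (hn : 3 ≤ n) (hB : QRel Q0 X Ys) (a : J n) {w : P} (hw : Q0 w ≠ 0)
    (u : P) :
    wY Q0 Ys a w * Ys a u * (wY Q0 Ys a w)⁻¹ = Ys (ng a) (-((Q0 w)⁻¹ • rfl0 Q0 w u)) := by
  obtain ⟨b, hab⟩ := exists_isRoot (by omega : 2 ≤ n) a
  have hab' : IsRoot a (ng b) := isRoot_ng_right' hab
  have hnab : IsRoot (ng a) b := isRoot_ng_left' hab
  rw [Ys_eq_cm hB hab u, conj_mul_inv]
  rw [conj_cm, wY_conj_X_fst hB hab hw, wY_conj_Ys_of_ne hB hab hw, wY_conj_X_fst hB hab' hw]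
  rw [hB.xy (ng a) b hnab, Q0_rfl0 w u hw]
  have e1 : -((Q0 w)⁻¹ * 1) * Q0 u = -((Q0 w)⁻¹ * Q0 u) := by ring
  have e2 : (-((Q0 w)⁻¹ * 1)) • rfl0 Q0 w u = -((Q0 w)⁻¹ • rfl0 Q0 w u) := by
    rw [mul_one, neg_smul]
  rw [e1, e2, mul_inv_cancel_right]

theorem wY_conj_Ys_ng (hn : 3 ≤ n) (hB : QRel Q0 X Ys) (a : J n) {w : P} (hw : Q0 w ≠ 0)
    (u : P) :
    wY Q0 Ys a w * Ys (ng a) u * (wY Q0 Ys a w)⁻¹ = Ys a (-(Q0 w • rfl0 Q0 w u)) := by
  obtain ⟨b, hab⟩ := exists_isRoot (by omega : 2 ≤ n) a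
  have hab' : IsRoot a (ng b) := isRoot_ng_right' hab
  have hnab : IsRoot (ng a) b := isRoot_ng_left' hab
  rw [Ys_eq_cm hB hnab u, conj_mul_inv]
  rw [conj_cm, wY_conj_X_ng_fst hB hab hw, wY_conj_Ys_of_ne hB hab hw,
    wY_conj_X_ng_fst hB hab' hw]
  rw [hB.xy a b hab, Q0_rfl0 w u hw]
  have e1 : -(Q0 w * 1) * Q0 u = -(Q0 w * Q0 u) := by ring
  have e2 : (-(Q0 w * 1)) • rfl0 Q0 w u = -(Q0 w • rfl0 Q0 w u) := by
    rw [mul_one, neg_smul]
  rw [e1, e2, mul_inv_cancel_right]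

end Cfsg.Agent.S2099P
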