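import Mathlib
import Cfsg.Agent.Helper2.S2099.DefsR

set_option autoImplicit false
set_option linter.unusedSectionVars false
set_option linter.unusedVariables false

/-! S2099 piece WYIDQ, first half (driver helper2; helper23): the inverse of a short Weyl element
(formal; no other piece needed). -/

namespace Cfsg.Agent.S2099P

open Matrix Cfsg.Agent.S3352P Cfsg.Agent.S3351P Cfsg.Agent.S2096P Cfsg.Agent.RGD
open Cfsg.Agent.S2094P (RB RootB sc NgEquivariant mapB reflB MD XD XD_coe isRoot_ng_right'
  isRoot_ng_left' sw_ngEquivariant sc_ngEquivariant)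

variable {n : ℕ} {F : Type*} [Field F] {P : Type*} [AddCommGroup P] [Module F P]
  {M : Type*} [Group M] {Q0 : QuadraticForm F P} {X : J n → J n → F → M} {Ys : J n → P → M}

theorem wY_inv' (hB : QRel Q0 X Ys) (a : J n) (w : P) :
    (wY Q0 Ys a w)⁻¹ = wY Q0 Ys a (-w) := by
  unfold wY
  rw [_root_.mul_inv_rev, _root_.mul_inv_rev, Ys_inv hB, Ys_inv hB, QuadraticMap.map_neg, smul_neg,
    mul_assoc]

end Cfsg.Agent.S2099P
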