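import Mathlib
import Cfsg.Agent.Helper2.S2099.DefsR
import Cfsg.Agent.Helper23.S2099CONJSS2Q
import Cfsg.Agent.Helper23.S2099WYINVQ

set_option autoImplicit false
set_option linter.unusedSectionVars false
set_option linter.unusedVariables false

/-! S2099 piece WYIDQ (driver helper2; helper23): rank one identities of the short roots. -/

namespace Cfsg.Agent.S2099P

open Matrix Cfsg.Agent.S3352P Cfsg.Agent.S3351P Cfsg.Agent.S2096P Cfsg.Agent.RGD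
open Cfsg.Agent.S2094P (RB RootB sc NgEquivariant mapB reflB MD XD XD_coe isRoot_ng_right'
  isRoot_ng_left' sw_ngEquivariant sc_ngEquivariant)

variable {n : ℕ} {F : Type*} [Field F] {P : Type*} [AddCommGroup P] [Module F P]
  {M : Type*} [Group M] {Q0 : QuadraticForm F P} {X : J n → J n → F → M} {Ys : J n → P → M}

namespace WYIDQ

/-- conjugation distributes over a triple product -/
theorem conj_mul3 (w x y z : M) :
    w * (x * y * z) * w⁻¹ = (w * x * w⁻¹) * (w * y * w⁻¹) * (w * z * w⁻¹) := by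
  group

/-- the reflection in `v` negates the multiples of `v` -/
theorem rfl0_smul_self {v : P} (hv : Q0 v ≠ 0) (s : F) : rfl0 Q0 v (s • v) = -(s • v) := by
  unfold rfl0
  rw [QuadraticMap.polar_smul_left, QuadraticMap.polar_self, smul_eq_mul]
  have e : s * (2 • Q0 v) * (Q0 v)⁻¹ = 2 * s := by
    rw [two_nsmul]
    field_simp
    ring
  rw [e]
  module

end WYIDQ

theorem wY_swap (hn : 3 ≤ n) (hB : QRel Q0 X Ys) (a : J n) {w : P} (hw : Q0 w ≠ 0) :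
    wY Q0 Ys (ng a) w = wY Q0 Ys a ((Q0 w)⁻¹ • w) := by
  have hqi : (Q0 w)⁻¹ ≠ 0 := inv_ne_zero hw
  have hQv : Q0 ((Q0 w)⁻¹ • w) = (Q0 w)⁻¹ := by
    rw [QuadraticMap.map_smul, smul_eq_mul, mul_assoc, inv_mul_cancel₀ hw, mul_one]
  have hv : Q0 ((Q0 w)⁻¹ • w) ≠ 0 := by
    rw [hQv]
    exact hqi
  have hback : (Q0 ((Q0 w)⁻¹ • w))⁻¹ • ((Q0 w)⁻¹ • w) = w := by
    rw [hQv, inv_inv, smul_smul, mul_inv_cancel₀ hw, one_smul]
  have hw' : w = Q0 w • ((Q0 w)⁻¹ • w) := by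
    rw [smul_smul, mul_inv_cancel₀ hw, one_smul]
  -- the two conjugates
  have c1 : wY Q0 Ys a ((Q0 w)⁻¹ • w) * Ys a ((Q0 w)⁻¹ • w) * (wY Q0 Ys a ((Q0 w)⁻¹ • w))⁻¹ =
      Ys (ng a) w := by
    rw [wY_conj_Ys_self hn hB a hv]
    congr 1
    have h1 := WYIDQ.rfl0_smul_self hv (1 : F)
    rw [one_smul] at h1
    rw [h1, smul_neg, neg_neg, hback]
  have c2 : wY Q0 Ys a ((Q0 w)⁻¹ • w) * Ys (ng a) w * (wY Q0 Ys a ((Q0 w)⁻¹ • w))⁻¹ =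
      Ys a ((Q0 w)⁻¹ • w) := by
    rw [wY_conj_Ys_ng hn hB a hv]
    congr 1
    have h1 := WYIDQ.rfl0_smul_self hv (Q0 w)
    rw [← hw'] at h1
    rw [h1, smul_neg, neg_neg, hQv]
  have h1 : wY Q0 Ys a ((Q0 w)⁻¹ • w) * wY Q0 Ys a ((Q0 w)⁻¹ • w) *
      (wY Q0 Ys a ((Q0 w)⁻¹ • w))⁻¹ = wY Q0 Ys a ((Q0 w)⁻¹ • w) := mul_inv_cancel_right _ _
  have h2 : wY Q0 Ys a ((Q0 w)⁻¹ • w) =
      Ys a ((Q0 w)⁻¹ • w) * Ys (ng a) w * Ys a ((Q0 w)⁻¹ • w) := by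
    unfold wY
    rw [hback]
  have h3 : wY Q0 Ys a ((Q0 w)⁻¹ • w) *
      (Ys a ((Q0 w)⁻¹ • w) * Ys (ng a) w * Ys a ((Q0 w)⁻¹ • w)) *
      (wY Q0 Ys a ((Q0 w)⁻¹ • w))⁻¹ = wY Q0 Ys a ((Q0 w)⁻¹ • w) := by
    rw [← h2]
    exact h1
  rw [WYIDQ.conj_mul3, c1, c2] at h3
  rw [← h3]
  unfold wY
  rw [ng_ng]

end Cfsg.Agent.S2099P
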