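import Mathlib
import Cfsg.Agent.Helper2.S2099.DefsR
import Cfsg.Agent.Helper2.S2099.DefsN
import Cfsg.Agent.Helper19.S2099CONJLSQ
import Cfsg.Agent.Helper16.S2099CONJSLQ
import Cfsg.Agent.Helper16.S2099CONJSS1Q
import Cfsg.Agent.Helper23.S2099CONJSS2Q
import Cfsg.Agent.Helper23.S2099WYIDQ

set_option autoImplicit false
set_option linter.unusedSectionVars false
set_option linter.unusedVariables false

/-! S2099 chapter N, piece WCONJWQ (helper23; driver helper2): Weyl elements conjugated by Weyl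
elements. Port of S2094 WCONJWB. -/

namespace Cfsg.Agent.S2099P

open Matrix Cfsg.Agent.S3352P Cfsg.Agent.S3351P Cfsg.Agent.S2096P Cfsg.Agent.S2086P Cfsg.Agent.RGD
open Cfsg.Agent.S2094P (RB RootB sc NgEquivariant mapB reflB MD XD XD_coe isRoot_ng_right'
  isRoot_ng_left' sw_ngEquivariant sc_ngEquivariant)

section formal

variable {n : ℕ} {F : Type*} [Field F] {P : Type*} [AddCommGroup P] [Module F P]
  {M : Type*} [Group M] {Q0 : QuadraticForm F P} {X : J n → J n → F → M} {Ys : J n → P → M}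

namespace WCONJWQ

theorem conj_mul3' (g x y z : M) :
    g * (x * y * z) * g⁻¹ = (g * x * g⁻¹) * (g * y * g⁻¹) * (g * z * g⁻¹) := by group

theorem wY_def' (c : J n) (u : P) :
    wY Q0 Ys c u = Ys c u * Ys (ng c) ((Q0 u)⁻¹ • u) * Ys c u := rfl

theorem conj_wY (g : M) (c : J n) (u : P) :
    g * wY Q0 Ys c u * g⁻¹ =
      (g * Ys c u * g⁻¹) * (g * Ys (ng c) ((Q0 u)⁻¹ • u) * g⁻¹) * (g * Ys c u * g⁻¹) :=
  conj_mul3' g _ _ _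

theorem ne_ng_of_ne_ng {a b : J n} (h : a ≠ ng b) : ng a ≠ b := fun h' => h (by rw [← h', ng_ng])

/-- the middle parameter of `wY c (s • u)` -/
theorem mid_smul {s : F} (hs : s ≠ 0) (u : P) :
    (Q0 (s • u))⁻¹ • (s • u) = s⁻¹ • (Q0 u)⁻¹ • u := by
  rw [QuadraticMap.map_smul, smul_eq_mul, smul_smul, smul_smul]
  congr 1
  rw [mul_inv, mul_inv]
  have h := inv_mul_cancel₀ hs
  linear_combination (s⁻¹ * (Q0 u)⁻¹) * h

/-- the middle parameter of `wY c (-u)` -/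
theorem mid_neg (u : P) : (Q0 (-u))⁻¹ • (-u) = -((Q0 u)⁻¹ • u) := by
  rw [QuadraticMap.map_neg, smul_neg]

theorem rfl0_smul (w : P) (c : F) (u : P) : rfl0 Q0 w (c • u) = c • rfl0 Q0 w u :=
  (rfl0L Q0 w).map_smul c u

end WCONJWQ

open WCONJWQ

/-! ### WCONJWQ: Weyl elements conjugated by Weyl elements (formal, from CONJLSQ/CONJSLQ/CONJSSQ) -/

theorem wX_conj_wY_fst (hB : QRel Q0 X Ys) {a b : J n} (hab : IsRoot a b) {t : F}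
    (ht : t ≠ 0) (u : P) :
    wX X a b t * wY Q0 Ys a u * (wX X a b t)⁻¹ = wY Q0 Ys b (-(t⁻¹ • u)) := by
  rw [conj_wY, wX_conj_Ys_fst hB hab ht, wX_conj_Ys_ng_fst hB hab ht, wY_def', mid_neg,
    mid_smul (inv_ne_zero ht), inv_inv]

theorem wX_conj_wY_snd (hB : QRel Q0 X Ys) {a b : J n} (hab : IsRoot a b) {t : F}
    (ht : t ≠ 0) (u : P) :
    wX X a b t * wY Q0 Ys b u * (wX X a b t)⁻¹ = wY Q0 Ys a (t • u) := by
  rw [conj_wY, wX_conj_Ys_snd hB hab ht, wX_conj_Ys_ng_snd hB hab ht, wY_def', mid_smul ht]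

theorem wX_conj_wY_ng_fst (hB : QRel Q0 X Ys) {a b : J n} (hab : IsRoot a b) {t : F}
    (ht : t ≠ 0) (u : P) :
    wX X a b t * wY Q0 Ys (ng a) u * (wX X a b t)⁻¹ = wY Q0 Ys (ng b) (-(t • u)) := by
  rw [conj_wY, wX_conj_Ys_ng_fst hB hab ht, ng_ng, wX_conj_Ys_fst hB hab ht, wY_def', ng_ng,
    mid_neg, mid_smul ht]

theorem wX_conj_wY_ng_snd (hB : QRel Q0 X Ys) {a b : J n} (hab : IsRoot a b) {t : F}
    (ht : t ≠ 0) (u : P) :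
    wX X a b t * wY Q0 Ys (ng b) u * (wX X a b t)⁻¹ = wY Q0 Ys (ng a) (t⁻¹ • u) := by
  rw [conj_wY, wX_conj_Ys_ng_snd hB hab ht, ng_ng, wX_conj_Ys_snd hB hab ht, wY_def', ng_ng,
    mid_smul (inv_ne_zero ht), inv_inv]

theorem wX_conj_wY_of_ne (hB : QRel Q0 X Ys) {a b : J n} (hab : IsRoot a b) (t : F)
    {c : J n} (h1 : c ≠ a) (h2 : c ≠ b) (h3 : c ≠ ng a) (h4 : c ≠ ng b) (u : P) :
    wX X a b t * wY Q0 Ys c u * (wX X a b t)⁻¹ = wY Q0 Ys c u := by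
  have g1 : ng c ≠ a := ne_ng_of_ne_ng h3
  have g2 : ng c ≠ b := ne_ng_of_ne_ng h4
  have g3 : ng c ≠ ng a := fun h => h1 (ng_injective h)
  have g4 : ng c ≠ ng b := fun h => h2 (ng_injective h)
  rw [conj_wY, wX_conj_Ys_of_ne hB hab t h1 h2 h3 h4, wX_conj_Ys_of_ne hB hab t g1 g2 g3 g4,
    wY_def']

theorem wY_conj_wX_fst (hB : QRel Q0 X Ys) {a d : J n} (had : IsRoot a d) {w : P}
    (hw : Q0 w ≠ 0) {u : F} (hu : u ≠ 0) :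
    wY Q0 Ys a w * wX X a d u * (wY Q0 Ys a w)⁻¹ = wX X (ng a) d (-((Q0 w)⁻¹ * u)) := by
  unfold wX
  rw [conj_mul3', wY_conj_X_fst hB had hw, wY_conj_X_snd hB had.symm hw]
  have e : -(Q0 w * -u⁻¹) = -(-((Q0 w)⁻¹ * u))⁻¹ := by
    field_simp
  rw [e]

theorem wY_conj_wX_snd (hB : QRel Q0 X Ys) {c a : J n} (hca : IsRoot c a) {w : P}
    (hw : Q0 w ≠ 0) {u : F} (hu : u ≠ 0) :
    wY Q0 Ys a w * wX X c a u * (wY Q0 Ys a w)⁻¹ = wX X c (ng a) (-(Q0 w * u)) := by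
  unfold wX
  rw [conj_mul3', wY_conj_X_snd hB hca hw, wY_conj_X_fst hB hca.symm hw]
  have e : -((Q0 w)⁻¹ * -u⁻¹) = -(-(Q0 w * u))⁻¹ := by
    field_simp
  rw [e]

theorem wY_conj_wX_ng_fst (hB : QRel Q0 X Ys) {a d : J n} (had : IsRoot a d) {w : P}
    (hw : Q0 w ≠ 0) {u : F} (hu : u ≠ 0) :
    wY Q0 Ys a w * wX X (ng a) d u * (wY Q0 Ys a w)⁻¹ = wX X a d (-(Q0 w * u)) := by
  unfold wX
  rw [conj_mul3', wY_conj_X_ng_fst hB had hw, wY_conj_X_ng_snd hB had.symm hw]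
  have e : -((Q0 w)⁻¹ * -u⁻¹) = -(-(Q0 w * u))⁻¹ := by
    field_simp
  rw [e]

theorem wY_conj_wX_ng_snd (hB : QRel Q0 X Ys) {c a : J n} (hca : IsRoot c a) {w : P}
    (hw : Q0 w ≠ 0) {u : F} (hu : u ≠ 0) :
    wY Q0 Ys a w * wX X c (ng a) u * (wY Q0 Ys a w)⁻¹ = wX X c a (-((Q0 w)⁻¹ * u)) := by
  unfold wX
  rw [conj_mul3', wY_conj_X_ng_snd hB hca hw, wY_conj_X_ng_fst hB hca.symm hw]
  have e : -(Q0 w * -u⁻¹) = -(-((Q0 w)⁻¹ * u))⁻¹ := by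
    field_simp
  rw [e]

theorem wY_conj_wX_of_ne (hB : QRel Q0 X Ys) (a : J n) (w : P) {c d : J n}
    (hcd : IsRoot c d) (h1 : c ≠ a) (h2 : c ≠ ng a) (h3 : d ≠ a) (h4 : d ≠ ng a) (u : F) :
    wY Q0 Ys a w * wX X c d u * (wY Q0 Ys a w)⁻¹ = wX X c d u := by
  unfold wX
  rw [conj_mul3', wY_conj_X_of_ne hB a w hcd h1 h2 h3 h4,
    wY_conj_X_of_ne hB a w hcd.symm h3 h4 h1 h2]

theorem wY_conj_wY_of_ne (hB : QRel Q0 X Ys) {a c : J n} (hac : IsRoot a c) {w : P}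
    (hw : Q0 w ≠ 0) (u : P) :
    wY Q0 Ys a w * wY Q0 Ys c u * (wY Q0 Ys a w)⁻¹ = wY Q0 Ys c (rfl0 Q0 w u) := by
  rw [conj_wY, wY_conj_Ys_of_ne hB hac hw, wY_conj_Ys_of_ne hB (isRoot_ng_right' hac) hw,
    wY_def', Q0_rfl0 w u hw, rfl0_smul]

theorem wY_conj_wY_self (hn : 3 ≤ n) (hB : QRel Q0 X Ys) (a : J n) {w : P} (hw : Q0 w ≠ 0)
    {u : P} (hu : Q0 u ≠ 0) :
    wY Q0 Ys a w * wY Q0 Ys a u * (wY Q0 Ys a w)⁻¹ =
      wY Q0 Ys a (-((Q0 w * (Q0 u)⁻¹) • rfl0 Q0 w u)) := by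
  have hQx : Q0 (-((Q0 w)⁻¹ • rfl0 Q0 w u)) = (Q0 w)⁻¹ * (Q0 w)⁻¹ * Q0 u := by
    rw [QuadraticMap.map_neg, QuadraticMap.map_smul, smul_eq_mul, Q0_rfl0 w u hw]
  have hx : Q0 (-((Q0 w)⁻¹ • rfl0 Q0 w u)) ≠ 0 := by
    rw [hQx]
    exact mul_ne_zero (mul_ne_zero (inv_ne_zero hw) (inv_ne_zero hw)) hu
  have hy : (Q0 (-((Q0 w)⁻¹ • rfl0 Q0 w u)))⁻¹ • (-((Q0 w)⁻¹ • rfl0 Q0 w u)) =
      -((Q0 w * (Q0 u)⁻¹) • rfl0 Q0 w u) := by
    rw [hQx, smul_neg, smul_smul]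
    congr 2
    field_simp
  rw [← hy, ← wY_swap hn hB a hx, conj_wY, wY_conj_Ys_self hn hB a hw, wY_conj_Ys_ng hn hB a hw,
    wY_def', ng_ng, hy, rfl0_smul, smul_smul]

end formal

end Cfsg.Agent.S2099P
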