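import Mathlib
import Cfsg.Prelude.Def_JComponents
import Cfsg.Prelude.Def_Involutions
import Cfsg.Agent.Helper5.S2951Defs
import Cfsg.Agent.Helper18.S2951XSE
import Cfsg.Agent.Helper14.S2951XT
import Cfsg.Agent.Helper11.S2951XV
import Cfsg.Agent.Helper28.S2951XFIN

/-! # S2951 board, piece X (blueprint §8 Lemma X = XSE + XT + hmain + XV + XFIN) -/

set_option autoImplicit false

universe u

namespace Cfsg.Agent.S2951P

open Cfsg Subgroup Cfsg.Agent.Helper15.JComp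

variable {G : Type u} [Group G] [Finite G]

/-- a Sylow 2-subgroup of `G` inside `L` is a Sylow 2-subgroup of `L` -/
theorem X_aux_isSylowTwoIn (S' : Sylow 2 G) {L : Subgroup G} (h : (S' : Subgroup G) ≤ L) :
    IsSylowTwoIn (S' : Subgroup G) L := by
  have : Fact (Nat.Prime 2) := ⟨Nat.prime_two⟩
  refine ⟨h, S'.isPGroup', ?_⟩
  rw [← Nat.not_even_iff_odd, even_iff_two_dvd]
  intro hd
  apply S'.not_dvd_index
  rw [← Subgroup.relIndex_mul_index h]
  exact dvd_mul_of_dvd_left hd _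

/-- a nontrivial finite 2-group has a central involution, which lies in `Ω₁Z` -/
theorem X_aux_exists_central (S' : Subgroup G) (hS' : IsPGroup 2 ↥S') (hne : S' ≠ ⊥) :
    ∃ z ∈ omegaCenterOf S', z ≠ 1 ∧ ∀ s ∈ S', s * z = z * s := by
  have : Fact (Nat.Prime 2) := ⟨Nat.prime_two⟩
  have hnt : Nontrivial ↥S' := (Subgroup.nontrivial_iff_ne_bot S').mpr hne
  have hcn : Nontrivial ↥(Subgroup.center ↥S') := hS'.center_nontrivial
  have hcp : IsPGroup 2 ↥(Subgroup.center ↥S') := hS'.to_subgroup _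
  have hd : 2 ∣ Nat.card ↥(Subgroup.center ↥S') := by
    obtain ⟨n, hn⟩ := IsPGroup.iff_card.mp hcp
    rw [hn]
    rcases Nat.eq_zero_or_pos n with h0 | hpos
    · exfalso
      rw [h0, pow_zero] at hn
      have hss : Subsingleton ↥(Subgroup.center ↥S') := (Nat.card_eq_one_iff_unique.mp hn).1
      exact not_subsingleton _ hss
    · exact dvd_pow_self 2 hpos.ne'
  obtain ⟨c, hc⟩ := exists_prime_orderOf_dvd_card' (G := ↥(Subgroup.center ↥S')) 2 hd
  have hcent : ∀ s ∈ S', s * ((c : ↥S') : G) = ((c : ↥S') : G) * s := by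
    intro s hs
    have h1 := Subgroup.mem_center_iff.mp c.2 ⟨s, hs⟩
    exact congrArg Subtype.val h1
  have hsq : ((c : ↥S') : G) ^ 2 = 1 := by
    have h1 : c ^ 2 = 1 := by rw [← hc]; exact pow_orderOf_eq_one c
    have h2 := congrArg (fun x : ↥(Subgroup.center ↥S') => ((x : ↥S') : G)) h1
    simpa using h2
  refine ⟨((c : ↥S') : G), ?_, ?_, hcent⟩
  · apply Subgroup.subset_closure
    refine ⟨Subgroup.mem_inf.2 ⟨(c : ↥S').2, ?_⟩, hsq⟩
    rw [Subgroup.mem_centralizer_iff]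
    intro y hy
    exact hcent y hy
  · intro h1
    have hc1 : c = 1 := Subtype.ext (Subtype.ext h1)
    rw [hc1, orderOf_one] at hc
    omega

theorem X (g : Glob G) {L : Subgroup G} (hL : IsMaximalTwoLocal L) (S : Sylow 2 G)
    (hSL : (S : Subgroup G) ≤ L)
    (hJL : normalizer ((thompsonSubgroupOf 2 (S : Subgroup G) : Subgroup G) : Set G) ≤ L)
    {K : Subgroup G} (hK : IsJComponent (S : Subgroup G) K) (hKL : K ≤ L)
    (hall : ∀ H : Subgroup G, IsTwoLocal H → ∀ S' : Sylow 2 G, (S' : Subgroup G) ≤ L →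
      (S' : Subgroup G) ≤ H → H ≤ L)
    (hmain : ∀ S' : Sylow 2 G,
      normalizer ((thompsonSubgroupOf 2 (S' : Subgroup G) : Subgroup G) : Set G) ≤ L →
      ∀ T' : Subgroup G, T' ∈ maxStraddlingTwoSubgroups L → T' ≤ (S' : Subgroup G) →
        T' ≠ (S' : Subgroup G) → Concl54 T') : False := by
  have hL2 : IsTwoLocal L := hL.1
  have hnse := XSE g hL2 S hSL hK hKL
  obtain ⟨S', T', hS'L, hJS', hT'max, hT'S', hne⟩ := XT g hL2 S hSL hJL hnse hall
  obtain ⟨P₁, P₂, -, hP₁, -, hTP₁, -, hiso⟩ := hmain S' hJS' T' hT'max hT'S' hne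
  have hiso₁ : IsS4Type ↥P₁ := by
    rcases hiso with ⟨h, -⟩ | ⟨h, -⟩
    · exact Or.inl h
    · exact Or.inr h
  obtain ⟨hVn, hVO, hVsq, hV4, hVZ, hVconj⟩ := XV g hL2 S hSL hK hKL
  have hOS' : pCoreOf 2 L ≤ (S' : Subgroup G) :=
    pCoreOf_le_of_isSylowTwoIn (X_aux_isSylowTwoIn S' hS'L)
  have hS'ne : (S' : Subgroup G) ≠ ⊥ := by
    intro hb
    apply hne
    rw [hb] at hT'S' ⊢
    exact le_bot_iff.mp hT'S'
  obtain ⟨z, hz, hz1, hzc⟩ := X_aux_exists_central (S' : Subgroup G) S'.isPGroup' hS'ne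
  exact XFIN S' hT'S' hne hP₁ hTP₁ hiso₁ (hVO.trans hOS') (hS'L.trans hVn) hVsq hV4
    ⟨z, hVZ S' hS'L hz, hz1, hzc⟩ hVconj

end Cfsg.Agent.S2951P
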