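import Mathlib
import Cfsg.Agent.Helper27.S3001TOP
import Cfsg.Agent.Helper8.S3001S4
import Cfsg.Agent.Helper28.S3000Cm

/-! Board `s3001pieces`, row GENORB: the general lemma behind the assemblies of S3001. -/

set_option autoImplicit false

namespace Cfsg.Agent.S3001P

open Cfsg.Agent.S2789P Cfsg.Agent.S2999P Cfsg.Agent.S3000P
open scoped commutatorElement

universe u

variable {G : Type u} [Group G]

/-- the induction: a family `(U i, R i)` with `C_{U i}(R i) = 1` and, for all `i, j`, `U i = U j` or `R i` centralises `U j`: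
an element of `⨆ U j` centralised by all `R i` is trivial. -/
theorem GENORB_aux_ind {ι : Type*} [DecidableEq ι] {V : Subgroup G} (hVc : ∀ v ∈ V, ∀ w ∈ V, v * w = w * v)
    (Uf Rf : ι → Subgroup G) (hUfV : ∀ i, Uf i ≤ V)
    (h1 : ∀ i, ∀ u ∈ Uf i, (∀ r ∈ Rf i, r * u = u * r) → u = 1)
    (h2 : ∀ i j, Uf i = Uf j ∨ ∀ r ∈ Rf i, ∀ u ∈ Uf j, r * u = u * r) (J : Finset ι) :
    ∀ u ∈ ⨆ j ∈ J, Uf j, (∀ i, ∀ r ∈ Rf i, r * u = u * r) → u = 1 := by
  induction J using Finset.induction_on with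
  | empty =>
    intro u hu _
    simp only [Finset.notMem_empty, iSup_false, iSup_bot, Subgroup.mem_bot] at hu
    exact hu
  | insert i J hi ih =>
    intro u hu hc
    rw [Finset.iSup_insert] at hu
    by_cases hex : ∃ j ∈ J, Uf i = Uf j
    · obtain ⟨j, hj, hij⟩ := hex
      have hle : Uf i ≤ ⨆ j ∈ J, Uf j := by
        rw [hij]
        exact le_iSup₂ (f := fun j (_ : j ∈ J) => Uf j) j hj
      rw [sup_eq_right.mpr hle] at hu
      exact ih u hu hc
    · push Not at hex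
      have hcen : (⨆ j ∈ J, Uf j) ≤ Subgroup.centralizer ((Rf i : Subgroup G) : Set G) := by
        refine iSup₂_le ?_
        intro j hj x hx
        rw [Subgroup.mem_centralizer_iff]
        intro r hr
        rcases h2 i j with h | h
        · exact absurd h (hex j hj)
        · exact h r hr x hx
      have hSV : (⨆ j ∈ J, Uf j) ≤ V := iSup₂_le (fun j _ => hUfV j)
      obtain ⟨a, ha, b, hb, hab'⟩ := mem_sup_of_abelian hVc (hUfV i) hSV hu
      have hab : a * b = u := hab'.symm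
      have hb' := hcen hb
      rw [Subgroup.mem_centralizer_iff] at hb'
      have ha1 : a = 1 := by
        apply h1 i a ha
        intro r hr
        have e1 := hc i r hr
        have e2 := hb' r hr
        have hau : a = u * b⁻¹ := by rw [← hab]; group
        rw [hau]
        have e3 : r * b⁻¹ = b⁻¹ * r := by
          have : b⁻¹ * (r * b) * b⁻¹ = b⁻¹ * (b * r) * b⁻¹ := by rw [e2]
          simpa [mul_assoc] using this.symm
        calc r * (u * b⁻¹) = (r * u) * b⁻¹ := by rw [mul_assoc]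
          _ = (u * r) * b⁻¹ := by rw [e1]
          _ = u * (r * b⁻¹) := by rw [mul_assoc]
          _ = u * (b⁻¹ * r) := by rw [e3]
          _ = u * b⁻¹ * r := by rw [mul_assoc]
      rw [ha1, one_mul] at hab
      rw [← hab]
      exact ih b hb (by rw [hab]; exact hc)

variable [Finite G] {p : ℕ} [Fact p.Prime] {V P : Subgroup G}

/-- GENORB: `U ≤ V`, `R ≤ P`, `C_U(R) = 1 ≠ U`, and every `T`-conjugate of `U` lies in `U` or is centralised by `R`. -/
theorem GENORB (hV : Cfsg.IsElementaryAbelian p V) (hPV : P ≤ Subgroup.normalizer (V : Set G))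
    (T : Sylow p ↥P) {U R : Subgroup G} (hUV : U ≤ V) (hRP : R ≤ P) (hne : U ≠ ⊥)
    (h1 : ∀ u ∈ U, (∀ r ∈ R, r * u = u * r) → u = 1)
    (h2 : ∀ t ∈ TT T, cjs t U ≤ U ∨ ∀ r ∈ R, ∀ u ∈ cjs t U, r * u = u * r) :
    ⁅fixV V (TT T), P⁆ ≠ ⊥ := by
  classical
  haveI : Fintype ↥(TT T) := Fintype.ofFinite _
  intro hbot
  have hTP : TT T ≤ P := Subgroup.map_subtype_le _
  have hTp : IsPGroup p ↥(TT T) := by
    have h0 : IsPGroup p ↥(T : Subgroup ↥P) := T.isPGroup'
    exact h0.map P.subtype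
  have hVp : IsPGroup p ↥V := F2_aux_isPGroup hV
  -- the family
  let Uf : ↥(TT T) → Subgroup G := fun t => cjs (t : G) U
  let Rf : ↥(TT T) → Subgroup G := fun t => cjs (t : G) R
  have hUfV : ∀ t : ↥(TT T), Uf t ≤ V := by
    intro t x hx
    have hx' : (t : G)⁻¹ * x * (t : G) ∈ U := cj_mem.mp hx
    have htn : (t : G) ∈ Subgroup.normalizer (V : Set G) := hPV (hTP t.2)
    have := (Subgroup.mem_normalizer_iff.mp htn ((t : G)⁻¹ * x * (t : G))).mp (hUV hx')
    have e : (t : G) * ((t : G)⁻¹ * x * (t : G)) * (t : G)⁻¹ = x := by group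
    rwa [e] at this
  have hRfP : ∀ t : ↥(TT T), Rf t ≤ P := fun t => cj_le_of_mem (hTP t.2) hRP
  have H1 : ∀ t : ↥(TT T), ∀ u ∈ Uf t, (∀ r ∈ Rf t, r * u = u * r) → u = 1 := by
    intro t u hu hc
    have hu' : (t : G)⁻¹ * u * (t : G) ∈ U := cj_mem.mp hu
    have := h1 _ hu' (by
      intro r hr
      have hr' : (t : G) * r * (t : G)⁻¹ ∈ Rf t := cj_mem_conj.mpr hr
      have e := hc _ hr'
      calc r * ((t : G)⁻¹ * u * (t : G)) = (t : G)⁻¹ * (((t : G) * r * (t : G)⁻¹) * u) * (t : G) := by group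
        _ = (t : G)⁻¹ * (u * ((t : G) * r * (t : G)⁻¹)) * (t : G) := by rw [e]
        _ = (t : G)⁻¹ * u * (t : G) * r := by group)
    calc u = (t : G) * ((t : G)⁻¹ * u * (t : G)) * (t : G)⁻¹ := by group
      _ = 1 := by rw [this]; group
  have H2 : ∀ s t : ↥(TT T), Uf s = Uf t ∨ ∀ r ∈ Rf s, ∀ u ∈ Uf t, r * u = u * r := by
    intro s t
    have hx : (s : G)⁻¹ * (t : G) ∈ TT T := (TT T).mul_mem ((TT T).inv_mem s.2) t.2
    rcases h2 _ hx with h | h
    · left
      have heq : cjs ((s : G)⁻¹ * (t : G)) U = U :=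
        Subgroup.eq_of_le_of_card_ge h (by rw [cj_card])
      show cjs (s : G) U = cjs (t : G) U
      have : cjs (s : G) (cjs ((s : G)⁻¹ * (t : G)) U) = cjs (t : G) U := by
        rw [cj_mul]; congr 1; group
      rw [← this, heq]
    · right
      intro r' hr' u' hu'
      have hr : (s : G)⁻¹ * r' * (s : G) ∈ R := cj_mem.mp hr'
      have hu0 : (t : G)⁻¹ * u' * (t : G) ∈ U := cj_mem.mp hu'
      have hu : (s : G)⁻¹ * u' * (s : G) ∈ cjs ((s : G)⁻¹ * (t : G)) U := by
        rw [cj_mem]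
        have e : ((s : G)⁻¹ * (t : G))⁻¹ * ((s : G)⁻¹ * u' * (s : G)) * ((s : G)⁻¹ * (t : G)) = (t : G)⁻¹ * u' * (t : G) := by group
        rw [e]; exact hu0
      have e := h _ hr _ hu
      calc r' * u' = (s : G) * (((s : G)⁻¹ * r' * (s : G)) * ((s : G)⁻¹ * u' * (s : G))) * (s : G)⁻¹ := by group
        _ = (s : G) * (((s : G)⁻¹ * u' * (s : G)) * ((s : G)⁻¹ * r' * (s : G))) * (s : G)⁻¹ := by rw [e]
        _ = u' * r' := by group
  -- the `T`-invariant subgroup
  set Ustar : Subgroup G := ⨆ t : ↥(TT T), Uf t with hUstar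
  have hUsV : Ustar ≤ V := iSup_le hUfV
  have hUsne : Ustar ≠ ⊥ := by
    intro h
    apply hne
    have : U ≤ Ustar := by
      have := le_iSup Uf (1 : ↥(TT T))
      simpa [Uf, cj_one] using this
    rw [h] at this
    exact le_bot_iff.mp this
  have hconj : ∀ s ∈ TT T, cjs s Ustar ≤ Ustar := by
    intro s hs
    have : cjs s Ustar = ⨆ t : ↥(TT T), cjs s (Uf t) := by
      rw [hUstar]; exact Subgroup.map_iSup _ _
    rw [this]
    refine iSup_le ?_
    intro t
    have : cjs s (Uf t) = Uf (⟨s, hs⟩ * t) := by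
      show cjs s (cjs (t : G) U) = cjs ((⟨s, hs⟩ * t : ↥(TT T)) : G) U
      rw [cj_mul]; rfl
    rw [this]
    exact le_iSup Uf _
  have hnorm : TT T ≤ Subgroup.normalizer (Ustar : Set G) := by
    intro s hs
    exact S1_aux_mem_normalizer_of_cjs (hconj s hs) (hconj s⁻¹ ((TT T).inv_mem hs))
  obtain ⟨y, hy, hy1⟩ := S4_aux_exists_fix hTp (hVp.to_le hUsV) hnorm hUsne
  obtain ⟨hyU, hyT⟩ := Subgroup.mem_inf.mp hy
  rw [Subgroup.mem_centralizer_iff] at hyT
  have hyfix : y ∈ fixV V (TT T) := mem_fix.mpr ⟨hUsV hyU, hyT⟩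
  have hyP : ∀ g ∈ P, g * y = y * g := by
    intro g hg
    have : ⁅y, g⁆ ∈ ⁅fixV V (TT T), P⁆ := Subgroup.commutator_mem_commutator hyfix hg
    rw [hbot, Subgroup.mem_bot, commutatorElement_eq_one_iff_mul_comm] at this
    exact this.symm
  apply hy1
  have hyJ : y ∈ ⨆ j ∈ (Finset.univ : Finset ↥(TT T)), Uf j := by
    simpa using hyU
  have hVc : ∀ v ∈ V, ∀ w ∈ V, v * w = w * v := fun v hv w hw => S1_aux_comm hV hv hw
  exact GENORB_aux_ind hVc Uf Rf hUfV H1 H2 Finset.univ y hyJ (fun i r hr => hyP r (hRfP i hr))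

end Cfsg.Agent.S3001P
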