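import Mathlib
import Cfsg.Agent.Helper15.S3412.Defs

/-! S3412 piece SLIN (helper23): a `3 × 3` matrix of square zero has rank at most one. -/

set_option autoImplicit false

namespace Cfsg.Agent.S3412P

open Matrix

namespace SLIN

theorem vecMulVec_mul_vecMulVec {F : Type*} [Field F] (v φ : Fin 3 → F) :
    vecMulVec v φ * vecMulVec v φ = (φ ⬝ᵥ v) • vecMulVec v φ := by
  ext i j
  rw [Matrix.mul_apply, Matrix.smul_apply, smul_eq_mul]
  simp only [vecMulVec_apply]
  rw [dotProduct, Finset.sum_mul]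
  apply Finset.sum_congr rfl
  intro k _
  ring

theorem exists_vecMulVec_of_sq_zero {F : Type*} [Field F] {N : Matrix (Fin 3) (Fin 3) F}
    (h : N * N = 0) : ∃ v φ : Fin 3 → F, φ ⬝ᵥ v = 0 ∧ N = vecMulVec v φ := by
  by_cases hN : N = 0
  · refine ⟨0, 0, by simp, ?_⟩
    rw [hN]
    ext i j
    simp [vecMulVec_apply]
  -- the range of `N` is at most one-dimensional
  set L : (Fin 3 → F) →ₗ[F] (Fin 3 → F) := N.mulVecLin with hL
  have hrk : LinearMap.range L ≤ LinearMap.ker L := by
    rintro _ ⟨x, rfl⟩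
    rw [LinearMap.mem_ker, hL, Matrix.mulVecLin_apply, Matrix.mulVecLin_apply,
      Matrix.mulVec_mulVec, h, Matrix.zero_mulVec]
  have h1 := LinearMap.finrank_range_add_finrank_ker L
  rw [Module.finrank_fin_fun] at h1
  have h2 := Submodule.finrank_mono hrk
  have h3 : Module.finrank F (LinearMap.range L) ≤ 1 := by omega
  obtain ⟨v, hv⟩ := ((Submodule.finrank_le_one_iff_isPrincipal _).mp h3).principal
  -- every column is a multiple of `v`
  have hcol : ∀ k : Fin 3, ∃ c : F, c • v = N.mulVec (Pi.single k 1) := by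
    intro k
    have hk : N.mulVec (Pi.single k 1) ∈ LinearMap.range L := ⟨Pi.single k 1, rfl⟩
    rw [hv, Submodule.mem_span_singleton] at hk
    exact hk
  choose φ hφ using hcol
  have hNv : N = vecMulVec v φ := by
    ext i k
    rw [vecMulVec_apply]
    have := congrFun (hφ k) i
    rw [Matrix.mulVec_single_one, Pi.smul_apply, smul_eq_mul] at this
    rw [mul_comm, this]
    rfl
  refine ⟨v, φ, ?_, hNv⟩
  have h4 := vecMulVec_mul_vecMulVec v φ
  rw [← hNv, h] at h4
  rcases smul_eq_zero.mp h4.symm with h5 | h5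
  · exact h5
  · exact absurd h5 hN

end SLIN

end Cfsg.Agent.S3412P
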