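import Mathlib
import Cfsg.Agent.Helper15.S3412.Defs2
import Cfsg.Agent.Helper25.S2522KRYLOV

/-! S3412 piece SREG (helper23): the centralizer of a regular unipotent element of `SL₃(3)` has at
most 26 elements (cyclic vector argument). -/

set_option autoImplicit false

namespace Cfsg.Agent.S3412P

open Matrix

namespace SREG

theorem card_nonzero : Nat.card {x : Fin 3 → ZMod 3 // x ≠ 0} = 26 := by
  rw [Nat.card_eq_fintype_card]
  decide

theorem card_centralizer_le {a : L33} (h3 : a ^ 3 = 1)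
    (hN : ((a : Matrix (Fin 3) (Fin 3) (ZMod 3)) - 1) * ((a : Matrix (Fin 3) (Fin 3) (ZMod 3)) - 1) ≠ 0) :
    Nat.card (Subgroup.centralizer ({a} : Set L33)) ≤ 26 := by
  classical
  set A : Matrix (Fin 3) (Fin 3) (ZMod 3) := (a : Matrix (Fin 3) (Fin 3) (ZMod 3)) with hA
  have hA3 : A ^ 3 = 1 := by
    have h := congrArg (fun g : L33 => (g : Matrix (Fin 3) (Fin 3) (ZMod 3))) h3
    simpa using h
  have hN3 : (A - 1) ^ 3 = 0 := by
    have hp : Fact (Nat.Prime 3) := ⟨by norm_num⟩
    rw [sub_pow_char_of_commute 3 (Commute.one_right A), hA3, one_pow, sub_self]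
  -- the endomorphism
  set L : Module.End (ZMod 3) (Fin 3 → ZMod 3) := Matrix.toLinAlgEquiv' (A - 1) with hL
  have hLpow : ∀ (i : ℕ) (x : Fin 3 → ZMod 3), (L ^ i) x = ((A - 1) ^ i).mulVec x := by
    intro i x
    rw [hL, ← map_pow, Matrix.toLinAlgEquiv'_apply]
  -- a vector with `N² w ≠ 0`
  have hex : ∃ k : Fin 3, ((A - 1) ^ 2).mulVec (Pi.single k 1) ≠ 0 := by
    by_contra hcon
    push Not at hcon
    apply hN
    rw [← pow_two]
    ext i k
    have h := congrFun (hcon k) i
    rw [Matrix.mulVec_single_one] at h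
    exact h
  obtain ⟨k, hk⟩ := hex
  set w : Fin 3 → ZMod 3 := Pi.single k 1 with hw
  have hli := Cfsg.Agent.S2522P.KRYLOV.linearIndependent_pow L 3 w
    (by rw [hLpow, hN3, Matrix.zero_mulVec]) (by rw [hLpow]; exact hk)
  have hcard : Fintype.card (Fin 3) = Module.finrank (ZMod 3) (Fin 3 → ZMod 3) := by simp
  let b := basisOfLinearIndependentOfCardEqFinrank hli hcard
  have hb : ∀ i : Fin 3, b i = ((A - 1) ^ (i : ℕ)).mulVec w := by
    intro i
    simp only [b, coe_basisOfLinearIndependentOfCardEqFinrank]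
    exact hLpow i w
  have hw0 : w ≠ 0 := by
    intro h0
    apply hk
    rw [h0, Matrix.mulVec_zero]
  -- elements of the centralizer commute with `A - 1`
  have hcomm : ∀ g ∈ Subgroup.centralizer ({a} : Set L33),
      (g : Matrix (Fin 3) (Fin 3) (ZMod 3)) * (A - 1) =
        (A - 1) * (g : Matrix (Fin 3) (Fin 3) (ZMod 3)) := by
    intro g hg
    have h1 : a * g = g * a := Subgroup.mem_centralizer_iff.mp hg a rfl
    have h2 := congrArg (fun x : L33 => (x : Matrix (Fin 3) (Fin 3) (ZMod 3))) h1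
    simp only [Matrix.SpecialLinearGroup.coe_mul] at h2
    rw [← hA] at h2
    rw [mul_sub, sub_mul, mul_one, one_mul, h2]
  -- the orbit map
  have hne : ∀ g : L33, (g : Matrix (Fin 3) (Fin 3) (ZMod 3)).mulVec w ≠ 0 := by
    intro g h0
    apply hw0
    have h1 : ((g⁻¹ * g : L33) : Matrix (Fin 3) (Fin 3) (ZMod 3)).mulVec w = 0 := by
      rw [Matrix.SpecialLinearGroup.coe_mul, ← Matrix.mulVec_mulVec, h0, Matrix.mulVec_zero]
    rw [inv_mul_cancel, Matrix.SpecialLinearGroup.coe_one, Matrix.one_mulVec] at h1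
    exact h1
  let ψ : Subgroup.centralizer ({a} : Set L33) → {x : Fin 3 → ZMod 3 // x ≠ 0} :=
    fun g => ⟨((g : L33) : Matrix (Fin 3) (Fin 3) (ZMod 3)).mulVec w, hne g⟩
  have hψ : Function.Injective ψ := by
    intro g g' hgg
    have h0 : ((g : L33) : Matrix (Fin 3) (Fin 3) (ZMod 3)).mulVec w =
        ((g' : L33) : Matrix (Fin 3) (Fin 3) (ZMod 3)).mulVec w := congrArg Subtype.val hgg
    set D : Matrix (Fin 3) (Fin 3) (ZMod 3) :=
      ((g : L33) : Matrix (Fin 3) (Fin 3) (ZMod 3)) - ((g' : L33) : Matrix (Fin 3) (Fin 3) (ZMod 3))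
      with hD
    have hDw : D.mulVec w = 0 := by
      rw [hD, Matrix.sub_mulVec, h0, sub_self]
    have hDc : Commute D (A - 1) := by
      show D * (A - 1) = (A - 1) * D
      rw [hD, sub_mul, mul_sub (A - 1), hcomm g g.2, hcomm g' g'.2]
    have hDb : ∀ i : Fin 3, D.mulVec (b i) = 0 := by
      intro i
      rw [hb i, Matrix.mulVec_mulVec, (hDc.pow_right (i : ℕ)).eq, ← Matrix.mulVec_mulVec, hDw,
        Matrix.mulVec_zero]
    have hD0 : Matrix.toLin' D = 0 := by
      apply b.ext
      intro i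
      rw [Matrix.toLin'_apply, hDb i, LinearMap.zero_apply]
    have hD0' : D = 0 := by
      have := congrArg (LinearMap.toMatrix') hD0
      simpa using this
    apply Subtype.ext
    apply Subtype.ext
    exact sub_eq_zero.mp hD0'
  calc Nat.card (Subgroup.centralizer ({a} : Set L33))
      ≤ Nat.card {x : Fin 3 → ZMod 3 // x ≠ 0} := Nat.card_le_card_of_injective ψ hψ
    _ = 26 := card_nonzero

end SREG

end Cfsg.Agent.S3412P
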