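import Mathlib
import Cfsg.Agent.Helper15.S3412.Defs

/-! S3412 piece QCARD (helper23). -/

set_option autoImplicit false

namespace Cfsg.Agent.S3412P

namespace QCARD

theorem card_eq_of_mem_iff {H G : Type*} [Group H] [Group G] [Finite H] [Finite G]
    (f : {h : H // h ≠ 1} ≃ {g : G // g ≠ 1}) (A : Subgroup H) (B : Subgroup G)
    (hAB : ∀ (a : H) (ha : a ≠ 1), a ∈ A ↔ (f ⟨a, ha⟩ : G) ∈ B) : Nat.card A = Nat.card B := by
  classical
  let φ : A → B := fun a =>
    if h : (a : H) = 1 then 1 else ⟨(f ⟨a, h⟩ : G), (hAB a h).mp a.2⟩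
  have hφ1 : ∀ a : A, (a : H) = 1 → φ a = 1 := fun a h => dif_pos h
  have hφ2 : ∀ (a : A) (h : (a : H) ≠ 1), ((φ a : B) : G) = (f ⟨a, h⟩ : G) := by
    intro a h
    simp only [φ, dif_neg h]
  apply Nat.card_eq_of_bijective φ
  constructor
  · intro a a' haa
    by_cases h : (a : H) = 1
    · by_cases h' : (a' : H) = 1
      · exact Subtype.ext (h.trans h'.symm)
      · exfalso
        have e1 := hφ2 a' h'
        rw [← haa, hφ1 a h] at e1
        exact (f ⟨a', h'⟩).2 e1.symm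
    · by_cases h' : (a' : H) = 1
      · exfalso
        have e1 := hφ2 a h
        rw [haa, hφ1 a' h'] at e1
        exact (f ⟨a, h⟩).2 e1.symm
      · have e1 := hφ2 a h
        have e2 := hφ2 a' h'
        rw [haa, e2] at e1
        have e3 : (⟨(a' : H), h'⟩ : {h : H // h ≠ 1}) = ⟨(a : H), h⟩ :=
          f.injective (Subtype.ext e1)
        exact Subtype.ext (congrArg Subtype.val e3).symm
  · intro b
    by_cases h : (b : G) = 1
    · refine ⟨1, ?_⟩
      rw [hφ1 1 rfl]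
      exact Subtype.ext h.symm
    · have hne : ((f.symm ⟨b, h⟩ : {h : H // h ≠ 1}) : H) ≠ 1 := (f.symm ⟨b, h⟩).2
      have hmem : ((f.symm ⟨b, h⟩ : {h : H // h ≠ 1}) : H) ∈ A := by
        rw [hAB _ hne]
        have : (⟨((f.symm ⟨b, h⟩ : {h : H // h ≠ 1}) : H), hne⟩ : {h : H // h ≠ 1}) =
            f.symm ⟨b, h⟩ := Subtype.ext rfl
        rw [this, f.apply_symm_apply]
        exact b.2
      refine ⟨⟨_, hmem⟩, ?_⟩
      apply Subtype.ext
      rw [hφ2 ⟨_, hmem⟩ hne]
      have : (⟨((f.symm ⟨b, h⟩ : {h : H // h ≠ 1}) : H), hne⟩ : {h : H // h ≠ 1}) =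
          f.symm ⟨b, h⟩ := Subtype.ext rfl
      rw [this, f.apply_symm_apply]

theorem isGraphIso_symm {H G : Type*} [Group H] [Group G]
    (f : {h : H // h ≠ 1} ≃ {g : G // g ≠ 1}) (hf : IsGraphIso f) : IsGraphIso f.symm := by
  intro x y
  have := hf (f.symm x) (f.symm y)
  rw [f.apply_symm_apply, f.apply_symm_apply] at this
  exact this.symm

end QCARD

end Cfsg.Agent.S3412P
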