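import Mathlib
import Cfsg.Agent.Helper15.S3412.Defs

/-! S3412 piece QIMG (helper23). -/

set_option autoImplicit false

namespace Cfsg.Agent.S3412P

namespace QIMG

/-- a self-centralizing subgroup is mapped by a graph isomorphism to a self-centralizing subgroup -/
theorem exists_image {H G : Type*} [Group H] [Group G]
    (f : {h : H // h ≠ 1} ≃ {g : G // g ≠ 1}) (hf : IsGraphIso f)
    (A : Subgroup H) (hA : Subgroup.centralizer (A : Set H) = A) :
    ∃ B : Subgroup G, Subgroup.centralizer (B : Set G) = B ∧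
      ∀ (a : H) (ha : a ≠ 1), a ∈ A ↔ (f ⟨a, ha⟩ : G) ∈ B := by
  -- `A` is abelian
  have hab : ∀ a ∈ A, ∀ a' ∈ A, a' * a = a * a' := by
    intro a ha a' ha'
    have h1 : a ∈ Subgroup.centralizer (A : Set H) := by rw [hA]; exact ha
    exact Subgroup.mem_centralizer_iff.mp h1 a' ha'
  set S : Set G := {g | ∃ (a : H) (ha : a ≠ 1), a ∈ A ∧ g = (f ⟨a, ha⟩ : G)} with hS
  -- the membership specification
  have hmem : ∀ (a : H) (ha : a ≠ 1), a ∈ A ↔ (f ⟨a, ha⟩ : G) ∈ Subgroup.centralizer S := by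
    intro a ha
    constructor
    · intro haA
      rw [Subgroup.mem_centralizer_iff]
      rintro g ⟨a', ha', ha'A, rfl⟩
      exact (hf ⟨a', ha'⟩ ⟨a, ha⟩).mp (hab a haA a' ha'A)
    · intro hfa
      rw [← hA, Subgroup.mem_centralizer_iff]
      intro a' ha'A
      by_cases ha' : a' = 1
      · rw [ha', one_mul, mul_one]
      · have h1 := Subgroup.mem_centralizer_iff.mp hfa (f ⟨a', ha'⟩) ⟨a', ha', ha'A, rfl⟩
        exact (hf ⟨a', ha'⟩ ⟨a, ha⟩).mpr h1
  have hSB : S ⊆ (Subgroup.centralizer S : Set G) := by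
    rintro g ⟨a, ha, haA, rfl⟩
    exact (hmem a ha).mp haA
  refine ⟨Subgroup.centralizer S, ?_, hmem⟩
  apply le_antisymm
  · -- `C(B) ≤ B = C(S)` as `S ⊆ B`
    exact Subgroup.centralizer_le hSB
  · -- `B` is abelian
    intro x hx
    rw [Subgroup.mem_centralizer_iff]
    intro y hy
    by_cases hx1 : x = 1
    · rw [hx1, one_mul, mul_one]
    by_cases hy1 : y = 1
    · rw [hy1, one_mul, mul_one]
    have ex : ∀ (z : G) (hz : z ≠ 1), z ∈ Subgroup.centralizer S →
        ((f.symm ⟨z, hz⟩ : {h : H // h ≠ 1}) : H) ∈ A := by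
      intro z hz hzB
      rw [hmem _ (f.symm ⟨z, hz⟩).2]
      have : (⟨((f.symm ⟨z, hz⟩ : {h : H // h ≠ 1}) : H), (f.symm ⟨z, hz⟩).2⟩ :
          {h : H // h ≠ 1}) = f.symm ⟨z, hz⟩ := Subtype.ext rfl
      rw [this, f.apply_symm_apply]
      exact hzB
    have hxa := ex x hx1 hx
    have hya := ex y hy1 hy
    have h1 := hab _ hxa _ hya
    have h2 := (hf (f.symm ⟨y, hy1⟩) (f.symm ⟨x, hx1⟩)).mp h1
    rw [f.apply_symm_apply, f.apply_symm_apply] at h2
    exact h2

end QIMG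

end Cfsg.Agent.S3412P
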