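import Mathlib
import Cfsg.Agent.Helper15.S5704SEEDDefs2

/-! # S5704 SEED piece DMAT2 (helper23): the second-difference matrix identity. -/

set_option autoImplicit false
set_option linter.unusedSectionVars false
set_option linter.unusedVariables false

namespace Cfsg.Agent.S5704P

open Matrix Cfsg.Agent.S5637P Cfsg.Agent.S5704S Cfsg.Agent.Helper28.Sg

variable {F : Type*} [Field F] {n a b : ℕ} (e : Fin n ≃ Fin a × Fin b)
variable {Q : QuadraticForm F (Fin n → F)} {GU : Matrix (Fin a) (Fin a) F}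
  {GW : Matrix (Fin b) (Fin b) F} {M : Subgroup (GL (Fin n) F)}

/-- the conjugate-minus-identity of `X` by a transvection, on vectors -/
theorem DMAT2.conj_sub_mulVec (GU : Matrix (Fin a) (Fin a) F) (u : Fin a → F) (c : F)
    (X : Matrix (Fin a) (Fin a) F) (x : Fin a → F) :
    (TU GU u c * X * TU GU u (-c) - X) *ᵥ x =
      (-(c * bf GU x u)) • (X *ᵥ u) +
        (c * bf GU (X *ᵥ x) u - c * c * bf GU x u * bf GU (X *ᵥ u) u) • u := by
  rw [sub_mulVec, ← mulVec_mulVec, ← mulVec_mulVec, TU_mulVec GU u (-c) x, mulVec_add,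
    mulVec_smul, TU_mulVec, bf_add_left, bf_smul_left]
  module

/-- DMAT2 (M): matrix identity. -/
theorem DMAT2.main (hU : IsSymp GU) (u : Fin a → F) (c1 c2 : F) (X : Matrix (Fin a) (Fin a) F) :
    c2 • (TU GU u c1 * X * TU GU u (-c1) - X) - c1 • (TU GU u c2 * X * TU GU u (-c2) - X) =
      (c1 * c2 * (c2 - c1) * bf GU (X *ᵥ u) u) • RK GU u u := by
  refine Matrix.ext_iff_mulVec.mpr fun x => ?_
  rw [sub_mulVec, smul_mulVec, smul_mulVec, DMAT2.conj_sub_mulVec, DMAT2.conj_sub_mulVec,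
    smul_mulVec, RK_mulVec]
  module

end Cfsg.Agent.S5704P
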