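import Mathlib
import Cfsg.Agent.Helper15.S5704SEEDDefs2

/-! # S5704 SEED piece DD (helper23): the double-commutator matrix identity. -/

set_option autoImplicit false
set_option linter.unusedSectionVars false
set_option linter.unusedVariables false

namespace Cfsg.Agent.S5704P

open Matrix Cfsg.Agent.S5637P Cfsg.Agent.S5704S Cfsg.Agent.Helper28.Sg

variable {F : Type*} [Field F] {n a b : ℕ} (e : Fin n ≃ Fin a × Fin b)
variable {Q : QuadraticForm F (Fin n → F)} {GU : Matrix (Fin a) (Fin a) F}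
  {GW : Matrix (Fin b) (Fin b) F} {M : Subgroup (GL (Fin n) F)}

/-- the conjugate-minus-identity of `X` by a transvection, on vectors -/
theorem DD.conj_sub_mulVec (GU : Matrix (Fin a) (Fin a) F) (u : Fin a → F) (c : F)
    (X : Matrix (Fin a) (Fin a) F) (x : Fin a → F) :
    (TU GU u c * X * TU GU u (-c) - X) *ᵥ x =
      (-(c * bf GU x u)) • (X *ᵥ u) +
        (c * bf GU (X *ᵥ x) u - c * c * bf GU x u * bf GU (X *ᵥ u) u) • u := by
  rw [sub_mulVec, ← mulVec_mulVec, ← mulVec_mulVec, TU_mulVec GU u (-c) x, mulVec_add,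
    mulVec_smul, TU_mulVec, bf_add_left, bf_smul_left]
  module

/-- DD (M): matrix identity for the double commutator, `u ⊥ u'`. -/
theorem DD.main (hU : IsSymp GU) {u u' : Fin a → F} (huu' : bf GU u u' = 0)
    (X : Matrix (Fin a) (Fin a) F) :
    TU GU u' 1 * (TU GU u 1 * X * TU GU u (-1) - X) * TU GU u' (-1) -
        (TU GU u 1 * X * TU GU u (-1) - X) =
      bf GU u (X *ᵥ u') • RK GU u u' + bf GU u' (X *ᵥ u) • RK GU u' u := by
  have hu'u : bf GU u' u = 0 := hU.eq_zero_symm huu'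
  have hs1 : bf GU u (X *ᵥ u') = - bf GU (X *ᵥ u') u := hU.skew _ _
  have hs2 : bf GU u' (X *ᵥ u) = - bf GU (X *ᵥ u) u' := hU.skew _ _
  refine Matrix.ext_iff_mulVec.mpr fun x => ?_
  rw [sub_mulVec, ← mulVec_mulVec, ← mulVec_mulVec, TU_mulVec GU u' (-1) x, mulVec_add,
    mulVec_smul, DD.conj_sub_mulVec, DD.conj_sub_mulVec, TU_mulVec, add_mulVec, smul_mulVec,
    smul_mulVec, RK_mulVec, RK_mulVec, hs1, hs2]
  simp only [bf_add_left, bf_smul_left, hu'u, huu']
  module

end Cfsg.Agent.S5704P
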