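import Mathlib
import Cfsg.Prelude.Def_Classical
import Cfsg.Prelude.Def_GeometricClasses
import Cfsg.Agent.Helper5.S5973Defs
import Cfsg.Agent.Helper21.S5977OmegaAdj
import Cfsg.Agent.Helper28.IsoTransport
import Cfsg.Agent.Helper13.S5973TSEX
import Cfsg.Agent.Helper18.S5973INVOLSPLIT

set_option autoImplicit false
open scoped MatrixGroups

/-! S5973 + S5987, piece R2SUFF1 (helper23), core: involutions of `Ω` fix totally singular `m`-spaces,
with the instances of HYPSUM and INVOLOMEGA as hypotheses. -/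

universe u

namespace Cfsg.Agent.S5973P

open Module Cfsg.Agent.Helper28 Cfsg.Agent.Helper28.Spin

namespace R2SUFF1

section Abstract

variable {F V : Type*} [Field F] [Fintype F] [AddCommGroup V] [Module F V] [FiniteDimensional F V]

/-- glue totally singular subspaces of the two eigenspaces of an involutory isometry -/
theorem glue (Q : QuadraticForm F V) (f : Module.End F V) (C N : Submodule F V)
    (hCN : IsCompl C N) (horth : POrth Q C N) (hC : ∀ v ∈ C, f v = v) (hN : ∀ v ∈ N, f v = -v)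
    (hndC : ND (resQ Q C)) (hndN : ND (resQ Q N)) (a b : ℕ)
    (ha : 2 * a + 2 ≤ finrank F C ∨ (IsHyp (resQ Q C) ∧ 2 * a ≤ finrank F C))
    (hb : 2 * b + 2 ≤ finrank F N ∨ (IsHyp (resQ Q N) ∧ 2 * b ≤ finrank F N)) :
    ∃ W : Submodule F V, finrank F W = a + b ∧ (∀ w ∈ W, Q w = 0) ∧ W.map f ≤ W := by
  obtain ⟨U₀, hU₀ts, hU₀fr⟩ := exists_ts (resQ Q C) hndC a ha
  obtain ⟨U', hU'ts, hU'fr⟩ := exists_ts (resQ Q N) hndN b hb
  set A : Submodule F V := U₀.map C.subtype with hA
  set B : Submodule F V := U'.map N.subtype with hB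
  have hAC : A ≤ C := by
    rintro _ ⟨u, -, rfl⟩; exact u.2
  have hBN : B ≤ N := by
    rintro _ ⟨u, -, rfl⟩; exact u.2
  have hAts : ∀ a ∈ A, Q a = 0 := by
    rintro _ ⟨u, hu, rfl⟩
    exact hU₀ts u hu
  have hBts : ∀ b ∈ B, Q b = 0 := by
    rintro _ ⟨u, hu, rfl⟩
    exact hU'ts u hu
  have hAfr : finrank F A = a := by rw [hA, Submodule.finrank_map_subtype_eq, hU₀fr]
  have hBfr : finrank F B = b := by rw [hB, Submodule.finrank_map_subtype_eq, hU'fr]
  have hdisj : A ⊓ B = ⊥ := by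
    rw [eq_bot_iff, ← hCN.inf_eq_bot]
    exact inf_le_inf hAC hBN
  refine ⟨A ⊔ B, ?_, ?_, ?_⟩
  · have := Submodule.finrank_sup_add_finrank_inf_eq A B
    rw [hdisj, finrank_bot, add_zero] at this
    rw [this, hAfr, hBfr]
  · intro w hw
    obtain ⟨a, ha, b, hb, rfl⟩ := Submodule.mem_sup.mp hw
    have h1 : Q (a + b) = Q a + Q b + QuadraticMap.polar Q a b := by
      rw [QuadraticMap.polar]; ring
    rw [h1, hAts a ha, hBts b hb, horth a (hAC ha) b (hBN hb)]
    ring
  · rw [Submodule.map_sup]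
    apply sup_le_sup
    · rintro _ ⟨a, ha, rfl⟩
      rw [hC a (hAC ha)]
      exact ha
    · rintro _ ⟨b, hb, rfl⟩
      rw [hN b (hBN hb)]
      exact B.neg_mem hb

/-- the zero space is hyperbolic -/
theorem isHyp_of_finrank_zero (Q : QuadraticForm F V) (h : finrank F V = 0) : IsHyp Q := by
  refine ⟨⊥, ?_, ?_⟩
  · intro w hw
    rw [Submodule.mem_bot] at hw
    rw [hw, map_zero]
  · rw [finrank_bot, h]

end Abstract

end R2SUFF1

section Matrix

variable {F : Type*} [Field F] [Fintype F] {ι : Type} [Fintype ι] [DecidableEq ι]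

/-- R2SUFF1 (core): involutions of `Ω` fix totally singular `m`-spaces; `hsumH` is HYPSUM and `homega` is
INVOLOMEGA for `x` -/
theorem R2SUFF1.r2_suff_invol_of (h2 : (2 : F) ≠ 0) (Q : QuadraticForm F (ι → F)) (hQ : ND Q) (d : ℕ)
    (hcard : Fintype.card ι = 2 * d) (hyp : Bool) (hhyp : IsHyp Q ↔ hyp = true) (m : ℕ)
    (hmd : m + 1 ≤ d) (hcond : hyp = true → (Fintype.card F % 4 = 1 ∨ m + 2 ≤ d))
    (x : GL ι F) (hx : x ∈ Cfsg.Geo.omegaGL ⇑Q)
    (hxx : (x : Matrix ι ι F) * (x : Matrix ι ι F) = 1)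
    (hsumH : ∀ C N : Submodule F (ι → F), IsCompl C N → POrth Q C N → Even (finrank F C) →
      Even (finrank F N) → (IsHyp Q ↔ (IsHyp (resQ Q C) ↔ IsHyp (resQ Q N))))
    (homega : Even (finrank F (LinearMap.ker (Matrix.toLin' (x : Matrix ι ι F) + 1))) ∧
      (IsHyp (resQ Q (LinearMap.ker (Matrix.toLin' (x : Matrix ι ι F) + 1))) ↔
        IsSquare ((-1 : F) ^
          (finrank F (LinearMap.ker (Matrix.toLin' (x : Matrix ι ι F) + 1)) / 2)))) :
    ∃ W : Submodule F (ι → F), finrank F W = m ∧ (∀ w ∈ W, Q w = 0) ∧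
      W.map (Matrix.toLin' (x : Matrix ι ι F)) ≤ W := by
  have hiso : ∀ v, Q ((x : Matrix ι ι F).mulVec v) = Q v := by
    obtain ⟨g, -, hgx⟩ := hx
    have hg : (x : GL ι F) ∈ Cfsg.isometryGroup F ⇑Q := by
      rw [← hgx]
      exact g.2
    exact (Cfsg.Agent.Helper28.IsoTransport.mem_isometryGroup_iff ⇑Q x).1 hg
  obtain ⟨hcompl, horth, hndC, hndN⟩ := invol_split_q h2 Q hQ (x : Matrix ι ι F) hiso hxx
  obtain ⟨hevN, htypeN⟩ := homega
  set f : Module.End F (ι → F) := Matrix.toLin' (x : Matrix ι ι F) with hf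
  set C := LinearMap.ker (f - 1) with hCdef
  set N := LinearMap.ker (f + 1) with hNdef
  have hsum : finrank F C + finrank F N = 2 * d := by
    rw [Submodule.finrank_add_eq_of_isCompl hcompl, Module.finrank_fintype_fun_eq_card, hcard]
  obtain ⟨k, hk⟩ := hevN
  have hevC : Even (finrank F C) := by
    refine ⟨d - k, ?_⟩
    omega
  have hsumtype := hsumH C N hcompl horth hevC ⟨k, hk⟩
  have hfC : ∀ v ∈ C, f v = v := by
    intro v hv
    rw [hCdef, LinearMap.mem_ker, LinearMap.sub_apply, Module.End.one_apply, sub_eq_zero] at hv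
    exact hv
  have hfN : ∀ v ∈ N, f v = -v := by
    intro v hv
    rw [hNdef, LinearMap.mem_ker, LinearMap.add_apply, Module.End.one_apply,
      add_eq_zero_iff_eq_neg] at hv
    exact hv
  have hC0 : ¬ IsHyp (resQ Q C) → finrank F C ≠ 0 := fun h h0 =>
    h (R2SUFF1.isHyp_of_finrank_zero _ h0)
  have hN0 : ¬ IsHyp (resQ Q N) → finrank F N ≠ 0 := fun h h0 =>
    h (R2SUFF1.isHyp_of_finrank_zero _ h0)
  -- choose the dimensions
  obtain ⟨a, b, hab, ha, hb⟩ : ∃ a b : ℕ, a + b = m ∧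
      (2 * a + 2 ≤ finrank F C ∨ (IsHyp (resQ Q C) ∧ 2 * a ≤ finrank F C)) ∧
      (2 * b + 2 ≤ finrank F N ∨ (IsHyp (resQ Q N) ∧ 2 * b ≤ finrank F N)) := by
    by_cases hC : IsHyp (resQ Q C)
    · by_cases hN : IsHyp (resQ Q N)
      · by_cases hm : 2 * m ≤ finrank F C
        · exact ⟨m, 0, by omega, Or.inr ⟨hC, hm⟩, Or.inr ⟨hN, by omega⟩⟩
        · refine ⟨finrank F C / 2, m - finrank F C / 2, by omega, Or.inr ⟨hC, by omega⟩,
            Or.inr ⟨hN, by omega⟩⟩
      · have hN0' := hN0 hN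
        by_cases hm : 2 * m ≤ finrank F C
        · exact ⟨m, 0, by omega, Or.inr ⟨hC, hm⟩, Or.inl (by omega)⟩
        · refine ⟨finrank F C / 2, m - finrank F C / 2, by omega, Or.inr ⟨hC, by omega⟩,
            Or.inl (by omega)⟩
    · have hC0' := hC0 hC
      by_cases hN : IsHyp (resQ Q N)
      · by_cases hm : 2 * m ≤ finrank F N
        · exact ⟨0, m, by omega, Or.inl (by omega), Or.inr ⟨hN, hm⟩⟩
        · refine ⟨m - finrank F N / 2, finrank F N / 2, by omega, Or.inl (by omega),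
            Or.inr ⟨hN, by omega⟩⟩
      · have hN0' := hN0 hN
        have hQhyp : IsHyp Q := hsumtype.2 (iff_of_false hC hN)
        have hmd2 : m + 2 ≤ d := by
          rcases hcond (hhyp.1 hQhyp) with h1 | h1
          · exfalso
            apply hN
            rw [htypeN]
            have hsq : IsSquare (-1 : F) := by
              rw [FiniteField.isSquare_neg_one_iff]
              omega
            exact hsq.pow _
          · exact h1
        by_cases hm : 2 * m + 2 ≤ finrank F C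
        · exact ⟨m, 0, by omega, Or.inl hm, Or.inl (by omega)⟩
        · refine ⟨finrank F C / 2 - 1, m - (finrank F C / 2 - 1), by omega, Or.inl (by omega),
            Or.inl (by omega)⟩
  obtain ⟨W, hWfr, hWts, hWinv⟩ := R2SUFF1.glue Q f C N hcompl horth hfC hfN hndC hndN a b ha hb
  exact ⟨W, by rw [hWfr, hab], hWts, hWinv⟩

end Matrix

end Cfsg.Agent.S5973P
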