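import Mathlib
import Cfsg.Prelude.Def_Classical
import Cfsg.Prelude.Def_GeometricClasses
import Cfsg.Agent.Helper5.S5973Defs
import Cfsg.Agent.Helper21.S5977OmegaAdj
import Cfsg.Agent.Helper23.S5973R2SUFF1core
import Cfsg.Agent.Helper13.S5973HYPSUM
import Cfsg.Agent.Helper21.S5973INVOLOMEGA

set_option autoImplicit false
open scoped MatrixGroups

/-! S5973 + S5987, piece R2SUFF1 (helper23): involutions of `Ω` fix totally singular `m`-spaces. -/

universe u

namespace Cfsg.Agent.S5973P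

open Module Cfsg.Agent.Helper28 Cfsg.Agent.Helper28.Spin

section Matrix

variable {F : Type*} [Field F] [Fintype F] {ι : Type} [Fintype ι] [DecidableEq ι]

/-- R2SUFF1: involutions of `Ω` fix totally singular `m`-spaces -/
theorem r2_suff_invol (h2 : (2 : F) ≠ 0) (Q : QuadraticForm F (ι → F)) (hQ : ND Q) (d : ℕ)
    (hcard : Fintype.card ι = 2 * d) (hyp : Bool) (hhyp : IsHyp Q ↔ hyp = true) (m : ℕ)
    (hmd : m + 1 ≤ d) (hcond : hyp = true → (Fintype.card F % 4 = 1 ∨ m + 2 ≤ d))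
    (x : GL ι F) (hx : x ∈ Cfsg.Geo.omegaGL ⇑Q)
    (hxx : (x : Matrix ι ι F) * (x : Matrix ι ι F) = 1) :
    ∃ W : Submodule F (ι → F), finrank F W = m ∧ (∀ w ∈ W, Q w = 0) ∧
      W.map (Matrix.toLin' (x : Matrix ι ι F)) ≤ W :=
  R2SUFF1.r2_suff_invol_of h2 Q hQ d hcard hyp hhyp m hmd hcond x hx hxx
    (fun C N hCN horth hC hN => isHyp_iff_of_orth Q hQ C N hCN horth hC hN)
    (invol_omega_type h2 Q hQ x hx hxx)

end Matrix

end Cfsg.Agent.S5973P
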