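import Mathlib
import Cfsg.Prelude.Def_GeometricClasses
import Cfsg.Agent.Helper20.S6000Defs

set_option autoImplicit false
open scoped MatrixGroups Matrix

/-! S6000 piece INVTRACE (driver helper20; helper23): the trace of a nonscalar involution of `GL₄`. -/

namespace Cfsg.Agent.S6000P

namespace INVTRACE

variable {F : Type*} [Field F]

/-- the `+1`-eigenspace of a matrix -/
def Ep (T : M4 F) : Submodule F (Fin 4 → F) := LinearMap.ker (Matrix.toLin' T - 1)

/-- the `-1`-eigenspace of a matrix -/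
def Em (T : M4 F) : Submodule F (Fin 4 → F) := LinearMap.ker (Matrix.toLin' T + 1)

theorem mem_Ep (T : M4 F) (v : Fin 4 → F) : v ∈ Ep T ↔ T.mulVec v = v := by
  unfold Ep
  rw [LinearMap.mem_ker, LinearMap.sub_apply, Module.End.one_apply, sub_eq_zero,
    Matrix.toLin'_apply]

theorem mem_Em (T : M4 F) (v : Fin 4 → F) : v ∈ Em T ↔ T.mulVec v = -v := by
  unfold Em
  rw [LinearMap.mem_ker, LinearMap.add_apply, Module.End.one_apply, add_eq_zero_iff_eq_neg,
    Matrix.toLin'_apply]

/-- the eigenspaces of an involution are complementary -/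
theorem isCompl (h2 : (2 : F) ≠ 0) (T : M4 F) (hT : T * T = 1) : IsCompl (Ep T) (Em T) := by
  have hTT : ∀ v, T.mulVec (T.mulVec v) = v := by
    intro v
    rw [Matrix.mulVec_mulVec, hT, Matrix.one_mulVec]
  constructor
  · rw [disjoint_iff, eq_bot_iff]
    rintro v ⟨hv1, hv2⟩
    rw [SetLike.mem_coe, mem_Ep] at hv1
    rw [SetLike.mem_coe, mem_Em] at hv2
    rw [Submodule.mem_bot]
    have h : (2 : F) • v = 0 := by
      rw [two_smul]
      nth_rewrite 1 [← hv1]
      rw [hv2]
      exact neg_add_cancel v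
    exact (smul_eq_zero.mp h).resolve_left h2
  · rw [codisjoint_iff, eq_top_iff]
    intro v _
    rw [Submodule.mem_sup]
    refine ⟨(2 : F)⁻¹ • (v + T.mulVec v), ?_, (2 : F)⁻¹ • (v - T.mulVec v), ?_, ?_⟩
    · rw [mem_Ep, Matrix.mulVec_smul, Matrix.mulVec_add, hTT, add_comm]
    · rw [mem_Em, Matrix.mulVec_smul, Matrix.mulVec_sub, hTT, ← smul_neg, neg_sub]
    · rw [← smul_add]
      have : v + T.mulVec v + (v - T.mulVec v) = (2 : F) • v := by
        rw [two_smul]; abel
      rw [this, smul_smul, inv_mul_cancel₀ h2, one_smul]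

/-- the trace of an involution in terms of the dimension of its `+1`-eigenspace -/
theorem trace_eq (h2 : (2 : F) ≠ 0) (T : M4 F) (hT : T * T = 1) :
    Matrix.trace T = 2 * (Module.finrank F (Ep T) : F) - 4 := by
  set P : M4 F := (2 : F)⁻¹ • (1 + T) with hP
  have hTT : ∀ v, T.mulVec (T.mulVec v) = v := by
    intro v
    rw [Matrix.mulVec_mulVec, hT, Matrix.one_mulVec]
  have hPv : ∀ v, P.mulVec v = (2 : F)⁻¹ • (v + T.mulVec v) := by
    intro v
    rw [hP, Matrix.smul_mulVec, Matrix.add_mulVec, Matrix.one_mulVec]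
  have hproj : LinearMap.IsProj (Ep T) (Matrix.toLin' P) := by
    refine ⟨?_, ?_⟩
    · intro v
      rw [Matrix.toLin'_apply, hPv, mem_Ep, Matrix.mulVec_smul, Matrix.mulVec_add, hTT, add_comm]
    · intro v hv
      rw [mem_Ep] at hv
      rw [Matrix.toLin'_apply, hPv, hv, ← two_smul F v, smul_smul, inv_mul_cancel₀ h2, one_smul]
  have h1 := hproj.trace
  rw [Matrix.trace_toLin'_eq] at h1
  have h3 : Matrix.trace P = (2 : F)⁻¹ * (4 + Matrix.trace T) := by
    rw [hP, Matrix.trace_smul, Matrix.trace_add, Matrix.trace_one, smul_eq_mul]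
    simp
  rw [h3] at h1
  have h4 : 4 + Matrix.trace T = 2 * (Module.finrank F (Ep T) : F) := by
    rw [← h1, ← mul_assoc, mul_inv_cancel₀ h2, one_mul]
  linear_combination h4

theorem finrank_add (h2 : (2 : F) ≠ 0) (T : M4 F) (hT : T * T = 1) :
    Module.finrank F (Ep T) + Module.finrank F (Em T) = 4 := by
  rw [Submodule.finrank_add_eq_of_isCompl (isCompl h2 T hT), Module.finrank_fintype_fun_eq_card,
    Fintype.card_fin]

/-- a nonscalar involution has both eigenspaces nonzero -/
theorem finrank_pos (h2 : (2 : F) ≠ 0) (T : M4 F) (hT : T * T = 1)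
    (hns : ∀ z : F, T ≠ z • (1 : M4 F)) :
    1 ≤ Module.finrank F (Ep T) ∧ Module.finrank F (Ep T) ≤ 3 := by
  have hadd := finrank_add h2 T hT
  have hc := isCompl h2 T hT
  constructor
  · by_contra h
    have h0 : Module.finrank F (Ep T) = 0 := by omega
    have hbot : Ep T = ⊥ := Submodule.finrank_eq_zero.mp h0
    have htop : Em T = ⊤ := by
      have := hc.sup_eq_top
      rwa [hbot, bot_sup_eq] at this
    apply hns (-1)
    have : Matrix.toLin' T = Matrix.toLin' ((-1 : F) • (1 : M4 F)) := by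
      apply LinearMap.ext
      intro v
      have hv : v ∈ Em T := by rw [htop]; trivial
      rw [mem_Em] at hv
      rw [Matrix.toLin'_apply, hv, Matrix.toLin'_apply, Matrix.smul_mulVec, Matrix.one_mulVec,
        neg_one_smul]
    exact Matrix.toLin'.injective this
  · by_contra h
    have h0 : Module.finrank F (Em T) = 0 := by omega
    have hbot : Em T = ⊥ := Submodule.finrank_eq_zero.mp h0
    have htop : Ep T = ⊤ := by
      have := hc.sup_eq_top
      rwa [hbot, sup_bot_eq] at this
    apply hns 1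
    have : Matrix.toLin' T = Matrix.toLin' ((1 : F) • (1 : M4 F)) := by
      apply LinearMap.ext
      intro v
      have hv : v ∈ Ep T := by rw [htop]; trivial
      rw [mem_Ep] at hv
      rw [Matrix.toLin'_apply, hv, Matrix.toLin'_apply, Matrix.smul_mulVec, Matrix.one_mulVec,
        one_smul]
    exact Matrix.toLin'.injective this

end INVTRACE

/-- INVTRACE -/
theorem trace_of_invol {F : Type*} [Field F] (h2 : (2 : F) ≠ 0) (τ : GL (Fin 4) F)
    (hτ : τ * τ = 1) (hns : ∀ z : F, (τ : M4 F) ≠ z • (1 : M4 F)) :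
    Matrix.trace (τ : M4 F) = 2 ∨ Matrix.trace (τ : M4 F) = 0 ∨ Matrix.trace (τ : M4 F) = -2 := by
  have hT : (τ : M4 F) * (τ : M4 F) = 1 := by
    rw [← Units.val_mul, hτ, Units.val_one]
  have htr := INVTRACE.trace_eq h2 (τ : M4 F) hT
  obtain ⟨h1, h3⟩ := INVTRACE.finrank_pos h2 (τ : M4 F) hT hns
  rw [htr]
  generalize Module.finrank F (INVTRACE.Ep (τ : M4 F)) = r at h1 h3
  interval_cases r
  · right; right; push_cast; ring
  · right; left; push_cast; ring
  · left; push_cast; ring

end Cfsg.Agent.S6000P
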