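import Mathlib
import Cfsg.Agent.Helper16.FHDefs

/-!
Piece C1 of helper16's Feit–Higman project (S1142): the explicit 2-dimensional
matrices `Rm s t x` satisfy the quadratic relations, the braid relation of length `n` for
`x = √(st) cos (2πj/n)`, and only scalar matrices commute with both of them.
-/

set_option autoImplicit false

namespace Cfsg.Agent.Helper23.FHC1

open Cfsg.Agent.Helper16.FH Matrix

theorem one_sub_one_sub (i : Fin 2) : 1 - (1 - i) = i := by
  fin_cases i <;> rfl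

theorem alt_even {𝓐 : Type*} [Monoid 𝓐] (a : Fin 2 → 𝓐) (m : ℕ) (i : Fin 2) :
    alt a (2 * m) i = (a i * a (1 - i)) ^ m := by
  induction m with
  | zero => simp
  | succ m ih =>
    have h : 2 * (m + 1) = (2 * m + 1) + 1 := by ring
    rw [h, alt_succ, alt_succ, one_sub_one_sub, ih, pow_succ', mul_assoc]

theorem alt_odd {𝓐 : Type*} [Monoid 𝓐] (a : Fin 2 → 𝓐) (m : ℕ) (i : Fin 2) :
    alt a (2 * m + 1) i = a i * (a (1 - i) * a i) ^ m := by
  rw [alt_succ, alt_even, one_sub_one_sub]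

/-- Chebyshev-type formula for the powers of an element with `D² = 2ρ cos θ D - ρ²` -/
theorem pow_succ_sin {𝓐 : Type*} [Ring 𝓐] [Algebra ℝ 𝓐] (D : 𝓐) (x c ρ θ : ℝ)
    (hD : D * D = (2 * x) • D - c • (1 : 𝓐)) (hx : x = ρ * Real.cos θ) (hc : c = ρ ^ 2) (k : ℕ) :
    Real.sin θ • D ^ (k + 1) =
      (ρ ^ k * Real.sin (((k : ℝ) + 1) * θ)) • D - (ρ ^ (k + 1) * Real.sin ((k : ℝ) * θ)) • (1 : 𝓐) := by
  induction k with
  | zero => simp
  | succ k ih =>
    have e1 : (((k + 1 : ℕ) : ℝ) + 1) * θ = ((k : ℝ) + 1) * θ + θ := by push_cast; ring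
    have e2 : ((k + 1 : ℕ) : ℝ) * θ = ((k : ℝ) + 1) * θ := by push_cast; ring
    have e3 : (k : ℝ) * θ = ((k : ℝ) + 1) * θ - θ := by ring
    rw [e3, Real.sin_sub] at ih
    rw [e1, e2, Real.sin_add, pow_succ' D (k + 1), ← mul_smul_comm, ih, mul_sub, mul_smul_comm,
      mul_smul_comm, mul_one, hD, hx, hc]
    module

theorem quad0 (s t x : ℝ) :
    Rm s t x 0 * Rm s t x 0 = s • (1 : Matrix (Fin 2) (Fin 2) ℝ) + (s - 1) • Rm s t x 0 := by
  ext i j
  fin_cases i <;> fin_cases j <;> simp [Rm] <;> ring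

theorem quad1 (s t x : ℝ) :
    Rm s t x 1 * Rm s t x 1 = t • (1 : Matrix (Fin 2) (Fin 2) ℝ) + (t - 1) • Rm s t x 1 := by
  ext i j
  fin_cases i <;> fin_cases j <;> simp [Rm] <;> ring

theorem D01_sq (s t x : ℝ) :
    (Rm s t x 0 * Rm s t x 1) * (Rm s t x 0 * Rm s t x 1) =
      (2 * x) • (Rm s t x 0 * Rm s t x 1) - (s * t) • (1 : Matrix (Fin 2) (Fin 2) ℝ) := by
  ext i j
  fin_cases i <;> fin_cases j <;> simp [Rm] <;> ring

theorem D10_sq (s t x : ℝ) :
    (Rm s t x 1 * Rm s t x 0) * (Rm s t x 1 * Rm s t x 0) =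
      (2 * x) • (Rm s t x 1 * Rm s t x 0) - (s * t) • (1 : Matrix (Fin 2) (Fin 2) ℝ) := by
  ext i j
  fin_cases i <;> fin_cases j <;> simp [Rm] <;> ring

theorem braid3 (s x : ℝ) :
    Rm s s x 0 * (Rm s s x 1 * Rm s s x 0) - Rm s s x 1 * (Rm s s x 0 * Rm s s x 1) =
      (2 * x + s) • (Rm s s x 0 - Rm s s x 1) := by
  ext i j
  fin_cases i <;> fin_cases j <;> simp [Rm] <;> ring

end Cfsg.Agent.Helper23.FHC1

namespace Cfsg.Agent.Helper16.FH

open Cfsg.Agent.Helper23.FHC1 Matrix

theorem Rm_schur (s t x : ℝ) (h : s + t + 2 * x ≠ 0) (M : Matrix (Fin 2) (Fin 2) ℝ)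
    (hM : ∀ i, M * Rm s t x i = Rm s t x i * M) : ∃ c : ℝ, M = c • 1 := by
  have h0 := hM 0
  have h1 := hM 1
  have a00 := congrFun (congrFun h0 0) 0
  have a01 := congrFun (congrFun h0 0) 1
  have b00 := congrFun (congrFun h1 0) 0
  simp [Rm, Matrix.mul_apply, Fin.sum_univ_two] at a00 a01 b00
  have hb : M 0 1 * (s + t + 2 * x) = 0 := by linarith
  have hM01 : M 0 1 = 0 := by
    rcases mul_eq_zero.mp hb with hb | hb
    · exact hb
    · exact absurd hb h
  rw [hM01] at a01
  refine ⟨M 0 0, ?_⟩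
  ext i j
  fin_cases i <;> fin_cases j <;> simp
  · exact hM01
  · exact a00
  · linarith

theorem Rm_hecke (n : ℕ) (hn : 2 ≤ n) (s t : ℝ) (hs : 0 < s) (ht : 0 < t)
    (hodd : Odd n → s = t) (j : ℕ) (hj : 1 ≤ j) (hj2 : 2 * j < n) :
    Hecke n ![s, t] (Rm s t (xj n s t j)) := by
  refine ⟨?_, ?_⟩
  · intro i
    fin_cases i
    · exact quad0 s t _
    · exact quad1 s t _
  · have hnpos : (0 : ℝ) < n := Nat.cast_pos.mpr (by omega)
    have hjpos : (0 : ℝ) < j := Nat.cast_pos.mpr (by omega)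
    have hθpos : 0 < 2 * Real.pi * j / n := by
      have := Real.pi_pos
      positivity
    have hθlt : 2 * Real.pi * j / n < Real.pi := by
      rw [div_lt_iff₀ hnpos]
      have h2 : (2 * j : ℝ) < n := by exact_mod_cast hj2
      nlinarith [Real.pi_pos]
    have hsin : Real.sin (2 * Real.pi * j / n) ≠ 0 :=
      (Real.sin_pos_of_pos_of_lt_pi hθpos hθlt).ne'
    have hx : xj n s t j = Real.sqrt (s * t) * Real.cos (2 * Real.pi * j / n) := rfl
    have hρ2 : s * t = Real.sqrt (s * t) ^ 2 := (Real.sq_sqrt (mul_pos hs ht).le).symm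
    rcases Nat.even_or_odd' n with ⟨m, hm | hm⟩
    · -- even length
      obtain ⟨m', rfl⟩ : ∃ m', m = m' + 1 := ⟨m - 1, by omega⟩
      have hmθ : ((m' : ℝ) + 1) * (2 * Real.pi * j / n) = j * Real.pi := by
        rw [hm]
        push_cast
        field_simp
      have hs0 : Real.sin (((m' : ℝ) + 1) * (2 * Real.pi * j / n)) = 0 := by
        rw [hmθ]; exact Real.sin_nat_mul_pi j
      have e0 := pow_succ_sin (Rm s t (xj n s t j) 0 * Rm s t (xj n s t j) 1) _ _ _ _
        (D01_sq s t _) hx hρ2 m'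
      have e1 := pow_succ_sin (Rm s t (xj n s t j) 1 * Rm s t (xj n s t j) 0) _ _ _ _
        (D10_sq s t _) hx hρ2 m'
      rw [hs0, mul_zero, zero_smul, zero_sub] at e0 e1
      have hgoal : ∀ N : ℕ, N = 2 * (m' + 1) → alt (Rm s t (xj n s t j)) N 0 =
          alt (Rm s t (xj n s t j)) N 1 := by
        intro N hN
        subst hN
        rw [alt_even, alt_even]
        simp only [sub_zero, sub_self]
        apply smul_right_injective _ hsin
        show Real.sin (2 * Real.pi * j / n) • _ = Real.sin (2 * Real.pi * j / n) • _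
        rw [e0, e1]
      exact hgoal n hm
    · -- odd length
      have hst : s = t := hodd ⟨m, hm⟩
      subst hst
      obtain ⟨m', rfl⟩ : ∃ m', m = m' + 1 := ⟨m - 1, by omega⟩
      have hρ : Real.sqrt (s * s) = s := Real.sqrt_mul_self hs.le
      have hnθ : ((m' : ℝ) + 1) * (2 * Real.pi * j / n) + 2 * Real.pi * j / n =
          j * (2 * Real.pi) - ((m' : ℝ) + 1) * (2 * Real.pi * j / n) := by
        rw [hm]
        push_cast
        field_simp
        ring
      have h1 : Real.sin (((m' : ℝ) + 1) * (2 * Real.pi * j / n) + 2 * Real.pi * j / n) =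
          - Real.sin (((m' : ℝ) + 1) * (2 * Real.pi * j / n)) := by
        rw [hnθ]; exact Real.sin_nat_mul_two_pi_sub _ j
      rw [Real.sin_add] at h1
      have e3 : (m' : ℝ) * (2 * Real.pi * j / n) =
          ((m' : ℝ) + 1) * (2 * Real.pi * j / n) - 2 * Real.pi * j / n := by ring
      have h2 : Real.sin ((m' : ℝ) * (2 * Real.pi * j / n)) =
          Real.sin (((m' : ℝ) + 1) * (2 * Real.pi * j / n)) *
            (2 * Real.cos (2 * Real.pi * j / n) + 1) := by
        rw [e3, Real.sin_sub]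
        linear_combination (-1 : ℝ) * h1
      have e0 := pow_succ_sin (Rm s s (xj n s s j) 0 * Rm s s (xj n s s j) 1) _ _ _ _
        (D01_sq s s _) hx hρ2 m'
      have e1 := pow_succ_sin (Rm s s (xj n s s j) 1 * Rm s s (xj n s s j) 0) _ _ _ _
        (D10_sq s s _) hx hρ2 m'
      have key := braid3 s (xj n s s j)
      have hab : (Real.sqrt (s * s) ^ m' * Real.sin (((m' : ℝ) + 1) * (2 * Real.pi * j / n))) *
          (2 * xj n s s j + s) =
          Real.sqrt (s * s) ^ (m' + 1) * Real.sin ((m' : ℝ) * (2 * Real.pi * j / n)) := by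
        rw [h2, hx, hρ]
        ring
      have hgoal : ∀ N : ℕ, N = 2 * (m' + 1) + 1 → alt (Rm s s (xj n s s j)) N 0 =
          alt (Rm s s (xj n s s j)) N 1 := by
        intro N hN
        subst hN
        rw [alt_odd, alt_odd]
        simp only [sub_zero, sub_self]
        apply smul_right_injective _ hsin
        show Real.sin (2 * Real.pi * j / n) • _ = Real.sin (2 * Real.pi * j / n) • _
        rw [← mul_smul_comm, ← mul_smul_comm, e0, e1, mul_sub, mul_sub, mul_smul_comm,
          mul_smul_comm, mul_smul_comm, mul_smul_comm, mul_one, mul_one,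
          sub_eq_sub_iff_sub_eq_sub, ← smul_sub, ← smul_sub, key, smul_smul, hab]
      exact hgoal n hm

end Cfsg.Agent.Helper16.FH
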