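import Mathlib
import Cfsg.Agent.Helper16.H4Defs

set_option autoImplicit false

/-!
# S4221 piece GT3: the Brauer–Wielandt formula for a four-group acting on a group of odd order

Wielandt's counting proof: count the pairs `(s, t)` of involutions in the cosets `aH`, `bH`
through the involution `(s t) ^ |H|` of the coset `abH`.
-/

namespace Cfsg.Agent.Helper23.H4

open MulAction Cfsg.Agent.Helper16.H4

variable {K : Type*} [Group K]

theorem gt3_pow_card (H : Subgroup K) [Finite H] {x : K} (hx : x ∈ H) :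
    x ^ Nat.card H = 1 := by
  have h := pow_card_eq_one' (G := H) (x := ⟨x, hx⟩)
  have h2 := congrArg (Subtype.val : H → K) h
  rw [Subgroup.coe_pow, Subgroup.coe_one] at h2
  exact h2

theorem gt3_inv_eq_self {a : K} (ha : a * a = 1) : a⁻¹ = a :=
  inv_eq_of_mul_eq_one_left ha

theorem gt3_conj_inv_mem (H : Subgroup K) {a : K} (ha : a * a = 1)
    (hN : ∀ h ∈ H, a * h * a⁻¹ ∈ H) {h : K} (hh : h ∈ H) : a⁻¹ * h * a ∈ H := by
  have := hN h hh
  rwa [gt3_inv_eq_self ha] at this ⊢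

/-- GT1, conjugacy part. -/
theorem gt3_exists_conj (H : Subgroup K) [Finite H] (hH : Odd (Nat.card H))
    (a : K) (ha : a * a = 1) (hN : ∀ h ∈ H, a * h * a⁻¹ ∈ H)
    (t : K) (ht : t * t = 1) (htH : a⁻¹ * t ∈ H) : ∃ h ∈ H, t = h * a * h⁻¹ := by
  obtain ⟨k, hk⟩ := hH
  have hainv : a⁻¹ = a := gt3_inv_eq_self ha
  obtain ⟨x, hx⟩ : ∃ x, x = a⁻¹ * t := ⟨_, rfl⟩
  have hxH : x ∈ H := by rw [hx]; exact htH
  have htx : t = a * x := by rw [hx]; group
  have hσ : a * x * a⁻¹ = x⁻¹ := by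
    have h1 : a * x * (a * x) = 1 := by rw [← htx]; exact ht
    rw [hainv]
    apply eq_inv_of_mul_eq_one_left
    rw [← h1]; group
  obtain ⟨y, hy⟩ : ∃ y, y = x ^ (k + 1) := ⟨_, rfl⟩
  have hyH : y ∈ H := by rw [hy]; exact H.pow_mem hxH _
  have hyy : y * y = x := by
    rw [hy, ← pow_add]
    have h2 : k + 1 + (k + 1) = Nat.card H + 1 := by omega
    rw [h2, pow_succ, gt3_pow_card H hxH, one_mul]
  have hσy : a * y * a⁻¹ = y⁻¹ := by
    rw [hy, ← conj_pow, hσ, inv_pow]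
  refine ⟨y⁻¹, H.inv_mem hyH, ?_⟩
  have h3 : a * y = y⁻¹ * a := by
    rw [← hσy]; group
  rw [inv_inv, htx, ← hyy]
  calc a * (y * y) = (a * y) * y := by group
    _ = y⁻¹ * a * y := by rw [h3]

/-- GT1, counting part. -/
theorem gt3_card_invCoset (H : Subgroup K) [Finite H] (hH : Odd (Nat.card H))
    (a : K) (ha : a * a = 1) (hN : ∀ h ∈ H, a * h * a⁻¹ ∈ H) :
    Nat.card {t : K // t * t = 1 ∧ a⁻¹ * t ∈ H} * Nat.card {h : K // h ∈ H ∧ h * a = a * h}
      = Nat.card H := by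
  classical
  have hainv : a⁻¹ = a := gt3_inv_eq_self ha
  let C : Subgroup H :=
    { carrier := {h | (h : K) * a = a * (h : K)}
      mul_mem' := by
        intro x y hx hy
        simp only [Set.mem_ofPred_eq] at hx hy ⊢
        rw [Subgroup.coe_mul, mul_assoc, hy, ← mul_assoc, hx, mul_assoc]
      one_mem' := by simp
      inv_mem' := by
        intro x hx
        simp only [Set.mem_ofPred_eq] at hx ⊢
        rw [Subgroup.coe_inv]
        have : (x : K)⁻¹ * ((x : K) * a) * (x : K)⁻¹ = (x : K)⁻¹ * (a * (x : K)) * (x : K)⁻¹ := by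
          rw [hx]
        simpa [mul_assoc] using this.symm }
  have hCmem : ∀ h : H, h ∈ C ↔ (h : K) * a = a * (h : K) := fun h => Iff.rfl
  have hLag := Subgroup.card_eq_card_quotient_mul_card_subgroup C
  -- the conjugation map
  have hf1 : ∀ h : H, ((h : K) * a * (h : K)⁻¹) * ((h : K) * a * (h : K)⁻¹) = 1 := by
    intro h
    calc ((h : K) * a * (h : K)⁻¹) * ((h : K) * a * (h : K)⁻¹)
        = (h : K) * (a * a) * (h : K)⁻¹ := by group
      _ = 1 := by rw [ha]; group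
  have hf2 : ∀ h : H, a⁻¹ * ((h : K) * a * (h : K)⁻¹) ∈ H := by
    intro h
    have h1 : a⁻¹ * (h : K) * a ∈ H := gt3_conj_inv_mem H ha hN h.2
    have h2 : a⁻¹ * ((h : K) * a * (h : K)⁻¹) = (a⁻¹ * (h : K) * a) * (h : K)⁻¹ := by group
    rw [h2]
    exact H.mul_mem h1 (H.inv_mem h.2)
  let f : H → {t : K // t * t = 1 ∧ a⁻¹ * t ∈ H} :=
    fun h => ⟨(h : K) * a * (h : K)⁻¹, hf1 h, hf2 h⟩
  have hfeq : ∀ x y : H, f x = f y ↔ x⁻¹ * y ∈ C := by
    intro x y
    rw [hCmem]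
    simp only [f, Subtype.mk.injEq, Subgroup.coe_mul, Subgroup.coe_inv]
    constructor
    · intro h
      calc (x : K)⁻¹ * (y : K) * a
          = (x : K)⁻¹ * ((y : K) * a * (y : K)⁻¹) * (y : K) := by group
        _ = (x : K)⁻¹ * ((x : K) * a * (x : K)⁻¹) * (y : K) := by rw [h]
        _ = a * ((x : K)⁻¹ * (y : K)) := by group
    · intro h
      calc (x : K) * a * (x : K)⁻¹
          = (x : K) * (a * ((x : K)⁻¹ * (y : K))) * (y : K)⁻¹ := by group
        _ = (x : K) * ((x : K)⁻¹ * (y : K) * a) * (y : K)⁻¹ := by rw [h]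
        _ = (y : K) * a * (y : K)⁻¹ := by group
  have e1 : Nat.card (H ⧸ C) = Nat.card {t : K // t * t = 1 ∧ a⁻¹ * t ∈ H} := by
    apply Nat.card_congr
    refine Equiv.ofBijective
      (Quotient.lift (s := QuotientGroup.leftRel C) f ?_) ⟨?_, ?_⟩
    · intro x y hxy
      exact (hfeq x y).mpr (QuotientGroup.leftRel_apply.mp hxy)
    · intro q1 q2
      refine Quotient.inductionOn₂ q1 q2 ?_
      intro x y hxy
      simp only [Quotient.lift_mk] at hxy
      apply Quotient.sound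
      exact QuotientGroup.leftRel_apply.mpr ((hfeq x y).mp hxy)
    · intro t
      obtain ⟨h, hhH, hth⟩ := gt3_exists_conj H hH a ha hN t.1 t.2.1 t.2.2
      refine ⟨Quotient.mk _ ⟨h, hhH⟩, ?_⟩
      simp only [Quotient.lift_mk]
      apply Subtype.ext
      exact hth.symm
  have e2 : Nat.card C = Nat.card {h : K // h ∈ H ∧ h * a = a * h} := by
    apply Nat.card_congr
    refine ⟨fun h => ⟨(h.1 : K), h.1.2, (hCmem h.1).mp h.2⟩,
      fun h => ⟨⟨h.1, h.2.1⟩, (hCmem _).mpr h.2.2⟩, ?_, ?_⟩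
    · intro h; rfl
    · intro h; rfl
  rw [← e1, ← e2, ← hLag]


/-- Coset bookkeeping: if `a⁻¹ s ∈ H`, `b⁻¹ t ∈ H` and `b` normalizes `H`, then
`(a b)⁻¹ (s t) ∈ H`. -/
theorem gt3_mul_coset (H : Subgroup K) (a b : K) (hb : b * b = 1)
    (hNb : ∀ h ∈ H, b * h * b⁻¹ ∈ H) {s t : K} (hs : a⁻¹ * s ∈ H) (ht : b⁻¹ * t ∈ H) :
    (a * b)⁻¹ * (s * t) ∈ H := by
  have h1 : b⁻¹ * (a⁻¹ * s) * b ∈ H := gt3_conj_inv_mem H hb hNb hs
  have h2 : (a * b)⁻¹ * (s * t) = (b⁻¹ * (a⁻¹ * s) * b) * (b⁻¹ * t) := by group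
  rw [h2]
  exact H.mul_mem h1 ht

/-- If `c` is an involution normalizing the odd-order group `H`, and `u ∈ cH`, then
`z = u ^ |H|` is an involution of `cH`. -/
theorem gt3_pow_facts (H : Subgroup K) [Finite H] (hH : Odd (Nat.card H))
    (c : K) (hc : c * c = 1) (hNc : ∀ h ∈ H, c * h * c⁻¹ ∈ H) {u : K} (hu : c⁻¹ * u ∈ H) :
    (u ^ Nat.card H) * (u ^ Nat.card H) = 1 ∧ c⁻¹ * u ^ Nat.card H ∈ H := by
  obtain ⟨k, hk⟩ := hH
  have hcinv : c⁻¹ = c := gt3_inv_eq_self hc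
  have huu : u * u ∈ H := by
    have h1 : c * (c⁻¹ * u) * c⁻¹ ∈ H := hNc _ hu
    have h2 : u * u = (c * (c⁻¹ * u) * c⁻¹) * (c * c) * (c⁻¹ * u) := by group
    rw [h2, hc, mul_one]
    exact H.mul_mem h1 hu
  constructor
  · rw [← pow_add, ← two_mul, pow_mul, pow_two]
    exact gt3_pow_card H huu
  · have h3 : u ^ Nat.card H = u * (u * u) ^ k := by
      rw [hk, pow_succ', ← pow_two, ← pow_mul]
    rw [h3, ← mul_assoc]
    exact H.mul_mem hu (H.pow_mem huu _)

/-- If `u ∈ cH` commutes with the involution `c`, then `u ^ |H| = c`. -/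
theorem gt3_pow_eq (H : Subgroup K) [Finite H] (hH : Odd (Nat.card H))
    (c : K) (hc : c * c = 1) {u : K} (hu : c⁻¹ * u ∈ H) (hcu : u * c = c * u) :
    u ^ Nat.card H = c := by
  obtain ⟨k, hk⟩ := hH
  have hcinv : c⁻¹ = c := gt3_inv_eq_self hc
  have h1 : u = c * (c⁻¹ * u) := by group
  have hcomm : Commute c (c⁻¹ * u) := by
    show c * (c⁻¹ * u) = c⁻¹ * u * c
    rw [mul_assoc, hcu]
    group
  have hcp : c ^ Nat.card H = c := by
    rw [hk, pow_succ, pow_mul, pow_two, hc, one_pow, one_mul]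
  rw [h1, hcomm.mul_pow, gt3_pow_card H hu, mul_one, hcp]

/-- Conjugating by an element of `H` preserves the involutions of the coset `aH`. -/
theorem gt3_conj_coset (H : Subgroup K) (a : K) (ha : a * a = 1)
    (hN : ∀ h ∈ H, a * h * a⁻¹ ∈ H) {g s : K} (hg : g ∈ H) (hs1 : s * s = 1)
    (hs : a⁻¹ * s ∈ H) :
    (g * s * g⁻¹) * (g * s * g⁻¹) = 1 ∧ a⁻¹ * (g * s * g⁻¹) ∈ H := by
  constructor
  · calc (g * s * g⁻¹) * (g * s * g⁻¹) = g * (s * s) * g⁻¹ := by group
      _ = 1 := by rw [hs1]; group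
  · have h1 : a⁻¹ * g * a ∈ H := gt3_conj_inv_mem H ha hN hg
    have h2 : a⁻¹ * (g * s * g⁻¹) = (a⁻¹ * g * a) * (a⁻¹ * s) * g⁻¹ := by group
    rw [h2]
    exact H.mul_mem (H.mul_mem h1 hs) (H.inv_mem hg)


/-- Involutions of `aH` commuting with `c`, counted inside `C_H(c)` (`a` commutes with `c`). -/
theorem gt3_card_centralized (H : Subgroup K) [Finite H] (hH : Odd (Nat.card H))
    (a c : K) (ha : a * a = 1) (hac : a * c = c * a)
    (hN : ∀ h ∈ H, a * h * a⁻¹ ∈ H) :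
    Nat.card {s : K // s * s = 1 ∧ a⁻¹ * s ∈ H ∧ s * c = c * s} *
      Nat.card {h : K // h ∈ H ∧ h * a = a * h ∧ h * c = c * h}
      = Nat.card {h : K // h ∈ H ∧ h * c = c * h} := by
  classical
  have hainv : a⁻¹ = a := gt3_inv_eq_self ha
  have hac' : a⁻¹ * c = c * a⁻¹ := by rw [hainv]; exact hac
  let L : Subgroup K := H ⊓ Subgroup.centralizer {c}
  have hLmem : ∀ x : K, x ∈ L ↔ x ∈ H ∧ x * c = c * x := by
    intro x
    show x ∈ H ⊓ Subgroup.centralizer {c} ↔ _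
    rw [Subgroup.mem_inf, Subgroup.mem_centralizer_iff]
    constructor
    · rintro ⟨h1, h2⟩
      exact ⟨h1, (h2 c rfl).symm⟩
    · rintro ⟨h1, h2⟩
      refine ⟨h1, ?_⟩
      intro y hy
      rw [Set.mem_singleton_iff] at hy
      rw [hy]; exact h2.symm
  have hLle : L ≤ H := inf_le_left
  have : Finite L := Finite.of_injective (Subgroup.inclusion hLle)
    (Subgroup.inclusion_injective hLle)
  have hLodd : Odd (Nat.card L) := Odd.of_dvd_nat hH (Subgroup.card_dvd_of_le hLle)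
  have hNL : ∀ h ∈ L, a * h * a⁻¹ ∈ L := by
    intro h hh
    rw [hLmem] at hh ⊢
    refine ⟨hN h hh.1, ?_⟩
    calc a * h * a⁻¹ * c = a * h * (a⁻¹ * c) := by group
      _ = a * h * (c * a⁻¹) := by rw [hac']
      _ = a * (h * c) * a⁻¹ := by group
      _ = a * (c * h) * a⁻¹ := by rw [hh.2]
      _ = (a * c) * h * a⁻¹ := by group
      _ = (c * a) * h * a⁻¹ := by rw [hac]
      _ = c * (a * h * a⁻¹) := by group
  have key := gt3_card_invCoset L hLodd a ha hNL
  have e1 : Nat.card {t : K // t * t = 1 ∧ a⁻¹ * t ∈ L} =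
      Nat.card {s : K // s * s = 1 ∧ a⁻¹ * s ∈ H ∧ s * c = c * s} := by
    apply Nat.card_congr
    apply Equiv.subtypeEquivRight
    intro s
    rw [hLmem]
    constructor
    · rintro ⟨h1, h2, h3⟩
      refine ⟨h1, h2, ?_⟩
      calc s * c = a * (a⁻¹ * s * c) := by group
        _ = a * (c * (a⁻¹ * s)) := by rw [h3]
        _ = (a * c) * a⁻¹ * s := by group
        _ = (c * a) * a⁻¹ * s := by rw [hac]
        _ = c * s := by group
    · rintro ⟨h1, h2, h3⟩
      refine ⟨h1, h2, ?_⟩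
      calc a⁻¹ * s * c = a⁻¹ * (s * c) := by group
        _ = a⁻¹ * (c * s) := by rw [h3]
        _ = (a⁻¹ * c) * s := by group
        _ = (c * a⁻¹) * s := by rw [hac']
        _ = c * (a⁻¹ * s) := by group
  have e2 : Nat.card {h : K // h ∈ L ∧ h * a = a * h} =
      Nat.card {h : K // h ∈ H ∧ h * a = a * h ∧ h * c = c * h} := by
    apply Nat.card_congr
    apply Equiv.subtypeEquivRight
    intro h
    rw [hLmem]
    constructor
    · rintro ⟨⟨h1, h2⟩, h3⟩
      exact ⟨h1, h3, h2⟩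
    · rintro ⟨h1, h2, h3⟩
      exact ⟨⟨h1, h3⟩, h2⟩
  have e3 : Nat.card L = Nat.card {h : K // h ∈ H ∧ h * c = c * h} := by
    apply Nat.card_congr
    apply Equiv.subtypeEquivRight
    intro h
    exact hLmem h
  rw [← e1, ← e2, ← e3]
  exact key


/-- Two involutions commute with every involution among the powers of their product. -/
theorem gt3_comm_pow {s t : K} (hs : s * s = 1) (ht : t * t = 1) (n : ℕ)
    (hz : (s * t) ^ n * (s * t) ^ n = 1) :
    s * (s * t) ^ n = (s * t) ^ n * s ∧ t * (s * t) ^ n = (s * t) ^ n * t := by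
  have hsinv : s⁻¹ = s := gt3_inv_eq_self hs
  have htinv : t⁻¹ = t := gt3_inv_eq_self ht
  have hzinv : ((s * t) ^ n)⁻¹ = (s * t) ^ n := gt3_inv_eq_self hz
  have h1 : s * (s * t) * s⁻¹ = (s * t)⁻¹ := by
    rw [mul_inv_rev, htinv]
    calc s * (s * t) * s⁻¹ = (s * s) * t * s⁻¹ := by group
      _ = t * s⁻¹ := by rw [hs, one_mul]
  have h2 : t * (s * t) * t⁻¹ = (s * t)⁻¹ := by
    rw [mul_inv_rev]
    calc t * (s * t) * t⁻¹ = t * s := by group
      _ = t⁻¹ * s⁻¹ := by rw [htinv, hsinv]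
  constructor
  · have h3 : s * (s * t) ^ n * s⁻¹ = (s * t) ^ n := by
      rw [← conj_pow, h1, inv_pow, hzinv]
    calc s * (s * t) ^ n = (s * (s * t) ^ n * s⁻¹) * s := by group
      _ = (s * t) ^ n * s := by rw [h3]
  · have h3 : t * (s * t) ^ n * t⁻¹ = (s * t) ^ n := by
      rw [← conj_pow, h2, inv_pow, hzinv]
    calc t * (s * t) ^ n = (t * (s * t) ^ n * t⁻¹) * t := by group
      _ = (s * t) ^ n * t := by rw [h3]

theorem gt3_conj_comm {g c s z : K} (hz : z = g * c * g⁻¹) (hsz : s * z = z * s) :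
    (g⁻¹ * s * g⁻¹⁻¹) * c = c * (g⁻¹ * s * g⁻¹⁻¹) := by
  have hc : c = g⁻¹ * z * g := by rw [hz]; group
  rw [hc]
  calc g⁻¹ * s * g⁻¹⁻¹ * (g⁻¹ * z * g) = g⁻¹ * (s * z) * g := by group
    _ = g⁻¹ * (z * s) * g := by rw [hsz]
    _ = g⁻¹ * z * g * (g⁻¹ * s * g⁻¹⁻¹) := by group

/-- The main bijection of Wielandt's count. -/
theorem gt3_pairs_count (H : Subgroup K) [Finite H] (hH : Odd (Nat.card H))
    (a b : K) (ha : a * a = 1) (hb : b * b = 1) (hab : a * b = b * a)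
    (hNa : ∀ h ∈ H, a * h * a⁻¹ ∈ H) (hNb : ∀ h ∈ H, b * h * b⁻¹ ∈ H) :
    Nat.card {s : K // s * s = 1 ∧ a⁻¹ * s ∈ H} * Nat.card {t : K // t * t = 1 ∧ b⁻¹ * t ∈ H}
      = Nat.card {z : K // z * z = 1 ∧ (a * b)⁻¹ * z ∈ H} *
        (Nat.card {s : K // s * s = 1 ∧ a⁻¹ * s ∈ H ∧ s * (a * b) = (a * b) * s} *
         Nat.card {t : K // t * t = 1 ∧ b⁻¹ * t ∈ H ∧ t * (a * b) = (a * b) * t}) := by
  classical
  have hc : (a * b) * (a * b) = 1 := by
    calc (a * b) * (a * b) = a * (b * a) * b := by group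
      _ = a * (a * b) * b := by rw [hab]
      _ = (a * a) * (b * b) := by group
      _ = 1 := by rw [ha, hb, one_mul]
  have hNc : ∀ h ∈ H, (a * b) * h * (a * b)⁻¹ ∈ H := by
    intro h hh
    have h1 := hNa _ (hNb h hh)
    have h2 : (a * b) * h * (a * b)⁻¹ = a * (b * h * b⁻¹) * a⁻¹ := by group
    rw [h2]; exact h1
  have hconj : ∀ z : {z : K // z * z = 1 ∧ (a * b)⁻¹ * z ∈ H},
      ∃ g : K, g ∈ H ∧ z.1 = g * (a * b) * g⁻¹ :=
    fun z => gt3_exists_conj H hH (a * b) hc hNc z.1 z.2.1 z.2.2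
  choose g hgH hg using hconj
  rw [← Nat.card_prod, ← Nat.card_prod, ← Nat.card_prod]
  apply Nat.card_congr
  -- the involution attached to a pair
  have hu : ∀ p : {s : K // s * s = 1 ∧ a⁻¹ * s ∈ H} × {t : K // t * t = 1 ∧ b⁻¹ * t ∈ H},
      (a * b)⁻¹ * (p.1.1 * p.2.1) ∈ H :=
    fun p => gt3_mul_coset H a b hb hNb p.1.2.2 p.2.2.2
  let zf : {s : K // s * s = 1 ∧ a⁻¹ * s ∈ H} × {t : K // t * t = 1 ∧ b⁻¹ * t ∈ H} →
      {z : K // z * z = 1 ∧ (a * b)⁻¹ * z ∈ H} :=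
    fun p => ⟨(p.1.1 * p.2.1) ^ Nat.card H,
      (gt3_pow_facts H hH (a * b) hc hNc (hu p)).1, (gt3_pow_facts H hH (a * b) hc hNc (hu p)).2⟩
  have hzf : ∀ p, (zf p).1 = (p.1.1 * p.2.1) ^ Nat.card H := fun p => rfl
  have hcomm : ∀ p, p.1.1 * (zf p).1 = (zf p).1 * p.1.1 ∧ p.2.1 * (zf p).1 = (zf p).1 * p.2.1 := by
    intro p
    rw [hzf]
    exact gt3_comm_pow p.1.2.1 p.2.2.1 _ (gt3_pow_facts H hH (a * b) hc hNc (hu p)).1
  refine
    { toFun := fun p => (zf p,
        (⟨(g (zf p))⁻¹ * p.1.1 * ((g (zf p))⁻¹)⁻¹,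
          (gt3_conj_coset H a ha hNa (H.inv_mem (hgH (zf p))) p.1.2.1 p.1.2.2).1,
          (gt3_conj_coset H a ha hNa (H.inv_mem (hgH (zf p))) p.1.2.1 p.1.2.2).2,
          gt3_conj_comm (hg (zf p)) (hcomm p).1⟩,
         ⟨(g (zf p))⁻¹ * p.2.1 * ((g (zf p))⁻¹)⁻¹,
          (gt3_conj_coset H b hb hNb (H.inv_mem (hgH (zf p))) p.2.2.1 p.2.2.2).1,
          (gt3_conj_coset H b hb hNb (H.inv_mem (hgH (zf p))) p.2.2.1 p.2.2.2).2,
          gt3_conj_comm (hg (zf p)) (hcomm p).2⟩))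
      invFun := fun q =>
        (⟨g q.1 * q.2.1.1 * (g q.1)⁻¹,
          (gt3_conj_coset H a ha hNa (hgH q.1) q.2.1.2.1 q.2.1.2.2.1).1,
          (gt3_conj_coset H a ha hNa (hgH q.1) q.2.1.2.1 q.2.1.2.2.1).2⟩,
         ⟨g q.1 * q.2.2.1 * (g q.1)⁻¹,
          (gt3_conj_coset H b hb hNb (hgH q.1) q.2.2.2.1 q.2.2.2.2.1).1,
          (gt3_conj_coset H b hb hNb (hgH q.1) q.2.2.2.1 q.2.2.2.2.1).2⟩)
      left_inv := ?_
      right_inv := ?_ }
  · intro p
    apply Prod.ext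
    · apply Subtype.ext
      show g (zf p) * ((g (zf p))⁻¹ * p.1.1 * ((g (zf p))⁻¹)⁻¹) * (g (zf p))⁻¹ = p.1.1
      group
    · apply Subtype.ext
      show g (zf p) * ((g (zf p))⁻¹ * p.2.1 * ((g (zf p))⁻¹)⁻¹) * (g (zf p))⁻¹ = p.2.1
      group
  · intro q
    obtain ⟨z, s', t'⟩ := q
    have hu' : (a * b)⁻¹ * (s'.1 * t'.1) ∈ H :=
      gt3_mul_coset H a b hb hNb s'.2.2.1 t'.2.2.1
    have hcu : (s'.1 * t'.1) * (a * b) = (a * b) * (s'.1 * t'.1) := by
      rw [mul_assoc, t'.2.2.2, ← mul_assoc, s'.2.2.2, mul_assoc]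
    have hpow := gt3_pow_eq H hH (a * b) hc hu' hcu
    have hz : zf (⟨g z * s'.1 * (g z)⁻¹,
          (gt3_conj_coset H a ha hNa (hgH z) s'.2.1 s'.2.2.1).1,
          (gt3_conj_coset H a ha hNa (hgH z) s'.2.1 s'.2.2.1).2⟩,
         ⟨g z * t'.1 * (g z)⁻¹,
          (gt3_conj_coset H b hb hNb (hgH z) t'.2.1 t'.2.2.1).1,
          (gt3_conj_coset H b hb hNb (hgH z) t'.2.1 t'.2.2.1).2⟩) = z := by
      apply Subtype.ext
      show ((g z * s'.1 * (g z)⁻¹) * (g z * t'.1 * (g z)⁻¹)) ^ Nat.card H = z.1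
      have h1 : (g z * s'.1 * (g z)⁻¹) * (g z * t'.1 * (g z)⁻¹) =
          g z * (s'.1 * t'.1) * (g z)⁻¹ := by group
      rw [h1, conj_pow, hpow, ← hg z]
    apply Prod.ext
    · exact hz
    · apply Prod.ext
      · apply Subtype.ext
        show (g (zf _))⁻¹ * (g z * s'.1 * (g z)⁻¹) * ((g (zf _))⁻¹)⁻¹ = s'.1
        rw [hz]
        group
      · apply Subtype.ext
        show (g (zf _))⁻¹ * (g z * t'.1 * (g z)⁻¹) * ((g (zf _))⁻¹)⁻¹ = t'.1
        rw [hz]
        group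


theorem brauer_wielandt (H : Subgroup K) [Finite H] (hH : Odd (Nat.card H))
    (a b : K) (ha : a * a = 1) (hb : b * b = 1) (hab : a * b = b * a)
    (hNa : ∀ h ∈ H, a * h * a⁻¹ ∈ H) (hNb : ∀ h ∈ H, b * h * b⁻¹ ∈ H) :
    Nat.card H * (Nat.card {h : K // h ∈ H ∧ h * a = a * h ∧ h * b = b * h}) ^ 2
      = Nat.card {h : K // h ∈ H ∧ h * a = a * h} * Nat.card {h : K // h ∈ H ∧ h * b = b * h}
        * Nat.card {h : K // h ∈ H ∧ h * (a * b) = (a * b) * h} := by
  classical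
  have hc : (a * b) * (a * b) = 1 := by
    calc (a * b) * (a * b) = a * (b * a) * b := by group
      _ = a * (a * b) * b := by rw [hab]
      _ = (a * a) * (b * b) := by group
      _ = 1 := by rw [ha, hb, one_mul]
  have hNc : ∀ h ∈ H, (a * b) * h * (a * b)⁻¹ ∈ H := by
    intro h hh
    have h1 := hNa _ (hNb h hh)
    have h2 : (a * b) * h * (a * b)⁻¹ = a * (b * h * b⁻¹) * a⁻¹ := by group
    rw [h2]; exact h1
  have hac : a * (a * b) = (a * b) * a := by
    rw [mul_assoc, hab]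
  have hbc : b * (a * b) = (a * b) * b := by
    rw [← mul_assoc, ← hab]
  have hA := gt3_card_invCoset H hH a ha hNa
  have hB := gt3_card_invCoset H hH b hb hNb
  have hZ := gt3_card_invCoset H hH (a * b) hc hNc
  have hAc := gt3_card_centralized H hH a (a * b) ha hac hNa
  have hBc := gt3_card_centralized H hH b (a * b) hb hbc hNb
  have hP := gt3_pairs_count H hH a b ha hb hab hNa hNb
  have eγ1 : Nat.card {h : K // h ∈ H ∧ h * a = a * h ∧ h * (a * b) = (a * b) * h} =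
      Nat.card {h : K // h ∈ H ∧ h * a = a * h ∧ h * b = b * h} := by
    apply Nat.card_congr
    apply Equiv.subtypeEquivRight
    intro h
    constructor
    · rintro ⟨h1, h2, h3⟩
      refine ⟨h1, h2, ?_⟩
      have h4 : a * (h * b) = a * (b * h) := by
        calc a * (h * b) = (a * h) * b := by group
          _ = (h * a) * b := by rw [h2]
          _ = h * (a * b) := by group
          _ = (a * b) * h := h3
          _ = a * (b * h) := by group
      exact mul_left_cancel h4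
    · rintro ⟨h1, h2, h3⟩
      refine ⟨h1, h2, ?_⟩
      calc h * (a * b) = (h * a) * b := by group
        _ = (a * h) * b := by rw [h2]
        _ = a * (h * b) := by group
        _ = a * (b * h) := by rw [h3]
        _ = (a * b) * h := by group
  have eγ2 : Nat.card {h : K // h ∈ H ∧ h * b = b * h ∧ h * (a * b) = (a * b) * h} =
      Nat.card {h : K // h ∈ H ∧ h * a = a * h ∧ h * b = b * h} := by
    apply Nat.card_congr
    apply Equiv.subtypeEquivRight
    intro h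
    constructor
    · rintro ⟨h1, h2, h3⟩
      refine ⟨h1, ?_, h2⟩
      have h4 : b * (h * a) = b * (a * h) := by
        calc b * (h * a) = (b * h) * a := by group
          _ = (h * b) * a := by rw [h2]
          _ = h * (b * a) := by group
          _ = h * (a * b) := by rw [hab]
          _ = (a * b) * h := h3
          _ = (b * a) * h := by rw [hab]
          _ = b * (a * h) := by group
      exact mul_left_cancel h4
    · rintro ⟨h1, h2, h3⟩
      refine ⟨h1, h3, ?_⟩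
      calc h * (a * b) = (h * a) * b := by group
        _ = (a * h) * b := by rw [h2]
        _ = a * (h * b) := by group
        _ = a * (b * h) := by rw [h3]
        _ = (a * b) * h := by group
  rw [eγ1] at hAc
  rw [eγ2] at hBc
  -- arithmetic
  generalize Nat.card H = h at *
  generalize Nat.card {h : K // h ∈ H ∧ h * a = a * h ∧ h * b = b * h} = γ at *
  generalize Nat.card {h : K // h ∈ H ∧ h * a = a * h} = ca at *
  generalize Nat.card {h : K // h ∈ H ∧ h * b = b * h} = cb at *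
  generalize Nat.card {h : K // h ∈ H ∧ h * (a * b) = (a * b) * h} = cc at *
  generalize Nat.card {s : K // s * s = 1 ∧ a⁻¹ * s ∈ H} = nA at *
  generalize Nat.card {t : K // t * t = 1 ∧ b⁻¹ * t ∈ H} = nB at *
  generalize Nat.card {z : K // z * z = 1 ∧ (a * b)⁻¹ * z ∈ H} = nZ at *
  generalize Nat.card {s : K // s * s = 1 ∧ a⁻¹ * s ∈ H ∧ s * (a * b) = (a * b) * s} = nAc at *
  generalize Nat.card {t : K // t * t = 1 ∧ b⁻¹ * t ∈ H ∧ t * (a * b) = (a * b) * t} = nBc at *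
  have hpos : 0 < h := by
    rcases hH with ⟨k, hk⟩
    omega
  have hccpos : 0 < cc := by
    rcases Nat.eq_zero_or_pos cc with h0 | h0
    · rw [h0, mul_zero] at hZ
      omega
    · exact h0
  have key : (h * cc) * (h * γ ^ 2) = (h * cc) * (ca * cb * cc) := by
    calc (h * cc) * (h * γ ^ 2) = (nA * ca) * cc * ((nB * cb) * γ ^ 2) := by rw [hA, hB]
      _ = (nA * nB) * (ca * cb * cc * γ ^ 2) := by ring
      _ = (nZ * (nAc * nBc)) * (ca * cb * cc * γ ^ 2) := by rw [hP]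
      _ = (nZ * cc) * ((nAc * γ) * (nBc * γ)) * (ca * cb) := by ring
      _ = h * (cc * cc) * (ca * cb) := by rw [hZ, hAc, hBc]
      _ = (h * cc) * (ca * cb * cc) := by ring
  exact Nat.eq_of_mul_eq_mul_left (Nat.mul_pos hpos hccpos) key

end Cfsg.Agent.Helper23.H4
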