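import Mathlib
import Cfsg.Agent.Helper16.PRBasic

set_option autoImplicit false

/-! S5140 piece FATRANS: `Aut_S(α Q)` and `Aut_S(Q)` have the same cardinality. -/

namespace Cfsg.Agent.Helper16.PR

open Cfsg Cfsg.FusionSystem Cfsg.Agent.Helper25 Cfsg.Agent.Helper26

variable {Ω : Type*} [Group Ω] {S : Subgroup Ω}

/-- the isomorphism `Q ≃ α Q` induced by `α`. -/
noncomputable def fatransEquiv (α : MulAut S) {Q : Subgroup Ω} (hQS : Q ≤ S) :
    Q ≃* imgAut α Q :=
  MulEquiv.ofBijective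
    ({ toFun := fun x => ⟨((α ⟨x, hQS x.2⟩ : S) : Ω), apply_mem_imgAut α hQS x⟩
       map_one' := by
        apply Subtype.ext
        have h1 : (⟨((1 : Q) : Ω), hQS (1 : Q).2⟩ : S) = 1 := rfl
        show ((α ⟨((1 : Q) : Ω), hQS (1 : Q).2⟩ : S) : Ω) = 1
        rw [h1, map_one]; rfl
       map_mul' := by
        intro x y
        apply Subtype.ext
        have h1 : (⟨((x * y : Q) : Ω), hQS (x * y).2⟩ : S) =
            ⟨x, hQS x.2⟩ * ⟨y, hQS y.2⟩ := rfl
        show ((α ⟨((x * y : Q) : Ω), hQS (x * y).2⟩ : S) : Ω) = _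
        rw [h1, map_mul]; rfl } : Q →* imgAut α Q)
    (by
      constructor
      · intro x y hxy
        have h1 : ((α ⟨x, hQS x.2⟩ : S) : Ω) = ((α ⟨y, hQS y.2⟩ : S) : Ω) :=
          congrArg (fun z : imgAut α Q => (z : Ω)) hxy
        have h2 : (⟨x, hQS x.2⟩ : S) = ⟨y, hQS y.2⟩ := α.injective (Subtype.ext h1)
        exact Subtype.ext (congrArg (fun z : S => (z : Ω)) h2)
      · rintro ⟨y, hy⟩
        obtain ⟨x, hx⟩ := exists_of_mem_imgAut α hQS hy
        exact ⟨x, Subtype.ext hx⟩)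

theorem fatransEquiv_coe (α : MulAut S) {Q : Subgroup Ω} (hQS : Q ≤ S) (x : Q) :
    ((fatransEquiv α hQS x : imgAut α Q) : Ω) = ((α ⟨x, hQS x.2⟩ : S) : Ω) := rfl

theorem fatrans_map_eq (α : MulAut S) {Q : Subgroup Ω} (hQS : Q ≤ S) :
    (autInducedBy S Q).map (MulAut.congr (fatransEquiv α hQS)).toMonoidHom =
      autInducedBy S (imgAut α Q) := by
  ext c'
  constructor
  · rintro ⟨c, hc, rfl⟩
    have hc := (mem_autInducedBy_iff S Q c).mp hc
    rw [mem_autInducedBy_iff]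
    obtain ⟨s, hs, hcs⟩ := hc
    refine ⟨((α ⟨s, hs⟩ : S) : Ω), (α ⟨s, hs⟩).2, fun y => ?_⟩
    obtain ⟨x, rfl⟩ := (fatransEquiv α hQS).surjective y
    show ((fatransEquiv α hQS (c ((fatransEquiv α hQS).symm (fatransEquiv α hQS x))) :
      imgAut α Q) : Ω) = _
    rw [MulEquiv.symm_apply_apply, fatransEquiv_coe, fatransEquiv_coe]
    have h1 : (⟨((c x : Q) : Ω), hQS (c x).2⟩ : S) = ⟨s, hs⟩ * ⟨x, hQS x.2⟩ * ⟨s, hs⟩⁻¹ :=
      Subtype.ext (hcs x)
    rw [h1, map_mul, map_mul, map_inv]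
    rfl
  · intro hc'
    rw [mem_autInducedBy_iff] at hc'
    obtain ⟨t, ht, hct⟩ := hc'
    refine ⟨(MulAut.congr (fatransEquiv α hQS)).symm c', ?_, ?_⟩
    · refine (mem_autInducedBy_iff S Q _).mpr ?_
      refine ⟨((α.symm ⟨t, ht⟩ : S) : Ω), (α.symm ⟨t, ht⟩).2, fun x => ?_⟩
      set c := (MulAut.congr (fatransEquiv α hQS)).symm c' with hcdef
      have h0 : fatransEquiv α hQS (c x) = c' (fatransEquiv α hQS x) := by
        show fatransEquiv α hQS ((fatransEquiv α hQS).symm (c' (fatransEquiv α hQS x))) = _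
        rw [MulEquiv.apply_symm_apply]
      have h1 : ((α ⟨((c x : Q) : Ω), hQS (c x).2⟩ : S) : Ω) =
          t * ((α ⟨x, hQS x.2⟩ : S) : Ω) * t⁻¹ := by
        rw [← fatransEquiv_coe, h0, hct, fatransEquiv_coe]
      have h2 : α ⟨((c x : Q) : Ω), hQS (c x).2⟩ =
          α (α.symm ⟨t, ht⟩ * ⟨x, hQS x.2⟩ * (α.symm ⟨t, ht⟩)⁻¹) := by
        rw [map_mul, map_mul, map_inv, MulEquiv.apply_symm_apply]
        exact Subtype.ext h1
      have h3 := α.injective h2
      exact congrArg Subtype.val h3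
    · show (MulAut.congr (fatransEquiv α hQS)) ((MulAut.congr (fatransEquiv α hQS)).symm c') = c'
      rw [MulEquiv.apply_symm_apply]

/-- FATRANS -/
theorem card_autInducedBy_imgAut (α : MulAut S) {Q : Subgroup Ω} (hQS : Q ≤ S) :
    Nat.card (autInducedBy S (imgAut α Q)) = Nat.card (autInducedBy S Q) := by
  rw [← fatrans_map_eq α hQS]
  exact (Nat.card_congr ((autInducedBy S Q).equivMapOfInjective
    (MulAut.congr (fatransEquiv α hQS)).toMonoidHom
    (MulAut.congr (fatransEquiv α hQS)).injective).toEquiv).symm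

end Cfsg.Agent.Helper16.PR
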