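import Mathlib

set_option autoImplicit false
set_option linter.unusedVariables false

namespace Cfsg.Agent.Helper23.ReeP6

theorem q_ge (m : ℕ) (hm : 1 ≤ m) : 27 ≤ 3 ^ (2 * m + 1) := by
  calc 27 = 3 ^ 3 := by norm_num
    _ ≤ 3 ^ (2 * m + 1) := Nat.pow_le_pow_right (by norm_num) (by omega)

theorem Mq_pos (q : ℤ) (h : 27 ≤ q) : 0 < q ^ 2 - q + 1 := by nlinarith

theorem K_ne (q : ℤ) (h : 27 ≤ q) : q ^ 3 * (q - 1) * (q + 1) * (q ^ 2 - q + 1) ≠ 0 := by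
  have h1 : (0 : ℤ) < q ^ 3 := by positivity
  have h2 : (0 : ℤ) < q - 1 := by linarith
  have h3 : (0 : ℤ) < q + 1 := by linarith
  exact (mul_pos (mul_pos (mul_pos h1 h2) h3) (Mq_pos q h)).ne'

theorem cast_sub_sq (q : ℕ) : ((q ^ 2 - q : ℕ) : ℤ) = (q : ℤ) ^ 2 - q := by
  rw [Nat.cast_sub (Nat.le_self_pow (by norm_num) q)]; simp

theorem cast_sq_sub_one (q : ℕ) (hq : 1 ≤ q) : ((q ^ 2 - 1 : ℕ) : ℤ) = (q : ℤ) ^ 2 - 1 := by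
  rw [Nat.cast_sub (Nat.one_le_pow _ _ hq)]; simp

theorem divisors_six (e : ℕ) (he : e ∣ 6) : e = 1 ∨ e = 2 ∨ e = 3 ∨ e = 6 := by
  have h1 : e ≤ 6 := Nat.le_of_dvd (by norm_num) he
  interval_cases e <;> simp_all

/-- P6a -/
theorem P6a_one_class (m : ℕ) (hm : 1 ≤ m) (e c : ℕ) (he : e ∣ 6)
    (h1 : c * e * ((3 ^ (2 * m + 1)) ^ 2 - 3 ^ (2 * m + 1) + 1) =
      (3 ^ (2 * m + 1)) ^ 3 * (3 ^ (2 * m + 1) - 1) * ((3 ^ (2 * m + 1)) ^ 3 + 1) *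
        ((3 ^ (2 * m + 1)) ^ 2 - 3 ^ (2 * m + 1)))
    (h2 : 3 * c = (3 ^ (2 * m + 1)) ^ 4 * (3 ^ (2 * m + 1) - 2) * ((3 ^ (2 * m + 1)) ^ 2 - 1)) :
    False := by
  have hq := q_ge m hm
  generalize 3 ^ (2 * m + 1) = q at *
  have e1 : ((q - 1 : ℕ) : ℤ) = (q : ℤ) - 1 := by rw [Nat.cast_sub (by omega)]; simp
  have e2 : ((q - 2 : ℕ) : ℤ) = (q : ℤ) - 2 := by rw [Nat.cast_sub (by omega)]; simp
  have e3 : ((q ^ 2 - q : ℕ) : ℤ) = (q : ℤ) ^ 2 - q := by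
    rw [Nat.cast_sub (by nlinarith)]; simp
  have e4 : ((q ^ 2 - 1 : ℕ) : ℤ) = (q : ℤ) ^ 2 - 1 := by
    rw [Nat.cast_sub (by nlinarith)]; simp
  have h1z : (c : ℤ) * e * ((q : ℤ) ^ 2 - q + 1) =
      (q : ℤ) ^ 3 * ((q : ℤ) - 1) * ((q : ℤ) ^ 3 + 1) * ((q : ℤ) ^ 2 - q) := by
    have := congrArg (Nat.cast : ℕ → ℤ) h1
    push_cast [e1, e3] at this
    exact this
  have h2z : 3 * (c : ℤ) = (q : ℤ) ^ 4 * ((q : ℤ) - 2) * ((q : ℤ) ^ 2 - 1) := by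
    have := congrArg (Nat.cast : ℕ → ℤ) h2
    push_cast [e2, e4] at this
    exact this
  have hqz : (27 : ℤ) ≤ q := by exact_mod_cast hq
  have key : ((q : ℤ) ^ 4 * ((q : ℤ) - 1) * ((q : ℤ) + 1) * ((q : ℤ) ^ 2 - q + 1)) *
      ((e : ℤ) * ((q : ℤ) - 2) - 3 * ((q : ℤ) - 1)) = 0 := by
    linear_combination 3 * h1z - ((e : ℤ) * ((q : ℤ) ^ 2 - q + 1)) * h2z
  have hne : ((q : ℤ) ^ 4 * ((q : ℤ) - 1) * ((q : ℤ) + 1) * ((q : ℤ) ^ 2 - q + 1)) ≠ 0 := by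
    have h1 : (0 : ℤ) < (q : ℤ) ^ 4 := by positivity
    have h2 : (0 : ℤ) < (q : ℤ) - 1 := by linarith
    have h3 : (0 : ℤ) < (q : ℤ) + 1 := by linarith
    have h4 : (0 : ℤ) < (q : ℤ) ^ 2 - q + 1 := by nlinarith
    exact (mul_pos (mul_pos (mul_pos h1 h2) h3) h4).ne'
  have h5 : (e : ℤ) * ((q : ℤ) - 2) - 3 * ((q : ℤ) - 1) = 0 := by
    rcases mul_eq_zero.mp key with h | h
    · exact absurd h hne
    · exact h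
  rcases divisors_six e he with rfl | rfl | rfl | rfl <;> push_cast at h5 <;> linarith

theorem rhs_lt (q : ℕ) (hq : 27 ≤ q) :
    q ^ 4 * (q - 2) * (q ^ 2 - 1) < q ^ 3 * (q - 1) * (q ^ 3 + 1) := by
  have e1 : ((q - 1 : ℕ) : ℤ) = (q : ℤ) - 1 := by rw [Nat.cast_sub (by omega)]; simp
  have e2 : ((q - 2 : ℕ) : ℤ) = (q : ℤ) - 2 := by rw [Nat.cast_sub (by omega)]; simp
  have e4 : ((q ^ 2 - 1 : ℕ) : ℤ) = (q : ℤ) ^ 2 - 1 := by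
    rw [Nat.cast_sub (by nlinarith)]; simp
  have hqz : (27 : ℤ) ≤ q := by exact_mod_cast hq
  have : ((q ^ 4 * (q - 2) * (q ^ 2 - 1) : ℕ) : ℤ) < ((q ^ 3 * (q - 1) * (q ^ 3 + 1) : ℕ) : ℤ) := by
    push_cast [e1, e2, e4]
    have h : (q : ℤ) ^ 3 * ((q : ℤ) - 1) * ((q : ℤ) ^ 3 + 1) -
        (q : ℤ) ^ 4 * ((q : ℤ) - 2) * ((q : ℤ) ^ 2 - 1) =
        (q : ℤ) ^ 3 * ((q : ℤ) - 1) * ((q : ℤ) + 1) ^ 2 := by ring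
    have hpos : (0 : ℤ) < (q : ℤ) ^ 3 * ((q : ℤ) - 1) * ((q : ℤ) + 1) ^ 2 := by
      have h1 : (0 : ℤ) < (q : ℤ) ^ 3 := by positivity
      have h2 : (0 : ℤ) < (q : ℤ) - 1 := by linarith
      have h3 : (0 : ℤ) < ((q : ℤ) + 1) ^ 2 := by positivity
      exact mul_pos (mul_pos h1 h2) h3
    linarith
  exact_mod_cast this

theorem lower (c e a Ng : ℕ) (ha : 5 ≤ a) (h : c * e * a = Ng * (a - 1)) :
    4 * Ng ≤ 5 * c * e := by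
  obtain ⟨b, rfl⟩ : ∃ b, a = b + 5 := ⟨a - 5, by omega⟩
  have h' : c * e * (b + 5) = Ng * (b + 4) := by
    rw [h]; congr 1
  have h2 : 4 * Ng * (b + 5) ≤ 5 * c * e * (b + 5) := by
    have : 5 * c * e * (b + 5) = 5 * (Ng * (b + 4)) := by rw [← h']; ring
    rw [this]
    nlinarith
  exact Nat.le_of_mul_le_mul_right h2 (by omega)

/-- P6c -/
theorem P6c_three_classes (m : ℕ) (hm : 1 ≤ m) (a₁ a₂ a₃ e₁ e₂ e₃ c₁ c₂ c₃ : ℕ)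
    (he₁ : e₁ ∣ 6) (he₂ : e₂ ∣ 6) (he₃ : e₃ ∣ 6) (ha₁ : 5 ≤ a₁) (ha₂ : 5 ≤ a₂) (ha₃ : 5 ≤ a₃)
    (h1 : c₁ * e₁ * a₁ =
      (3 ^ (2 * m + 1)) ^ 3 * (3 ^ (2 * m + 1) - 1) * ((3 ^ (2 * m + 1)) ^ 3 + 1) * (a₁ - 1))
    (h2 : c₂ * e₂ * a₂ =
      (3 ^ (2 * m + 1)) ^ 3 * (3 ^ (2 * m + 1) - 1) * ((3 ^ (2 * m + 1)) ^ 3 + 1) * (a₂ - 1))
    (h3 : c₃ * e₃ * a₃ =
      (3 ^ (2 * m + 1)) ^ 3 * (3 ^ (2 * m + 1) - 1) * ((3 ^ (2 * m + 1)) ^ 3 + 1) * (a₃ - 1))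
    (h4 : 3 * (c₁ + c₂ + c₃) ≤
      (3 ^ (2 * m + 1)) ^ 4 * (3 ^ (2 * m + 1) - 2) * ((3 ^ (2 * m + 1)) ^ 2 - 1)) :
    False := by
  have hq := q_ge m hm
  generalize 3 ^ (2 * m + 1) = q at *
  have hlt := rhs_lt q hq
  have l1 := lower c₁ e₁ a₁ _ ha₁ h1
  have l2 := lower c₂ e₂ a₂ _ ha₂ h2
  have l3 := lower c₃ e₃ a₃ _ ha₃ h3
  have b1 : e₁ ≤ 6 := Nat.le_of_dvd (by norm_num) he₁
  have b2 : e₂ ≤ 6 := Nat.le_of_dvd (by norm_num) he₂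
  have b3 : e₃ ≤ 6 := Nat.le_of_dvd (by norm_num) he₃
  have k1 : 5 * c₁ * e₁ ≤ 30 * c₁ := by nlinarith
  have k2 : 5 * c₂ * e₂ ≤ 30 * c₂ := by nlinarith
  have k3 : 5 * c₃ * e₃ ≤ 30 * c₃ := by nlinarith
  omega

set_option maxHeartbeats 1000000 in
/-- P6b -/
theorem P6b_two_classes (m : ℕ) (hm : 1 ≤ m) (a₁ a₂ e₁ e₂ c₁ c₂ : ℕ) (he₁ : e₁ ∣ 6) (he₂ : e₂ ∣ 6)
    (ha₁ : 5 ≤ a₁) (ha₂ : 5 ≤ a₂)
    (ha : a₁ * a₂ = (3 ^ (2 * m + 1)) ^ 2 - 3 ^ (2 * m + 1) + 1)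
    (h1 : c₁ * e₁ * a₁ =
      (3 ^ (2 * m + 1)) ^ 3 * (3 ^ (2 * m + 1) - 1) * ((3 ^ (2 * m + 1)) ^ 3 + 1) * (a₁ - 1))
    (h2 : c₂ * e₂ * a₂ =
      (3 ^ (2 * m + 1)) ^ 3 * (3 ^ (2 * m + 1) - 1) * ((3 ^ (2 * m + 1)) ^ 3 + 1) * (a₂ - 1))
    (h3 : 3 * (c₁ + c₂) =
      (3 ^ (2 * m + 1)) ^ 4 * (3 ^ (2 * m + 1) - 2) * ((3 ^ (2 * m + 1)) ^ 2 - 1)) :
    e₁ = 6 ∧ e₂ = 6 ∧
      ((a₁ = 3 ^ (2 * m + 1) - 3 ^ (m + 1) + 1 ∧ a₂ = 3 ^ (2 * m + 1) + 3 ^ (m + 1) + 1) ∨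
       (a₁ = 3 ^ (2 * m + 1) + 3 ^ (m + 1) + 1 ∧ a₂ = 3 ^ (2 * m + 1) - 3 ^ (m + 1) + 1)) := by
  have hq := q_ge m hm
  have hr : (3 ^ (m + 1)) ^ 2 = 3 * 3 ^ (2 * m + 1) := by
    rw [← pow_mul, ← pow_succ']
    congr 1; ring
  have hrq : 3 ^ (m + 1) ≤ 3 ^ (2 * m + 1) := Nat.pow_le_pow_right (by norm_num) (by omega)
  generalize 3 ^ (2 * m + 1) = q at *
  generalize 3 ^ (m + 1) = r at *
  have hlt := rhs_lt q hq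
  have l1 := lower c₁ e₁ a₁ _ ha₁ h1
  have l2 := lower c₂ e₂ a₂ _ ha₂ h2
  have b1 : e₁ ≤ 6 := Nat.le_of_dvd (by norm_num) he₁
  have b2 : e₂ ≤ 6 := Nat.le_of_dvd (by norm_num) he₂
  have k1 : 5 * c₁ * e₁ ≤ 30 * c₁ := by
    calc 5 * c₁ * e₁ ≤ 5 * c₁ * 6 := Nat.mul_le_mul_left _ b1
      _ = 30 * c₁ := by ring
  have k2 : 5 * c₂ * e₂ ≤ 30 * c₂ := by
    calc 5 * c₂ * e₂ ≤ 5 * c₂ * 6 := Nat.mul_le_mul_left _ b2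
      _ = 30 * c₂ := by ring
  -- e₁ = 6
  have he1 : e₁ = 6 := by
    rcases divisors_six e₁ he₁ with rfl | rfl | rfl | rfl
    · exfalso; omega
    · exfalso; omega
    · exfalso; omega
    · rfl
  have he2 : e₂ = 6 := by
    rcases divisors_six e₂ he₂ with rfl | rfl | rfl | rfl
    · exfalso; omega
    · exfalso; omega
    · exfalso; omega
    · rfl
  subst he1 he2
  refine ⟨rfl, rfl, ?_⟩
  -- pass to integers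
  have e1 : ((q - 1 : ℕ) : ℤ) = (q : ℤ) - 1 := by rw [Nat.cast_sub (by omega)]; simp
  have e2 : ((q - 2 : ℕ) : ℤ) = (q : ℤ) - 2 := by rw [Nat.cast_sub (by omega)]; simp
  have e3 := cast_sub_sq q
  have e4 := cast_sq_sub_one q (by omega)
  have e5 : ((a₁ - 1 : ℕ) : ℤ) = (a₁ : ℤ) - 1 := by rw [Nat.cast_sub (by omega)]; simp
  have e6 : ((a₂ - 1 : ℕ) : ℤ) = (a₂ : ℤ) - 1 := by rw [Nat.cast_sub (by omega)]; simp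
  have haz : (a₁ : ℤ) * a₂ = (q : ℤ) ^ 2 - q + 1 := by
    have := congrArg (Nat.cast : ℕ → ℤ) ha
    push_cast [e3] at this
    exact this
  have h1z : (c₁ : ℤ) * 6 * a₁ =
      (q : ℤ) ^ 3 * ((q : ℤ) - 1) * ((q : ℤ) ^ 3 + 1) * ((a₁ : ℤ) - 1) := by
    have := congrArg (Nat.cast : ℕ → ℤ) h1
    push_cast [e1, e5] at this
    exact this
  have h2z : (c₂ : ℤ) * 6 * a₂ =
      (q : ℤ) ^ 3 * ((q : ℤ) - 1) * ((q : ℤ) ^ 3 + 1) * ((a₂ : ℤ) - 1) := by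
    have := congrArg (Nat.cast : ℕ → ℤ) h2
    push_cast [e1, e6] at this
    exact this
  have h3z : 3 * ((c₁ : ℤ) + c₂) = (q : ℤ) ^ 4 * ((q : ℤ) - 2) * ((q : ℤ) ^ 2 - 1) := by
    have := congrArg (Nat.cast : ℕ → ℤ) h3
    push_cast [e2, e4] at this
    exact this
  have hrz : (r : ℤ) ^ 2 = 3 * q := by exact_mod_cast hr
  have hqz : (27 : ℤ) ≤ q := by exact_mod_cast hq
  have key : ((q : ℤ) ^ 3 * ((q : ℤ) - 1) * ((q : ℤ) + 1) * ((q : ℤ) ^ 2 - q + 1)) *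
      ((a₁ : ℤ) + a₂ - (2 * q + 2)) = 0 := by
    linear_combination (a₂ : ℤ) * h1z + (a₁ : ℤ) * h2z -
      (6 * ((c₁ : ℤ) + c₂) - 2 * ((q : ℤ) ^ 3 * ((q : ℤ) - 1) * ((q : ℤ) ^ 3 + 1))) * haz -
      2 * ((q : ℤ) ^ 2 - q + 1) * h3z
  have hne := K_ne (q : ℤ) hqz
  have hsum : (a₁ : ℤ) + a₂ = 2 * q + 2 := by
    rcases mul_eq_zero.mp key with h | h
    · exact absurd h hne
    · linarith
  have hsq : ((a₁ : ℤ) - a₂) ^ 2 = (2 * (r : ℤ)) ^ 2 := by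
    have : ((a₁ : ℤ) - a₂) ^ 2 = ((a₁ : ℤ) + a₂) ^ 2 - 4 * ((a₁ : ℤ) * a₂) := by ring
    rw [this, hsum, haz]
    have : (2 * (r : ℤ)) ^ 2 = 4 * (r : ℤ) ^ 2 := by ring
    rw [this, hrz]; ring
  have hrqz : (r : ℤ) ≤ q := by exact_mod_cast hrq
  have e7 : ((q - r + 1 : ℕ) : ℤ) = (q : ℤ) - r + 1 := by
    rw [Nat.cast_add, Nat.cast_sub hrq]; simp
  rcases sq_eq_sq_iff_eq_or_eq_neg.mp hsq with h | h
  · right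
    constructor
    · have : (a₁ : ℤ) = ((q + r + 1 : ℕ) : ℤ) := by push_cast; linarith
      exact_mod_cast this
    · have : (a₂ : ℤ) = ((q - r + 1 : ℕ) : ℤ) := by rw [e7]; linarith
      exact_mod_cast this
  · left
    constructor
    · have : (a₁ : ℤ) = ((q - r + 1 : ℕ) : ℤ) := by rw [e7]; linarith
      exact_mod_cast this
    · have : (a₂ : ℤ) = ((q + r + 1 : ℕ) : ℤ) := by push_cast; linarith
      exact_mod_cast this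

end Cfsg.Agent.Helper23.ReeP6
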