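import Mathlib
import Cfsg.Agent.Helper2.S2096.Defs

/-! S2096 pieces PIW, PITX, PICS (helper23): the matrices of the Weyl and torus elements. -/

set_option autoImplicit false
set_option linter.unusedSectionVars false
set_option linter.unusedVariables false

namespace Cfsg.Agent.S2096P

open Matrix Cfsg.Agent.S3352P Cfsg.Agent.S3351P Cfsg.Agent.S2086P

variable {n : ℕ} {F : Type*} [Field F] [Fintype F] {M : Type*} [Group M] {X : J n → J n → F → M}

namespace PIW

/-- the action of a model root element on a vector -/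
theorem xm_mulVec (a b : J n) (t : F) (w : J n → F) :
    (xm a b t).mulVec w =
      w + (t * w b) • Pi.single a (1 : F) - (t * w (ng a)) • Pi.single (ng b) (1 : F) := by
  unfold xm
  rw [Matrix.add_mulVec, Matrix.one_mulVec, Matrix.smul_mulVec, Matrix.sub_mulVec,
    Matrix.single_mulVec_eq, Matrix.single_mulVec_eq, one_mul, one_mul, smul_sub, smul_smul,
    smul_smul, add_sub_assoc]

theorem xm_single (a b : J n) (t : F) (c : J n) :
    (xm a b t).mulVec (Pi.single c 1) =
      Pi.single c (1 : F) + (if c = b then t else 0) • Pi.single a (1 : F)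
        - (if c = ng a then t else 0) • Pi.single (ng b) (1 : F) := by
  rw [xm_mulVec, Pi.single_apply, Pi.single_apply]
  congr 2
  · by_cases h : b = c
    · rw [if_pos h, if_pos h.symm, mul_one]
    · rw [if_neg h, if_neg (Ne.symm h), mul_zero]
  · by_cases h : ng a = c
    · rw [if_pos h, if_pos h.symm, mul_one]
    · rw [if_neg h, if_neg (Ne.symm h), mul_zero]

theorem xm_single_of_ne (a b : J n) (t : F) {c : J n} (h1 : c ≠ b) (h2 : c ≠ ng a) :
    (xm a b t).mulVec (Pi.single c 1) = Pi.single c (1 : F) := by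
  rw [xm_single, if_neg h1, if_neg h2, zero_smul, zero_smul, add_zero, sub_zero]

theorem ne_ng_symm {a b : J n} (h : a ≠ ng b) : b ≠ ng a := fun h' => h (by rw [h', ng_ng])

theorem xm_single_fst {a b : J n} (hab : IsRoot a b) (t : F) :
    (xm a b t).mulVec (Pi.single a 1) = Pi.single a (1 : F) :=
  xm_single_of_ne a b t hab.1 (ng_ne a).symm

theorem xm_single_snd {a b : J n} (hab : IsRoot a b) (t : F) :
    (xm a b t).mulVec (Pi.single b 1) = Pi.single b (1 : F) + t • Pi.single a (1 : F) := by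
  rw [xm_single, if_pos rfl, if_neg (ne_ng_symm hab.2), zero_smul, sub_zero]

theorem xm_single_ng_fst {a b : J n} (hab : IsRoot a b) (t : F) :
    (xm a b t).mulVec (Pi.single (ng a) 1) =
      Pi.single (ng a) (1 : F) - t • Pi.single (ng b) (1 : F) := by
  rw [xm_single, if_pos rfl, if_neg (fun h => ne_ng_symm hab.2 h.symm), zero_smul, add_zero]

theorem xm_single_ng_snd {a b : J n} (hab : IsRoot a b) (t : F) :
    (xm a b t).mulVec (Pi.single (ng b) 1) = Pi.single (ng b) (1 : F) :=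
  xm_single_of_ne a b t (ng_ne b) (fun h => hab.1 (ng_injective h).symm)

theorem pi_wX (π : M →* Matrix (J n) (J n) F)
    (hπ : ∀ a b, IsRoot a b → ∀ t : F, π (X a b t) = xm a b t) {a b : J n} (hab : IsRoot a b)
    (t : F) : π (wX X a b t) = xm a b t * xm b a (-t⁻¹) * xm a b t := by
  unfold wX
  rw [map_mul, map_mul, hπ a b hab, hπ b a hab.symm]

/-- the Weyl matrix on `e_b` -/
theorem w_snd {a b : J n} (hab : IsRoot a b) {t : F} (ht : t ≠ 0) :
    (xm a b t * xm b a (-t⁻¹) * xm a b t).mulVec (Pi.single b 1) = t • Pi.single a (1 : F) := by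
  rw [← Matrix.mulVec_mulVec, ← Matrix.mulVec_mulVec, xm_single_snd hab, Matrix.mulVec_add,
    Matrix.mulVec_smul, xm_single_fst hab.symm, xm_single_snd hab.symm]
  have e : (Pi.single b (1 : F) : J n → F) + t • (Pi.single a (1 : F) + (-t⁻¹) • Pi.single b (1 : F))
      = t • Pi.single a (1 : F) := by
    rw [smul_add, smul_smul, mul_neg, mul_inv_cancel₀ ht, neg_one_smul]
    abel
  rw [e, Matrix.mulVec_smul, xm_single_fst hab]

/-- the Weyl matrix on `e_a` -/
theorem w_fst {a b : J n} (hab : IsRoot a b) {t : F} (ht : t ≠ 0) :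
    (xm a b t * xm b a (-t⁻¹) * xm a b t).mulVec (Pi.single a 1) =
      (-t⁻¹) • Pi.single b (1 : F) := by
  rw [← Matrix.mulVec_mulVec, ← Matrix.mulVec_mulVec, xm_single_fst hab, xm_single_snd hab.symm,
    Matrix.mulVec_add, Matrix.mulVec_smul, xm_single_fst hab, xm_single_snd hab]
  rw [smul_add, smul_smul, neg_mul, inv_mul_cancel₀ ht, neg_one_smul]
  abel

/-- the Weyl matrix on `e_{-a}` -/
theorem w_ng_fst {a b : J n} (hab : IsRoot a b) {t : F} (ht : t ≠ 0) :
    (xm a b t * xm b a (-t⁻¹) * xm a b t).mulVec (Pi.single (ng a) 1) =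
      (-t) • Pi.single (ng b) (1 : F) := by
  rw [← Matrix.mulVec_mulVec, ← Matrix.mulVec_mulVec, xm_single_ng_fst hab, Matrix.mulVec_sub,
    Matrix.mulVec_smul, xm_single_ng_snd hab.symm, xm_single_ng_fst hab.symm]
  have e : (Pi.single (ng a) (1 : F) : J n → F)
      - t • (Pi.single (ng b) (1 : F) - (-t⁻¹) • Pi.single (ng a) (1 : F))
      = (-t) • Pi.single (ng b) (1 : F) := by
    rw [smul_sub, smul_smul, mul_neg, mul_inv_cancel₀ ht, neg_one_smul, neg_smul]
    abel
  rw [e, Matrix.mulVec_smul, xm_single_ng_snd hab]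

/-- the Weyl matrix on `e_{-b}` -/
theorem w_ng_snd {a b : J n} (hab : IsRoot a b) {t : F} (ht : t ≠ 0) :
    (xm a b t * xm b a (-t⁻¹) * xm a b t).mulVec (Pi.single (ng b) 1) =
      t⁻¹ • Pi.single (ng a) (1 : F) := by
  rw [← Matrix.mulVec_mulVec, ← Matrix.mulVec_mulVec, xm_single_ng_snd hab,
    xm_single_ng_fst hab.symm, Matrix.mulVec_sub, Matrix.mulVec_smul, xm_single_ng_snd hab,
    xm_single_ng_fst hab]
  rw [smul_sub, smul_smul, neg_mul, inv_mul_cancel₀ ht, neg_one_smul, neg_smul]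
  abel

/-- the Weyl matrix on the other basis vectors -/
theorem w_other {a b : J n} (hab : IsRoot a b) (t : F) {c : J n} (h1 : c ≠ a) (h2 : c ≠ b)
    (h3 : c ≠ ng a) (h4 : c ≠ ng b) :
    (xm a b t * xm b a (-t⁻¹) * xm a b t).mulVec (Pi.single c 1) = Pi.single c (1 : F) := by
  rw [← Matrix.mulVec_mulVec, ← Matrix.mulVec_mulVec, xm_single_of_ne a b t h2 h3,
    xm_single_of_ne b a _ h1 h4, xm_single_of_ne a b t h2 h3]

end PIW

/-- PIW -/
theorem pi_wX_mulVec (π : M →* Matrix (J n) (J n) F)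
    (hπ : ∀ a b, IsRoot a b → ∀ t : F, π (X a b t) = xm a b t) {a b : J n} (hab : IsRoot a b) {t : F} (ht : t ≠ 0) (c : J n) :
    (π (wX X a b t)).mulVec (Pi.single c 1) =
      if c = b then t • Pi.single a 1 else if c = a then (-t⁻¹) • Pi.single b 1
      else if c = ng a then (-t) • Pi.single (ng b) 1
      else if c = ng b then t⁻¹ • Pi.single (ng a) 1 else Pi.single c 1 := by
  rw [PIW.pi_wX π hπ hab]
  by_cases h1 : c = b
  · rw [if_pos h1, h1]
    exact PIW.w_snd hab ht
  rw [if_neg h1]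
  by_cases h2 : c = a
  · rw [if_pos h2, h2]
    exact PIW.w_fst hab ht
  rw [if_neg h2]
  by_cases h3 : c = ng a
  · rw [if_pos h3, h3]
    exact PIW.w_ng_fst hab ht
  rw [if_neg h3]
  by_cases h4 : c = ng b
  · rw [if_pos h4, h4]
    exact PIW.w_ng_snd hab ht
  rw [if_neg h4]
  exact PIW.w_other hab t h2 h1 h3 h4

namespace PITX

theorem pi_tX_mulVec (π : M →* Matrix (J n) (J n) F)
    (hπ : ∀ a b, IsRoot a b → ∀ t : F, π (X a b t) = xm a b t) {a b : J n} (hab : IsRoot a b)
    {t : F} (ht : t ≠ 0) (c : J n) :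
    (π (tX X a b t)).mulVec (Pi.single c 1) = ev a b c t • Pi.single c (1 : F) := by
  have hm1 : (-1 : F) ≠ 0 := neg_ne_zero.mpr one_ne_zero
  have hba : b ≠ a := hab.1.symm
  have hbna : b ≠ ng a := PIW.ne_ng_symm hab.2
  have hanb : a ≠ ng b := hab.2
  unfold tX
  rw [map_mul, ← Matrix.mulVec_mulVec, pi_wX_mulVec π hπ hab hm1 c]
  unfold ev
  by_cases h1 : c = b
  · subst h1
    rw [if_pos rfl, Matrix.mulVec_smul, pi_wX_mulVec π hπ hab ht a, if_neg hab.1, if_pos rfl,
      if_neg (by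
        rintro (h | h)
        · exact hba h
        · exact (ng_ne c).symm h), if_pos (Or.inl rfl), smul_smul]
    congr 1
    rw [neg_one_mul, neg_neg]
  rw [if_neg h1]
  by_cases h2 : c = a
  · subst h2
    rw [if_pos rfl, Matrix.mulVec_smul, pi_wX_mulVec π hπ hab ht b, if_pos rfl, smul_smul,
      if_pos (Or.inl rfl)]
    congr 1
    rw [inv_neg, inv_one, neg_neg, one_mul]
  rw [if_neg h2]
  by_cases h3 : c = ng a
  · subst h3
    have e1 : ng b ≠ b := ng_ne b
    have e2 : ng b ≠ a := fun h => hbna (by rw [← h, ng_ng])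
    have e3 : ng b ≠ ng a := fun h => hba (ng_injective h)
    rw [if_pos rfl, Matrix.mulVec_smul, pi_wX_mulVec π hπ hab ht (ng b), if_neg e1, if_neg e2,
      if_neg e3, if_pos rfl, smul_smul,
      if_neg (by
        rintro (h | h)
        · exact (ng_ne a) h
        · exact hab.1 (ng_injective h)), if_pos (Or.inr rfl)]
    congr 1
    rw [neg_neg, one_mul]
  rw [if_neg h3]
  by_cases h4 : c = ng b
  · subst h4
    have e1 : ng a ≠ b := fun h => hbna h.symm
    have e2 : ng a ≠ a := ng_ne a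
    rw [if_pos rfl, Matrix.mulVec_smul, pi_wX_mulVec π hπ hab ht (ng a), if_neg e1, if_neg e2,
      if_pos rfl, smul_smul, if_pos (Or.inr rfl)]
    congr 1
    rw [inv_neg, inv_one, neg_mul, one_mul, neg_neg]
  rw [if_neg h4, pi_wX_mulVec π hπ hab ht c, if_neg h1, if_neg h2, if_neg h3, if_neg h4,
    if_neg (by
      rintro (h | h)
      · exact h2 h
      · exact h4 h),
    if_neg (by
      rintro (h | h)
      · exact h1 h
      · exact h3 h), one_smul]

end PITX

/-- PITX -/
theorem pi_tX (π : M →* Matrix (J n) (J n) F)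
    (hπ : ∀ a b, IsRoot a b → ∀ t : F, π (X a b t) = xm a b t) {a b : J n} (hab : IsRoot a b) {t : F} (ht : t ≠ 0) :
    π (tX X a b t) = Matrix.diagonal (fun c => ev a b c t) := by
  apply Matrix.ext_of_mulVec_single
  intro c
  rw [PITX.pi_tX_mulVec π hπ hab ht c, Matrix.diagonal_mulVec_single, mul_one]
  ext d
  rw [Pi.smul_apply, Pi.single_apply, Pi.single_apply, smul_eq_mul]
  split_ifs <;> simp

/-- PICS -/
theorem pi_cS_fix (π : M →* Matrix (J n) (J n) F)
    (hπ : ∀ a b, IsRoot a b → ∀ t : F, π (X a b t) = xm a b t) {o k : Fin n} (hko : k ≠ o) {c : J n} (hco : ab c ≠ o) (hck : ab c ≠ k) :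
    (π (cS X o k)).mulVec (Pi.single c 1) = Pi.single c 1 := by
  have h1 : (1 : F) ≠ 0 := one_ne_zero
  have r1 : IsRoot (Sum.inl o : J n) (Sum.inl k) := isRoot_iff_ab.2 (by simpa using hko.symm)
  have r2 : IsRoot (Sum.inl o : J n) (Sum.inr k) := isRoot_iff_ab.2 (by simpa using hko.symm)
  have c1 : c ≠ Sum.inl o := fun h => hco (by rw [h, ab_inl])
  have c2 : c ≠ Sum.inr o := fun h => hco (by rw [h, ab_inr])
  have c3 : c ≠ Sum.inl k := fun h => hck (by rw [h, ab_inl])
  have c4 : c ≠ Sum.inr k := fun h => hck (by rw [h, ab_inr])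
  unfold cS
  rw [map_mul, ← Matrix.mulVec_mulVec, pi_wX_mulVec π hπ r2 h1 c, if_neg c4, if_neg c1,
    ng_inl, ng_inr, if_neg c2, if_neg c3, pi_wX_mulVec π hπ r1 h1 c, if_neg c3, if_neg c1,
    ng_inl, ng_inl, if_neg c2, if_neg c4]

theorem pi_cS_flip (π : M →* Matrix (J n) (J n) F)
    (hπ : ∀ a b, IsRoot a b → ∀ t : F, π (X a b t) = xm a b t) {o j : Fin n} (hjo : j ≠ o) :
    (π (cS X o j)).mulVec (Pi.single (Sum.inl j) 1) = - Pi.single (Sum.inr j) 1 := by
  have h1 : (1 : F) ≠ 0 := one_ne_zero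
  have r1 : IsRoot (Sum.inl o : J n) (Sum.inl j) := isRoot_iff_ab.2 (by simpa using hjo.symm)
  have r2 : IsRoot (Sum.inl o : J n) (Sum.inr j) := isRoot_iff_ab.2 (by simpa using hjo.symm)
  have d1 : (Sum.inl j : J n) ≠ Sum.inr j := by simp
  have d2 : (Sum.inl j : J n) ≠ Sum.inl o := fun h => hjo (Sum.inl_injective h)
  have d3 : (Sum.inl j : J n) ≠ Sum.inr o := by simp
  have d4 : (Sum.inr o : J n) ≠ Sum.inl j := by simp
  have d5 : (Sum.inr o : J n) ≠ Sum.inl o := by simp
  unfold cS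
  rw [map_mul, ← Matrix.mulVec_mulVec, pi_wX_mulVec π hπ r2 h1 (Sum.inl j), if_neg d1, if_neg d2,
    ng_inl, ng_inr, if_neg d3, if_pos rfl, inv_one, one_smul, pi_wX_mulVec π hπ r1 h1 (Sum.inr o),
    if_neg d4, if_neg d5, ng_inl, if_pos rfl, ng_inl, neg_one_smul]

end Cfsg.Agent.S2096P
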