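import Mathlib
import Cfsg.Agent.Helper2.S2096.Defs
import Cfsg.Agent.Helper23.S2096PIW
import Cfsg.Agent.Helper23.S2096PIHALF

/-! S2096 piece ZPI (helper23): the matrix of `zphi p` is the scalar `λ`. -/

set_option autoImplicit false
set_option linter.unusedSectionVars false
set_option linter.unusedVariables false

namespace Cfsg.Agent.S2096P

open Matrix Cfsg.Agent.S3352P Cfsg.Agent.S3351P Cfsg.Agent.S2086P

variable {n : ℕ} {F : Type*} [Field F] [Fintype F] {M : Type*} [Group M] {X : J n → J n → F → M}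

namespace ZPI

/-- the diagonal of `π (Θ (dgS d) * tX (e_o, f_o1) s)` -/
def dvec {n : ℕ} {F : Type*} [Field F] (o o1 : Fin n) (d : Tor n F) (s : F) : J n → F :=
  fun c => Sum.elim (fun i => ((d.1 i : Fˣ) : F)) (fun i => (((d.1 i)⁻¹ : Fˣ) : F)) c *
    ev (Sum.inl o : J n) (Sum.inr o1) c s

theorem dvec_inl {o o1 : Fin n} (d : Tor n F) (s : F) (i : Fin n) :
    dvec o o1 d s (Sum.inl i) = ((d.1 i : Fˣ) : F) * (if i = o ∨ i = o1 then s else 1) := by
  unfold dvec ev
  rw [Sum.elim_inl, ng_inr, ng_inl]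
  congr 1
  by_cases h : i = o ∨ i = o1
  · rw [if_pos h, if_pos]
    rcases h with h | h
    · exact Or.inl (by rw [h])
    · exact Or.inr (by rw [h])
  · rw [if_neg h, if_neg, if_neg]
    · rintro (h' | h') <;> simp at h'
    · rintro (h' | h')
      · exact h (Or.inl (Sum.inl_injective h'))
      · exact h (Or.inr (Sum.inl_injective h'))

theorem dvec_inr {o o1 : Fin n} (d : Tor n F) (s : F) (i : Fin n) :
    dvec o o1 d s (Sum.inr i) =
      (((d.1 i)⁻¹ : Fˣ) : F) * (if i = o ∨ i = o1 then s⁻¹ else 1) := by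
  unfold dvec ev
  rw [Sum.elim_inr, ng_inr, ng_inl]
  congr 1
  rw [if_neg (by rintro (h' | h') <;> simp at h')]
  by_cases h : i = o ∨ i = o1
  · rw [if_pos h, if_pos]
    rcases h with h | h
    · exact Or.inr (by rw [h])
    · exact Or.inl (by rw [h])
  · rw [if_neg h, if_neg]
    rintro (h' | h')
    · exact h (Or.inr (Sum.inr_injective h'))
    · exact h (Or.inl (Sum.inr_injective h'))

/-- the matrix of a product `Θ (dgS d) * tX (e_o, f_o1) s` -/
theorem pi_Theta_mul_tX (π : M →* Matrix (J n) (J n) F)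
    (hπ : ∀ a b, IsRoot a b → ∀ t : F, π (X a b t) = xm a b t)
    (Θ : Matrix.SpecialLinearGroup (Fin n) F →* M)
    (hΘ : ∀ (i j : Fin n) (hij : i ≠ j) (t : F),
      Θ (Matrix.SpecialLinearGroup.transvection hij t) = X (Sum.inl i) (Sum.inl j) t)
    {o o1 : Fin n} (ho : o ≠ o1) (d : Tor n F) {s : F} (hs : s ≠ 0) :
    π (Θ (dgS n F d) * tX X (Sum.inl o) (Sum.inr o1) s) = Matrix.diagonal (dvec o o1 d s) := by
  have hr : IsRoot (Sum.inl o : J n) (Sum.inr o1) := isRoot_iff_ab.2 (by simpa using ho)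
  rw [map_mul, pi_Theta π hπ Θ hΘ, pi_tX π hπ hr hs, ← map_inv, dgS_coe, dgS_coe,
    Matrix.diagonal_transpose, Matrix.fromBlocks_diagonal, Matrix.diagonal_mul_diagonal]
  rfl

end ZPI

/-- ZPI -/
theorem pi_zphi (π : M →* Matrix (J n) (J n) F)
    (hπ : ∀ a b, IsRoot a b → ∀ t : F, π (X a b t) = xm a b t)
    (Θ : Matrix.SpecialLinearGroup (Fin n) F →* M)
    (hΘ : ∀ (i j : Fin n) (hij : i ≠ j) (t : F),
      Θ (Matrix.SpecialLinearGroup.transvection hij t) = X (Sum.inl i) (Sum.inl j) t)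
    (hn : 3 ≤ n) {o o1 : Fin n} (ho : o ≠ o1) (p : ↥(Zpar n F)) :
    π (zphi Θ X ho p) = ((p.1.1 : Fˣ) : F) • (1 : Matrix (J n) (J n) F) := by
  unfold zphi
  rw [ZPI.pi_Theta_mul_tX π hπ Θ hΘ ho _ (Units.ne_zero _), Matrix.smul_one_eq_diagonal]
  congr 1
  funext c
  have hl : p.1.1 ^ 2 = 1 := p.2.1
  have hl' : ((p.1.1 : Fˣ) : F) * ((p.1.1 : Fˣ) : F) = 1 := by
    have := congrArg (fun u : Fˣ => (u : F)) hl
    simpa [pow_two] using this
  rcases c with i | i
  · rw [ZPI.dvec_inl, dpar_apply]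
    by_cases h : i = o ∨ i = o1
    · rw [if_pos h, if_pos h, Units.val_mul, mul_assoc, Units.inv_mul, mul_one]
    · rw [if_neg h, if_neg h, mul_one, mul_one]
  · rw [ZPI.dvec_inr, dpar_apply]
    have hinv : (((p.1.1 : Fˣ)⁻¹ : Fˣ) : F) = ((p.1.1 : Fˣ) : F) := by
      rw [Units.val_inv_eq_inv_val]
      exact inv_eq_of_mul_eq_one_left hl'
    by_cases h : i = o ∨ i = o1
    · rw [if_pos h, if_pos h, mul_inv, inv_inv, Units.val_mul, hinv, mul_assoc,
        ← Units.val_inv_eq_inv_val, Units.mul_inv, mul_one]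
    · rw [if_neg h, if_neg h, mul_one, mul_one, hinv]

end Cfsg.Agent.S2096P
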