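import Mathlib
import Cfsg.Agent.Helper2.S2094.DefsR
import Cfsg.Agent.Helper22.S2094CONJLS
import Cfsg.Agent.Helper26.S2094CONJSL
import Cfsg.Agent.Helper26.S2094CONJSS1
import Cfsg.Agent.Helper11.S2094CONJSS2
import Cfsg.Agent.Helper11.S2094WYID

set_option autoImplicit false
set_option linter.unusedSectionVars false
set_option linter.unusedVariables false

/-! S2094 piece WCONJWB (helper23): Weyl elements conjugated by Weyl elements. -/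

namespace Cfsg.Agent.S2094P

open Matrix Cfsg.Agent.S3352P Cfsg.Agent.S3351P Cfsg.Agent.S2096P Cfsg.Agent.S2086P Cfsg.Agent.RGD

variable {n : ℕ} {F : Type*} [Field F] {M : Type*} [Group M] {X : J n → J n → F → M}
  {Ys : J n → F → M}

namespace WCONJWB

theorem conj_mul3' (g x y z : M) :
    g * (x * y * z) * g⁻¹ = (g * x * g⁻¹) * (g * y * g⁻¹) * (g * z * g⁻¹) := by group

theorem conj_wY (g : M) (c : J n) (u : F) :
    g * wY Ys c u * g⁻¹ =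
      (g * Ys c u * g⁻¹) * (g * Ys (ng c) u⁻¹ * g⁻¹) * (g * Ys c u * g⁻¹) :=
  conj_mul3' g _ _ _

theorem wY_def' (c : J n) (u : F) : wY Ys c u = Ys c u * Ys (ng c) u⁻¹ * Ys c u := rfl

theorem ne_ng_of_ne_ng {a b : J n} (h : a ≠ ng b) : ng a ≠ b := fun h' => h (by rw [← h', ng_ng])

end WCONJWB

theorem wX_conj_wY_fst (hn : 3 ≤ n) (hB : BRel X Ys) {a b : J n} (hab : IsRoot a b) {t : F}
    (ht : t ≠ 0) {u : F} (hu : u ≠ 0) :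
    wX X a b t * wY Ys a u * (wX X a b t)⁻¹ = wY Ys b (-(t⁻¹ * u)) := by
  unfold wY
  rw [WCONJWB.conj_mul3', wX_conj_Ys_fst hB hab ht, wX_conj_Ys_ng_fst hB hab ht]
  have e : -(t * u⁻¹) = (-(t⁻¹ * u))⁻¹ := by
    field_simp
  rw [e]

theorem wX_conj_wY_snd (hn : 3 ≤ n) (hB : BRel X Ys) {a b : J n} (hab : IsRoot a b) {t : F}
    (ht : t ≠ 0) {u : F} (hu : u ≠ 0) :
    wX X a b t * wY Ys b u * (wX X a b t)⁻¹ = wY Ys a (t * u) := by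
  unfold wY
  rw [WCONJWB.conj_mul3', wX_conj_Ys_snd hB hab ht, wX_conj_Ys_ng_snd hB hab ht]
  have e : t⁻¹ * u⁻¹ = (t * u)⁻¹ := by
    field_simp
  rw [e]

theorem wX_conj_wY_of_ne (hn : 3 ≤ n) (hB : BRel X Ys) {a b : J n} (hab : IsRoot a b) (t : F)
    {c : J n} (h1 : c ≠ a) (h2 : c ≠ b) (h3 : c ≠ ng a) (h4 : c ≠ ng b) (u : F) :
    wX X a b t * wY Ys c u * (wX X a b t)⁻¹ = wY Ys c u := by
  unfold wY
  have g1 : ng c ≠ a := WCONJWB.ne_ng_of_ne_ng h3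
  have g2 : ng c ≠ b := WCONJWB.ne_ng_of_ne_ng h4
  have g3 : ng c ≠ ng a := fun h => h1 (ng_injective h)
  have g4 : ng c ≠ ng b := fun h => h2 (ng_injective h)
  rw [WCONJWB.conj_mul3', wX_conj_Ys_of_ne hB hab t h1 h2 h3 h4,
    wX_conj_Ys_of_ne hB hab t g1 g2 g3 g4]

theorem wY_conj_wX_fst (hn : 3 ≤ n) (hB : BRel X Ys) {a d : J n} (had : IsRoot a d) {t : F}
    (ht : t ≠ 0) {u : F} (hu : u ≠ 0) :
    wY Ys a t * wX X a d u * (wY Ys a t)⁻¹ = wX X (ng a) d (-(t⁻¹ * t⁻¹ * u)) := by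
  unfold wX
  rw [WCONJWB.conj_mul3', wY_conj_X_fst hB had ht, wY_conj_X_snd hB had.symm ht]
  have e : -(t * t * -u⁻¹) = -(-(t⁻¹ * t⁻¹ * u))⁻¹ := by
    field_simp
  rw [e]

theorem wY_conj_wX_snd (hn : 3 ≤ n) (hB : BRel X Ys) {c a : J n} (hca : IsRoot c a) {t : F}
    (ht : t ≠ 0) {u : F} (hu : u ≠ 0) :
    wY Ys a t * wX X c a u * (wY Ys a t)⁻¹ = wX X c (ng a) (-(t * t * u)) := by
  unfold wX
  rw [WCONJWB.conj_mul3', wY_conj_X_snd hB hca ht, wY_conj_X_fst hB hca.symm ht]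
  have e : -(t⁻¹ * t⁻¹ * -u⁻¹) = -(-(t * t * u))⁻¹ := by
    field_simp
  rw [e]

theorem wY_conj_wX_ng_fst (hn : 3 ≤ n) (hB : BRel X Ys) {a d : J n} (had : IsRoot a d) {t : F}
    (ht : t ≠ 0) {u : F} (hu : u ≠ 0) :
    wY Ys a t * wX X (ng a) d u * (wY Ys a t)⁻¹ = wX X a d (-(t * t * u)) := by
  unfold wX
  rw [WCONJWB.conj_mul3', wY_conj_X_ng_fst hB had ht, wY_conj_X_ng_snd hB had.symm ht]
  have e : -(t⁻¹ * t⁻¹ * -u⁻¹) = -(-(t * t * u))⁻¹ := by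
    field_simp
  rw [e]

theorem wY_conj_wX_ng_snd (hn : 3 ≤ n) (hB : BRel X Ys) {c a : J n} (hca : IsRoot c a) {t : F}
    (ht : t ≠ 0) {u : F} (hu : u ≠ 0) :
    wY Ys a t * wX X c (ng a) u * (wY Ys a t)⁻¹ = wX X c a (-(t⁻¹ * t⁻¹ * u)) := by
  unfold wX
  rw [WCONJWB.conj_mul3', wY_conj_X_ng_snd hB hca ht, wY_conj_X_ng_fst hB hca.symm ht]
  have e : -(t * t * -u⁻¹) = -(-(t⁻¹ * t⁻¹ * u))⁻¹ := by
    field_simp
  rw [e]

theorem wY_conj_wX_of_ne (hn : 3 ≤ n) (hB : BRel X Ys) (a : J n) (t : F) {c d : J n}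
    (hcd : IsRoot c d) (h1 : c ≠ a) (h2 : c ≠ ng a) (h3 : d ≠ a) (h4 : d ≠ ng a) (u : F) :
    wY Ys a t * wX X c d u * (wY Ys a t)⁻¹ = wX X c d u := by
  unfold wX
  rw [WCONJWB.conj_mul3', wY_conj_X_of_ne hB a t hcd h1 h2 h3 h4,
    wY_conj_X_of_ne hB a t hcd.symm h3 h4 h1 h2]

theorem wY_conj_wY_of_ne (hn : 3 ≤ n) (hB : BRel X Ys) {a c : J n} (hac : IsRoot a c) {t : F}
    (ht : t ≠ 0) {u : F} (hu : u ≠ 0) :
    wY Ys a t * wY Ys c u * (wY Ys a t)⁻¹ = wY Ys c (-u) := by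
  rw [WCONJWB.conj_wY, wY_conj_Ys_of_ne hB hac ht, wY_conj_Ys_of_ne hB (isRoot_ng_right' hac) ht,
    WCONJWB.wY_def', inv_neg]

theorem wY_conj_wY_self (hn : 3 ≤ n) (hB : BRel X Ys) (a : J n) {t : F} (ht : t ≠ 0) {u : F}
    (hu : u ≠ 0) : wY Ys a t * wY Ys a u * (wY Ys a t)⁻¹ = wY Ys a (t * t * u⁻¹) := by
  have hv : t⁻¹ * t⁻¹ * u ≠ 0 := mul_ne_zero (mul_ne_zero (inv_ne_zero ht) (inv_ne_zero ht)) hu
  have e1 : t * t * u⁻¹ = (t⁻¹ * t⁻¹ * u)⁻¹ := by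
    field_simp
  rw [e1, ← wY_swap hn hB a hv, WCONJWB.conj_wY, wY_conj_Ys_self hn hB a ht,
    wY_conj_Ys_ng hn hB a ht, WCONJWB.wY_def', ng_ng, ← e1]

end Cfsg.Agent.S2094P
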