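import Mathlib
import Cfsg.Prelude.Def_Classical
import Cfsg.Prelude.Def_FusionComponents
import Cfsg.Agent.Helper26.S5320.Defs
import Cfsg.Agent.Helper23.S5320EMB
import Cfsg.Agent.Helper23.S5320SWMEM

/-! S5320 piece STAB (driver helper26; helper23): the stabilizer of the decomposition into the two planes. -/

set_option autoImplicit false
set_option linter.unusedSectionVars false
set_option linter.unusedVariables false
set_option linter.unusedSimpArgs false

namespace Cfsg.Agent.S5320P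

open Matrix

variable {F : Type*} [Field F]

namespace STAB

/-- the sign of the plane index -/
def tv : Fin 2 ⊕ Fin 2 → F := Sum.elim ![-1, 1] ![-1, 1]

theorem t1_val : ((t1 : Gt F) : M4 F) = Matrix.diagonal (tv : Fin 2 ⊕ Fin 2 → F) := by
  show embM ((-1 : L F) : M2 F) ((1 : L F) : M2 F) = _
  rw [Matrix.SpecialLinearGroup.coe_neg, Matrix.SpecialLinearGroup.coe_one]
  ext x y
  rcases x with i | i <;> rcases y with j | j <;> fin_cases i <;> fin_cases j <;>
    simp [embM, tv, Matrix.diagonal_apply, Matrix.one_apply]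

/-- entries of a matrix commuting with `t1` -/
theorem entry_zero (h2 : (2 : F) ≠ 0) {G : M4 F}
    (hG : G * Matrix.diagonal (tv : Fin 2 ⊕ Fin 2 → F) = Matrix.diagonal tv * G)
    (x y : Fin 2 ⊕ Fin 2) (hxy : (tv x : F) = -tv y) (hy : (tv y : F) = 1 ∨ (tv y : F) = -1) :
    G x y = 0 := by
  have h1 := congrFun (congrFun hG x) y
  rw [Matrix.mul_diagonal, Matrix.diagonal_mul, hxy] at h1
  have h3 : (2 * tv y) * G x y = 0 := by linear_combination h1
  have h4 : (2 * tv y : F) ≠ 0 := by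
    rcases hy with hy | hy <;> rw [hy]
    · simpa using h2
    · simpa using h2
  exact (mul_eq_zero.mp h3).resolve_left h4

/-- an element commuting with `t1` lies in the base group -/
theorem exists_emb_of_comm (h2 : (2 : F) ≠ 0) (g : Gt F) (h : g * t1 = t1 * g) :
    ∃ u v : L F, g = emb (u, v) := by
  have hG : (g : M4 F) * Matrix.diagonal (tv : Fin 2 ⊕ Fin 2 → F)
      = Matrix.diagonal tv * (g : M4 F) := by
    have := congrArg (fun x : Gt F => (x : M4 F)) h
    have e1 : ((g * t1 : Gt F) : M4 F) = (g : M4 F) * ((t1 : Gt F) : M4 F) := rfl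
    have e2 : ((t1 * g : Gt F) : M4 F) = ((t1 : Gt F) : M4 F) * (g : M4 F) := rfl
    simp only [e1, e2, t1_val] at this
    exact this
  set G : M4 F := (g : M4 F) with hGdef
  have z := entry_zero h2 hG
  have z1 : G (Sum.inl 0) (Sum.inl 1) = 0 := z _ _ (by simp [tv]) (by simp [tv])
  have z2 : G (Sum.inl 1) (Sum.inl 0) = 0 := z _ _ (by simp [tv]) (by simp [tv])
  have z3 : G (Sum.inl 0) (Sum.inr 1) = 0 := z _ _ (by simp [tv]) (by simp [tv])
  have z4 : G (Sum.inl 1) (Sum.inr 0) = 0 := z _ _ (by simp [tv]) (by simp [tv])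
  have z5 : G (Sum.inr 0) (Sum.inl 1) = 0 := z _ _ (by simp [tv]) (by simp [tv])
  have z6 : G (Sum.inr 1) (Sum.inl 0) = 0 := z _ _ (by simp [tv]) (by simp [tv])
  have z7 : G (Sum.inr 0) (Sum.inr 1) = 0 := z _ _ (by simp [tv]) (by simp [tv])
  have z8 : G (Sum.inr 1) (Sum.inr 0) = 0 := z _ _ (by simp [tv]) (by simp [tv])
  let u : M2 F := !![G (Sum.inl 0) (Sum.inl 0), G (Sum.inl 0) (Sum.inr 0);
    G (Sum.inr 0) (Sum.inl 0), G (Sum.inr 0) (Sum.inr 0)]
  let v : M2 F := !![G (Sum.inl 1) (Sum.inl 1), G (Sum.inl 1) (Sum.inr 1);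
    G (Sum.inr 1) (Sum.inl 1), G (Sum.inr 1) (Sum.inr 1)]
  have hGe : G = embM u v := by
    ext x y
    rcases x with i | i <;> rcases y with j | j <;> fin_cases i <;> fin_cases j <;>
      simp [embM, u, v, Matrix.diagonal_apply, z1, z2, z3, z4, z5, z6, z7, z8]
  have hmem : embM u v ∈ Matrix.symplecticGroup (Fin 2) F := by
    rw [← hGe]; exact g.2
  unfold embM at hmem
  rw [SymplecticGroup.fromBlocks_mem_iff] at hmem
  obtain ⟨-, -, h3⟩ := hmem
  have e0 := congrFun (congrFun h3 0) 0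
  have e1 := congrFun (congrFun h3 1) 1
  simp [Matrix.mul_apply, Fin.sum_univ_two, Matrix.diagonal_apply, Matrix.one_apply] at e0 e1
  have hu : u.det = 1 := by
    rw [Matrix.det_fin_two]
    linear_combination e0
  have hv : v.det = 1 := by
    rw [Matrix.det_fin_two]
    linear_combination e1
  refine ⟨⟨u, hu⟩, ⟨v, hv⟩, ?_⟩
  apply Subtype.ext
  rw [emb_val]
  exact hGe

theorem mem_W_of_comm (h2 : (2 : F) ≠ 0) (g : Gt F) (h : g * t1 = t1 * g) :
    g ∈ SW (⊤ : Subgroup (L F)) := by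
  obtain ⟨u, v, rfl⟩ := exists_emb_of_comm h2 g h
  exact (mem_SW_iff ⊤ _).mpr ⟨u, Subgroup.mem_top u, v, Subgroup.mem_top v, Or.inl rfl⟩

/-- `sig * t1 * sig⁻¹ = zG * t1` -/
theorem sig_t1 : (sig : Gt F) * t1 * sig⁻¹ = zG * t1 := by
  unfold t1
  rw [sig_conj, ← emb_neg_one, SWMEM.emb_mul]
  simp

theorem zG_mul_self : (zG : Gt F) * zG = 1 := by
  apply Subtype.ext
  show (-1 : M4 F) * (-1) = 1
  simp

theorem zG_comm (x : Gt F) : (zG : Gt F) * x = x * zG := by
  apply Subtype.ext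
  show (-1 : M4 F) * (x : M4 F) = (x : M4 F) * (-1)
  simp

end STAB

/-- STAB (M): the stabilizer of the decomposition into the two planes. -/
theorem STAB.mem_W (h2 : (2 : F) ≠ 0) (g : Gt F)
    (h : g * t1 * g⁻¹ = t1 ∨ g * t1 * g⁻¹ = zG * t1) : g ∈ SW (⊤ : Subgroup (L F)) := by
  rcases h with h | h
  · apply STAB.mem_W_of_comm h2
    rwa [mul_inv_eq_iff_eq_mul] at h
  · have hsig : (sig : Gt F) ∈ SW (⊤ : Subgroup (L F)) :=
      (le_sup_right : Subgroup.zpowers sig ≤ SW ⊤) (Subgroup.mem_zpowers sig)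
    have h1 : (g * sig) * t1 * (g * sig)⁻¹ = t1 := by
      have e : (g * sig) * t1 * (g * sig)⁻¹ = g * (sig * t1 * sig⁻¹) * g⁻¹ := by
        rw [_root_.mul_inv_rev]; group
      rw [e, STAB.sig_t1, ← mul_assoc, ← STAB.zG_comm g, mul_assoc, mul_assoc, ← mul_assoc g, h,
        ← mul_assoc, STAB.zG_mul_self, one_mul]
    have h3 : g * sig ∈ SW (⊤ : Subgroup (L F)) := by
      apply STAB.mem_W_of_comm h2
      rwa [mul_inv_eq_iff_eq_mul] at h1
    have := (SW (⊤ : Subgroup (L F))).mul_mem h3 ((SW (⊤ : Subgroup (L F))).inv_mem hsig)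
    rwa [mul_assoc, mul_inv_cancel, mul_one] at this

end Cfsg.Agent.S5320P
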