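import Mathlib
import Cfsg.Prelude.Def_GeometricClasses
import Cfsg.Agent.Helper18.S5707.Defs

/-!
# S5707 piece K2CONJ (driver helper18; helper23): `sl₂` is invariant under conjugation (characteristic 2)
-/

set_option autoImplicit false

namespace Cfsg.Agent.S5707P

open Matrix

variable {F : Type*} [Field F] {k t : ℕ}

namespace K2CONJ

/-- in characteristic 2, `L2` is the space of trace-zero matrices -/
theorem mem_L2_iff_trace [CharP F 2] (A : Matrix (Fin 2) (Fin 2) F) :
    A ∈ (L2 : Submodule F (Matrix (Fin 2) (Fin 2) F)) ↔ A.trace = 0 := by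
  show A 0 0 = A 1 1 ↔ _
  rw [Matrix.trace_fin_two]
  constructor
  · intro h
    rw [h]
    exact CharTwo.add_self_eq_zero _
  · intro h
    have h1 : A 0 0 = - A 1 1 := eq_neg_of_add_eq_zero_left h
    rw [h1, CharTwo.neg_eq]

end K2CONJ

/-- piece K2CONJ (S): `L2 = sl₂` is invariant under conjugation (trace). -/
theorem K2.L2_conj [CharP F 2] (g : GL (Fin 2) F) (A : Matrix (Fin 2) (Fin 2) F) (hA : A ∈ L2) :
    (g : Matrix (Fin 2) (Fin 2) F) * A * ((g⁻¹ : GL (Fin 2) F) : Matrix (Fin 2) (Fin 2) F) ∈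
      (L2 : Submodule F (Matrix (Fin 2) (Fin 2) F)) := by
  rw [K2CONJ.mem_L2_iff_trace] at hA ⊢
  rw [Matrix.trace_units_conj, hA]

end Cfsg.Agent.S5707P
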