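import Mathlib
import Cfsg.Agent.Helper23.S5961Defs
import Cfsg.Agent.Helper2.SpCard
import Cfsg.Agent.Helper18.S5961ARITH
import Cfsg.Agent.Helper18.S5961DSUM
import Cfsg.Agent.Helper23.S5961STRUCT

set_option autoImplicit false

/-! # S5961, piece ELT: elements of order `r` of `Sp_2d(q)` with prescribed fixed space. -/

namespace Cfsg.Agent.S5961P

namespace ELT

open Cfsg.Agent.S5961P Cfsg.Agent.Helper2.SympInvol Cfsg.Agent.Helper2.SympUnits

/-- backup of CAUCHY -/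
theorem exists_fpf_sp_b {F : Type*} [Field F] [Fintype F] {p : ℕ} [Fact p.Prime] [CharP F p]
    (r : ℕ) [Fact r.Prime] (hr2 : r ≠ 2) (hrp : r ≠ p) (h : ℕ) (hh : 2 * h = cc F r) :
    ∃ x : Matrix.symplecticGroup (Fin h) F,
      (x : Matrix (Fin h ⊕ Fin h) (Fin h ⊕ Fin h) F) ^ r = 1 ∧
      LinearMap.ker (Matrix.toLin' (x : Matrix (Fin h ⊕ Fin h) (Fin h ⊕ Fin h) F) - 1) = ⊥ := by
  have hr : r.Prime := Fact.out
  obtain ⟨-, hcpos, -, -, -, hrdvd, -, -⟩ := cc_arith (F := F) (p := p) r hr2 hrp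
  have hh1 : 1 ≤ h := by omega
  have hcard : r ∣ Nat.card (Matrix.symplecticGroup (Fin h) F) := by
    rw [Cfsg.Agent.Helper2.Sp.card_symplectic_fin]
    apply dvd_mul_of_dvd_right
    have hmem : h - 1 ∈ Finset.range h := Finset.mem_range.mpr (by omega)
    refine dvd_trans ?_ (Finset.dvd_prod_of_mem (fun i => Fintype.card F ^ (2 * (i + 1)) - 1) hmem)
    have : 2 * (h - 1 + 1) = cc F r := by omega
    show r ∣ Fintype.card F ^ (2 * (h - 1 + 1)) - 1
    rw [this]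
    exact hrdvd
  obtain ⟨x, hx⟩ := exists_prime_orderOf_dvd_card' r hcard
  have hxr : (x : Matrix (Fin h ⊕ Fin h) (Fin h ⊕ Fin h) F) ^ r = 1 := by
    have h1 : x ^ r = 1 := by rw [← hx]; exact pow_orderOf_eq_one x
    have h2 := congrArg (fun g : Matrix.symplecticGroup (Fin h) F =>
      (g : Matrix (Fin h ⊕ Fin h) (Fin h ⊕ Fin h) F)) h1
    exact h2
  have hx1 : x ≠ 1 := by
    intro h1
    rw [h1, orderOf_one] at hx
    exact hr.one_lt.ne hx
  refine ⟨x, hxr, ?_⟩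
  obtain ⟨f, hfdef⟩ : ∃ f : Module.End F (Fin h ⊕ Fin h → F),
    f = Matrix.toLin' (x : Matrix (Fin h ⊕ Fin h) (Fin h ⊕ Fin h) F) := ⟨_, rfl⟩
  rw [← hfdef]
  have hfr : f ^ r = 1 := by
    rw [hfdef, ← Matrix.toLin'_pow, hxr, Matrix.toLin'_one]; rfl
  have hfB : ∀ u v, sB h F (f u) (f v) = sB h F u v := by
    rw [hfdef]; exact sB_isometry h F x
  have hdvd := sp_dvd (p := p) r hr2 hrp (sB h F) (sB_alt h F) f hfB hfr ⊤ le_top (sB_nondeg h F)
  have hnV : Module.finrank F (Fin h ⊕ Fin h → F) = 2 * h := by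
    rw [Module.finrank_fintype_fun_eq_card, Fintype.card_sum, Fintype.card_fin]; ring
  rw [top_inf_eq, finrank_top, hnV, hh] at hdvd
  have hkle : Module.finrank F (LinearMap.ker (f - 1)) ≤ cc F r := by
    rw [← hh, ← hnV]; exact Submodule.finrank_le _
  obtain ⟨s, hs⟩ := hdvd
  apply Submodule.finrank_eq_zero.mp
  rcases Nat.eq_zero_or_pos s with h0 | h0
  · -- fixed space is everything: `x = 1`
    exfalso
    rw [h0, mul_zero] at hs
    have hfull : Module.finrank F (LinearMap.ker (f - 1)) = Module.finrank F (Fin h ⊕ Fin h → F) := by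
      rw [hnV, hh]; omega
    have htop : LinearMap.ker (f - 1) = ⊤ := Submodule.eq_top_of_finrank_eq hfull
    have hf1 : f = 1 := by
      have := LinearMap.ker_eq_top.mp htop
      exact sub_eq_zero.mp this
    apply hx1
    apply Subtype.ext
    apply Matrix.toLin'.injective
    rw [← hfdef, hf1]
    have : ((1 : Matrix.symplecticGroup (Fin h) F) :
        Matrix (Fin h ⊕ Fin h) (Fin h ⊕ Fin h) F) = 1 := rfl
    rw [this, Matrix.toLin'_one]; rfl
  · have : cc F r * 1 ≤ cc F r * s := Nat.mul_le_mul_left _ h0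
    omega


theorem finrank_ker_one_sub_one {F : Type*} [Field F] (d : ℕ) :
    Module.finrank F (LinearMap.ker (Matrix.toLin'
      (1 : Matrix (Fin d ⊕ Fin d) (Fin d ⊕ Fin d) F) - 1)) = 2 * d := by
  rw [Matrix.toLin'_one]
  have : (LinearMap.id : (Fin d ⊕ Fin d → F) →ₗ[F] (Fin d ⊕ Fin d → F)) - 1 = 0 := sub_self _
  rw [this, LinearMap.ker_zero, finrank_top, Module.finrank_fintype_fun_eq_card,
    Fintype.card_sum, Fintype.card_fin]
  ring

theorem aux {F : Type*} [Field F] (r h : ℕ) (x0 : Matrix.symplecticGroup (Fin h) F)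
    (hx0 : (x0 : Matrix (Fin h ⊕ Fin h) (Fin h ⊕ Fin h) F) ^ r = 1)
    (hk0 : LinearMap.ker (Matrix.toLin'
      (x0 : Matrix (Fin h ⊕ Fin h) (Fin h ⊕ Fin h) F) - 1) = ⊥) :
    ∀ m d : ℕ, h * m ≤ d → ∃ x : Matrix.symplecticGroup (Fin d) F,
      (x : Matrix (Fin d ⊕ Fin d) (Fin d ⊕ Fin d) F) ^ r = 1 ∧
      Module.finrank F (LinearMap.ker (Matrix.toLin'
        (x : Matrix (Fin d ⊕ Fin d) (Fin d ⊕ Fin d) F) - 1)) = 2 * (d - h * m) := by
  intro m
  induction m with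
  | zero =>
    intro d _
    refine ⟨1, one_pow r, ?_⟩
    rw [mul_zero, Nat.sub_zero]
    exact finrank_ker_one_sub_one d
  | succ m ih =>
    intro d hd
    have hk : h * m ≤ d - h := by
      rw [Nat.mul_succ] at hd
      omega
    obtain ⟨x', hx'r, hx'k⟩ := ih (d - h) hk
    have hhd : h + (d - h) = d := by
      rw [Nat.mul_succ] at hd
      omega
    obtain ⟨x, hxr, hxk⟩ := sp_direct_sum h (d - h) d hhd x0 x'
    refine ⟨x, hxr r hx0 hx'r, ?_⟩
    rw [hxk, hk0, finrank_bot, zero_add, hx'k, Nat.mul_succ]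
    omega

end ELT

open ELT in
/-- ELT (uses a backup copy of CAUCHY, DSUM, ARITH) -/
theorem exists_elt_sp {F : Type*} [Field F] [Fintype F] {p : ℕ} [Fact p.Prime] [CharP F p]
    (r : ℕ) [Fact r.Prime] (hr2 : r ≠ 2) (hrp : r ≠ p) (d m : ℕ) (hm : 1 ≤ m)
    (hmd : cc F r * m ≤ 2 * d) :
    ∃ x : Matrix.symplecticGroup (Fin d) F,
      (x : Matrix (Fin d ⊕ Fin d) (Fin d ⊕ Fin d) F) ^ r = 1 ∧
      (x : Matrix (Fin d ⊕ Fin d) (Fin d ⊕ Fin d) F) ≠ 1 ∧
      Module.finrank F (LinearMap.ker (Matrix.toLin'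
        (x : Matrix (Fin d ⊕ Fin d) (Fin d ⊕ Fin d) F) - 1)) = 2 * d - cc F r * m := by
  obtain ⟨-, hcpos, hceven, -, -, -, -, -⟩ := cc_arith (F := F) (p := p) r hr2 hrp
  obtain ⟨h, hh⟩ := hceven
  have hh2 : 2 * h = cc F r := by omega
  obtain ⟨x0, hx0, hk0⟩ := exists_fpf_sp_b (p := p) r hr2 hrp h hh2
  have hhm : h * m ≤ d := by
    rw [← hh2] at hmd
    have : 2 * (h * m) ≤ 2 * d := by rw [← mul_assoc]; exact hmd
    omega
  obtain ⟨x, hxr, hxk⟩ := aux r h x0 hx0 hk0 m d hhm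
  have hpos : 0 < h * m := Nat.mul_pos (by omega) hm
  have heq : 2 * (d - h * m) = 2 * d - cc F r * m := by
    rw [← hh2, mul_assoc, Nat.mul_sub]
  refine ⟨x, hxr, ?_, by rw [hxk, heq]⟩
  intro h1
  rw [h1, finrank_ker_one_sub_one] at hxk
  omega

end Cfsg.Agent.S5961P
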