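import Mathlib
import Cfsg.Prelude.Def_Classical
import Cfsg.Agent.Helper8.MatBNDefs
import Cfsg.Agent.Helper8.S2546Defs
import Cfsg.Agent.Helper8.S2546EMB
import Cfsg.Agent.Helper17.S2547Defs
import Cfsg.Agent.Helper17.S2546JCalc
import Cfsg.Agent.Helper17.S2546PRES

set_option autoImplicit false
open scoped Matrix

/-! # S2547 piece EMBPRES (helper23): the Levi embedding `SO_k → SO_{k+2}` along `fS k`. -/

namespace Cfsg.Agent.S2547P

open Cfsg.Agent.MatBN Cfsg.Agent.S2546P

variable {K : Type*} [Field K]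

namespace EMBPRES

theorem fS_rev (k : ℕ) (p : Fin k) : (fS k p).rev = fS k p.rev := by
  apply Fin.ext
  simp only [fS, Fin.val_rev]
  omega

theorem fS_injective (k : ℕ) : Function.Injective (fS k) := by
  intro p q h
  apply Fin.ext
  have := congrArg Fin.val h
  simp only [fS] at this
  omega

/-- `J_{k+2} * inc = inc * J_k` -/
theorem J_mul_inc (k : ℕ) :
    JC.J K (k + 2) * EMB.inc K (fS k) = EMB.inc K (fS k) * JC.J K k := by
  ext a p
  rw [Matrix.mul_apply, Matrix.mul_apply]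
  rw [Finset.sum_eq_single a.rev]
  · rw [Finset.sum_eq_single p.rev]
    · rw [JC.J_apply, JC.J_apply, if_pos rfl, Fin.rev_rev, if_pos rfl, EMB.inc_apply,
        EMB.inc_apply, one_mul, mul_one]
      by_cases h : a.rev = fS k p
      · rw [if_pos h, if_pos]
        rw [← fS_rev, ← h, Fin.rev_rev]
      · rw [if_neg h, if_neg]
        intro h'
        apply h
        rw [h', fS_rev, Fin.rev_rev]
    · intro q _ hq
      rw [JC.J_apply, if_neg, mul_zero]
      intro h'
      apply hq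
      rw [h', Fin.rev_rev]
    · intro h
      exact absurd (Finset.mem_univ _) h
  · intro b _ hb
    rw [JC.J_apply, if_neg hb, zero_mul]
  · intro h
    exact absurd (Finset.mem_univ _) h

theorem J_transpose (n : ℕ) : (JC.J K n)ᵀ = JC.J K n := by
  ext a c
  rw [Matrix.transpose_apply, JC.J_apply, JC.J_apply]
  by_cases h : a = c.rev
  · rw [if_pos h, if_pos]
    rw [h, Fin.rev_rev]
  · rw [if_neg h, if_neg]
    intro h'
    apply h
    rw [h', Fin.rev_rev]

/-- `incᵀ * J_{k+2} = J_k * incᵀ` -/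
theorem incT_mul_J (k : ℕ) :
    (EMB.inc K (fS k))ᵀ * JC.J K (k + 2) = JC.J K k * (EMB.inc K (fS k))ᵀ := by
  have h := congrArg Matrix.transpose (J_mul_inc (K := K) k)
  rw [Matrix.transpose_mul, Matrix.transpose_mul, J_transpose, J_transpose] at h
  exact h

theorem map_id_eq {n : ℕ} (M : Matrix (Fin n) (Fin n) K) : M.map (RingHom.id K) = M := by
  ext a c
  rfl

theorem presJ_id_iff {n : ℕ} (M : Matrix (Fin n) (Fin n) K) :
    PresJ (RingHom.id K) n M ↔ Mᵀ * (JC.J K n * M) = JC.J K n := by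
  rw [JC.presJ_iff, map_id_eq]

theorem det_emb {k n : ℕ} {f : Fin k → Fin n} (hf : Function.Injective f)
    (A : Matrix (Fin k) (Fin k) K) : (EMB.emb f A).det = A.det := by
  unfold EMB.emb
  rw [Matrix.det_one_add_mul_comm, ← Matrix.mul_assoc, EMB.incT_mul_inc hf, Matrix.one_mul,
    add_sub_cancel]

theorem presJ_emb (k : ℕ) (A : Matrix (Fin k) (Fin k) K) (hA : PresJ (RingHom.id K) k A) :
    PresJ (RingHom.id K) (k + 2) (EMB.emb (fS k) A) := by
  rw [presJ_id_iff] at hA ⊢
  have h1 := J_mul_inc (K := K) k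
  have h2 := incT_mul_J (K := K) k
  have h3 := EMB.incT_mul_inc (K := K) (fS_injective k)
  set I := EMB.inc K (fS k) with hI
  set N := A - 1 with hN
  have hAN : A = 1 + N := by rw [hN]; abel
  -- the key identity for `N`
  have hkey : JC.J K k * N + Nᵀ * JC.J K k + Nᵀ * (JC.J K k * N) = 0 := by
    have e : Aᵀ * (JC.J K k * A) = JC.J K k + (JC.J K k * N + Nᵀ * JC.J K k
        + Nᵀ * (JC.J K k * N)) := by
      rw [hAN, Matrix.transpose_add, Matrix.transpose_one]
      simp only [Matrix.mul_add, Matrix.add_mul, Matrix.mul_one, Matrix.one_mul]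
      abel
    rw [e] at hA
    exact add_eq_left.mp hA
  unfold EMB.emb
  rw [← hI, ← hN]
  rw [Matrix.transpose_add, Matrix.transpose_one, Matrix.transpose_mul, Matrix.transpose_mul,
    Matrix.transpose_transpose]
  have e1 : JC.J K (k + 2) * (1 + I * N * Iᵀ) = JC.J K (k + 2) + I * (JC.J K k * N) * Iᵀ := by
    rw [Matrix.mul_add, Matrix.mul_one, ← Matrix.mul_assoc, ← Matrix.mul_assoc, h1]
    simp only [Matrix.mul_assoc]
  rw [e1, Matrix.add_mul, Matrix.one_mul, Matrix.mul_add, add_assoc]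
  have e2 : I * (Nᵀ * Iᵀ) * JC.J K (k + 2) = I * (Nᵀ * JC.J K k) * Iᵀ := by
    rw [Matrix.mul_assoc, Matrix.mul_assoc, h2]
    simp only [Matrix.mul_assoc]
  have e3 : I * (Nᵀ * Iᵀ) * (I * (JC.J K k * N) * Iᵀ) = I * (Nᵀ * (JC.J K k * N)) * Iᵀ := by
    calc I * (Nᵀ * Iᵀ) * (I * (JC.J K k * N) * Iᵀ)
        = I * (Nᵀ * ((Iᵀ * I) * ((JC.J K k * N) * Iᵀ))) := by simp only [Matrix.mul_assoc]
      _ = I * (Nᵀ * (JC.J K k * N)) * Iᵀ := by
        rw [h3, Matrix.one_mul]
        simp only [Matrix.mul_assoc]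
  rw [e2, e3]
  have e4 : I * (JC.J K k * N) * Iᵀ + (I * (Nᵀ * JC.J K k) * Iᵀ + I * (Nᵀ * (JC.J K k * N)) * Iᵀ)
      = I * (JC.J K k * N + Nᵀ * JC.J K k + Nᵀ * (JC.J K k * N)) * Iᵀ := by
    simp only [Matrix.mul_add, Matrix.add_mul]
    abel
  rw [e4, hkey, Matrix.mul_zero, Matrix.zero_mul, add_zero]

end EMBPRES

theorem fS_strictMono (k : ℕ) : StrictMono (fS k) := by
  intro p q h
  show (fS k p).val < (fS k q).val
  simp only [fS]
  have : p.val < q.val := h
  omega

theorem exists_emb (k : ℕ) (A : SOJ K k) :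
    ∃ g : SOJ K (k + 2), rhoO K (k + 2) g = EMB.emb (fS k) (rhoO K k A) := by
  apply exists_of_presJ
  · rw [EMBPRES.det_emb (EMBPRES.fS_injective k)]
    exact det_of_mem _ _ A
  · exact EMBPRES.presJ_emb k _ (presJ_of_mem _ _ A)

end Cfsg.Agent.S2547P
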