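import Mathlib
import Cfsg.Prelude.Def_Classical
import Cfsg.Agent.Helper8.MatBNDefs
import Cfsg.Agent.Helper8.S2546Defs
import Cfsg.Agent.Helper8.S2546EMB
import Cfsg.Agent.Helper17.S2547Defs
import Cfsg.Agent.Helper17.S2546SMEM
import Cfsg.Agent.Helper23.S2546TAU

set_option autoImplicit false
open scoped Matrix

/-! # S2547 piece EMBS (helper23): the Levi embedding maps `sMat k 0 j` to `sMat (k+2) 0 (j+1)`. -/

namespace Cfsg.Agent.S2547P

open Cfsg.Agent.MatBN Cfsg.Agent.S2546P

variable {K : Type*} [Field K]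

namespace EMBS

theorem fS_val (k : ℕ) (p : Fin k) : (fS k p).val = p.val + 1 := rfl

theorem fS_inj (k : ℕ) : Function.Injective (fS k) := by
  intro p q h
  apply Fin.ext
  have := congrArg Fin.val h
  simp only [fS] at this
  omega

theorem val_of_not_mem (k : ℕ) (a : Fin (k + 2)) (ha : ∀ p, a ≠ fS k p) :
    a.val = 0 ∨ a.val = k + 1 := by
  by_contra hcon
  have h1 : 1 ≤ a.val := by omega
  have h2 : a.val ≤ k := by have := a.2; omega
  apply ha ⟨a.val - 1, by omega⟩
  apply Fin.ext
  rw [fS_val]
  show a.val = a.val - 1 + 1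
  omega

/-- a criterion for `emb (fS k) B = C` -/
theorem emb_eq_of (k : ℕ) (B : Matrix (Fin k) (Fin k) K) (C : Matrix (Fin (k + 2)) (Fin (k + 2)) K)
    (h1 : ∀ p q, C (fS k p) (fS k q) = B p q)
    (h2 : ∀ a c : Fin (k + 2), (a.val = 0 ∨ a.val = k + 1 ∨ c.val = 0 ∨ c.val = k + 1) →
      C a c = if a = c then 1 else 0) : EMB.emb (fS k) B = C := by
  ext a c
  by_cases ha : ∃ p, a = fS k p
  · by_cases hc : ∃ q, c = fS k q
    · obtain ⟨p, rfl⟩ := ha
      obtain ⟨q, rfl⟩ := hc
      rw [EMB.emb_apply_mem (fS_inj k), h1]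
    · push Not at hc
      rw [EMB.emb_apply_right _ _ _ _ hc, Matrix.one_apply, h2]
      have := val_of_not_mem k c hc
      tauto
  · push Not at ha
    rw [EMB.emb_apply_left _ _ _ _ ha, Matrix.one_apply, h2]
    have := val_of_not_mem k a ha
    tauto

end EMBS

open EMBS in
theorem emb_sMat (k : ℕ) (hk : k % 2 = 1) (j : ℕ) (hj : j < k / 2) :
    EMB.emb (fS k) (sMat k (0 : K) j) = sMat (k + 2) (0 : K) (j + 1) := by
  have hk2 : (k + 2) / 2 = k / 2 + 1 := by omega
  unfold sMat
  by_cases h : j + 1 < k / 2
  · rw [if_pos h, if_pos (by omega)]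
    apply emb_eq_of
    · intro p q
      unfold pMat
      rw [Matrix.of_apply, Matrix.of_apply]
      have e : (fS k p = tau (k + 2) (j + 1) (fS k q)) ↔ (p = tau k j q) := by
        rw [Fin.ext_iff, Fin.ext_iff, TAU.tau_val, TAU.tau_val, fS_val, fS_val]
        have hp := p.2
        have hq := q.2
        unfold TAU.tauNat
        split_ifs <;> omega
      by_cases hpq : p = tau k j q
      · rw [if_pos hpq, if_pos (e.mpr hpq)]
      · rw [if_neg hpq, if_neg (fun h' => hpq (e.mp h'))]
    · intro a c hac
      unfold pMat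
      rw [Matrix.of_apply]
      have e : (a = tau (k + 2) (j + 1) c) ↔ (a = c) := by
        rw [Fin.ext_iff, Fin.ext_iff, TAU.tau_val]
        have hp := a.2
        have hq := c.2
        unfold TAU.tauNat
        split_ifs <;> omega
      by_cases hpq : a = c
      · rw [if_pos hpq, if_pos (e.mpr hpq)]
      · rw [if_neg hpq, if_neg (fun h' => hpq (e.mp h'))]
  · rw [if_neg h, if_neg (by omega), if_neg (by omega), if_neg (by omega)]
    have hk3 : 3 ≤ k := by omega
    apply emb_eq_of
    · intro p q
      rw [SMEM17.sO_apply (k + 2) (by omega) (by omega), SMEM17.sO_apply k hk hk3]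
      have hp := p.2
      have hq := q.2
      have e : fS k p = fS k q ↔ p = q := (fS_inj k).eq_iff
      by_cases hpq : p = q
      · subst hpq
        rw [if_pos rfl, if_pos rfl]
        rw [fS_val]
        split_ifs <;> first | rfl | omega
      · rw [if_neg hpq, if_neg (fun h' => hpq (e.mp h'))]
        have hv : p.val ≠ q.val := fun h' => hpq (Fin.ext h')
        rw [fS_val, fS_val]
        split_ifs <;> first | rfl | omega
    · intro a c hac
      rw [SMEM17.sO_apply (k + 2) (by omega) (by omega)]
      have hp := a.2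
      have hq := c.2
      by_cases hpq : a = c
      · subst hpq
        rw [if_pos rfl]
        split_ifs <;> first | rfl | omega
      · rw [if_neg hpq]
        have hv : a.val ≠ c.val := fun h' => hpq (Fin.ext h')
        split_ifs <;> first | rfl | omega

end Cfsg.Agent.S2547P
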