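import Mathlib
import Cfsg.Agent.Helper26.S4057Defs
import Cfsg.Agent.Helper18.S4057CARD
import Cfsg.Agent.Helper8.S4057MANTEL
import Cfsg.Agent.Helper18.PearlR2
import Cfsg.Agent.Helper18.S4057COMM

/-! # S4057 board, piece UTGEN (blueprint Lemma 6e) -/

set_option autoImplicit false

namespace Cfsg.Agent.S4057P

open scoped commutatorElement

theorem UTGEN {n p : ℕ} [Fact p.Prime] {Q : Type*} [Group Q] [Finite Q]
    (ρ : Q →* Matrix (Fin n) (Fin n) (ZMod p)) (hinj : Function.Injective ρ)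
    (hUT : ∀ g, IsUT (ρ g)) :
    ∃ S : Finset Q, S.card ≤ n ^ 2 / 4 ∧ Subgroup.closure (S : Set Q) = ⊤ := by
  classical
  have hcardQ : Nat.card Q = p ^ (leadSet ρ ⊤).ncard := by
    rw [← CARD ρ hinj hUT ⊤]
    exact (Subgroup.card_top (G := Q)).symm
  have hQ : IsPGroup p Q := IsPGroup.of_card hcardQ
  have hcardΦ := CARD ρ hinj hUT (frattini Q)
  have hsub : leadSet ρ (frattini Q) ⊆ leadSet ρ ⊤ := by
    rintro π ⟨g, -, hl⟩
    exact ⟨g, Subgroup.mem_top g, hl⟩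
  have hfin : (leadSet ρ (⊤ : Subgroup Q)).Finite := Set.toFinite _
  have hTcard : (leadSet ρ ⊤ \ leadSet ρ (frattini Q)).ncard + (leadSet ρ (frattini Q)).ncard =
      (leadSet ρ (⊤ : Subgroup Q)).ncard := Set.ncard_sdiff_add_ncard_of_subset hsub hfin
  have hM : (leadSet ρ ⊤ \ leadSet ρ (frattini Q)).ncard ≤ n ^ 2 / 4 := by
    apply MANTEL
    · rintro π ⟨⟨g, -, hl⟩, -⟩
      exact hl.1
    · rintro j k l ⟨⟨g, -, hg⟩, -⟩ ⟨⟨h, -, hh⟩, -⟩ ⟨-, hnot⟩
      apply hnot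
      refine ⟨⁅g, h⁆, ?_, COMM ρ hUT g h j k l hg hh⟩
      apply Cfsg.Agent.Helper1.IsPGroup.commutator_le_frattini hQ
      exact Subgroup.commutator_mem_commutator (Subgroup.mem_top g) (Subgroup.mem_top h)
  obtain ⟨S, hS, hgen⟩ :=
    Cfsg.Agent.Helper18.Pearl.exists_finset_closure_eq_top_of_card_le_frattini hQ
      (leadSet ρ ⊤ \ leadSet ρ (frattini Q)).ncard (by
        rw [hcardQ, hcardΦ, ← hTcard, pow_add])
  exact ⟨S, hS.trans hM, hgen⟩

end Cfsg.Agent.S4057P
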