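import Cfsg.Agent.Helper28.S5700.Lib
import Cfsg.Agent.Helper2.FieldSubA
import Cfsg.Agent.Helper5.S5700EXK

set_option autoImplicit false
set_option linter.unusedSectionVars false
set_option linter.unusedVariables false

/-! # S5700 piece CONN (driver helper28; helper23): a singular `y ⊥_h b, b'` outside `K b`, `K b'` -/

namespace Cfsg.Agent.S5700P

open Matrix Module Cfsg.Agent.Helper28.Sg Cfsg.Agent.Helper28.Spin Cfsg.Agent.Helper12.OrthGen

variable {F : Type*} [Field F] [Fintype F] {ι : Type} [Fintype ι] [DecidableEq ι]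
  {Q : QuadraticForm F (ι → F)} {J : Matrix ι ι F} {t p : F}

namespace CONN

/-- a vector of `K b` is orthogonal to every `w` with `hperp b w` -/
theorem not_InK {b w₁ w₂ : ι → F} (h12 : B Q w₁ w₂ = 1) (hbw2 : hperp Q J b w₂) :
    ¬ InK J b w₁ := by
  rintro ⟨α, β, hy⟩
  have : B Q w₁ w₂ = 0 := by
    rw [hy, B_add_left, B_smul_left, B_smul_left, hbw2.1, hbw2.2]; ring
  rw [h12] at this
  exact one_ne_zero this

end CONN

theorem CONN.exists_conn (U : UData Q J t p) (hQ : (QuadraticMap.polarBilin Q).Nondegenerate)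
    (hn : 14 ≤ Fintype.card ι) (b b' : ι → F) :
    ∃ y : ι → F, Q y = 0 ∧ y ≠ 0 ∧ hperp Q J y b ∧ hperp Q J y b' ∧ ¬ InK J b y ∧ ¬ InK J b' y := by
  obtain ⟨w₁, w₂, h1, h2, h12, hbw1, hbw2, hb'w1, hb'w2⟩ := EXK.K2 hQ hn J b b'
  refine ⟨w₁, h1, ?_, hbw1.symm U, hb'w1.symm U, CONN.not_InK h12 hbw2, CONN.not_InK h12 hb'w2⟩
  intro h0
  rw [h0, B_zero_left] at h12
  exact zero_ne_one h12

end Cfsg.Agent.S5700P
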