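import Mathlib
import Cfsg.Agent.Helper27.S0429Defs
import Cfsg.Prelude.Def_Sporadic_a

/-! Board `s0429pieces`, piece STS: the sets `β v` form a Steiner system `S(3,6,22)` (pure counting:
`77 · C(6,3) = 1540 = C(22,3)` and no 3-set lies in two blocks). -/

set_option autoImplicit false

namespace Cfsg.Agent.S0429P

open Finset

theorem STS_aux_inter_le {V α : Type*} [DecidableEq α] (G : SimpleGraph V) (β : V → Finset α)
    (hadj : ∀ v w, G.Adj v w → Disjoint (β v) (β w))
    (hnadj : ∀ v w, v ≠ w → ¬ G.Adj v w → (β v ∩ β w).card = 2) {v w : V} (hvw : v ≠ w) :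
    (β v ∩ β w).card ≤ 2 := by
  by_cases h : G.Adj v w
  · have := hadj v w h
    rw [Finset.disjoint_iff_inter_eq_empty] at this
    rw [this]; simp
  · rw [hnadj v w hvw h]

theorem STS_aux_unique {V α : Type*} [DecidableEq α] (G : SimpleGraph V) (β : V → Finset α)
    (hadj : ∀ v w, G.Adj v w → Disjoint (β v) (β w))
    (hnadj : ∀ v w, v ≠ w → ¬ G.Adj v w → (β v ∩ β w).card = 2) {v w : V} {s : Finset α}
    (hs : s.card = 3) (hv : s ⊆ β v) (hw : s ⊆ β w) : v = w := by
  by_contra hvw
  have h1 := STS_aux_inter_le G β hadj hnadj hvw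
  have h2 : s.card ≤ (β v ∩ β w).card := Finset.card_le_card (Finset.subset_inter hv hw)
  omega

/-- STS (M/L): pure combinatorics (count triples: `77 · 20 = C(22,3)`, no triple in two blocks). -/
theorem STS {V α : Type*} [Fintype V] [DecidableEq V] [Fintype α] [DecidableEq α] (G : SimpleGraph V)
    [DecidableRel G.Adj] (hV : Fintype.card V = 77) (hα : Fintype.card α = 22) (β : V → Finset α)
    (h6 : ∀ v, (β v).card = 6) (hadj : ∀ v w, G.Adj v w → Disjoint (β v) (β w))
    (hnadj : ∀ v w, v ≠ w → ¬ G.Adj v w → (β v ∩ β w).card = 2) :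
    Cfsg.IsSteinerSystem 3 6 (Set.range β) := by
  refine ⟨?_, ?_⟩
  · rintro b ⟨v, rfl⟩
    exact h6 v
  · intro s hs
    -- the counting
    let Pairs : Finset (Σ _ : V, Finset α) := (Finset.univ : Finset V).sigma (fun v => Finset.powersetCard 3 (β v))
    let S3 : Finset (Finset α) := Finset.powersetCard 3 (Finset.univ : Finset α)
    have hP : Pairs.card = 1540 := by
      rw [Finset.card_sigma]
      have : ∀ v ∈ (Finset.univ : Finset V), (Finset.powersetCard 3 (β v)).card = 20 := by
        intro v _
        rw [Finset.card_powersetCard, h6 v]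
        rfl
      rw [Finset.sum_congr rfl this, Finset.sum_const, Finset.card_univ, hV]
      rfl
    have hS : S3.card = 1540 := by
      rw [Finset.card_powersetCard, Finset.card_univ, hα]
      rfl
    have hinj : Set.InjOn (fun x : (Σ _ : V, Finset α) => x.2) (Pairs : Set (Σ _ : V, Finset α)) := by
      rintro ⟨v, s1⟩ h1 ⟨w, s2⟩ h2 h12
      simp only [Finset.coe_sigma, Finset.coe_univ, Set.mem_sigma_iff, Set.mem_univ, true_and,
        Finset.mem_coe, Finset.mem_powersetCard, Pairs] at h1 h2
      simp only at h12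
      subst h12
      have := STS_aux_unique G β hadj hnadj h1.2 h1.1 h2.1
      subst this
      rfl
    have himg : Pairs.image (fun x => x.2) = S3 := by
      apply Finset.eq_of_subset_of_card_le
      · intro t ht
        rw [Finset.mem_image] at ht
        obtain ⟨⟨v, s1⟩, h1, rfl⟩ := ht
        simp only [Finset.mem_sigma, Finset.mem_univ, true_and, Finset.mem_powersetCard, Pairs] at h1
        simp only [Finset.mem_powersetCard, S3]
        exact ⟨Finset.subset_univ _, h1.2⟩
      · rw [Finset.card_image_of_injOn hinj, hP, hS]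
    have hsS : s ∈ S3 := by
      simp only [Finset.mem_powersetCard, S3]
      exact ⟨Finset.subset_univ _, hs⟩
    rw [← himg, Finset.mem_image] at hsS
    obtain ⟨⟨v, s1⟩, h1, h2⟩ := hsS
    simp only [Finset.mem_sigma, Finset.mem_univ, true_and, Finset.mem_powersetCard, Pairs] at h1
    simp only at h2
    subst h2
    refine ⟨β v, ⟨⟨v, rfl⟩, h1.1⟩, ?_⟩
    rintro b ⟨⟨w, rfl⟩, hw⟩
    have := STS_aux_unique G β hadj hnadj hs hw h1.1
    rw [this]

end Cfsg.Agent.S0429P
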