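import Mathlib
import Cfsg.Agent.Helper6.S2861Defs
import Cfsg.Agent.Helper12.BorelUnip
import Cfsg.Agent.Helper20.S2861TRANSPORT

/-!
# S2861, piece SL2: the case `X = SL₂(F)`

If `Yb` is a `p`-subgroup of `SL₂(F)` of order `|F|` and `(Yb, Nb)` satisfies `Hyp`, then `Yb` is the
only nontrivial elementary abelian `p`-subgroup of `Nb` normalised by `Nb`.
-/

set_option autoImplicit false

namespace Cfsg.Agent.S2861P

open Cfsg Cfsg.Agent.Helper8 Cfsg.Agent.Helper12

/-- The diagonal element `diag(a, a⁻¹)` of `SL₂`. -/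
def SL2.dg {F : Type*} [Field F] (a : Fˣ) : Matrix.SpecialLinearGroup (Fin 2) F :=
  ⟨!![(a : F), 0; 0, ((a⁻¹ : Fˣ) : F)], by simp [Matrix.det_fin_two_of]⟩

theorem SL2.dg_mem {F : Type*} [Field F] (a : Fˣ) : SL2.dg a ∈ borelSL F :=
  (mem_borelSL_iff _).2 rfl

theorem SL2.dg_coe {F : Type*} [Field F] (a : Fˣ) :
    ((SL2.dg a : Matrix.SpecialLinearGroup (Fin 2) F) : Matrix (Fin 2) (Fin 2) F) =
      !![(a : F), 0; 0, ((a⁻¹ : Fˣ) : F)] := rfl

theorem SL2.dg_conj {F : Type*} [Field F] (a : Fˣ) (r : F) :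
    SL2.dg a * uMat r * (SL2.dg a)⁻¹ = uMat ((a : F) ^ 2 * r) := by
  apply Subtype.ext
  show ((SL2.dg a : Matrix.SpecialLinearGroup (Fin 2) F) : Matrix (Fin 2) (Fin 2) F) *
      ((uMat r : Matrix.SpecialLinearGroup (Fin 2) F) : Matrix (Fin 2) (Fin 2) F) *
      (((SL2.dg a)⁻¹ : Matrix.SpecialLinearGroup (Fin 2) F) : Matrix (Fin 2) (Fin 2) F) = _
  rw [Matrix.SpecialLinearGroup.coe_inv, SL2.dg_coe, uMat_coe, uMat_coe,
    Matrix.adjugate_fin_two_of, Matrix.mul_fin_two, Matrix.mul_fin_two]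
  ext i j
  fin_cases i <;> fin_cases j <;> simp
  ring

/-- Every element of a finite field is a sum of two squares. -/
theorem SL2.sum_two_squares {F : Type*} [Field F] [Fintype F] (x : F) :
    ∃ a b : F, a ^ 2 + b ^ 2 = x := by
  classical
  by_cases h2 : ringChar F = 2
  · obtain ⟨a, ha⟩ := FiniteField.isSquare_of_char_two h2 x
    exact ⟨a, 0, by rw [ha]; ring⟩
  · have hodd : Fintype.card F % 2 = 1 := FiniteField.odd_card_of_char_ne_two h2
    obtain ⟨a, b, hab⟩ := FiniteField.exists_root_sum_quadratic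
      (f := (Polynomial.X : Polynomial F) ^ 2)
      (g := (Polynomial.X : Polynomial F) ^ 2 - Polynomial.C x)
      (Polynomial.degree_X_pow 2) (Polynomial.degree_X_pow_sub_C (by norm_num) x) hodd
    refine ⟨a, b, ?_⟩
    simp only [Polynomial.eval_pow, Polynomial.eval_X, Polynomial.eval_sub,
      Polynomial.eval_C] at hab
    linear_combination hab

/-- The core case `Yb = unipSL F`. -/
theorem SL2.core {F : Type*} [Field F] [Fintype F] (p : ℕ) [Fact p.Prime] [CharP F p]
    (Nb : Subgroup (Matrix.SpecialLinearGroup (Fin 2) F)) (h : Hyp (unipSL F) Nb) :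
    Concl p (unipSL F) Nb := by
  classical
  have hBne : borelSL F ≠ ⊤ := by
    intro htop
    have hidx := index_borelSL (F := F)
    rw [htop, Subgroup.index_top] at hidx
    have : 1 < Fintype.card F := Fintype.one_lt_card
    omega
  have hNB : Nb = borelSL F := by
    apply le_antisymm
    · have := h.norm
      rwa [normalizer_unipSL] at this
    · exact h.max _ unipSL_le_borelSL hBne
  intro V hVN hNV hVea hVne
  have hVU : V ≤ unipSL F := by
    intro v hv
    have hvB : v ∈ borelSL F := hNB ▸ hVN hv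
    exact mem_unipSL_of_pow_eq_one p hvB 1 (by simpa using hVea.2 v hv)
  apply le_antisymm hVU
  -- a nontrivial element of `V`
  obtain ⟨v, hv1⟩ := (Subgroup.ne_bot_iff_exists_ne_one).1 hVne
  have hvV' : (v : Matrix.SpecialLinearGroup (Fin 2) F) ∈ V := v.2
  have hv1' : (v : Matrix.SpecialLinearGroup (Fin 2) F) ≠ 1 := fun hc => hv1 (Subtype.ext hc)
  set r : F := ((v : Matrix.SpecialLinearGroup (Fin 2) F) : Matrix (Fin 2) (Fin 2) F) 0 1 with hr
  have hvr : (v : Matrix.SpecialLinearGroup (Fin 2) F) = uMat r := eq_uMat_of_mem (hVU hvV')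
  have hr0 : r ≠ 0 := by
    intro h0
    apply hv1'
    rw [hvr, h0]
    apply Subtype.ext
    ext i j
    fin_cases i <;> fin_cases j <;> simp [uMat]
  have hsq : ∀ a : F, uMat (a ^ 2 * r) ∈ V := by
    intro a
    by_cases ha : a = 0
    · have : uMat (a ^ 2 * r) = (1 : Matrix.SpecialLinearGroup (Fin 2) F) := by
        rw [ha]
        apply Subtype.ext
        ext i j
        fin_cases i <;> fin_cases j <;> simp [uMat]
      rw [this]; exact V.one_mem
    · have hd : SL2.dg (Units.mk0 a ha) ∈ Subgroup.normalizer (V : Set _) :=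
        hNV (hNB ▸ SL2.dg_mem (Units.mk0 a ha))
      have := (Subgroup.mem_normalizer_iff.1 hd (uMat r)).1 (hvr ▸ hvV')
      rwa [SL2.dg_conj, Units.val_mk0] at this
  intro u hu
  rw [eq_uMat_of_mem hu]
  set x : F := ((u : Matrix (Fin 2) (Fin 2) F) 0 1) with hx
  obtain ⟨a, b, hab⟩ := SL2.sum_two_squares (x / r)
  have hxr : x = a ^ 2 * r + b ^ 2 * r := by
    have : x = (x / r) * r := by field_simp
    rw [this, ← hab]; ring
  rw [hxr, ← uMat_mul]
  exact V.mul_mem (hsq a) (hsq b)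

/-- `CharP F p` from a `p`-subgroup of order `|F|`. -/
theorem SL2.charP {F : Type*} [Field F] [Fintype F] (p : ℕ) [Fact p.Prime]
    {X : Type*} [Group X] (Yb : Subgroup X) (hY : IsPGroup p Yb)
    (hcard : Nat.card Yb = Fintype.card F) : CharP F p := by
  classical
  have hp : p.Prime := Fact.out
  obtain ⟨r, hr⟩ := CharP.exists F
  have := hr
  have : Fact r.Prime := ⟨CharP.char_is_prime F r⟩
  obtain ⟨n, hrp, hn⟩ := FiniteField.card F r
  have : Finite Yb := Nat.finite_of_card_ne_zero (by rw [hcard]; exact Fintype.card_ne_zero)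
  obtain ⟨k, hk⟩ := hY.exists_card_eq
  have hpk : p ^ k = r ^ (n : ℕ) := by rw [← hk, hcard, hn]
  have hk0 : k ≠ 0 := by
    intro h0
    rw [h0, pow_zero] at hpk
    have : 1 < r ^ (n : ℕ) := Nat.one_lt_pow n.ne_zero hrp.one_lt
    omega
  have hdvd : p ∣ r ^ (n : ℕ) := by rw [← hpk]; exact dvd_pow_self p hk0
  have hpr : p = r := (Nat.prime_dvd_prime_iff_eq hp hrp).1 (hp.dvd_of_dvd_pow hdvd)
  rw [hpr]; exact hr

theorem SL2 {F : Type*} [Field F] [Fintype F] (p : ℕ) [Fact p.Prime]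
    (Yb Nb : Subgroup (Matrix.SpecialLinearGroup (Fin 2) F)) (h : Hyp Yb Nb)
    (hY : IsPGroup p Yb) (hcard : Nat.card Yb = Fintype.card F) : Concl p Yb Nb := by
  classical
  have : CharP F p := SL2.charP p Yb hY hcard
  obtain ⟨P, hYP⟩ := hY.exists_le_sylow
  obtain ⟨g, hg⟩ := exists_conj_sylow_eq_unipSL p P
  have hPcard : Nat.card (P : Subgroup (Matrix.SpecialLinearGroup (Fin 2) F)) = Fintype.card F := by
    rw [← card_unipSL (F := F), ← hg]
    exact (Nat.card_congr (Subgroup.equivMapOfInjective _ _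
      (MulAut.conj g).injective).toEquiv)
  have hYeq : Yb = (P : Subgroup (Matrix.SpecialLinearGroup (Fin 2) F)) :=
    Subgroup.eq_of_le_of_card_ge hYP (by rw [hPcard, hcard])
  have hT := TRANSPORT (MulAut.conj g) p Yb Nb
  have hmap : Yb.map (MulAut.conj g).toMonoidHom = unipSL F := by rw [hYeq]; exact hg
  have hH := hT.1 h
  rw [hmap] at hH
  have hC := SL2.core p _ hH
  rw [← hmap] at hC
  exact hT.2.1 hC

end Cfsg.Agent.S2861P
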