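import Mathlib
import Cfsg.Agent.Helper18.S3265Defs
import Cfsg.Agent.Helper18.S3265Basic
import Cfsg.Agent.Helper20.S3265C4NF
import Cfsg.Agent.Helper20.S3265ATOM

/-!
S3265 piece GEN: the generic atom induction step.
-/

set_option autoImplicit false

namespace Cfsg.Agent.S3265P

open Equiv

theorem gen_ext4_castAdd {m : ℕ} (x₀ : Perm (Fin m)) (c : Perm (Fin 4)) (i : Fin m) :
    ext4 x₀ c (Fin.castAdd 4 i) = Fin.castAdd 4 (x₀ i) := by
  unfold ext4
  rw [Equiv.permCongr_apply, finSumFinEquiv_symm_apply_castAdd, Equiv.Perm.sumCongr_apply,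
    Sum.map_inl, finSumFinEquiv_apply_left]

theorem gen_ext4_natAdd {m : ℕ} (x₀ : Perm (Fin m)) (c : Perm (Fin 4)) (j : Fin 4) :
    ext4 x₀ c (Fin.natAdd m j) = Fin.natAdd m (c j) := by
  unfold ext4
  rw [Equiv.permCongr_apply, finSumFinEquiv_symm_apply_natAdd, Equiv.Perm.sumCongr_apply,
    Sum.map_inr, finSumFinEquiv_apply_right]

theorem step_atom {Ω : Type} [Fintype Ω] [DecidableEq Ω] (IH : IHyp (Fintype.card Ω))
    (x y : Perm Ω) (hA : Adm x y) {m : ℕ} (hm : 0 < m) (P : Fin m → Ω)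
    (hP : Function.Injective P) (x₀ y₀ z₀ : Perm (Fin m))
    (hx : ∀ i, x (P i) = P (x₀ i)) (hy : ∀ i, y (P i) = P (y₀ i))
    (hc : x₀.support.card = y₀.support.card)
    (N₁ N₂ : ℕ) (hg : GoodTriple N₁ N₂ x₀ y₀ z₀)
    (z₁ : Perm (Fin (m + 4))) (N₃ N₄ : ℕ)
    (hg₁ : GoodTriple N₃ N₄ (ext4 x₀ c4x) (ext4 y₀ c4y) z₁) : Q x y := by
  have hxn := range_inv x hA.x2 P x₀ hx
  have hyn := range_inv y hA.y2 P y₀ hy
  have hA' := adm_rest x y hA P hP x₀ y₀ hx hy hc hxn hyn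
  have hcard : Fintype.card {ω // ω ∉ Set.range P} < Fintype.card Ω := by
    have := card_rest P hP
    omega
  rcases IH {ω // ω ∉ Set.range P} hcard _ _ hA' with hQ | hE
  · exact Q_of_atom x y hA P hP x₀ y₀ z₀ hx hy N₁ N₂ hg (fun _ _ => hQ)
  · obtain ⟨c, hcb, hcx, hcy⟩ := exc_normal_form _ _ hA' hE
    -- the enlarged atom
    obtain ⟨P₁, hl, hr⟩ : ∃ P₁ : Fin (m + 4) → Ω, (∀ i, P₁ (Fin.castAdd 4 i) = P i) ∧
        (∀ j, P₁ (Fin.natAdd m j) = ((c j : {ω // ω ∉ Set.range P}) : Ω)) :=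
      ⟨Fin.addCases P (fun j => ((c j : {ω // ω ∉ Set.range P}) : Ω)),
        fun i => Fin.addCases_left i, fun j => Fin.addCases_right j⟩
    have hP₁ : Function.Injective P₁ := by
      intro i i'
      refine Fin.addCases (fun a => ?_) (fun a => ?_) i <;>
        refine Fin.addCases (fun a' => ?_) (fun a' => ?_) i'
      · intro h
        rw [hl, hl] at h
        rw [hP h]
      · intro h
        rw [hl, hr] at h
        exact absurd ⟨a, h⟩ (c a').2
      · intro h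
        rw [hr, hl] at h
        exact absurd ⟨a', h.symm⟩ (c a).2
      · intro h
        rw [hr, hr] at h
        rw [hcb.1 (Subtype.ext h)]
    have hx₁ : ∀ i, x (P₁ i) = P₁ (ext4 x₀ c4x i) := by
      intro i
      refine Fin.addCases (fun a => ?_) (fun a => ?_) i
      · rw [gen_ext4_castAdd, hl, hl, hx]
      · rw [gen_ext4_natAdd, hr, hr, ← hcx a]
        rfl
    have hy₁ : ∀ i, y (P₁ i) = P₁ (ext4 y₀ c4y i) := by
      intro i
      refine Fin.addCases (fun a => ?_) (fun a => ?_) i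
      · rw [gen_ext4_castAdd, hl, hl, hy]
      · rw [gen_ext4_natAdd, hr, hr, ← hcy a]
        rfl
    have hempty : IsEmpty {ω // ω ∉ Set.range P₁} := by
      refine ⟨fun ω => ω.2 ?_⟩
      by_cases h : (ω : Ω) ∈ Set.range P
      · obtain ⟨i, hi⟩ := h
        exact ⟨Fin.castAdd 4 i, by rw [hl, hi]⟩
      · obtain ⟨j, hj⟩ := hcb.2 ⟨(ω : Ω), h⟩
        exact ⟨Fin.natAdd m j, by rw [hr, hj]⟩
    exact Q_of_atom x y hA P₁ hP₁ (ext4 x₀ c4x) (ext4 y₀ c4y) z₁ hx₁ hy₁ N₃ N₄ hg₁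
      (fun _ _ => Q_of_isEmpty _ _)

end Cfsg.Agent.S3265P
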