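import Mathlib
import Cfsg.Agent.Helper18.S3265Defs

/-!
S3265 piece CONJ: involutions of `Sym(n)` with the same number of moved points are conjugate.
-/

set_option autoImplicit false

namespace Cfsg.Agent.S3265P

open Equiv

theorem conj_cycleType_of_sq {α : Type*} [Fintype α] [DecidableEq α] (σ : Perm α)
    (hσ : σ * σ = 1) : σ.cycleType = Multiset.replicate (σ.support.card / 2) 2 := by
  have hall : ∀ k ∈ σ.cycleType, k = 2 := by
    intro k hk
    have h1 : k ∣ orderOf σ := Equiv.Perm.dvd_of_mem_cycleType hk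
    have h2 : orderOf σ ∣ 2 := orderOf_dvd_of_pow_eq_one (by rw [pow_two]; exact hσ)
    have h3 : 2 ≤ k := Equiv.Perm.two_le_of_mem_cycleType hk
    have h4 : k ≤ 2 := Nat.le_of_dvd (by norm_num) (h1.trans h2)
    omega
  have hrep : σ.cycleType = Multiset.replicate (Multiset.card σ.cycleType) 2 :=
    Multiset.eq_replicate.mpr ⟨rfl, hall⟩
  have hsum : σ.cycleType.sum = σ.support.card := Equiv.Perm.sum_cycleType σ
  rw [hrep, Multiset.sum_replicate, smul_eq_mul] at hsum
  have hc : Multiset.card σ.cycleType = σ.support.card / 2 := by omega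
  rw [← hc]
  exact hrep

theorem isConj_of_card_support {n : ℕ} (t z : Perm (Fin n)) (ht : t * t = 1) (hz : z * z = 1)
    (h : z.support.card = t.support.card) : IsConj t z := by
  rw [Equiv.Perm.isConj_iff_cycleType_eq, conj_cycleType_of_sq t ht, conj_cycleType_of_sq z hz, h]

theorem adm_of_isConj {n : ℕ} (t x y : Perm (Fin n)) (ht : orderOf t = 2) (hx : IsConj t x)
    (hy : IsConj t y) : Adm x y := by
  have hsq : ∀ w : Perm (Fin n), IsConj t w → w * w = 1 := by
    intro w hw
    have h1 : orderOf w = 2 := by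
      rw [← Equiv.Perm.lcm_cycleType, ← (Equiv.Perm.isConj_iff_cycleType_eq.mp hw),
        Equiv.Perm.lcm_cycleType, ht]
    rw [← pow_two, ← h1]
    exact pow_orderOf_eq_one w
  have hcard : ∀ w : Perm (Fin n), IsConj t w → w.support.card = t.support.card := by
    intro w hw
    rw [← Equiv.Perm.sum_cycleType, ← Equiv.Perm.sum_cycleType,
      Equiv.Perm.isConj_iff_cycleType_eq.mp hw]
  exact ⟨hsq x hx, hsq y hy, (hcard x hx).trans (hcard y hy).symm⟩

end Cfsg.Agent.S3265P
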