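import Mathlib
import Cfsg.Agent.Helper18.S3265Defs

/-!
S3265 piece NADJ: an involution of `Sym(n)`, `n ≥ 5`, has a conjugate `v ≠ t` with `t * v` and
`v * t` of even order.
-/

set_option autoImplicit false

namespace Cfsg.Agent.S3265P

open Equiv

/-- a permutation exchanging two different points has even order -/
theorem nadj_not_odd {α : Type*} (σ : Perm α) (ω : α) (h1 : σ ω ≠ ω)
    (h2 : σ (σ ω) = ω) : ¬ Odd (orderOf σ) := by
  rintro ⟨k, hk⟩
  have h3 : (σ ^ 2) ω = ω := by
    rw [pow_two, Perm.mul_apply]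
    exact h2
  have h4 : ((σ ^ 2) ^ k) ω = ω := Equiv.Perm.pow_apply_eq_self_of_apply_eq_self h3 k
  have h5 : σ ^ (2 * k + 1) = 1 := by
    rw [← hk]
    exact pow_orderOf_eq_one σ
  have h6 : (σ ^ (2 * k + 1)) ω = σ ω := by
    rw [pow_succ', Perm.mul_apply, pow_mul, h4]
  rw [h5, Perm.one_apply] at h6
  exact h1 h6.symm

theorem exists_nonadj (n : ℕ) (hn : 5 ≤ n) (t : Perm (Fin n)) (ht : orderOf t = 2) :
    ∃ v : Perm (Fin n), IsConj t v ∧ v ≠ t ∧ ¬ Odd (orderOf (t * v)) ∧
      ¬ Odd (orderOf (v * t)) := by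
  have ht2 : t * t = 1 := by
    rw [← pow_two, ← ht]
    exact pow_orderOf_eq_one t
  have htt : ∀ ω, t (t ω) = ω := by
    intro ω
    rw [← Perm.mul_apply, ht2, Perm.one_apply]
  have ht1 : t ≠ 1 := by
    intro h
    rw [h, orderOf_one] at ht
    omega
  obtain ⟨a, ha⟩ : ∃ a, t a ≠ a := by
    by_contra hcon
    push Not at hcon
    exact ht1 (Equiv.ext hcon)
  set b := t a with hb
  have hba : t b = a := htt a
  by_cases hcase : ∃ c, t c ≠ c ∧ c ≠ a ∧ c ≠ b
  · obtain ⟨c, hc, hca, hcb⟩ := hcase
    set d := t c with hd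
    have hdc : t d = c := htt c
    have hda : d ≠ a := by
      intro h
      apply hcb
      rw [← hdc, h]
    have hdb : d ≠ b := by
      intro h
      apply hca
      rw [← hdc, h, hba]
    refine ⟨swap b c * t * (swap b c)⁻¹, isConj_iff.mpr ⟨swap b c, rfl⟩, ?_, ?_, ?_⟩
    · intro h
      have h1 := congrArg (fun f : Perm (Fin n) => f a) h
      simp only [swap_inv, Perm.mul_apply] at h1
      rw [swap_apply_of_ne_of_ne (Ne.symm ha) (Ne.symm hca), ← hb, swap_apply_left] at h1
      exact hcb h1
    · apply nadj_not_odd _ a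
      · simp only [swap_inv, Perm.mul_apply]
        rw [swap_apply_of_ne_of_ne (Ne.symm ha) (Ne.symm hca), ← hb, swap_apply_left, ← hd]
        exact hda
      · simp only [swap_inv, Perm.mul_apply]
        rw [swap_apply_of_ne_of_ne (Ne.symm ha) (Ne.symm hca), ← hb, swap_apply_left, ← hd,
          swap_apply_of_ne_of_ne hdb hc, hdc, swap_apply_right, hba]
    · apply nadj_not_odd _ a
      · simp only [swap_inv, Perm.mul_apply]
        rw [← hb, swap_apply_left, ← hd, swap_apply_of_ne_of_ne hdb hc]
        exact hda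
      · simp only [swap_inv, Perm.mul_apply]
        rw [← hb, swap_apply_left, ← hd, swap_apply_of_ne_of_ne hdb hc, hdc, swap_apply_right, hba,
          swap_apply_of_ne_of_ne (Ne.symm ha) (Ne.symm hca)]
  · push Not at hcase
    have hfix : ∀ c, c ≠ a → c ≠ b → t c = c := by
      intro c hca hcb
      by_contra h
      exact hcb (hcase c h hca)
    have hcard : 1 < (Finset.univ \ {a, b} : Finset (Fin n)).card := by
      have h1 := Finset.le_card_sdiff ({a, b} : Finset (Fin n)) Finset.univ
      have h2 : ({a, b} : Finset (Fin n)).card ≤ 2 := Finset.card_le_two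
      rw [Finset.card_univ, Fintype.card_fin] at h1
      omega
    obtain ⟨c, hc, d, hd, hcd⟩ := Finset.one_lt_card.mp hcard
    simp only [Finset.mem_sdiff, Finset.mem_univ, Finset.mem_insert, Finset.mem_singleton,
      true_and, not_or] at hc hd
    obtain ⟨hca, hcb⟩ := hc
    obtain ⟨hda, hdb⟩ := hd
    have htc : t c = c := hfix c hca hcb
    have htd : t d = d := hfix d hda hdb
    have hv : ∀ v : Perm (Fin n), v = swap a c * swap b d * t * (swap a c * swap b d)⁻¹ →
        v c = d ∧ v d = c := by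
      intro v hv
      constructor
      · rw [hv]
        simp only [mul_inv_rev, swap_inv, Perm.mul_apply]
        rw [swap_apply_right, swap_apply_of_ne_of_ne (Ne.symm ha) (Ne.symm hda), ← hb,
          swap_apply_left, swap_apply_of_ne_of_ne hda (Ne.symm hcd)]
      · rw [hv]
        simp only [mul_inv_rev, swap_inv, Perm.mul_apply]
        rw [swap_apply_of_ne_of_ne hda (Ne.symm hcd), swap_apply_right, hba,
          swap_apply_of_ne_of_ne (Ne.symm ha) (Ne.symm hda), swap_apply_left]
    obtain ⟨v, hvdef⟩ : ∃ v : Perm (Fin n),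
        v = swap a c * swap b d * t * (swap a c * swap b d)⁻¹ := ⟨_, rfl⟩
    obtain ⟨hvc, hvd⟩ := hv v hvdef
    refine ⟨v, isConj_iff.mpr ⟨swap a c * swap b d, hvdef.symm⟩, ?_, ?_, ?_⟩
    · intro h
      rw [h, htc] at hvc
      exact hcd hvc
    · apply nadj_not_odd _ c
      · simp only [Perm.mul_apply]
        rw [hvc, htd]
        exact Ne.symm hcd
      · simp only [Perm.mul_apply]
        rw [hvc, htd, hvd, htc]
    · apply nadj_not_odd _ c
      · simp only [Perm.mul_apply]
        rw [htc, hvc]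
        exact Ne.symm hcd
      · simp only [Perm.mul_apply]
        rw [htc, hvc, htd, hvd]

end Cfsg.Agent.S3265P
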