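import Mathlib
import Cfsg.Agent.Helper27.S4150Defs

/-!
# S4150 piece FIXMOD (driver helper27; helper23): fixed points of an element of order dividing `p` on an invariant finset
-/

set_option autoImplicit false
set_option linter.unusedSectionVars false

namespace Cfsg.Agent.S4150P

open Equiv Equiv.Perm MulAction

section
variable {α : Type*} [Fintype α] [DecidableEq α]

namespace FIXMOD

/-- an invariant finset is invariant under all powers -/
theorem pow_mem (t : Perm α) (O : Finset α) (hO : ∀ a ∈ O, t a ∈ O) (n : ℕ) :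
    ∀ a ∈ O, (t ^ n) a ∈ O := by
  induction n with
  | zero => intro a ha; simpa using ha
  | succ n ih =>
    intro a ha
    rw [pow_succ, Perm.mul_apply]
    exact ih _ (hO a ha)

theorem mem_iff {p : ℕ} (hp : p.Prime) (t : Perm α) (ht : t ^ p = 1) (O : Finset α)
    (hO : ∀ a ∈ O, t a ∈ O) (a : α) : a ∈ O ↔ t a ∈ O := by
  constructor
  · exact hO a
  · intro h
    have h1 := pow_mem t O hO (p - 1) (t a) h
    have h2 : (t ^ (p - 1)) (t a) = a := by
      rw [← Perm.mul_apply, ← pow_succ, Nat.sub_add_cancel hp.one_le, ht, Perm.one_apply]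
    rwa [h2] at h1

end FIXMOD

/-- FIXMOD [M]: fixed points of an element of order dividing `p` on an invariant finset. -/
theorem FIXMOD.main {p : ℕ} (hp : p.Prime) (t : Perm α) (ht : t ^ p = 1) (O : Finset α)
    (hO : ∀ a ∈ O, t a ∈ O) : (O.filter (fun a => t a = a)).card % p = O.card % p := by
  have : Fact p.Prime := ⟨hp⟩
  set σ : Perm {x // x ∈ O} := t.subtypePerm (fun x => (FIXMOD.mem_iff hp t ht O hO x).symm) with hσ
  have hσp : σ ^ p ^ 1 = 1 := by
    rw [pow_one, hσ, Equiv.Perm.subtypePerm_pow]
    ext x
    simp [ht]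
  have h1 := Equiv.Perm.card_compl_support_modEq (p := p) (n := 1) hσp
  have h2 : (O.filter (fun a => t a = a)) =
      ((support σ)ᶜ).map (Function.Embedding.subtype (fun x => x ∈ O)) := by
    ext a
    simp only [Finset.mem_filter, Finset.mem_map, Finset.mem_compl, Equiv.Perm.mem_support,
      not_not, Function.Embedding.coe_subtype, Subtype.exists, exists_and_right, exists_eq_right]
    constructor
    · rintro ⟨ha, hta⟩
      refine ⟨ha, ?_⟩
      apply Subtype.ext
      rw [hσ, Equiv.Perm.subtypePerm_apply]
      exact hta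
    · rintro ⟨ha, hta⟩
      refine ⟨ha, ?_⟩
      have := congrArg Subtype.val hta
      rwa [hσ, Equiv.Perm.subtypePerm_apply] at this
  rw [h2, Finset.card_map]
  have h3 : Fintype.card {x // x ∈ O} = O.card := Fintype.card_coe O
  rw [h3] at h1
  exact h1

end

end Cfsg.Agent.S4150P
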