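import Mathlib
import Cfsg.Prelude.Def_GeometricClasses
import Cfsg.Agent.Helper29.S5655.Defs

/-! # S5655, half `k ≥ 2`, piece SSB: basic closure properties of `SS D M`. -/

set_option autoImplicit false

namespace Cfsg.Agent.S5655P

open Matrix Module
open Cfsg.Agent.S2644 Cfsg.Agent.Helper2.SUGen Cfsg.Agent.Helper28.SimMax Cfsg.Agent.S5658P

variable {K : Type*} [Field K] {q n t k : ℕ}

local notation "h" => Cfsg.hermForm n K q
local notation "T" => Cfsg.unitaryTransvection n q

/-- piece SSB (S): `pure`: `T x c ∈ HH q B` (`pres_T`, `det_T`, StabM with the identity permutation: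
`T x c z = z + (c * h z x) • x`), then `hM.ge`.  `map`: `pres_of_MS` + `MS_conj_T`.  `smul`: `T_smul`. -/
theorem SSB.pure (D : Frob K q) {B : Fin t → Submodule K (Fin n → K)} (hB : UD q k B)
    {M : Subgroup (Matrix.GeneralLinearGroup (Fin n) K)} (hM : Over q B M) {i : Fin t}
    {x : Fin n → K} (hx : x ∈ B i) (hxx : h x x = 0) : x ∈ SS D M := by
  refine ⟨hxx, fun c hc => ?_⟩
  apply hM.ge
  refine ⟨pres_T D hxx hc, det_T D hxx c, 1, ?_⟩
  intro j z hz
  rw [Equiv.Perm.one_apply, T_mulVec]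
  by_cases hji : j = i
  · subst hji
    exact (B j).add_mem hz ((B j).smul_mem _ hx)
  · rw [hB.orth j i hji z hz x hx, mul_zero, zero_smul, add_zero]
    exact hz

theorem SSB.map (D : Frob K q) {B : Fin t → Submodule K (Fin n → K)}
    {M : Subgroup (Matrix.GeneralLinearGroup (Fin n) K)} (hM : Over q B M) {v : Fin n → K}
    (hv : v ∈ SS D M) {A : Matrix (Fin n) (Fin n) K} (hA : A ∈ MS M) : A *ᵥ v ∈ SS D M := by
  refine ⟨?_, fun c hc => ?_⟩
  · rw [pres_of_MS hM.le hA v v]
    exact hv.1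
  · exact MS_conj_T D hM.le hA (hv.2 c hc)

theorem SSB.smul (D : Frob K q) {M : Subgroup (Matrix.GeneralLinearGroup (Fin n) K)}
    {v : Fin n → K} (hv : v ∈ SS D M) (a : K) : a • v ∈ SS D M := by
  refine ⟨?_, fun c hc => ?_⟩
  · rw [h_smul_left, h_smul_right D, hv.1, mul_zero, mul_zero]
  · rw [T_smul D]
    apply hv.2
    rw [map_mul, map_mul, D.invol, hc]
    ring

theorem SSB.zero (D : Frob K q) (M : Subgroup (Matrix.GeneralLinearGroup (Fin n) K)) :
    (0 : Fin n → K) ∈ SS D M := by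
  refine ⟨h_zero_left _, fun c _ => ?_⟩
  rw [T_zero_vec]
  exact ⟨1, M.one_mem, rfl⟩

end Cfsg.Agent.S5655P
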