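import Mathlib
import Cfsg.Prelude.Def_GeometricClasses
import Cfsg.Agent.Helper18.S5707.Defs
import Cfsg.Agent.Helper20.S5707TENS
import Cfsg.Agent.Helper18.S5707COMM
import Cfsg.Agent.Helper6.S5707ISOMEM

/-!
# S5707 piece K4ZOMEGA (driver helper18; helper23): the involution `z` lies in `Ω` (`k = 4`)
-/

set_option autoImplicit false
set_option linter.unusedSimpArgs false
set_option linter.unusedSectionVars false

namespace Cfsg.Agent.S5707P

open Matrix

variable {F : Type*} [Field F] {k t : ℕ}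

namespace K4ZOMEGA

theorem Eab_sq : (Eab : Matrix (Fin 4) (Fin 4) F) * Eab = 0 := by
  ext i j; fin_cases i <;> fin_cases j <;> simp [Eab, Matrix.mul_apply, Fin.sum_univ_four]

theorem Ea'_sq : (Ea' : Matrix (Fin 4) (Fin 4) F) * Ea' = 0 := by
  ext i j; fin_cases i <;> fin_cases j <;> simp [Ea', Matrix.mul_apply, Fin.sum_univ_four]

theorem Eab_Ea' : (Eab : Matrix (Fin 4) (Fin 4) F) * Ea' + Ea' * Eab = Eb := by
  ext i j; fin_cases i <;> fin_cases j <;> simp [Eab, Ea', Eb, Matrix.mul_apply, Fin.sum_univ_four]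

theorem Eab_Ea'_Eab : (Eab : Matrix (Fin 4) (Fin 4) F) * Ea' * Eab = 0 := by
  ext i j; fin_cases i <;> fin_cases j <;> simp [Eab, Ea', Matrix.mul_apply, Fin.sum_univ_four]

theorem J4_Eab_symm : ((J4 : Matrix (Fin 4) (Fin 4) F) * Eab).IsSymm := by
  ext i j; fin_cases i <;> fin_cases j <;> simp [Eab, J4, Matrix.mul_apply, Fin.sum_univ_four]

theorem J4_Ea'_symm : ((J4 : Matrix (Fin 4) (Fin 4) F) * Ea').IsSymm := by
  ext i j; fin_cases i <;> fin_cases j <;> simp [Ea', J4, Matrix.mul_apply, Fin.sum_univ_four]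

theorem J4_one_symm : ((J4 : Matrix (Fin 4) (Fin 4) F) * (1 : Matrix (Fin 4) (Fin 4) F)).IsSymm := by
  ext i j; fin_cases i <;> fin_cases j <;> simp [J4]

theorem J4_one_diag (a : Fin 4) :
    ((J4 : Matrix (Fin 4) (Fin 4) F) * (1 : Matrix (Fin 4) (Fin 4) F)) a a = 0 := by
  fin_cases a <;> simp [J4]

theorem J4_Ea'_diag (a : Fin 4) :
    ((J4 : Matrix (Fin 4) (Fin 4) F) * (Ea' : Matrix (Fin 4) (Fin 4) F)) a a = 0 := by
  fin_cases a <;> simp [Ea', J4, Matrix.mul_apply, Fin.sum_univ_four]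

theorem Eab_rows (a b : Fin 4) (h : a ∉ ({0} : Set (Fin 4))) :
    (Eab : Matrix (Fin 4) (Fin 4) F) a b = 0 := by
  fin_cases a <;> fin_cases b <;> simp_all [Eab]

theorem J4_zero (a : Fin 4) (ha : a ∈ ({0} : Set (Fin 4))) (b : Fin 4) (hb : b ∈ ({0} : Set (Fin 4))) :
    (J4 : Matrix (Fin 4) (Fin 4) F) a b = 0 := by
  rw [Set.mem_singleton_iff] at ha hb
  subst ha; subst hb
  simp [J4]

/-- square-zero involutions with the same matrix are equal -/
theorem invo_congr [CharP F 2] {N N' : Matrix (X k t) (X k t) F} (h : N = N') (hN : N * N = 0)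
    (hN' : N' * N' = 0) : invo N hN = invo N' hN' := by
  subst h
  rfl

/-- the product of a one-site and a two-site operator with the same first site -/
theorem loc_mul_loc2 {s0 s1 : Fin t} (h01 : s0 ≠ s1) (A B C : Matrix (Fin k) (Fin k) F) :
    loc s0 A * loc2 s0 s1 B C = loc2 s0 s1 (A * B) C := by
  unfold loc loc2
  rw [TENS.tensM_mul]
  congr 1
  funext i
  by_cases h1 : i = s1
  · subst h1
    rw [Function.update_self, Function.update_self, upd1, Function.update_of_ne (Ne.symm h01),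
      Matrix.one_mul]
  · rw [Function.update_of_ne h1, Function.update_of_ne h1]
    by_cases h0 : i = s0
    · subst h0
      rw [upd1, upd1, upd1, Function.update_self, Function.update_self, Function.update_self]
    · rw [upd1, upd1, upd1, Function.update_of_ne h0, Function.update_of_ne h0,
        Function.update_of_ne h0, Matrix.one_mul]

theorem loc2_mul_loc {s0 s1 : Fin t} (h01 : s0 ≠ s1) (A B C : Matrix (Fin k) (Fin k) F) :
    loc2 s0 s1 B C * loc s0 A = loc2 s0 s1 (B * A) C := by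
  unfold loc loc2
  rw [TENS.tensM_mul]
  congr 1
  funext i
  by_cases h1 : i = s1
  · subst h1
    rw [Function.update_self, Function.update_self, upd1, Function.update_of_ne (Ne.symm h01),
      Matrix.mul_one]
  · rw [Function.update_of_ne h1, Function.update_of_ne h1]
    by_cases h0 : i = s0
    · subst h0
      rw [upd1, upd1, upd1, Function.update_self, Function.update_self, Function.update_self]
    · rw [upd1, upd1, upd1, Function.update_of_ne h0, Function.update_of_ne h0,
        Function.update_of_ne h0, Matrix.mul_one]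

theorem loc2_mul_loc2 {s0 s1 : Fin t} (h01 : s0 ≠ s1) (A B C D : Matrix (Fin k) (Fin k) F) :
    loc2 s0 s1 A B * loc2 s0 s1 C D = loc2 s0 s1 (A * C) (B * D) := by
  unfold loc2
  rw [TENS.tensM_mul]
  congr 1
  funext i
  by_cases h1 : i = s1
  · subst h1
    rw [Function.update_self, Function.update_self, Function.update_self]
  · rw [Function.update_of_ne h1, Function.update_of_ne h1, Function.update_of_ne h1]
    by_cases h0 : i = s0
    · subst h0
      rw [upd1, upd1, upd1, Function.update_self, Function.update_self, Function.update_self]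
    · rw [upd1, upd1, upd1, Function.update_of_ne h0, Function.update_of_ne h0,
        Function.update_of_ne h0, Matrix.one_mul]

theorem upd_comm {s0 s1 : Fin t} (h01 : s0 ≠ s1) (A C : Matrix (Fin k) (Fin k) F)
    (f : Fin t → Matrix (Fin k) (Fin k) F) :
    Function.update (Function.update f s0 A) s1 C = Function.update (Function.update f s1 C) s0 A :=
  Function.update_comm h01 A C f

/-- additivity of `loc2` in the first factor -/
theorem loc2_add {s0 s1 : Fin t} (h01 : s0 ≠ s1) (A B C : Matrix (Fin k) (Fin k) F) :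
    loc2 s0 s1 A C + loc2 s0 s1 B C = loc2 s0 s1 (A + B) C := by
  unfold loc2 upd1
  rw [upd_comm h01 A C, upd_comm h01 B C, upd_comm h01 (A + B) C, TENS.tensM_update_add]

theorem loc2_zero_left {s0 s1 : Fin t} (h01 : s0 ≠ s1) (C : Matrix (Fin k) (Fin k) F) :
    loc2 s0 s1 (0 : Matrix (Fin k) (Fin k) F) C = 0 := by
  unfold loc2
  apply TENS.tensM_eq_zero _ s0
  rw [Function.update_of_ne h01, upd1, Function.update_self]

theorem loc2_zero_right {s0 s1 : Fin t} (A : Matrix (Fin k) (Fin k) F) :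
    loc2 s0 s1 A (0 : Matrix (Fin k) (Fin k) F) = 0 := by
  unfold loc2
  apply TENS.tensM_eq_zero _ s1
  rw [Function.update_self]

end K4ZOMEGA

/-- piece K4ZOMEGA (M; uses COMM, ISOMEM, TENS): `P = loc s0 Eab`, `R = loc2 s0 s1 Ea' Eab`. -/
theorem K4.z_mem_omegaGL [CharP F 2] {c : F} {Q : (X 4 t → F) → F} (hQ : StdQ (J4 : Matrix (Fin 4) (Fin 4) F) c Q)
    (s0 s1 : Fin t) (h01 : s0 ≠ s1)
    (hN : loc2 s0 s1 (Eb : Matrix (Fin 4) (Fin 4) F) Eab * loc2 s0 s1 Eb Eab = 0) :
    invo (loc2 s0 s1 Eb Eab) hN ∈ Cfsg.Geo.omegaGL Q := by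
  set P : Matrix (X 4 t) (X 4 t) F := loc s0 (Eab : Matrix (Fin 4) (Fin 4) F) with hPdef
  set R : Matrix (X 4 t) (X 4 t) F := loc2 s0 s1 (Ea' : Matrix (Fin 4) (Fin 4) F) Eab with hRdef
  have hPR : P * R = loc2 s0 s1 ((Eab : Matrix (Fin 4) (Fin 4) F) * Ea') Eab :=
    K4ZOMEGA.loc_mul_loc2 h01 _ _ _
  have hRP : R * P = loc2 s0 s1 ((Ea' : Matrix (Fin 4) (Fin 4) F) * Eab) Eab :=
    K4ZOMEGA.loc2_mul_loc h01 _ _ _
  have hsum : P * R + R * P = loc2 s0 s1 (Eb : Matrix (Fin 4) (Fin 4) F) Eab := by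
    rw [hPR, hRP, K4ZOMEGA.loc2_add h01, K4ZOMEGA.Eab_Ea']
  have hP : P * P = 0 := by
    apply TENS.tensM_sq_zero _ s0
    rw [upd1, Function.update_self, K4ZOMEGA.Eab_sq]
  have hR : R * R = 0 := by
    rw [hRdef, K4ZOMEGA.loc2_mul_loc2 h01, K4ZOMEGA.Ea'_sq, K4ZOMEGA.loc2_zero_left h01]
  have hPRP : P * R * P = 0 := by
    rw [hPR, K4ZOMEGA.loc2_mul_loc h01, K4ZOMEGA.Eab_Ea'_Eab, K4ZOMEGA.loc2_zero_left h01]
  have hRPR : R * P * R = 0 := by
    rw [hRP, hRdef, K4ZOMEGA.loc2_mul_loc2 h01, K4ZOMEGA.Eab_sq, K4ZOMEGA.loc2_zero_right]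
  have hN' : (P * R + R * P) * (P * R + R * P) = 0 := by rw [hsum]; exact hN
  have hiP : invo P hP ∈ Cfsg.isometryGroup F Q := by
    apply ISOMEM.invo_mem hQ (upd1 s0 (Eab : Matrix (Fin 4) (Fin 4) F)) hP _ s1 _ s0 ({0} : Set (Fin 4))
      K4ZOMEGA.J4_zero
    · intro a b ha
      rw [upd1, Function.update_self]
      exact K4ZOMEGA.Eab_rows a b ha
    · intro i
      by_cases h0 : i = s0
      · subst h0
        rw [upd1, Function.update_self]
        exact K4ZOMEGA.J4_Eab_symm
      · rw [upd1, Function.update_of_ne h0]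
        exact K4ZOMEGA.J4_one_symm
    · intro a
      rw [upd1, Function.update_of_ne (Ne.symm h01)]
      exact K4ZOMEGA.J4_one_diag a
  have hiR : invo R hR ∈ Cfsg.isometryGroup F Q := by
    apply ISOMEM.invo_mem hQ (Function.update (upd1 s0 (Ea' : Matrix (Fin 4) (Fin 4) F)) s1 Eab) hR _ s0 _
      s1 ({0} : Set (Fin 4)) K4ZOMEGA.J4_zero
    · intro a b ha
      rw [Function.update_self]
      exact K4ZOMEGA.Eab_rows a b ha
    · intro i
      by_cases h1 : i = s1
      · subst h1
        rw [Function.update_self]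
        exact K4ZOMEGA.J4_Eab_symm
      · rw [Function.update_of_ne h1]
        by_cases h0 : i = s0
        · subst h0
          rw [upd1, Function.update_self]
          exact K4ZOMEGA.J4_Ea'_symm
        · rw [upd1, Function.update_of_ne h0]
          exact K4ZOMEGA.J4_one_symm
    · intro a
      rw [Function.update_of_ne h01, upd1, Function.update_self]
      exact K4ZOMEGA.J4_Ea'_diag a
  have key := COMM.mem_omegaGL P R hP hR hPRP hRPR hN' hiP hiR
  rwa [K4ZOMEGA.invo_congr hsum hN' hN] at key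

end Cfsg.Agent.S5707P
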