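import Mathlib
import Cfsg.Prelude.Def_Classical
import Cfsg.Agent.Helper23.S5953Defs
import Cfsg.Agent.Helper7.S5953IRRNDU
import Cfsg.Agent.Helper7.S5953ORTHCU
import Cfsg.Agent.Helper26.S5955IRRSUB
import Cfsg.Agent.Helper3.S5949NTS

set_option autoImplicit false
open scoped MatrixGroups Matrix

/-! S5953 piece NDCHAIN. -/

namespace Cfsg.Agent.S5953P

open Polynomial Cfsg.Agent.S5955P Cfsg.Agent.Helper28.HW Cfsg.Agent.Helper28.HermFrame

namespace NDCHAIN

variable {F V : Type*} [Field F] [AddCommGroup V] [Module F V] {σ : F →+* F}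

/-- pairwise orthogonal nondegenerate subspaces are independent -/
theorem indep_of_orth_u [Fintype F] {q : ℕ} (B : V →ₛₗ[σ] V →ₗ[F] F) (hB : IsHerm q B)
    {ι : Type*} (E : ι → Submodule F V)
    (hE : ∀ j, NondegU B (E j)) (ho : ∀ j j', j ≠ j' → OrthU B (E j) (E j')) : iSupIndep E := by
  intro j
  rw [Submodule.disjoint_def]
  intro v hv hv'
  by_contra hv0
  obtain ⟨w, hw, hne⟩ := hE j v hv hv0
  apply hne
  apply hB.eq_zero_comm
  have hle : (⨆ k, ⨆ (_ : k ≠ j), E k) ≤ LinearMap.ker (B w) := by
    refine iSup₂_le fun k hk => ?_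
    intro u hu
    rw [LinearMap.mem_ker]
    exact ho j k (Ne.symm hk) w hw u hu
  have := hle hv'
  rwa [LinearMap.mem_ker] at this

theorem iSup_cons {m : ℕ} (U : Submodule F V) (g : Fin m → Submodule F V) :
    (⨆ j, (Fin.cons U g : Fin (m + 1) → Submodule F V) j) = U ⊔ ⨆ j, g j := by
  apply le_antisymm
  · refine iSup_le fun j => ?_
    refine Fin.cases ?_ (fun j' => ?_) j
    · rw [Fin.cons_zero]; exact le_sup_left
    · rw [Fin.cons_succ]; exact le_sup_of_le_right (le_iSup g j')
  · refine sup_le ?_ (iSup_le fun j => ?_)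
    · have := le_iSup (Fin.cons U g : Fin (m + 1) → Submodule F V) 0
      rwa [Fin.cons_zero] at this
    · have := le_iSup (Fin.cons U g : Fin (m + 1) → Submodule F V) j.succ
      rwa [Fin.cons_succ] at this

/-- `y ^ r = 1`, `0 < r`: `y` is injective -/
theorem injective_of_pow (y : Module.End F V) (r : ℕ) (hr : 0 < r) (hy : y ^ r = 1) :
    Function.Injective y := by
  intro a b hab
  have h1 : (y ^ r) a = (y ^ r) b := by
    obtain ⟨k, rfl⟩ : ∃ k, r = k + 1 := ⟨r - 1, by omega⟩
    rw [pow_succ, Module.End.mul_apply, Module.End.mul_apply, hab]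
  rwa [hy] at h1

end NDCHAIN

open NDCHAIN in
/-- NDCHAIN: either there is a totally isotropic irreducible invariant subspace, or `M` is an
orthogonal sum of nondegenerate irreducible ones -/
theorem exists_ti_irr_or_decomp_u {F V : Type*} [Field F] [Fintype F] [AddCommGroup V]
    [Module F V] [FiniteDimensional F V] {p : ℕ} [Fact p.Prime] [CharP F p] {q : ℕ} (r : ℕ)
    [Fact r.Prime] (hrp : r ≠ p) {σ : F →+* F} (B : V →ₛₗ[σ] V →ₗ[F] F) (y : Module.End F V)
    (h : IsYU q B y r) (M : Submodule F V) (hM : M.map y ≤ M) (hMnd : NondegU B M)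
    (hMfix : M ⊓ LinearMap.ker (y - 1) = ⊥) :
    (∃ U : Submodule F V, U ≤ M ∧ U.map y ≤ U ∧ OrthU B U U ∧
      Module.finrank F U = orderOf ((Fintype.card F : ℕ) : ZMod r)) ∨
    (∃ (D : ℕ) (E : Fin D → Submodule F V), (∀ j, E j ≤ M) ∧ (∀ j, (E j).map y ≤ E j) ∧
      (∀ j, NondegU B (E j)) ∧
      (∀ j, Module.finrank F (E j) = orderOf ((Fintype.card F : ℕ) : ZMod r)) ∧
      (∀ j j', j ≠ j' → OrthU B (E j) (E j')) ∧ iSupIndep E ∧ (⨆ j, E j) = M) := by
  classical
  have hrpr : r.Prime := Fact.out
  have hb0 : 0 < orderOf ((Fintype.card F : ℕ) : ZMod r) :=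
    Cfsg.Agent.S5949P.orderOf_card_pos (p := p) r hrp
  have hyinj : Function.Injective y := injective_of_pow y r hrpr.pos h.pow
  -- strong induction on the dimension
  induction hn : Module.finrank F M using Nat.strong_induction_on generalizing M with
  | _ n ih =>
    by_cases hM0 : M = ⊥
    · right
      refine ⟨0, Fin.elim0, fun j => j.elim0, fun j => j.elim0, fun j => j.elim0,
        fun j => j.elim0, fun j => j.elim0, ?_, ?_⟩
      · intro j; exact j.elim0
      · rw [hM0]; simp
    · obtain ⟨U, hUM, hUinv, hUdim, hUirr⟩ := exists_irr_sub (p := p) r hrp y h.pow M hM hM0 hMfix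
      rcases irr_dichotomy_u B h.herm y h.isom hyinj U hUinv hUirr with hti | hnd
      · left
        exact ⟨U, hUM, hUinv, hti, hUdim⟩
      · obtain ⟨hsup, hdisj, hM₂nd, hfr, ho1, ho2, hinvc⟩ := orth_compl_u B h.herm M U hUM hMnd hnd
        set M₂ := M ⊓ perp B U with hM₂
        have hM₂M : M₂ ≤ M := inf_le_left
        have hM₂inv : M₂.map y ≤ M₂ := hinvc y h.isom hyinj hUinv hM
        have hM₂fix : M₂ ⊓ LinearMap.ker (y - 1) = ⊥ := by
          rw [eq_bot_iff, ← hMfix]
          exact inf_le_inf_right _ hM₂M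
        have hlt : Module.finrank F M₂ < n := by omega
        rcases ih _ hlt M₂ hM₂inv hM₂nd hM₂fix rfl with ⟨U', hU'M, hU'inv, hU'ti, hU'dim⟩ |
          ⟨D', E', hE'M, hE'inv, hE'nd, hE'dim, hE'o, hE'ind, hE'sup⟩
        · left
          exact ⟨U', hU'M.trans hM₂M, hU'inv, hU'ti, hU'dim⟩
        · right
          have hEnd : ∀ j, NondegU B ((Fin.cons U E' : Fin (D' + 1) → Submodule F V) j) := by
            intro j
            refine Fin.cases ?_ (fun j' => ?_) j
            · rw [Fin.cons_zero]; exact hnd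
            · rw [Fin.cons_succ]; exact hE'nd j'
          have hEo : ∀ j j', j ≠ j' →
              OrthU B ((Fin.cons U E' : Fin (D' + 1) → Submodule F V) j)
                ((Fin.cons U E' : Fin (D' + 1) → Submodule F V) j') := by
            intro j j'
            refine Fin.cases ?_ (fun j₁ => ?_) j <;> refine Fin.cases ?_ (fun j₂ => ?_) j'
            · intro hne; exact absurd rfl hne
            · intro _
              rw [Fin.cons_zero, Fin.cons_succ]
              exact fun u hu v hv => ho1 u hu v (hE'M j₂ hv)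
            · intro _
              rw [Fin.cons_zero, Fin.cons_succ]
              exact fun u hu v hv => ho2 u (hE'M j₁ hu) v hv
            · intro hne
              rw [Fin.cons_succ, Fin.cons_succ]
              exact hE'o j₁ j₂ (fun h => hne (by rw [h]))
          refine ⟨D' + 1, Fin.cons U E', ?_, ?_, hEnd, ?_, hEo,
            indep_of_orth_u B h.herm _ hEnd hEo, ?_⟩
          · intro j
            refine Fin.cases ?_ (fun j' => ?_) j
            · rw [Fin.cons_zero]; exact hUM
            · rw [Fin.cons_succ]; exact (hE'M j').trans hM₂M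
          · intro j
            refine Fin.cases ?_ (fun j' => ?_) j
            · rw [Fin.cons_zero]; exact hUinv
            · rw [Fin.cons_succ]; exact hE'inv j'
          · intro j
            refine Fin.cases ?_ (fun j' => ?_) j
            · rw [Fin.cons_zero]; exact hUdim
            · rw [Fin.cons_succ]; exact hE'dim j'
          · rw [iSup_cons, hE'sup, hsup]

end Cfsg.Agent.S5953P
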