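import Mathlib
import Cfsg.Prelude.Def_Classical
import Cfsg.Agent.Helper23.S5953Defs
import Cfsg.Agent.Helper8.S5953SDNTA
import Cfsg.Agent.Helper18.S5953SDNTF
import Cfsg.Agent.Helper18.S5953ARITHU
import Cfsg.Agent.Helper26.S5955UNIQ
import Cfsg.Agent.Helper26.S5955IRRDIV
import Cfsg.Agent.Helper3.S5949NTS

set_option autoImplicit false
open scoped MatrixGroups Matrix

/-! S5953 piece SDNT: a nondegenerate irreducible invariant subspace exists only if
`i ≡ 2 (mod 4)`. -/

namespace Cfsg.Agent.S5953P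

open Polynomial Cfsg.Agent.S5955P Cfsg.Agent.Helper28.HW Cfsg.Agent.Helper28.HermFrame

namespace SDNT

variable {F V : Type*} [Field F] [AddCommGroup V] [Module F V]

/-- polynomials in `y` preserve invariant subspaces -/
theorem aeval_mem (y : Module.End F V) (U : Submodule F V) (hU : U.map y ≤ U) (P : F[X])
    (v : V) (hv : v ∈ U) : aeval y P v ∈ U := by
  induction P using Polynomial.induction_on' with
  | add p q hp hq => rw [map_add, LinearMap.add_apply]; exact U.add_mem hp hq
  | monomial n a =>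
    rw [← C_mul_X_pow_eq_monomial, map_mul, aeval_C, map_pow, aeval_X, Module.End.mul_apply,
      Module.algebraMap_end_apply]
    apply U.smul_mem
    induction n with
    | zero => simpa using hv
    | succ n ih =>
      rw [pow_succ', Module.End.mul_apply]
      exact hU ⟨_, ih, rfl⟩

theorem pow_mem (y : Module.End F V) (U : Submodule F V) (hU : U.map y ≤ U) (n : ℕ)
    (v : V) (hv : v ∈ U) : (y ^ n) v ∈ U := by
  induction n with
  | zero => simpa using hv
  | succ n ih =>
    rw [pow_succ', Module.End.mul_apply]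
    exact hU ⟨_, ih, rfl⟩

/-- a polynomial killing the irreducible `U` is divisible by its annihilator `g` -/
theorem dvd_of_kills [FiniteDimensional F V] (y : Module.End F V) (U : Submodule F V)
    (h4 : ∀ h : F[X], h ≠ 0 → h.natDegree < Module.finrank F U → ∀ v ∈ U, v ≠ 0 →
      aeval y h v ≠ 0)
    (g : F[X]) (hg : g.Monic) (hgd : g.natDegree = Module.finrank F U)
    (hgk : ∀ v ∈ U, aeval y g v = 0) (v₀ : V) (hv₀ : v₀ ∈ U) (hv₀0 : v₀ ≠ 0)
    (P : F[X]) (hP : ∀ v ∈ U, aeval y P v = 0) : g ∣ P := by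
  have hd0 : 0 < Module.finrank F U := by
    rw [Module.finrank_pos_iff_exists_ne_zero]
    exact ⟨⟨v₀, hv₀⟩, fun h => hv₀0 (by simpa using congrArg Subtype.val h)⟩
  have hg1 : g ≠ 1 := by
    intro h
    rw [h, natDegree_one] at hgd
    omega
  rw [← modByMonic_eq_zero_iff_dvd hg]
  by_contra hne
  have hdeg : (P %ₘ g).natDegree < Module.finrank F U := by
    rw [← hgd]; exact natDegree_modByMonic_lt P hg hg1
  apply h4 (P %ₘ g) hne hdeg v₀ hv₀ hv₀0
  have hsplit := modByMonic_add_div P g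
  have h1 : aeval y P v₀ = aeval y (P %ₘ g) v₀ + aeval y (g * (P /ₘ g)) v₀ := by
    conv_lhs => rw [← hsplit]
    rw [map_add, LinearMap.add_apply]
  have h2 : aeval y (g * (P /ₘ g)) v₀ = 0 := by
    rw [mul_comm, map_mul, Module.End.mul_apply, hgk v₀ hv₀, map_zero]
  rw [hP v₀ hv₀, h2, add_zero] at h1
  exact h1.symm

/-- `reverse P (y) = y ^ N * P (y⁻¹)` -/
theorem aeval_reverse_eq (y y' : Module.End F V) (hyy : y * y' = 1) (hc : Commute y y')
    (P : F[X]) : aeval y P.reverse = y ^ P.natDegree * aeval y' P := by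
  set N := P.natDegree with hN
  have hlt : P.reverse.natDegree < N + 1 := by
    have := reverse_natDegree_le P
    omega
  rw [aeval_eq_sum_range' hlt, aeval_eq_sum_range, Finset.mul_sum]
  rw [← Finset.sum_range_reflect]
  apply Finset.sum_congr rfl
  intro i hi
  rw [Finset.mem_range] at hi
  have hi' : i ≤ N := by omega
  rw [coeff_reverse, ← hN, show N + 1 - 1 - i = N - i by omega, revAt_le (by omega),
    show N - (N - i) = i by omega, mul_smul_comm]
  congr 1
  have h1 : y ^ N = y ^ (N - i) * y ^ i := by rw [← pow_add, Nat.sub_add_cancel hi']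
  rw [h1, mul_assoc, ← hc.mul_pow, hyy, one_pow, mul_one]

end SDNT

open SDNT in
/-- SDNT: a nondegenerate irreducible invariant subspace exists only if `i ≡ 2 (mod 4)` -/
theorem selfdual_nt {F V : Type*} [Field F] [Fintype F] [AddCommGroup V] [Module F V]
    [FiniteDimensional F V] {p : ℕ} [Fact p.Prime] [CharP F p] {q : ℕ} (r : ℕ) [Fact r.Prime]
    (hr2 : r ≠ 2) (hrp : r ≠ p) {σ : F →+* F} (B : V →ₛₗ[σ] V →ₗ[F] F) (y : Module.End F V)
    (h : IsYU q B y r) (U : Submodule F V) (hU : U.map y ≤ U) (hUnd : NondegU B U)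
    (hUfix : U ⊓ LinearMap.ker (y - 1) = ⊥)
    (hUdim : Module.finrank F U = orderOf ((Fintype.card F : ℕ) : ZMod r)) :
    orderOf (q : ZMod r) % 4 = 2 := by
  classical
  have hrpr : r.Prime := Fact.out
  have hr0 : 0 < r := hrpr.pos
  have hb0 : 0 < orderOf ((Fintype.card F : ℕ) : ZMod r) :=
    Cfsg.Agent.S5949P.orderOf_card_pos (p := p) r hrp
  have hU0 : U ≠ ⊥ := by
    intro h0
    rw [h0, finrank_bot] at hUdim
    omega
  obtain ⟨v₀, hv₀, hv₀0⟩ := Submodule.exists_mem_ne_zero_of_ne_bot hU0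
  have hirr := irr_of_finrank (p := p) r hrp y h.pow U hU hUfix hUdim
  obtain ⟨-, -, h3, h4⟩ := monic_unique_of_irr y U hU hirr
  obtain ⟨g, hg, hgd, hgk⟩ := h3 hU0
  have hgd' : g.natDegree = orderOf ((Fintype.card F : ℕ) : ZMod r) := hgd.trans hUdim
  have hdvd := dvd_of_kills y U h4 g hg hgd hgk v₀ hv₀ hv₀0
  -- `g` is irreducible
  have hgirr : Irreducible g := by
    rw [irreducible_iff]
    refine ⟨not_isUnit_of_natDegree_pos g (by omega), ?_⟩
    intro a c hac
    have ha0 : a ≠ 0 := by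
      rintro rfl
      rw [zero_mul] at hac
      exact hg.ne_zero hac
    have hc0 : c ≠ 0 := by
      rintro rfl
      rw [mul_zero] at hac
      exact hg.ne_zero hac
    have hdeg : a.natDegree + c.natDegree = Module.finrank F U := by
      rw [← natDegree_mul ha0 hc0, ← hac, hgd]
    by_cases ha : a.natDegree = 0
    · left
      rw [natDegree_eq_zero] at ha
      obtain ⟨a₀, rfl⟩ := ha
      have : a₀ ≠ 0 := fun h => ha0 (by rw [h, map_zero])
      exact isUnit_C.mpr (isUnit_iff_ne_zero.mpr this)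
    by_cases hc : c.natDegree = 0
    · right
      rw [natDegree_eq_zero] at hc
      obtain ⟨c₀, rfl⟩ := hc
      have : c₀ ≠ 0 := fun h => hc0 (by rw [h, map_zero])
      exact isUnit_C.mpr (isUnit_iff_ne_zero.mpr this)
    exfalso
    have h1 : aeval y c v₀ ≠ 0 := h4 c hc0 (by omega) v₀ hv₀ hv₀0
    have h2 : aeval y a (aeval y c v₀) ≠ 0 :=
      h4 a ha0 (by omega) _ (aeval_mem y U hU c v₀ hv₀) h1
    apply h2
    rw [← Module.End.mul_apply, ← map_mul, ← hac]
    exact hgk v₀ hv₀
  -- `g ∣ X ^ r - 1`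
  have hgdvd : g ∣ X ^ r - 1 := by
    apply hdvd
    intro v _
    rw [map_sub, map_pow, aeval_X, map_one, h.pow, sub_self, LinearMap.zero_apply]
  -- `g (1) ≠ 0`
  have hg1 : g.eval 1 ≠ 0 := by
    intro h0
    have hroot : (X - C (1 : F)) ∣ g := dvd_iff_isRoot.mpr h0
    obtain ⟨c, hc⟩ := hroot
    have hc0 : c ≠ 0 := by
      rintro rfl
      rw [mul_zero] at hc
      exact hg.ne_zero hc
    have hdeg : c.natDegree + 1 = Module.finrank F U := by
      rw [← hgd, hc, natDegree_mul (X_sub_C_ne_zero 1) hc0, natDegree_X_sub_C, add_comm]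
    have h1 : aeval y c v₀ ≠ 0 := h4 c hc0 (by omega) v₀ hv₀ hv₀0
    apply h1
    have hmem : aeval y c v₀ ∈ U ⊓ LinearMap.ker (y - 1) := by
      refine ⟨aeval_mem y U hU c v₀ hv₀, ?_⟩
      show aeval y c v₀ ∈ LinearMap.ker (y - 1)
      rw [LinearMap.mem_ker]
      have := hgk v₀ hv₀
      rw [hc, map_mul, Module.End.mul_apply, map_sub, aeval_X, aeval_C, map_one] at this
      exact this
    rw [hUfix] at hmem
    exact (Submodule.mem_bot F).mp hmem
  -- self-duality
  have hy1 : y ^ (r - 1) * y = 1 := by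
    rw [← pow_succ, Nat.sub_add_cancel hr0, h.pow]
  have hy2 : y * y ^ (r - 1) = 1 := by
    rw [← pow_succ', Nat.sub_add_cancel hr0, h.pow]
  have hA : ∀ v ∈ U, aeval (y ^ (r - 1)) (g.map σ) v = 0 := by
    intro v hv
    by_contra hw0
    have hU' : U.map (y ^ (r - 1)) ≤ U := by
      rintro _ ⟨u, hu, rfl⟩
      exact pow_mem y U hU (r - 1) u hu
    have hwU : aeval (y ^ (r - 1)) (g.map σ) v ∈ U := aeval_mem _ U hU' _ v hv
    obtain ⟨u, hu, hne⟩ := hUnd _ hwU hw0
    apply hne
    apply h.herm.eq_zero_comm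
    rw [← adjoint_aeval_u r hr0 B y h g u v, hgk u hu, map_zero, LinearMap.zero_apply]
  have hsd : g ∣ (g.map σ).reverse := by
    apply hdvd
    intro v hv
    rw [aeval_reverse_eq y (y ^ (r - 1)) hy2 ((Commute.refl y).pow_right _) (g.map σ),
      Module.End.mul_apply, hA v hv, map_zero]
  obtain ⟨j, hjodd, hjr⟩ := selfdual_poly_nt (p := p) h.herm.card r hr2 hrp σ h.herm.frob g hgirr
    hgd' hgdvd hg1 hsd
  exact (cu_arith2 (p := p) h.herm.card r hr2 hrp).2.1 j hjodd hjr

end Cfsg.Agent.S5953P
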