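import Mathlib
import Cfsg.Prelude.Def_GeometricClasses
import Cfsg.Prelude.Def_Classical
import Cfsg.Prelude.Def_LieClassical
import Cfsg.Agent.Helper23.S5984Defs
import Cfsg.Agent.Helper8.S5984NTREFL
import Cfsg.Agent.Helper13.S5984POSB

set_option autoImplicit false
open scoped MatrixGroups Matrix

/-! # S5984 piece DREFL. -/

namespace Cfsg.Agent.S5984P

open Cfsg.Agent.S2644 Cfsg.Agent.Helper2.SUGen Cfsg.Agent.Helper28.UPair

namespace DREFL

variable {F : Type*} [Field F] {q n : ℕ}

/-- a diagonal matrix with norm-one entries preserves the Hermitian form -/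
theorem pres_diagonal (d : Fin n → F) (hd : ∀ i, d i ^ (q + 1) = 1) :
    Pres (q := q) (Matrix.diagonal d) := by
  intro u v
  unfold Cfsg.hermForm
  apply Finset.sum_congr rfl
  intro i _
  rw [Matrix.mulVec_diagonal, Matrix.mulVec_diagonal, mul_pow]
  have : d i * u i * (d i ^ q * v i ^ q) = d i ^ (q + 1) * (u i * v i ^ q) := by ring
  rw [this, hd i, one_mul]

/-- the diagonal matrix as an element of `GL` -/
noncomputable def diagGL (d : Fin n → F) (hd : ∀ i, d i ≠ 0) : GL (Fin n) F :=
  ⟨Matrix.diagonal d, Matrix.diagonal (fun i => (d i)⁻¹), by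
    rw [Matrix.diagonal_mul_diagonal]
    have : (fun i => d i * (d i)⁻¹) = fun _ => (1 : F) := by
      funext i; exact mul_inv_cancel₀ (hd i)
    rw [this, Matrix.diagonal_one], by
    rw [Matrix.diagonal_mul_diagonal]
    have : (fun i => (d i)⁻¹ * d i) = fun _ => (1 : F) := by
      funext i; exact inv_mul_cancel₀ (hd i)
    rw [this, Matrix.diagonal_one]⟩

theorem diagGL_val (d : Fin n → F) (hd : ∀ i, d i ≠ 0) :
    ((diagGL d hd : GL (Fin n) F) : Matrix (Fin n) (Fin n) F) = Matrix.diagonal d := rfl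

/-- the eigenspace dimension of a diagonal matrix all of whose entries but the first are `μ` -/
theorem kd_diag_first (m : ℕ) (d : Fin (m + 1) → F) (μ : F) (h0 : d 0 ≠ μ)
    (hs : ∀ i : Fin m, d i.succ = μ) : kd (Matrix.diagonal d) μ = m := by
  classical
  have hE : Module.End.eigenspace (Matrix.toLin' (Matrix.diagonal d)) μ =
      LinearMap.ker (LinearMap.proj (R := F) (φ := fun _ : Fin (m + 1) => F) 0) := by
    ext v
    rw [mem_eig, LinearMap.mem_ker, LinearMap.proj_apply]
    constructor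
    · intro hv
      have h1 := congrFun hv 0
      rw [Matrix.mulVec_diagonal, Pi.smul_apply, smul_eq_mul] at h1
      have h2 : (d 0 - μ) * v 0 = 0 := by rw [sub_mul, h1, sub_self]
      rcases mul_eq_zero.mp h2 with h3 | h3
      · exact absurd (sub_eq_zero.mp h3) h0
      · exact h3
    · intro hv
      funext i
      rw [Matrix.mulVec_diagonal, Pi.smul_apply, smul_eq_mul]
      refine Fin.cases ?_ (fun j => ?_) i
      · rw [hv, mul_zero, mul_zero]
      · rw [hs j]
  rw [kd_def, hE]
  have h1 := LinearMap.finrank_range_add_finrank_ker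
    (LinearMap.proj (R := F) (φ := fun _ : Fin (m + 1) => F) 0)
  have h2 : LinearMap.range (LinearMap.proj (R := F) (φ := fun _ : Fin (m + 1) => F) 0) = ⊤ :=
    LinearMap.range_eq_top.mpr (LinearMap.proj_surjective 0)
  rw [h2, finrank_top, Module.finrank_self, Module.finrank_fin_fun] at h1
  omega

end DREFL

open DREFL in
/-- DREFL: a reflection times a scalar, of determinant one -/
theorem exists_refl {F : Type*} [Field F] [Fintype F] {q n : ℕ} (hF : Fintype.card F = q ^ 2)
    (hq : Odd q) (hn : 2 ≤ n) (hv : padicValNat 2 n < padicValNat 2 (q + 1)) :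
    ∃ x : GL (Fin n) F, ∃ μ : F, x ∈ Cfsg.GU n F q ⊓ Cfsg.Geo.specialLinear (Fin n) F ∧
      μ ^ (q + 1) = 1 ∧ ((x ^ 2 : GL (Fin n) F) : Matrix (Fin n) (Fin n) F) =
        (μ ^ 2) • (1 : Matrix (Fin n) (Fin n) F) ∧ kd (x : Matrix (Fin n) (Fin n) F) μ = n - 1 := by
  classical
  have h2 : (2 : F) ≠ 0 := POSB.two_ne_zero_of_odd hF hq
  obtain ⟨μ, hμ, hμn⟩ := exists_norm_one_pow_eq_neg_one (n := n) hF hq (by omega) hv
  have hμ0 : μ ≠ 0 := by
    rintro rfl
    rw [zero_pow (by omega)] at hμ
    exact zero_ne_one hμ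
  obtain ⟨m, rfl⟩ : ∃ m, n = m + 1 := ⟨n - 1, by omega⟩
  let d : Fin (m + 1) → F := Fin.cons (-μ) (fun _ => μ)
  have hd0 : d 0 = -μ := rfl
  have hds : ∀ i : Fin m, d i.succ = μ := fun i => rfl
  have hdne : ∀ i, d i ≠ 0 := by
    intro i
    refine Fin.cases ?_ (fun j => ?_) i
    · rw [hd0]; exact neg_ne_zero.mpr hμ0
    · rw [hds]; exact hμ0
  have hdnorm : ∀ i, d i ^ (q + 1) = 1 := by
    intro i
    refine Fin.cases ?_ (fun j => ?_) i
    · rw [hd0]
      have hev : Even (q + 1) := by
        obtain ⟨t, ht⟩ := hq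
        exact ⟨t + 1, by omega⟩
      rw [hev.neg_pow, hμ]
    · rw [hds]; exact hμ
  refine ⟨diagGL d hdne, μ, ?_, hμ, ?_, ?_⟩
  · rw [Cfsg.Agent.Helper28.UM.mem_G_iff, diagGL_val]
    refine ⟨pres_diagonal d hdnorm, ?_⟩
    rw [Matrix.det_diagonal, Fin.prod_univ_succ, hd0]
    simp only [hds, Finset.prod_const, Finset.card_univ, Fintype.card_fin]
    have : -μ * μ ^ m = -(μ ^ (m + 1)) := by ring
    rw [this, hμn, neg_neg]
  · rw [Units.val_pow_eq_pow_val, diagGL_val, pow_two, Matrix.diagonal_mul_diagonal]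
    have : (fun i => d i * d i) = fun _ => μ ^ 2 := by
      funext i
      refine Fin.cases ?_ (fun j => ?_) i
      · rw [hd0]; ring
      · rw [hds]; ring
    rw [this]
    ext i j
    by_cases hij : i = j
    · subst hij; simp
    · simp [hij]
  · rw [diagGL_val, Nat.add_sub_cancel]
    apply kd_diag_first m d μ _ hds
    rw [hd0]
    intro h
    have : (2 : F) * μ = 0 := by linear_combination -h
    rcases mul_eq_zero.mp this with h3 | h3
    · exact h2 h3
    · exact hμ0 h3

end Cfsg.Agent.S5984P
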