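import Mathlib
import Cfsg.Prelude.Def_GeometricClasses

set_option autoImplicit false
open scoped MatrixGroups

/-! # S5958, piece TRANS: the number of ordered decompositions of `F^n` into `t` subspaces of
dimension `a` divides `|GL_n(F)|` (the linear automorphisms act transitively). -/

namespace Cfsg.Agent.Helper23.S5958TRANS

variable {F : Type*} [Field F] {ι : Type}

/-- the image of a decomposition under a linear automorphism -/
theorem isMDecomposition_map {t a : ℕ} {D : Fin t → Submodule F (ι → F)}
    (hD : Cfsg.Geo.IsMDecomposition a D) (φ : (ι → F) ≃ₗ[F] (ι → F)) :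
    Cfsg.Geo.IsMDecomposition a (fun j => (D j).map (φ : (ι → F) →ₗ[F] (ι → F))) where
  two_le := hD.two_le
  pos := hD.pos
  finrank_eq := fun i => by rw [LinearEquiv.finrank_map_eq]; exact hD.finrank_eq i
  indep := hD.indep.map_orderIso (Submodule.orderIsoMapComap φ)
  iSup_eq_top := by
    rw [← Submodule.map_iSup, hD.iSup_eq_top, Submodule.map_top, LinearEquiv.range]

/-- a standard decomposition of `(Fin t → Fin a → F)` -/
theorem std_decomp (t a : ℕ) :
    iSupIndep (fun j : Fin t => LinearMap.range (LinearMap.single F (fun _ : Fin t => Fin a → F) j)) ∧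
    (⨆ j : Fin t, LinearMap.range (LinearMap.single F (fun _ : Fin t => Fin a → F) j)) = ⊤ ∧
    ∀ j : Fin t, Module.finrank F
      (LinearMap.range (LinearMap.single F (fun _ : Fin t => Fin a → F) j)) = a := by
  classical
  refine ⟨?_, LinearMap.iSup_range_single F _, ?_⟩
  · intro j
    have h := LinearMap.disjoint_single_single F (fun _ : Fin t => Fin a → F) {j} {k | k ≠ j}
      (by
        rw [Set.disjoint_left]
        intro x hx hx'
        exact hx' hx)
    simpa using h
  · intro j
    rw [LinearMap.finrank_range_of_inj]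
    · exact Module.finrank_fin_fun F
    · intro x y hxy
      have := congrFun hxy j
      simpa using this

/-- existence of a decomposition -/
theorem exists_decomp [Fintype F] (n a t : ℕ) (hat : n = a * t) (ha : 1 ≤ a) (ht : 2 ≤ t) :
    ∃ D : Fin t → Submodule F (Fin n → F), Cfsg.Geo.IsMDecomposition a D := by
  classical
  obtain ⟨h1, h2, h3⟩ := std_decomp (F := F) t a
  have hrank : Module.finrank F (Fin t → Fin a → F) = Module.finrank F (Fin n → F) := by
    rw [Module.finrank_pi_fintype, Module.finrank_fin_fun]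
    simp only [Module.finrank_fin_fun, Finset.sum_const, Finset.card_univ, Fintype.card_fin,
      smul_eq_mul]
    rw [hat, mul_comm]
  let ψ : (Fin t → Fin a → F) ≃ₗ[F] (Fin n → F) := LinearEquiv.ofFinrankEq _ _ hrank
  refine ⟨fun j => (LinearMap.range (LinearMap.single F (fun _ : Fin t => Fin a → F) j)).map
    (ψ : (Fin t → Fin a → F) →ₗ[F] (Fin n → F)), ⟨ht, ha, ?_, ?_, ?_⟩⟩
  · intro i
    rw [LinearEquiv.finrank_map_eq]
    exact h3 i
  · exact h1.map_orderIso (Submodule.orderIsoMapComap ψ)
  · rw [← Submodule.map_iSup, h2, Submodule.map_top, LinearEquiv.range]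

/-- transitivity -/
theorem exists_equiv_map [Fintype F] {n a t : ℕ} {D D' : Fin t → Submodule F (Fin n → F)}
    (hD : Cfsg.Geo.IsMDecomposition a D) (hD' : Cfsg.Geo.IsMDecomposition a D') :
    ∃ φ : (Fin n → F) ≃ₗ[F] (Fin n → F),
      ∀ j, (D j).map (φ : (Fin n → F) →ₗ[F] (Fin n → F)) = D' j := by
  classical
  have hI : DirectSum.IsInternal D :=
    DirectSum.isInternal_submodule_of_iSupIndep_of_iSup_eq_top hD.indep hD.iSup_eq_top
  have hI' : DirectSum.IsInternal D' :=
    DirectSum.isInternal_submodule_of_iSupIndep_of_iSup_eq_top hD'.indep hD'.iSup_eq_top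
  let v : ∀ j : Fin t, Module.Basis (Fin a) F (D j) := fun j =>
    Module.finBasisOfFinrankEq F (D j) (hD.finrank_eq j)
  let v' : ∀ j : Fin t, Module.Basis (Fin a) F (D' j) := fun j =>
    Module.finBasisOfFinrankEq F (D' j) (hD'.finrank_eq j)
  let B := hI.collectedBasis v
  let B' := hI'.collectedBasis v'
  let φ : (Fin n → F) ≃ₗ[F] (Fin n → F) := B.equiv B' (Equiv.refl _)
  have hspan : ∀ (E : Fin t → Submodule F (Fin n → F)) (hE : DirectSum.IsInternal E)
      (w : ∀ j : Fin t, Module.Basis (Fin a) F (E j)) (j : Fin t),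
      E j = Submodule.span F (Set.range (fun i : Fin a => hE.collectedBasis w ⟨j, i⟩)) := by
    intro E hE w j
    have h1 : (fun i : Fin a => hE.collectedBasis w ⟨j, i⟩) =
        (E j).subtype ∘ (w j) := by
      funext i
      rw [DirectSum.IsInternal.collectedBasis_coe]
      rfl
    rw [h1, Set.range_comp, ← Submodule.map_span, (w j).span_eq, Submodule.map_top,
      Submodule.range_subtype]
  refine ⟨φ, fun j => ?_⟩
  rw [hspan D hI v j, hspan D' hI' v' j, Submodule.map_span, ← Set.range_comp]
  congr 2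
  funext i
  simp only [Function.comp_apply, LinearEquiv.coe_coe]
  exact Module.Basis.equiv_apply B ⟨j, i⟩ B' (Equiv.refl _)

end Cfsg.Agent.Helper23.S5958TRANS

namespace Cfsg.Agent.S5958P

open Cfsg.Agent.Helper23.S5958TRANS

/-- TRANS -/
theorem card_decomp_dvd_card_GL {F : Type*} [Field F] [Fintype F] (n a t : ℕ) (hat : n = a * t)
    (ha : 1 ≤ a) (ht : 2 ≤ t) :
    Nat.card {D : Fin t → Submodule F (Fin n → F) // Cfsg.Geo.IsMDecomposition a D} ∣
      Nat.card (GL (Fin n) F) := by
  classical
  let act : MulAction ((Fin n → F) ≃ₗ[F] (Fin n → F))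
      {D : Fin t → Submodule F (Fin n → F) // Cfsg.Geo.IsMDecomposition a D} :=
    { smul := fun φ D => ⟨fun j => (D.1 j).map (φ : (Fin n → F) →ₗ[F] (Fin n → F)),
        isMDecomposition_map D.2 φ⟩
      one_smul := fun D => by
        apply Subtype.ext
        funext j
        exact Submodule.map_id _
      mul_smul := fun φ₁ φ₂ D => by
        apply Subtype.ext
        funext j
        exact Submodule.map_comp (φ₂ : (Fin n → F) →ₗ[F] (Fin n → F))
          (φ₁ : (Fin n → F) →ₗ[F] (Fin n → F)) (D.1 j) }
  obtain ⟨D₀, hD₀⟩ := exists_decomp (F := F) n a t hat ha ht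
  have htrans : MulAction.IsPretransitive ((Fin n → F) ≃ₗ[F] (Fin n → F))
      {D : Fin t → Submodule F (Fin n → F) // Cfsg.Geo.IsMDecomposition a D} := by
    constructor
    intro D D'
    obtain ⟨φ, hφ⟩ := exists_equiv_map D.2 D'.2
    refine ⟨φ, ?_⟩
    apply Subtype.ext
    funext j
    exact hφ j
  have h1 := MulAction.index_stabilizer_of_transitive ((Fin n → F) ≃ₗ[F] (Fin n → F))
    (⟨D₀, hD₀⟩ : {D : Fin t → Submodule F (Fin n → F) // Cfsg.Geo.IsMDecomposition a D})
  have h2 : Nat.card (GL (Fin n) F) = Nat.card ((Fin n → F) ≃ₗ[F] (Fin n → F)) :=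
    Nat.card_congr
      ((Matrix.GeneralLinearGroup.toLin (n := Fin n) (R := F)).trans
        (LinearMap.GeneralLinearGroup.generalLinearEquiv F (Fin n → F))).toEquiv
  rw [h2, ← h1]
  exact Subgroup.index_dvd_card _

end Cfsg.Agent.S5958P
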