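import Cfsg.Agent.Helper3.OC2Q2.Defs

set_option autoImplicit false
set_option linter.unusedSectionVars false
set_option linter.unusedVariables false

/-! # S5694 CHAR2, sub-chapter Q2, piece KER (helper23). -/

namespace Cfsg.Agent.OC2K

open Matrix Cfsg.Agent.Helper28.Sg Cfsg.Agent.Helper28.Spin Cfsg.Agent.Helper12.OrthGen
  Cfsg.Agent.S2614 Cfsg.Agent.S5683P Cfsg.Agent.Helper28.NDM

variable {F : Type*} [Field F] {t k : ℕ} {ι : Type} [Fintype ι] [DecidableEq ι] {Q : QuadraticForm F (ι → F)} [QHyp Q] {D : Fin t → Submodule F (ι → F)}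
  {M : Subgroup (OGq Q)}

theorem Q2.KER.exists (hD : HD Q k D) (hk : 4 ≤ k) (c : Fin t) (a u₁ u₂ : ι → F) :
    ∃ n ∈ D c, B Q a n = 0 ∧ ∀ s₁ s₂ : F, n ≠ s₁ • u₁ + s₂ • u₂ := by
  classical
  by_contra hno
  have hno' : ∀ n ∈ D c, B Q a n = 0 → ∃ s₁ s₂ : F, n = s₁ • u₁ + s₂ • u₂ := by
    intro n hn han
    by_contra hc
    apply hno
    refine ⟨n, hn, han, ?_⟩
    intro s₁ s₂ h
    exact hc ⟨s₁, s₂, h⟩
  let L : (D c) →ₗ[F] F := (QuadraticMap.polarBilin Q a).comp (D c).subtype
  have hL : ∀ w : D c, L w = B Q a (w : ι → F) := fun w => rfl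
  have hle : (LinearMap.ker L).map (D c).subtype ≤ Submodule.span F {u₁, u₂} := by
    rintro _ ⟨w, hw, rfl⟩
    have hw' : L w = 0 := hw
    rw [hL] at hw'
    obtain ⟨s₁, s₂, h⟩ := hno' (w : ι → F) w.2 hw'
    show ((w : D c) : ι → F) ∈ Submodule.span F {u₁, u₂}
    rw [h]
    exact Submodule.add_mem _
      (Submodule.smul_mem _ _ (Submodule.subset_span (Set.mem_insert _ _)))
      (Submodule.smul_mem _ _ (Submodule.subset_span (Set.mem_insert_of_mem _ rfl)))
  have h1 : Module.finrank F ((LinearMap.ker L).map (D c).subtype) ≤ 2 := by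
    refine (Submodule.finrank_mono hle).trans ?_
    refine (finrank_span_le_card ({u₁, u₂} : Set (ι → F))).trans ?_
    rw [Set.toFinset_insert, Set.toFinset_singleton]
    exact Finset.card_le_two
  have h1' : Module.finrank F (LinearMap.ker L) ≤ 2 := by
    rw [LinearEquiv.finrank_eq
      (Submodule.equivMapOfInjective (D c).subtype (D c).injective_subtype (LinearMap.ker L))]
    exact h1
  have h2 := LinearMap.finrank_range_add_finrank_ker L
  rw [hD.rank c] at h2
  have h3 : Module.finrank F (LinearMap.range L) ≤ 1 :=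
    (Submodule.finrank_le _).trans_eq (Module.finrank_self F)
  omega

end Cfsg.Agent.OC2K
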