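import Cfsg.Agent.Helper3.OC2Q2.Defs
import Cfsg.Agent.Helper23.OC2Q2KER

set_option autoImplicit false
set_option linter.unusedSectionVars false
set_option linter.unusedVariables false

/-! # S5694 CHAR2, sub-chapter Q2, piece NSING (helper23). -/

namespace Cfsg.Agent.OC2K

open Matrix Cfsg.Agent.Helper28.Sg Cfsg.Agent.Helper28.Spin Cfsg.Agent.Helper12.OrthGen
  Cfsg.Agent.S2614 Cfsg.Agent.S5683P Cfsg.Agent.Helper28.NDM

variable {F : Type*} [Field F] {t k : ℕ} {ι : Type} [Fintype ι] [DecidableEq ι] {Q : QuadraticForm F (ι → F)} [QHyp Q] {D : Fin t → Submodule F (ι → F)}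
  {M : Subgroup (OGq Q)}

/-- given `n ∈ D c`, `n ⊥ a`, either `n` or `n + a` is singular (over `F_2`, `a` nonsingular) -/
theorem Q2.NSING.aux_sing (hF : Q2.IsF2 F) {c : Fin t} {a n : ι → F} (ha : a ∈ D c)
    (hQa : Q a ≠ 0) (hn : n ∈ D c) (han : B Q a n = 0) :
    ∃ x ∈ D c, Q x = 0 ∧ B Q a x = 0 ∧ (x = n ∨ x = n + a) := by
  by_cases hQn : Q n = 0
  · exact ⟨n, hn, hQn, han, Or.inl rfl⟩
  · refine ⟨n + a, (D c).add_mem hn ha, ?_, ?_, Or.inr rfl⟩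
    · rw [Q_add, Q2.Q_eq_one hF hQn, Q2.Q_eq_one hF hQa, B_comm, han, add_zero]
      exact Q2.add_self hF 1
    · show QuadraticMap.polar ⇑Q a (n + a) = 0
      rw [QuadraticMap.polar_add_right]
      have h1 : QuadraticMap.polar ⇑Q a n = 0 := han
      have h2 : QuadraticMap.polar ⇑Q a a = 0 := Q2.B_self_zero hF a
      rw [h1, h2, add_zero]

theorem Q2.NSING.exists (hF : Q2.IsF2 F) (hD : HD Q k D) (hk : 4 ≤ k) {c : Fin t} {a : ι → F}
    (ha : a ∈ D c) (hQa : Q a ≠ 0) : ∃ x ∈ D c, x ≠ 0 ∧ Q x = 0 ∧ B Q a x = 0 := by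
  obtain ⟨n, hn, han, hne⟩ := Q2.KER.exists hD hk c a a 0
  obtain ⟨x, hx, hQx, hax, hxn⟩ := Q2.NSING.aux_sing hF ha hQa hn han
  refine ⟨x, hx, ?_, hQx, hax⟩
  intro hx0
  rcases hxn with h | h
  · -- `n = 0 = 0 • a + 0 • 0`
    apply hne 0 0
    rw [← h, hx0, zero_smul, zero_smul, add_zero]
  · -- `n + a = 0`, so `n = a = 1 • a + 0 • 0`
    apply hne 1 0
    have h1 : n + a = 0 := by rw [← h, hx0]
    have h2 : n = -a := eq_neg_of_add_eq_zero_left h1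
    rw [h2, Q2.vneg_eq hF, one_smul, zero_smul, add_zero]

end Cfsg.Agent.OC2K
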