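import Mathlib

set_option autoImplicit false

/-! S0679 chapter (5), piece 5-TYPE (helper23). -/

namespace Cfsg.Agent.S0679F

open Equiv

variable {α : Type*} [Fintype α] [DecidableEq α]

/-- a permutation of 11 points fixing 4 distinct points moves at most 7 points -/
theorem TYPE.aux_support (hα : Fintype.card α = 11) {g : Perm α} {x : Fin 4 ↪ α}
    (hx : ∀ i, g (x i) = x i) : g.support.card ≤ 7 := by
  have hsub : g.support ⊆ (Finset.univ.map x)ᶜ := by
    intro a ha
    rw [Finset.mem_compl, Finset.mem_map]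
    rintro ⟨i, _, rfl⟩
    exact (Perm.mem_support.mp ha) (hx i)
  have h1 := Finset.card_le_card hsub
  rw [Finset.card_compl, Finset.card_map, Finset.card_univ, Fintype.card_fin, hα] at h1
  exact h1

/-- (5-TYPE) an odd element of `G` fixing 4 points is an involution of type 2^3 1^5. -/
theorem TYPE (hα : Fintype.card α = 11) (G : Subgroup (Perm α))
    (hsh : ∀ h ∈ G, h ∈ alternatingGroup α → h ≠ 1 → 8 ≤ h.support.card)
    (hsw : ∀ g ∈ G, ¬ g.IsSwap) {τ : Perm α} (hτ : τ ∈ G) (hτo : τ ∉ alternatingGroup α)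
    {x : Fin 4 ↪ α} (hx : ∀ i, τ (x i) = x i) : τ * τ = 1 ∧ τ.support.card = 6 := by
  rw [Perm.mem_alternatingGroup] at hτo
  have sτ : Perm.sign τ = -1 := (Int.units_eq_one_or _).resolve_left hτo
  -- `τ * τ` is even, in `G`, fixes the four points
  have hA : τ * τ ∈ alternatingGroup α := by
    rw [Perm.mem_alternatingGroup, Perm.sign_mul, sτ]
    rfl
  have hfix : ∀ i, (τ * τ) (x i) = x i := by
    intro i
    rw [Perm.mul_apply, hx i, hx i]
  have h2 : τ * τ = 1 := by
    by_contra hne
    have h1 := hsh (τ * τ) (G.mul_mem hτ hτ) hA hne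
    have h3 := TYPE.aux_support hα hfix
    omega
  refine ⟨h2, ?_⟩
  have hτ1 : τ ≠ 1 := by
    intro h
    rw [h, Perm.sign_one] at sτ
    exact absurd sτ (by decide)
  have hord : orderOf τ = 2 := orderOf_eq_prime (by rw [pow_two]; exact h2) hτ1
  have hpr : (orderOf τ).Prime := by rw [hord]; exact Nat.prime_two
  obtain ⟨n, hn⟩ := Perm.cycleType_prime_order hpr
  rw [hord] at hn
  have hsum : τ.support.card = 2 * (n + 1) := by
    rw [← Perm.sum_cycleType, hn, Multiset.sum_replicate, smul_eq_mul, mul_comm]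
  have h7 := TYPE.aux_support hα hx
  have hsign : Perm.sign τ = (-1) ^ (n + 1) := by
    rw [Perm.sign_of_cycleType, hn, Multiset.sum_replicate, Multiset.card_replicate, smul_eq_mul]
    have : (n + 1) * 2 + (n + 1) = 2 * (n + 1) + (n + 1) := by ring
    rw [this, pow_add, pow_mul]
    simp
  have hn3 : n + 1 ≤ 3 := by omega
  interval_cases hm : n + 1
  · omega
  · -- a swap
    exfalso
    have : τ.support.card = 2 := by omega
    exact hsw τ hτ (Perm.card_support_eq_two.mp this)
  · -- two transpositions: even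
    exfalso
    rw [hsign] at sτ
    exact absurd sτ (by decide)
  · omega

end Cfsg.Agent.S0679F
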