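import Mathlib
import Cfsg.Prelude.Def_Classical
import Cfsg.Agent.Helper23.S5953Defs
import Cfsg.Agent.Helper7.S5953TRANSPORTU
import Cfsg.Agent.Helper21.NS3
import Cfsg.Agent.Helper28.GU

set_option autoImplicit false
open scoped MatrixGroups Matrix

/-! S5953 piece ISOCONJ: a module isomorphism between nondegenerate invariant subspaces can be
replaced by an isometric one. -/

namespace Cfsg.Agent.S5953P

open Polynomial Cfsg.Agent.S5955P Cfsg.Agent.Helper28.HW Cfsg.Agent.Helper28.HermFrame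

namespace ISOCONJ

variable {F V : Type*} [Field F] [Fintype F] [AddCommGroup V] [Module F V] {σ : F →+* F}

/-- the restriction of an isometry to a nondegenerate invariant subspace, as an `IsYU` with
exponent `0` -/
theorem restr_isYU {q : ℕ} (B : V →ₛₗ[σ] V →ₗ[F] F) (hB : IsHerm q B) (y : Module.End F V)
    (hyB : ∀ u v, B (y u) (y v) = B u v) (E : Submodule F V) (hE : ∀ v ∈ E, y v ∈ E)
    (hEnd : NondegU B E) : IsYU q (B.domRestrict₁₂ E E) (y.restrict hE) 0 := by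
  refine ⟨⟨hB.card, hB.frob, fun u v => hB.symm (u : V) (v : V)⟩, ?_, ?_, pow_zero _⟩
  · intro m _ hm
    have hm' : (m : V) ≠ 0 := fun h => hm (Subtype.ext h)
    obtain ⟨v, hv, hne⟩ := hEnd m m.2 hm'
    exact ⟨⟨v, hv⟩, trivial, hne⟩
  · intro u v
    exact hyB (u : V) (v : V)

end ISOCONJ

open ISOCONJ in
/-- ISOCONJ: a module isomorphism between nondegenerate invariant subspaces can be replaced by an
isometric one (Helper21.NS.exists_unitary_conj) -/
theorem exists_isometric_intertwiner {F V : Type*} [Field F] [Fintype F] [AddCommGroup V]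
    [Module F V] [FiniteDimensional F V] {q : ℕ} {σ : F →+* F} (B : V →ₛₗ[σ] V →ₗ[F] F)
    (hB : IsHerm q B) (y : Module.End F V) (hyB : ∀ u v, B (y u) (y v) = B u v)
    (E E' : Submodule F V) (hE : E.map y ≤ E) (hE' : E'.map y ≤ E')
    (hEnd : NondegU B E) (hE'nd : NondegU B E')
    (hdim : Module.finrank F E = Module.finrank F E')
    (φ : V →ₗ[F] V) (hφE : ∀ v ∈ E, φ v ∈ E') (hφinj : ∀ v ∈ E, φ v = 0 → v = 0)
    (hφy : ∀ v ∈ E, φ (y v) = y (φ v)) :
    ∃ ψ : V →ₗ[F] V, (∀ v ∈ E, ψ v ∈ E') ∧ (∀ u ∈ E, ∀ v ∈ E, B (ψ u) (ψ v) = B u v) ∧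
      (∀ v ∈ E, ψ (y v) = y (ψ v)) := by
  classical
  have hEy : ∀ v ∈ E, y v ∈ E := fun v hv => hE ⟨v, hv, rfl⟩
  have hE'y : ∀ v ∈ E', y v ∈ E' := fun v hv => hE' ⟨v, hv, rfl⟩
  set d := Module.finrank F E with hd
  obtain ⟨xE, eE, hxE, -, hformE, heE⟩ :=
    exists_un_of_yu _ _ 0 (restr_isYU B hB y hyB E hEy hEnd) d rfl
  obtain ⟨xE', eE', hxE', -, hformE', heE'⟩ :=
    exists_un_of_yu _ _ 0 (restr_isYU B hB y hyB E' hE'y hE'nd) d hdim.symm
  -- the restricted module isomorphism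
  set φ₀ : E →ₗ[F] E' := φ.restrict hφE with hφ₀
  have hφ₀inj : Function.Injective φ₀ := by
    rw [← LinearMap.ker_eq_bot, LinearMap.ker_eq_bot']
    intro u hu
    apply Subtype.ext
    apply hφinj u u.2
    have := congrArg Subtype.val hu
    simpa [hφ₀] using this
  set Φ : E ≃ₗ[F] E' := LinearMap.linearEquivOfInjective φ₀ hφ₀inj hdim with hΦ
  have hΦa : ∀ u : E, ((Φ u : E') : V) = φ (u : V) := fun u => rfl
  have hΦy : ∀ u : E, Φ (y.restrict hEy u) = y.restrict hE'y (Φ u) := by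
    intro u
    apply Subtype.ext
    rw [hΦa]
    exact hφy u u.2
  -- matrices
  set gL : (Fin d → F) →ₗ[F] (Fin d → F) :=
    (eE' : E' →ₗ[F] (Fin d → F)) ∘ₗ (Φ : E →ₗ[F] E') ∘ₗ (eE.symm : (Fin d → F) →ₗ[F] E) with hgL
  set gLinv : (Fin d → F) →ₗ[F] (Fin d → F) :=
    (eE : E →ₗ[F] (Fin d → F)) ∘ₗ (Φ.symm : E' →ₗ[F] E) ∘ₗ
      (eE'.symm : (Fin d → F) →ₗ[F] E') with hgLinv
  have hg1 : LinearMap.toMatrix' gL * LinearMap.toMatrix' gLinv = 1 := by
    rw [← LinearMap.toMatrix'_comp, ← LinearMap.toMatrix'_id]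
    congr 1
    apply LinearMap.ext
    intro w
    simp [hgL, hgLinv]
  have hg2 : LinearMap.toMatrix' gLinv * LinearMap.toMatrix' gL = 1 := by
    rw [← LinearMap.toMatrix'_comp, ← LinearMap.toMatrix'_id]
    congr 1
    apply LinearMap.ext
    intro w
    simp [hgL, hgLinv]
  have hconj : LinearMap.toMatrix' gL * xE = xE' * LinearMap.toMatrix' gL := by
    apply Matrix.toLin'.injective
    apply LinearMap.ext
    intro w
    obtain ⟨u, rfl⟩ := eE.surjective w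
    rw [Matrix.toLin'_mul, Matrix.toLin'_mul, LinearMap.comp_apply, LinearMap.comp_apply,
      Matrix.toLin'_toMatrix', ← heE]
    have h1 : gL (eE (y.restrict hEy u)) = eE' (Φ (y.restrict hEy u)) := by simp [hgL]
    have h2 : gL (eE u) = eE' (Φ u) := by simp [hgL]
    rw [h1, h2, ← heE', hΦy]
  have hA : xEᵀ * xE.map σ = 1 :=
    (Cfsg.Agent.Helper28.GUlib.preserves_iff σ hB.frob xE).mp hxE
  have hA' : xE'ᵀ * xE'.map σ = 1 :=
    (Cfsg.Agent.Helper28.GUlib.preserves_iff σ hB.frob xE').mp hxE'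
  obtain ⟨X, hXu, hXc⟩ := Cfsg.Agent.Helper21.NS.exists_unitary_conj hB.card σ hB.frob hB.invol
    xE xE' _ _ hA hA' hg1 hg2 hconj
  have hXpres := (Cfsg.Agent.Helper28.GUlib.preserves_iff σ hB.frob X).mpr hXu
  -- the isometric intertwiner on `E`
  set ψ₀ : E →ₗ[F] E' :=
    (eE'.symm : (Fin d → F) →ₗ[F] E') ∘ₗ Matrix.toLin' X ∘ₗ (eE : E →ₗ[F] (Fin d → F)) with hψ₀
  have hψ₀e : ∀ u : E, eE' (ψ₀ u) = X *ᵥ (eE u) := by
    intro u
    simp [hψ₀, Matrix.toLin'_apply]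
  have hψ₀B : ∀ u v : E, B ((ψ₀ u : E') : V) ((ψ₀ v : E') : V) = B (u : V) (v : V) := by
    intro u v
    have h1 := hformE' (ψ₀ u) (ψ₀ v)
    have h2 := hformE u v
    have h1' : (B.domRestrict₁₂ E' E') (ψ₀ u) (ψ₀ v) = B ((ψ₀ u : E') : V) ((ψ₀ v : E') : V) := rfl
    have h2' : (B.domRestrict₁₂ E E) u v = B (u : V) (v : V) := rfl
    rw [← h1', ← h1, hψ₀e, hψ₀e, hXpres, h2, h2']
  have hψ₀y : ∀ u : E, ψ₀ (y.restrict hEy u) = y.restrict hE'y (ψ₀ u) := by
    intro u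
    apply eE'.injective
    rw [hψ₀e, heE, heE', hψ₀e, Matrix.toLin'_apply, Matrix.toLin'_apply, Matrix.mulVec_mulVec,
      Matrix.mulVec_mulVec, hXc]
  -- extend to `V`
  obtain ⟨Cc, hCc⟩ := Submodule.exists_isCompl E
  set pr : V →ₗ[F] E := Submodule.linearProjOfIsCompl E Cc hCc with hpr
  have hpru : ∀ (u : V) (hu : u ∈ E), pr u = ⟨u, hu⟩ := fun u hu =>
    Submodule.linearProjOfIsCompl_apply_left hCc ⟨u, hu⟩
  refine ⟨E'.subtype ∘ₗ ψ₀ ∘ₗ pr, ?_, ?_, ?_⟩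
  · intro v _
    simp
  · intro u hu v hv
    simp only [LinearMap.comp_apply, Submodule.subtype_apply]
    rw [hpru u hu, hpru v hv]
    exact hψ₀B ⟨u, hu⟩ ⟨v, hv⟩
  · intro v hv
    simp only [LinearMap.comp_apply, Submodule.subtype_apply]
    rw [hpru v hv, hpru (y v) (hEy v hv)]
    have := congrArg Subtype.val (hψ₀y ⟨v, hv⟩)
    exact this

end Cfsg.Agent.S5953P
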