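import Mathlib
import Cfsg.Agent.Helper2.S2094.DefsR
import Cfsg.Agent.Helper9.S2094BLOCKD
import Cfsg.Agent.Helper23.S2096PIHALF

/-! S2094 piece PIHALFB (helper23): the matrix of the image of `SL_n` in `Ω_{2n+1}`. -/

set_option autoImplicit false
set_option linter.unusedSectionVars false
set_option linter.unusedVariables false

namespace Cfsg.Agent.S2094P

open Matrix Cfsg.Agent.S3352P Cfsg.Agent.S3351P Cfsg.Agent.S2096P Cfsg.Agent.S2086P Cfsg.Agent.RGD

variable {n : ℕ} {F : Type*} [Field F] {M : Type*} [Group M] {X : J n → J n → F → M}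
  {Ys : J n → F → M}

/-- PIHALFB -/
theorem pi_Theta_B [Fintype F] (π : M →* Matrix (I n) (I n) F)
    (hπX : ∀ a b, IsRoot a b → ∀ t : F, π (X a b t) = xmB a b t)
    (Θ : Matrix.SpecialLinearGroup (Fin n) F →* M)
    (hΘ : ∀ (i j : Fin n) (hij : i ≠ j) (t : F),
      Θ (Matrix.SpecialLinearGroup.transvection hij t) = X (Sum.inl i) (Sum.inl j) t)
    (g : Matrix.SpecialLinearGroup (Fin n) F) :
    π (Θ g) = blkB (Matrix.fromBlocks (g : Matrix (Fin n) (Fin n) F) 0 0
      ((g⁻¹ : Matrix.SpecialLinearGroup (Fin n) F) : Matrix (Fin n) (Fin n) F)ᵀ) := by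
  rw [← PIHALF.blk_apply]
  rcases subsingleton_or_nontrivial (Fin n) with hs | hnt
  · rw [Subsingleton.elim g 1, map_one, map_one, map_one, BLOCKD.blkB_one]
  · refine Cfsg.Agent.Helper2.SL_transvection_induction
      (fun g => π (Θ g) = blkB (PIHALF.blk n F g)) ?_ ?_ g
    · intro i j hij t
      have hr : IsRoot (Sum.inl i : J n) (Sum.inl j) :=
        isRoot_iff_ab.2 (by simpa using hij)
      show π (Θ (Matrix.SpecialLinearGroup.transvection hij t)) = _
      rw [hΘ i j hij t, hπX _ _ hr, PIHALF.blk_transvection hij t, BLOCKD.xmB_eq_blkB]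
    · intro A B hA hB
      show π (Θ (A * B)) = blkB (PIHALF.blk n F (A * B))
      rw [map_mul, map_mul, map_mul, hA, hB, BLOCKD.blkB_mul]

end Cfsg.Agent.S2094P
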