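import Mathlib
import Cfsg.Agent.Helper2.S2096.Defs
import Cfsg.Agent.Helper23.S2096ZPI
import Cfsg.Agent.Helper16.S2096TXDG

/-! S2096 piece ZINJ (helper23): `zphi` is injective when `zc ≠ 1`. -/

set_option autoImplicit false
set_option linter.unusedSectionVars false
set_option linter.unusedVariables false

namespace Cfsg.Agent.S2096P

open Matrix Cfsg.Agent.S3352P Cfsg.Agent.S3351P Cfsg.Agent.S2086P

variable {n : ℕ} {F : Type*} [Field F] [Fintype F] {M : Type*} [Group M] {X : J n → J n → F → M}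

/-- ZINJ -/
theorem zphi_eq_one (π : M →* Matrix (J n) (J n) F)
    (hπ : ∀ a b, IsRoot a b → ∀ t : F, π (X a b t) = xm a b t)
    (Θ : Matrix.SpecialLinearGroup (Fin n) F →* M)
    (hΘ : ∀ (i j : Fin n) (hij : i ≠ j) (t : F),
      Θ (Matrix.SpecialLinearGroup.transvection hij t) = X (Sum.inl i) (Sum.inl j) t)
    (hn : 3 ≤ n) (hX : DRel X) {o o1 : Fin n} (ho : o ≠ o1)
    (hz : (2 : F) ≠ 0 → zc X o o1 ≠ 1) (p : ↥(Zpar n F)) (hp : zphi Θ X ho p = 1) : p = 1 := by
  -- `λ = 1`
  have h1 := pi_zphi π hπ Θ hΘ hn ho p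
  rw [hp, map_one] at h1
  have h2 := congrFun (congrFun h1 (Sum.inl o)) (Sum.inl o)
  rw [Matrix.one_apply_eq, Matrix.smul_apply, Matrix.one_apply_eq, smul_eq_mul, mul_one] at h2
  have hlam : p.1.1 = 1 := Units.ext (by rw [← h2, Units.val_one])
  -- `s ^ 2 = 1`
  have hs2 : p.1.2 ^ 2 = 1 := by rw [p.2.2, hlam, one_pow]
  have hs2' : ((p.1.2 : Fˣ) : F) ^ 2 = 1 := by
    have := congrArg (fun u : Fˣ => (u : F)) hs2
    simpa using this
  have hfac : (((p.1.2 : Fˣ) : F) - 1) * (((p.1.2 : Fˣ) : F) + 1) = 0 := by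
    linear_combination hs2'
  have hone : p.1.2 = 1 → p = 1 := fun hs => Subtype.ext (Prod.ext hlam hs)
  rcases mul_eq_zero.mp hfac with h | h
  · exact hone (Units.ext (by rw [Units.val_one]; exact sub_eq_zero.mp h))
  · have hs : ((p.1.2 : Fˣ) : F) = -1 := eq_neg_of_add_eq_zero_left h
    by_cases h20 : (2 : F) = 0
    · apply hone
      apply Units.ext
      rw [hs, Units.val_one]
      linear_combination -h20
    · exfalso
      apply hz h20
      have hsu : p.1.2 = -1 := Units.ext (by rw [hs, Units.val_neg, Units.val_one])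
      have hd : dpar ho p = tor2 o o1 ho (-1) := by
        apply Subtype.ext
        funext i
        rw [dpar_apply, tor2_apply, hlam, hsu, one_mul]
        have e : ((-1 : Fˣ))⁻¹ = -1 := by rw [inv_neg, inv_one]
        by_cases hio : i = o
        · rw [if_pos (Or.inl hio), if_pos hio, e]
        · rw [if_neg hio]
          by_cases hio1 : i = o1
          · rw [if_pos (Or.inr hio1), if_pos hio1]
          · rw [if_neg hio1, if_neg]
            rintro (h' | h')
            · exact hio h'
            · exact hio1 h'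
      have hzc : zc X o o1 = zphi Θ X ho p := by
        unfold zc zphi
        rw [hd, hs, ← tX_eq_Theta Θ hΘ hn hX ho (-1), Units.val_neg, Units.val_one]
      rw [hzc, hp]

end Cfsg.Agent.S2096P
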