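import Mathlib
import Cfsg.Agent.Helper2.S2096.Defs
import Cfsg.Agent.Helper23.S2096ZPI
import Cfsg.Agent.Helper8.S2096HGEN

/-! S2096 piece ZSURJ (helper23): every central element with scalar matrix is a value of `zphi`. -/

set_option autoImplicit false
set_option linter.unusedSectionVars false
set_option linter.unusedVariables false

namespace Cfsg.Agent.S2096P

open Matrix Cfsg.Agent.S3352P Cfsg.Agent.S3351P Cfsg.Agent.S2086P

variable {n : ℕ} {F : Type*} [Field F] [Fintype F] {M : Type*} [Group M] {X : J n → J n → F → M}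

/-- ZSURJ -/
theorem exists_zphi_eq (π : M →* Matrix (J n) (J n) F)
    (hπ : ∀ a b, IsRoot a b → ∀ t : F, π (X a b t) = xm a b t)
    (Θ : Matrix.SpecialLinearGroup (Fin n) F →* M)
    (hΘ : ∀ (i j : Fin n) (hij : i ≠ j) (t : F),
      Θ (Matrix.SpecialLinearGroup.transvection hij t) = X (Sum.inl i) (Sum.inl j) t)
    (hn : 3 ≤ n) (hX : DRel X) {o o1 : Fin n} (ho : o ≠ o1)
    (hcH : Subgroup.center M ≤ Hh X) {x : M} (hx : x ∈ Subgroup.center M)
    (hsc : ∃ lam : F, π x = lam • (1 : Matrix (J n) (J n) F)) :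
    ∃ p : ↥(Zpar n F), zphi Θ X ho p = x := by
  obtain ⟨d, s, hxd⟩ := exists_of_mem_Hh π hπ Θ hΘ hn hX ho (hcH hx)
  obtain ⟨lam, hlam⟩ := hsc
  have hdiag : Matrix.diagonal (ZPI.dvec o o1 d (s : F)) = lam • (1 : Matrix (J n) (J n) F) := by
    rw [← ZPI.pi_Theta_mul_tX π hπ Θ hΘ ho d (Units.ne_zero s), ← hxd, hlam]
  have hent : ∀ c : J n, ZPI.dvec o o1 d (s : F) c = lam := by
    intro c
    have := congrFun (congrFun hdiag c) c
    rwa [Matrix.diagonal_apply_eq, Matrix.smul_apply, Matrix.one_apply_eq, smul_eq_mul,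
      mul_one] at this
  have hA : ∀ i : Fin n, ((d.1 i : Fˣ) : F) * (if i = o ∨ i = o1 then (s : F) else 1) = lam := by
    intro i
    rw [← ZPI.dvec_inl, hent]
  have hB : ∀ i : Fin n,
      (((d.1 i)⁻¹ : Fˣ) : F) * (if i = o ∨ i = o1 then (s : F)⁻¹ else 1) = lam := by
    intro i
    rw [← ZPI.dvec_inr, hent]
  obtain ⟨k, hko, hko1⟩ := exists_third_ab hn o o1
  have hk : ¬ (k = o ∨ k = o1) := by
    rintro (h | h)
    · exact hko h
    · exact hko1 h
  have hAk := hA k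
  have hBk := hB k
  rw [if_neg hk, mul_one] at hAk hBk
  have hll : lam * lam = 1 := by
    nth_rewrite 1 [← hAk]
    rw [← hBk, ← Units.val_mul, mul_inv_cancel, Units.val_one]
  have hlam0 : lam ≠ 0 := by
    rw [← hAk]
    exact Units.ne_zero _
  -- the unit `λ`
  have hl2 : (Units.mk0 lam hlam0) ^ 2 = 1 := by
    apply Units.ext
    rw [Units.val_pow_eq_pow_val, Units.val_mk0, Units.val_one, pow_two, hll]
  have hdi : ∀ i : Fin n, d.1 i = dparFun o o1 (Units.mk0 lam hlam0, s) i := by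
    intro i
    apply Units.ext
    unfold dparFun
    rw [Units.val_mul, Units.val_mk0]
    have := hA i
    by_cases h : i = o ∨ i = o1
    · rw [if_pos h] at this ⊢
      show ((d.1 i : Fˣ) : F) = lam * ((s⁻¹ : Fˣ) : F)
      rw [Units.val_inv_eq_inv_val, eq_mul_inv_iff_mul_eq₀ (Units.ne_zero s)]
      exact this
    · rw [if_neg h] at this ⊢
      rw [mul_one] at this
      rw [Units.val_one, mul_one]
      exact this
  have hprod : ∏ i, dparFun o o1 (Units.mk0 lam hlam0, s) i = 1 := by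
    have hd1 : ∏ i, d.1 i = 1 := d.2
    rw [← hd1]
    exact Finset.prod_congr rfl (fun i _ => (hdi i).symm)
  rw [prod_dparFun ho] at hprod
  have hs2 : s ^ 2 = (Units.mk0 lam hlam0) ^ n := by
    have h3 : (Units.mk0 lam hlam0) ^ n * (s⁻¹) ^ 2 * s ^ 2 = s ^ 2 := by
      rw [show ((Units.mk0 lam hlam0, s) : Fˣ × Fˣ).1 ^ n *
        (((Units.mk0 lam hlam0, s) : Fˣ × Fˣ).2)⁻¹ ^ 2 = 1 from hprod, one_mul]
    rw [← h3, mul_assoc, inv_pow, inv_mul_cancel, mul_one]
  refine ⟨⟨(Units.mk0 lam hlam0, s), ⟨hl2, hs2⟩⟩, ?_⟩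
  have hd : dpar ho ⟨(Units.mk0 lam hlam0, s), ⟨hl2, hs2⟩⟩ = d := by
    apply Subtype.ext
    funext i
    rw [hdi i]
    rfl
  unfold zphi
  rw [hd, hxd]

end Cfsg.Agent.S2096P
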