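import Mathlib
import Cfsg.Agent.Helper2.S2099.DefsR

set_option autoImplicit false
set_option linter.unusedSectionVars false
set_option linter.unusedVariables false

/-! S2099 piece RANK1Q (driver helper2; helper23): the rank one relations of a group with the
relations `QRel`. -/

namespace Cfsg.Agent.S2099P

open Matrix Cfsg.Agent.S3352P Cfsg.Agent.S3351P Cfsg.Agent.S2096P Cfsg.Agent.RGD
open Cfsg.Agent.S2094P (RB RootB sc NgEquivariant mapB reflB MD XD XD_coe isRoot_ng_right'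
  isRoot_ng_left' sw_ngEquivariant sc_ngEquivariant)

variable {n : ℕ} {F : Type*} [Field F] {P : Type*} [AddCommGroup P] [Module F P]
  {M : Type*} [Group M] {Q0 : QuadraticForm F P} {X : J n → J n → F → M} {Ys : J n → P → M}

/-! ### RANK1Q: the rank one relation -/

theorem rank_one_lg (hB : QRel Q0 X Ys) {a b : J n} (hab : IsRoot a b) {x : M}
    (hx : x ∈ UQ X Ys (RB.lg b a : RB n)) (hx1 : x ≠ 1) :
    ∃ y ∈ UQ X Ys (RB.lg a b : RB n), ∃ m ∈ nSQ Q0 X Ys (RB.lg a b : RB n),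
      ∃ y' ∈ UQ X Ys (RB.lg a b : RB n), x = y * m * y' := by
  obtain ⟨t, rfl⟩ := (mem_U_lg hB hab.symm).1 hx
  have ht : t ≠ 0 := by
    rintro rfl
    exact hx1 (WCONJ.X_zero hB.dX hab.symm)
  have hu : -t⁻¹ ≠ 0 := neg_ne_zero.2 (inv_ne_zero ht)
  have hy : (X a b (-t⁻¹))⁻¹ ∈ UQ X Ys (RB.lg a b : RB n) :=
    Subgroup.inv_mem _ ((mem_U_lg hB hab).2 ⟨_, rfl⟩)
  refine ⟨(X a b (-t⁻¹))⁻¹, hy, wX X a b (-t⁻¹), ⟨-t⁻¹, hu, rfl⟩, (X a b (-t⁻¹))⁻¹, hy, ?_⟩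
  have e : -(-t⁻¹)⁻¹ = t := by
    rw [inv_neg, inv_inv, neg_neg]
  unfold wX
  rw [e]
  group

theorem rank_one_sh (hQ : QuadraticMap.Anisotropic Q0) (hB : QRel Q0 X Ys) (a : J n) {x : M}
    (hx : x ∈ UQ X Ys (RB.sh (ng a) : RB n)) (hx1 : x ≠ 1) :
    ∃ y ∈ UQ X Ys (RB.sh a : RB n), ∃ m ∈ nSQ Q0 X Ys (RB.sh a : RB n),
      ∃ y' ∈ UQ X Ys (RB.sh a : RB n), x = y * m * y' := by
  obtain ⟨v, rfl⟩ := (mem_U_sh hB (ng a)).1 hx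
  have hv : v ≠ 0 := by
    rintro rfl
    exact hx1 (Ys_zero hB (ng a))
  have hq : Q0 v ≠ 0 := fun h => hv (hQ v h)
  have hw : (Q0 v)⁻¹ • v ≠ 0 := smul_ne_zero (inv_ne_zero hq) hv
  have hQw : Q0 ((Q0 v)⁻¹ • v) = (Q0 v)⁻¹ := by
    rw [QuadraticMap.map_smul, smul_eq_mul, mul_assoc, inv_mul_cancel₀ hq, mul_one]
  have hback : (Q0 ((Q0 v)⁻¹ • v))⁻¹ • ((Q0 v)⁻¹ • v) = v := by
    rw [hQw, inv_inv, smul_smul, mul_inv_cancel₀ hq, one_smul]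
  have hy : (Ys a ((Q0 v)⁻¹ • v))⁻¹ ∈ UQ X Ys (RB.sh a : RB n) :=
    Subgroup.inv_mem _ ((mem_U_sh hB a).2 ⟨_, rfl⟩)
  refine ⟨(Ys a ((Q0 v)⁻¹ • v))⁻¹, hy, wY Q0 Ys a ((Q0 v)⁻¹ • v), ⟨_, hw, rfl⟩,
    (Ys a ((Q0 v)⁻¹ • v))⁻¹, hy, ?_⟩
  unfold wY
  rw [hback]
  group

end Cfsg.Agent.S2099P
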