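import Mathlib
import Cfsg.Prelude.Def_Classical
import Cfsg.Agent.Helper2.S2099.DefsM

set_option autoImplicit false
set_option linter.unusedSectionVars false
set_option linter.unusedVariables false

/-! S2099 piece ARITHQ: the arithmetic of `gcd (4, q^l + 1)` for `q = |F|`. -/

namespace Cfsg.Agent.S2099P

open Matrix Cfsg.Agent.S3352P Cfsg.Agent.S3351P Cfsg.Agent.S2096P

variable {n : ℕ} {F : Type*} [Field F] [Fintype F]

namespace ARITHQ

/-- `gcd 4 (m+1)` from `m % 4`. -/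
theorem gcd_of_mod_even {m : ℕ} (h : m % 2 = 0) : Nat.gcd 4 (m + 1) = 1 := by
  have h1 : (m + 1) % 4 = 1 ∨ (m + 1) % 4 = 3 := by omega
  rw [Nat.gcd_rec]
  rcases h1 with h1 | h1 <;> rw [h1] <;> rfl

theorem gcd_of_mod_three {m : ℕ} (h : m % 4 = 3) : Nat.gcd 4 (m + 1) = 4 := by
  have h1 : (m + 1) % 4 = 0 := by omega
  rw [Nat.gcd_rec, h1]; rfl

theorem gcd_of_mod_one {m : ℕ} (h : m % 4 = 1) : Nat.gcd 4 (m + 1) = 2 := by
  have h1 : (m + 1) % 4 = 2 := by omega
  rw [Nat.gcd_rec, h1]; rfl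

/-- In a finite field with `2 = 0`, the cardinality is even. -/
theorem card_even_of_two_eq_zero (h2 : (2 : F) = 0) : Fintype.card F % 2 = 0 := by
  have hc : ((Fintype.card F : ℕ) : F) = 0 := Nat.cast_card_eq_zero F
  by_contra hodd
  have hodd' : Fintype.card F % 2 = 1 := by omega
  have hq : Fintype.card F = 2 * (Fintype.card F / 2) + 1 := by omega
  rw [hq] at hc
  push_cast at hc
  rw [h2, zero_mul, zero_add] at hc
  exact one_ne_zero hc

/-- In a finite field with `2 ≠ 0`, the cardinality is odd. -/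
theorem card_odd_of_two_ne_zero (h2 : (2 : F) ≠ 0) : Fintype.card F % 2 = 1 := by
  have hchar : ringChar F ≠ 2 := by
    intro h
    apply h2
    have : ((2 : ℕ) : F) = 0 := by
      rw [← h]; exact ringChar.Nat.cast_ringChar
    exact_mod_cast this
  exact FiniteField.odd_card_of_char_ne_two hchar

theorem pow_mod_four_of_one {q : ℕ} (h : q % 4 = 1) (l : ℕ) : q ^ l % 4 = 1 := by
  rw [Nat.pow_mod, h, one_pow]; rfl

theorem pow_mod_four_of_three_even {q : ℕ} (h : q % 4 = 3) {l : ℕ} (hl : Even l) :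
    q ^ l % 4 = 1 := by
  obtain ⟨k, rfl⟩ := hl
  rw [← two_mul, pow_mul, Nat.pow_mod]
  have : q ^ 2 % 4 = 1 := by
    rw [Nat.pow_mod, h]
  rw [this, one_pow]; rfl

theorem pow_mod_four_of_three_odd {q : ℕ} (h : q % 4 = 3) {l : ℕ} (hl : Odd l) :
    q ^ l % 4 = 3 := by
  obtain ⟨k, rfl⟩ := hl
  rw [pow_succ, Nat.mul_mod, pow_mod_four_of_three_even h (even_two_mul k), h]

end ARITHQ

open ARITHQ

/-- ARITHQ -/
theorem gcd_four_of_two_eq_zero (h2 : (2 : F) = 0) {l : ℕ} (hl : l ≠ 0) :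
    Nat.gcd 4 (Fintype.card F ^ l + 1) = 1 := by
  apply gcd_of_mod_even
  have h := card_even_of_two_eq_zero h2
  obtain ⟨k, rfl⟩ := Nat.exists_eq_succ_of_ne_zero hl
  rw [pow_succ, Nat.mul_mod, h, mul_zero]; rfl

theorem gcd_four_of_nonsquare (h2 : (2 : F) ≠ 0) {l : ℕ} (hl : Odd l)
    (hsq : ¬ IsSquare (-1 : F)) : Nat.gcd 4 (Fintype.card F ^ l + 1) = 4 := by
  apply gcd_of_mod_three
  have h3 : Fintype.card F % 4 = 3 := by
    by_contra h
    exact hsq (FiniteField.isSquare_neg_one_iff.mpr h)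
  exact pow_mod_four_of_three_odd h3 hl

theorem gcd_four_of_square (h2 : (2 : F) ≠ 0) {l : ℕ} (h : Even l ∨ IsSquare (-1 : F)) :
    Nat.gcd 4 (Fintype.card F ^ l + 1) = 2 := by
  apply gcd_of_mod_one
  have hodd := card_odd_of_two_ne_zero h2
  have hcases : Fintype.card F % 4 = 1 ∨ Fintype.card F % 4 = 3 := by omega
  rcases hcases with h1 | h3
  · exact pow_mod_four_of_one h1 l
  · rcases h with hl | hsq
    · exact pow_mod_four_of_three_even h3 hl
    · exact absurd h3 (FiniteField.isSquare_neg_one_iff.mp hsq)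

end Cfsg.Agent.S2099P
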