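import Mathlib
import Cfsg.Agent.Helper2.S4130Defs

/-!
# S4130 board, piece INHQ: square-free class sizes pass to quotients
-/

set_option autoImplicit false

namespace Cfsg.Agent.S4130P.Chk

open Subgroup

/-- INHQ. -/
theorem INHQ {G : Type*} [Group G] [Finite G] (h : SqfCls G) (N : Subgroup G) [N.Normal] :
    SqfCls (G ⧸ N) := by
  intro xbar
  obtain ⟨x, rfl⟩ := QuotientGroup.mk_surjective xbar
  have hle : (centralizer ({x} : Set G)).map (QuotientGroup.mk' N) ≤
      centralizer ({(QuotientGroup.mk x : G ⧸ N)} : Set (G ⧸ N)) := by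
    rintro _ ⟨c, hc, rfl⟩
    rw [mem_centralizer_iff]
    intro y hy
    rw [Set.mem_singleton_iff] at hy
    subst hy
    have hcx : x * c = c * x := (mem_centralizer_iff.mp hc) x (Set.mem_singleton x)
    change (QuotientGroup.mk x : G ⧸ N) * (QuotientGroup.mk c : G ⧸ N) =
      (QuotientGroup.mk c : G ⧸ N) * (QuotientGroup.mk x : G ⧸ N)
    rw [← QuotientGroup.mk_mul, ← QuotientGroup.mk_mul, hcx]
  have h1 : (centralizer ({(QuotientGroup.mk x : G ⧸ N)} : Set (G ⧸ N))).index ∣
      ((centralizer ({x} : Set G)).map (QuotientGroup.mk' N)).index := index_dvd_of_le hle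
  have h2 : ((centralizer ({x} : Set G)).map (QuotientGroup.mk' N)).index ∣
      (centralizer ({x} : Set G)).index :=
    index_map_dvd _ (QuotientGroup.mk'_surjective N)
  exact Squarefree.squarefree_of_dvd (h1.trans h2) (h x)

end Cfsg.Agent.S4130P.Chk
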