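import Mathlib
import Cfsg.Prelude.Def_GeometricClasses
import Cfsg.Agent.Helper2.S5886.Defs
import Cfsg.Agent.Helper2.S5664.Defs
import Cfsg.Agent.Helper2.SpGen
import Cfsg.Agent.Helper2.SpPerfect
import Cfsg.Agent.Helper28.SpMax

/-! # S5664, piece SPGEN: a subgroup of `spGL` containing all symplectic transvections is `spGL`. -/

set_option autoImplicit false

namespace Cfsg.Agent.S5664P

open Cfsg.Agent.S5886P

/-- SPGEN : a subgroup of `spGL m F` containing all symplectic transvections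
`x ↦ x + c * sympForm x u • u` is `spGL m F` (Helper2.Sp.TV_eq_top + Helper28.SpMax.toGL /
exists_of_mem_spGL, as in Cfsg/Agent/Helper1/S5665/Asm.lean and Helper17/S5665FULL.lean). -/
theorem SPGEN {F : Type*} [Field F] [Fintype F] (m : ℕ)
    (M : Subgroup (Matrix.GeneralLinearGroup (Fin m ⊕ Fin m) F)) (hM : M ≤ Cfsg.spGL m F)
    (hall : ∀ (u : Fin m ⊕ Fin m → F) (c : F) (g : Matrix.GeneralLinearGroup (Fin m ⊕ Fin m) F),
      (∀ x : Fin m ⊕ Fin m → F, Matrix.mulVec (g : Matrix (Fin m ⊕ Fin m) (Fin m ⊕ Fin m) F) x =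
        x + (c * Cfsg.sympForm m F x u) • u) → g ∈ M) :
    M = Cfsg.spGL m F := by
  apply le_antisymm hM
  intro g hg
  obtain ⟨A, rfl⟩ := Cfsg.Agent.Helper28.SpMax.exists_of_mem_spGL g hg
  have hA : A ∈ M.comap (Cfsg.Agent.Helper28.SpMax.toGL (F := F) (m := m)) := by
    have htop : A ∈ (⊤ : Subgroup (Matrix.symplecticGroup (Fin m) F)) := Subgroup.mem_top A
    rw [← Cfsg.Agent.Helper2.Sp.TV_eq_top (Fin m) F] at htop
    unfold Cfsg.Agent.Helper2.Sp.TV at htop
    refine (Subgroup.closure_le _).mpr ?_ htop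
    rintro _ ⟨⟨v, c⟩, rfl⟩
    show Cfsg.Agent.Helper28.SpMax.toGL (Cfsg.Agent.Helper2.Sp.Tg v c) ∈ M
    apply hall v (-c)
    intro x
    rw [Cfsg.Agent.Helper28.SpMax.toGL_val]
    have h1 := Cfsg.Agent.Helper2.Sp.Tg_mulVec v c x
    rw [h1, Cfsg.Agent.Helper2.Sp.om_swap x v]
    have h2 : Cfsg.Agent.Helper2.Sp.om x v = Cfsg.sympForm m F x v := rfl
    rw [h2]
    congr 2
    ring
  exact hA

end Cfsg.Agent.S5664P
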