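import Mathlib
import Cfsg.Prelude.Def_GeometricClasses
import Cfsg.Agent.Helper28.OrthSim3
import Cfsg.Agent.Helper8.OS6Defs
import Cfsg.Agent.Helper16.OS6SPADD
import Cfsg.Agent.Helper19.OS6SPSTEP

set_option autoImplicit false

/-! S5798, chapter SPREAD, piece SPLINE: `Psi` is closed under `+`, scalars, `-`, and spreads along
non-orthogonal nonsingular vectors. -/

namespace Cfsg.Agent.OS6P

open Matrix Module Cfsg.Agent.Helper28.Sg Cfsg.Agent.Helper28.Spin Cfsg.Agent.Helper28.SLMax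
  Cfsg.Agent.Helper28.SimMax Cfsg.Agent.Helper28.OSim

variable {F : Type*} [Field F] {n : ℕ} {Q : QuadraticForm F (Fin n → F)}

theorem SPLINE.add {M : Subgroup (Matrix.GeneralLinearGroup (Fin n) F)} {e y y' : Fin n → F}
    (hy : y ∈ Psi Q M e) (hy' : y' ∈ Psi Q M e) : y + y' ∈ Psi Q M e := by
  intro a
  rw [smul_add]
  exact SPADD.add (hy a) (hy' a)

theorem SPLINE.smul {M : Subgroup (Matrix.GeneralLinearGroup (Fin n) F)} {e y : Fin n → F} (a : F)
    (hy : y ∈ Psi Q M e) : a • y ∈ Psi Q M e := by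
  intro b
  rw [smul_smul]
  exact hy (b * a)

theorem SPLINE.sub {M : Subgroup (Matrix.GeneralLinearGroup (Fin n) F)} {e y y' : Fin n → F}
    (hy : y ∈ Psi Q M e) (hy' : y' ∈ Psi Q M e) : y - y' ∈ Psi Q M e := by
  intro a
  rw [smul_sub]
  exact SPADD.sub (hy a) (hy' a)

theorem SPLINE.step {M : Subgroup (Matrix.GeneralLinearGroup (Fin n) F)}
    (hHM : Cfsg.Geo.quadSimilarityGroup (⇑Q) ⊓ SL n F ≤ M) {e z y : Fin n → F}
    (he : Q e ≠ 0) (hzΨ : z ∈ Psi Q M e) (hy : Q y ≠ 0) (hey : B Q e y = 0) (hzy : B Q y z ≠ 0) :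
    y ∈ Psi Q M e := by
  intro b
  have hc := hzΨ (b * Q y / B Q y z)
  have h1 := SPSTEP.main hHM he hy hey hc
  have h2 : B Q y ((b * Q y / B Q y z) • z) = b * Q y := by
    show QuadraticMap.polar ⇑Q y ((b * Q y / B Q y z) • z) = _
    rw [QuadraticMap.polar_smul_right, smul_eq_mul]
    show b * Q y / B Q y z * B Q y z = _
    field_simp
  rw [h2] at h1
  have h3 : (Q y)⁻¹ * (b * Q y) = b := by field_simp
  rwa [h3] at h1

end Cfsg.Agent.OS6P
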