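import Mathlib
import Cfsg.Agent.Helper29.S2221Defs

/-! S2221 piece CENTERWR (driver helper29; helper23): the centre of a wreath product `B ≀ C₂`. -/

set_option autoImplicit false

namespace Cfsg.Agent.S2221P

open Equiv

section wreath

variable {α : Type*}

/-- W2a CENTERWR (M). -/
theorem center_wr [Nonempty α] {B : Subgroup (Perm α)} (hB : B ≠ ⊥) {σ : Perm (α ⊕ α)}
    (hσ : σ ∈ wr B) (hc : ∀ ρ ∈ wr B, σ * ρ = ρ * σ) :
    ∃ c ∈ B, (∀ d ∈ B, c * d = d * c) ∧ σ = pr c c := by
  obtain ⟨a, ha, b, hb, h | h⟩ := hσ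
  · subst h
    have hab : a = b := by
      have h1 := hc tau (tau_mem_wr B)
      rw [tau_mul_pr] at h1
      have h2 : pr a b = pr b a := mul_right_cancel h1
      exact (pr_injective h2).1
    subst hab
    refine ⟨a, ha, ?_, rfl⟩
    intro d hd
    have h1 := hc (pr d d) (pr_mem_wr hd hd)
    rw [pr_mul, pr_mul] at h1
    exact (pr_injective h1).1
  · exfalso
    obtain ⟨d, hd, hd1⟩ : ∃ d ∈ B, d ≠ 1 := by
      by_contra hcon
      push Not at hcon
      exact hB ((Subgroup.eq_bot_iff_forall _).2 hcon)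
    have h1 := hc (pr d 1) (pr_mem_wr hd B.one_mem)
    rw [h, mul_assoc, tau_mul_pr, ← mul_assoc, pr_mul, ← mul_assoc, pr_mul] at h1
    have h2 := mul_right_cancel h1
    have h3 := (pr_injective h2).2
    rw [one_mul] at h3
    exact hd1 (mul_left_cancel (h3.trans (mul_one b).symm))

end wreath

end Cfsg.Agent.S2221P
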