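import Mathlib
import Cfsg.Agent.Helper29.S2221Defs

/-! S2221 piece ZC (driver helper29; helper23): basic facts on the central involution `zc k`. -/

set_option autoImplicit false

namespace Cfsg.Agent.S2221P

open Equiv

namespace ZC

section wreath

variable {α : Type*}

theorem central_step {B : Subgroup (Perm α)} {z : Perm α} (hz : ∀ ρ ∈ B, z * ρ = ρ * z) :
    ∀ ρ ∈ wr B, pr z z * ρ = ρ * pr z z := by
  intro ρ hρ
  obtain ⟨a, ha, b, hb, h | h⟩ := hρ
  · rw [h, pr_mul, pr_mul, hz a ha, hz b hb]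
  · rw [h, ← mul_assoc, pr_mul, mul_assoc, tau_mul_pr, ← mul_assoc, pr_mul, hz a ha, hz b hb]

theorem tau_ne_one [Nonempty α] : (tau : Perm (α ⊕ α)) ≠ 1 := by
  intro h
  obtain ⟨x⟩ := ‹Nonempty α›
  have h1 := congrArg (fun σ : Perm (α ⊕ α) => σ (Sum.inl x)) h
  simp at h1

theorem pr_ne_one {z : Perm α} (hz : z ≠ 1) : pr z z ≠ 1 := by
  intro h
  rw [← pr_one] at h
  exact hz (pr_injective h).1

theorem pr_mul_self {z : Perm α} (hz : z * z = 1) : pr z z * pr z z = 1 := by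
  rw [pr_mul, hz, pr_one]

theorem mem_wr_bot {ρ : Perm (α ⊕ α)} (h : ρ ∈ wr (⊥ : Subgroup (Perm α))) :
    ρ = 1 ∨ ρ = tau := by
  obtain ⟨a, ha, b, hb, h | h⟩ := h
  · left
    rw [h, Subgroup.mem_bot.mp ha, Subgroup.mem_bot.mp hb]
    exact pr_one
  · right
    rw [h, Subgroup.mem_bot.mp ha, Subgroup.mem_bot.mp hb, pr_one, one_mul]

theorem central_base : ∀ ρ ∈ wr (⊥ : Subgroup (Perm α)), (tau : Perm (α ⊕ α)) * ρ = ρ * tau := by
  intro ρ hρ
  rcases mem_wr_bot hρ with h | h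
  · rw [h, mul_one, one_mul]
  · rw [h]

end wreath

theorem mem : ∀ k : ℕ, zc k ∈ W k
  | 0 => (W 0).one_mem
  | 1 => tau_mem_wr (W 0)
  | (k + 2) => pr_mem_wr (mem (k + 1)) (mem (k + 1))

theorem central : ∀ k : ℕ, ∀ ρ ∈ W k, zc k * ρ = ρ * zc k
  | 0 => by
    intro ρ hρ
    rw [Subgroup.mem_bot.mp hρ, mul_one, one_mul]
  | 1 => central_base
  | (k + 2) => central_step (central (k + 1))

theorem ne_one : ∀ k : ℕ, 1 ≤ k → zc k ≠ 1
  | 0 => fun h => absurd h (by norm_num)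
  | 1 => fun _ => tau_ne_one
  | (k + 2) => fun _ => pr_ne_one (ne_one (k + 1) (by omega))

theorem mul_self : ∀ k : ℕ, zc k * zc k = 1
  | 0 => mul_one _
  | 1 => tau_mul_tau
  | (k + 2) => pr_mul_self (mul_self (k + 1))

end ZC

/-- W2b ZC (M): basic facts on the central involution. -/
theorem zc_mem (k : ℕ) : zc k ∈ W k := ZC.mem k
theorem zc_central (k : ℕ) : ∀ ρ ∈ W k, zc k * ρ = ρ * zc k := ZC.central k
theorem zc_ne_one (k : ℕ) (hk : 1 ≤ k) : zc k ≠ 1 := ZC.ne_one k hk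
theorem zc_mul_self (k : ℕ) : zc k * zc k = 1 := ZC.mul_self k

end Cfsg.Agent.S2221P
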