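import Mathlib
import Cfsg.Agent.Helper29.S2221Defs
import Cfsg.Agent.Helper23.S2221CENTERWR
import Cfsg.Agent.Helper23.S2221ZC

/-! S2221 piece CENTERW (driver helper29; helper23): the centre of `W k` is `{1, zc k}`. -/

set_option autoImplicit false

namespace Cfsg.Agent.S2221P

open Equiv

namespace CENTERW

section wreath

variable {α : Type*}

theorem step [Nonempty α] {B : Subgroup (Perm α)} {z : Perm α} (hzB : z ∈ B) (hz1 : z ≠ 1)
    (hB : ∀ c ∈ B, (∀ d ∈ B, c * d = d * c) → c = 1 ∨ c = z)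
    {σ : Perm (α ⊕ α)} (hσ : σ ∈ wr B) (hc : ∀ ρ ∈ wr B, σ * ρ = ρ * σ) :
    σ = 1 ∨ σ = pr z z := by
  have hBne : B ≠ ⊥ := by
    intro h
    rw [h] at hzB
    exact hz1 (Subgroup.mem_bot.mp hzB)
  obtain ⟨c, hcB, hcc, rfl⟩ := center_wr hBne hσ hc
  rcases hB c hcB hcc with h | h
  · left
    rw [h, pr_one]
  · right
    rw [h]

end wreath

theorem main : ∀ k : ℕ, 1 ≤ k → ∀ σ : Perm (Om k), σ ∈ W k → (∀ ρ ∈ W k, σ * ρ = ρ * σ) →
    σ = 1 ∨ σ = zc k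
  | 0 => fun h => absurd h (by norm_num)
  | 1 => fun _ σ hσ _ => ZC.mem_wr_bot hσ
  | (k + 2) => fun _ σ hσ hc =>
    step (zc_mem (k + 1)) (zc_ne_one (k + 1) (by omega))
      (fun c hcB hcc => main (k + 1) (by omega) c hcB hcc) hσ hc

end CENTERW

/-- W2c CENTERW (M; deps CENTERWR, ZC). -/
theorem center_W (k : ℕ) (hk : 1 ≤ k) {σ : Perm (Om k)} (hσ : σ ∈ W k)
    (hc : ∀ ρ ∈ W k, σ * ρ = ρ * σ) : σ = 1 ∨ σ = zc k :=
  CENTERW.main k hk σ hσ hc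

end Cfsg.Agent.S2221P
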