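import Mathlib
import Cfsg.Agent.Helper29.S2221Defs

/-! S2221 piece ODDT (driver helper29; helper23): the transposition `tc k` of `W k`. -/

set_option autoImplicit false

namespace Cfsg.Agent.S2221P

open Equiv

namespace ODDT

theorem mem : ∀ k : ℕ, tc k ∈ W k
  | 0 => (W 0).one_mem
  | 1 => tau_mem_wr (W 0)
  | (k + 2) => pr_mem_wr (mem (k + 1)) (W (k + 1)).one_mem

section wreath

variable {α : Type*} [Fintype α] [DecidableEq α]

theorem sign_pr (a b : Perm α) : Perm.sign (pr a b) = Perm.sign a * Perm.sign b :=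
  Equiv.Perm.sign_sumCongr a b

end wreath

theorem tau_unit_eq : (tau : Perm (Unit ⊕ Unit)) = Equiv.swap (Sum.inl ()) (Sum.inr ()) := by
  ext x
  rcases x with x | x
  · rw [tau_inl]
    simp
  · rw [tau_inr]
    simp

theorem sign_tau_unit : Perm.sign (tau : Perm (Unit ⊕ Unit)) = -1 := by
  rw [tau_unit_eq]
  exact Equiv.Perm.sign_swap (by simp)

theorem sign : ∀ k : ℕ, 1 ≤ k → Perm.sign (tc k) = -1
  | 0 => fun h => absurd h (by norm_num)
  | 1 => fun _ => sign_tau_unit
  | (k + 2) => fun _ => by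
    have ih := sign (k + 1) (by omega)
    have h := sign_pr (tc (k + 1)) (1 : Perm (Om (k + 1)))
    rw [ih, map_one, mul_one] at h
    exact h

end ODDT

/-- W5 ODDT (S–M). -/
theorem tc_mem (k : ℕ) : tc k ∈ W k := ODDT.mem k
theorem sign_tc (k : ℕ) (hk : 1 ≤ k) : Perm.sign (tc k) = -1 := ODDT.sign k hk

end Cfsg.Agent.S2221P
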