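import Mathlib
import Cfsg.Agent.Helper29.S2221Defs
import Cfsg.Agent.Helper23.S2221ZC

/-! S2221 piece COMMZ (driver helper29; helper23): `zc k` is a commutator of `W k` for `k ≥ 2`. -/

set_option autoImplicit false

namespace Cfsg.Agent.S2221P

open Equiv

namespace COMMZ

section wreath

variable {α : Type*}

theorem comm_eq {z : Perm α} (hz : z * z = 1) :
    pr z 1 * tau * (pr z 1)⁻¹ * (tau : Perm (α ⊕ α))⁻¹ = pr z z := by
  have hzi : z⁻¹ = z := inv_eq_of_mul_eq_one_right hz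
  rw [pr_inv, tau_inv, hzi, inv_one, mul_assoc (pr z 1), tau_mul_pr, ← mul_assoc (pr z 1), pr_mul,
    mul_assoc, tau_mul_tau, mul_one, mul_one, one_mul]

theorem step {B : Subgroup (Perm α)} {z : Perm α} (hzB : z ∈ B) (hz : z * z = 1)
    (hm : pr z z ∈ wr B) :
    (⟨pr z z, hm⟩ : ↥(wr B)) ∈ commutator ↥(wr B) := by
  let x : ↥(wr B) := ⟨pr z 1, pr_mem_wr hzB B.one_mem⟩
  let t : ↥(wr B) := ⟨tau, tau_mem_wr B⟩
  have h : (⟨pr z z, hm⟩ : ↥(wr B)) = x * t * x⁻¹ * t⁻¹ := by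
    apply Subtype.ext
    exact (comm_eq hz).symm
  rw [h, ← commutatorElement_def]
  exact Subgroup.commutator_mem_commutator (Subgroup.mem_top _) (Subgroup.mem_top _)

end wreath

theorem main : ∀ k : ℕ, 2 ≤ k → (⟨zc k, zc_mem k⟩ : ↥(W k)) ∈ commutator ↥(W k)
  | 0 => fun h => absurd h (by norm_num)
  | 1 => fun h => absurd h (by norm_num)
  | (k + 2) => fun _ => step (zc_mem (k + 1)) (zc_mul_self (k + 1)) (zc_mem (k + 2))

end COMMZ

/-- W4 COMMZ (M; dep ZC): `zc (k+2) = ⁅pr (zc (k+1)) 1, tau⁆`. -/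
theorem zc_mem_commutator (k : ℕ) (hk : 2 ≤ k) :
    (⟨zc k, zc_mem k⟩ : ↥(W k)) ∈ commutator ↥(W k) := COMMZ.main k hk

end Cfsg.Agent.S2221P
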