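import Mathlib
import Cfsg.Agent.Helper5.S2536DefsA

set_option autoImplicit false

/-! S2536 stage 2, piece FIVEA (driver helper5; helper23): `A₅` has no subgroup of order 20. -/

namespace Cfsg.Agent.S2536P

open Equiv Nat

universe u v

section Alt

variable {α : Type u} [Fintype α] [DecidableEq α]

/-- FIVEA -/
theorem no_order_twenty_alt_five {M : Subgroup (Perm α)} (h5 : Fintype.card α = 5)
    (hM : M ≤ alternatingGroup α) (hc : Nat.card M = 20) : False := by
  classical
  have : Nontrivial α := by
    rw [← Fintype.one_lt_card_iff_nontrivial, h5]
    norm_num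
  have h5' : Nat.card α = 5 := by rw [Nat.card_eq_fintype_card, h5]
  have hA : Nat.card (alternatingGroup α) = 60 := by
    rw [nat_card_alternatingGroup, h5']
    rfl
  have hsimple : IsSimpleGroup (alternatingGroup α) :=
    alternatingGroup.isSimpleGroup (by rw [h5'])
  set M' : Subgroup (alternatingGroup α) := M.subgroupOf (alternatingGroup α) with hM'
  have hcM' : Nat.card M' = 20 := by
    rw [← hc]
    exact Nat.card_congr (Subgroup.subgroupOfEquivOfLe hM).toEquiv
  have hidx : M'.index = 3 := by
    have := M'.card_mul_index
    rw [hcM', hA] at this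
    omega
  -- the action on the cosets
  set act := MulAction.toPermHom (alternatingGroup α) (alternatingGroup α ⧸ M') with hactdef
  have hker : act.ker = M'.normalCore := (Subgroup.normalCore_eq_ker M').symm
  rcases (inferInstance : act.ker.Normal).eq_bot_or_eq_top with hbot | htop
  · have hinj : Function.Injective act := (MonoidHom.ker_eq_bot_iff act).mp hbot
    have : Finite (alternatingGroup α ⧸ M') := inferInstance
    have hle := Nat.card_le_card_of_injective act hinj
    have hperm : Nat.card (Perm (alternatingGroup α ⧸ M')) = 6 := by
      rw [Nat.card_perm]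
      have : Nat.card (alternatingGroup α ⧸ M') = 3 := by
        rw [← Subgroup.index_eq_card]
        exact hidx
      rw [this]
      rfl
    rw [hperm, hA] at hle
    omega
  · have h1 : M'.normalCore = ⊤ := by rw [← hker, htop]
    have h2 : M' = ⊤ := top_le_iff.mp (h1 ▸ Subgroup.normalCore_le M')
    have h3 : M'.index = 1 := by rw [h2, Subgroup.index_top]
    omega

end Alt

end Cfsg.Agent.S2536P
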