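import Mathlib
import Cfsg.Agent.Helper27.S3001TOP
import Cfsg.Agent.Helper23.S3001GENORB
import Cfsg.Agent.Helper19.S3000COPR

/-! S3001 board `s3001pieces`, row ODD0: a nontrivial `T`-invariant `p'`-subgroup of `P` suffices (GENORB + COPR). -/

set_option autoImplicit false
open Cfsg

namespace Cfsg.Agent.S3001P

open Cfsg.Agent.S2789P Cfsg.Agent.S2999P Cfsg.Agent.S3000P
open scoped commutatorElement

universe u

variable {G : Type u} [Group G] [Finite G] {p : ℕ} [Fact p.Prime] {V P : Subgroup G}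

omit [Finite G] in
theorem ODD0_aux_comm_le {V X : Subgroup G} (h : ∀ b ∈ X, cjs b V = V) : ⁅V, X⁆ ≤ V := by
  rw [Subgroup.commutator_le]
  intro x hx b hb
  have h1 : b * x⁻¹ * b⁻¹ ∈ V := by
    rw [← h b hb]; exact cj_mem_conj.mpr (V.inv_mem hx)
  have : ⁅x, b⁆ = x * (b * x⁻¹ * b⁻¹) := by rw [commutatorElement_def]; group
  rw [this]; exact V.mul_mem hx h1

/-- ODD0 (M, from GENORB + COPR): a nontrivial `T`-invariant `p'`-subgroup of `P` suffices. -/
theorem ODD0 (H : Hyp1 p V P) (T : Sylow p ↥P) (X : Subgroup G) (hXP : X ≤ P) (hne : X ≠ ⊥)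
    (hcop : (Nat.card ↥X).Coprime p) (hT : ∀ t ∈ TT T, cjs t X = X) : ⁅fixV V (TT T), P⁆ ≠ ⊥ := by
  have hnV : ∀ g ∈ P, cjs g V = V := fun g hg => cj_norm (H.hPV hg)
  have hTP : TT T ≤ P := Subgroup.map_subtype_le _
  have hVp : IsPGroup p ↥V := by
    intro v
    refine ⟨1, ?_⟩
    apply Subtype.ext
    rw [pow_one, Subgroup.coe_pow]
    exact H.hV.2 v.1 v.2
  have hcopV : (Nat.card ↥X).Coprime (Nat.card ↥V) := by
    obtain ⟨n, hn⟩ := IsPGroup.iff_card.mp hVp
    rw [hn]; exact Nat.Coprime.pow_right n hcop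
  have hco := COPR (X := V) (H := X) (fun x hx y hy => S1_aux_comm H.hV hx hy) (fun h hh => hnV h (hXP hh)) hcopV
  refine GENORB H.hV H.hPV T (U := ⁅V, X⁆) (R := X) (ODD0_aux_comm_le fun b hb => hnV b (hXP hb)) hXP ?_ ?_ ?_
  · intro hbot
    apply hne
    rw [Subgroup.commutator_eq_bot_iff_le_centralizer] at hbot
    rw [eq_bot_iff, ← H.hf]
    refine le_inf hXP ?_
    intro x hx
    rw [Subgroup.mem_centralizer_iff]
    intro v hv
    have := hbot hv
    rw [Subgroup.mem_centralizer_iff] at this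
    exact (this x hx).symm
  · intro u hu hfix
    have hmem : u ∈ ⁅V, X⁆ ⊓ fixV V X :=
      ⟨hu, mem_fix.mpr ⟨ODD0_aux_comm_le (fun b hb => hnV b (hXP hb)) hu, hfix⟩⟩
    rw [hco.2] at hmem
    exact (Subgroup.mem_bot).mp hmem
  · intro t ht
    left
    rw [cj_comm, hnV t (hTP ht), hT t ht]

end Cfsg.Agent.S3001P
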