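import Mathlib
import Cfsg.Agent.Helper16.S3174Defs

/-! # S3174, piece UCS: the upper central series of a finite `p`-group is strict below the top;
orders of `Z_1, Z_2, Z_3`. -/

set_option autoImplicit false

namespace Cfsg.Agent.S3174P

open scoped commutatorElement

/-- UCS: strictness of the upper central series of a finite p-group below the top. -/
theorem ucs_strict {G : Type*} [Group G] [Finite G] {p : ℕ} [Fact p.Prime] (hG : IsPGroup p G) (n : ℕ)
    (h : Subgroup.upperCentralSeries G n ≠ ⊤) :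
    Subgroup.upperCentralSeries G n < Subgroup.upperCentralSeries G (n + 1) := by
  have hle : Subgroup.upperCentralSeries G n ≤ Subgroup.upperCentralSeries G (n + 1) :=
    Subgroup.upperCentralSeries_mono G (Nat.le_succ n)
  refine lt_of_le_of_ne hle ?_
  intro heq
  obtain ⟨x, hx⟩ : ∃ x : G, x ∉ Subgroup.upperCentralSeries G n := by
    by_contra hcon
    push Not at hcon
    exact h (eq_top_iff.mpr fun x _ => hcon x)
  have hnt : Nontrivial (G ⧸ Subgroup.upperCentralSeries G n) :=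
    ⟨⟨QuotientGroup.mk x, 1, fun h1 => hx ((QuotientGroup.eq_one_iff x).mp h1)⟩⟩
  have hQ : IsPGroup p (G ⧸ Subgroup.upperCentralSeries G n) := hG.to_quotient _
  have hc := hQ.center_nontrivial
  obtain ⟨c, hc1⟩ := exists_ne (1 : Subgroup.center (G ⧸ Subgroup.upperCentralSeries G n))
  obtain ⟨y, hy⟩ := QuotientGroup.mk_surjective c.1
  have hyn : y ∉ Subgroup.upperCentralSeries G n := by
    intro hyn
    apply hc1
    apply Subtype.ext
    rw [← hy]
    exact (QuotientGroup.eq_one_iff y).mpr hyn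
  apply hyn
  rw [heq, Subgroup.mem_upperCentralSeries_succ_iff]
  intro g
  rw [← QuotientGroup.eq_one_iff]
  have h1 : ((⁅y, g⁆ : G) : G ⧸ Subgroup.upperCentralSeries G n) =
      ⁅(y : G ⧸ Subgroup.upperCentralSeries G n), (g : G ⧸ Subgroup.upperCentralSeries G n)⁆ := by
    simp [commutatorElement_def]
  rw [h1, hy, commutatorElement_eq_one_iff_mul_comm]
  exact (Subgroup.mem_center_iff.mp c.2 _).symm

variable {T : Type*} [Group T] [Finite T]

theorem ucs_aux_card_lt {H K : Subgroup T} (h : H < K) : Nat.card ↥H < Nat.card ↥K := by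
  by_contra hcon
  push Not at hcon
  exact h.ne (Subgroup.eq_of_le_of_card_ge h.le hcon)

/-- UCSCARD -/
theorem ucs_card (hT : IsPGroup 2 T) (ha : 2 ^ 14 ≤ Nat.card T) (hb : Nat.card ↥(Zi T 4) = 16) :
    Nat.card ↥(Zi T 1) = 2 ∧ Nat.card ↥(Zi T 2) = 4 ∧ Nat.card ↥(Zi T 3) = 8 := by
  have : Fact (Nat.Prime 2) := ⟨Nat.prime_two⟩
  have hne4 : Zi T 4 ≠ ⊤ := by
    intro h
    have h1 : Nat.card ↥(Zi T 4) = Nat.card T := by rw [h]; exact Subgroup.card_top
    omega
  have hne : ∀ i, i ≤ 4 → Zi T i ≠ ⊤ := by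
    intro i hi h
    apply hne4
    rw [eq_top_iff, ← h]
    exact Subgroup.upperCentralSeries_mono T hi
  have h01 := ucs_aux_card_lt (ucs_strict hT 0 (hne 0 (by norm_num)))
  have h12 := ucs_aux_card_lt (ucs_strict hT 1 (hne 1 (by norm_num)))
  have h23 := ucs_aux_card_lt (ucs_strict hT 2 (hne 2 (by norm_num)))
  have h34 := ucs_aux_card_lt (ucs_strict hT 3 (hne 3 (by norm_num)))
  have h0 : Nat.card ↥(Subgroup.upperCentralSeries T 0) = 1 := by
    rw [Subgroup.upperCentralSeries_zero]; exact Subgroup.card_bot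
  obtain ⟨a1, ha1⟩ := IsPGroup.iff_card.mp (hT.to_subgroup (Zi T 1))
  obtain ⟨a2, ha2⟩ := IsPGroup.iff_card.mp (hT.to_subgroup (Zi T 2))
  obtain ⟨a3, ha3⟩ := IsPGroup.iff_card.mp (hT.to_subgroup (Zi T 3))
  have hb' : Nat.card ↥(Subgroup.upperCentralSeries T 4) = 2 ^ 4 := by
    have : Nat.card ↥(Subgroup.upperCentralSeries T 4) = 16 := hb
    rw [this]; norm_num
  have e1 : Nat.card ↥(Subgroup.upperCentralSeries T 1) = 2 ^ a1 := ha1
  have e2 : Nat.card ↥(Subgroup.upperCentralSeries T 2) = 2 ^ a2 := ha2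
  have e3 : Nat.card ↥(Subgroup.upperCentralSeries T 3) = 2 ^ a3 := ha3
  simp only [Nat.reduceAdd] at h01 h12 h23 h34
  rw [h0, e1] at h01
  rw [e1, e2] at h12
  rw [e2, e3] at h23
  rw [e3, hb'] at h34
  have l1 : 0 < a1 := by
    rcases Nat.eq_zero_or_pos a1 with h | h
    · rw [h] at h01; norm_num at h01
    · exact h
  have l2 : a1 < a2 := (Nat.pow_lt_pow_iff_right (by norm_num)).mp h12
  have l3 : a2 < a3 := (Nat.pow_lt_pow_iff_right (by norm_num)).mp h23
  have l4 : a3 < 4 := (Nat.pow_lt_pow_iff_right (by norm_num)).mp h34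
  have r1 : a1 = 1 := by omega
  have r2 : a2 = 2 := by omega
  have r3 : a3 = 3 := by omega
  refine ⟨?_, ?_, ?_⟩
  · rw [ha1, r1]; norm_num
  · rw [ha2, r2]; norm_num
  · rw [ha3, r3]; norm_num

end Cfsg.Agent.S3174P
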