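import Mathlib
import Cfsg.Prelude.Def_GeometricClasses
import Cfsg.Agent.Helper20.S6000Defs

set_option autoImplicit false
open scoped MatrixGroups Matrix

/-! S6000 (driver helper20; helper23): auxiliary lemmas for conjugacy in `SL₄` (pieces INVCONJ, CONJ3).

* `CONJAUX.cent_det`: a rank one perturbation of the identity commuting with `Y`, of prescribed determinant;
* `CONJAUX.exists_gl_of_equiv`: a linear equivalence intertwining `X` and `Y` gives a conjugating element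
  of `GL₄`;
* `CONJAUX.sl_conj`: conjugacy in `GL₄` plus elements of every determinant in the centralizer give
  conjugacy in `SL₄`;
* `CONJAUX.equiv_of_decomp`: glue intertwining equivalences along invariant decompositions. -/

namespace Cfsg.Agent.S6000P

namespace CONJAUX

variable {F : Type*} [Field F]

/-- a vector pairing to `1` with a nonzero vector -/
theorem exists_dual_vec (u : Fin 4 → F) (hu : u ≠ 0) : ∃ w : Fin 4 → F, w ⬝ᵥ u = 1 := by
  have : ∃ i, u i ≠ 0 := by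
    by_contra h
    apply hu
    funext i
    by_contra hi
    exact h ⟨i, hi⟩
  obtain ⟨i, hi⟩ := this
  refine ⟨Pi.single i (u i)⁻¹, ?_⟩
  rw [single_dotProduct, inv_mul_cancel₀ hi]

/-- a rank one perturbation of the identity commuting with `Y`, of prescribed determinant -/
theorem cent_det (Y : M4 F) (u v : Fin 4 → F) (hu : Y *ᵥ u = u) (hv : v ᵥ* Y = v)
    (huv : v ⬝ᵥ u = 1) (μ : F) :
    ∃ c : M4 F, c * Y = Y * c ∧ c.det = μ := by
  refine ⟨1 + Matrix.vecMulVec ((μ - 1) • u) v, ?_, ?_⟩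
  · rw [add_mul, mul_add, one_mul, mul_one, Matrix.vecMulVec_mul, Matrix.mul_vecMulVec, hv,
      Matrix.mulVec_smul, hu]
  · rw [Matrix.vecMulVec_eq Unit, Matrix.det_one_add_replicateCol_mul_replicateRow,
      dotProduct_smul, huv, smul_eq_mul, mul_one]
    ring

/-- a linear equivalence intertwining `X` and `Y` gives a conjugating element of `GL₄` -/
theorem exists_gl_of_equiv (x y : GL (Fin 4) F) (φ : (Fin 4 → F) ≃ₗ[F] (Fin 4 → F))
    (hφ : ∀ v, φ ((x : M4 F) *ᵥ v) = (y : M4 F) *ᵥ (φ v)) :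
    ∃ g : GL (Fin 4) F, g⁻¹ * x * g = y := by
  set G : M4 F := LinearMap.toMatrix' (φ.symm : (Fin 4 → F) →ₗ[F] (Fin 4 → F)) with hG
  set G' : M4 F := LinearMap.toMatrix' (φ : (Fin 4 → F) →ₗ[F] (Fin 4 → F)) with hG'
  have h1 : G * G' = 1 := by
    rw [hG, hG', ← LinearMap.toMatrix'_comp]
    have : (φ.symm : (Fin 4 → F) →ₗ[F] (Fin 4 → F)) ∘ₗ (φ : (Fin 4 → F) →ₗ[F] (Fin 4 → F)) =
        LinearMap.id := by
      apply LinearMap.ext
      intro v
      simp
    rw [this, LinearMap.toMatrix'_id]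
  have h2 : G' * G = 1 := by
    rw [hG, hG', ← LinearMap.toMatrix'_comp]
    have : (φ : (Fin 4 → F) →ₗ[F] (Fin 4 → F)) ∘ₗ (φ.symm : (Fin 4 → F) →ₗ[F] (Fin 4 → F)) =
        LinearMap.id := by
      apply LinearMap.ext
      intro v
      simp
    rw [this, LinearMap.toMatrix'_id]
  have h3 : (x : M4 F) * G = G * (y : M4 F) := by
    have e1 : (x : M4 F) * G = LinearMap.toMatrix'
        (Matrix.toLin' (x : M4 F) ∘ₗ (φ.symm : (Fin 4 → F) →ₗ[F] (Fin 4 → F))) := by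
      rw [LinearMap.toMatrix'_comp, LinearMap.toMatrix'_toLin']
    have e2 : G * (y : M4 F) = LinearMap.toMatrix'
        ((φ.symm : (Fin 4 → F) →ₗ[F] (Fin 4 → F)) ∘ₗ Matrix.toLin' (y : M4 F)) := by
      rw [LinearMap.toMatrix'_comp, LinearMap.toMatrix'_toLin']
    rw [e1, e2]
    congr 1
    apply LinearMap.ext
    intro v
    simp only [LinearMap.comp_apply, LinearEquiv.coe_coe, Matrix.toLin'_apply]
    apply φ.injective
    rw [hφ, LinearEquiv.apply_symm_apply, LinearEquiv.apply_symm_apply]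
  refine ⟨⟨G, G', h1, h2⟩, ?_⟩
  apply Units.ext
  rw [Units.val_mul, Units.val_mul]
  show G' * (x : M4 F) * G = (y : M4 F)
  rw [mul_assoc, h3, ← mul_assoc, h2, one_mul]

/-- conjugacy in `GL₄` plus elements of every determinant in the centralizer give conjugacy in `SL₄` -/
theorem sl_conj (x y : GL (Fin 4) F) (g₀ : GL (Fin 4) F) (hg₀ : g₀⁻¹ * x * g₀ = y)
    (hc : ∀ μ : F, μ ≠ 0 → ∃ c : M4 F, c * (y : M4 F) = (y : M4 F) * c ∧ c.det = μ) :
    ∃ g ∈ Cfsg.Geo.specialLinear (Fin 4) F, g⁻¹ * x * g = y := by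
  have hd : (g₀ : M4 F).det ≠ 0 := by
    have := g₀.isUnit.map (Matrix.detMonoidHom (n := Fin 4) (R := F))
    exact this.ne_zero
  obtain ⟨c, hcy, hcd⟩ := hc ((g₀ : M4 F).det)⁻¹ (inv_ne_zero hd)
  have hcu : IsUnit c.det := by
    rw [hcd]
    exact (inv_ne_zero hd).isUnit
  set c' : GL (Fin 4) F := Matrix.GeneralLinearGroup.mk'' c hcu with hc'
  have hc'v : (c' : M4 F) = c := rfl
  have hcomm : c' * y = y * c' := by
    apply Units.ext
    rw [Units.val_mul, Units.val_mul, hc'v]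
    exact hcy
  refine ⟨g₀ * c', ?_, ?_⟩
  · rw [mem_specialLinear_iff, Units.val_mul, Matrix.det_mul, hc'v, hcd, mul_inv_cancel₀ hd]
  · have : (g₀ * c')⁻¹ * x * (g₀ * c') = c'⁻¹ * (g₀⁻¹ * x * g₀) * c' := by group
    rw [this, hg₀, mul_assoc, ← hcomm, ← mul_assoc, inv_mul_cancel, one_mul]

section Decomp

variable {V : Type*} [AddCommGroup V] [Module F V]

/-- glue intertwining equivalences along invariant decompositions -/
theorem equiv_of_decomp (f₁ f₂ : Module.End F V) (C₁ N₁ C₂ N₂ : Submodule F V)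
    (h₁ : IsCompl C₁ N₁) (h₂ : IsCompl C₂ N₂)
    (hC₁ : ∀ v ∈ C₁, f₁ v ∈ C₁) (hN₁ : ∀ v ∈ N₁, f₁ v ∈ N₁)
    (eC : C₁ ≃ₗ[F] C₂) (eN : N₁ ≃ₗ[F] N₂)
    (heC : ∀ (v : C₁), (eC ⟨f₁ v, hC₁ v v.2⟩ : V) = f₂ (eC v))
    (heN : ∀ (v : N₁), (eN ⟨f₁ v, hN₁ v v.2⟩ : V) = f₂ (eN v)) :
    ∃ φ : V ≃ₗ[F] V, ∀ v, φ (f₁ v) = f₂ (φ v) := by
  refine ⟨(Submodule.prodEquivOfIsCompl C₁ N₁ h₁).symm ≪≫ₗ (eC.prodCongr eN) ≪≫ₗ
    (Submodule.prodEquivOfIsCompl C₂ N₂ h₂), ?_⟩
  intro v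
  obtain ⟨⟨u, w⟩, rfl⟩ := (Submodule.prodEquivOfIsCompl C₁ N₁ h₁).surjective v
  have hf : f₁ ((Submodule.prodEquivOfIsCompl C₁ N₁ h₁) (u, w)) =
      (Submodule.prodEquivOfIsCompl C₁ N₁ h₁) (⟨f₁ u, hC₁ u u.2⟩, ⟨f₁ w, hN₁ w w.2⟩) := by
    rw [Submodule.coe_prodEquivOfIsCompl', Submodule.coe_prodEquivOfIsCompl', map_add]
  rw [hf]
  simp only [LinearEquiv.trans_apply, LinearEquiv.symm_apply_apply]
  simp only [LinearEquiv.prodCongr_apply, Submodule.coe_prodEquivOfIsCompl']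
  rw [map_add f₂, heC u, heN w]

end Decomp

end CONJAUX

end Cfsg.Agent.S6000P
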