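import Mathlib
import Cfsg.Prelude.Def_GeometricClasses
import Cfsg.Agent.Helper20.S6000Defs
import Cfsg.Agent.Helper23.S6000INVTRACE
import Cfsg.Agent.Helper23.S6000CONJAUX

set_option autoImplicit false
open scoped MatrixGroups Matrix

/-! S6000 piece INVCONJ (driver helper20; helper23): nonscalar involutions of `GL₄` with the same trace
are conjugate under `SL₄`. -/

namespace Cfsg.Agent.S6000P

namespace INVCONJ23

variable {F : Type*} [Field F]

open INVTRACE CONJAUX

theorem nat_eq_of_cast (h2 : (2 : F) ≠ 0) (a b : ℕ) (ha : 1 ≤ a ∧ a ≤ 3) (hb : 1 ≤ b ∧ b ≤ 3)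
    (h : (a : F) = (b : F)) : a = b := by
  obtain ⟨ha1, ha3⟩ := ha
  obtain ⟨hb1, hb3⟩ := hb
  interval_cases a <;> interval_cases b <;>
    first
    | rfl
    | (exfalso; push_cast at h; apply h2;
       first
       | linear_combination h
       | linear_combination -h
       | linear_combination 2 * h
       | linear_combination (-2) * h)

/-- a left eigenvector of an involution pairing to `1` with a given right eigenvector -/
theorem exists_left_eigen (h2 : (2 : F) ≠ 0) (Y : M4 F) (hY : Y * Y = 1) (u : Fin 4 → F)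
    (hu : Y *ᵥ u = u) (hu0 : u ≠ 0) : ∃ v : Fin 4 → F, v ᵥ* Y = v ∧ v ⬝ᵥ u = 1 := by
  obtain ⟨w, hw⟩ := exists_dual_vec u hu0
  refine ⟨(2 : F)⁻¹ • (w + w ᵥ* Y), ?_, ?_⟩
  · rw [Matrix.smul_vecMul, Matrix.add_vecMul, Matrix.vecMul_vecMul, hY, Matrix.vecMul_one,
      add_comm]
  · rw [smul_dotProduct, add_dotProduct, ← Matrix.dotProduct_mulVec, hu, hw, smul_eq_mul]
    rw [show (1 : F) + 1 = 2 by norm_num, inv_mul_cancel₀ h2]

end INVCONJ23

open INVTRACE CONJAUX in
/-- INVCONJ (second proof; the board's module is `Helper4.S6000INVCONJ`) -/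
theorem INVCONJ23.invol_conj_sl {F : Type*} [Field F] (h2 : (2 : F) ≠ 0) (x y : GL (Fin 4) F)
    (hx : x * x = 1) (hy : y * y = 1) (hxns : ∀ z : F, (x : M4 F) ≠ z • (1 : M4 F))
    (hyns : ∀ z : F, (y : M4 F) ≠ z • (1 : M4 F))
    (htr : Matrix.trace (x : M4 F) = Matrix.trace (y : M4 F)) :
    ∃ g ∈ Cfsg.Geo.specialLinear (Fin 4) F, g⁻¹ * x * g = y := by
  have hX : (x : M4 F) * (x : M4 F) = 1 := by rw [← Units.val_mul, hx, Units.val_one]
  have hY : (y : M4 F) * (y : M4 F) = 1 := by rw [← Units.val_mul, hy, Units.val_one]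
  have hpx := finrank_pos h2 _ hX hxns
  have hpy := finrank_pos h2 _ hY hyns
  have hax := finrank_add h2 _ hX
  have hay := finrank_add h2 _ hY
  have hcast : (Module.finrank F (Ep (x : M4 F)) : F) = (Module.finrank F (Ep (y : M4 F)) : F) := by
    have h1 := trace_eq h2 _ hX
    have h3 := trace_eq h2 _ hY
    rw [htr, h3] at h1
    have : (2 : F) * ((Module.finrank F (Ep (x : M4 F)) : F) -
        (Module.finrank F (Ep (y : M4 F)) : F)) = 0 := by linear_combination -h1
    have := (mul_eq_zero.mp this).resolve_left h2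
    exact sub_eq_zero.mp this
  have hEp : Module.finrank F (Ep (x : M4 F)) = Module.finrank F (Ep (y : M4 F)) :=
    INVCONJ23.nat_eq_of_cast h2 _ _ hpx hpy hcast
  have hEm : Module.finrank F (Em (x : M4 F)) = Module.finrank F (Em (y : M4 F)) := by omega
  set eC : Ep (x : M4 F) ≃ₗ[F] Ep (y : M4 F) := LinearEquiv.ofFinrankEq _ _ hEp with heCdef
  set eN : Em (x : M4 F) ≃ₗ[F] Em (y : M4 F) := LinearEquiv.ofFinrankEq _ _ hEm with heNdef
  have hC₁ : ∀ v ∈ Ep (x : M4 F), Matrix.toLin' (x : M4 F) v ∈ Ep (x : M4 F) := by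
    intro v hv
    have hv' := (mem_Ep _ v).mp hv
    rw [Matrix.toLin'_apply, hv']
    exact hv
  have hN₁ : ∀ v ∈ Em (x : M4 F), Matrix.toLin' (x : M4 F) v ∈ Em (x : M4 F) := by
    intro v hv
    have hv' := (mem_Em _ v).mp hv
    rw [Matrix.toLin'_apply, hv']
    exact Submodule.neg_mem _ hv
  obtain ⟨φ, hφ⟩ := equiv_of_decomp (Matrix.toLin' (x : M4 F)) (Matrix.toLin' (y : M4 F))
    (Ep (x : M4 F)) (Em (x : M4 F)) (Ep (y : M4 F)) (Em (y : M4 F)) (isCompl h2 _ hX)
    (isCompl h2 _ hY) hC₁ hN₁ eC eN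
    (by
      intro v
      have hv' := (mem_Ep _ (v : Fin 4 → F)).mp v.2
      have hw' := (mem_Ep _ ((eC v : Ep (y : M4 F)) : Fin 4 → F)).mp (eC v).2
      have : (⟨Matrix.toLin' (x : M4 F) (v : Fin 4 → F), hC₁ v v.2⟩ : Ep (x : M4 F)) = v := by
        apply Subtype.ext
        show Matrix.toLin' (x : M4 F) (v : Fin 4 → F) = (v : Fin 4 → F)
        rw [Matrix.toLin'_apply, hv']
      rw [this]
      conv_rhs => rw [Matrix.toLin'_apply, hw'])
    (by
      intro v
      have hv' := (mem_Em _ (v : Fin 4 → F)).mp v.2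
      have hw' := (mem_Em _ ((eN v : Em (y : M4 F)) : Fin 4 → F)).mp (eN v).2
      have : (⟨Matrix.toLin' (x : M4 F) (v : Fin 4 → F), hN₁ v v.2⟩ : Em (x : M4 F)) = -v := by
        apply Subtype.ext
        show Matrix.toLin' (x : M4 F) (v : Fin 4 → F) = -(v : Fin 4 → F)
        rw [Matrix.toLin'_apply, hv']
      rw [this, map_neg]
      conv_rhs => rw [Matrix.toLin'_apply, hw']
      rfl)
  obtain ⟨g₀, hg₀⟩ := exists_gl_of_equiv x y φ (by
    intro v
    have := hφ v
    rwa [Matrix.toLin'_apply, Matrix.toLin'_apply] at this)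
  apply sl_conj x y g₀ hg₀
  intro μ _
  have hpos : 0 < Module.finrank F (Ep (y : M4 F)) := by omega
  obtain ⟨u, hu0⟩ := Module.finrank_pos_iff_exists_ne_zero.mp hpos
  have hu : (y : M4 F) *ᵥ (u : Fin 4 → F) = u := (mem_Ep _ _).mp u.2
  have hu0' : (u : Fin 4 → F) ≠ 0 := by
    intro h
    apply hu0
    exact Subtype.ext h
  obtain ⟨v, hv, huv⟩ := INVCONJ23.exists_left_eigen h2 _ hY _ hu hu0'
  exact cent_det _ _ v hu hv huv μ

end Cfsg.Agent.S6000P
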