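import Mathlib
import Cfsg.Prelude.Def_Characters
import Cfsg.Agent.Helper24.EquivOfChar
import Cfsg.Agent.Helper24.Expansion
import Cfsg.Agent.Helper24.DadeExt
import Cfsg.Agent.Helper8.CharComp
import Cfsg.Agent.Helper8.Ind

/-!
General lemmas for the proof of S0890.
-/

set_option autoImplicit false
set_option linter.unusedSectionVars false
set_option linter.unusedVariables false
set_option linter.style.haveILetI false
set_option linter.unnecessarySimpa false

namespace Cfsg.Agent.Helper23.QuasiPrim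

open Cfsg Cfsg.Agent.Helper24 Representation

universe u

section Reps

variable {k X Y V : Type*} [Field k] [Group X] [Group Y] [AddCommGroup V] [Module k V]

/-- if the composite `ρ ∘ f` is irreducible, so is `ρ`. -/
theorem isIrreducible_of_comp (ρ : Representation k X V) (f : Y →* X)
    (h : Representation.IsIrreducible (MonoidHom.comp ρ f : Representation k Y V)) :
    ρ.IsIrreducible := by
  let F : Subrepresentation ρ → Subrepresentation (MonoidHom.comp ρ f : Representation k Y V) :=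
    fun σ => ⟨σ.toSubmodule, fun g _ hv => σ.apply_mem_toSubmodule (f g) hv⟩
  have hFinj : Function.Injective F := by
    intro σ τ hστ
    apply Subrepresentation.toSubmodule_injective
    exact congrArg (fun s : Subrepresentation (MonoidHom.comp ρ f : Representation k Y V) =>
      s.toSubmodule) hστ
  have hbot : F ⊥ = ⊥ := Subrepresentation.toSubmodule_injective rfl
  have htop : F ⊤ = ⊤ := Subrepresentation.toSubmodule_injective rfl
  haveI := h
  refine { exists_pair_ne := ⟨⊥, ⊤, ?_⟩, eq_bot_or_eq_top := ?_ }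
  · intro hbt
    have : (⊥ : Subrepresentation (MonoidHom.comp ρ f : Representation k Y V)) = ⊤ := by
      rw [← hbot, ← htop, hbt]
    exact bot_ne_top this
  · intro σ
    rcases eq_bot_or_eq_top (F σ) with h1 | h1
    · left; apply hFinj; rw [h1, hbot]
    · right; apply hFinj; rw [h1, htop]

end Reps

section Restrict

variable {G : Type u} [Group G] [Finite G]

/-- a finite-dimensional representation whose character is an irreducible character is
irreducible. -/
theorem isIrreducible_of_isIrrCharacter {V : Type*} [AddCommGroup V] [Module ℂ V]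
    [FiniteDimensional ℂ V] (ρ : Representation ℂ G V) (h : IsIrrCharacter G ρ.character) :
    ρ.IsIrreducible := by
  obtain ⟨m, σ, hσ, hc⟩ := h
  obtain ⟨φ⟩ := equiv_of_character_eq σ ρ hc
  exact isIrreducible_of_equiv φ hσ

/-- a character of `H` whose restriction to `L ≤ J ≤ H` is irreducible restricts irreducibly
to `J`. -/
theorem isIrrCharacter_restrict_of_restrict (H : Subgroup G) {ϑ : H → ℂ} (hϑ : IsCharacter H ϑ)
    (L J : Subgroup G) (hLJ : L ≤ J) (hJH : J ≤ H)
    (hres : IsIrrCharacter L (fun x : L => ϑ ⟨x, hJH (hLJ x.2)⟩)) :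
    IsIrrCharacter J (fun x : J => ϑ ⟨x, hJH x.2⟩) := by
  obtain ⟨n, ρ, rfl⟩ := hϑ
  let ρJ : Representation ℂ J (Fin n → ℂ) := MonoidHom.comp ρ (Subgroup.inclusion hJH)
  let ρL : Representation ℂ L (Fin n → ℂ) := MonoidHom.comp ρJ (Subgroup.inclusion hLJ)
  have hL : ρL.IsIrreducible := by
    apply isIrreducible_of_isIrrCharacter
    exact hres
  have hJ : ρJ.IsIrreducible := isIrreducible_of_comp ρJ (Subgroup.inclusion hLJ) hL
  exact ⟨n, ρJ, hJ, rfl⟩

end Restrict

section Pairing

variable {G : Type u} [Group G] [Fintype G]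

/-- Mackey pairing when `H N = G`: the restriction to the normal subgroup `N` of a function
induced from `H`, paired with a `G`-invariant function on `N`. -/
theorem classInner_restrict_indFun (N H : Subgroup G) [hN : N.Normal] [Fintype N] [Fintype H]
    [Fintype ↥(H ⊓ N)] (hsup : H ⊔ N = ⊤) (ϑ : H → ℂ) (η : N → ℂ)
    (hinv : ∀ (g : G) (n : N), η ⟨g * n * g⁻¹, hN.conj_mem (n : G) n.2 g⟩ = η n) :
    classInner (fun n : N => indFun H ϑ n) η =
      classInner (fun x : ↥(H ⊓ N) => ϑ ⟨(x : G), (Subgroup.mem_inf.mp x.2).1⟩)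
        (fun x : ↥(H ⊓ N) => η ⟨(x : G), (Subgroup.mem_inf.mp x.2).2⟩) := by
  have hw : ∀ (g : G) (n : N),
      (fun n : N => (starRingEnd ℂ) (η n)) ⟨g * n * g⁻¹, hN.conj_mem (n : G) n.2 g⟩ =
        (fun n : N => (starRingEnd ℂ) (η n)) n := by
    intro g n
    simp only
    rw [hinv]
  have h := Cfsg.Agent.Helper24.mackey_inner N H (fun n : N => (starRingEnd ℂ) (η n)) hw ϑ
  have hrel : N.relIndex H = N.index := by
    rw [← Subgroup.relIndex_sup_right H N, hsup, Subgroup.relIndex_top_right]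
  rw [hrel] at h
  have hidx : (N.index : ℂ) ≠ 0 := by
    have : N.index ≠ 0 := Subgroup.index_ne_zero_of_finite
    exact_mod_cast this
  exact mul_left_cancel₀ hidx h

/-- if a character `A` contains the irreducible `ψ` with multiplicity `e`, then `[A, A] ≥ e²`. -/
theorem sq_le_classInner_self {X : Type u} [Group X] [Fintype X] {A : X → ℂ}
    (hA : IsCharacter X A) {ψ : X → ℂ} (hψ : IsIrrCharacter X ψ) (e : ℕ)
    (he : classInner A ψ = e) : ∃ k : ℕ, classInner A A = k ∧ e ^ 2 ≤ k := by
  classical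
  haveI : Fintype (IrrCharacter X) := Fintype.ofFinite _
  obtain ⟨n, rfl⟩ := IsCharacter.exists_nat_coeff hA
  have h1 := classInner_sum_irr (fun χ : IrrCharacter X => (n χ : ℂ)) ⟨ψ, hψ⟩
  simp only at h1
  rw [he] at h1
  have h2 : e = n ⟨ψ, hψ⟩ := by exact_mod_cast h1
  refine ⟨∑ χ : IrrCharacter X, n χ * n χ, ?_, ?_⟩
  · rw [classInner_sum_sum]
    push_cast
    refine Finset.sum_congr rfl ?_
    intro χ _
    rw [Complex.conj_natCast]
  · rw [h2, sq]
    exact Finset.single_le_sum (f := fun χ => n χ * n χ) (fun _ _ => Nat.zero_le _)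
      (Finset.mem_univ _)

omit [Fintype G] in
/-- `|N| = |G : H| |H ∩ N|` when `H N = G`. -/
theorem card_eq_index_mul_card_inf [Finite G] (N H : Subgroup G) [hN : N.Normal]
    (hsup : H ⊔ N = ⊤) : Nat.card N = H.index * Nat.card ↥(H ⊓ N) := by
  have hrel : N.relIndex H = N.index := by
    rw [← Subgroup.relIndex_sup_right H N, hsup, Subgroup.relIndex_top_right]
  have h1 : (H ⊓ N).relIndex H = N.index := by rw [Subgroup.inf_relIndex_left, hrel]
  have h2 : (H ⊓ N).relIndex H * H.index = (H ⊓ N).index :=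
    Subgroup.relIndex_mul_index inf_le_left
  have h3 : Nat.card ↥(H ⊓ N) * (H ⊓ N).index = Nat.card G := Subgroup.card_mul_index _
  have h4 : Nat.card N * N.index = Nat.card G := Subgroup.card_mul_index _
  have hpos : 0 < N.index := Nat.pos_of_ne_zero Subgroup.index_ne_zero_of_finite
  have h5 : Nat.card N * N.index = (H.index * Nat.card ↥(H ⊓ N)) * N.index := by
    rw [h4, ← h3, ← h2, h1]
    ring
  exact Nat.eq_of_mul_eq_mul_right hpos h5

/-- the sum of `|η|²` over `N` for an irreducible `η`. -/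
theorem sum_normSq_irr {X : Type u} [Group X] [Fintype X] {η : X → ℂ}
    (hη : IsIrrCharacter X η) : ∑ n : X, Complex.normSq (η n) = (Nat.card X : ℝ) := by
  haveI : Fintype (IrrCharacter X) := Fintype.ofFinite _
  have h1 : classInner η η = 1 := classInner_irr_self ⟨η, hη⟩
  unfold classInner at h1
  have hX : (Nat.card X : ℂ) ≠ 0 := by exact_mod_cast Nat.card_pos.ne'
  have h2 : ∑ n : X, η n * (starRingEnd ℂ) (η n) = (Nat.card X : ℂ) := by
    have := congrArg (fun z => (Nat.card X : ℂ) * z) h1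
    beta_reduce at this
    rw [← mul_assoc, mul_inv_cancel₀ hX, one_mul, mul_one] at this
    exact this
  have h3 : ∀ n : X, η n * (starRingEnd ℂ) (η n) = ((Complex.normSq (η n) : ℝ) : ℂ) :=
    fun n => Complex.mul_conj (η n)
  simp_rw [h3] at h2
  rw [← Complex.ofReal_sum] at h2
  exact_mod_cast h2

/-- the sum of `|A|²` in terms of the norm. -/
theorem sum_normSq_of_classInner {X : Type u} [Group X] [Fintype X] {A : X → ℂ} (k : ℕ)
    (h1 : classInner A A = k) : ∑ n : X, Complex.normSq (A n) = (k : ℝ) * (Nat.card X : ℝ) := by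
  unfold classInner at h1
  have hX : (Nat.card X : ℂ) ≠ 0 := by exact_mod_cast Nat.card_pos.ne'
  have h2 : ∑ n : X, A n * (starRingEnd ℂ) (A n) = (k : ℂ) * (Nat.card X : ℂ) := by
    have := congrArg (fun z => (Nat.card X : ℂ) * z) h1
    beta_reduce at this
    rw [← mul_assoc, mul_inv_cancel₀ hX, one_mul] at this
    rw [this, mul_comm]
  have h3 : ∀ n : X, A n * (starRingEnd ℂ) (A n) = ((Complex.normSq (A n) : ℝ) : ℂ) :=
    fun n => Complex.mul_conj (A n)
  simp_rw [h3] at h2
  rw [← Complex.ofReal_sum] at h2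
  exact_mod_cast h2

omit [Fintype G] in
/-- a sum over `N` of a function supported in the subgroup `K ≤ N` is a sum over `K`. -/
theorem sum_eq_sum_of_support (N K : Subgroup G) (hKN : K ≤ N) [Fintype N] [Fintype K]
    (F : N → ℝ) (hF : ∀ n : N, F n ≠ 0 → (n : G) ∈ K) :
    ∑ n : N, F n = ∑ x : K, F ⟨(x : G), hKN x.2⟩ := by
  classical
  symm
  refine Finset.sum_bij_ne_zero
    (fun x _ _ => (⟨(x : G), hKN x.2⟩ : N)) (fun _ _ _ => Finset.mem_univ _) ?_ ?_ ?_
  · intro x _ _ y _ _ hxy
    apply Subtype.ext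
    exact congrArg (fun n : N => (n : G)) hxy
  · intro n _ hn
    exact ⟨⟨(n : G), hF n hn⟩, Finset.mem_univ _, hn, rfl⟩
  · intro x _ _
    rfl

/-- the counting argument: if the restriction of the irreducible `η ∈ Irr(N)` to `H ∩ N` already
carries the whole norm of `η`, then every `N`-conjugate of every element off the zero set of `η`
lies in `H`. -/
theorem conj_mem_of_ne_zero (N H : Subgroup G) [Fintype N] [Fintype ↥(H ⊓ N)] (η : N → ℂ)
    (hη : IsIrrCharacter N η)
    (hnorm : (Nat.card N : ℝ) ≤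
      ∑ x : ↥(H ⊓ N), Complex.normSq (η ⟨(x : G), (Subgroup.mem_inf.mp x.2).2⟩)) :
    ∀ n : N, η n ≠ 0 → ∀ t : N, (t : G)⁻¹ * n * t ∈ H := by
  classical
  have hcf : IsClassFunction N η := IsCharacter.isClassFunction (IsIrrCharacter.isCharacter hη)
  set A : N → ℝ := fun n => Complex.normSq (η n) with hA
  have hA0 : ∀ n, 0 ≤ A n := fun n => Complex.normSq_nonneg _
  have hsumA : ∑ n : N, A n = (Nat.card N : ℝ) := sum_normSq_irr hη
  set ind : G → ℝ := fun g => if g ∈ H then 1 else 0 with hind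
  have hind01 : ∀ g, 0 ≤ ind g ∧ ind g ≤ 1 := by
    intro g
    simp only [hind]
    split_ifs <;> constructor <;> norm_num
  set S' : ℝ := ∑ n : N, A n * ind (n : G) with hS'
  -- `S'` is the sum over `H ⊓ N`
  have hS'eq : S' = ∑ x : ↥(H ⊓ N), A ⟨(x : G), (Subgroup.mem_inf.mp x.2).2⟩ := by
    rw [hS']
    symm
    refine Finset.sum_bij_ne_zero
      (fun x _ _ => (⟨(x : G), (Subgroup.mem_inf.mp x.2).2⟩ : N)) (fun _ _ _ => Finset.mem_univ _)
      ?_ ?_ ?_
    · intro x _ _ y _ _ hxy
      apply Subtype.ext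
      exact congrArg (fun n : N => (n : G)) hxy
    · intro n _ hn
      by_cases h : (n : G) ∈ H
      · refine ⟨⟨(n : G), Subgroup.mem_inf.mpr ⟨h, n.2⟩⟩, Finset.mem_univ _, ?_, rfl⟩
        simp only [hind, if_pos h, mul_one] at hn
        exact hn
      · simp only [hind, if_neg h, mul_zero] at hn
        exact absurd rfl hn
    · intro x _ _
      have hx : (x : G) ∈ H := (Subgroup.mem_inf.mp x.2).1
      simp only [hind, if_pos hx, mul_one]
  -- the inner sums
  have hinner : ∀ t : N, ∑ n : N, A n * ind ((t : G)⁻¹ * n * t) = S' := by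
    intro t
    rw [hS', ← Equiv.sum_comp (MulAut.conj t).toEquiv]
    refine Finset.sum_congr rfl ?_
    intro n _
    have h1 : ((MulAut.conj t).toEquiv n) = t * n * t⁻¹ := rfl
    rw [h1]
    have h2 : A (t * n * t⁻¹) = A n := by
      simp only [hA]
      rw [hcf n t]
    have h3 : (t : G)⁻¹ * ((t * n * t⁻¹ : N) : G) * t = (n : G) := by
      push_cast
      group
    rw [h2, h3]
  have hD : ∑ n : N, A n * ∑ t : N, ind ((t : G)⁻¹ * n * t) = (Nat.card N : ℝ) * S' := by
    simp_rw [Finset.mul_sum]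
    rw [Finset.sum_comm]
    simp_rw [hinner]
    rw [Finset.sum_const, Finset.card_univ, nsmul_eq_mul, Nat.card_eq_fintype_card]
  have hd_le : ∀ n : N, ∑ t : N, ind ((t : G)⁻¹ * n * t) ≤ (Nat.card N : ℝ) := by
    intro n
    calc ∑ t : N, ind ((t : G)⁻¹ * n * t) ≤ ∑ _t : N, (1 : ℝ) :=
          Finset.sum_le_sum (fun t _ => (hind01 _).2)
      _ = (Nat.card N : ℝ) := by
          rw [Finset.sum_const, Finset.card_univ, nsmul_eq_mul, mul_one, Nat.card_eq_fintype_card]
  have hterm0 : ∀ n : N, 0 ≤ A n * ((Nat.card N : ℝ) - ∑ t : N, ind ((t : G)⁻¹ * n * t)) :=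
    fun n => mul_nonneg (hA0 n) (sub_nonneg.mpr (hd_le n))
  have hsum_le : ∑ n : N, A n * ((Nat.card N : ℝ) - ∑ t : N, ind ((t : G)⁻¹ * n * t)) ≤ 0 := by
    have h1 : ∑ n : N, A n * ((Nat.card N : ℝ) - ∑ t : N, ind ((t : G)⁻¹ * n * t)) =
        (Nat.card N : ℝ) * (Nat.card N : ℝ) - (Nat.card N : ℝ) * S' := by
      simp_rw [mul_sub]
      rw [Finset.sum_sub_distrib, hD, ← Finset.sum_mul, hsumA]
    rw [h1]
    have h2 : (Nat.card N : ℝ) ≤ S' := by rw [hS'eq]; exact hnorm
    have h3 : (0 : ℝ) ≤ (Nat.card N : ℝ) := Nat.cast_nonneg _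
    nlinarith
  have hsum0 : ∑ n : N, A n * ((Nat.card N : ℝ) - ∑ t : N, ind ((t : G)⁻¹ * n * t)) = 0 :=
    le_antisymm hsum_le (Finset.sum_nonneg (fun n _ => hterm0 n))
  have hall := (Finset.sum_eq_zero_iff_of_nonneg (fun n _ => hterm0 n)).mp hsum0
  intro n hn t
  have h1 := hall n (Finset.mem_univ _)
  have hAn : A n ≠ 0 := by
    simp only [hA]
    intro h
    exact hn (Complex.normSq_eq_zero.mp h)
  have h2 : (Nat.card N : ℝ) - ∑ t : N, ind ((t : G)⁻¹ * n * t) = 0 := by
    rcases mul_eq_zero.mp h1 with h | h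
    · exact absurd h hAn
    · exact h
  have h3 : ∑ t : N, (1 - ind ((t : G)⁻¹ * n * t)) = 0 := by
    rw [Finset.sum_sub_distrib, Finset.sum_const, Finset.card_univ, nsmul_eq_mul, mul_one,
      ← Nat.card_eq_fintype_card]
    exact h2
  have h4 := (Finset.sum_eq_zero_iff_of_nonneg
    (fun (t : N) _ => sub_nonneg.mpr (hind01 ((t : G)⁻¹ * n * t)).2)).mp h3 t (Finset.mem_univ _)
  by_contra hmem
  simp only [hind, if_neg hmem, sub_zero] at h4
  exact one_ne_zero h4

end Pairing

end Cfsg.Agent.Helper23.QuasiPrim
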