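import Mathlib
import Cfsg.Prelude.Def_Classical
import Cfsg.Prelude.Def_CaseTheorems
import Cfsg.Prelude.Def_LieRecognition
import Cfsg.Agent.Helper16.S64Defs
import Cfsg.Agent.Helper26.S1237Defs

/-! # S1237 board, piece CUBE -/

set_option autoImplicit false

namespace Cfsg.Agent.S1237P

theorem CUBE {T : Type*} [Group T] [Finite T] (hT : IsPGroup 2 T) (τ : MulAut T) (hτ : τ ^ 3 = 1)
    (N M : Subgroup T) (hN : ∀ n ∈ N, τ n = n) (hM : ∀ x ∈ M, x⁻¹ * τ x ∈ N) :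
    ∀ x ∈ M, τ x = x := by
  intro x hx
  obtain ⟨n, hn⟩ : ∃ n, n = x⁻¹ * τ x := ⟨_, rfl⟩
  have hnN : n ∈ N := hn ▸ hM x hx
  have h1 : τ x = x * n := by rw [hn]; group
  have hfix : τ n = n := hN n hnN
  have h2 : (τ ^ 3) x = x * (n * n * n) := by
    have h3 : (τ ^ 3) x = τ (τ (τ x)) := rfl
    rw [h3, h1, map_mul, hfix, h1, map_mul, map_mul, hfix, h1]
    simp only [mul_assoc]
  rw [hτ, MulAut.one_apply] at h2
  have h3 : n ^ 3 = 1 := by
    have h4 : x * (n * n * n) = x * 1 := by rw [mul_one]; exact h2.symm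
    have h5 := mul_left_cancel h4
    rw [pow_succ, pow_two]; exact h5
  obtain ⟨k, hk⟩ := hT n
  have h5 := pow_gcd_eq_one.2 ⟨hk, h3⟩
  have hc : Nat.gcd (2 ^ k) 3 = 1 := by
    apply Nat.Coprime.pow_left
    norm_num
  rw [hc, pow_one] at h5
  rw [h1, h5, mul_one]

end Cfsg.Agent.S1237P
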