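import Mathlib
import Cfsg.Prelude.Def_Classical
import Cfsg.Agent.Helper21.S2286DEFS
import Cfsg.Agent.Helper21.S2289DEFS
import Cfsg.Agent.Helper5.S2289MODELEV

/-! S2289 piece RELC (driver helper21; helper23): the conjugates of `u` commute with `z` in the model. -/

set_option autoImplicit false

namespace Cfsg.Agent.Helper21.S2289

open Cfsg.Agent.Helper21.S2286 Polynomial Multiplicative

section rel
variable {F : Type*} [Field F] [Fintype F] {q : ℕ} {G : Type*} [Group G] (D : U3Data F q G)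

namespace RELC

theorem val_one (β₀ : F) (hβ : β₀ + β₀ ^ q = -1) : Val q 1 β₀ := by
  unfold Val
  rw [one_pow]
  linear_combination hβ

/-- `μ - μ^q` is purely imaginary -/
theorem val_zero_sub (hF : Fintype.card F = q ^ 2) (μ c : F) (hc : c ^ q = c) :
    Val q 0 (c * (μ - μ ^ q)) := by
  rw [val_zero_iff hF]
  have h1 : (μ ^ q) ^ q = μ := by
    rw [← pow_mul, ← sq]
    exact Cfsg.Agent.Helper2.Herm.pow_q_sq hF μ
  rw [mul_pow, Cfsg.Agent.Helper2.Herm.sub_pow_q hF, h1, hc]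
  ring

end RELC

theorem rel_c (hF : Fintype.card F = q ^ 2) (ζ : Fˣ) (β₀ : F) (hβ : β₀ + β₀ ^ q = -1) (i : ℤ) :
    cj (D.hG (ζ : F)) (D.uG 1 β₀) i * zW (D.hG (ζ : F)) (D.uG 1 β₀) =
      zW (D.hG (ζ : F)) (D.uG 1 β₀) * cj (D.hG (ζ : F)) (D.uG 1 β₀) i := by
  have hq : 2 ≤ q := Cfsg.Agent.Helper2.Herm.two_le_q hF
  have hv1 : Val q 1 β₀ := RELC.val_one β₀ hβ
  obtain ⟨hc, hvc⟩ := cj_hu D hF ζ i hv1
  have hz := zW_u D hF ζ hv1
  have hvz : Val q 0 ((1 : F) ^ (q + 1) *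
      ((ζ : F) ^ 2 / (ζ : F) ^ q - ((ζ : F) ^ 2 / (ζ : F) ^ q) ^ q)) :=
    RELC.val_zero_sub hF _ _ (by rw [one_pow, one_pow])
  rw [hc, hz, D.u_mul _ _ _ _ hvc hvz, D.u_mul _ _ _ _ hvz hvc]
  congr 1
  · ring
  · rw [zero_pow (by omega)]
    ring

end rel

end Cfsg.Agent.Helper21.S2289
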