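import Mathlib
import Cfsg.Prelude.Def_Classical
import Cfsg.Agent.Helper21.S2286DEFS
import Cfsg.Agent.Helper21.S2289DEFS
import Cfsg.Agent.Helper5.S2289MODELEV

/-! S2289 piece RELT (driver helper21; helper23): the torus and Weyl relations hold in the model. -/

set_option autoImplicit false

namespace Cfsg.Agent.Helper21.S2289

open Cfsg.Agent.Helper21.S2286 Polynomial Multiplicative

section rel
variable {F : Type*} [Field F] [Fintype F] {q : ℕ} {G : Type*} [Group G] (D : U3Data F q G)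

theorem rel_t (hF : Fintype.card F = q ^ 2) (ζ : Fˣ) :
    D.hG (ζ : F) ^ (q ^ 2 - 1) = 1 ∧ D.nG * D.nG = 1 ∧
    D.nG * D.hG (ζ : F) * D.nG⁻¹ = (D.hG (ζ : F) ^ q)⁻¹ := by
  refine ⟨?_, D.n_sq, ?_⟩
  · have h1 := hG_zpow D ζ ((q ^ 2 - 1 : ℕ) : ℤ)
    rw [zpow_natCast] at h1
    rw [h1, zpow_natCast, Units.val_pow_eq_pow_val]
    have h2 : (ζ : F) ^ (q ^ 2 - 1) = 1 := by
      have := FiniteField.pow_card_sub_one_eq_one (ζ : F) ζ.ne_zero
      rwa [hF] at this
    rw [h2, D.h_one]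
  · rw [D.n_h (ζ : F) ζ.ne_zero]
    have h1 := hG_zpow D ζ (-(q : ℤ))
    rw [zpow_neg, zpow_natCast] at h1
    rw [h1, zpow_neg, zpow_natCast, Units.val_inv_eq_inv_val, Units.val_pow_eq_pow_val, one_div]

end rel

end Cfsg.Agent.Helper21.S2289
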