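import Cfsg.Agent.Helper23.S2293MAT4
import Cfsg.Agent.Helper2.SpCenter

/-! # S2293 piece CENTER4 (helper23): `Z(Sp(4,F))` is the normal closure of `nam * nam = -1`. -/

set_option autoImplicit false

namespace Cfsg.Agent.Helper21.S2293

theorem center_sp4 {F : Type*} [Field F] :
    Subgroup.center (Matrix.symplecticGroup (Fin 2) F) =
      Subgroup.normalClosure {(nam * nam : Matrix.symplecticGroup (Fin 2) F)} := by
  have hmem : (nam * nam : Matrix.symplecticGroup (Fin 2) F) ∈
      Subgroup.center (Matrix.symplecticGroup (Fin 2) F) := by
    rw [Cfsg.Agent.Helper2.Sp.mem_center_iff]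
    refine ⟨-1, by ring, ?_⟩
    rw [nam_sq_val]
    simp
  apply le_antisymm
  · intro z hz
    rw [Cfsg.Agent.Helper2.Sp.mem_center_iff] at hz
    obtain ⟨c, hc, hz⟩ := hz
    have hc' : (c - 1) * (c + 1) = 0 := by linear_combination hc
    rcases mul_eq_zero.mp hc' with h | h
    · have h1 : c = 1 := by linear_combination h
      have : z = 1 := by
        apply Subtype.ext
        rw [hz, h1, one_smul]
        rfl
      rw [this]
      exact Subgroup.one_mem _
    · have h1 : c = -1 := by linear_combination h
      have : z = nam * nam := by
        apply Subtype.ext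
        rw [hz, h1, nam_sq_val]
        simp
      rw [this]
      exact Subgroup.subset_normalClosure rfl
  · apply Subgroup.normalClosure_le_normal
    intro x hx
    rw [Set.mem_singleton_iff] at hx
    rw [hx]
    exact hmem

end Cfsg.Agent.Helper21.S2293
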