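import Mathlib

/-! # S2293 piece SQUARES (helper23): in a finite field every element is a sum/difference of
nonzero squares.  Char 2: squaring is injective hence surjective.  Otherwise
`a = ((a+1)/2)² - ((a-1)/2)²`. -/

set_option autoImplicit false

namespace Cfsg.Agent.Helper21.S2293

namespace SQUARES

theorem sq_mem {F : Type*} [Field F] (y : F) :
    y ^ 2 ∈ AddSubgroup.closure {z : F | ∃ y : F, y ≠ 0 ∧ z = y ^ 2} := by
  by_cases hy : y = 0
  · subst hy
    rw [zero_pow (by norm_num)]
    exact AddSubgroup.zero_mem _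
  · exact AddSubgroup.subset_closure ⟨y, hy, rfl⟩

end SQUARES

open SQUARES in
theorem squares_span {F : Type*} [Field F] [Finite F] (a : F) :
    a ∈ AddSubgroup.closure {z : F | ∃ y : F, y ≠ 0 ∧ z = y ^ 2} := by
  by_cases h2 : (2 : F) = 0
  · have hinj : Function.Injective (fun y : F => y ^ 2) := by
      intro y z hyz
      have hyz' : y ^ 2 = z ^ 2 := hyz
      have e : (y - z) ^ 2 = y ^ 2 - z ^ 2 - 2 * (z * (y - z)) := by ring
      rw [hyz', h2] at e
      have h0 : (y - z) ^ 2 = 0 := by rw [e]; ring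
      exact sub_eq_zero.mp (pow_eq_zero_iff (by norm_num) |>.mp h0)
    obtain ⟨y, hy⟩ := (Finite.injective_iff_surjective.mp hinj) a
    have hay : a = y ^ 2 := hy.symm
    rw [hay]
    exact sq_mem y
  · have e : a = ((a + 1) / 2) ^ 2 - ((a - 1) / 2) ^ 2 := by
      field_simp
      ring
    rw [e]
    exact AddSubgroup.sub_mem _ (sq_mem _) (sq_mem _)

end Cfsg.Agent.Helper21.S2293
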