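import Mathlib
import Cfsg.Agent.Helper27.S4150Defs
import Cfsg.Agent.Helper22.S4150TRANSK

/-!
# S4150 piece SIXTWO (driver helper27; helper23 hedge): transitive on 6 points with an element of order 5 ⇒ 2-transitive
-/

set_option autoImplicit false
set_option linter.unusedSectionVars false

namespace Cfsg.Agent.S4150P

open Equiv Equiv.Perm MulAction

section
variable {α : Type*} [Fintype α] [DecidableEq α]

namespace SIXTWO

/-- an element of prime order `p` on fewer than `2p` points is a `p`-cycle -/
theorem cyc {p : ℕ} (hp : p.Prime) (hα : Fintype.card α < 2 * p) {x : Perm α}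
    (hx : orderOf x = p) : x.IsCycle ∧ x.support.card = p := by
  obtain ⟨n, hn⟩ := Equiv.Perm.cycleType_prime_order (σ := x) (by rw [hx]; exact hp)
  rw [hx] at hn
  have hsum : x.support.card = (n + 1) * p := by
    rw [← Equiv.Perm.sum_cycleType, hn, Multiset.sum_replicate, smul_eq_mul]
  have hle : x.support.card ≤ Fintype.card α := Finset.card_le_univ _
  have hn0 : n = 0 := by
    by_contra h
    have : 2 * p ≤ (n + 1) * p := Nat.mul_le_mul_right p (by omega)
    omega
  subst hn0
  refine ⟨?_, by rw [hsum]; ring⟩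
  rw [← Equiv.Perm.card_cycleType_eq_one, hn]
  simp

end SIXTWO

/-- SIXTWO [M]: transitive on 6 points with an element of order 5 ⇒ 2-transitive. -/
theorem SIXTWO.main (hα : Fintype.card α = 6) (H : Subgroup (Perm α)) (htr : IsPretransitive H α)
    {y : Perm α} (hy : y ∈ H) (hyo : orderOf y = 5) : IsMultiplyPretransitive H α 2 := by
  obtain ⟨hcyc, hsupp⟩ := SIXTWO.cyc (p := 5) (by norm_num) (by rw [hα]; norm_num) hyo
  have hc : (y.supportᶜ).card = 1 := by rw [Finset.card_compl, hα, hsupp]
  obtain ⟨a₀, ha₀⟩ := Finset.card_eq_one.mp hc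
  have hfix : y a₀ = a₀ := by
    have : a₀ ∈ y.supportᶜ := by rw [ha₀]; exact Finset.mem_singleton_self _
    rwa [Finset.mem_compl, Equiv.Perm.notMem_support] at this
  have hmem : ∀ d, d ∉ ({a₀} : Finset α) → d ∈ y.support := by
    intro d hd
    by_contra h
    apply hd
    rw [← ha₀, Finset.mem_compl]
    exact h
  have h1 : IsMultiplyPretransitive H α 1 := MulAction.is_one_pretransitive_iff.mpr htr
  apply TRANSK.main H h1 (by rw [hα]; norm_num) {a₀} (Finset.card_singleton _)
  intro d e hd he
  obtain ⟨i, hi⟩ := hcyc.exists_pow_eq (Equiv.Perm.mem_support.mp (hmem d hd))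
    (Equiv.Perm.mem_support.mp (hmem e he))
  refine ⟨y ^ i, ⟨H.pow_mem hy i, ?_⟩, hi⟩
  intro a ha
  rw [Finset.mem_singleton] at ha
  subst ha
  exact Equiv.Perm.pow_apply_eq_self_of_apply_eq_self hfix i

end

end Cfsg.Agent.S4150P
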