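import Mathlib
import Cfsg.Agent.Helper7.S5655.Defs2
import Cfsg.Agent.Helper7.S5655.MonoLib

/-! # S5655 `k = 1`, piece N4: the product of four twisted swaps. -/

set_option autoImplicit false

namespace Cfsg.Agent.S5655K1

open Matrix
open Cfsg.Agent.S2644 Cfsg.Agent.Helper2.SUGen Cfsg.Agent.Helper28.SimMax Cfsg.Agent.MonoP

variable {K : Type*} [Field K] {q n : ℕ}

namespace N4

/-- `n4` acts as the four twisted swaps, one after the other -/
theorem n4_mulVec (r r' : Fin 4 → Fin n) (t : Fin 4 → K) (x : Fin n → K) :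
    n4 r r' t *ᵥ x = tsw (r 0) (r' 0) (t 0) *ᵥ (tsw (r 1) (r' 1) (t 1) *ᵥ
      (tsw (r 2) (r' 2) (t 2) *ᵥ (tsw (r 3) (r' 3) (t 3) *ᵥ x))) := by
  unfold n4
  rw [← Matrix.mulVec_mulVec, ← Matrix.mulVec_mulVec, ← Matrix.mulVec_mulVec]

/-- a twisted swap minus the identity has rank one -/
theorem tsw_sub_one {a b : Fin n} (hab : a ≠ b) {t : K} (ht : t ≠ 0) :
    tsw a b t - 1 = vecMulVec (t • Pi.single b (1 : K) - Pi.single a (1 : K))
      (Pi.single a (1 : K) - t⁻¹ • Pi.single b (1 : K)) := by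
  apply mat_ext
  intro x
  funext k
  rw [Matrix.sub_mulVec, Matrix.one_mulVec, Matrix.vecMulVec_mulVec, Pi.sub_apply, Pi.smul_apply,
    Pi.sub_apply, Pi.smul_apply, sub_dotProduct, smul_dotProduct, single_one_dotProduct,
    single_one_dotProduct, MulOpposite.smul_eq_mul_unop, MulOpposite.unop_op, smul_eq_mul, smul_eq_mul]
  by_cases hka : k = a
  · subst hka
    rw [tsw_mulVec_a, Pi.single_eq_of_ne hab, Pi.single_eq_same]
    ring
  · by_cases hkb : k = b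
    · subst hkb
      rw [tsw_mulVec_b hab, Pi.single_eq_same, Pi.single_eq_of_ne hka]
      field_simp
      ring
    · rw [tsw_mulVec_of_ne _ _ hka hkb, Pi.single_eq_of_ne hka, Pi.single_eq_of_ne hkb]
      ring

/-- rank is subadditive on products, in the form used here -/
theorem mul_sub_one (A B : Matrix (Fin n) (Fin n) K) (a b : Fin n → K) (hA : A - 1 = vecMulVec a b) :
    A * B - 1 = vecMulVec a (b ᵥ* B) + (B - 1) := by
  rw [← Matrix.vecMulVec_mul, ← hA]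
  noncomm_ring

end N4

/-- N4 (M): the basic facts on `n4` (indices pairwise distinct, `t i ∈ μ`): it is in `M` (monomial by `mono_mul`, isometry,
determinant `(-1)^4 = 1`), an involution, its action on coordinates, and `n4 - 1` has rank `≤ 4`:
`n4 - 1 = ∑_i (t_i e_{r' i} - e_{r i}) (e_{r i} - t_i⁻¹ e_{r' i})ᵀ`. -/
theorem N4.facts (D : Frob K q) {M : Subgroup (Matrix.GeneralLinearGroup (Fin n) K)} (hN : HasN q M)
    (r r' : Fin 4 → Fin n) (hr : Function.Injective r) (hr' : Function.Injective r')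
    (hrr' : ∀ i j, r i ≠ r' j) (t : Fin 4 → K) (ht : ∀ i, IsU D (t i)) :
    n4 r r' t ∈ MS M ∧ n4 r r' t * n4 r r' t = 1 ∧
    (∀ (x : Fin n → K) (i : Fin 4), (n4 r r' t *ᵥ x) (r i) = (t i)⁻¹ * x (r' i) ∧
      (n4 r r' t *ᵥ x) (r' i) = t i * x (r i)) ∧
    (∀ (x : Fin n → K) (k : Fin n), (∀ i, k ≠ r i) → (∀ i, k ≠ r' i) → (n4 r r' t *ᵥ x) k = x k) ∧
    ∃ a b : Fin 4 → Fin n → K, n4 r r' t - 1 = ∑ l, vecMulVec (a l) (b l) := by
  have ht0 : ∀ i, t i ≠ 0 := fun i => IsU.ne_zero D (ht i)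
  have e1 : ∀ i j, i ≠ j → r i ≠ r j := fun i j hij hh => hij (hr hh)
  have e2 : ∀ i j, i ≠ j → r' i ≠ r' j := fun i j hij hh => hij (hr' hh)
  have e3 : ∀ i j, r' i ≠ r j := fun i j hh => hrr' j i hh.symm
  -- the action
  have hact : ∀ (x : Fin n → K) (i : Fin 4), (n4 r r' t *ᵥ x) (r i) = (t i)⁻¹ * x (r' i) ∧
      (n4 r r' t *ᵥ x) (r' i) = t i * x (r i) := by
    intro x i
    rw [N4.n4_mulVec]
    fin_cases i
    · refine ⟨?_, ?_⟩
      · show (tsw (r 0) (r' 0) (t 0) *ᵥ _) (r 0) = (t 0)⁻¹ * x (r' 0)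
        rw [tsw_mulVec_a, tsw_mulVec_of_ne _ _ (e3 0 1) (e2 0 1 (by decide)),
          tsw_mulVec_of_ne _ _ (e3 0 2) (e2 0 2 (by decide)),
          tsw_mulVec_of_ne _ _ (e3 0 3) (e2 0 3 (by decide))]
      · show (tsw (r 0) (r' 0) (t 0) *ᵥ _) (r' 0) = (t 0) * x (r 0)
        rw [tsw_mulVec_b (hrr' 0 0), tsw_mulVec_of_ne _ _ (e1 0 1 (by decide)) (hrr' 0 1),
          tsw_mulVec_of_ne _ _ (e1 0 2 (by decide)) (hrr' 0 2),
          tsw_mulVec_of_ne _ _ (e1 0 3 (by decide)) (hrr' 0 3)]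
    · refine ⟨?_, ?_⟩
      · show (tsw (r 0) (r' 0) (t 0) *ᵥ _) (r 1) = (t 1)⁻¹ * x (r' 1)
        rw [tsw_mulVec_of_ne _ _ (e1 1 0 (by decide)) (hrr' 1 0), tsw_mulVec_a,
          tsw_mulVec_of_ne _ _ (e3 1 2) (e2 1 2 (by decide)),
          tsw_mulVec_of_ne _ _ (e3 1 3) (e2 1 3 (by decide))]
      · show (tsw (r 0) (r' 0) (t 0) *ᵥ _) (r' 1) = (t 1) * x (r 1)
        rw [tsw_mulVec_of_ne _ _ (e3 1 0) (e2 1 0 (by decide)), tsw_mulVec_b (hrr' 1 1),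
          tsw_mulVec_of_ne _ _ (e1 1 2 (by decide)) (hrr' 1 2),
          tsw_mulVec_of_ne _ _ (e1 1 3 (by decide)) (hrr' 1 3)]
    · refine ⟨?_, ?_⟩
      · show (tsw (r 0) (r' 0) (t 0) *ᵥ _) (r 2) = (t 2)⁻¹ * x (r' 2)
        rw [tsw_mulVec_of_ne _ _ (e1 2 0 (by decide)) (hrr' 2 0),
          tsw_mulVec_of_ne _ _ (e1 2 1 (by decide)) (hrr' 2 1), tsw_mulVec_a,
          tsw_mulVec_of_ne _ _ (e3 2 3) (e2 2 3 (by decide))]
      · show (tsw (r 0) (r' 0) (t 0) *ᵥ _) (r' 2) = (t 2) * x (r 2)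
        rw [tsw_mulVec_of_ne _ _ (e3 2 0) (e2 2 0 (by decide)),
          tsw_mulVec_of_ne _ _ (e3 2 1) (e2 2 1 (by decide)), tsw_mulVec_b (hrr' 2 2),
          tsw_mulVec_of_ne _ _ (e1 2 3 (by decide)) (hrr' 2 3)]
    · refine ⟨?_, ?_⟩
      · show (tsw (r 0) (r' 0) (t 0) *ᵥ _) (r 3) = (t 3)⁻¹ * x (r' 3)
        rw [tsw_mulVec_of_ne _ _ (e1 3 0 (by decide)) (hrr' 3 0),
          tsw_mulVec_of_ne _ _ (e1 3 1 (by decide)) (hrr' 3 1),
          tsw_mulVec_of_ne _ _ (e1 3 2 (by decide)) (hrr' 3 2), tsw_mulVec_a]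
      · show (tsw (r 0) (r' 0) (t 0) *ᵥ _) (r' 3) = (t 3) * x (r 3)
        rw [tsw_mulVec_of_ne _ _ (e3 3 0) (e2 3 0 (by decide)),
          tsw_mulVec_of_ne _ _ (e3 3 1) (e2 3 1 (by decide)),
          tsw_mulVec_of_ne _ _ (e3 3 2) (e2 3 2 (by decide)), tsw_mulVec_b (hrr' 3 3)]
  have hfix : ∀ (x : Fin n → K) (k : Fin n), (∀ i, k ≠ r i) → (∀ i, k ≠ r' i) →
      (n4 r r' t *ᵥ x) k = x k := by
    intro x k hk hk'
    rw [N4.n4_mulVec, tsw_mulVec_of_ne _ _ (hk 0) (hk' 0), tsw_mulVec_of_ne _ _ (hk 1) (hk' 1),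
      tsw_mulVec_of_ne _ _ (hk 2) (hk' 2), tsw_mulVec_of_ne _ _ (hk 3) (hk' 3)]
  refine ⟨?_, ?_, hact, hfix, ?_⟩
  · -- membership
    apply hN
    · unfold n4 tsw
      rw [mono_mul, mono_mul, mono_mul]
      exact mono_isMono _ _
    · unfold n4
      exact (((tsw_pres D _ _ (ht 0)).mul (tsw_pres D _ _ (ht 1))).mul (tsw_pres D _ _ (ht 2))).mul
        (tsw_pres D _ _ (ht 3))
    · unfold n4
      rw [Matrix.det_mul, Matrix.det_mul, Matrix.det_mul, tsw_det (hrr' 0 0) (ht0 0),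
        tsw_det (hrr' 1 1) (ht0 1), tsw_det (hrr' 2 2) (ht0 2), tsw_det (hrr' 3 3) (ht0 3)]
      norm_num
  · -- involution
    apply mat_ext
    intro x
    funext k
    rw [← Matrix.mulVec_mulVec, Matrix.one_mulVec]
    by_cases hk : ∃ i, k = r i
    · obtain ⟨i, rfl⟩ := hk
      rw [(hact _ i).1, (hact _ i).2]
      have := ht0 i
      field_simp
    · by_cases hk' : ∃ i, k = r' i
      · obtain ⟨i, rfl⟩ := hk'
        rw [(hact _ i).2, (hact _ i).1]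
        have := ht0 i
        field_simp
      · rw [not_exists] at hk hk'
        rw [hfix _ k hk hk', hfix _ k hk hk']
  · -- rank
    have h0 := N4.tsw_sub_one (hrr' 0 0) (ht0 0)
    have h1 := N4.tsw_sub_one (hrr' 1 1) (ht0 1)
    have h2 := N4.tsw_sub_one (hrr' 2 2) (ht0 2)
    have h3 := N4.tsw_sub_one (hrr' 3 3) (ht0 3)
    refine ⟨fun l => t l • Pi.single (r' l) (1 : K) - Pi.single (r l) (1 : K),
      ![(Pi.single (r 0) (1 : K) - (t 0)⁻¹ • Pi.single (r' 0) (1 : K)) ᵥ*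
          (tsw (r 1) (r' 1) (t 1) * (tsw (r 2) (r' 2) (t 2) * tsw (r 3) (r' 3) (t 3))),
        (Pi.single (r 1) (1 : K) - (t 1)⁻¹ • Pi.single (r' 1) (1 : K)) ᵥ*
          (tsw (r 2) (r' 2) (t 2) * tsw (r 3) (r' 3) (t 3)),
        (Pi.single (r 2) (1 : K) - (t 2)⁻¹ • Pi.single (r' 2) (1 : K)) ᵥ* tsw (r 3) (r' 3) (t 3),
        Pi.single (r 3) (1 : K) - (t 3)⁻¹ • Pi.single (r' 3) (1 : K)], ?_⟩
    rw [Fin.sum_univ_four]
    simp only [Matrix.cons_val_zero, Matrix.cons_val_one, Matrix.cons_val_two, Matrix.cons_val_three]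
    unfold n4
    rw [Matrix.mul_assoc, Matrix.mul_assoc, N4.mul_sub_one _ _ _ _ h0, N4.mul_sub_one _ _ _ _ h1,
      N4.mul_sub_one _ _ _ _ h2, h3]
    abel

end Cfsg.Agent.S5655K1
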