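import Mathlib
import Cfsg.Agent.Helper28.S5658.Defs
import Cfsg.Agent.Helper28.S5658.Lib

/-! S5658 (driver helper28; helper23): shared auxiliary lemmas on `KS` for the pieces KSRING, KLONG, TOPKT. -/

set_option autoImplicit false

namespace Cfsg.Agent.S5658P

open Matrix
open Cfsg.Agent.S2644 Cfsg.Agent.Helper2.SUGen Cfsg.Agent.Helper28.SimMax Cfsg.Agent.S5639P

variable {K : Type*} [Field K] {q n : ℕ}

local notation "h" => Cfsg.hermForm n K q
local notation "T" => Cfsg.unitaryTransvection n q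

namespace H23AUX

theorem li_swap {u w : Fin n → K} (hi : LinearIndependent K ![u, w]) :
    LinearIndependent K ![w, u] := by
  rw [LinearIndependent.pair_iff] at hi ⊢
  intro a b hab
  have := hi b a (by rw [add_comm]; exact hab)
  exact ⟨this.2, this.1⟩

theorem KS_of_mem (D : Frob K q) {F₀ : Subfield K}
    {M : Subgroup (Matrix.GeneralLinearGroup (Fin n) K)} (hRat : HasRatSU q F₀ M) {c : K}
    (hc : c ∈ F₀) : c ∈ KS q F₀ M := by
  intro u w hu hw huu hww hwu _
  exact S_mem_of_hasRatSU D hRat hu hw huu hww hwu hc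

theorem KS_add (D : Frob K q) {F₀ : Subfield K}
    {M : Subgroup (Matrix.GeneralLinearGroup (Fin n) K)} {a b : K} (ha : a ∈ KS q F₀ M)
    (hb : b ∈ KS q F₀ M) : a + b ∈ KS q F₀ M := by
  intro u w hu hw huu hww hwu hi
  rw [S_add_param D huu hww hwu]
  exact MS_mul (ha u w hu hw huu hww hwu hi) (hb u w hu hw huu hww hwu hi)

theorem KS_neg (D : Frob K q) {F₀ : Subfield K}
    {M : Subgroup (Matrix.GeneralLinearGroup (Fin n) K)} {a : K} (ha : a ∈ KS q F₀ M) :
    -a ∈ KS q F₀ M := by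
  intro u w hu hw huu hww hwu hi
  have h1 : S q u w (-a) * S q u w a ∈ MS M := by
    rw [S_neg_mul D huu hww hwu]
    exact one_mem_MS M
  exact MS_of_mul_right (ha u w hu hw huu hww hwu hi) h1

/-- `c ∈ KS → -σ c ∈ KS` -/
theorem KS_swap (D : Frob K q) {F₀ : Subfield K}
    {M : Subgroup (Matrix.GeneralLinearGroup (Fin n) K)} {c : K} (hc : c ∈ KS q F₀ M) :
    -(D.σ c) ∈ KS q F₀ M := by
  intro u w hu hw huu hww hwu hi
  rw [← S_swap D u w c]
  exact hc w u hw hu hww huu (h_symm_zero D hwu) (li_swap hi)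

/-- `c ∈ KS → σ c ∈ KS` -/
theorem KS_sigma (D : Frob K q) {F₀ : Subfield K}
    {M : Subgroup (Matrix.GeneralLinearGroup (Fin n) K)} {c : K} (hc : c ∈ KS q F₀ M) :
    D.σ c ∈ KS q F₀ M := by
  have := KS_neg D (KS_swap D hc)
  rwa [neg_neg] at this

end H23AUX

end Cfsg.Agent.S5658P
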