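import Mathlib
import Cfsg.Agent.Helper28.S5658.Defs
import Cfsg.Agent.Helper28.S5658.Lib
import Cfsg.Agent.Helper20.S5658TRANSF1
import Cfsg.Agent.Helper16.S5658TRANSF2

/-! S5658 piece KONE (driver helper28; helper23): one rational centre / one rational isotropic pair decides. -/

set_option autoImplicit false

namespace Cfsg.Agent.S5658P

open Matrix
open Cfsg.Agent.S2644 Cfsg.Agent.Helper2.SUGen Cfsg.Agent.Helper28.SimMax Cfsg.Agent.S5639P

variable {K : Type*} [Field K] {q n : ℕ}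

local notation "h" => Cfsg.hermForm n K q
local notation "T" => Cfsg.unitaryTransvection n q

theorem KONE.KT_of_one [Finite K] (hn : 13 ≤ n) (D : Frob K q) (F₀ : Subfield K)
    (hθ : ∃ θ ∈ F₀, D.σ θ ≠ θ) (M : Subgroup (Matrix.GeneralLinearGroup (Fin n) K))
    (hMG : M ≤ Cfsg.GU n K q ⊓ Cfsg.Geo.specialLinear (Fin n) K) (hRat : HasRatSU q F₀ M)
    {u : Fin n → K} (hu : Rat F₀ u) (hu0 : u ≠ 0) (huu : h u u = 0) {c : K} (hc : D.σ c = -c)
    (hT : T u c ∈ MS M) : c ∈ KT D F₀ M := by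
  refine ⟨hc, ?_⟩
  intro u' hu' huu'
  by_cases hu0' : u' = 0
  · rw [hu0', T_zero_vec]
    exact one_mem_MS M
  · obtain ⟨A, hA, hP, hd, hAu⟩ := TRANSF.exists1 hn D F₀ hθ hu hu' hu0 hu0' huu huu'
    have hAM : A ∈ MS M := hRat A hA hP hd
    have := MS_conj_T D hMG hAM hT
    rwa [hAu] at this

theorem KONE.KS_of_one [Finite K] (hn : 13 ≤ n) (D : Frob K q) (F₀ : Subfield K)
    (hθ : ∃ θ ∈ F₀, D.σ θ ≠ θ) (M : Subgroup (Matrix.GeneralLinearGroup (Fin n) K))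
    (hMG : M ≤ Cfsg.GU n K q ⊓ Cfsg.Geo.specialLinear (Fin n) K) (hRat : HasRatSU q F₀ M)
    {u w : Fin n → K} (hu : Rat F₀ u) (hw : Rat F₀ w) (huu : h u u = 0) (hww : h w w = 0)
    (hwu : h w u = 0) (hi : LinearIndependent K ![u, w]) {c : K} (hS : S q u w c ∈ MS M) :
    c ∈ KS q F₀ M := by
  intro u' w' hu' hw' huu' hww' hwu' hi'
  obtain ⟨A, hA, hP, hd, hAu, hAw⟩ :=
    TRANSF.exists2 hn D F₀ hθ hu hw hu' hw' huu hww hwu huu' hww' hwu' hi hi'
  have hAM : A ∈ MS M := hRat A hA hP hd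
  have := MS_conj_S D hMG hAM hS
  rwa [hAu, hAw] at this

end Cfsg.Agent.S5658P
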