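import Mathlib
import Cfsg.Agent.Helper28.S5658.Defs
import Cfsg.Agent.Helper28.S5658.Lib
import Cfsg.Agent.Helper23.S5658AUX
import Cfsg.Agent.Helper23.S5658KONE
import Cfsg.Agent.Helper22.S5658HYPB
import Cfsg.Agent.Helper24.S5658HYPB2

/-! S5658 piece KLONG (driver helper28; helper23): `KT ⊆ KS`; `a σ(a) c ∈ KT`. -/

set_option autoImplicit false

namespace Cfsg.Agent.S5658P

open Matrix
open Cfsg.Agent.S2644 Cfsg.Agent.Helper2.SUGen Cfsg.Agent.Helper28.SimMax Cfsg.Agent.S5639P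

variable {K : Type*} [Field K] {q n : ℕ}

local notation "h" => Cfsg.hermForm n K q
local notation "T" => Cfsg.unitaryTransvection n q

theorem KLONG.KT_subset_KS (D : Frob K q) (F₀ : Subfield K)
    (M : Subgroup (Matrix.GeneralLinearGroup (Fin n) K)) : KT D F₀ M ⊆ KS q F₀ M := by
  intro c hc u w hu hw huu hww hwu _
  obtain ⟨hcs, hT⟩ := hc
  have huw : h u w = 0 := h_symm_zero D hwu
  have hsum : h (u + w) (u + w) = 0 := by
    rw [h_add_left, h_add_right D, h_add_right D, huu, hww, hwu, huw]; ring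
  have h1 : T (u + w) c ∈ MS M := hT _ (Cfsg.Agent.S5639P.Rat.add hu hw) hsum
  rw [T_add_vec D huu hww hwu hcs] at h1
  have h2 : S q u w c * T u c ∈ MS M := MS_of_mul_right (hT w hw hww) h1
  exact MS_of_mul_right (hT u hu huu) h2

theorem KLONG.norm_mul_mem [Finite K] (hn : 13 ≤ n) (D : Frob K q) (F₀ : Subfield K)
    (hθ : ∃ θ ∈ F₀, D.σ θ ≠ θ) (M : Subgroup (Matrix.GeneralLinearGroup (Fin n) K))
    (hMG : M ≤ Cfsg.GU n K q ⊓ Cfsg.Geo.specialLinear (Fin n) K) (hRat : HasRatSU q F₀ M)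
    {a c : K} (ha : a ∈ KS q F₀ M) (hac : a * c ∈ KS q F₀ M) (hc : c ∈ KT D F₀ M) :
    a * D.σ a * c ∈ KT D F₀ M := by
  obtain ⟨u, w, hu, hw, huu, hww, hwu, hi⟩ := HYPB2.exists_pair (q := q) (n := n) hn D F₀ hθ
  obtain ⟨e, f, H, -, -⟩ := HYPB.exists_frame_of_pair hn D F₀ hθ hu hw huu hww hwu hi
  have h01 : (0 : Fin 3) ≠ 1 := by decide
  have h10 : (1 : Fin 3) ≠ 0 := by decide
  obtain ⟨hcs, hT⟩ := hc
  -- g = S (e 0) (f 1) (-σ a)
  have hg : S q (e 0) (f 1) (-(D.σ a)) ∈ MS M :=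
    (H23AUX.KS_swap D ha) _ _ (H.rat_e 0) (H.rat_f 1) (H.ee 0 0) (H.ff 1 1)
      (by rw [H.fe D, if_neg h10]) (H.li_ef D 0 1)
  have hT1 : T (e 1) c ∈ MS M := hT _ (H.rat_e 1) (H.ee 1 1)
  have h1 := MS_conj_T D hMG hg hT1
  have h2 : S q (e 0) (f 1) (-(D.σ a)) *ᵥ e 1 = e 1 + a • e 0 := by
    rw [S_mulVec D, H.ee, H.ef, if_pos rfl, mul_zero, mul_one, zero_smul, add_zero, map_neg,
      D.invol, neg_smul, sub_neg_eq_add]
  rw [h2] at h1
  have h3 : h (a • e 0) (a • e 0) = 0 := by rw [h_smul_left, h_smul_right D, H.ee]; ring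
  have h4 : h (a • e 0) (e 1) = 0 := by rw [h_smul_left, H.ee, mul_zero]
  rw [T_add_vec D (H.ee 1 1) h3 h4 hcs, S_smul_right D, T_smul D] at h1
  have h5 : S q (e 1) (e 0) (a * c) ∈ MS M :=
    hac _ _ (H.rat_e 1) (H.rat_e 0) (H.ee 1 1) (H.ee 0 0) (H.ee 0 1) (H.li_ee h10)
  have h6 : T (e 0) (a * D.σ a * c) ∈ MS M := MS_of_mul_left (MS_mul h5 hT1) h1
  have h7 : D.σ (a * D.σ a * c) = -(a * D.σ a * c) := by
    rw [map_mul, map_mul, D.invol, hcs]; ring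
  exact KONE.KT_of_one hn D F₀ hθ M hMG hRat (H.rat_e 0) (H.e_ne_zero 0) (H.ee 0 0) h7 h6

end Cfsg.Agent.S5658P
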