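import Mathlib
import Cfsg.Agent.Helper28.S5658.Defs
import Cfsg.Agent.Helper28.S5658.Lib
import Cfsg.Agent.Helper23.S5658KLONG

/-! S5658 piece TOPKT (driver helper28; helper23): `KS = univ` ⇒ every skew element is in `KT`. -/

set_option autoImplicit false

namespace Cfsg.Agent.S5658P

open Matrix
open Cfsg.Agent.S2644 Cfsg.Agent.Helper2.SUGen Cfsg.Agent.Helper28.SimMax Cfsg.Agent.S5639P

variable {K : Type*} [Field K] {q n : ℕ}

local notation "h" => Cfsg.hermForm n K q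
local notation "T" => Cfsg.unitaryTransvection n q

theorem TOPKT.skew_mem [Finite K] (hn : 13 ≤ n) (D : Frob K q) (F₀ : Subfield K)
    (hθ : ∃ θ ∈ F₀, D.σ θ ≠ θ) (M : Subgroup (Matrix.GeneralLinearGroup (Fin n) K))
    (hMG : M ≤ Cfsg.GU n K q ⊓ Cfsg.Geo.specialLinear (Fin n) K) (hRat : HasRatSU q F₀ M)
    (hKS : KS q F₀ M = Set.univ) {c : K} (hc : D.σ c = -c) : c ∈ KT D F₀ M := by
  obtain ⟨s, hs, hs0, hss⟩ := exists_rat_skew D F₀ hθ
  have hsKT : s ∈ KT D F₀ M :=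
    ⟨hss, fun u hu huu => T_mem_of_hasRatSU D hRat hu huu hs hss⟩
  by_cases hc0 : c = 0
  · refine ⟨hc, fun u _ _ => ?_⟩
    rw [hc0, T_zero]
    exact one_mem_MS M
  · have hd0 : c * s⁻¹ ≠ 0 := mul_ne_zero hc0 (inv_ne_zero hs0)
    have hdfix : D.σ (c * s⁻¹) = c * s⁻¹ := by
      rw [map_mul, map_inv₀, hc, hss, inv_neg, neg_mul_neg]
    obtain ⟨a, ha⟩ := exists_norm D (c * s⁻¹) hd0 hdfix
    have hmem : ∀ x : K, x ∈ KS q F₀ M := fun x => by rw [hKS]; exact Set.mem_univ x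
    have := KLONG.norm_mul_mem hn D F₀ hθ M hMG hRat (hmem a) (hmem (a * s)) hsKT
    rwa [ha, mul_assoc, inv_mul_cancel₀ hs0, mul_one] at this

end Cfsg.Agent.S5658P
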