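import Cfsg.Agent.Helper29.S5677.Defs
import Cfsg.Agent.Helper11.S5677UPERP
import Cfsg.Agent.Helper24.S5677GEOB

set_option autoImplicit false
set_option linter.unusedSectionVars false
set_option linter.unusedVariables false

/-! # S5677 piece OB3 (driver helper29; helper23): `k = 3`: an orthogonal basis `z, a, a'` of `D c` through a
nonsingular `z` -/

namespace Cfsg.Agent.S5677P

open Matrix Cfsg.Agent.Helper28.Sg Cfsg.Agent.Helper28.Spin Cfsg.Agent.Helper12.OrthGen
  Cfsg.Agent.S2614 Cfsg.Agent.S5683P Cfsg.Agent.Helper28.NDM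

variable {F : Type*} [Field F] {m t k : ℕ} {D : Fin t → Submodule F (Idx m → F)}
  {M : Subgroup (OG m F)}

namespace OB3

/-- a subspace of positive dimension has a non-zero vector -/
theorem exists_ne_zero {U : Submodule F (Idx m → F)} (h : 1 ≤ Module.finrank F U) :
    ∃ x ∈ U, x ≠ 0 := by
  have hne : U ≠ ⊥ := by
    intro hb
    rw [hb, finrank_bot] at h
    omega
  exact Submodule.exists_mem_ne_zero_of_ne_bot hne

/-- pairing a combination of three pairwise orthogonal vectors with the first one -/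
theorem B_first {z a a' : Idx m → F} (hza : B (QfOdd m F) z a = 0)
    (hza' : B (QfOdd m F) z a' = 0) (l μ ν : F) :
    B (QfOdd m F) z (l • z + μ • a + ν • a') = l * (2 * QfOdd m F z) := by
  have h1 : B (QfOdd m F) z z = 2 * QfOdd m F z := B_self (QfOdd m F) z
  simp only [B] at hza hza' h1 ⊢
  rw [QuadraticMap.polar_add_right, QuadraticMap.polar_add_right, QuadraticMap.polar_smul_right,
    QuadraticMap.polar_smul_right, QuadraticMap.polar_smul_right, hza, hza', h1]
  simp

/-- three pairwise orthogonal nonsingular vectors are linearly independent -/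
theorem li_three (h2 : (2 : F) ≠ 0) {z a a' : Idx m → F} (hQz : QfOdd m F z ≠ 0)
    (hQa : QfOdd m F a ≠ 0) (hQa' : QfOdd m F a' ≠ 0) (hza : B (QfOdd m F) z a = 0)
    (hza' : B (QfOdd m F) z a' = 0) (haa' : B (QfOdd m F) a a' = 0) :
    LinearIndependent F ![z, a, a'] := by
  have haz : B (QfOdd m F) a z = 0 := by rw [B_comm]; exact hza
  have ha'z : B (QfOdd m F) a' z = 0 := by rw [B_comm]; exact hza'
  have ha'a : B (QfOdd m F) a' a = 0 := by rw [B_comm]; exact haa'
  rw [Fintype.linearIndependent_iff]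
  intro g hg
  rw [Fin.sum_univ_three] at hg
  simp only [Matrix.cons_val_zero, Matrix.cons_val_one, Matrix.cons_val_two, Matrix.head_cons,
    Matrix.tail_cons] at hg
  have e0 : g 0 = 0 := by
    have := B_first hza hza' (g 0) (g 1) (g 2)
    rw [hg] at this
    simp only [B, QuadraticMap.polar_zero_right] at this
    exact (mul_eq_zero.mp this.symm).resolve_right (mul_ne_zero h2 hQz)
  have e1 : g 1 = 0 := by
    have hg' : g 1 • a + g 0 • z + g 2 • a' = 0 := by rw [← hg]; abel
    have := B_first haz haa' (g 1) (g 0) (g 2)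
    rw [hg'] at this
    simp only [B, QuadraticMap.polar_zero_right] at this
    exact (mul_eq_zero.mp this.symm).resolve_right (mul_ne_zero h2 hQa)
  have e2 : g 2 = 0 := by
    have hg' : g 2 • a' + g 0 • z + g 1 • a = 0 := by rw [← hg]; abel
    have := B_first ha'z ha'a (g 2) (g 0) (g 1)
    rw [hg'] at this
    simp only [B, QuadraticMap.polar_zero_right] at this
    exact (mul_eq_zero.mp this.symm).resolve_right (mul_ne_zero h2 hQa')
  intro i
  fin_cases i
  · exact e0
  · exact e1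
  · exact e2

end OB3

/-- `k = 3`: an orthogonal basis `z, a, a'` of `D c` through a nonsingular `z` -/
theorem OB3.exists [Fintype F] (h2 : (2 : F) ≠ 0) (hD : HD k D) (hk : k = 3) {c : Fin t}
    {z : Idx m → F} (hz : z ∈ D c) (hQz : QfOdd m F z ≠ 0) :
    ∃ a a' : Idx m → F, a ∈ D c ∧ a' ∈ D c ∧ QfOdd m F a ≠ 0 ∧ QfOdd m F a' ≠ 0 ∧
      B (QfOdd m F) z a = 0 ∧ B (QfOdd m F) z a' = 0 ∧ B (QfOdd m F) a a' = 0 ∧
      ∀ x ∈ D c, B (QfOdd m F) z x = 0 → ∃ α β : F, x = α • a + β • a' := by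
  have hN : NDon (QfOdd m F) (D c) := hD.nd c
  have hr : Module.finrank F (D c) = 3 := by rw [hD.rank c, hk]
  -- the perpendicular of `z`
  have hU : NDon (QfOdd m F) (perpIn (QfOdd m F) (D c) {z}) := UPERP.ndon h2 (D c) hN hz hQz
  have hUr : Module.finrank F (D c) ≤ Module.finrank F (perpIn (QfOdd m F) (D c) {z}) + 1 :=
    UPERP.finrank h2 (D c) z
  rw [hr] at hUr
  have hU1 : 1 ≤ Module.finrank F (perpIn (QfOdd m F) (D c) {z}) := by omega
  obtain ⟨x0, hx0U, hx00⟩ := OB3.exists_ne_zero (U := perpIn (QfOdd m F) (D c) {z}) hU1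
  obtain ⟨a, haU, hQa⟩ := GEOB.exists_nonsing h2 _ hU hx0U hx00
  -- the perpendicular of `a` in it
  have hU' : NDon (QfOdd m F) (perpIn (QfOdd m F) (perpIn (QfOdd m F) (D c) {z}) {a}) :=
    UPERP.ndon h2 _ hU haU hQa
  have hUr' : Module.finrank F (perpIn (QfOdd m F) (D c) {z}) ≤
      Module.finrank F (perpIn (QfOdd m F) (perpIn (QfOdd m F) (D c) {z}) {a}) + 1 :=
    UPERP.finrank h2 (perpIn (QfOdd m F) (D c) {z}) a
  have hU2 : 1 ≤ Module.finrank F (perpIn (QfOdd m F) (perpIn (QfOdd m F) (D c) {z}) {a}) := by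
    omega
  obtain ⟨x1, hx1U, hx10⟩ := OB3.exists_ne_zero
    (U := perpIn (QfOdd m F) (perpIn (QfOdd m F) (D c) {z}) {a}) hU2
  obtain ⟨a', ha'U, hQa'⟩ := GEOB.exists_nonsing h2 _ hU' hx1U hx10
  obtain ⟨haN, hza⟩ := (UPERP.mem_perpIn_singleton (D c) z a).mp haU
  obtain ⟨ha'U1, haa'⟩ := (UPERP.mem_perpIn_singleton _ a a').mp ha'U
  obtain ⟨ha'N, hza'⟩ := (UPERP.mem_perpIn_singleton (D c) z a').mp ha'U1
  refine ⟨a, a', haN, ha'N, hQa, hQa', hza, hza', haa', ?_⟩
  -- the three vectors span the block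
  have hli := OB3.li_three h2 hQz hQa hQa' hza hza' haa'
  have hfr : Module.finrank F (Submodule.span F (Set.range ![z, a, a'])) = 3 := by
    rw [finrank_span_eq_card hli, Fintype.card_fin]
  have hle : Submodule.span F (Set.range ![z, a, a']) ≤ D c := by
    rw [Submodule.span_le]
    rintro _ ⟨i, rfl⟩
    fin_cases i
    · exact hz
    · exact haN
    · exact ha'N
  have heq : Submodule.span F (Set.range ![z, a, a']) = D c :=
    Submodule.eq_of_le_of_finrank_eq hle (by rw [hfr, hr])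
  intro x hx hzx
  rw [← heq, Submodule.mem_span_range_iff_exists_fun] at hx
  obtain ⟨g, hg⟩ := hx
  rw [Fin.sum_univ_three] at hg
  simp only [Matrix.cons_val_zero, Matrix.cons_val_one, Matrix.cons_val_two, Matrix.head_cons,
    Matrix.tail_cons] at hg
  have e0 : g 0 = 0 := by
    have := OB3.B_first hza hza' (g 0) (g 1) (g 2)
    rw [hg, hzx] at this
    exact (mul_eq_zero.mp this.symm).resolve_right (mul_ne_zero h2 hQz)
  refine ⟨g 1, g 2, ?_⟩
  rw [← hg, e0, zero_smul, zero_add]

end Cfsg.Agent.S5677P
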