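import Cfsg.Agent.Helper29.S5677.Defs

set_option autoImplicit false
set_option linter.unusedSectionVars false
set_option linter.unusedVariables false

/-! # S5677 piece ROTEIG (driver helper29; helper23): the plane rotation `r_a r_b` has no fixed vector in the
plane, and its eigenvectors there are singular -/

namespace Cfsg.Agent.S5677P

open Matrix Cfsg.Agent.Helper28.Sg Cfsg.Agent.Helper28.Spin Cfsg.Agent.Helper12.OrthGen
  Cfsg.Agent.S2614 Cfsg.Agent.S5683P Cfsg.Agent.Helper28.NDM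

variable {F : Type*} [Field F] {m t k : ℕ} {D : Fin t → Submodule F (Idx m → F)}
  {M : Subgroup (OG m F)}

namespace ROTEIG

theorem refl_mulVec' (v : Idx m → F) (hv : QfOdd m F v ≠ 0) (x : Idx m → F) :
    mt (QfOdd m F) (reflO (QfOdd m F) v hv) *ᵥ x
      = x - ((QfOdd m F v)⁻¹ * B (QfOdd m F) v x) • v := by
  show Cfsg.reflectionMatrix ⇑(QfOdd m F) v *ᵥ x = _
  rw [Cfsg.Agent.Helper28.Spin.refl_mulVec]

/-- `B(a, α a + β a') = 2 α Q(a)` -/
theorem B_a {a a' : Idx m → F} (haa' : B (QfOdd m F) a a' = 0) (α β : F) :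
    B (QfOdd m F) a (α • a + β • a') = α * (2 * QfOdd m F a) := by
  have h1 : B (QfOdd m F) a a = 2 * QfOdd m F a := B_self (QfOdd m F) a
  simp only [B] at haa' h1 ⊢
  rw [QuadraticMap.polar_add_right, QuadraticMap.polar_smul_right, QuadraticMap.polar_smul_right,
    haa', h1]
  simp

/-- `B(a', α a + β a') = 2 β Q(a')` -/
theorem B_a' {a a' : Idx m → F} (haa' : B (QfOdd m F) a a' = 0) (α β : F) :
    B (QfOdd m F) a' (α • a + β • a') = β * (2 * QfOdd m F a') := by
  have h1 : B (QfOdd m F) a' a' = 2 * QfOdd m F a' := B_self (QfOdd m F) a'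
  have h2 : B (QfOdd m F) a' a = 0 := by rw [B_comm]; exact haa'
  simp only [B] at h2 h1 ⊢
  rw [QuadraticMap.polar_add_right, QuadraticMap.polar_smul_right, QuadraticMap.polar_smul_right,
    h2, h1]
  simp

/-- the reflection in `a` on the plane -/
theorem refl_a {a a' : Idx m → F} (hQa : QfOdd m F a ≠ 0) (haa' : B (QfOdd m F) a a' = 0)
    (α β : F) :
    mt (QfOdd m F) (reflO (QfOdd m F) a hQa) *ᵥ (α • a + β • a') = (-α) • a + β • a' := by
  rw [refl_mulVec', B_a haa']
  have e : (QfOdd m F a)⁻¹ * (α * (2 * QfOdd m F a)) = 2 * α := by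
    field_simp
  rw [e]
  module

/-- the coefficient `s = B(b, x) / Q(a)` -/
noncomputable def sc (a a' : Idx m → F) (p q α β : F) : F :=
  (QfOdd m F a)⁻¹ * (p * (α * (2 * QfOdd m F a)) + q * (β * (2 * QfOdd m F a')))

/-- the reflection in `b = p a + q a'` on the plane -/
theorem refl_b {a a' b : Idx m → F} {p q : F} (haa' : B (QfOdd m F) a a' = 0)
    (hb : b = p • a + q • a') (hQb : QfOdd m F b ≠ 0) (hQab : QfOdd m F b = QfOdd m F a)
    (α β : F) :
    mt (QfOdd m F) (reflO (QfOdd m F) b hQb) *ᵥ (α • a + β • a')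
      = (α - sc a a' p q α β * p) • a + (β - sc a a' p q α β * q) • a' := by
  rw [refl_mulVec', hQab]
  have e : B (QfOdd m F) b (α • a + β • a')
      = p * (α * (2 * QfOdd m F a)) + q * (β * (2 * QfOdd m F a')) := by
    have h1 := B_a haa' α β
    have h2 := B_a' haa' α β
    simp only [B] at h1 h2 ⊢
    rw [hb, QuadraticMap.polar_add_left, QuadraticMap.polar_smul_left,
      QuadraticMap.polar_smul_left, h1, h2]
    simp
  rw [e]
  conv_lhs => rw [hb]
  unfold sc
  module

/-- the rotation on the plane -/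
theorem rot {a a' b : Idx m → F} {p q : F} (hQa : QfOdd m F a ≠ 0)
    (haa' : B (QfOdd m F) a a' = 0)
    (hb : b = p • a + q • a') (hQb : QfOdd m F b ≠ 0) (hQab : QfOdd m F b = QfOdd m F a)
    (α β : F) :
    mt (QfOdd m F) (reflO (QfOdd m F) a hQa * reflO (QfOdd m F) b hQb) *ᵥ (α • a + β • a')
      = (-(α - sc a a' p q α β * p)) • a + (β - sc a a' p q α β * q) • a' := by
  rw [mt_mul_mulVec, refl_b haa' hb hQb hQab, refl_a hQa haa']

/-- the coefficients of a vector of the plane are determined -/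
theorem coeff_eq (h2 : (2 : F) ≠ 0) {a a' : Idx m → F} (hQa : QfOdd m F a ≠ 0)
    (hQa' : QfOdd m F a' ≠ 0) (haa' : B (QfOdd m F) a a' = 0) {α β α' β' : F}
    (h : α • a + β • a' = α' • a + β' • a') : α = α' ∧ β = β' := by
  have h1 := congrArg (fun y => B (QfOdd m F) a y) h
  have h3 := congrArg (fun y => B (QfOdd m F) a' y) h
  simp only [B_a haa', B_a' haa'] at h1 h3
  constructor
  · exact mul_right_cancel₀ (mul_ne_zero h2 hQa) h1
  · exact mul_right_cancel₀ (mul_ne_zero h2 hQa') h3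

/-- the eigenvalue equations -/
theorem eig_eqs (h2 : (2 : F) ≠ 0) {a a' b x : Idx m → F} {p q : F}
    (hQa : QfOdd m F a ≠ 0) (hQa' : QfOdd m F a' ≠ 0) (haa' : B (QfOdd m F) a a' = 0)
    (hb : b = p • a + q • a') (hQb : QfOdd m F b ≠ 0)
    (hQab : QfOdd m F b = QfOdd m F a) {α β : F} (hx : x = α • a + β • a') {l : F}
    (heig : mt (QfOdd m F) (reflO (QfOdd m F) a hQa * reflO (QfOdd m F) b hQb) *ᵥ x = l • x) :
    -(α - sc a a' p q α β * p) = l * α ∧ β - sc a a' p q α β * q = l * β := by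
  rw [hx, rot hQa haa' hb hQb hQab, smul_add, smul_smul, smul_smul] at heig
  exact coeff_eq h2 hQa hQa' haa' heig

/-- `s = 0`, `α = 0` force `β = 0` -/
theorem beta_zero (h2 : (2 : F) ≠ 0) {a a' : Idx m → F} {p q α β : F}
    (hQa : QfOdd m F a ≠ 0) (hQa' : QfOdd m F a' ≠ 0) (hq : q ≠ 0) (hα : α = 0)
    (hs : sc a a' p q α β = 0) : β = 0 := by
  unfold sc at hs
  rw [hα] at hs
  have h1 : q * (β * (2 * QfOdd m F a')) = 0 := by
    rcases mul_eq_zero.mp hs with h | h
    · exact absurd h (inv_ne_zero hQa)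
    · simpa using h
  rcases mul_eq_zero.mp h1 with h | h
  · exact absurd h hq
  · rcases mul_eq_zero.mp h with h | h
    · exact h
    · exact absurd h (mul_ne_zero h2 hQa')

/-- `s = 0`, `β = 0` force `α = 0` -/
theorem alpha_zero (h2 : (2 : F) ≠ 0) {a a' : Idx m → F} {p q α β : F}
    (hQa : QfOdd m F a ≠ 0) (hp : p ≠ 0) (hβ : β = 0)
    (hs : sc a a' p q α β = 0) : α = 0 := by
  unfold sc at hs
  rw [hβ] at hs
  have h1 : p * (α * (2 * QfOdd m F a)) = 0 := by
    rcases mul_eq_zero.mp hs with h | h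
    · exact absurd h (inv_ne_zero hQa)
    · simpa using h
  rcases mul_eq_zero.mp h1 with h | h
  · exact absurd h hp
  · rcases mul_eq_zero.mp h with h | h
    · exact h
    · exact absurd h (mul_ne_zero h2 hQa)

end ROTEIG

/-- the rotation `r_a r_b` of the plane `⟨a, a'⟩` (`a ⊥ a'` nonsingular, `b = p a + q a'`,
`p q ≠ 0`, `Q b = Q a`) has no non-zero fixed vector in the plane -/
theorem ROTEIG.fix (h2 : (2 : F) ≠ 0) {a a' b x : Idx m → F} {p q : F}
    (hQa : QfOdd m F a ≠ 0) (hQa' : QfOdd m F a' ≠ 0) (haa' : B (QfOdd m F) a a' = 0)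
    (hb : b = p • a + q • a') (hp : p ≠ 0) (hq : q ≠ 0) (hQb : QfOdd m F b ≠ 0)
    (hQab : QfOdd m F b = QfOdd m F a) {α β : F} (hx : x = α • a + β • a')
    (hfix : mt (QfOdd m F) (reflO (QfOdd m F) a hQa * reflO (QfOdd m F) b hQb) *ᵥ x = x) :
    x = 0 := by
  have heig : mt (QfOdd m F) (reflO (QfOdd m F) a hQa * reflO (QfOdd m F) b hQb) *ᵥ x
      = (1 : F) • x := by rw [one_smul]; exact hfix
  obtain ⟨e1, e2⟩ := ROTEIG.eig_eqs h2 hQa hQa' haa' hb hQb hQab hx heig
  rw [one_mul] at e1 e2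
  have hs : ROTEIG.sc a a' p q α β = 0 := by
    have : ROTEIG.sc a a' p q α β * q = 0 := by linear_combination -e2
    exact (mul_eq_zero.mp this).resolve_right hq
  rw [hs, zero_mul, sub_zero] at e1
  have hα : α = 0 := by
    have : 2 * α = 0 := by linear_combination -e1
    exact (mul_eq_zero.mp this).resolve_left h2
  have hβ : β = 0 := ROTEIG.beta_zero h2 hQa hQa' hq hα hs
  rw [hx, hα, hβ, zero_smul, zero_smul, add_zero]

/-- ... and its eigenvectors in the plane are singular -/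
theorem ROTEIG.eig (h2 : (2 : F) ≠ 0) {a a' b x : Idx m → F} {p q : F}
    (hQa : QfOdd m F a ≠ 0) (hQa' : QfOdd m F a' ≠ 0) (haa' : B (QfOdd m F) a a' = 0)
    (hb : b = p • a + q • a') (hp : p ≠ 0) (hq : q ≠ 0) (hQb : QfOdd m F b ≠ 0)
    (hQab : QfOdd m F b = QfOdd m F a) {α β : F} (hx : x = α • a + β • a') {l : F}
    (heig : mt (QfOdd m F) (reflO (QfOdd m F) a hQa * reflO (QfOdd m F) b hQb) *ᵥ x = l • x) :
    x = 0 ∨ QfOdd m F x = 0 := by
  by_cases hQx : QfOdd m F x = 0
  · exact Or.inr hQx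
  left
  -- `l² = 1`
  have hQ : QfOdd m F (l • x) = QfOdd m F x := by
    rw [← heig]
    exact Q_isom _ x
  rw [Q_smul] at hQ
  have hl : (l - 1) * (l + 1) = 0 := by
    have : (l * l - 1) * QfOdd m F x = 0 := by linear_combination hQ
    have := (mul_eq_zero.mp this).resolve_right hQx
    linear_combination this
  rcases mul_eq_zero.mp hl with h1 | h1
  · have hl1 : l = 1 := by linear_combination h1
    rw [hl1, one_smul] at heig
    exact ROTEIG.fix h2 hQa hQa' haa' hb hp hq hQb hQab hx heig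
  · have hl1 : l = -1 := by linear_combination h1
    obtain ⟨e1, e2⟩ := ROTEIG.eig_eqs h2 hQa hQa' haa' hb hQb hQab hx heig
    rw [hl1] at e1 e2
    have hs : ROTEIG.sc a a' p q α β = 0 := by
      have : ROTEIG.sc a a' p q α β * p = 0 := by linear_combination e1
      exact (mul_eq_zero.mp this).resolve_right hp
    rw [hs, zero_mul, sub_zero] at e2
    have hβ : β = 0 := by
      have : 2 * β = 0 := by linear_combination e2
      exact (mul_eq_zero.mp this).resolve_left h2
    have hα : α = 0 := ROTEIG.alpha_zero h2 hQa hp hβ hs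
    rw [hx, hα, hβ, zero_smul, zero_smul, add_zero]

end Cfsg.Agent.S5677P
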