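import Mathlib
import Cfsg.Prelude.Def_RootSubgroups
import Cfsg.Agent.Helper25.RootInvA
import Cfsg.Agent.Helper22.S5047Defs

/-! # S5047, piece S3FIN: from `(a u)² = b` and `(b x₀)² = u` get `x ∈ V_b` with `|a x| = 3`. -/

set_option autoImplicit false

namespace Cfsg.Agent.S5047P

open Cfsg.Agent.Helper25.RootInv

variable {G : Type*} [Group G]

/-- an element whose square is an involution has order 4 -/
theorem S3FIN_aux_order4 {y w : G} (h1 : y ^ 2 = w) (hw1 : w ≠ 1) (hww : w * w = 1) : orderOf y = 4 := by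
  have : Fact (Nat.Prime 2) := ⟨Nat.prime_two⟩
  have hnot : ¬ y ^ 2 ^ 1 = 1 := by rw [pow_one, h1]; exact hw1
  have hfin : y ^ 2 ^ (1 + 1) = 1 := by
    have : y ^ 2 ^ (1 + 1) = (y ^ 2) * (y ^ 2) := by rw [← pow_add]; norm_num
    rw [this, h1, hww]
  have := orderOf_eq_prime_pow hnot hfin
  simpa using this

/-- S3FIN: from `(a u)² = b` and `(b x₀)² = u` get `x ∈ V_b` with `|a x| = 3`. -/
theorem S3FIN {D : Set G} (hD : Cfsg.IsRootInvolutionSet D) {a b u x0 : G} (ha : a ∈ D) (hb : b ∈ D)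
    (hu : u ∈ D) (hx0 : x0 ∈ D) (hba : b * a = a * b) (hbaD : b * a ∈ D)
    (hau : (a * u) ^ 2 = b) (hbx : (b * x0) ^ 2 = u) :
    ∃ x ∈ Cfsg.fourPartners D b, orderOf (a * x) = 3 := by
  have haa := sq_one hD ha
  have hbb := sq_one hD hb
  have huu := sq_one hD hu
  have hxx := sq_one hD hx0
  have ainv := inv_eq hD ha
  have binv := inv_eq hD hb
  have uinv := inv_eq hD hu
  have xinv := inv_eq hD hx0
  have hb1 := ne_one hD hb
  have hu1 := ne_one hD hu
  -- relations
  have haua : a * u * a = b * u := by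
    have h := hau
    rw [pow_two] at h
    calc a * u * a = (a * u * (a * u)) * u⁻¹ := by group
      _ = b * u⁻¹ := by rw [h]
      _ = b * u := by rw [uinv]
  have hbau : b * (a * u) = (a * u) * b := by rw [← hau]; exact (Commute.pow_self (a * u) 2).eq
  have hbu : b * u = u * b := by
    have h := hbau
    rw [← mul_assoc, hba, mul_assoc, mul_assoc] at h
    exact mul_left_cancel h
  have hxbx : x0 * b * x0 = b * u := by
    have h := hbx
    rw [pow_two] at h
    calc x0 * b * x0 = b⁻¹ * (b * x0 * (b * x0)) := by group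
      _ = b⁻¹ * u := by rw [h]
      _ = b * u := by rw [binv]
  have hubx : u * (b * x0) = (b * x0) * u := by rw [← hbx]; exact (Commute.pow_self (b * x0) 2).eq
  have hux : u * x0 = x0 * u := by
    have h := hubx
    rw [← mul_assoc, ← hbu, mul_assoc, mul_assoc] at h
    exact mul_left_cancel h
  have hbne : b ≠ u := by
    intro h
    have h1 := hau
    rw [← h, pow_two] at h1
    have h2 : a * b * (a * b) = 1 := by
      calc a * b * (a * b) = a * (b * a) * b := by group
        _ = a * (a * b) * b := by rw [hba]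
        _ = (a * a) * (b * b) := by group
        _ = 1 := by rw [haa, hbb, one_mul]
    rw [h2] at h1
    exact hb1 h1.symm
  have hbbu : b ≠ b * u := by
    intro h
    apply hu1
    have : b * 1 = b * u := by rw [mul_one]; exact h
    exact (mul_left_cancel this).symm
  have hubu : u ≠ b * u := by
    intro h
    apply hb1
    have : 1 * u = b * u := by rw [one_mul]; exact h
    exact (mul_right_cancel this).symm
  -- the rotation `ρ = a x₀`
  obtain ⟨ρ, hρ⟩ : ∃ ρ : G, ρ = a * x0 := ⟨_, rfl⟩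
  have hρinv : ρ⁻¹ = x0 * a := by rw [hρ, mul_inv_rev, ainv, xinv]
  have hρb : ρ * b * ρ⁻¹ = u := by
    rw [hρinv, hρ]
    calc a * x0 * b * (x0 * a) = a * (x0 * b * x0) * a := by group
      _ = a * (b * u) * a := by rw [hxbx]
      _ = (a * b) * u * a := by group
      _ = (b * a) * u * a := by rw [hba]
      _ = b * (a * u * a) := by group
      _ = b * (b * u) := by rw [haua]
      _ = (b * b) * u := by group
      _ = u := by rw [hbb, one_mul]
  have hρu : ρ * u * ρ⁻¹ = b * u := by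
    rw [hρinv, hρ]
    calc a * x0 * u * (x0 * a) = a * (x0 * u) * x0 * a := by group
      _ = a * (u * x0) * x0 * a := by rw [hux]
      _ = a * u * (x0 * x0) * a := by group
      _ = a * u * a := by rw [hxx, mul_one]
      _ = b * u := haua
  have hρbu : ρ * (b * u) * ρ⁻¹ = b := by
    calc ρ * (b * u) * ρ⁻¹ = (ρ * b * ρ⁻¹) * (ρ * u * ρ⁻¹) := by group
      _ = u * (b * u) := by rw [hρb, hρu]
      _ = (u * b) * u := by group
      _ = (b * u) * u := by rw [hbu]
      _ = b * (u * u) := by group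
      _ = b := by rw [huu, mul_one]
  have hR : ∀ i : ℕ,
      (i % 3 = 0 ∧ ρ ^ i * b * (ρ ^ i)⁻¹ = b ∧ ρ ^ i * u * (ρ ^ i)⁻¹ = u) ∨
      (i % 3 = 1 ∧ ρ ^ i * b * (ρ ^ i)⁻¹ = u ∧ ρ ^ i * u * (ρ ^ i)⁻¹ = b * u) ∨
      (i % 3 = 2 ∧ ρ ^ i * b * (ρ ^ i)⁻¹ = b * u ∧ ρ ^ i * u * (ρ ^ i)⁻¹ = b) := by
    intro i
    induction i with
    | zero => left; simp
    | succ i ih =>
      have hstep : ∀ y : G, ρ ^ (i + 1) * y * (ρ ^ (i + 1))⁻¹ = ρ * (ρ ^ i * y * (ρ ^ i)⁻¹) * ρ⁻¹ := by
        intro y; rw [pow_succ']; group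
      have hstep2 : ρ ^ (i + 1) * u * (ρ ^ (i + 1))⁻¹ = ρ * (ρ ^ i * u * (ρ ^ i)⁻¹) * ρ⁻¹ := hstep u
      rcases ih with ⟨hi, h1, h2⟩ | ⟨hi, h1, h2⟩ | ⟨hi, h1, h2⟩
      · right; left
        refine ⟨by omega, ?_, ?_⟩
        · rw [hstep, h1, hρb]
        · rw [hstep, h2, hρu]
      · right; right
        refine ⟨by omega, ?_, ?_⟩
        · rw [hstep, h1, hρu]
        · rw [hstep, h2, hρbu]
      · left
        refine ⟨by omega, ?_, ?_⟩
        · rw [hstep, h1, hρbu]
        · rw [hstep, h2, hρb]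
  -- a power of `ρ` that is trivial fixes `b`
  have hfix : ∀ i : ℕ, ρ ^ i = 1 → i % 3 = 0 := by
    intro i hi
    rcases hR i with ⟨h0, -, -⟩ | ⟨-, h1, -⟩ | ⟨-, h1, -⟩
    · exact h0
    · rw [hi, one_mul, inv_one, mul_one] at h1; exact absurd h1 hbne
    · rw [hi, one_mul, inv_one, mul_one] at h1; exact absurd h1 hbbu
  -- the order of `ρ` is odd and divisible by 3
  have hodd : Odd (orderOf ρ) := by
    rcases hD.pair a ha x0 hx0 with h | h | ⟨h, -⟩
    · exfalso
      have h2 : ρ ^ 2 = 1 := by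
        rw [pow_two, hρ]
        calc a * x0 * (a * x0) = a * (x0 * a) * x0 := by group
          _ = a * (a * x0) * x0 := by rw [h]
          _ = (a * a) * (x0 * x0) := by group
          _ = 1 := by rw [haa, hxx, one_mul]
      have := hfix 2 h2
      omega
    · rw [hρ]; exact h
    · exfalso
      have h4 : ρ ^ 4 = 1 := by rw [hρ, ← h]; exact pow_orderOf_eq_one _
      have := hfix 4 h4
      omega
  obtain ⟨n, hn⟩ : ∃ n : ℕ, n = orderOf ρ := ⟨_, rfl⟩
  rw [← hn] at hodd
  have hρn : ρ ^ n = 1 := by rw [hn]; exact pow_orderOf_eq_one _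
  have hn3 : n % 3 = 0 := hfix n hρn
  obtain ⟨k, hk⟩ : ∃ k : ℕ, n = 3 * k := ⟨n / 3, by omega⟩
  have hk0 : k ≠ 0 := by
    intro h
    rw [h, mul_zero] at hk
    rw [hk] at hodd
    exact (Nat.not_odd_iff_even.mpr (by decide)) hodd
  obtain ⟨τ, hτ⟩ : ∃ τ : G, τ = ρ ^ k := ⟨_, rfl⟩
  have hτ3 : orderOf τ = 3 := by
    rw [hτ, orderOf_pow_of_dvd hk0 (by rw [← hn, hk]; exact Dvd.intro_left 3 rfl), ← hn, hk]
    exact Nat.mul_div_cancel _ (Nat.pos_of_ne_zero hk0)
  -- `a` inverts the powers of `ρ`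
  have hinvρ : ∀ i : ℕ, a * ρ ^ i * a = (ρ ^ i)⁻¹ := by
    intro i
    have h1 : a * ρ * a⁻¹ = ρ⁻¹ := by
      rw [hρinv, ainv, hρ]
      calc a * (a * x0) * a = (a * a) * x0 * a := by group
        _ = x0 * a := by rw [haa, one_mul]
    calc a * ρ ^ i * a = a * ρ ^ i * a⁻¹ := by rw [ainv]
      _ = (a * ρ * a⁻¹) ^ i := (conj_pow).symm
      _ = (ρ⁻¹) ^ i := by rw [h1]
      _ = (ρ ^ i)⁻¹ := inv_pow _ _
  -- the reflection `x = a τ` is conjugate to `a`
  obtain ⟨x, hx⟩ : ∃ x : G, x = a * τ := ⟨_, rfl⟩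
  obtain ⟨j, hj⟩ : ∃ j : ℕ, j = k * ((n + 1) / 2) := ⟨_, rfl⟩
  have hjj : j + j = k * n + k := by
    obtain ⟨m, hm⟩ := hodd
    have h2 : (n + 1) / 2 = m + 1 := by omega
    rw [hj, h2, hm]; ring
  have hxconj : x = (ρ ^ j)⁻¹ * a * ((ρ ^ j)⁻¹)⁻¹ := by
    have h1 : (ρ ^ j)⁻¹ * a = a * ρ ^ j := by
      rw [← hinvρ j]
      calc a * ρ ^ j * a * a = a * ρ ^ j * (a * a) := by group
        _ = a * ρ ^ j := by rw [haa, mul_one]
    have h2 : ρ ^ (j + j) = ρ ^ k := by
      rw [hjj, pow_add, mul_comm k n, pow_mul, hρn, one_pow, one_mul]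
    rw [inv_inv, h1, mul_assoc, ← pow_add, h2, hx, hτ]
  have hxD : x ∈ D := by rw [hxconj]; exact hD.conj_mem a ha _
  have hax : a * x = τ := by
    rw [hx, ← mul_assoc, haa, one_mul]
  have haxo : orderOf (a * x) = 3 := by rw [hax]; exact hτ3
  have hxa : x ≠ a := by
    intro h
    have h1 : a * τ = a * 1 := by rw [mul_one, ← hx]; exact h
    have h2 : τ = 1 := mul_left_cancel h1
    rw [h2, orderOf_one] at hτ3
    omega
  have hxxx := sq_one hD hxD
  have hxinv := inv_eq hD hxD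
  -- the three cases for the action of `τ` on `b`
  have hconj : x * b * x = a * (τ * b * τ⁻¹) * a := by
    have h1 : x = x⁻¹ := hxinv.symm
    calc x * b * x = x * b * x⁻¹ := by rw [← h1]
      _ = a * (τ * b * τ⁻¹) * a⁻¹ := by rw [hx]; group
      _ = a * (τ * b * τ⁻¹) * a := by rw [ainv]
  have hsq : (b * x) ^ 2 = b * (x * b * x) := by rw [pow_two]; group
  have haba : a * b * a = b := by
    calc a * b * a = (a * b) * a := by group
      _ = (b * a) * a := by rw [hba]
      _ = b * (a * a) := by group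
      _ = b := by rw [haa, mul_one]
  rcases hR k with ⟨-, h1, -⟩ | ⟨-, h1, -⟩ | ⟨-, h1, -⟩
  · -- `τ` fixes `b`: impossible by Lemma Z
    exfalso
    rw [← hτ] at h1
    have hxb : x * b = b * x := by
      have h2 : x * b * x = b := by rw [hconj, h1, haba]
      calc x * b = (x * b * x) * x⁻¹ := by group
        _ = b * x⁻¹ := by rw [h2]
        _ = b * x := by rw [hxinv]
    exact not_commute_of_odd hD hxD hb ha hba hbaD (by rw [haxo]; decide) hxa hxb
  · rw [← hτ] at h1
    have h2 : x * b * x = b * u := by rw [hconj, h1, haua]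
    have h3 : (b * x) ^ 2 = u := by
      rw [hsq, h2, ← mul_assoc, hbb, one_mul]
    exact ⟨x, ⟨hxD, S3FIN_aux_order4 h3 hu1 huu⟩, haxo⟩
  · rw [← hτ] at h1
    have h2 : x * b * x = u := by
      rw [hconj, h1]
      calc a * (b * u) * a = (a * b) * u * a := by group
        _ = (b * a) * u * a := by rw [hba]
        _ = b * (a * u * a) := by group
        _ = b * (b * u) := by rw [haua]
        _ = (b * b) * u := by group
        _ = u := by rw [hbb, one_mul]
    have h3 : (b * x) ^ 2 = b * u := by rw [hsq, h2]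
    have h4 : b * u ≠ 1 := by
      intro h
      apply hbne
      have : b * u = b * b := by rw [h, hbb]
      exact (mul_left_cancel this).symm
    have h5 : (b * u) * (b * u) = 1 := by
      calc (b * u) * (b * u) = b * (u * b) * u := by group
        _ = b * (b * u) * u := by rw [hbu]
        _ = (b * b) * (u * u) := by group
        _ = 1 := by rw [hbb, huu, one_mul]
    exact ⟨x, ⟨hxD, S3FIN_aux_order4 h3 h4 h5⟩, haxo⟩

end Cfsg.Agent.S5047P
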