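import Cfsg.Agent.Helper28.S5700.Lib
import Cfsg.Agent.Helper2.FieldSubA
import Cfsg.Agent.Helper25.S5700DUAL
import Cfsg.Agent.Helper5.S5700EXK

set_option autoImplicit false
set_option linter.unusedSectionVars false
set_option linter.unusedVariables false

/-! # S5700 piece NONPERP (driver helper28; helper23): a singular `y ⊥_h b` with `B y a ≠ 0` for `a ∉ K b` -/

namespace Cfsg.Agent.S5700P

open Matrix Module Cfsg.Agent.Helper28.Sg Cfsg.Agent.Helper28.Spin Cfsg.Agent.Helper12.OrthGen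

variable {F : Type*} [Field F] [Fintype F] {ι : Type} [Fintype ι] [DecidableEq ι]
  {Q : QuadraticForm F (ι → F)} {J : Matrix ι ι F} {t p : F}

theorem NONPERP.exists_nonperp (U : UData Q J t p) (hQ : (QuadraticMap.polarBilin Q).Nondegenerate)
    (hn : 14 ≤ Fintype.card ι) {b a : ι → F} (hb : Q b = 0) (ha : ¬ InK J b a) :
    ∃ y : ι → F, Q y = 0 ∧ hperp Q J y b ∧ B Q y a ≠ 0 := by
  obtain ⟨x, hx1, hx2, hx3⟩ := DUAL.exists_dual U hQ ha
  have hbx : hperp Q J b x := ⟨hx1, hx2⟩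
  obtain ⟨w₁, w₂, h1, h2, h12, hbw1, hbw2⟩ := EXK.K1 hQ hn J b
  by_cases hw1 : B Q w₁ a = 0
  · by_cases hw2 : B Q w₂ a = 0
    · obtain ⟨c₁, c₂, hs⟩ := exists_singular_add h1 h2 h12 x
      refine ⟨x + c₁ • w₁ + c₂ • w₂, hs, ?_, ?_⟩
      · exact (((hbx.add_right U (hbw1.smul_right U c₁)).add_right U (hbw2.smul_right U c₂))).symm U
      · rw [B_add_left, B_add_left, B_smul_left, B_smul_left, hw1, hw2, B_comm, hx3]
        simp
    · exact ⟨w₂, h2, hbw2.symm U, hw2⟩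
  · exact ⟨w₁, h1, hbw1.symm U, hw1⟩

end Cfsg.Agent.S5700P
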