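import Mathlib
import Cfsg.Prelude.Def_Characters
import Cfsg.Agent.Helper23.AVDefs

/-!
S4560 piece O21: two orbits on (2-subsets) × points.
-/

set_option autoImplicit false

namespace Cfsg.Agent.Helper23.AV

open MulAction
open scoped Pointwise

universe u v

variable {G : Type u} [Group G] {Ω : Type v} [MulAction G Ω]

theorem o21_exists_emb4 (T : Trans4 G Ω) : Nonempty (Fin 4 ↪ Ω) := by
  have h := T.card_le
  have hfin : Finite Ω := Nat.finite_of_card_ne_zero (by omega)
  have : Fintype Ω := Fintype.ofFinite Ω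
  apply Function.Embedding.nonempty_of_card_le
  rw [Fintype.card_fin, ← Nat.card_eq_fintype_card]
  exact h

theorem o21_eq_pair [DecidableEq Ω] (s : Set.powersetCard Ω 2) :
    ∃ x y : Ω, x ≠ y ∧ (s : Finset Ω) = {x, y} :=
  Finset.card_eq_two.mp (Set.powersetCard.mem_iff.mp s.2)

theorem o21_smul_pair [DecidableEq Ω] (g : G) (x y : Ω) :
    g • ({x, y} : Finset Ω) = {g • x, g • y} := by
  rw [Finset.smul_finset_insert, Finset.smul_finset_singleton]

theorem card_orbits_21 [Finite Ω] [DecidableEq Ω] (T : Trans4 G Ω) :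
    Nat.card (orbitRel.Quotient G (Set.powersetCard Ω 2 × Ω)) = 2 := by
  classical
  refine card_orbits_eq_of_classifier
    (fun p : Set.powersetCard Ω 2 × Ω => if p.2 ∈ (p.1 : Finset Ω) then (0 : Fin 2) else 1)
    ?_ ?_ ?_
  · rintro g ⟨s, x⟩
    simp only [Prod.smul_fst, Prod.smul_snd, Set.powersetCard.coe_smul,
      Finset.smul_mem_smul_finset_iff]
  · obtain ⟨f⟩ := o21_exists_emb4 T
    have h01 : f 0 ≠ f 1 := fun h => by simpa using f.injective h
    have h02 : f 0 ≠ f 2 := fun h => by simpa using f.injective h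
    have h12 : f 1 ≠ f 2 := fun h => by simpa using f.injective h
    have hs : ({f 0, f 1} : Finset Ω) ∈ Set.powersetCard Ω 2 :=
      Set.powersetCard.mem_iff.mpr (Finset.card_pair h01)
    intro i
    fin_cases i
    · refine ⟨(⟨{f 0, f 1}, hs⟩, f 0), ?_⟩
      simp
    · refine ⟨(⟨{f 0, f 1}, hs⟩, f 2), ?_⟩
      simp [h02.symm, h12.symm]
  · rintro ⟨s, x⟩ ⟨s', x'⟩ h
    obtain ⟨a, b, hab, hs⟩ := o21_eq_pair s
    obtain ⟨a', b', hab', hs'⟩ := o21_eq_pair s'
    simp only [hs, hs'] at h
    have key : ∀ g : G, g • a = a' → g • b = b' → g • x = x' → g • (s, x) = (s', x') := by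
      intro g ha hb hx
      refine Prod.ext ?_ hx
      apply Subtype.ext
      show ((g • s : Set.powersetCard Ω 2) : Finset Ω) = s'
      rw [Set.powersetCard.coe_smul, hs, hs', o21_smul_pair, ha, hb]
    have key' : ∀ g : G, g • a = b' → g • b = a' → g • x = x' → g • (s, x) = (s', x') := by
      intro g ha hb hx
      refine Prod.ext ?_ hx
      apply Subtype.ext
      show ((g • s : Set.powersetCard Ω 2) : Finset Ω) = s'
      rw [Set.powersetCard.coe_smul, hs, hs', o21_smul_pair, ha, hb, Finset.pair_comm]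
    by_cases hx : x ∈ ({a, b} : Finset Ω)
    · have hx' : x' ∈ ({a', b'} : Finset Ω) := by
        by_contra hx'
        rw [if_pos hx, if_neg hx'] at h
        exact absurd h (by decide)
      rw [Finset.mem_insert, Finset.mem_singleton] at hx hx'
      rcases hx with rfl | rfl <;> rcases hx' with rfl | rfl
      · obtain ⟨g, h1, h2⟩ := T.t2 x b x' b' hab hab'
        exact ⟨g, key g h1 h2 h1⟩
      · obtain ⟨g, h1, h2⟩ := T.t2 x b x' a' hab hab'.symm
        exact ⟨g, key' g h1 h2 h1⟩
      · obtain ⟨g, h1, h2⟩ := T.t2 a x b' x' hab hab'.symm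
        exact ⟨g, key' g h1 h2 h2⟩
      · obtain ⟨g, h1, h2⟩ := T.t2 a x a' x' hab hab'
        exact ⟨g, key g h1 h2 h2⟩
    · have hx' : x' ∉ ({a', b'} : Finset Ω) := by
        intro hx'
        rw [if_neg hx, if_pos hx'] at h
        exact absurd h (by decide)
      rw [Finset.mem_insert, Finset.mem_singleton, not_or] at hx hx'
      obtain ⟨g, h1, h2, h3⟩ := T.t3 a b x a' b' x' hab (Ne.symm hx.1) (Ne.symm hx.2) hab'
        (Ne.symm hx'.1) (Ne.symm hx'.2)
      exact ⟨g, key g h1 h2 h3⟩

end Cfsg.Agent.Helper23.AV
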