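import Mathlib
import Cfsg.Prelude.Def_Characters
import Cfsg.Agent.Helper23.AVDefs

/-!
S4560 pieces TR, O11, X2T.
-/

set_option autoImplicit false

namespace Cfsg.Agent.Helper23.AV

open MulAction

universe u v

variable {G : Type u} [Group G] {Ω : Type v} [MulAction G Ω]

/-- An embedding `Fin 3 ↪ Ω` from three distinct points. -/
def tr_emb3 (a b c : Ω) (hab : a ≠ b) (hac : a ≠ c) (hbc : b ≠ c) : Fin 3 ↪ Ω where
  toFun := ![a, b, c]
  inj' := by
    intro i j h
    fin_cases i <;> fin_cases j <;> simp_all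

/-- An embedding `Fin 4 ↪ Ω` from four distinct points. -/
def tr_emb4 (a b c d : Ω) (hab : a ≠ b) (hac : a ≠ c) (had : a ≠ d) (hbc : b ≠ c) (hbd : b ≠ d)
    (hcd : c ≠ d) : Fin 4 ↪ Ω where
  toFun := ![a, b, c, d]
  inj' := by
    intro i j h
    fin_cases i <;> fin_cases j <;> simp_all

theorem trans4_of_isMultiplyPretransitive [Finite Ω] (h4 : IsMultiplyPretransitive G Ω 4)
    (hΩ : 4 ≤ Nat.card Ω) : Trans4 G Ω := by
  have h3 : IsMultiplyPretransitive G Ω 3 :=
    isMultiplyPretransitive_of_le (n := 4) (by norm_num) hΩ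
  have h2 : IsMultiplyPretransitive G Ω 2 :=
    isMultiplyPretransitive_of_le (n := 4) (by norm_num) hΩ
  have h1 : IsPretransitive G Ω := isPretransitive_of_is_two_pretransitive
  refine ⟨hΩ, fun a a' => exists_smul_eq G a a', ?_, ?_, ?_⟩
  · intro a b a' b' hab hab'
    exact is_two_pretransitive_iff.mp h2 hab hab'
  · intro a b c a' b' c' hab hac hbc hab' hac' hbc'
    obtain ⟨g, hg⟩ := h3.exists_smul_eq (tr_emb3 a b c hab hac hbc) (tr_emb3 a' b' c' hab' hac' hbc')
    refine ⟨g, ?_, ?_, ?_⟩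
    · exact DFunLike.congr_fun hg 0
    · exact DFunLike.congr_fun hg 1
    · exact DFunLike.congr_fun hg 2
  · intro a b c d a' b' c' d' hab hac had hbc hbd hcd hab' hac' had' hbc' hbd' hcd'
    obtain ⟨g, hg⟩ := h4.exists_smul_eq (tr_emb4 a b c d hab hac had hbc hbd hcd)
      (tr_emb4 a' b' c' d' hab' hac' had' hbc' hbd' hcd')
    refine ⟨g, ?_, ?_, ?_, ?_⟩
    · exact DFunLike.congr_fun hg 0
    · exact DFunLike.congr_fun hg 1
    · exact DFunLike.congr_fun hg 2
    · exact DFunLike.congr_fun hg 3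

theorem trans4_two_pretransitive (T : Trans4 G Ω) : IsMultiplyPretransitive G Ω 2 := by
  rw [is_two_pretransitive_iff]
  intro a b c d hab hcd
  exact T.t2 a b c d hab hcd

theorem isPretransitive_X2 [DecidableEq Ω] (T : Trans4 G Ω) :
    IsPretransitive G (Set.powersetCard Ω 2) :=
  Set.powersetCard.isPretransitive_of_isMultiplyPretransitive G (trans4_two_pretransitive T)

theorem isPretransitive_X3 (T : Trans4 G Ω) : IsPretransitive G (Fin 2 ↪ Ω) :=
  trans4_two_pretransitive T

theorem nonempty_X3 (T : Trans4 G Ω) : Nonempty (Fin 2 ↪ Ω) := by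
  have h := T.card_le
  have hfin : Finite Ω := Nat.finite_of_card_ne_zero (by omega)
  have : Fintype Ω := Fintype.ofFinite Ω
  apply Function.Embedding.nonempty_of_card_le
  rw [Fintype.card_fin, ← Nat.card_eq_fintype_card]
  omega

theorem nonempty_X2 [DecidableEq Ω] (T : Trans4 G Ω) : Nonempty (Set.powersetCard Ω 2) := by
  obtain ⟨f⟩ := nonempty_X3 (G := G) T
  refine ⟨⟨{f 0, f 1}, ?_⟩⟩
  rw [Set.powersetCard.mem_iff]
  apply Finset.card_pair
  intro h
  have := f.injective h
  simp at this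

theorem card_orbits_11 [Finite Ω] (T : Trans4 G Ω) :
    Nat.card (orbitRel.Quotient G (Ω × Ω)) = 2 := by
  have : IsPretransitive G Ω := ⟨T.t1⟩
  exact (Cfsg.Agent.Helper24.card_orbits_prod_eq_two_iff (le_trans (by norm_num) T.card_le)).mpr
    (trans4_two_pretransitive T)

end Cfsg.Agent.Helper23.AV
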