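import Mathlib
import Cfsg.Prelude.Def_Characters
import Cfsg.Agent.Helper23.AVDefs
import Cfsg.Agent.Helper23.AVTR
import Cfsg.Agent.Helper23.AVO21
import Cfsg.Agent.Helper3.AVO22
import Cfsg.Agent.Helper8.AVO31
import Cfsg.Agent.Helper8.AVO32
import Cfsg.Agent.Helper13.AVO33
import Cfsg.Agent.Helper10.AVVAL2
import Cfsg.Agent.Helper10.AVVAL3

/-!
S4560: irreducibility of `chi1`, `psi2`, `psi3` for a `4`-transitive group.
-/

set_option autoImplicit false

namespace Cfsg.Agent.Helper23.AV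

open MulAction Cfsg

universe u v

variable {G : Type u} [Group G] [Finite G] {Ω : Type v} [MulAction G Ω] [Finite Ω]

omit [Finite G] [Finite Ω] in
theorem trans4_isPretransitive (T : Trans4 G Ω) : IsPretransitive G Ω := ⟨T.t1⟩

omit [Finite G] in
theorem trans4_nonempty (T : Trans4 G Ω) : Nonempty Ω := by
  have h := T.card_le
  rw [← Finite.card_pos_iff]
  omega

omit [Finite G] [Finite Ω] in
theorem fx_one : fx G Ω 1 = (Nat.card Ω : ℂ) := by
  unfold fx
  have : fixedBy Ω (1 : G) = Set.univ := by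
    ext x; simp
  rw [this, Nat.card_coe_set_eq, Set.ncard_univ]

theorem isIrrCharacter_chi1 (T : Trans4 G Ω) : IsIrrCharacter G (chi1 G Ω) := by
  have : IsPretransitive G Ω := trans4_isPretransitive T
  have h2 : IsMultiplyPretransitive G Ω 2 := by
    rw [is_two_pretransitive_iff]
    intro a b c d hab hcd
    exact T.t2 a b c d hab hcd
  have hcard : 2 ≤ Nat.card Ω := le_trans (by norm_num) T.card_le
  exact (Cfsg.Agent.Helper24.isIrrCharacter_permChar_sub_one_iff Ω hcard).mpr h2

theorem isIrrCharacter_psi2 (T : Trans4 G Ω) : IsIrrCharacter G (psi2 G Ω) := by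
  classical
  have : Fintype G := Fintype.ofFinite G
  have : Fintype (IrrCharacter G) := Fintype.ofFinite _
  have : IsPretransitive G Ω := trans4_isPretransitive T
  have : Nonempty Ω := trans4_nonempty T
  have : IsPretransitive G (Set.powersetCard Ω 2) := isPretransitive_X2 T
  have : Nonempty (Set.powersetCard Ω 2) := nonempty_X2 T
  set p1 : G → ℂ := fun g => (Nat.card (fixedBy Ω g) : ℂ) with hp1
  set p2 : G → ℂ := fun g => (Nat.card (fixedBy (Set.powersetCard Ω 2) g) : ℂ) with hp2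
  have h1 : IsCharacter G p1 := Cfsg.Agent.Helper24.isCharacter_permChar Ω
  have h2 : IsCharacter G p2 := Cfsg.Agent.Helper24.isCharacter_permChar (Set.powersetCard Ω 2)
  have heq : ∀ g, psi2 G Ω g = p2 g - p1 g := by
    intro g
    have h := two_mul_card_fixedBy_X2 (G := G) (Ω := Ω) g
    simp only [hp1, hp2, psi2]
    unfold fx at h ⊢
    linear_combination (-1 / 2 : ℂ) * h
  have hgen : IsGeneralizedCharacter G (psi2 G Ω) := ⟨p2, p1, h2, h1, funext heq⟩
  refine Cfsg.Agent.Helper24.IsGeneralizedCharacter.isIrrCharacter_of_classInner_self hgen ?_ ?_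
  · unfold classInner
    have hterm : ∀ g : G, psi2 G Ω g * (starRingEnd ℂ) (psi2 G Ω g) =
        p2 g * p2 g - 2 * (p2 g * p1 g) + p1 g * p1 g := by
      intro g
      rw [heq g, map_sub]
      simp only [hp1, hp2, Complex.conj_natCast]
      ring
    simp_rw [hterm]
    rw [Finset.sum_add_distrib, Finset.sum_sub_distrib, ← Finset.mul_sum]
    simp only [hp1, hp2]
    rw [sum_fix_mul, sum_fix_mul, sum_fix_mul, card_orbits_22 T, card_orbits_21 T,
      card_orbits_11 T]
    have hG : (Nat.card G : ℂ) ≠ 0 := by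
      exact_mod_cast (Nat.card_pos (α := G)).ne'
    field_simp
    norm_num
  · unfold psi2
    rw [one_pow, fx_one]
    have h4 : (4 : ℝ) ≤ (Nat.card Ω : ℝ) := by exact_mod_cast T.card_le
    have : ((Nat.card Ω : ℂ) ^ 2 - 4 * (Nat.card Ω : ℂ) + (Nat.card Ω : ℂ)) / 2 =
        (((Nat.card Ω : ℝ) ^ 2 - 4 * (Nat.card Ω : ℝ) + (Nat.card Ω : ℝ)) / 2 : ℝ) := by
      push_cast; ring
    rw [this, Complex.ofReal_re]
    nlinarith

theorem isIrrCharacter_psi3 (T : Trans4 G Ω) : IsIrrCharacter G (psi3 G Ω) := by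
  classical
  have : Fintype G := Fintype.ofFinite G
  have : Fintype (IrrCharacter G) := Fintype.ofFinite _
  have : IsPretransitive G Ω := trans4_isPretransitive T
  have : Nonempty Ω := trans4_nonempty T
  have : IsPretransitive G (Set.powersetCard Ω 2) := isPretransitive_X2 T
  have : Nonempty (Set.powersetCard Ω 2) := nonempty_X2 T
  have : IsPretransitive G (Fin 2 ↪ Ω) := isPretransitive_X3 T
  have : Nonempty (Fin 2 ↪ Ω) := nonempty_X3 T
  set p1 : G → ℂ := fun g => (Nat.card (fixedBy Ω g) : ℂ) with hp1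
  set p2 : G → ℂ := fun g => (Nat.card (fixedBy (Set.powersetCard Ω 2) g) : ℂ) with hp2
  set p3 : G → ℂ := fun g => (Nat.card (fixedBy (Fin 2 ↪ Ω) g) : ℂ) with hp3
  have h1 : IsCharacter G p1 := Cfsg.Agent.Helper24.isCharacter_permChar Ω
  have h2 : IsCharacter G p2 := Cfsg.Agent.Helper24.isCharacter_permChar (Set.powersetCard Ω 2)
  have h3 : IsCharacter G p3 := Cfsg.Agent.Helper24.isCharacter_permChar (Fin 2 ↪ Ω)
  have h0 : IsCharacter G (fun _ : G => (1 : ℂ)) := Cfsg.Agent.Helper24.isCharacter_const_one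
  have heq : ∀ g, psi3 G Ω g = p3 g + 1 - (p2 g + p1 g) := by
    intro g
    have h := two_mul_card_fixedBy_X2 (G := G) (Ω := Ω) g
    have h' := card_fixedBy_X3 (G := G) (Ω := Ω) g
    simp only [hp1, hp2, hp3, psi3]
    unfold fx at h h' ⊢
    linear_combination (1 / 2 : ℂ) * h - h'
  have hgen : IsGeneralizedCharacter G (psi3 G Ω) :=
    ⟨fun g => p3 g + 1, fun g => p2 g + p1 g, Cfsg.Agent.Helper24.IsCharacter.add h3 h0, Cfsg.Agent.Helper24.IsCharacter.add h2 h1, funext heq⟩
  refine Cfsg.Agent.Helper24.IsGeneralizedCharacter.isIrrCharacter_of_classInner_self hgen ?_ ?_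
  · unfold classInner
    have hterm : ∀ g : G, psi3 G Ω g * (starRingEnd ℂ) (psi3 G Ω g) =
        p3 g * p3 g + p2 g * p2 g + p1 g * p1 g + 1 - 2 * (p3 g * p2 g) - 2 * (p3 g * p1 g)
          + 2 * p3 g + 2 * (p2 g * p1 g) - 2 * p2 g - 2 * p1 g := by
      intro g
      rw [heq g, map_sub, map_add, map_add, map_one]
      simp only [hp1, hp2, hp3, Complex.conj_natCast]
      ring
    simp_rw [hterm]
    simp only [Finset.sum_add_distrib, Finset.sum_sub_distrib, ← Finset.mul_sum]
    simp only [hp1, hp2, hp3]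
    rw [sum_fix_mul, sum_fix_mul, sum_fix_mul, sum_fix_mul, sum_fix_mul, sum_fix_mul,
      sum_fix_of_pretransitive, sum_fix_of_pretransitive, sum_fix_of_pretransitive,
      card_orbits_33 T, card_orbits_22 T, card_orbits_11 T, card_orbits_32 T, card_orbits_31 T,
      card_orbits_21 T]
    have hG : (Nat.card G : ℂ) ≠ 0 := by
      exact_mod_cast (Nat.card_pos (α := G)).ne'
    simp only [Finset.sum_const, Finset.card_univ, nsmul_eq_mul, mul_one, ← Nat.card_eq_fintype_card]
    field_simp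
    norm_num
  · unfold psi3
    rw [one_pow, fx_one]
    have h4 : (4 : ℝ) ≤ (Nat.card Ω : ℝ) := by exact_mod_cast T.card_le
    have : ((Nat.card Ω : ℂ) ^ 2 - 2 * (Nat.card Ω : ℂ) + 2 - (Nat.card Ω : ℂ)) / 2 =
        (((Nat.card Ω : ℝ) ^ 2 - 2 * (Nat.card Ω : ℝ) + 2 - (Nat.card Ω : ℝ)) / 2 : ℝ) := by
      push_cast; ring
    rw [this, Complex.ofReal_re]
    nlinarith

end Cfsg.Agent.Helper23.AV
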