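import Mathlib
import Cfsg.Prelude.Def_Blocks
import Cfsg.Prelude.Def_BlockLocal
import Cfsg.Prelude.Def_BrauerPairs
import Cfsg.Agent.Helper23.MaxConj
import Cfsg.Agent.S0959

set_option autoImplicit false
set_option linter.unusedSectionVars false
set_option linter.unusedVariables false

/-!
# Defect groups of the local blocks of a Brauer pair
-/

namespace Cfsg.Agent.Helper23.LD

open Cfsg Cfsg.Agent.Helper24 Cfsg.Agent.Helper5 Cfsg.Agent.Helper5.Loc Cfsg.Agent.Helper5.CC
open Cfsg.Agent.Helper14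
open Cfsg.Agent.Helper23.BT Cfsg.Agent.Helper23.IC Cfsg.Agent.Helper23.TM
open Cfsg.Agent.Helper23.SB
open Cfsg.Agent.Helper23.SP Cfsg.Agent.Helper23.SU Cfsg.Agent.Helper23.PP
open Cfsg.Agent.Helper23.MP Cfsg.Agent.Helper23.PC Cfsg.Agent.Helper23.BC
open Cfsg.Agent.Helper23.MC

variable {G : Type*} [Group G] [Fintype G] {M : Ideal AlgInt} {p : ℕ} [Fact p.Prime]

/-- The lower end of a chain ending in a Brauer pair is a Brauer pair. -/
theorem isBrauerPair_of_reflTransGen {a c : BrauerPairIdx G}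
    (h : Relation.ReflTransGen (NormalSubpairRel p M) a c) (hc : IsBrauerPair p M c.1 c.2) :
    IsBrauerPair p M a.1 a.2 := by
  rcases Relation.ReflTransGen.cases_head h with h1 | ⟨b, hab, -⟩
  · rw [h1]; exact hc
  · exact hab.1

/-- Pairs below a common pair on comparable subgroups are comparable. -/
theorem subpairLE_of_le_of_le (hM : IsPModular p M) {a b c : BrauerPairIdx G}
    (h1 : Relation.ReflTransGen (NormalSubpairRel p M) a c)
    (h2 : Relation.ReflTransGen (NormalSubpairRel p M) b c)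
    (hc : IsBrauerPair p M c.1 c.2) (hab : a.1 ≤ b.1) :
    Relation.ReflTransGen (NormalSubpairRel p M) a b := by
  have hb := isBrauerPair_of_reflTransGen h2 hc
  obtain ⟨f', hf', hle'⟩ := exists_subpair hM _ b.1 b.2 a.1 hb hab rfl
  have hle'' : Relation.ReflTransGen (NormalSubpairRel p M) ⟨a.1, f'⟩ b := hle'
  have := subpair_unique hM _ ⟨a.1, f'⟩ a c hc rfl rfl (hle''.trans h2) h1
  rw [← this]
  exact hle''

/-- A pair below a pair whose subgroup normalizes it is normally below. -/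
theorem isNormalSubpair_of_subpairLE (hM : IsPModular p M) {Q R : Subgroup G}
    {f : Set (IrrCharacter (Subgroup.centralizer (Q : Set G)))}
    {g : Set (IrrCharacter (Subgroup.centralizer (R : Set G)))}
    (h : SubpairLE p M Q f R g) (hRg : IsBrauerPair p M R g) (hQR : Q ≤ R)
    (hRN : R ≤ Subgroup.normalizer (Q : Set G)) : IsNormalSubpair p M Q f R g := by
  obtain ⟨f₁, hf₁, -⟩ := existsUnique_normalSubpair hM R Q g hRg hQR hRN
  have h1 : Relation.ReflTransGen (NormalSubpairRel p M) ⟨Q, f₁⟩ ⟨R, g⟩ :=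
    Relation.ReflTransGen.single hf₁
  have := subpair_unique hM _ ⟨Q, f₁⟩ ⟨Q, f⟩ ⟨R, g⟩ hRg rfl rfl h1 h
  have h2 := (Sigma.mk.inj_iff.mp this).2
  rw [← eq_of_heq h2]
  exact hf₁

omit [Fintype G] [Fact p.Prime] in
/-- `Q·C_G(Q)` acts trivially on the irreducible characters of `C_G(Q)`. -/
theorem stabilizesBlock_of_mem_sup (Q : Subgroup G)
    (f : Set (IrrCharacter (Subgroup.centralizer (Q : Set G)))) (r : G)
    (hr : r ∈ Q ⊔ Subgroup.centralizer (Q : Set G)) :
    StabilizesBlock (Subgroup.centralizer (Q : Set G)) f r := by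
  let S : Subgroup G :=
    { carrier := {r | r ∈ Subgroup.normalizer
          ((Subgroup.centralizer (Q : Set G) : Subgroup G) : Set G) ∧
        ∀ (χ : IrrCharacter (Subgroup.centralizer (Q : Set G)))
          (k k' : Subgroup.centralizer (Q : Set G)), (k' : G) = r * (k : G) * r⁻¹ →
          (χ : Subgroup.centralizer (Q : Set G) → ℂ) k' =
            (χ : Subgroup.centralizer (Q : Set G) → ℂ) k}
      one_mem' := by
        refine ⟨Subgroup.one_mem _, fun χ k k' hk => ?_⟩
        have : k' = k := Subtype.ext (by rw [hk]; group)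
        rw [this]
      mul_mem' := by
        rintro a b ⟨haN, ha⟩ ⟨hbN, hb⟩
        refine ⟨Subgroup.mul_mem _ haN hbN, fun χ k k' hk => ?_⟩
        have hmid : b * (k : G) * b⁻¹ ∈ Subgroup.centralizer (Q : Set G) :=
          (Subgroup.mem_normalizer_iff.mp hbN (k : G)).mp k.2
        have h1 := hb χ k ⟨b * (k : G) * b⁻¹, hmid⟩ rfl
        have h2 := ha χ ⟨b * (k : G) * b⁻¹, hmid⟩ k' (by
          show (k' : G) = a * (b * (k : G) * b⁻¹) * a⁻¹
          rw [hk]; group)
        rw [h2, h1]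
      inv_mem' := by
        rintro a ⟨haN, ha⟩
        refine ⟨Subgroup.inv_mem _ haN, fun χ k k' hk => ?_⟩
        have := ha χ k' k (by rw [hk]; group)
        exact this.symm }
  have hQS : Q ≤ S := by
    intro q hq
    refine ⟨le_normalizer_centralizer (Subgroup.le_normalizer (H := Q)) hq, fun χ k k' hk => ?_⟩
    have hcomm := (Subgroup.mem_centralizer_iff.mp k.2) q hq
    have : k' = k := by
      apply Subtype.ext
      rw [hk, hcomm]
      group
    rw [this]
  have hKS : Subgroup.centralizer (Q : Set G) ≤ S := by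
    intro d hd
    refine ⟨Subgroup.le_normalizer hd, fun χ k k' hk => ?_⟩
    have : k' = (⟨d, hd⟩ : Subgroup.centralizer (Q : Set G)) * k *
        (⟨d, hd⟩ : Subgroup.centralizer (Q : Set G))⁻¹ := Subtype.ext (by rw [hk]; rfl)
    rw [this]
    exact isClassFunction_irr χ _ _
  obtain ⟨hrN, hr'⟩ := (sup_le hQS hKS) hr
  exact ⟨hrN, fun χ hχ => ⟨χ, hχ, fun k k' hk => hr' χ k k' hk⟩⟩

/-- **For `(Q, f) ≤ (P, e)`, the group `C_P(Q)` lies in a defect group of `f`.** -/
theorem exists_defectGroup_ge (hM : IsPModular p M) (P Q : Subgroup G)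
    (e : Set (IrrCharacter (Subgroup.centralizer (P : Set G))))
    (f : Set (IrrCharacter (Subgroup.centralizer (Q : Set G))))
    (hPe : IsBrauerPair p M P e) (hQP : Q ≤ P) (hle : SubpairLE p M Q f P e) :
    ∃ D : Subgroup (Subgroup.centralizer (Q : Set G)), IsDefectGroup p M f D ∧
      (P ⊓ Subgroup.centralizer (Q : Set G)).subgroupOf (Subgroup.centralizer (Q : Set G)) ≤
        D := by
  classical
  have hMp := isPrime_of_isPModular hM
  have : Fintype (Subgroup.centralizer (Q : Set G)) := Fintype.ofFinite _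
  have : Fintype (IrrCharacter (Subgroup.centralizer (Q : Set G))) := Fintype.ofFinite _
  have hQf : IsBrauerPair p M Q f := isBrauerPair_of_reflTransGen (a := ⟨Q, f⟩) (c := ⟨P, e⟩)
    hle hPe
  have hf := hQf.2
  set R : Subgroup G := Q ⊔ (P ⊓ Subgroup.centralizer (Q : Set G)) with hRdef
  have hRP : R ≤ P := sup_le hQP inf_le_left
  have hQR : Q ≤ R := le_sup_left
  have hCR : P ⊓ Subgroup.centralizer (Q : Set G) ≤ R := le_sup_right
  have hRN : R ≤ Subgroup.normalizer (Q : Set G) :=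
    sup_le Subgroup.le_normalizer (inf_le_right.trans (Subgroup.centralizer_le_normalizer _))
  have : Fintype (Subgroup.centralizer (R : Set G)) := Fintype.ofFinite _
  obtain ⟨g, hg, hgle⟩ := exists_subpair hM _ P e R hPe hRP rfl
  have hRg : IsBrauerPair p M R g := ⟨hPe.1.to_le hRP, hg⟩
  have hQRle : SubpairLE p M Q f R g :=
    subpairLE_of_le_of_le hM (a := ⟨Q, f⟩) (b := ⟨R, g⟩) (c := ⟨P, e⟩) hle hgle hPe hQR
  have hns := isNormalSubpair_of_subpairLE hM hQRle hRg hQR hRN
  have hCK : Subgroup.centralizer (R : Set G) ≤ Subgroup.centralizer (Q : Set G) :=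
    Subgroup.centralizer_le hQR
  obtain ⟨ξ, hξ⟩ := IsPBlock.nonempty hMp hg
  have hlast := hns.2.2.2.2.2 ξ hξ
  have hex : ∃ k : Subgroup.centralizer (Q : Set G),
      (k : G) ∈ Subgroup.centralizer (R : Set G) ∧ ¬ MemLocalIdeal M (blockCoeff f k) := by
    by_contra hcon
    push Not at hcon
    have h1 := brauerOmega_li hMp hCK (blockCoeff f) (isClassFunction_blockCoeff f) hcon ξ
    rw [subgroupBlockCoeff_eq_ext0] at hlast
    have := li_sub hMp h1 hlast
    rw [sub_sub_cancel] at this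
    exact not_memLocalIdeal_one hMp this
  obtain ⟨k, hkR, hkne⟩ := hex
  obtain ⟨y₀, hy₀⟩ := Cfsg.Agent.S0906.result p M hM f hf
  obtain ⟨S₀⟩ : Nonempty (Sylow p (Subgroup.centralizer
    ({y₀} : Set (Subgroup.centralizer (Q : Set G))))) := inferInstance
  set D₀ : Subgroup (Subgroup.centralizer (Q : Set G)) :=
    (S₀ : Subgroup _).map (Subgroup.centralizer
      ({y₀} : Set (Subgroup.centralizer (Q : Set G)))).subtype with hD₀def
  have hD₀ : IsDefectGroup p M f D₀ := ⟨y₀, hy₀, S₀, rfl⟩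
  have hP'p : IsPGroup p ((P ⊓ Subgroup.centralizer (Q : Set G)).subgroupOf
      (Subgroup.centralizer (Q : Set G))) :=
    (hPe.1.to_le inf_le_left).comap_subtype
  have hkcent : k ∈ Subgroup.centralizer
      (((P ⊓ Subgroup.centralizer (Q : Set G)).subgroupOf
        (Subgroup.centralizer (Q : Set G)) : Subgroup _) : Set _) := by
    rw [Subgroup.mem_centralizer_iff]
    intro q' hq'
    apply Subtype.ext
    rw [Subgroup.coe_mul, Subgroup.coe_mul]
    exact (Subgroup.mem_centralizer_iff.mp hkR) (q' : G) (hCR (Subgroup.mem_subgroupOf.mp hq'))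
  obtain ⟨x, hx⟩ := (Cfsg.Agent.S0959.result p M hM f hf D₀ hD₀ _ hP'p).mp
    ⟨k, osima hMp f hf k, hkne, k, IsConj.refl k, hkcent⟩
  refine ⟨D₀.map (cj x⁻¹), isDefectGroup_map_cj hD₀ x⁻¹, ?_⟩
  have h2 := Subgroup.map_mono (f := cj x⁻¹) hx
  rw [map_cj_map_cj_inv] at h2
  exact h2

/-- **After a suitable conjugation below the maximal pair `(P, e)`, the group `C_P(Q)` is a
defect group of `f`.** -/
theorem exists_conj_defectGroup (hM : IsPModular p M) (B : Set (IrrCharacter G))
    (P Q : Subgroup G)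
    (e : Set (IrrCharacter (Subgroup.centralizer (P : Set G))))
    (f : Set (IrrCharacter (Subgroup.centralizer (Q : Set G))))
    (hmax : IsMaximalBrauerPair p M B P e) (hQP : Q ≤ P) (hle : SubpairLE p M Q f P e) :
    ∃ x : G, SubpairLE p M (Q.map (MulAut.conj x).toMonoidHom) (conjBlock Q x f) P e ∧
      IsDefectGroup p M (conjBlock Q x f)
        ((P ⊓ Subgroup.centralizer ((Q.map (MulAut.conj x).toMonoidHom : Subgroup G) : Set G)
          ).subgroupOf
          (Subgroup.centralizer ((Q.map (MulAut.conj x).toMonoidHom : Subgroup G) : Set G))) := by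
  classical
  have hMp := isPrime_of_isPModular hM
  have hPe := hmax.1.1
  have hB := hmax.1.2.1
  have : Fintype (Subgroup.centralizer (Q : Set G)) := Fintype.ofFinite _
  have : Fintype (IrrCharacter (Subgroup.centralizer (Q : Set G))) := Fintype.ofFinite _
  have hQf : IsBrauerPair p M Q f := isBrauerPair_of_reflTransGen (a := ⟨Q, f⟩) (c := ⟨P, e⟩)
    hle hPe
  have hf := hQf.2
  obtain ⟨y₀, hy₀⟩ := Cfsg.Agent.S0906.result p M hM f hf
  obtain ⟨S₀⟩ : Nonempty (Sylow p (Subgroup.centralizer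
    ({y₀} : Set (Subgroup.centralizer (Q : Set G))))) := inferInstance
  set D₀ : Subgroup (Subgroup.centralizer (Q : Set G)) :=
    (S₀ : Subgroup _).map (Subgroup.centralizer
      ({y₀} : Set (Subgroup.centralizer (Q : Set G)))).subtype with hD₀def
  have hD₀ : IsDefectGroup p M f D₀ := ⟨y₀, hy₀, S₀, rfl⟩
  set D₀G : Subgroup G := D₀.map (Subgroup.centralizer (Q : Set G)).subtype with hD₀Gdef
  have hD₀Gp : IsPGroup p D₀G := (S₀.2.map _).map _
  have hD₀GK : D₀G ≤ Subgroup.centralizer (Q : Set G) := by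
    rintro _ ⟨d, _, rfl⟩
    exact d.2
  set R₀ : Subgroup G := Q ⊔ D₀G with hR₀def
  have hR₀p : IsPGroup p R₀ := by
    rw [hR₀def, sup_comm]
    exact IsPGroup.to_sup_of_normal_right' hD₀Gp hQf.1
      (hD₀GK.trans (Subgroup.centralizer_le_normalizer _))
  have hQR₀ : Q ≤ R₀ := le_sup_left
  have hDR₀ : D₀G ≤ R₀ := le_sup_right
  have hR₀N : R₀ ≤ Subgroup.normalizer (Q : Set G) :=
    sup_le Subgroup.le_normalizer (hD₀GK.trans (Subgroup.centralizer_le_normalizer _))
  have hst : ∀ r ∈ R₀, StabilizesBlock (Subgroup.centralizer (Q : Set G)) f r := fun r hr =>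
    stabilizesBlock_of_mem_sup Q f r (sup_le_sup_left hD₀GK Q hr)
  have hyR₀ : (y₀ : G) ∈ Subgroup.centralizer (R₀ : Set G) := by
    have hle1 : R₀ ≤ Subgroup.centralizer ({(y₀ : G)} : Set G) := by
      apply sup_le
      · intro q hq
        rw [Subgroup.mem_centralizer_iff]
        intro h hh
        rw [Set.mem_singleton_iff] at hh
        subst hh
        exact ((Subgroup.mem_centralizer_iff.mp y₀.2) q hq).symm
      · rintro _ ⟨d, hd, rfl⟩
        obtain ⟨s, hs, rfl⟩ := hd
        rw [Subgroup.mem_centralizer_iff]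
        intro h hh
        rw [Set.mem_singleton_iff] at hh
        subst hh
        have h1 := s.2
        rw [Subgroup.mem_centralizer_iff] at h1
        have h2 := h1 y₀ (Set.mem_singleton y₀)
        exact congrArg Subtype.val h2
    rw [Subgroup.mem_centralizer_iff]
    intro r hr
    have := (Subgroup.mem_centralizer_iff.mp (hle1 hr)) (y₀ : G) (Set.mem_singleton _)
    exact this.symm
  have hne : ¬ MemLocalIdeal M
      (subgroupBlockCoeff (Subgroup.centralizer (Q : Set G)) f (y₀ : G)) := by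
    rw [subgroupBlockCoeff_eq_ext0, ext0_coe]
    exact hy₀.2.1
  obtain ⟨g₀, hns₀, -⟩ := exists_normalSubpair_above hM Q R₀ hQR₀ hR₀N hR₀p f hf hst
    (y₀ : G) hyR₀ hne
  have hQfB : IsBrauerPairOf p M B Q f :=
    (isBrauerPairOf_iff_of_subpairLE hM B hB ⟨Q, f⟩ ⟨P, e⟩ hle).mp hmax.1
  have hR₀B : IsBrauerPairOf p M B R₀ g₀ :=
    (isBrauerPairOf_iff_of_normalSubpair hM R₀ Q g₀ f hns₀ B hB).mpr hQfB
  obtain ⟨x, hx⟩ := exists_conj_subpairLE hM B P R₀ e g₀ hmax hR₀B
  have h1 : SubpairLE p M (Q.map (MulAut.conj x).toMonoidHom) (conjBlock Q x f)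
      (R₀.map (MulAut.conj x).toMonoidHom) (conjBlock R₀ x g₀) :=
    Relation.ReflTransGen.single (isNormalSubpair_conj x hns₀)
  have hle2 : SubpairLE p M (Q.map (MulAut.conj x).toMonoidHom) (conjBlock Q x f) P e :=
    h1.trans hx
  refine ⟨x, hle2, ?_⟩
  have : Fintype (Subgroup.centralizer
      ((Q.map (MulAut.conj x).toMonoidHom : Subgroup G) : Set G)) := Fintype.ofFinite _
  have : Fintype (IrrCharacter (Subgroup.centralizer
      ((Q.map (MulAut.conj x).toMonoidHom : Subgroup G) : Set G))) := Fintype.ofFinite _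
  have hD₂ := isDefectGroup_pullBlock (p := p) (M := M) (centralizerConjEquiv Q x) hD₀
  rw [← conjBlock_eq_pullBlock] at hD₂
  have hR₀xP : R₀.map (MulAut.conj x).toMonoidHom ≤ P :=
    fst_le_of_reflTransGen (p := p) (M := M) ⟨_, conjBlock R₀ x g₀⟩ ⟨P, e⟩ hx
  have hQxP : Q.map (MulAut.conj x).toMonoidHom ≤ P := (Subgroup.map_mono hQR₀).trans hR₀xP
  have h2 : D₀.comap (centralizerConjEquiv Q x).toMonoidHom ≤
      (P ⊓ Subgroup.centralizer ((Q.map (MulAut.conj x).toMonoidHom : Subgroup G) : Set G)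
        ).subgroupOf
        (Subgroup.centralizer ((Q.map (MulAut.conj x).toMonoidHom : Subgroup G) : Set G)) := by
    intro c' hc'
    rw [Subgroup.mem_subgroupOf]
    refine ⟨hR₀xP ?_, c'.2⟩
    rw [mem_map_conj_iff]
    apply hDR₀
    exact ⟨centralizerConjEquiv Q x c', hc', rfl⟩
  obtain ⟨D₁, hD₁, hP₂D₁⟩ := exists_defectGroup_ge hM P (Q.map (MulAut.conj x).toMonoidHom) e
    (conjBlock Q x f) hPe hQxP hle2
  have hfx : IsPBlock M (conjBlock Q x f) := isPBlock_conjBlock Q x hf
  obtain ⟨w, hw⟩ := defectGroup_conj hM (conjBlock Q x f) hfx _ D₁ hD₂ hD₁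
  have hcard : Nat.card D₁ = Nat.card (D₀.comap (centralizerConjEquiv Q x).toMonoidHom) := by
    rw [hw]
    exact Subgroup.card_map_of_injective (cj_injective w)
  have hEq : D₀.comap (centralizerConjEquiv Q x).toMonoidHom = D₁ :=
    Subgroup.eq_of_le_of_card_ge (h2.trans hP₂D₁) (le_of_eq hcard)
  have hEq2 : (P ⊓ Subgroup.centralizer
      ((Q.map (MulAut.conj x).toMonoidHom : Subgroup G) : Set G)).subgroupOf
      (Subgroup.centralizer ((Q.map (MulAut.conj x).toMonoidHom : Subgroup G) : Set G)) = D₁ :=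
    le_antisymm hP₂D₁ (hEq ▸ h2)
  rw [hEq2]
  exact hD₁

end Cfsg.Agent.Helper23.LD
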