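import Mathlib
import Cfsg.Prelude.Def_Blocks
import Cfsg.Prelude.Def_BlockLocal
import Cfsg.Prelude.Def_BrauerPairs
import Cfsg.Agent.Helper23.LocalDefect

set_option autoImplicit false
set_option linter.unusedSectionVars false
set_option linter.unusedVariables false

/-!
# The block of the stabilizer of a Brauer pair
-/

namespace Cfsg.Agent.Helper23.ST

open Cfsg Cfsg.Agent.Helper24 Cfsg.Agent.Helper5 Cfsg.Agent.Helper5.Loc Cfsg.Agent.Helper5.CC
open Cfsg.Agent.Helper14
open Cfsg.Agent.Helper23.BT Cfsg.Agent.Helper23.IC Cfsg.Agent.Helper23.TM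
open Cfsg.Agent.Helper23.SB
open Cfsg.Agent.Helper23.SP Cfsg.Agent.Helper23.SU Cfsg.Agent.Helper23.PP
open Cfsg.Agent.Helper23.MP Cfsg.Agent.Helper23.PC Cfsg.Agent.Helper23.BC
open Cfsg.Agent.Helper23.MC Cfsg.Agent.Helper23.LD

variable {G : Type*} [Group G] [Fintype G] {M : Ideal AlgInt} {p : ℕ} [Fact p.Prime]

/-- **A block of `C_G(P)` stable under `H`, `P·C_G(P) ≤ H ≤ N_G(P)`, has its idempotent a block
idempotent of `H`.** -/
theorem exists_block_of_stable (hM : IsPModular p M) (P H : Subgroup G) (hP : IsPGroup p P)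
    (hPH : P ≤ H) (hCH : Subgroup.centralizer (P : Set G) ≤ H)
    (hHN : H ≤ Subgroup.normalizer (P : Set G))
    (f : Set (IrrCharacter (Subgroup.centralizer (P : Set G)))) (hf : IsPBlock M f)
    (hst : ∀ h ∈ H, StabilizesBlock (Subgroup.centralizer (P : Set G)) f h) :
    ∃ F : Set (IrrCharacter H), IsPBlock M F ∧
      ∀ h : H, blockCoeff F h = subgroupBlockCoeff (Subgroup.centralizer (P : Set G)) f (h : G) := by
  classical
  have hMp := isPrime_of_isPModular hM
  have : Fintype H := Fintype.ofFinite _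
  have : Fintype (IrrCharacter H) := Fintype.ofFinite _
  have : Fintype (Subgroup.centralizer (P : Set G)) := Fintype.ofFinite _
  have : Fintype (IrrCharacter (Subgroup.centralizer (P : Set G))) := Fintype.ofFinite _
  have hHK : H ≤ Subgroup.normalizer
      ((Subgroup.centralizer (P : Set G) : Subgroup G) : Set G) := le_normalizer_centralizer hHN
  have hfs := isStableSet_of_stabilizesBlock hHK hst
  obtain ⟨ξ, hξ⟩ := IsPBlock.nonempty hMp hf
  obtain ⟨ψ, hψ⟩ := exists_irr_over_rel P H hPH hCH ξ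
  have hb : IsPBlock M (blockOf M (ψ : H → ℂ)) := isPBlock_blockOf ψ
  have hψb := mem_blockOf_self hMp ψ
  refine ⟨blockOf M (ψ : H → ℂ), hb, ?_⟩
  have hΘ : relConst P H hCH (blockOf M (ψ : H → ℂ)) = f := by
    apply Set.Subset.antisymm
    · intro θ₂ hθ₂
      obtain ⟨x, hx, hθx⟩ := covering_rel hM P H hPH hCH hHN _ hb f hf ψ hψb ξ hξ hψ θ₂ hθ₂
      have := hfs ⟨x, hx⟩
      rw [this] at hθx
      exact hθx
    · have h1 := blockOf_subset_relConst hM P H hP hPH hCH hHN _ hb ξ ⟨ψ, hψb, hψ⟩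
      rw [IsPBlock_eq_blockOf hMp hf hξ]
      exact h1
  intro h
  rw [blockCoeff_eq_ext0_rel hM P H hP hPH hCH hHN _ hb h, hΘ, subgroupBlockCoeff_eq_ext0]

/-- Stabilizing a pair: normalizing the subgroup and stabilizing the block. -/
def stabP (a : BrauerPairIdx G) (t : G) : Prop :=
  t ∈ Subgroup.normalizer (a.1 : Set G) ∧
    StabilizesBlock (Subgroup.centralizer (a.1 : Set G)) a.2 t

omit [Fintype G] [Fact p.Prime] in
theorem stabilizesBlock_conj (Q : Subgroup G)
    (f : Set (IrrCharacter (Subgroup.centralizer (Q : Set G)))) (x t : G)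
    (htN : t ∈ Subgroup.normalizer (Q : Set G))
    (h : StabilizesBlock (Subgroup.centralizer (Q : Set G)) f t) :
    StabilizesBlock (Subgroup.centralizer
      ((Q.map (MulAut.conj x).toMonoidHom : Subgroup G) : Set G)) (conjBlock Q x f)
      (x * t * x⁻¹) := by
  obtain ⟨htK, hstab⟩ := h
  have htN' : x * t * x⁻¹ ∈ Subgroup.normalizer
      ((Q.map (MulAut.conj x).toMonoidHom : Subgroup G) : Set G) :=
    Subgroup.le_normalizer_map _ ⟨t, htN, rfl⟩
  refine ⟨le_normalizer_centralizer (le_refl _) htN', ?_⟩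
  intro η hη
  rw [conjBlock_eq_pullBlock, mem_pullBlock_iff] at hη
  obtain ⟨χ', hχ', hconj⟩ := hstab _ hη
  refine ⟨pullIrr (centralizerConjEquiv Q x) χ', ?_, ?_⟩
  · rw [conjBlock_eq_pullBlock]
    exact (pullIrr_mem_pullBlock_iff _ f χ').mpr hχ'
  · intro k₁ k₁' hk
    rw [pullIrr_apply]
    have h1 := hconj (centralizerConjEquiv Q x k₁) (centralizerConjEquiv Q x k₁') (by
      rw [centralizerConjEquiv_apply, centralizerConjEquiv_apply, hk]
      group)
    rw [h1, pullIrr_apply, MulEquiv.symm_apply_apply]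

omit [Fintype G] [Fact p.Prime] in
theorem stabP_conj (x : G) {a : BrauerPairIdx G} {t : G} (h : stabP a t) :
    stabP (cjPair x a) (x * t * x⁻¹) := by
  obtain ⟨Q, f⟩ := a
  obtain ⟨htN, hstab⟩ := h
  exact ⟨Subgroup.le_normalizer_map _ ⟨t, htN, rfl⟩, stabilizesBlock_conj Q f x t htN hstab⟩

omit [Fintype G] [Fact p.Prime] in
theorem cjPair_one (a : BrauerPairIdx G) : cjPair 1 a = a := by
  obtain ⟨Q, f⟩ := a
  apply pairIdx_ext
  · show Q.map (MulAut.conj 1).toMonoidHom = Q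
    ext t
    rw [mem_map_conj_iff]
    simp
  · show ∀ (ξ₁ : IrrCharacter (Subgroup.centralizer
        ((Q.map (MulAut.conj 1).toMonoidHom : Subgroup G) : Set G)))
      (ξ₂ : IrrCharacter (Subgroup.centralizer (Q : Set G))),
      (∀ (t : G) (h₁ : t ∈ Subgroup.centralizer
        ((Q.map (MulAut.conj 1).toMonoidHom : Subgroup G) : Set G))
        (h₂ : t ∈ Subgroup.centralizer (Q : Set G)),
        (ξ₁ : Subgroup.centralizer
          ((Q.map (MulAut.conj 1).toMonoidHom : Subgroup G) : Set G) → ℂ) ⟨t, h₁⟩ =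
          (ξ₂ : Subgroup.centralizer (Q : Set G) → ℂ) ⟨t, h₂⟩) →
      (ξ₁ ∈ conjBlock Q 1 f ↔ ξ₂ ∈ f)
    intro ξ₁ ξ₂ hξ
    rw [conjBlock_eq_pullBlock, mem_pullBlock_iff]
    have : pullIrr (centralizerConjEquiv Q 1).symm ξ₁ = ξ₂ := by
      apply Subtype.ext
      funext c
      rw [pullIrr_apply]
      have hmem : (c : G) ∈ Subgroup.centralizer
          ((Q.map (MulAut.conj 1).toMonoidHom : Subgroup G) : Set G) := by
        have := ((centralizerConjEquiv Q 1).symm c).2
        convert this using 1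
        show (c : G) = 1 * (c : G) * 1⁻¹
        group
      have h1 : (centralizerConjEquiv Q 1).symm c = ⟨(c : G), hmem⟩ := by
        apply Subtype.ext
        show 1 * (c : G) * 1⁻¹ = (c : G)
        group
      rw [h1]
      exact hξ (c : G) hmem c.2
    rw [this]

omit [Fintype G] [Fact p.Prime] in
theorem stabP_conj_iff (x : G) (a : BrauerPairIdx G) (t' : G) :
    stabP (cjPair x a) t' ↔ stabP a (x⁻¹ * t' * x) := by
  constructor
  · intro h
    have h1 := stabP_conj x⁻¹ h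
    rw [cjPair_mul, inv_mul_cancel, cjPair_one, inv_inv] at h1
    exact h1
  · intro h
    have h1 := stabP_conj x h
    have : x * (x⁻¹ * t' * x) * x⁻¹ = t' := by group
    rwa [this] at h1

/-- Conjugation as an isomorphism between a subgroup and its conjugate. -/
noncomputable def conjSubEquiv (T' T : Subgroup G) (x : G)
    (h : ∀ t', t' ∈ T' ↔ x⁻¹ * t' * x ∈ T) : T' ≃* T where
  toFun t' := ⟨x⁻¹ * (t' : G) * x, (h _).mp t'.2⟩
  invFun t := ⟨x * (t : G) * x⁻¹, (h _).mpr (by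
    have : x⁻¹ * (x * (t : G) * x⁻¹) * x = (t : G) := by group
    rw [this]
    exact t.2)⟩
  left_inv t' := Subtype.ext (by simp [mul_assoc])
  right_inv t := Subtype.ext (by simp [mul_assoc])
  map_mul' a b := Subtype.ext (by
    show x⁻¹ * ((a * b : T') : G) * x = (x⁻¹ * (a : G) * x) * (x⁻¹ * (b : G) * x)
    rw [Subgroup.coe_mul]
    group)

omit [Fintype G] [Fact p.Prime] in
theorem conjSubEquiv_apply (T' T : Subgroup G) (x : G)
    (h : ∀ t', t' ∈ T' ↔ x⁻¹ * t' * x ∈ T) (t' : T') :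
    ((conjSubEquiv T' T x h t' : T) : G) = x⁻¹ * (t' : G) * x := rfl

/-- Basic containments for the stabilizer of a pair. -/
theorem stab_basic (Q : Subgroup G)
    (f : Set (IrrCharacter (Subgroup.centralizer (Q : Set G)))) (T : Subgroup G)
    (hT : ∀ y : G, y ∈ T ↔ y ∈ Subgroup.normalizer (Q : Set G) ∧
      StabilizesBlock (Subgroup.centralizer (Q : Set G)) f y) :
    Q ≤ T ∧ Subgroup.centralizer (Q : Set G) ≤ T ∧ T ≤ Subgroup.normalizer (Q : Set G) := by
  refine ⟨fun q hq => (hT q).mpr ⟨Subgroup.le_normalizer hq,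
    stabilizesBlock_of_mem_sup Q f q (Subgroup.mem_sup_left hq)⟩,
    fun c hc => (hT c).mpr ⟨Subgroup.centralizer_le_normalizer _ hc,
      stabilizesBlock_of_mem_sup Q f c (Subgroup.mem_sup_right hc)⟩,
    fun t ht => ((hT t).mp ht).1⟩

/-- **For `(Q, f) ≤ (P, e)`, the group `N_P(Q)` lies in a defect group of the block of the
stabilizer with the idempotent of `f`.** -/
theorem exists_defectGroup_ge_normalizer (hM : IsPModular p M) (P Q : Subgroup G)
    (e : Set (IrrCharacter (Subgroup.centralizer (P : Set G))))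
    (f : Set (IrrCharacter (Subgroup.centralizer (Q : Set G))))
    (hPe : IsBrauerPair p M P e) (hQP : Q ≤ P) (hle : SubpairLE p M Q f P e)
    (T : Subgroup G)
    (hT : ∀ y : G, y ∈ T ↔ y ∈ Subgroup.normalizer (Q : Set G) ∧
      StabilizesBlock (Subgroup.centralizer (Q : Set G)) f y)
    (F : Set (IrrCharacter T)) (hF : IsPBlock M F)
    (hFc : ∀ t : T, blockCoeff F t =
      subgroupBlockCoeff (Subgroup.centralizer (Q : Set G)) f (t : G)) :
    ∃ D : Subgroup T, IsDefectGroup p M F D ∧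
      (P ⊓ Subgroup.normalizer (Q : Set G)).subgroupOf T ≤ D := by
  classical
  have hMp := isPrime_of_isPModular hM
  have : Fintype T := Fintype.ofFinite _
  have : Fintype (IrrCharacter T) := Fintype.ofFinite _
  have : Fintype (Subgroup.centralizer (Q : Set G)) := Fintype.ofFinite _
  have : Fintype (IrrCharacter (Subgroup.centralizer (Q : Set G))) := Fintype.ofFinite _
  obtain ⟨hQT, hCT, hTN⟩ := stab_basic Q f T hT
  have hQf : IsBrauerPair p M Q f := isBrauerPair_of_reflTransGen (a := ⟨Q, f⟩) (c := ⟨P, e⟩)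
    hle hPe
  have hf := hQf.2
  set R : Subgroup G := P ⊓ Subgroup.normalizer (Q : Set G) with hRdef
  have hRP : R ≤ P := inf_le_left
  have hQR : Q ≤ R := le_inf hQP Subgroup.le_normalizer
  have hRN : R ≤ Subgroup.normalizer (Q : Set G) := inf_le_right
  have : Fintype (Subgroup.centralizer (R : Set G)) := Fintype.ofFinite _
  obtain ⟨g, hg, hgle⟩ := exists_subpair hM _ P e R hPe hRP rfl
  have hRg : IsBrauerPair p M R g := ⟨hPe.1.to_le hRP, hg⟩
  have hQRle : SubpairLE p M Q f R g :=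
    subpairLE_of_le_of_le hM (a := ⟨Q, f⟩) (b := ⟨R, g⟩) (c := ⟨P, e⟩) hle hgle hPe hQR
  have hns := isNormalSubpair_of_subpairLE hM hQRle hRg hQR hRN
  have hCK : Subgroup.centralizer (R : Set G) ≤ Subgroup.centralizer (Q : Set G) :=
    Subgroup.centralizer_le hQR
  obtain ⟨ξ, hξ⟩ := IsPBlock.nonempty hMp hg
  have hlast := hns.2.2.2.2.2 ξ hξ
  have hex : ∃ k : Subgroup.centralizer (Q : Set G),
      (k : G) ∈ Subgroup.centralizer (R : Set G) ∧ ¬ MemLocalIdeal M (blockCoeff f k) := by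
    by_contra hcon
    push Not at hcon
    have h1 := brauerOmega_li hMp hCK (blockCoeff f) (isClassFunction_blockCoeff f) hcon ξ
    rw [subgroupBlockCoeff_eq_ext0] at hlast
    have := li_sub hMp h1 hlast
    rw [sub_sub_cancel] at this
    exact not_memLocalIdeal_one hMp this
  obtain ⟨k, hkR, hkne⟩ := hex
  set kT : T := ⟨(k : G), hCT k.2⟩ with hkT
  have hkTne : ¬ MemLocalIdeal M (blockCoeff F kT) := by
    rw [hFc kT, subgroupBlockCoeff_eq_ext0]
    show ¬ MemLocalIdeal M (ext0 _ (blockCoeff f) (k : G))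
    rw [ext0_coe]
    exact hkne
  obtain ⟨y₀, hy₀⟩ := Cfsg.Agent.S0906.result p M hM F hF
  obtain ⟨S₀⟩ : Nonempty (Sylow p (Subgroup.centralizer ({y₀} : Set T))) := inferInstance
  set D₀ : Subgroup T :=
    (S₀ : Subgroup _).map (Subgroup.centralizer ({y₀} : Set T)).subtype with hD₀def
  have hD₀ : IsDefectGroup p M F D₀ := ⟨y₀, hy₀, S₀, rfl⟩
  have hR'p : IsPGroup p (R.subgroupOf T) := (hPe.1.to_le hRP).comap_subtype
  have hkcent : kT ∈ Subgroup.centralizer ((R.subgroupOf T : Subgroup T) : Set T) := by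
    rw [Subgroup.mem_centralizer_iff]
    intro q' hq'
    apply Subtype.ext
    rw [Subgroup.coe_mul, Subgroup.coe_mul]
    exact (Subgroup.mem_centralizer_iff.mp hkR) (q' : G) (Subgroup.mem_subgroupOf.mp hq')
  obtain ⟨x, hx⟩ := (Cfsg.Agent.S0959.result p M hM F hF D₀ hD₀ _ hR'p).mp
    ⟨kT, osima hMp F hF kT, hkTne, kT, IsConj.refl kT, hkcent⟩
  refine ⟨D₀.map (cj x⁻¹), isDefectGroup_map_cj hD₀ x⁻¹, ?_⟩
  have h2 := Subgroup.map_mono (f := cj x⁻¹) hx
  rw [map_cj_map_cj_inv] at h2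
  exact h2

/-- **After a suitable conjugation below the maximal pair `(P, e)`, the group `N_P(Q)` is a
defect group of the block of the stabilizer with the idempotent of `f`.** -/
theorem exists_conj_defectGroup_normalizer (hM : IsPModular p M) (B : Set (IrrCharacter G))
    (P Q : Subgroup G)
    (e : Set (IrrCharacter (Subgroup.centralizer (P : Set G))))
    (f : Set (IrrCharacter (Subgroup.centralizer (Q : Set G))))
    (hmax : IsMaximalBrauerPair p M B P e) (hQP : Q ≤ P) (hle : SubpairLE p M Q f P e)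
    (T : Subgroup G)
    (hT : ∀ y : G, y ∈ T ↔ y ∈ Subgroup.normalizer (Q : Set G) ∧
      StabilizesBlock (Subgroup.centralizer (Q : Set G)) f y) :
    ∃ x : G, SubpairLE p M (Q.map (MulAut.conj x).toMonoidHom) (conjBlock Q x f) P e ∧
      ∀ (T' : Subgroup G), (∀ y : G, y ∈ T' ↔
          y ∈ Subgroup.normalizer ((Q.map (MulAut.conj x).toMonoidHom : Subgroup G) : Set G) ∧
          StabilizesBlock (Subgroup.centralizer
            ((Q.map (MulAut.conj x).toMonoidHom : Subgroup G) : Set G)) (conjBlock Q x f) y) →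
        ∃ F' : Set (IrrCharacter T'), IsPBlock M F' ∧
          (∀ t : T', blockCoeff F' t = subgroupBlockCoeff (Subgroup.centralizer
            ((Q.map (MulAut.conj x).toMonoidHom : Subgroup G) : Set G)) (conjBlock Q x f) (t : G)) ∧
          IsDefectGroup p M F' ((P ⊓ Subgroup.normalizer
            ((Q.map (MulAut.conj x).toMonoidHom : Subgroup G) : Set G)).subgroupOf T') := by
  classical
  have hMp := isPrime_of_isPModular hM
  have hPe := hmax.1.1
  have hB := hmax.1.2.1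
  have : Fintype T := Fintype.ofFinite _
  have : Fintype (IrrCharacter T) := Fintype.ofFinite _
  have : Fintype (Subgroup.centralizer (Q : Set G)) := Fintype.ofFinite _
  have : Fintype (IrrCharacter (Subgroup.centralizer (Q : Set G))) := Fintype.ofFinite _
  obtain ⟨hQT, hCT, hTN⟩ := stab_basic Q f T hT
  have hQf : IsBrauerPair p M Q f := isBrauerPair_of_reflTransGen (a := ⟨Q, f⟩) (c := ⟨P, e⟩)
    hle hPe
  have hf := hQf.2
  obtain ⟨F, hF, hFc⟩ := exists_block_of_stable hM Q T hQf.1 hQT hCT hTN f hf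
    (fun h hh => ((hT h).mp hh).2)
  obtain ⟨y₀, hy₀⟩ := Cfsg.Agent.S0906.result p M hM F hF
  obtain ⟨S₀⟩ : Nonempty (Sylow p (Subgroup.centralizer ({y₀} : Set T))) := inferInstance
  set D₀ : Subgroup T :=
    (S₀ : Subgroup _).map (Subgroup.centralizer ({y₀} : Set T)).subtype with hD₀def
  have hD₀ : IsDefectGroup p M F D₀ := ⟨y₀, hy₀, S₀, rfl⟩
  set D₀G : Subgroup G := D₀.map T.subtype with hD₀Gdef
  have hD₀Gp : IsPGroup p D₀G := (S₀.2.map _).map _
  have hD₀GT : D₀G ≤ T := by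
    rintro _ ⟨d, _, rfl⟩
    exact d.2
  have hQn : (Q.subgroupOf T).Normal :=
    (Subgroup.normal_subgroupOf_iff_le_normalizer hQT).mpr hTN
  have hQ'core : Q.subgroupOf T ≤ pCore p T :=
    le_sSup (show Q.subgroupOf T ∈ {N : Subgroup T | N.Normal ∧ IsPGroup p N} from
      ⟨hQn, hQf.1.comap_subtype⟩)
  have hQ'D₀ : Q.subgroupOf T ≤ D₀ :=
    hQ'core.trans (Cfsg.Agent.S0912.result p M hM F hF D₀ hD₀)
  have hQD₀G : Q ≤ D₀G := by
    intro q hq
    exact ⟨⟨q, hQT hq⟩, hQ'D₀ (Subgroup.mem_subgroupOf.mpr hq), rfl⟩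
  have hD₀GN : D₀G ≤ Subgroup.normalizer (Q : Set G) := hD₀GT.trans hTN
  have hst : ∀ r ∈ D₀G, StabilizesBlock (Subgroup.centralizer (Q : Set G)) f r := fun r hr =>
    ((hT r).mp (hD₀GT hr)).2
  have hyD : (y₀ : G) ∈ Subgroup.centralizer (D₀G : Set G) := by
    rw [Subgroup.mem_centralizer_iff]
    rintro _ ⟨d, hd, rfl⟩
    obtain ⟨s, hs, rfl⟩ := hd
    have h1 := s.2
    rw [Subgroup.mem_centralizer_iff] at h1
    have h2 := h1 y₀ (Set.mem_singleton y₀)
    exact (congrArg Subtype.val h2).symm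
  have hne : ¬ MemLocalIdeal M
      (subgroupBlockCoeff (Subgroup.centralizer (Q : Set G)) f (y₀ : G)) := by
    rw [← hFc y₀]
    exact hy₀.2.1
  obtain ⟨g₀, hns₀, -⟩ := exists_normalSubpair_above hM Q D₀G hQD₀G hD₀GN hD₀Gp f hf hst
    (y₀ : G) hyD hne
  have hQfB : IsBrauerPairOf p M B Q f :=
    (isBrauerPairOf_iff_of_subpairLE hM B hB ⟨Q, f⟩ ⟨P, e⟩ hle).mp hmax.1
  have hDB : IsBrauerPairOf p M B D₀G g₀ :=
    (isBrauerPairOf_iff_of_normalSubpair hM D₀G Q g₀ f hns₀ B hB).mpr hQfB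
  obtain ⟨x, hx⟩ := exists_conj_subpairLE hM B P D₀G e g₀ hmax hDB
  have h1 : SubpairLE p M (Q.map (MulAut.conj x).toMonoidHom) (conjBlock Q x f)
      (D₀G.map (MulAut.conj x).toMonoidHom) (conjBlock D₀G x g₀) :=
    Relation.ReflTransGen.single (isNormalSubpair_conj x hns₀)
  have hle2 : SubpairLE p M (Q.map (MulAut.conj x).toMonoidHom) (conjBlock Q x f) P e :=
    h1.trans hx
  refine ⟨x, hle2, ?_⟩
  intro T' hT'
  have : Fintype T' := Fintype.ofFinite _
  have : Fintype (IrrCharacter T') := Fintype.ofFinite _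
  obtain ⟨hQT', hCT', hTN'⟩ := stab_basic _ (conjBlock Q x f) T' hT'
  have hfx : IsPBlock M (conjBlock Q x f) := isPBlock_conjBlock Q x hf
  obtain ⟨F', hF', hFc'⟩ := exists_block_of_stable hM _ T' (hQf.1.map _) hQT' hCT' hTN'
    (conjBlock Q x f) hfx (fun h hh => ((hT' h).mp hh).2)
  refine ⟨F', hF', hFc', ?_⟩
  have hD₀xP : D₀G.map (MulAut.conj x).toMonoidHom ≤ P :=
    fst_le_of_reflTransGen (p := p) (M := M) ⟨_, conjBlock D₀G x g₀⟩ ⟨P, e⟩ hx
  have hQxP : Q.map (MulAut.conj x).toMonoidHom ≤ P := (Subgroup.map_mono hQD₀G).trans hD₀xP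
  obtain ⟨D₁, hD₁, hP₂D₁⟩ := exists_defectGroup_ge_normalizer hM P _ e (conjBlock Q x f) hPe
    hQxP hle2 T' hT' F' hF' hFc'
  -- transport `F` to `T'`
  have hmemT : ∀ t', t' ∈ T' ↔ x⁻¹ * t' * x ∈ T := by
    intro t'
    rw [hT', hT]
    exact stabP_conj_iff x ⟨Q, f⟩ t'
  set φT := conjSubEquiv T' T x hmemT with hφT
  have hFF' : pullBlock φT F = F' := by
    apply block_eq_of_blockCoeff_congr hMp (isPBlock_pullBlock φT hF) hF'
    intro t
    rw [blockCoeff_pullBlock, hFc, hFc', subgroupBlockCoeff_conjBlock, conjSubEquiv_apply,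
      sub_self]
    exact memLocalIdeal_zero hMp
  have hD₂ := isDefectGroup_pullBlock (p := p) (M := M) φT hD₀
  rw [hFF'] at hD₂
  have h2 : D₀.comap φT.toMonoidHom ≤ (P ⊓ Subgroup.normalizer
      ((Q.map (MulAut.conj x).toMonoidHom : Subgroup G) : Set G)).subgroupOf T' := by
    intro t' ht'
    rw [Subgroup.mem_subgroupOf]
    refine ⟨hD₀xP ?_, hTN' t'.2⟩
    rw [mem_map_conj_iff]
    exact ⟨φT t', ht', rfl⟩
  obtain ⟨w, hw⟩ := defectGroup_conj hM F' hF' _ D₁ hD₂ hD₁
  have hcard : Nat.card D₁ = Nat.card (D₀.comap φT.toMonoidHom) := by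
    rw [hw]
    exact Subgroup.card_map_of_injective (cj_injective w)
  have hEq : D₀.comap φT.toMonoidHom = D₁ :=
    Subgroup.eq_of_le_of_card_ge (h2.trans hP₂D₁) (le_of_eq hcard)
  have hEq2 : (P ⊓ Subgroup.normalizer
      ((Q.map (MulAut.conj x).toMonoidHom : Subgroup G) : Set G)).subgroupOf T' = D₁ :=
    le_antisymm hP₂D₁ (hEq ▸ h2)
  rw [hEq2]
  exact hD₁

end Cfsg.Agent.Helper23.ST
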