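import Mathlib
import Cfsg.Prelude.Def_Blocks
import Cfsg.Prelude.Def_BlockLocal
import Cfsg.Prelude.Def_BrauerPairs
import Cfsg.Prelude.Def_BlockFusion
import Cfsg.Agent.Helper23.StabBlock

set_option autoImplicit false
set_option linter.unusedSectionVars false
set_option linter.unusedVariables false

/-!
# The fusion system of a block: fully centralized, fully normalized and centric subgroups
-/

namespace Cfsg.Agent.Helper23.BF

open Cfsg Cfsg.Agent.Helper24 Cfsg.Agent.Helper5 Cfsg.Agent.Helper5.Loc Cfsg.Agent.Helper5.CC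
open Cfsg.Agent.Helper14
open Cfsg.Agent.Helper23.BT Cfsg.Agent.Helper23.IC Cfsg.Agent.Helper23.TM
open Cfsg.Agent.Helper23.SB
open Cfsg.Agent.Helper23.SP Cfsg.Agent.Helper23.SU Cfsg.Agent.Helper23.PP
open Cfsg.Agent.Helper23.MP Cfsg.Agent.Helper23.PC Cfsg.Agent.Helper23.BC
open Cfsg.Agent.Helper23.MC Cfsg.Agent.Helper23.LD Cfsg.Agent.Helper23.ST

variable {G : Type*} [Group G] [Fintype G] {M : Ideal AlgInt} {p : ℕ} [Fact p.Prime]

/-- Defect groups of a block of `C_G(Q)` and of its conjugate have the same order. -/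
theorem card_defectGroup_conjBlock (hM : IsPModular p M) (Q : Subgroup G) (g : G)
    {f : Set (IrrCharacter (Subgroup.centralizer (Q : Set G)))} (hf : IsPBlock M f)
    {D : Subgroup (Subgroup.centralizer (Q : Set G))}
    {D' : Subgroup (Subgroup.centralizer
      ((Q.map (MulAut.conj g).toMonoidHom : Subgroup G) : Set G))}
    (hD : IsDefectGroup p M f D) (hD' : IsDefectGroup p M (conjBlock Q g f) D') :
    Nat.card D' = Nat.card D := by
  classical
  have : Fintype (Subgroup.centralizer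
      ((Q.map (MulAut.conj g).toMonoidHom : Subgroup G) : Set G)) := Fintype.ofFinite _
  have : Fintype (IrrCharacter (Subgroup.centralizer
      ((Q.map (MulAut.conj g).toMonoidHom : Subgroup G) : Set G))) := Fintype.ofFinite _
  rw [conjBlock_eq_pullBlock] at hD'
  have h1 := isDefectGroup_pullBlock (p := p) (M := M) (centralizerConjEquiv Q g) hD
  obtain ⟨x, hx⟩ := defectGroup_conj hM _ (isPBlock_pullBlock _ hf) _ _ h1 hD'
  rw [hx, Subgroup.card_map_of_injective (cj_injective x), Subgroup.comap_equiv_eq_map_symm',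
    Subgroup.card_map_of_injective (centralizerConjEquiv Q g).symm.injective]

/-- Conjugacy in the fusion system of a block. -/
theorem isConj_iff (hM : IsPModular p M) {B : Set (IrrCharacter G)} {P : Subgroup G}
    {e : Set (IrrCharacter (Subgroup.centralizer (P : Set G)))} {F : FusionSystem P}
    (hF : IsBlockFusionSystemOn p M B P e F) {Q : Subgroup G}
    {f : Set (IrrCharacter (Subgroup.centralizer (Q : Set G)))} (hQP : Q ≤ P)
    (hf : IsPBlock M f) (hle : SubpairLE p M Q f P e) (Q' : Subgroup G) :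
    F.IsConj Q Q' ↔ ∃ g : G, Q' = Q.map (MulAut.conj g).toMonoidHom ∧
      SubpairLE p M (Q.map (MulAut.conj g).toMonoidHom) (conjBlock Q g f) P e := by
  have hPe := hF.1.1.1
  constructor
  · rintro ⟨φ, hφ, hrange⟩
    obtain ⟨-, g, hg, hgP, f', hle', hgle⟩ := (hF.2 Q φ).mp hφ
    have hf' : IsPBlock M f' :=
      (isBrauerPair_of_reflTransGen (a := ⟨Q, f'⟩) (c := ⟨P, e⟩) hle' hPe).2
    have hff' : f' = f := (existsUnique_subpair hM P Q e hPe hQP).unique ⟨hf', hle'⟩ ⟨hf, hle⟩
    subst hff'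
    refine ⟨g, ?_, hgle⟩
    rw [← hrange]
    ext y
    constructor
    · rintro ⟨u, rfl⟩
      exact ⟨(u : G), u.2, (hg u).symm⟩
    · rintro ⟨u, hu, rfl⟩
      exact ⟨⟨u, hu⟩, hg ⟨u, hu⟩⟩
  · rintro ⟨g, rfl, hgle⟩
    refine ⟨conjHom Q g, ?_, ?_⟩
    · rw [hF.2 Q (conjHom Q g)]
      exact ⟨hQP, g, fun u => rfl,
        fst_le_of_reflTransGen (⟨_, conjBlock Q g f⟩ : BrauerPairIdx G) ⟨P, e⟩ hgle, f, hle, hgle⟩
    · ext y
      constructor
      · rintro ⟨u, rfl⟩
        exact ⟨(u : G), u.2, rfl⟩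
      · rintro ⟨u, hu, rfl⟩
        exact ⟨⟨u, hu⟩, rfl⟩

/-- **`Q` is fully centralized in the fusion system of `B` iff `C_P(Q)` is a defect group of the
block `f` of `C_G(Q)`, `(Q, f) ≤ (P, e)`.** -/
theorem isFullyCentralized_iff (hM : IsPModular p M) (B : Set (IrrCharacter G)) (P : Subgroup G)
    (e : Set (IrrCharacter (Subgroup.centralizer (P : Set G))))
    (hmax : IsMaximalBrauerPair p M B P e) (F : FusionSystem P)
    (hF : IsBlockFusionSystemOn p M B P e F) (Q : Subgroup G)
    (f : Set (IrrCharacter (Subgroup.centralizer (Q : Set G)))) (hQP : Q ≤ P)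
    (hf : IsPBlock M f) (hle : SubpairLE p M Q f P e) :
    F.IsFullyCentralized Q ↔ IsDefectGroup p M f
      ((P ⊓ Subgroup.centralizer (Q : Set G)).subgroupOf (Subgroup.centralizer (Q : Set G))) := by
  have hPe := hmax.1.1
  have hcard : ∀ Q₁ : Subgroup G,
      Nat.card ((P ⊓ Subgroup.centralizer (Q₁ : Set G)).subgroupOf
        (Subgroup.centralizer (Q₁ : Set G))) = Nat.card (FusionSystem.centralizerIn P Q₁) :=
    fun Q₁ => Nat.card_congr (Subgroup.subgroupOfEquivOfLe inf_le_right).toEquiv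
  constructor
  · rintro ⟨-, hfc⟩
    obtain ⟨x, hxle, hxD⟩ := exists_conj_defectGroup hM B P Q e f hmax hQP hle
    have hconj : F.IsConj Q (Q.map (MulAut.conj x).toMonoidHom) :=
      (isConj_iff hM hF hQP hf hle _).mpr ⟨x, rfl, hxle⟩
    have h1 := hfc _ hconj
    obtain ⟨D, hD, hDge⟩ := exists_defectGroup_ge hM P Q e f hPe hQP hle
    have h2 := card_defectGroup_conjBlock hM Q x hf hD hxD
    have h3 : (P ⊓ Subgroup.centralizer (Q : Set G)).subgroupOf
        (Subgroup.centralizer (Q : Set G)) = D := by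
      apply Subgroup.eq_of_le_of_card_ge hDge
      rw [hcard, ← h2, hcard]
      exact h1
    rw [h3]
    exact hD
  · intro hD
    refine ⟨hQP, fun Q' hQ' => ?_⟩
    obtain ⟨g, rfl, hgle⟩ := (isConj_iff hM hF hQP hf hle _).mp hQ'
    have hQ'P := fst_le_of_reflTransGen (⟨_, conjBlock Q g f⟩ : BrauerPairIdx G) ⟨P, e⟩ hgle
    obtain ⟨D', hD', hD'ge⟩ := exists_defectGroup_ge hM P _ e (conjBlock Q g f) hPe hQ'P hgle
    have h2 := card_defectGroup_conjBlock hM Q g hf hD hD'
    rw [← hcard, ← hcard, ← h2]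
    exact Subgroup.card_le_of_le hD'ge

/-- For `(Q, f) ≤ (P, e)`, the group `N_P(Q)` stabilizes `f`. -/
theorem stabilizesBlock_of_mem_normalizerIn (hM : IsPModular p M) (P Q : Subgroup G)
    (e : Set (IrrCharacter (Subgroup.centralizer (P : Set G))))
    (f : Set (IrrCharacter (Subgroup.centralizer (Q : Set G))))
    (hPe : IsBrauerPair p M P e) (hQP : Q ≤ P) (hle : SubpairLE p M Q f P e) :
    ∀ r ∈ P ⊓ Subgroup.normalizer (Q : Set G),
      StabilizesBlock (Subgroup.centralizer (Q : Set G)) f r := by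
  set R : Subgroup G := P ⊓ Subgroup.normalizer (Q : Set G) with hRdef
  have hRP : R ≤ P := inf_le_left
  have hQR : Q ≤ R := le_inf hQP Subgroup.le_normalizer
  have hRN : R ≤ Subgroup.normalizer (Q : Set G) := inf_le_right
  obtain ⟨g, hg, hgle⟩ := exists_subpair hM _ P e R hPe hRP rfl
  have hRg : IsBrauerPair p M R g := ⟨hPe.1.to_le hRP, hg⟩
  have hQRle : SubpairLE p M Q f R g :=
    subpairLE_of_le_of_le hM (a := ⟨Q, f⟩) (b := ⟨R, g⟩) (c := ⟨P, e⟩) hle hgle hPe hQR
  have hns := isNormalSubpair_of_subpairLE hM hQRle hRg hQR hRN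
  exact hns.2.2.2.2.1

/-- Defect groups of the stabilizer blocks of a pair and of a conjugate pair have the same
order. -/
theorem card_defectGroup_stab_conj (hM : IsPModular p M) (Q : Subgroup G)
    (f : Set (IrrCharacter (Subgroup.centralizer (Q : Set G)))) (x : G)
    (T : Subgroup G)
    (hT : ∀ y : G, y ∈ T ↔ y ∈ Subgroup.normalizer (Q : Set G) ∧
      StabilizesBlock (Subgroup.centralizer (Q : Set G)) f y)
    (F₀ : Set (IrrCharacter T)) (hF₀ : IsPBlock M F₀)
    (hFc₀ : ∀ t : T, blockCoeff F₀ t =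
      subgroupBlockCoeff (Subgroup.centralizer (Q : Set G)) f (t : G))
    (T' : Subgroup G)
    (hT' : ∀ y : G, y ∈ T' ↔
      y ∈ Subgroup.normalizer ((Q.map (MulAut.conj x).toMonoidHom : Subgroup G) : Set G) ∧
      StabilizesBlock (Subgroup.centralizer
        ((Q.map (MulAut.conj x).toMonoidHom : Subgroup G) : Set G)) (conjBlock Q x f) y)
    (F' : Set (IrrCharacter T')) (hF' : IsPBlock M F')
    (hFc' : ∀ t : T', blockCoeff F' t = subgroupBlockCoeff (Subgroup.centralizer
      ((Q.map (MulAut.conj x).toMonoidHom : Subgroup G) : Set G)) (conjBlock Q x f) (t : G))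
    {D : Subgroup T} {D' : Subgroup T'}
    (hD : IsDefectGroup p M F₀ D) (hD' : IsDefectGroup p M F' D') :
    Nat.card D' = Nat.card D := by
  classical
  have hMp := isPrime_of_isPModular hM
  have : Fintype T := Fintype.ofFinite _
  have : Fintype (IrrCharacter T) := Fintype.ofFinite _
  have : Fintype T' := Fintype.ofFinite _
  have : Fintype (IrrCharacter T') := Fintype.ofFinite _
  have hmemT : ∀ t', t' ∈ T' ↔ x⁻¹ * t' * x ∈ T := by
    intro t'
    rw [hT', hT]
    exact stabP_conj_iff x ⟨Q, f⟩ t'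
  set φT := conjSubEquiv T' T x hmemT with hφT
  have hFF' : pullBlock φT F₀ = F' := by
    apply block_eq_of_blockCoeff_congr hMp (isPBlock_pullBlock φT hF₀) hF'
    intro t
    rw [blockCoeff_pullBlock, hFc₀, hFc', subgroupBlockCoeff_conjBlock, conjSubEquiv_apply,
      sub_self]
    exact memLocalIdeal_zero hMp
  have hD₂ := isDefectGroup_pullBlock (p := p) (M := M) φT hD
  rw [hFF'] at hD₂
  obtain ⟨w, hw⟩ := defectGroup_conj hM F' hF' _ D' hD₂ hD'
  rw [hw, Subgroup.card_map_of_injective (cj_injective w), Subgroup.comap_equiv_eq_map_symm',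
    Subgroup.card_map_of_injective φT.symm.injective]

/-- **`Q` is fully normalized in the fusion system of `B` iff `N_P(Q)` is a defect group of the
block of the stabilizer of `(Q, f)` with the idempotent of `f`.** -/
theorem isFullyNormalized_iff (hM : IsPModular p M) (B : Set (IrrCharacter G)) (P : Subgroup G)
    (e : Set (IrrCharacter (Subgroup.centralizer (P : Set G))))
    (hmax : IsMaximalBrauerPair p M B P e) (F : FusionSystem P)
    (hF : IsBlockFusionSystemOn p M B P e F) (Q : Subgroup G)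
    (f : Set (IrrCharacter (Subgroup.centralizer (Q : Set G)))) (hQP : Q ≤ P)
    (hf : IsPBlock M f) (hle : SubpairLE p M Q f P e) (T : Subgroup G)
    (hT : ∀ y : G, y ∈ T ↔ y ∈ Subgroup.normalizer (Q : Set G) ∧
      StabilizesBlock (Subgroup.centralizer (Q : Set G)) f y) :
    F.IsFullyNormalized Q ↔ ∃ F' : Set (IrrCharacter T), IsPBlock M F' ∧
      (∀ t : T, blockCoeff F' t =
        subgroupBlockCoeff (Subgroup.centralizer (Q : Set G)) f (t : G)) ∧
      IsDefectGroup p M F' ((P ⊓ Subgroup.normalizer (Q : Set G)).subgroupOf T) := by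
  classical
  have hPe := hmax.1.1
  have hQf : IsBrauerPair p M Q f := isBrauerPair_of_reflTransGen (a := ⟨Q, f⟩) (c := ⟨P, e⟩)
    hle hPe
  obtain ⟨hQT, hCT, hTN⟩ := stab_basic Q f T hT
  have hNT : P ⊓ Subgroup.normalizer (Q : Set G) ≤ T := fun r hr =>
    (hT r).mpr ⟨hr.2, stabilizesBlock_of_mem_normalizerIn hM P Q e f hPe hQP hle r hr⟩
  have hcard : Nat.card ((P ⊓ Subgroup.normalizer (Q : Set G)).subgroupOf T) =
      Nat.card (FusionSystem.normalizerIn P Q) :=
    Nat.card_congr (Subgroup.subgroupOfEquivOfLe hNT).toEquiv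
  -- the conjugate set-up
  have key : ∀ x : G, SubpairLE p M (Q.map (MulAut.conj x).toMonoidHom) (conjBlock Q x f) P e →
      ∃ T' : Subgroup G, (∀ y : G, y ∈ T' ↔
        y ∈ Subgroup.normalizer ((Q.map (MulAut.conj x).toMonoidHom : Subgroup G) : Set G) ∧
        StabilizesBlock (Subgroup.centralizer
          ((Q.map (MulAut.conj x).toMonoidHom : Subgroup G) : Set G)) (conjBlock Q x f) y) ∧
        Nat.card ((P ⊓ Subgroup.normalizer
          ((Q.map (MulAut.conj x).toMonoidHom : Subgroup G) : Set G)).subgroupOf T') =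
          Nat.card (FusionSystem.normalizerIn P (Q.map (MulAut.conj x).toMonoidHom)) := by
    intro x hxle
    have hQxP := fst_le_of_reflTransGen (⟨_, conjBlock Q x f⟩ : BrauerPairIdx G) ⟨P, e⟩ hxle
    refine ⟨T.map (MulAut.conj x).toMonoidHom, ?_, ?_⟩
    · intro y
      rw [mem_map_conj_iff, hT]
      exact (stabP_conj_iff x ⟨Q, f⟩ y).symm
    · have hT' : ∀ y : G, y ∈ T.map (MulAut.conj x).toMonoidHom ↔
          y ∈ Subgroup.normalizer ((Q.map (MulAut.conj x).toMonoidHom : Subgroup G) : Set G) ∧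
          StabilizesBlock (Subgroup.centralizer
            ((Q.map (MulAut.conj x).toMonoidHom : Subgroup G) : Set G)) (conjBlock Q x f) y := by
        intro y
        rw [mem_map_conj_iff, hT]
        exact (stabP_conj_iff x ⟨Q, f⟩ y).symm
      have hNT' : P ⊓ Subgroup.normalizer
          ((Q.map (MulAut.conj x).toMonoidHom : Subgroup G) : Set G) ≤
          T.map (MulAut.conj x).toMonoidHom := fun r hr =>
        (hT' r).mpr ⟨hr.2, stabilizesBlock_of_mem_normalizerIn hM P _ e (conjBlock Q x f) hPe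
          hQxP hxle r hr⟩
      exact Nat.card_congr (Subgroup.subgroupOfEquivOfLe hNT').toEquiv
  obtain ⟨F₀, hF₀, hFc₀⟩ := exists_block_of_stable hM Q T hQf.1 hQT hCT hTN f hf
    (fun h hh => ((hT h).mp hh).2)
  constructor
  · rintro ⟨-, hfn⟩
    obtain ⟨x, hxle, hx⟩ := exists_conj_defectGroup_normalizer hM B P Q e f hmax hQP hle T hT
    obtain ⟨T', hT', hcard'⟩ := key x hxle
    obtain ⟨F', hF', hFc', hD'⟩ := hx T' hT'
    have hconj : F.IsConj Q (Q.map (MulAut.conj x).toMonoidHom) :=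
      (isConj_iff hM hF hQP hf hle _).mpr ⟨x, rfl, hxle⟩
    have h1 := hfn _ hconj
    obtain ⟨D, hD, hDge⟩ := exists_defectGroup_ge_normalizer hM P Q e f hPe hQP hle T hT F₀ hF₀
      hFc₀
    have h2 := card_defectGroup_stab_conj hM Q f x T hT F₀ hF₀ hFc₀ T' hT' F' hF' hFc' hD hD'
    have h3 : (P ⊓ Subgroup.normalizer (Q : Set G)).subgroupOf T = D := by
      apply Subgroup.eq_of_le_of_card_ge hDge
      rw [hcard, ← h2, hcard']
      exact h1
    refine ⟨F₀, hF₀, hFc₀, ?_⟩
    rw [h3]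
    exact hD
  · rintro ⟨F₁, hF₁, hFc₁, hD⟩
    refine ⟨hQP, fun Q' hQ' => ?_⟩
    obtain ⟨g, rfl, hgle⟩ := (isConj_iff hM hF hQP hf hle _).mp hQ'
    have hQ'P := fst_le_of_reflTransGen (⟨_, conjBlock Q g f⟩ : BrauerPairIdx G) ⟨P, e⟩ hgle
    obtain ⟨T', hT', hcard'⟩ := key g hgle
    obtain ⟨hQT', hCT', hTN'⟩ := stab_basic _ (conjBlock Q g f) T' hT'
    obtain ⟨F', hF', hFc'⟩ := exists_block_of_stable hM _ T' (hQf.1.map _) hQT' hCT' hTN'
      (conjBlock Q g f) (isPBlock_conjBlock Q g hf) (fun h hh => ((hT' h).mp hh).2)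
    obtain ⟨D', hD', hD'ge⟩ := exists_defectGroup_ge_normalizer hM P _ e (conjBlock Q g f) hPe
      hQ'P hgle T' hT' F' hF' hFc'
    have h2 := card_defectGroup_stab_conj hM Q f g T hT F₁ hF₁ hFc₁ T' hT' F' hF' hFc' hD hD'
    rw [← hcard, ← hcard', ← h2]
    exact Subgroup.card_le_of_le hD'ge

omit [Fintype G] [Fact p.Prime] in
/-- The centre of a conjugate. -/
theorem map_conj_center (Q : Subgroup G) (g : G) :
    (Q ⊓ Subgroup.centralizer (Q : Set G)).map (MulAut.conj g).toMonoidHom =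
      Q.map (MulAut.conj g).toMonoidHom ⊓
        Subgroup.centralizer ((Q.map (MulAut.conj g).toMonoidHom : Subgroup G) : Set G) := by
  ext y
  rw [mem_map_conj_iff, Subgroup.mem_inf, Subgroup.mem_inf, mem_map_conj_iff]
  refine and_congr Iff.rfl ⟨fun h => ?_, fun h => (centralizerConjEquiv Q g ⟨y, h⟩).2⟩
  have := ((centralizerConjEquiv Q g).symm ⟨_, h⟩).2
  convert this using 1
  show y = g * (g⁻¹ * y * g) * g⁻¹
  group

/-- **`Q` is centric in the fusion system of `B` iff `Z(Q)` is a defect group of the block `f`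
of `C_G(Q)`, `(Q, f) ≤ (P, e)`.** -/
theorem isCentric_iff (hM : IsPModular p M) (B : Set (IrrCharacter G)) (P : Subgroup G)
    (e : Set (IrrCharacter (Subgroup.centralizer (P : Set G))))
    (hmax : IsMaximalBrauerPair p M B P e) (F : FusionSystem P)
    (hF : IsBlockFusionSystemOn p M B P e F) (Q : Subgroup G)
    (f : Set (IrrCharacter (Subgroup.centralizer (Q : Set G)))) (hQP : Q ≤ P)
    (hf : IsPBlock M f) (hle : SubpairLE p M Q f P e) :
    F.IsCentric Q ↔ IsDefectGroup p M f
      ((Q ⊓ Subgroup.centralizer (Q : Set G)).subgroupOf (Subgroup.centralizer (Q : Set G))) := by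
  have hPe := hmax.1.1
  have hcardZ : ∀ g : G, Nat.card ((Q.map (MulAut.conj g).toMonoidHom ⊓
      Subgroup.centralizer ((Q.map (MulAut.conj g).toMonoidHom : Subgroup G) : Set G) :
        Subgroup G)) = Nat.card ((Q ⊓ Subgroup.centralizer (Q : Set G) : Subgroup G)) := by
    intro g
    rw [← map_conj_center]
    exact Subgroup.card_map_of_injective (MulAut.conj g).injective
  have hcard : ∀ (X Q₁ : Subgroup G),
      Nat.card ((X ⊓ Subgroup.centralizer (Q₁ : Set G)).subgroupOf
        (Subgroup.centralizer (Q₁ : Set G))) =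
        Nat.card ((X ⊓ Subgroup.centralizer (Q₁ : Set G) : Subgroup G)) :=
    fun X Q₁ => Nat.card_congr (Subgroup.subgroupOfEquivOfLe inf_le_right).toEquiv
  have hself : F.IsConj Q Q := by
    refine ⟨conjHom Q 1, F.conj_mem hQP (one_mem P), ?_⟩
    ext y
    constructor
    · rintro ⟨u, rfl⟩
      show (1 : G) * (u : G) * 1⁻¹ ∈ Q
      simp
    · intro hy
      refine ⟨⟨y, hy⟩, ?_⟩
      show (1 : G) * y * 1⁻¹ = y
      simp
  constructor
  · rintro ⟨-, hcen⟩
    have hZ : ∀ Q' : Subgroup G, Q' ≤ P → F.IsConj Q Q' →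
        P ⊓ Subgroup.centralizer (Q' : Set G) = Q' ⊓ Subgroup.centralizer (Q' : Set G) :=
      fun Q' hQ'P hQ' => le_antisymm (le_inf (hcen Q' hQ') inf_le_right)
        (inf_le_inf_right _ hQ'P)
    have hfc : F.IsFullyCentralized Q := by
      refine ⟨hQP, fun Q' hQ' => ?_⟩
      obtain ⟨g, rfl, hgle⟩ := (isConj_iff hM hF hQP hf hle _).mp hQ'
      have hQ'P := fst_le_of_reflTransGen (⟨_, conjBlock Q g f⟩ : BrauerPairIdx G) ⟨P, e⟩ hgle
      show Nat.card ((P ⊓ Subgroup.centralizer
        ((Q.map (MulAut.conj g).toMonoidHom : Subgroup G) : Set G) : Subgroup G)) ≤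
        Nat.card ((P ⊓ Subgroup.centralizer (Q : Set G) : Subgroup G))
      rw [hZ _ hQ'P hQ', hZ Q hQP hself, hcardZ]
    have := (isFullyCentralized_iff hM B P e hmax F hF Q f hQP hf hle).mp hfc
    rw [hZ Q hQP hself] at this
    exact this
  · intro hD
    refine ⟨hQP, fun Q' hQ' => ?_⟩
    obtain ⟨g, rfl, hgle⟩ := (isConj_iff hM hF hQP hf hle _).mp hQ'
    have hQ'P := fst_le_of_reflTransGen (⟨_, conjBlock Q g f⟩ : BrauerPairIdx G) ⟨P, e⟩ hgle
    obtain ⟨D', hD', hD'ge⟩ := exists_defectGroup_ge hM P _ e (conjBlock Q g f) hPe hQ'P hgle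
    have h2 := card_defectGroup_conjBlock hM Q g hf hD hD'
    have hZle : (Q.map (MulAut.conj g).toMonoidHom ⊓ Subgroup.centralizer
        ((Q.map (MulAut.conj g).toMonoidHom : Subgroup G) : Set G)).subgroupOf
        (Subgroup.centralizer ((Q.map (MulAut.conj g).toMonoidHom : Subgroup G) : Set G)) ≤
        (P ⊓ Subgroup.centralizer
        ((Q.map (MulAut.conj g).toMonoidHom : Subgroup G) : Set G)).subgroupOf
        (Subgroup.centralizer ((Q.map (MulAut.conj g).toMonoidHom : Subgroup G) : Set G)) := by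
      intro y hy
      rw [Subgroup.mem_subgroupOf] at hy ⊢
      exact ⟨hQ'P hy.1, hy.2⟩
    have h3 : (Q.map (MulAut.conj g).toMonoidHom ⊓ Subgroup.centralizer
        ((Q.map (MulAut.conj g).toMonoidHom : Subgroup G) : Set G)).subgroupOf
        (Subgroup.centralizer ((Q.map (MulAut.conj g).toMonoidHom : Subgroup G) : Set G)) =
        D' := by
      apply Subgroup.eq_of_le_of_card_ge (hZle.trans hD'ge)
      rw [h2, hcard, hcard, hcardZ]
    intro y hy
    have hy' : (⟨y, hy.2⟩ : Subgroup.centralizer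
        ((Q.map (MulAut.conj g).toMonoidHom : Subgroup G) : Set G)) ∈ D' :=
      hD'ge (Subgroup.mem_subgroupOf.mpr hy)
    rw [← h3, Subgroup.mem_subgroupOf] at hy'
    exact hy'.1

end Cfsg.Agent.Helper23.BF
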