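import Mathlib
import Cfsg.Prelude.Def_Blocks
import Cfsg.Prelude.Def_BlockLocal
import Cfsg.Prelude.Def_BrauerPairs
import Cfsg.Agent.Helper23.NormalSupport
import Cfsg.Agent.Helper24.Classes
import Cfsg.Agent.S0963

set_option autoImplicit false
set_option linter.unusedSectionVars false
set_option linter.unusedVariables false

/-!
# Central characters over a stable block of a normal subgroup
-/

namespace Cfsg.Agent.Helper23.OC

open Cfsg Cfsg.Agent.Helper24 Cfsg.Agent.Helper5 Cfsg.Agent.Helper5.Loc Cfsg.Agent.Helper5.CC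
open Cfsg.Agent.Helper23.NS

variable {G : Type*} [Group G]

/-- The sum of `θ h / θ 1` over a conjugacy class is the central character. -/
theorem sum_class_eq_centralChar {X : Type*} [Group X] [Fintype X] [DecidableEq X]
    (θ : X → ℂ) (hθ : IsClassFunction X θ) (h₀ : X) :
    ∑ h ∈ Finset.univ.filter (fun h : X => IsConj h₀ h), θ h / θ 1 = centralChar θ h₀ := by
  have h1 : ∀ h ∈ Finset.univ.filter (fun h : X => IsConj h₀ h), θ h / θ 1 = θ h₀ / θ 1 := by
    intro h hh
    rw [Finset.mem_filter] at hh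
    obtain ⟨x, hx⟩ := isConj_iff.mp hh.2
    rw [← hx, hθ]
  rw [Finset.sum_congr rfl h1, Finset.sum_const, card_filter_isConj,
    ← index_centralizer_eq_card_conj, centralChar, nsmul_eq_mul, mul_div_assoc]

variable [Fintype G] {M : Ideal AlgInt}

/-- Conjugation by an element of `G` preserves the sizes of the classes of a normal subgroup. -/
theorem index_centralizer_conj (N : Subgroup G) [hN : N.Normal] (x : G) (g : N) :
    (Subgroup.centralizer ({(⟨x * g * x⁻¹, hN.conj_mem g g.2 x⟩ : N)} : Set N)).index =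
      (Subgroup.centralizer ({g} : Set N)).index := by
  rw [index_centralizer_eq_card_conj, index_centralizer_eq_card_conj]
  refine Nat.card_congr ⟨fun n => ⟨⟨x⁻¹ * (n : N) * x, by
      have := hN.conj_mem _ (n : N).2 x⁻¹
      rwa [inv_inv] at this⟩, ?_⟩,
    fun n => ⟨⟨x * (n : N) * x⁻¹, hN.conj_mem _ (n : N).2 x⟩, ?_⟩, ?_, ?_⟩
  · obtain ⟨y, hy⟩ := isConj_iff.mp n.2
    rw [isConj_iff]
    refine ⟨⟨x⁻¹ * (y : G) * x, by
      have := hN.conj_mem _ y.2 x⁻¹
      rwa [inv_inv] at this⟩, ?_⟩
    apply Subtype.ext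
    have := congrArg Subtype.val hy
    simp only [Subgroup.coe_mul, Subgroup.coe_inv] at this ⊢
    rw [← this]
    group
  · obtain ⟨y, hy⟩ := isConj_iff.mp n.2
    rw [isConj_iff]
    refine ⟨⟨x * (y : G) * x⁻¹, hN.conj_mem _ y.2 x⟩, ?_⟩
    apply Subtype.ext
    have := congrArg Subtype.val hy
    simp only [Subgroup.coe_mul, Subgroup.coe_inv] at this ⊢
    rw [← this]
    group
  · intro n
    apply Subtype.ext
    apply Subtype.ext
    simp only
    group
  · intro n
    apply Subtype.ext
    apply Subtype.ext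
    simp only
    group

/-- **Central characters over a stable block.**  If `χ` lies over `θ ∈ c`, with `c` a
`G`-stable block of the normal subgroup `N`, then at `g ∈ N` the central character of `χ` is
congruent to `k` times that of `θ`, where `k` is the number of `N`-classes in the `G`-class of
`g`. -/
theorem centralChar_orbit {p : ℕ} [Fact p.Prime] (hM : IsPModular p M) (N : Subgroup G)
    [hN : N.Normal] [Fintype N] (c : Set (IrrCharacter N)) (hc : IsPBlock M c)
    (hst : IsStable N c) (χ : IrrCharacter G) (θ : IrrCharacter N) (hθ : θ ∈ c)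
    (hcon : classInner (fun n : N => (χ : G → ℂ) n) (θ : N → ℂ) ≠ 0) (g : N) :
    ∃ k : ℕ, k * (Subgroup.centralizer ({g} : Set N)).index =
        (Subgroup.centralizer ({(g : G)} : Set G)).index ∧
      MemLocalIdeal M (centralChar (χ : G → ℂ) (g : G) -
        (k : ℂ) * centralChar (θ : N → ℂ) g) := by
  classical
  have hMp := isPrime_of_isPModular hM
  have h1 := (Cfsg.Agent.S0963.result N χ θ).mp hcon g
  set A : Finset N := Finset.univ.filter (fun h : N => IsConj (g : G) (h : G)) with hA
  set κ : N → ConjClasses N := ConjClasses.mk with hκ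
  have h2 : inducedCentralChar N (θ : N → ℂ) (g : G) =
      ∑ h ∈ A, (θ : N → ℂ) h / (θ : N → ℂ) 1 := by
    rw [inducedCentralChar, finsum_mem_eq_finite_toFinset_sum _ (Set.toFinite _)]
    apply Finset.sum_congr _ (fun _ _ => rfl)
    ext h
    simp [hA]
  have hcls : IsClassFunction N (θ : N → ℂ) := isClassFunction_irr θ
  -- description of the fibres
  have hfib : ∀ h₀ ∈ A, A.filter (fun h => κ h = κ h₀) =
      Finset.univ.filter (fun h : N => IsConj h₀ h) := by
    intro h₀ hh₀
    rw [hA, Finset.mem_filter] at hh₀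
    ext h
    simp only [hA, hκ, Finset.mem_filter, Finset.mem_univ, true_and,
      ConjClasses.mk_eq_mk_iff_isConj]
    constructor
    · rintro ⟨-, h2⟩
      exact h2.symm
    · intro h2
      have h3 : IsConj (h₀ : G) (h : G) := by
        obtain ⟨y, hy⟩ := isConj_iff.mp h2
        rw [isConj_iff]
        exact ⟨(y : G), by rw [← hy]; rfl⟩
      exact ⟨hh₀.2.trans h3, h2.symm⟩
  -- values on the fibres
  have hval : ∀ h₀ ∈ A, (Subgroup.centralizer ({h₀} : Set N)).index =
        (Subgroup.centralizer ({g} : Set N)).index ∧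
      MemLocalIdeal M (centralChar (θ : N → ℂ) h₀ - centralChar (θ : N → ℂ) g) := by
    intro h₀ hh₀
    rw [hA, Finset.mem_filter] at hh₀
    obtain ⟨x, hx⟩ := isConj_iff.mp hh₀.2
    have hh₀eq : h₀ = ⟨x * g * x⁻¹, hN.conj_mem g g.2 x⟩ := Subtype.ext hx.symm
    have hidx := index_centralizer_conj N x g
    rw [← hh₀eq] at hidx
    refine ⟨hidx, ?_⟩
    have hsb := sameBlock_of_mem hMp hc (hst θ hθ x) hθ g
    have e1 : centralChar ((conjIrr N x θ : IrrCharacter N) : N → ℂ) g =
        centralChar (θ : N → ℂ) h₀ := by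
      rw [centralChar, centralChar, hidx]
      have a1 : ((conjIrr N x θ : IrrCharacter N) : N → ℂ) g = (θ : N → ℂ) h₀ := by
        rw [hh₀eq]
        rfl
      have a2 : ((conjIrr N x θ : IrrCharacter N) : N → ℂ) 1 = (θ : N → ℂ) 1 := by
        show (θ : N → ℂ) ⟨x * ((1 : N) : G) * x⁻¹, _⟩ = (θ : N → ℂ) 1
        have : (⟨x * ((1 : N) : G) * x⁻¹, hN.conj_mem _ (1 : N).2 x⟩ : N) = 1 :=
          Subtype.ext (by simp)
        rw [this]
      rw [a1, a2]
    rw [e1] at hsb
    exact hsb
  refine ⟨(A.image κ).card, ?_, ?_⟩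
  · -- the count
    have c1 : A.card = (Subgroup.centralizer ({(g : G)} : Set G)).index := by
      rw [index_centralizer_eq_card_conj, hA, ← Nat.card_eq_finsetCard]
      refine Nat.card_congr ⟨fun h => ⟨((h : N) : G), ?_⟩, fun y => ⟨⟨(y : G), ?_⟩, ?_⟩, ?_, ?_⟩
      · have := h.2
        rw [Finset.mem_filter] at this
        exact this.2
      · obtain ⟨x, hx⟩ := isConj_iff.mp y.2
        rw [← hx]
        exact hN.conj_mem g g.2 x
      · rw [Finset.mem_filter]
        exact ⟨Finset.mem_univ _, y.2⟩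
      · intro h
        rfl
      · intro y
        rfl
    rw [← c1, Finset.card_eq_sum_card_fiberwise (f := κ) (t := A.image κ)
      (fun h hh => Finset.mem_image_of_mem κ hh)]
    rw [Finset.sum_const_nat (m := (Subgroup.centralizer ({g} : Set N)).index)]
    intro K hK
    obtain ⟨h₀, hh₀, rfl⟩ := Finset.mem_image.mp hK
    rw [hfib h₀ hh₀, card_filter_isConj, ← index_centralizer_eq_card_conj]
    exact (hval h₀ hh₀).1
  · rw [h1, h2, ← Finset.sum_fiberwise_of_maps_to (g := κ) (t := A.image κ)
      (fun h hh => Finset.mem_image_of_mem κ hh)]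
    have e3 : ((A.image κ).card : ℂ) * centralChar (θ : N → ℂ) g =
        ∑ K ∈ A.image κ, centralChar (θ : N → ℂ) g := by
      rw [Finset.sum_const, nsmul_eq_mul]
    rw [e3, ← Finset.sum_sub_distrib]
    apply li_sum hMp
    intro K hK
    obtain ⟨h₀, hh₀, rfl⟩ := Finset.mem_image.mp hK
    rw [hfib h₀ hh₀, sum_class_eq_centralChar _ hcls]
    exact (hval h₀ hh₀).2

end Cfsg.Agent.Helper23.OC
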