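import Mathlib
import Cfsg.Prelude.Def_Blocks
import Cfsg.Prelude.Def_BlockLocal
import Cfsg.Prelude.Def_BrauerPairs
import Cfsg.Agent.Helper23.OrbitCentral
import Cfsg.Agent.Helper23.StableBlocks
import Cfsg.Agent.Helper14.PReduced4
import Cfsg.Agent.Helper5.DefectGroups
import Cfsg.Agent.S0964
import Cfsg.Agent.S0966

set_option autoImplicit false
set_option linter.unusedSectionVars false
set_option linter.unusedVariables false

/-!
# Stable blocks of normal subgroups of `p`-power index
-/

namespace Cfsg.Agent.Helper23.NPI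

open Cfsg Cfsg.Agent.Helper24 Cfsg.Agent.Helper5 Cfsg.Agent.Helper5.Loc Cfsg.Agent.Helper5.CC
open Cfsg.Agent.Helper14
open Cfsg.Agent.Helper23.NS Cfsg.Agent.Helper23.OC Cfsg.Agent.Helper23.SB

variable {G : Type*} [Group G]

/-- Stability in the sense of `StabilizesBlock` gives stability under `conjIrr`. -/
theorem isStable_of_stabilizesBlock (N : Subgroup G) [hN : N.Normal] (c : Set (IrrCharacter N))
    (hst : ∀ x : G, StabilizesBlock N c x) : IsStable N c := by
  intro θ hθ x
  obtain ⟨-, h⟩ := hst x⁻¹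
  obtain ⟨χ', hχ', hconj⟩ := h θ hθ
  have : conjIrr N x θ = χ' := by
    apply Subtype.ext
    funext h
    have := hconj ⟨x * (h : G) * x⁻¹, hN.conj_mem h h.2 x⟩ h (by simp [mul_assoc])
    rw [this]
    rfl
  rw [this]
  exact hχ'

theorem cutCoeff_eq_subgroupBlockCoeff (N : Subgroup G) (c : Set (IrrCharacter N)) :
    cutCoeff N c = subgroupBlockCoeff N c := by
  funext g
  rw [subgroupBlockCoeff_eq_ext0]
  by_cases hg : g ∈ N
  · rw [cutCoeff_of_mem N c hg, ext0_of_mem N _ hg]
  · rw [cutCoeff_of_not_mem N c hg, ext0_of_not_mem N _ hg]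

/-- Transfer of Sylow-in to a subgroup containing everything. -/
theorem isSylowIn_subgroupOf {p : ℕ} {N U K : Subgroup G} (hKN : K ≤ N)
    (h : IsSylowIn p U K) : IsSylowIn p (U.subgroupOf N) (K.subgroupOf N) := by
  refine ⟨Subgroup.comap_mono h.1, h.2.1.comap_subtype, ?_⟩
  intro Q hQK hQp hle
  have h1 : Q.map N.subtype ≤ K := by
    rintro _ ⟨q, hq, rfl⟩
    exact Subgroup.mem_subgroupOf.mp (hQK hq)
  have h2 : U ≤ Q.map N.subtype := by
    intro u hu
    exact ⟨⟨u, hKN (h.1 hu)⟩, hle (Subgroup.mem_subgroupOf.mpr hu), rfl⟩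
  have h3 := h.2.2 _ h1 (hQp.map _) h2
  rw [← h3, subgroupOf_map_subtype']

variable [Fintype G] {M : Ideal AlgInt}

/-- The number of elements of a normal subgroup conjugate in `G` to a given one. -/
theorem card_filter_isConj_normal (N : Subgroup G) [hN : N.Normal] [Fintype N] (g : N)
    [DecidablePred (fun h : N => IsConj (g : G) (h : G))] :
    (Finset.univ.filter (fun h : N => IsConj (g : G) (h : G))).card =
      (Subgroup.centralizer ({(g : G)} : Set G)).index := by
  classical
  rw [index_centralizer_eq_card_conj, ← Nat.card_eq_finsetCard]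
  refine Nat.card_congr ⟨fun h => ⟨((h : N) : G), ?_⟩, fun y => ⟨⟨(y : G), ?_⟩, ?_⟩, ?_, ?_⟩
  · have := h.2
    rw [Finset.mem_filter] at this
    exact this.2
  · obtain ⟨x, hx⟩ := isConj_iff.mp y.2
    rw [← hx]
    exact hN.conj_mem g g.2 x
  · rw [Finset.mem_filter]
    exact ⟨Finset.mem_univ _, y.2⟩
  · intro h
    rfl
  · intro y
    rfl

/-- If the `N`-class and the `G`-class of `g ∈ N` have the same size, they coincide. -/
theorem exists_conj_of_index_eq (N : Subgroup G) [hN : N.Normal] [Fintype N] (g : N)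
    (h : (Subgroup.centralizer ({g} : Set N)).index =
      (Subgroup.centralizer ({(g : G)} : Set G)).index) (x : G) :
    ∃ n : N, (n : G) * g * (n : G)⁻¹ = x * g * x⁻¹ := by
  classical
  have hsub : Finset.univ.filter (fun h : N => IsConj g h) ⊆
      Finset.univ.filter (fun h : N => IsConj (g : G) (h : G)) := by
    intro h hh
    rw [Finset.mem_filter] at hh ⊢
    refine ⟨hh.1, ?_⟩
    obtain ⟨y, hy⟩ := isConj_iff.mp hh.2
    rw [isConj_iff]
    exact ⟨(y : G), by rw [← hy]; rfl⟩
  have hcard : (Finset.univ.filter (fun h : N => IsConj (g : G) (h : G))).card ≤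
      (Finset.univ.filter (fun h : N => IsConj g h)).card := by
    rw [card_filter_isConj_normal, card_filter_isConj, ← index_centralizer_eq_card_conj, h]
  have heq := Finset.eq_of_subset_of_card_le hsub hcard
  have hmem : (⟨x * g * x⁻¹, hN.conj_mem g g.2 x⟩ : N) ∈
      Finset.univ.filter (fun h : N => IsConj (g : G) (h : G)) := by
    rw [Finset.mem_filter]
    exact ⟨Finset.mem_univ _, isConj_iff.mpr ⟨x, rfl⟩⟩
  rw [← heq, Finset.mem_filter] at hmem
  obtain ⟨n, hn⟩ := isConj_iff.mp hmem.2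
  exact ⟨n, congrArg Subtype.val hn⟩

/-- Orders of centralizers in `G` and in the normal subgroup `N`. -/
theorem card_centralizer_mul (N : Subgroup G) [hN : N.Normal] (g : N) (k : ℕ)
    (hk : k * (Subgroup.centralizer ({g} : Set N)).index =
      (Subgroup.centralizer ({(g : G)} : Set G)).index) :
    Nat.card (Subgroup.centralizer ({(g : G)} : Set G)) * k =
      N.index * Nat.card (Subgroup.centralizer ({g} : Set N)) := by
  have h1 := Subgroup.card_mul_index (Subgroup.centralizer ({(g : G)} : Set G))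
  have h2 := Subgroup.card_mul_index (Subgroup.centralizer ({g} : Set N))
  have h3 := Subgroup.card_mul_index N
  have hpos : 0 < (Subgroup.centralizer ({g} : Set N)).index :=
    Nat.pos_of_ne_zero Subgroup.index_ne_zero_of_finite
  apply Nat.eq_of_mul_eq_mul_right hpos
  calc Nat.card (Subgroup.centralizer ({(g : G)} : Set G)) * k *
        (Subgroup.centralizer ({g} : Set N)).index
      = Nat.card (Subgroup.centralizer ({(g : G)} : Set G)) *
        (Subgroup.centralizer ({(g : G)} : Set G)).index := by rw [mul_assoc, hk]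
    _ = Nat.card G := h1
    _ = Nat.card N * N.index := h3.symm
    _ = Nat.card (Subgroup.centralizer ({g} : Set N)) *
        (Subgroup.centralizer ({g} : Set N)).index * N.index := by rw [h2]
    _ = N.index * Nat.card (Subgroup.centralizer ({g} : Set N)) *
        (Subgroup.centralizer ({g} : Set N)).index := by ring

/-- **A `G`-stable block of a normal subgroup of `p`-power index is (the support of) a block of
`G`.** -/
theorem exists_block_eq_cut {p : ℕ} [Fact p.Prime] (hM : IsPModular p M) (N : Subgroup G)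
    [hN : N.Normal] [Fintype N] (hidx : ∃ k : ℕ, N.index = p ^ k)
    (c : Set (IrrCharacter N)) (hc : IsPBlock M c) (hst : IsStable N c) :
    ∃ B : Set (IrrCharacter G), IsPBlock M B ∧ blockCoeff B = cutCoeff N c ∧
      constituents N B = c := by
  classical
  have hMp := isPrime_of_isPModular hM
  have : Fintype (IrrCharacter G) := Fintype.ofFinite _
  obtain ⟨B, ⟨hB, χ₀, hχ₀, θ₀, hθ₀, hcov⟩, huniq⟩ :=
    Cfsg.Agent.S0966.result p M hM N hidx c hc
  have key1 : ∀ χ ∈ B, ∀ ψ : IrrCharacter N,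
      classInner (fun n : N => (χ : G → ℂ) n) (ψ : N → ℂ) ≠ 0 → ψ ∈ c := by
    intro χ hχ ψ hψ
    obtain ⟨g, θ', hθ', hg⟩ := Cfsg.Agent.S0964.result p M hM N B hB c hc χ₀ hχ₀ θ₀ hθ₀ hcov
      χ hχ ψ hψ
    have : ψ = conjIrr N g θ' := by
      apply Subtype.ext
      funext n
      exact hg n
    rw [this]
    exact hst θ' hθ' g
  have key2 : ∀ χ' : IrrCharacter G, ∀ θ ∈ c,
      classInner (fun n : N => (χ' : G → ℂ) n) (θ : N → ℂ) ≠ 0 → χ' ∈ B := by
    intro χ' θ hθ hne
    have := huniq (blockOf M (χ' : G → ℂ)) ⟨isPBlock_blockOf χ',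
      χ', mem_blockOf_self hMp χ', θ, hθ, hne⟩
    rw [← this]
    exact mem_blockOf_self hMp χ'
  have hcon : constituents N B = c := by
    apply Set.Subset.antisymm
    · rintro θ ⟨χ, hχ, hne⟩
      exact key1 χ hχ θ hne
    · intro θ hθ
      obtain ⟨ψ, hψ⟩ := Cfsg.Agent.S0963.exists_irr_over N θ
      exact ⟨ψ, key2 ψ θ hθ hψ, hψ⟩
  refine ⟨B, hB, ?_, hcon⟩
  rw [← hcon]
  exact blockCoeff_eq_cutCoeff N B
    (fun χ hχ χ' θ h1 h2 => key2 χ' θ (key1 χ hχ θ h1) h2)

/-- Every member of a block with idempotent `cutCoeff N c` lies over `c`. -/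
theorem exists_constituent_of_cut (N : Subgroup G) [hN : N.Normal] [Fintype N]
    (c : Set (IrrCharacter N)) (B : Set (IrrCharacter G)) (hBc : blockCoeff B = cutCoeff N c)
    (χ : IrrCharacter G) (hχ : χ ∈ B) :
    ∃ θ ∈ c, classInner (fun n : N => (χ : G → ℂ) n) (θ : N → ℂ) ≠ 0 := by
  classical
  have : Fintype (IrrCharacter G) := Fintype.ofFinite _
  by_contra hcon
  push Not at hcon
  have h1 := act_cutCoeff_of_disjoint N c χ hcon
  rw [← hBc, act_blockCoeff, if_pos hχ] at h1
  exact one_ne_zero h1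

/-- The centralizer of `g ∈ N` in `N`, as a `subgroupOf`. -/
theorem centralizer_inf_subgroupOf (N : Subgroup G) (g : N) :
    (Subgroup.centralizer ({(g : G)} : Set G) ⊓ N).subgroupOf N =
      Subgroup.centralizer ({g} : Set N) := by
  ext x
  rw [Subgroup.mem_subgroupOf, Subgroup.mem_inf, Subgroup.mem_centralizer_iff,
    Subgroup.mem_centralizer_iff]
  constructor
  · rintro ⟨h, -⟩ y hy
    rw [Set.mem_singleton_iff] at hy
    subst hy
    exact Subtype.ext (h (y : G) (Set.mem_singleton _))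
  · intro h
    refine ⟨?_, x.2⟩
    intro y hy
    rw [Set.mem_singleton_iff] at hy
    subst hy
    exact congrArg Subtype.val (h g (Set.mem_singleton _))

/-- **Defect groups over a stable block of a normal subgroup of `p`-power index.** -/
theorem defect_of_stable_pindex {p : ℕ} [hp : Fact p.Prime] (hM : IsPModular p M) (N : Subgroup G)
    [hN : N.Normal] [Fintype N] (hidx : ∃ k : ℕ, N.index = p ^ k)
    (c : Set (IrrCharacter N)) (hc : IsPBlock M c) (hst : IsStable N c)
    (B : Set (IrrCharacter G)) (hB : IsPBlock M B) (hBc : blockCoeff B = cutCoeff N c)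
    (P : Subgroup G) (hP : IsDefectGroup p M B P) :
    N ⊔ P = ⊤ ∧ IsDefectGroup p M c ((P ⊓ N).subgroupOf N) := by
  classical
  have hMp := isPrime_of_isPModular hM
  have : Fintype (IrrCharacter G) := Fintype.ofFinite _
  have : Fintype (IrrCharacter N) := Fintype.ofFinite _
  obtain ⟨g, hg, hS⟩ := isDefectGroup_iff.mp hP
  have hgN : g ∈ N := by
    by_contra hcon
    apply hg.2.1
    rw [hBc, cutCoeff_of_not_mem N c hcon]
    exact memLocalIdeal_zero hMp
  obtain ⟨χ, hχ⟩ := IsPBlock.nonempty hMp hB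
  obtain ⟨θ, hθ, hcon⟩ := exists_constituent_of_cut N c B hBc χ hχ
  obtain ⟨k, hk, hli⟩ := centralChar_orbit hM N c hc hst χ θ hθ hcon ⟨g, hgN⟩
  have hχg : ¬ MemLocalIdeal M (centralChar (χ : G → ℂ) g) := hg.2.2 χ hχ
  have hθlr : MemLocalRing M (centralChar (θ : N → ℂ) ⟨g, hgN⟩) :=
    memLocalRing_centralChar hMp θ _
  have hpk : ¬ p ∣ k := by
    intro hdvd
    apply hχg
    have h1 : MemLocalIdeal M ((k : ℂ) * centralChar (θ : N → ℂ) ⟨g, hgN⟩) :=
      li_mul_right hMp ((memLocalIdeal_natCast_iff hM k).mpr hdvd) hθlr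
    have := li_add hMp hli h1
    rwa [sub_add_cancel] at this
  have hθg : ¬ MemLocalIdeal M (centralChar (θ : N → ℂ) ⟨g, hgN⟩) := by
    intro h
    apply hχg
    have h1 : MemLocalIdeal M ((k : ℂ) * centralChar (θ : N → ℂ) ⟨g, hgN⟩) :=
      li_mul_left hMp (memLocalRing_natCast hMp k) h
    have := li_add hMp hli h1
    rwa [sub_add_cancel] at this
  -- `g` is a defect class of `c`
  have hcoef : blockCoeff c ⟨g, hgN⟩ = blockCoeff B g := by
    rw [hBc, cutCoeff_of_mem N c hgN]
  have hdc : IsDefectClass M c ⟨g, hgN⟩ := by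
    refine ⟨osima hMp c hc _, ?_, ?_⟩
    · rw [hcoef]
      exact hg.2.1
    · intro θ' hθ' h
      apply hθg
      have hsb := sameBlock_of_mem hMp hc hθ hθ' ⟨g, hgN⟩
      have := li_add hMp hsb h
      rwa [sub_add_cancel] at this
  -- the Sylow part
  have hnorm : Subgroup.centralizer ({g} : Set G) ≤
      Subgroup.normalizer ((Subgroup.centralizer ({g} : Set G) ⊓ N : Subgroup G) : Set G) := by
    intro d hd
    rw [Subgroup.mem_normalizer_iff]
    intro y
    constructor
    · intro hy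
      exact ⟨Subgroup.mul_mem _ (Subgroup.mul_mem _ hd hy.1) (Subgroup.inv_mem _ hd),
        hN.conj_mem y hy.2 d⟩
    · intro hy
      have h1 := Subgroup.mul_mem _ (Subgroup.mul_mem _ (Subgroup.inv_mem _ hd) hy.1) hd
      have h2 := hN.conj_mem _ hy.2 d⁻¹
      rw [inv_inv] at h2
      have e : d⁻¹ * (d * y * d⁻¹) * d = y := by group
      rw [e] at h1 h2
      exact ⟨h1, h2⟩
  have hS2 := sylow_inf_isSylowIn hS inf_le_left hnorm
  have hPN : P ⊓ (Subgroup.centralizer ({g} : Set G) ⊓ N) = P ⊓ N := by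
    rw [← inf_assoc, inf_eq_left.mpr hS.1]
  rw [hPN] at hS2
  have hS3 := isSylowIn_subgroupOf (N := N) inf_le_right hS2
  rw [centralizer_inf_subgroupOf N ⟨g, hgN⟩] at hS3
  refine ⟨?_, isDefectGroup_iff.mpr ⟨⟨g, hgN⟩, hdc, hS3⟩⟩
  -- `G = N P`
  obtain ⟨a, ha⟩ := hidx
  have hnum := card_centralizer_mul N ⟨g, hgN⟩ k hk
  have hdvd : Nat.card (Subgroup.centralizer ({(⟨g, hgN⟩ : N)} : Set N)) ∣
      Nat.card (Subgroup.centralizer ({g} : Set G)) := by
    rw [← card_map_subtype, map_subtype_centralizer_singleton]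
    exact Subgroup.card_dvd_of_le inf_le_left
  obtain ⟨m, hm⟩ := hdvd
  have hcpos : 0 < Nat.card (Subgroup.centralizer ({(⟨g, hgN⟩ : N)} : Set N)) := Nat.card_pos
  have hmk : m * k = p ^ a := by
    apply Nat.eq_of_mul_eq_mul_left hcpos
    rw [← mul_assoc, ← hm, hnum, ha]
    ring
  have hk1 : k = 1 := by
    obtain ⟨j, -, hj⟩ := (Nat.dvd_prime_pow hp.out).mp (Dvd.intro_left m hmk)
    rcases Nat.eq_zero_or_pos j with h0 | h0
    · rw [hj, h0, pow_zero]
    · exact absurd (hj ▸ dvd_pow_self p h0.ne') hpk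
  rw [hk1, one_mul] at hk
  have hCle : Subgroup.centralizer ({g} : Set G) ≤ P ⊔ N := by
    have h1 := le_sylow_sup_of_pQuotient hS inf_le_left hnorm (fun d hd => ⟨a, by
      refine ⟨Subgroup.pow_mem _ hd _, ?_⟩
      rw [← ha]
      exact Subgroup.pow_index_mem N d⟩)
    exact h1.trans (sup_le_sup_left inf_le_right P)
  rw [eq_top_iff]
  intro x _
  obtain ⟨n, hn⟩ := exists_conj_of_index_eq N ⟨g, hgN⟩ hk x
  have hcx : (n : G)⁻¹ * x ∈ Subgroup.centralizer ({g} : Set G) := by
    rw [Subgroup.mem_centralizer_iff]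
    intro y hy
    rw [Set.mem_singleton_iff] at hy
    subst hy
    have e : x * y = (n : G) * y * (n : G)⁻¹ * x := by
      simp only at hn
      rw [hn]
      group
    calc y * ((n : G)⁻¹ * x) = (n : G)⁻¹ * ((n : G) * y * (n : G)⁻¹ * x) := by group
      _ = (n : G)⁻¹ * (x * y) := by rw [e]
      _ = (n : G)⁻¹ * x * y := by group
  have : x = (n : G) * ((n : G)⁻¹ * x) := by group
  rw [this]
  exact Subgroup.mul_mem _ (Subgroup.mem_sup_left n.2) (by
    have := hCle hcx
    rw [sup_comm] at this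
    exact this)

omit [Fintype G] in
/-- The order of a group in terms of a Sylow subgroup. -/
theorem card_eq_of_isSylowIn [Finite G] {p : ℕ} [Fact p.Prime] {U H : Subgroup G}
    (h : IsSylowIn p U H) : ∃ m : ℕ, ¬ p ∣ m ∧ Nat.card H = Nat.card U * m := by
  refine ⟨((h.toSylow : Sylow p H) : Subgroup H).index, (h.toSylow).not_dvd_index, ?_⟩
  rw [← Subgroup.card_mul_index ((h.toSylow : Sylow p H) : Subgroup H)]
  congr 1
  exact Nat.card_congr (Subgroup.subgroupOfEquivOfLe h.1).toEquiv

/-- **Fong-type theorem.**  If the idempotent of the block `B` of `G` is the idempotent of a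
`G`-stable block of the normal subgroup `N`, and `D` is a defect group of `B`, then `D N / N` is
a Sylow `p`-subgroup of `G / N`: the index of `D N` is prime to `p`. -/
theorem not_dvd_index_sup {p : ℕ} [hp : Fact p.Prime] (hM : IsPModular p M) (N : Subgroup G)
    [hN : N.Normal] [Fintype N]
    (c : Set (IrrCharacter N)) (hc : IsPBlock M c) (hst : IsStable N c)
    (B : Set (IrrCharacter G)) (hB : IsPBlock M B) (hBc : blockCoeff B = cutCoeff N c)
    (D : Subgroup G) (hD : IsDefectGroup p M B D) :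
    ¬ p ∣ (D ⊔ N).index := by
  classical
  have hMp := isPrime_of_isPModular hM
  have : Fintype (IrrCharacter G) := Fintype.ofFinite _
  have : Fintype (IrrCharacter N) := Fintype.ofFinite _
  obtain ⟨g, hg, hS⟩ := isDefectGroup_iff.mp hD
  have hgN : g ∈ N := by
    by_contra hcon
    apply hg.2.1
    rw [hBc, cutCoeff_of_not_mem N c hcon]
    exact memLocalIdeal_zero hMp
  obtain ⟨χ, hχ⟩ := IsPBlock.nonempty hMp hB
  obtain ⟨θ, hθ, hcon⟩ := exists_constituent_of_cut N c B hBc χ hχ
  obtain ⟨k, hk, hli⟩ := centralChar_orbit hM N c hc hst χ θ hθ hcon ⟨g, hgN⟩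
  have hχg : ¬ MemLocalIdeal M (centralChar (χ : G → ℂ) g) := hg.2.2 χ hχ
  have hθlr : MemLocalRing M (centralChar (θ : N → ℂ) ⟨g, hgN⟩) :=
    memLocalRing_centralChar hMp θ _
  have hpk : ¬ p ∣ k := by
    intro hdvd
    apply hχg
    have h1 : MemLocalIdeal M ((k : ℂ) * centralChar (θ : N → ℂ) ⟨g, hgN⟩) :=
      li_mul_right hMp ((memLocalIdeal_natCast_iff hM k).mpr hdvd) hθlr
    have := li_add hMp hli h1
    rwa [sub_add_cancel] at this
  have hnorm : Subgroup.centralizer ({g} : Set G) ≤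
      Subgroup.normalizer ((Subgroup.centralizer ({g} : Set G) ⊓ N : Subgroup G) : Set G) := by
    intro d hd
    rw [Subgroup.mem_normalizer_iff]
    intro y
    constructor
    · intro hy
      exact ⟨Subgroup.mul_mem _ (Subgroup.mul_mem _ hd hy.1) (Subgroup.inv_mem _ hd),
        hN.conj_mem y hy.2 d⟩
    · intro hy
      have h1 := Subgroup.mul_mem _ (Subgroup.mul_mem _ (Subgroup.inv_mem _ hd) hy.1) hd
      have h2 := hN.conj_mem _ hy.2 d⁻¹
      rw [inv_inv] at h2
      have e : d⁻¹ * (d * y * d⁻¹) * d = y := by group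
      rw [e] at h1 h2
      exact ⟨h1, h2⟩
  have hS2 := sylow_inf_isSylowIn hS inf_le_left hnorm
  have hDN : D ⊓ (Subgroup.centralizer ({g} : Set G) ⊓ N) = D ⊓ N := by
    rw [← inf_assoc, inf_eq_left.mpr hS.1]
  rw [hDN] at hS2
  obtain ⟨m, hm, hcard1⟩ := card_eq_of_isSylowIn hS
  obtain ⟨m', hm', hcard2⟩ := card_eq_of_isSylowIn hS2
  have hcard3 : Nat.card (Subgroup.centralizer ({(⟨g, hgN⟩ : N)} : Set N)) =
      Nat.card ((Subgroup.centralizer ({g} : Set G) ⊓ N : Subgroup G)) := by
    rw [← card_map_subtype, map_subtype_centralizer_singleton]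
  have hnum := card_centralizer_mul N ⟨g, hgN⟩ k hk
  have h4 : N.relIndex (D ⊔ N) * (D ⊔ N).index = N.index :=
    Subgroup.relIndex_mul_index le_sup_right
  have h5 : N.relIndex (D ⊔ N) = N.relIndex D := Subgroup.relIndex_sup_right D N
  have h6 : Nat.card ((D ⊓ N : Subgroup G)) * N.relIndex D = Nat.card D := by
    rw [Subgroup.relIndex, ← Subgroup.card_mul_index (N.subgroupOf D)]
    congr 1
    rw [← card_map_subtype (N.subgroupOf D), Subgroup.subgroupOf_map_subtype, inf_comm]
  intro hdvd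
  -- `|D| m k = (D ⊔ N).index * |D| * m'`
  have hDpos : 0 < Nat.card D := Nat.card_pos
  have key : m * k = (D ⊔ N).index * m' := by
    apply Nat.eq_of_mul_eq_mul_left hDpos
    calc Nat.card D * (m * k) = Nat.card (Subgroup.centralizer ({g} : Set G)) * k := by
          rw [hcard1]; ring
      _ = N.index * Nat.card (Subgroup.centralizer ({(⟨g, hgN⟩ : N)} : Set N)) := hnum
      _ = N.relIndex D * (D ⊔ N).index * (Nat.card ((D ⊓ N : Subgroup G)) * m') := by
          rw [hcard3, hcard2, ← h4, h5]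
      _ = Nat.card ((D ⊓ N : Subgroup G)) * N.relIndex D * ((D ⊔ N).index * m') := by ring
      _ = Nat.card D * ((D ⊔ N).index * m') := by rw [h6]
  have : p ∣ m * k := by
    rw [key]
    exact Dvd.dvd.mul_right hdvd m'
  rcases (Nat.Prime.dvd_mul hp.out).mp this with h | h
  · exact hm h
  · exact hpk h

end Cfsg.Agent.Helper23.NPI
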