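import Mathlib
import Cfsg.Prelude.Def_Blocks
import Cfsg.Prelude.Def_BlockLocal
import Cfsg.Prelude.Def_BrauerPairs
import Cfsg.Agent.Helper23.BlockFusion
import Cfsg.Agent.Helper23.NormalPIndex

set_option autoImplicit false
set_option linter.unusedSectionVars false
set_option linter.unusedVariables false

/-!
# Brauer pairs of a subgroup containing a centralizer, compared with Brauer pairs of the group
-/

namespace Cfsg.Agent.Helper23.RP

open Cfsg Cfsg.Agent.Helper24 Cfsg.Agent.Helper5 Cfsg.Agent.Helper5.Loc Cfsg.Agent.Helper5.CC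
open Cfsg.Agent.Helper14
open Cfsg.Agent.Helper23.BT Cfsg.Agent.Helper23.IC Cfsg.Agent.Helper23.TM
open Cfsg.Agent.Helper23.SB
open Cfsg.Agent.Helper23.SP Cfsg.Agent.Helper23.SU Cfsg.Agent.Helper23.PP
open Cfsg.Agent.Helper23.MP Cfsg.Agent.Helper23.PC Cfsg.Agent.Helper23.BC
open Cfsg.Agent.Helper23.MC Cfsg.Agent.Helper23.LD Cfsg.Agent.Helper23.ST
open Cfsg.Agent.Helper23.BF

variable {G : Type*} [Group G] {M : Ideal AlgInt}

/-- An element stabilizing a set of characters fixes it under pull-back. -/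
theorem pullBlock_eq_of_stabilizesBlock [Finite G] {K : Subgroup G} {f : Set (IrrCharacter K)}
    {x : G} (hx : x ∈ Subgroup.normalizer (K : Set G)) (h : StabilizesBlock K f x) :
    pullBlock (conjEquiv K x hx) f = f := by
  have hsub : pullBlock (conjEquiv K x hx) f ⊆ f := by
    rw [pullBlock_eq_image]
    rintro _ ⟨χ, hχ, rfl⟩
    obtain ⟨χ', hχ', hc⟩ := h.2 χ hχ
    rw [← eq_pullIrr_of_isConjCharOf hx hc]
    exact hχ'
  apply Set.eq_of_subset_of_ncard_le hsub _ (Set.toFinite f)
  rw [pullBlock_eq_image, Set.ncard_image_of_injective]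
  intro χ₁ χ₂ h
  have := congrArg (pullIrr (conjEquiv K x hx).symm) h
  rwa [pullIrr_symm_pullIrr, pullIrr_symm_pullIrr] at this

theorem stabilizesBlock_of_pullBlock_eq {K : Subgroup G} {f : Set (IrrCharacter K)}
    {x : G} (hx : x ∈ Subgroup.normalizer (K : Set G))
    (h : pullBlock (conjEquiv K x hx) f = f) : StabilizesBlock K f x := by
  refine ⟨hx, fun χ hχ => ⟨pullIrr (conjEquiv K x hx) χ, ?_, ?_⟩⟩
  · rw [← h]
    exact (pullIrr_mem_pullBlock_iff _ f χ).mpr hχ
  · exact isConjCharOf_conjIrrN K x hx χ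

variable [Fintype G]

/-- The Brauer functional computed in a subgroup containing the centralizer. -/
theorem brauerOmega_centEquiv (Y L : Subgroup G) (hYL : Y ≤ L)
    (hCL : Subgroup.centralizer (Y : Set G) ≤ L) (β : G → ℂ) (β' : L → ℂ)
    (hβ : ∀ l : L, β' l = β (l : G)) (ξ : IrrCharacter (Subgroup.centralizer (Y : Set G))) :
    brauerOmega (Y.subgroupOf L) β'
      ((pullIrr (centEquiv Y L hYL hCL) ξ : IrrCharacter _) :
        Subgroup.centralizer ((Y.subgroupOf L : Subgroup L) : Set L) → ℂ) =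
    brauerOmega Y β (ξ : Subgroup.centralizer (Y : Set G) → ℂ) := by
  rw [brauerOmega, brauerOmega, ← finsum_comp_equiv (centEquiv Y L hYL hCL).toEquiv]
  refine finsum_congr fun c' => ?_
  rw [pullIrr_apply, pullIrr_apply, map_one, hβ]
  rfl

/-- A Brauer pair of `G` above `Q` gives a Brauer pair of the block of `L` with the idempotent
`β`. -/
theorem isBrauerPairOf_down {p : ℕ} (Y L : Subgroup G) (hYL : Y ≤ L)
    (hCL : Subgroup.centralizer (Y : Set G) ≤ L)
    (e : Set (IrrCharacter (Subgroup.centralizer (Y : Set G)))) (hYe : IsBrauerPair p M Y e)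
    (F' : Set (IrrCharacter L)) (hF' : IsPBlock M F') (β : G → ℂ)
    (hβ : ∀ l : L, blockCoeff F' l = β (l : G))
    (hcond : ∀ ξ ∈ e, MemLocalIdeal M
      (brauerOmega Y β (ξ : Subgroup.centralizer (Y : Set G) → ℂ) - 1)) :
    IsBrauerPairOf p M F' (Y.subgroupOf L) (pullBlock (centEquiv Y L hYL hCL) e) := by
  refine ⟨⟨hYe.1.comap_subtype, isPBlock_pullBlock _ hYe.2⟩, hF', ?_⟩
  intro ξ' hξ'
  rw [mem_pullBlock_iff] at hξ'
  have h1 := hcond _ hξ'
  rw [← brauerOmega_centEquiv Y L hYL hCL β (blockCoeff F') hβ, pullIrr_pullIrr_symm] at h1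
  exact h1

/-- Conjugate blocks in the subgroup are conjugate in the group. -/
theorem eq_pullBlock_conj_of_down (Y L : Subgroup G) (hYL : Y ≤ L)
    (hCL : Subgroup.centralizer (Y : Set G) ≤ L) (m' : L)
    (hmK' : m' ∈ Subgroup.normalizer
      ((Subgroup.centralizer ((Y.subgroupOf L : Subgroup L) : Set L) : Subgroup L) : Set L))
    (hmK : (m' : G) ∈ Subgroup.normalizer
      ((Subgroup.centralizer (Y : Set G) : Subgroup G) : Set G))
    (e g : Set (IrrCharacter (Subgroup.centralizer (Y : Set G))))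
    (h : pullBlock (centEquiv Y L hYL hCL) g =
      pullBlock (conjEquiv (Subgroup.centralizer ((Y.subgroupOf L : Subgroup L) : Set L)) m' hmK')
        (pullBlock (centEquiv Y L hYL hCL) e)) :
    g = pullBlock (conjEquiv (Subgroup.centralizer (Y : Set G)) (m' : G) hmK) e := by
  rw [pullBlock_trans] at h
  have hcomm : (conjEquiv (Subgroup.centralizer ((Y.subgroupOf L : Subgroup L) : Set L)) m'
      hmK').trans (centEquiv Y L hYL hCL) =
      (centEquiv Y L hYL hCL).trans
        (conjEquiv (Subgroup.centralizer (Y : Set G)) (m' : G) hmK) := by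
    apply MulEquiv.ext
    intro k
    apply Subtype.ext
    rfl
  rw [hcomm, ← pullBlock_trans] at h
  exact pullBlock_injective _ h

end Cfsg.Agent.Helper23.RP
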