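import Mathlib
import Cfsg.Prelude.Def_Blocks
import Cfsg.Prelude.Def_BlockLocal
import Cfsg.Prelude.Def_BrauerPairs
import Cfsg.Agent.Helper23.RelPairs

set_option autoImplicit false
set_option linter.unusedSectionVars false
set_option linter.unusedVariables false

/-!
# Blocks with abelian defect groups: stabilizers of subpairs
-/

namespace Cfsg.Agent.Helper23.AD

open Cfsg Cfsg.Agent.Helper24 Cfsg.Agent.Helper5 Cfsg.Agent.Helper5.Loc Cfsg.Agent.Helper5.CC
open Cfsg.Agent.Helper14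
open Cfsg.Agent.Helper23.BT Cfsg.Agent.Helper23.IC Cfsg.Agent.Helper23.TM
open Cfsg.Agent.Helper23.SB
open Cfsg.Agent.Helper23.SP Cfsg.Agent.Helper23.SU Cfsg.Agent.Helper23.PP
open Cfsg.Agent.Helper23.MP Cfsg.Agent.Helper23.PC Cfsg.Agent.Helper23.BC
open Cfsg.Agent.Helper23.MC Cfsg.Agent.Helper23.LD Cfsg.Agent.Helper23.ST
open Cfsg.Agent.Helper23.BF Cfsg.Agent.Helper23.RP

variable {G : Type*} [Group G] [Fintype G] {M : Ideal AlgInt} {p : ℕ} [Fact p.Prime]

/-- An abelian subgroup centralizes its subgroups. -/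
theorem le_centralizer_of_abelian {P Q : Subgroup G} (hab : ∀ x ∈ P, ∀ y ∈ P, x * y = y * x)
    (hQP : Q ≤ P) : P ≤ Subgroup.centralizer (Q : Set G) := by
  intro x hx
  rw [Subgroup.mem_centralizer_iff]
  intro q hq
  exact hab q (hQP hq) x hx

/-- **Abelian defect: `P` is a defect group of every block `f` with `(Q, f) ≤ (P, e)`.** -/
theorem isDefectGroup_of_abelian (hM : IsPModular p M) (B : Set (IrrCharacter G))
    (P : Subgroup G) (e : Set (IrrCharacter (Subgroup.centralizer (P : Set G))))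
    (hmax : IsMaximalBrauerPair p M B P e) (hab : ∀ x ∈ P, ∀ y ∈ P, x * y = y * x)
    (Q : Subgroup G) (f : Set (IrrCharacter (Subgroup.centralizer (Q : Set G)))) (hQP : Q ≤ P)
    (hf : IsPBlock M f) (hle : SubpairLE p M Q f P e) :
    IsDefectGroup p M f (P.subgroupOf (Subgroup.centralizer (Q : Set G))) := by
  have hPe := hmax.1.1
  have hcard : ∀ Q₁ : Subgroup G, Q₁ ≤ P →
      Nat.card ((P ⊓ Subgroup.centralizer (Q₁ : Set G)).subgroupOf
        (Subgroup.centralizer (Q₁ : Set G))) = Nat.card P := by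
    intro Q₁ hQ₁
    rw [inf_eq_left.mpr (le_centralizer_of_abelian hab hQ₁)]
    exact Nat.card_congr (Subgroup.subgroupOfEquivOfLe (le_centralizer_of_abelian hab hQ₁)).toEquiv
  obtain ⟨x, hxle, hxD⟩ := exists_conj_defectGroup hM B P Q e f hmax hQP hle
  have hQxP := fst_le_of_reflTransGen (⟨_, conjBlock Q x f⟩ : BrauerPairIdx G) ⟨P, e⟩ hxle
  obtain ⟨D, hD, hDge⟩ := exists_defectGroup_ge hM P Q e f hPe hQP hle
  have h2 := card_defectGroup_conjBlock hM Q x hf hD hxD
  have h3 : (P ⊓ Subgroup.centralizer (Q : Set G)).subgroupOf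
      (Subgroup.centralizer (Q : Set G)) = D := by
    apply Subgroup.eq_of_le_of_card_ge hDge
    rw [hcard Q hQP, ← h2, hcard _ hQxP]
  rw [inf_eq_left.mpr (le_centralizer_of_abelian hab hQP)] at h3
  rw [h3]
  exact hD

/-- **Frattini argument**: an element stabilizing `(Q, f)` is a product of an element of
`C_G(Q)` and an element of `N_G(P)`. -/
theorem exists_mul_mem_normalizer (hM : IsPModular p M) (B : Set (IrrCharacter G))
    (P : Subgroup G) (e : Set (IrrCharacter (Subgroup.centralizer (P : Set G))))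
    (hmax : IsMaximalBrauerPair p M B P e) (hab : ∀ x ∈ P, ∀ y ∈ P, x * y = y * x)
    (Q : Subgroup G) (f : Set (IrrCharacter (Subgroup.centralizer (Q : Set G)))) (hQP : Q ≤ P)
    (hf : IsPBlock M f) (hle : SubpairLE p M Q f P e) (x : G)
    (hxN : x ∈ Subgroup.normalizer (Q : Set G))
    (hxf : StabilizesBlock (Subgroup.centralizer (Q : Set G)) f x) :
    ∃ h ∈ Subgroup.centralizer (Q : Set G), h⁻¹ * x ∈ Subgroup.normalizer (P : Set G) := by
  classical
  have : Fintype (Subgroup.centralizer (Q : Set G)) := Fintype.ofFinite _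
  have : Fintype (IrrCharacter (Subgroup.centralizer (Q : Set G))) := Fintype.ofFinite _
  have hPK : P ≤ Subgroup.centralizer (Q : Set G) := le_centralizer_of_abelian hab hQP
  have hxK : x ∈ Subgroup.normalizer
      ((Subgroup.centralizer (Q : Set G) : Subgroup G) : Set G) :=
    le_normalizer_centralizer (le_refl _) hxN
  have hD := isDefectGroup_of_abelian hM B P e hmax hab Q f hQP hf hle
  have hfix := pullBlock_eq_of_stabilizesBlock hxK hxf
  have hD2 := isDefectGroup_pullBlock (p := p) (M := M)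
    (conjEquiv (Subgroup.centralizer (Q : Set G)) x hxK) hD
  rw [hfix] at hD2
  obtain ⟨h, hh⟩ := defectGroup_conj hM f hf _ _ hD hD2
  refine ⟨(h : G), h.2, ?_⟩
  -- `h⁻¹ x` maps `P` into `P`
  have hsub : P.map (MulAut.conj ((h : G)⁻¹ * x)).toMonoidHom ≤ P := by
    rintro _ ⟨q, hq, rfl⟩
    have hk : x * q * x⁻¹ ∈ Subgroup.centralizer (Q : Set G) :=
      (mem_normalizer_conj_iff hxK).mpr (hPK hq)
    have h1 : (⟨x * q * x⁻¹, hk⟩ : Subgroup.centralizer (Q : Set G)) ∈
        (P.subgroupOf (Subgroup.centralizer (Q : Set G))).comap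
          (conjEquiv (Subgroup.centralizer (Q : Set G)) x hxK).toMonoidHom := by
      rw [Subgroup.mem_comap, Subgroup.mem_subgroupOf]
      show x⁻¹ * (x * q * x⁻¹) * x ∈ P
      have : x⁻¹ * (x * q * x⁻¹) * x = q := by group
      rw [this]
      exact hq
    rw [hh, mem_map_cj, Subgroup.mem_subgroupOf] at h1
    show (h : G)⁻¹ * x * q * ((h : G)⁻¹ * x)⁻¹ ∈ P
    have e2 : (h : G)⁻¹ * x * q * ((h : G)⁻¹ * x)⁻¹ = (h : G)⁻¹ * (x * q * x⁻¹) * (h : G) := by
      group
    rw [e2]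
    exact h1
  have heq : P.map (MulAut.conj ((h : G)⁻¹ * x)).toMonoidHom = P :=
    Subgroup.eq_of_le_of_card_ge hsub
      (le_of_eq (Subgroup.card_map_of_injective (MulAut.conj _).injective).symm)
  exact Subgroup.mem_normalizer_iff_map_conj_eq.mpr heq

omit [Fintype G] [Fact p.Prime] in
/-- The conjugate of a pair by an element normalizing its subgroup. -/
theorem cjPair_eq_of_mem_normalizer (P : Subgroup G) (n : G)
    (hn : n ∈ Subgroup.normalizer (P : Set G))
    (hnK : n⁻¹ ∈ Subgroup.normalizer ((Subgroup.centralizer (P : Set G) : Subgroup G) : Set G))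
    (e : Set (IrrCharacter (Subgroup.centralizer (P : Set G)))) :
    cjPair n (⟨P, e⟩ : BrauerPairIdx G) =
      ⟨P, pullBlock (conjEquiv (Subgroup.centralizer (P : Set G)) n⁻¹ hnK).symm e⟩ := by
  have h1 := cjPair_inv_pullBlock P n⁻¹ (Subgroup.inv_mem _ hn) hnK
    (pullBlock (conjEquiv (Subgroup.centralizer (P : Set G)) n⁻¹ hnK).symm e)
  have h2 : pullBlock (conjEquiv (Subgroup.centralizer (P : Set G)) n⁻¹ hnK)
      (pullBlock (conjEquiv (Subgroup.centralizer (P : Set G)) n⁻¹ hnK).symm e) = e := by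
    have := pullBlock_symm_pullBlock
      (conjEquiv (Subgroup.centralizer (P : Set G)) n⁻¹ hnK).symm e
    rwa [MulEquiv.symm_symm] at this
  rw [h2, inv_inv] at h1
  exact h1

omit [Fact p.Prime] in
/-- A pair is fixed by the elements stabilizing it. -/
theorem cjPair_eq_self (Q : Subgroup G)
    (f : Set (IrrCharacter (Subgroup.centralizer (Q : Set G)))) (n : G)
    (hn : n ∈ Subgroup.normalizer (Q : Set G))
    (hnf : StabilizesBlock (Subgroup.centralizer (Q : Set G)) f n⁻¹) :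
    cjPair n (⟨Q, f⟩ : BrauerPairIdx G) = ⟨Q, f⟩ := by
  have hnK : n⁻¹ ∈ Subgroup.normalizer
      ((Subgroup.centralizer (Q : Set G) : Subgroup G) : Set G) :=
    le_normalizer_centralizer (le_refl _) (Subgroup.inv_mem _ hn)
  have h1 := cjPair_inv_pullBlock Q n⁻¹ (Subgroup.inv_mem _ hn) hnK f
  rw [pullBlock_eq_of_stabilizesBlock hnK hnf, inv_inv] at h1
  exact h1

/-- **Conjugacy inside `C_G(Q)` of the blocks of `C_G(P)` above `(Q, f)`**: an element of
`N_G(P)` stabilizing `(Q, f)` can be corrected by an element of `C_G(Q) ∩ N_G(P)` to an element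
stabilizing `e`. -/
theorem exists_mem_stab (hM : IsPModular p M) (B : Set (IrrCharacter G))
    (P : Subgroup G) (e : Set (IrrCharacter (Subgroup.centralizer (P : Set G))))
    (hmax : IsMaximalBrauerPair p M B P e) (hab : ∀ x ∈ P, ∀ y ∈ P, x * y = y * x)
    (Q : Subgroup G) (f : Set (IrrCharacter (Subgroup.centralizer (Q : Set G)))) (hQP : Q ≤ P)
    (hf : IsPBlock M f) (hle : SubpairLE p M Q f P e) (n : G)
    (hnP : n ∈ Subgroup.normalizer (P : Set G)) (hnN : n ∈ Subgroup.normalizer (Q : Set G))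
    (hnf : StabilizesBlock (Subgroup.centralizer (Q : Set G)) f n⁻¹) :
    ∃ m ∈ Subgroup.centralizer (Q : Set G), m ∈ Subgroup.normalizer (P : Set G) ∧
      StabilizesBlock (Subgroup.centralizer (P : Set G)) e (n⁻¹ * m) := by
  classical
  have hPe := hmax.1.1
  have : Fintype (Subgroup.centralizer (Q : Set G)) := Fintype.ofFinite _
  have hPK : P ≤ Subgroup.centralizer (Q : Set G) := le_centralizer_of_abelian hab hQP
  have hCPK : Subgroup.centralizer (P : Set G) ≤ Subgroup.centralizer (Q : Set G) :=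
    Subgroup.centralizer_le hQP
  have hnKP : n⁻¹ ∈ Subgroup.normalizer
      ((Subgroup.centralizer (P : Set G) : Subgroup G) : Set G) :=
    le_normalizer_centralizer (le_refl _) (Subgroup.inv_mem _ hnP)
  set g := pullBlock (conjEquiv (Subgroup.centralizer (P : Set G)) n⁻¹ hnKP).symm e with hgdef
  have hg : IsPBlock M g := isPBlock_pullBlock _ hPe.2
  have hPg : IsBrauerPair p M P g := ⟨hPe.1, hg⟩
  have hchain : SubpairLE p M Q f P g := by
    have h1 := reflTransGen_conj (M := M) (p := p) n hle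
    rw [cjPair_eq_self Q f n hnN hnf, cjPair_eq_of_mem_normalizer P n hnP hnKP e] at h1
    exact h1
  have hPN : P ≤ Subgroup.normalizer (Q : Set G) :=
    hPK.trans (Subgroup.centralizer_le_normalizer _)
  have hns1 := isNormalSubpair_of_subpairLE hM hle hPe hQP hPN
  have hns2 := isNormalSubpair_of_subpairLE hM hchain hPg hQP hPN
  have hβ : ∀ l : Subgroup.centralizer (Q : Set G),
      blockCoeff f l = subgroupBlockCoeff (Subgroup.centralizer (Q : Set G)) f (l : G) := by
    intro l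
    rw [subgroupBlockCoeff_eq_ext0, ext0_coe]
  have hB1 := isBrauerPairOf_down P _ hPK hCPK e hPe f hf _ hβ hns1.2.2.2.2.2
  have hB2 := isBrauerPairOf_down P _ hPK hCPK g hPg f hf _ hβ hns2.2.2.2.2.2
  have hPD := isDefectGroup_of_abelian hM B P e hmax hab Q f hQP hf hle
  obtain ⟨m', hm', hgm⟩ := exists_conj_of_pairs_at_defectGroup hM f _ hPD _ _ hB1 hB2
  have hmP : (m' : G) ∈ Subgroup.normalizer (P : Set G) := by
    rw [Subgroup.mem_normalizer_iff]
    intro q
    constructor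
    · intro hq
      have := (Subgroup.mem_normalizer_iff.mp hm' ⟨q, hPK hq⟩).mp
        (Subgroup.mem_subgroupOf.mpr hq)
      exact Subgroup.mem_subgroupOf.mp this
    · intro hq
      have hqK : q ∈ Subgroup.centralizer (Q : Set G) := by
        have h1 := hPK hq
        have h2 := Subgroup.mul_mem _ (Subgroup.mul_mem _ (Subgroup.inv_mem _ m'.2) h1) m'.2
        have e1 : (m' : G)⁻¹ * ((m' : G) * q * (m' : G)⁻¹) * (m' : G) = q := by group
        rwa [e1] at h2
      have := (Subgroup.mem_normalizer_iff.mp hm' ⟨q, hqK⟩).mpr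
        (Subgroup.mem_subgroupOf.mpr hq)
      exact Subgroup.mem_subgroupOf.mp this
  have hmKP : (m' : G) ∈ Subgroup.normalizer
      ((Subgroup.centralizer (P : Set G) : Subgroup G) : Set G) :=
    le_normalizer_centralizer (le_refl _) hmP
  have hg_eq := eq_pullBlock_conj_of_down P _ hPK hCPK m' _ hmKP e g hgm
  refine ⟨(m' : G), m'.2, hmP, ?_⟩
  have hnmKP : n⁻¹ * (m' : G) ∈ Subgroup.normalizer
      ((Subgroup.centralizer (P : Set G) : Subgroup G) : Set G) :=
    Subgroup.mul_mem _ hnKP hmKP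
  apply stabilizesBlock_of_pullBlock_eq hnmKP
  have h2 : pullBlock (conjEquiv (Subgroup.centralizer (P : Set G)) n⁻¹ hnKP) g = e := by
    have := pullBlock_symm_pullBlock
      (conjEquiv (Subgroup.centralizer (P : Set G)) n⁻¹ hnKP).symm e
    rwa [MulEquiv.symm_symm] at this
  rw [hg_eq, pullBlock_trans] at h2
  convert h2 using 2
  apply MulEquiv.ext
  intro k
  apply Subtype.ext
  show (n⁻¹ * (m' : G))⁻¹ * (k : G) * (n⁻¹ * (m' : G)) =
    (m' : G)⁻¹ * (n⁻¹⁻¹ * (k : G) * n⁻¹) * (m' : G)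
  group

/-- **Abelian defect: `N_G(Q, f) = N_G(P, e) ∩ N_G(Q) · C_G(Q)`** (first part of S4682). -/
theorem stab_factorization (hM : IsPModular p M) (B : Set (IrrCharacter G))
    (P : Subgroup G) (e : Set (IrrCharacter (Subgroup.centralizer (P : Set G))))
    (hmax : IsMaximalBrauerPair p M B P e) (hab : ∀ x ∈ P, ∀ y ∈ P, x * y = y * x)
    (Q : Subgroup G) (f : Set (IrrCharacter (Subgroup.centralizer (Q : Set G)))) (hQP : Q ≤ P)
    (hf : IsPBlock M f) (hle : SubpairLE p M Q f P e)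
    (TQ : Subgroup G) (hTQ : ∀ y : G, y ∈ TQ ↔ y ∈ Subgroup.normalizer (Q : Set G) ∧
      StabilizesBlock (Subgroup.centralizer (Q : Set G)) f y)
    (TP : Subgroup G) (hTP : ∀ y : G, y ∈ TP ↔ y ∈ Subgroup.normalizer (P : Set G) ∧
      StabilizesBlock (Subgroup.centralizer (P : Set G)) e y) :
    ∀ x ∈ TQ, ∃ y ∈ TP, ∃ c ∈ Subgroup.centralizer (Q : Set G), x = y * c := by
  intro x hx
  obtain ⟨hxN, hxf⟩ := (hTQ x).mp hx
  obtain ⟨-, hCT, -⟩ := stab_basic Q f TQ hTQ
  obtain ⟨h, hh, hn⟩ := exists_mul_mem_normalizer hM B P e hmax hab Q f hQP hf hle x hxN hxf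
  have hnT : h⁻¹ * x ∈ TQ := TQ.mul_mem (TQ.inv_mem (hCT hh)) hx
  have hnN := ((hTQ _).mp hnT).1
  have hnf := ((hTQ _).mp (TQ.inv_mem hnT)).2
  obtain ⟨m, hm, hmP, hst⟩ := exists_mem_stab hM B P e hmax hab Q f hQP hf hle (h⁻¹ * x) hn hnN
    hnf
  have hy₁ : (h⁻¹ * x)⁻¹ * m ∈ TP :=
    (hTP _).mpr ⟨Subgroup.mul_mem _ (Subgroup.inv_mem _ hn) hmP, hst⟩
  have hy : m⁻¹ * (h⁻¹ * x) ∈ TP := by
    have := TP.inv_mem hy₁
    rwa [mul_inv_rev, inv_inv] at this
  have hyN : m⁻¹ * (h⁻¹ * x) ∈ Subgroup.normalizer (Q : Set G) :=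
    Subgroup.mul_mem _ (Subgroup.inv_mem _ (Subgroup.centralizer_le_normalizer _ hm)) hnN
  have hyK : (m⁻¹ * (h⁻¹ * x))⁻¹ ∈ Subgroup.normalizer
      ((Subgroup.centralizer (Q : Set G) : Subgroup G) : Set G) :=
    le_normalizer_centralizer (le_refl _) (Subgroup.inv_mem _ hyN)
  refine ⟨m⁻¹ * (h⁻¹ * x), hy, (m⁻¹ * (h⁻¹ * x))⁻¹ * (h * m) * (m⁻¹ * (h⁻¹ * x))⁻¹⁻¹, ?_, ?_⟩
  · exact (mem_normalizer_conj_iff hyK).mpr (Subgroup.mul_mem _ hh hm)
  · group

/-- Elements stabilizing `(P, e)` and normalizing `Q` stabilize the subpair `(Q, f)`. -/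
theorem stabilizesBlock_of_mem_stab (hM : IsPModular p M)
    (P : Subgroup G) (e : Set (IrrCharacter (Subgroup.centralizer (P : Set G))))
    (hPe : IsBrauerPair p M P e)
    (Q : Subgroup G) (f : Set (IrrCharacter (Subgroup.centralizer (Q : Set G)))) (hQP : Q ≤ P)
    (hf : IsPBlock M f) (hle : SubpairLE p M Q f P e) (y : G)
    (hyP : y ∈ Subgroup.normalizer (P : Set G))
    (hye : StabilizesBlock (Subgroup.centralizer (P : Set G)) e y⁻¹)
    (hyN : y ∈ Subgroup.normalizer (Q : Set G)) :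
    StabilizesBlock (Subgroup.centralizer (Q : Set G)) f y⁻¹ := by
  have hyK : y⁻¹ ∈ Subgroup.normalizer
      ((Subgroup.centralizer (Q : Set G) : Subgroup G) : Set G) :=
    le_normalizer_centralizer (le_refl _) (Subgroup.inv_mem _ hyN)
  have h1 := reflTransGen_conj (M := M) (p := p) y hle
  rw [cjPair_eq_self P e y hyP hye, cjPair_eq_of_mem_normalizer Q y hyN hyK f] at h1
  have hf₂ : IsPBlock M (pullBlock
      (conjEquiv (Subgroup.centralizer (Q : Set G)) y⁻¹ hyK).symm f) := isPBlock_pullBlock _ hf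
  have heq := (existsUnique_subpair hM P Q e hPe hQP).unique ⟨hf₂, h1⟩ ⟨hf, hle⟩
  apply stabilizesBlock_of_pullBlock_eq hyK
  have h2 := congrArg (pullBlock (conjEquiv (Subgroup.centralizer (Q : Set G)) y⁻¹ hyK)) heq
  have h3 := pullBlock_symm_pullBlock
    (conjEquiv (Subgroup.centralizer (Q : Set G)) y⁻¹ hyK).symm f
  rw [MulEquiv.symm_symm] at h3
  rw [h3] at h2
  exact h2.symm

/-- **Abelian defect: the inertial quotients of subpairs** (second part of S4682). -/
theorem stab_index (hM : IsPModular p M) (B : Set (IrrCharacter G))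
    (P : Subgroup G) (e : Set (IrrCharacter (Subgroup.centralizer (P : Set G))))
    (hmax : IsMaximalBrauerPair p M B P e) (hab : ∀ x ∈ P, ∀ y ∈ P, x * y = y * x)
    (Q : Subgroup G) (f : Set (IrrCharacter (Subgroup.centralizer (Q : Set G)))) (hQP : Q ≤ P)
    (hf : IsPBlock M f) (hle : SubpairLE p M Q f P e)
    (TQ : Subgroup G) (hTQ : ∀ y : G, y ∈ TQ ↔ y ∈ Subgroup.normalizer (Q : Set G) ∧
      StabilizesBlock (Subgroup.centralizer (Q : Set G)) f y)
    (TP : Subgroup G) (hTP : ∀ y : G, y ∈ TP ↔ y ∈ Subgroup.normalizer (P : Set G) ∧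
      StabilizesBlock (Subgroup.centralizer (P : Set G)) e y) :
    ((Subgroup.centralizer (Q : Set G)).subgroupOf TQ).index =
      ((TP ⊓ Subgroup.centralizer (Q : Set G)).subgroupOf
        (TP ⊓ Subgroup.normalizer (Q : Set G))).index := by
  have hPe := hmax.1.1
  obtain ⟨-, hCT, hTN⟩ := stab_basic Q f TQ hTQ
  set K := TP ⊓ Subgroup.normalizer (Q : Set G) with hK
  have hKT : K ≤ TQ := by
    intro y hy
    have hy' : y⁻¹ ∈ K := K.inv_mem hy
    have h1 := stabilizesBlock_of_mem_stab hM P e hPe Q f hQP hf hle y⁻¹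
      ((hTP _).mp hy'.1).1 (by rw [inv_inv]; exact ((hTP _).mp hy.1).2) hy'.2
    rw [inv_inv] at h1
    exact (hTQ y).mpr ⟨hy.2, h1⟩
  have hfac := stab_factorization hM B P e hmax hab Q f hQP hf hle TQ hTQ TP hTP
  have hCn : ((Subgroup.centralizer (Q : Set G)).subgroupOf TQ).Normal :=
    (Subgroup.normal_subgroupOf_iff_le_normalizer hCT).mpr (le_normalizer_centralizer hTN)
  have htop : K.subgroupOf TQ ⊔ (Subgroup.centralizer (Q : Set G)).subgroupOf TQ = ⊤ := by
    rw [eq_top_iff]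
    intro x _
    obtain ⟨y, hy, c, hc, hxyc⟩ := hfac (x : G) x.2
    have hyN : y ∈ Subgroup.normalizer (Q : Set G) := by
      have : y = (x : G) * c⁻¹ := by rw [hxyc]; group
      rw [this]
      exact Subgroup.mul_mem _ (hTN x.2)
        (Subgroup.inv_mem _ (Subgroup.centralizer_le_normalizer _ hc))
    have hyK : y ∈ K := ⟨hy, hyN⟩
    have : x = (⟨y, hKT hyK⟩ : TQ) * ⟨c, hCT hc⟩ := Subtype.ext hxyc
    rw [this]
    exact Subgroup.mul_mem _ (Subgroup.mem_sup_left (Subgroup.mem_subgroupOf.mpr hyK))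
      (Subgroup.mem_sup_right (Subgroup.mem_subgroupOf.mpr hc))
  have h1 := Subgroup.relIndex_sup_right (K.subgroupOf TQ) ((Subgroup.centralizer (Q : Set G)).subgroupOf TQ)
  rw [htop, Subgroup.relIndex_top_right, Subgroup.relIndex_subgroupOf hKT] at h1
  rw [h1]
  have h2 : TP ⊓ Subgroup.centralizer (Q : Set G) = Subgroup.centralizer (Q : Set G) ⊓ K := by
    rw [hK]
    ext z
    simp only [Subgroup.mem_inf]
    constructor
    · rintro ⟨h1, h2⟩
      exact ⟨h2, h1, Subgroup.centralizer_le_normalizer _ h2⟩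
    · rintro ⟨h1, h2, -⟩
      exact ⟨h2, h1⟩
  rw [h2]
  exact (Subgroup.inf_relIndex_right (Subgroup.centralizer (Q : Set G)) K).symm

end Cfsg.Agent.Helper23.AD
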