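import Mathlib
import Cfsg.Prelude.Def_Blocks
import Cfsg.Prelude.Def_BlockLocal
import Cfsg.Prelude.Def_BrauerPairs
import Cfsg.Agent.Helper23.AbelianDefect

set_option autoImplicit false
set_option linter.unusedSectionVars false
set_option linter.unusedVariables false

/-!
# The stabilizer of a Brauer pair: the subgroup, and the index of `D · C_G(Q)`
-/

namespace Cfsg.Agent.Helper23.II

open Cfsg Cfsg.Agent.Helper24 Cfsg.Agent.Helper5 Cfsg.Agent.Helper5.Loc Cfsg.Agent.Helper5.CC
open Cfsg.Agent.Helper14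
open Cfsg.Agent.Helper23.BT Cfsg.Agent.Helper23.IC Cfsg.Agent.Helper23.TM
open Cfsg.Agent.Helper23.SB
open Cfsg.Agent.Helper23.SP Cfsg.Agent.Helper23.SU Cfsg.Agent.Helper23.PP
open Cfsg.Agent.Helper23.MP Cfsg.Agent.Helper23.PC Cfsg.Agent.Helper23.BC
open Cfsg.Agent.Helper23.MC Cfsg.Agent.Helper23.LD Cfsg.Agent.Helper23.ST
open Cfsg.Agent.Helper23.BF Cfsg.Agent.Helper23.RP Cfsg.Agent.Helper23.AD
open Cfsg.Agent.Helper23.NS Cfsg.Agent.Helper23.NPI

variable {G : Type*} [Group G] [Fintype G] {M : Ideal AlgInt} {p : ℕ} [Fact p.Prime]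

omit [Fintype G] in
theorem conjEquiv_mul (K : Subgroup G) (x y : G)
    (hx : x ∈ Subgroup.normalizer (K : Set G)) (hy : y ∈ Subgroup.normalizer (K : Set G))
    (hxy : x * y ∈ Subgroup.normalizer (K : Set G)) :
    conjEquiv K (x * y) hxy = (conjEquiv K x hx).trans (conjEquiv K y hy) := by
  apply MulEquiv.ext
  intro k
  apply Subtype.ext
  show (x * y)⁻¹ * (k : G) * (x * y) = y⁻¹ * (x⁻¹ * (k : G) * x) * y
  group

omit [Fintype G] in
theorem conjEquiv_inv (K : Subgroup G) (x : G)
    (hx : x ∈ Subgroup.normalizer (K : Set G)) (hx' : x⁻¹ ∈ Subgroup.normalizer (K : Set G)) :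
    conjEquiv K x⁻¹ hx' = (conjEquiv K x hx).symm := by
  apply MulEquiv.ext
  intro k
  apply Subtype.ext
  show x⁻¹⁻¹ * (k : G) * x⁻¹ = x * (k : G) * x⁻¹
  rw [inv_inv]

omit [Fintype G] in
theorem conjEquiv_one (K : Subgroup G) (h1 : (1 : G) ∈ Subgroup.normalizer (K : Set G)) :
    conjEquiv K 1 h1 = MulEquiv.refl K := by
  apply MulEquiv.ext
  intro k
  apply Subtype.ext
  show (1 : G)⁻¹ * (k : G) * 1 = (k : G)
  simp

/-- The stabilizer of a Brauer pair, as a subgroup. -/
def stabSubgroup (Q : Subgroup G) (f : Set (IrrCharacter (Subgroup.centralizer (Q : Set G)))) :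
    Subgroup G where
  carrier := {y | y ∈ Subgroup.normalizer (Q : Set G) ∧
    StabilizesBlock (Subgroup.centralizer (Q : Set G)) f y}
  one_mem' := by
    refine ⟨Subgroup.one_mem _, ?_⟩
    have h1 : (1 : G) ∈ Subgroup.normalizer
        ((Subgroup.centralizer (Q : Set G) : Subgroup G) : Set G) := Subgroup.one_mem _
    apply stabilizesBlock_of_pullBlock_eq h1
    rw [conjEquiv_one]
    ext ξ
    rw [mem_pullBlock_iff]
    have : pullIrr (MulEquiv.refl _).symm ξ = ξ := Subtype.ext rfl
    rw [this]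
  mul_mem' := by
    rintro x y ⟨hx, hxf⟩ ⟨hy, hyf⟩
    refine ⟨Subgroup.mul_mem _ hx hy, ?_⟩
    have hxK := le_normalizer_centralizer (le_refl _) hx
    have hyK := le_normalizer_centralizer (le_refl _) hy
    apply stabilizesBlock_of_pullBlock_eq (Subgroup.mul_mem _ hxK hyK)
    rw [conjEquiv_mul _ x y hxK hyK, ← pullBlock_trans,
      pullBlock_eq_of_stabilizesBlock hyK hyf, pullBlock_eq_of_stabilizesBlock hxK hxf]
  inv_mem' := by
    rintro x ⟨hx, hxf⟩
    refine ⟨Subgroup.inv_mem _ hx, ?_⟩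
    have hxK := le_normalizer_centralizer (le_refl _) hx
    apply stabilizesBlock_of_pullBlock_eq (Subgroup.inv_mem _ hxK)
    rw [conjEquiv_inv _ x hxK]
    have h := pullBlock_eq_of_stabilizesBlock hxK hxf
    conv_lhs => rw [← h]
    exact pullBlock_symm_pullBlock _ f

theorem mem_stabSubgroup (Q : Subgroup G)
    (f : Set (IrrCharacter (Subgroup.centralizer (Q : Set G)))) (y : G) :
    y ∈ stabSubgroup Q f ↔ y ∈ Subgroup.normalizer (Q : Set G) ∧
      StabilizesBlock (Subgroup.centralizer (Q : Set G)) f y := Iff.rfl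

/-- **The index of `D · C_G(Q)` in the stabilizer of `(Q, f)` is prime to `p`**, for `D` a
defect group of the block of the stabilizer with the idempotent of `f`. -/
theorem not_dvd_index_stab (hM : IsPModular p M) (Q : Subgroup G)
    (f : Set (IrrCharacter (Subgroup.centralizer (Q : Set G)))) (hf : IsPBlock M f)
    (T : Subgroup G)
    (hT : ∀ y : G, y ∈ T ↔ y ∈ Subgroup.normalizer (Q : Set G) ∧
      StabilizesBlock (Subgroup.centralizer (Q : Set G)) f y)
    (F' : Set (IrrCharacter T)) (hF' : IsPBlock M F')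
    (hFc : ∀ t : T, blockCoeff F' t =
      subgroupBlockCoeff (Subgroup.centralizer (Q : Set G)) f (t : G))
    (D : Subgroup T) (hD : IsDefectGroup p M F' D) :
    ¬ p ∣ (D ⊔ (Subgroup.centralizer (Q : Set G)).subgroupOf T).index := by
  classical
  have : Fintype T := Fintype.ofFinite _
  obtain ⟨-, hCT, hTN⟩ := stab_basic Q f T hT
  have hNn : ((Subgroup.centralizer (Q : Set G)).subgroupOf T).Normal :=
    (Subgroup.normal_subgroupOf_iff_le_normalizer hCT).mpr (le_normalizer_centralizer hTN)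
  have : Fintype ((Subgroup.centralizer (Q : Set G)).subgroupOf T) := Fintype.ofFinite _
  set φ := Subgroup.subgroupOfEquivOfLe hCT with hφ
  have hc' : IsPBlock M (pullBlock φ f) := isPBlock_pullBlock φ hf
  have hstab : IsStable ((Subgroup.centralizer (Q : Set G)).subgroupOf T) (pullBlock φ f) := by
    intro θ' hθ' x
    rw [mem_pullBlock_iff] at hθ' ⊢
    have hxinv : ((x : G))⁻¹ ∈ T := T.inv_mem x.2
    obtain ⟨θ₂, hθ₂, hconj⟩ := ((hT _).mp hxinv).2.2 _ hθ'
    have : pullIrr φ.symm (conjIrr ((Subgroup.centralizer (Q : Set G)).subgroupOf T) x θ') =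
        θ₂ := by
      apply Subtype.ext
      funext c
      have hk : (x : G) * (c : G) * (x : G)⁻¹ ∈ Subgroup.centralizer (Q : Set G) :=
        (mem_normalizer_conj_iff (le_normalizer_centralizer hTN x.2)).mpr c.2
      have h1 := hconj ⟨(x : G) * (c : G) * (x : G)⁻¹, hk⟩ c (by
        show (c : G) = (x : G)⁻¹ * ((x : G) * (c : G) * (x : G)⁻¹) * (x : G)⁻¹⁻¹
        group)
      rw [h1]
      rfl
    rw [this]
    exact hθ₂
  have hBc : blockCoeff F' = cutCoeff ((Subgroup.centralizer (Q : Set G)).subgroupOf T)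
      (pullBlock φ f) := by
    funext t
    rw [hFc t, subgroupBlockCoeff_eq_ext0]
    by_cases ht : t ∈ (Subgroup.centralizer (Q : Set G)).subgroupOf T
    · rw [cutCoeff_of_mem _ _ ht, blockCoeff_pullBlock, ext0_of_mem _ _
        (Subgroup.mem_subgroupOf.mp ht)]
      rfl
    · rw [cutCoeff_of_not_mem _ _ ht, ext0_of_not_mem _ _
        (fun h => ht (Subgroup.mem_subgroupOf.mpr h))]
  exact not_dvd_index_sup hM _ _ hc' hstab F' hF' hBc D hD

/-- **At a maximal Brauer pair `(P, e)`, `P` is a defect group of the block of the stabilizer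
with the idempotent of `e`.** -/
theorem exists_block_stab_maximal (hM : IsPModular p M) (B : Set (IrrCharacter G))
    (P : Subgroup G) (e : Set (IrrCharacter (Subgroup.centralizer (P : Set G))))
    (hmax : IsMaximalBrauerPair p M B P e) (T : Subgroup G)
    (hT : ∀ y : G, y ∈ T ↔ y ∈ Subgroup.normalizer (P : Set G) ∧
      StabilizesBlock (Subgroup.centralizer (P : Set G)) e y) :
    ∃ F' : Set (IrrCharacter T), IsPBlock M F' ∧
      (∀ t : T, blockCoeff F' t =
        subgroupBlockCoeff (Subgroup.centralizer (P : Set G)) e (t : G)) ∧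
      IsDefectGroup p M F' (P.subgroupOf T) := by
  obtain ⟨x, hxle, hx⟩ := exists_conj_defectGroup_normalizer hM B P P e e hmax le_rfl
    Relation.ReflTransGen.refl T hT
  have hfst : (cjPair x (⟨P, e⟩ : BrauerPairIdx G)).1 = P := by
    show P.map (MulAut.conj x).toMonoidHom = P
    exact Subgroup.eq_of_le_of_card_ge
      (fst_le_of_reflTransGen (⟨_, conjBlock P x e⟩ : BrauerPairIdx G) ⟨P, e⟩ hxle)
      (le_of_eq (Subgroup.card_map_of_injective (MulAut.conj x).injective).symm)
  have heq : cjPair x (⟨P, e⟩ : BrauerPairIdx G) = ⟨P, e⟩ :=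
    eq_of_reflTransGen_of_fst_eq hM _ _ hxle hfst
  have key : ∀ a : BrauerPairIdx G, a = ⟨P, e⟩ →
      (∀ T' : Subgroup G, (∀ y : G, y ∈ T' ↔ y ∈ Subgroup.normalizer (a.1 : Set G) ∧
          StabilizesBlock (Subgroup.centralizer (a.1 : Set G)) a.2 y) →
        ∃ F' : Set (IrrCharacter T'), IsPBlock M F' ∧
          (∀ t : T', blockCoeff F' t =
            subgroupBlockCoeff (Subgroup.centralizer (a.1 : Set G)) a.2 (t : G)) ∧
          IsDefectGroup p M F' ((P ⊓ Subgroup.normalizer (a.1 : Set G)).subgroupOf T')) →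
      ∃ F' : Set (IrrCharacter T), IsPBlock M F' ∧
        (∀ t : T, blockCoeff F' t =
          subgroupBlockCoeff (Subgroup.centralizer (P : Set G)) e (t : G)) ∧
        IsDefectGroup p M F' (P.subgroupOf T) := by
    rintro a rfl h
    obtain ⟨F', h1, h2, h3⟩ := h T hT
    refine ⟨F', h1, h2, ?_⟩
    rwa [inf_eq_left.mpr Subgroup.le_normalizer] at h3
  exact key _ heq hx

/-- **The inertial index is prime to `p`**: for a maximal Brauer pair `(P, e)` with stabilizer
`T`, the index of `P · C_G(P)` in `T` is prime to `p`. -/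
theorem not_dvd_inertial_index (hM : IsPModular p M) (B : Set (IrrCharacter G))
    (P : Subgroup G) (e : Set (IrrCharacter (Subgroup.centralizer (P : Set G))))
    (hmax : IsMaximalBrauerPair p M B P e) (T : Subgroup G)
    (hT : ∀ y : G, y ∈ T ↔ y ∈ Subgroup.normalizer (P : Set G) ∧
      StabilizesBlock (Subgroup.centralizer (P : Set G)) e y) :
    ¬ p ∣ (P.subgroupOf T ⊔ (Subgroup.centralizer (P : Set G)).subgroupOf T).index := by
  obtain ⟨F', hF', hFc, hD⟩ := exists_block_stab_maximal hM B P e hmax T hT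
  exact not_dvd_index_stab hM P e hmax.1.1.2 T hT F' hF' hFc _ hD

/-- **Abelian defect: nilpotent iff trivial inertial quotient** (= S4687). -/
theorem isNilpotentBlock_iff_of_abelian (hM : IsPModular p M) (B : Set (IrrCharacter G))
    (P : Subgroup G) (e : Set (IrrCharacter (Subgroup.centralizer (P : Set G))))
    (hmax : IsMaximalBrauerPair p M B P e) (hab : ∀ x ∈ P, ∀ y ∈ P, x * y = y * x) :
    IsNilpotentBlock p M B ↔ ∀ x : G, x ∈ Subgroup.normalizer (P : Set G) →
      StabilizesBlock (Subgroup.centralizer (P : Set G)) e x →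
      x ∈ Subgroup.centralizer (P : Set G) := by
  classical
  have hp : p.Prime := Fact.out
  constructor
  · intro hnil x hxN hxst
    set T := stabSubgroup P e with hTdef
    have hT := mem_stabSubgroup P e
    obtain ⟨-, hCT, hTN⟩ := stab_basic P e T hT
    have hidx := not_dvd_inertial_index hM B P e hmax T hT
    have hPC : P.subgroupOf T ≤ (Subgroup.centralizer (P : Set G)).subgroupOf T :=
      Subgroup.comap_mono (le_centralizer_of_abelian hab le_rfl)
    rw [sup_eq_right.mpr hPC] at hidx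
    have hNn : ((Subgroup.centralizer (P : Set G)).subgroupOf T).Normal :=
      (Subgroup.normal_subgroupOf_iff_le_normalizer hCT).mpr (le_normalizer_centralizer hTN)
    have hpg : IsPGroup p (T ⧸ (Subgroup.centralizer (P : Set G)).subgroupOf T) := by
      intro q
      obtain ⟨t, rfl⟩ := QuotientGroup.mk_surjective q
      have ho : orderOf (t : G) ≠ 0 := (orderOf_pos (t : G)).ne'
      obtain ⟨k, m, hm, hkm⟩ := Nat.exists_eq_pow_mul_and_not_dvd ho p hp.ne_one
      refine ⟨k, ?_⟩
      rw [← QuotientGroup.mk_pow, QuotientGroup.eq_one_iff, Subgroup.mem_subgroupOf]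
      have ht1 : ((t ^ p ^ k : T) : G) = (t : G) ^ p ^ k := by simp
      rw [ht1]
      have hmem : (t : G) ^ p ^ k ∈ T := T.pow_mem t.2 _
      have hreg : IsPRegular p ((t : G) ^ p ^ k) := by
        unfold IsPRegular
        rw [orderOf_pow' _ (pow_pos hp.pos k).ne', hkm, Nat.gcd_eq_right (Dvd.intro _ rfl),
          Nat.mul_div_cancel_left _ (pow_pos hp.pos k)]
        exact hm
      exact hnil.2 P e hmax.1 _ ((hT _).mp hmem).1 ((hT _).mp hmem).2 hreg
    obtain ⟨j, hj⟩ := IsPGroup.iff_card.mp hpg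
    rw [← Subgroup.index_eq_card] at hj
    have hj0 : j = 0 := by
      by_contra hne
      exact hidx (hj ▸ dvd_pow_self p hne)
    rw [hj0, pow_zero, Subgroup.index_eq_one] at hj
    have hxT : x ∈ T := (hT x).mpr ⟨hxN, hxst⟩
    have : (⟨x, hxT⟩ : T) ∈ (Subgroup.centralizer (P : Set G)).subgroupOf T := by
      rw [hj]
      exact Subgroup.mem_top _
    exact Subgroup.mem_subgroupOf.mp this
  · intro hin
    refine ⟨hmax.1.2.1, ?_⟩
    intro Q' e' hQe x hxN hxst _
    obtain ⟨z, hz⟩ := exists_conj_subpairLE hM B P Q' e e' hmax hQe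
    have hQP := fst_le_of_reflTransGen (⟨_, conjBlock Q' z e'⟩ : BrauerPairIdx G) ⟨P, e⟩ hz
    have hf : IsPBlock M (conjBlock Q' z e') := isPBlock_conjBlock Q' z hQe.1.2
    have hx' : stabP (cjPair z (⟨Q', e'⟩ : BrauerPairIdx G)) (z * x * z⁻¹) :=
      stabP_conj z (a := ⟨Q', e'⟩) ⟨hxN, hxst⟩
    obtain ⟨y, hy, c, hc, hxyc⟩ := stab_factorization hM B P e hmax hab _ (conjBlock Q' z e')
      hQP hf hz (stabSubgroup _ (conjBlock Q' z e')) (mem_stabSubgroup _ _)
      (stabSubgroup P e) (mem_stabSubgroup _ _) (z * x * z⁻¹) hx'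
    have hyC : y ∈ Subgroup.centralizer (P : Set G) := hin y hy.1 hy.2
    have hx'C : z * x * z⁻¹ ∈ Subgroup.centralizer
        ((Q'.map (MulAut.conj z).toMonoidHom : Subgroup G) : Set G) := by
      rw [hxyc]
      exact Subgroup.mul_mem _ (Subgroup.centralizer_le hQP hyC) hc
    have := (centralizerConjEquiv Q' z ⟨_, hx'C⟩).2
    rw [centralizerConjEquiv_apply] at this
    have e1 : z⁻¹ * (z * x * z⁻¹) * z = x := by group
    simp only at this
    rwa [e1] at this

end Cfsg.Agent.Helper23.II
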