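import Mathlib
import Cfsg.Prelude.Def_Blocks
import Cfsg.Prelude.Def_BlockLocal
import Cfsg.Prelude.Def_BrauerPairs
import Cfsg.Prelude.Def_BlockFusion
import Cfsg.Agent.Helper23.InertialIndex
import Cfsg.Agent.S0912
import Cfsg.Agent.Helper5.DefectOrder

set_option autoImplicit false
set_option linter.unusedSectionVars false
set_option linter.unusedVariables false

/-!
# Centric subpairs: the block of `Q · C_G(Q)` over a block of `C_G(Q)` with defect group `Z(Q)`
-/

namespace Cfsg.Agent.Helper23.CS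

open Cfsg Cfsg.Agent.Helper24 Cfsg.Agent.Helper5 Cfsg.Agent.Helper5.Loc Cfsg.Agent.Helper5.CC
open Cfsg.Agent.Helper14
open Cfsg.Agent.Helper23.BT Cfsg.Agent.Helper23.IC Cfsg.Agent.Helper23.TM
open Cfsg.Agent.Helper23.SB
open Cfsg.Agent.Helper23.SP Cfsg.Agent.Helper23.SU Cfsg.Agent.Helper23.PP
open Cfsg.Agent.Helper23.MP Cfsg.Agent.Helper23.PC Cfsg.Agent.Helper23.BC
open Cfsg.Agent.Helper23.MC Cfsg.Agent.Helper23.LD Cfsg.Agent.Helper23.ST
open Cfsg.Agent.Helper23.BF Cfsg.Agent.Helper23.RP Cfsg.Agent.Helper23.AD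
open Cfsg.Agent.Helper23.NS Cfsg.Agent.Helper23.NPI Cfsg.Agent.Helper23.II

variable {G : Type*} [Group G] [Fintype G] {M : Ideal AlgInt} {p : ℕ} [Fact p.Prime]

omit [Fintype G] in
theorem card_inf_mul_relIndex (N X : Subgroup G) :
    Nat.card ((N ⊓ X : Subgroup G)) * N.relIndex X = Nat.card X := by
  have h := Subgroup.relIndex_mul_relIndex (⊥ : Subgroup G) (N ⊓ X) X bot_le inf_le_right
  rw [Subgroup.relIndex_bot_left, Subgroup.relIndex_bot_left, Subgroup.inf_relIndex_right] at h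
  exact h

/-- A pair `(Q, f)` belongs to the block whose idempotent is the idempotent of `f`. -/
theorem isBrauerPairOf_of_coeff (hM : IsPModular p M) (Q : Subgroup G)
    (f : Set (IrrCharacter (Subgroup.centralizer (Q : Set G)))) (hQf : IsBrauerPair p M Q f)
    (B₀ : Set (IrrCharacter G)) (hB₀ : IsPBlock M B₀)
    (hc : blockCoeff B₀ = subgroupBlockCoeff (Subgroup.centralizer (Q : Set G)) f) :
    IsBrauerPairOf p M B₀ Q f := by
  classical
  have hMp := isPrime_of_isPModular hM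
  have : Fintype (Subgroup.centralizer (Q : Set G)) := Fintype.ofFinite _
  have : Fintype (IrrCharacter (Subgroup.centralizer (Q : Set G))) := Fintype.ofFinite _
  refine ⟨hQf, hB₀, fun ξ hξ => ?_⟩
  rw [hc, subgroupBlockCoeff_eq_ext0, brauerOmega_ext0_eq_act le_rfl]
  have e1 : (fun x : Subgroup.centralizer (Q : Set G) =>
      blockCoeff f ⟨(x : G), le_rfl (a := Subgroup.centralizer (Q : Set G)) x.2⟩) = blockCoeff f := rfl
  rw [e1, act_blockCoeff, if_pos hξ, sub_self]
  exact memLocalIdeal_zero hMp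

/-- **If `G` stabilizes the subpair `(Q, f)` of a maximal pair of `B`, then the idempotent of `B`
is the idempotent of `f`.** -/
theorem blockCoeff_eq_of_stable (hM : IsPModular p M) (B : Set (IrrCharacter G))
    (P : Subgroup G) (e : Set (IrrCharacter (Subgroup.centralizer (P : Set G))))
    (hmax : IsMaximalBrauerPair p M B P e) (Q : Subgroup G)
    (f : Set (IrrCharacter (Subgroup.centralizer (Q : Set G)))) (hf : IsPBlock M f)
    (hle : SubpairLE p M Q f P e)
    (hG : ∀ x : G, x ∈ Subgroup.normalizer (Q : Set G) ∧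
      StabilizesBlock (Subgroup.centralizer (Q : Set G)) f x) (g : G) :
    blockCoeff B g = subgroupBlockCoeff (Subgroup.centralizer (Q : Set G)) f g := by
  classical
  have hQf : IsBrauerPair p M Q f :=
    isBrauerPair_of_reflTransGen (a := ⟨Q, f⟩) (c := ⟨P, e⟩) hle hmax.1.1
  obtain ⟨F₀, hF₀, hF₀c⟩ := exists_block_of_stable hM Q ⊤ hQf.1 le_top le_top
    (fun x _ => (hG x).1) f hf (fun h _ => (hG h).2)
  have hB₀ : IsPBlock M (pullBlock (Subgroup.topEquiv (G := G)).symm F₀) :=
    isPBlock_pullBlock _ hF₀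
  have hcoef : blockCoeff (pullBlock (Subgroup.topEquiv (G := G)).symm F₀) =
      subgroupBlockCoeff (Subgroup.centralizer (Q : Set G)) f := by
    funext g
    rw [blockCoeff_pullBlock, hF₀c]
    rfl
  have h1 := isBrauerPairOf_of_coeff hM Q f hQf _ hB₀ hcoef
  have h2 : IsBrauerPairOf p M B Q f :=
    (isBrauerPairOf_iff_of_subpairLE hM B hmax.1.2.1 ⟨Q, f⟩ ⟨P, e⟩ hle).mp hmax.1
  have := (Cfsg.Agent.Helper23.BP.existsUnique_isBrauerPairOf hM Q f hQf).unique h1 h2
  rw [← this, hcoef]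

/-- The stable-block setup over `C_G(Q)` in a subgroup `H`, `C_G(Q) ≤ H ≤ N_G(Q)`, stabilizing
`f`. -/
theorem stable_setup (Q : Subgroup G)
    (f : Set (IrrCharacter (Subgroup.centralizer (Q : Set G)))) (hf : IsPBlock M f)
    (H : Subgroup G) (hCH : Subgroup.centralizer (Q : Set G) ≤ H)
    (hHN : H ≤ Subgroup.normalizer (Q : Set G))
    [hNn : ((Subgroup.centralizer (Q : Set G)).subgroupOf H).Normal]
    (hst : ∀ h ∈ H, StabilizesBlock (Subgroup.centralizer (Q : Set G)) f h)
    (F' : Set (IrrCharacter H))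
    (hFc : ∀ t : H, blockCoeff F' t =
      subgroupBlockCoeff (Subgroup.centralizer (Q : Set G)) f (t : G)) :
    IsPBlock M (pullBlock (Subgroup.subgroupOfEquivOfLe hCH) f) ∧
    IsStable ((Subgroup.centralizer (Q : Set G)).subgroupOf H)
      (pullBlock (Subgroup.subgroupOfEquivOfLe hCH) f) ∧
    blockCoeff F' = cutCoeff ((Subgroup.centralizer (Q : Set G)).subgroupOf H)
      (pullBlock (Subgroup.subgroupOfEquivOfLe hCH) f) := by
  classical
  have : Fintype H := Fintype.ofFinite _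
  have : Fintype ((Subgroup.centralizer (Q : Set G)).subgroupOf H) := Fintype.ofFinite _
  set φ := Subgroup.subgroupOfEquivOfLe hCH with hφ
  refine ⟨isPBlock_pullBlock φ hf, ?_, ?_⟩
  · intro θ' hθ' x
    rw [mem_pullBlock_iff] at hθ' ⊢
    have hxinv : ((x : G))⁻¹ ∈ H := H.inv_mem x.2
    obtain ⟨θ₂, hθ₂, hconj⟩ := (hst _ hxinv).2 _ hθ'
    have : pullIrr φ.symm (conjIrr ((Subgroup.centralizer (Q : Set G)).subgroupOf H) x θ') =
        θ₂ := by
      apply Subtype.ext
      funext c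
      have hk : (x : G) * (c : G) * (x : G)⁻¹ ∈ Subgroup.centralizer (Q : Set G) :=
        (mem_normalizer_conj_iff (le_normalizer_centralizer hHN x.2)).mpr c.2
      have h1 := hconj ⟨(x : G) * (c : G) * (x : G)⁻¹, hk⟩ c (by
        show (c : G) = (x : G)⁻¹ * ((x : G) * (c : G) * (x : G)⁻¹) * (x : G)⁻¹⁻¹
        group)
      rw [h1]
      rfl
    rw [this]
    exact hθ₂
  · funext t
    rw [hFc t, subgroupBlockCoeff_eq_ext0]
    by_cases ht : t ∈ (Subgroup.centralizer (Q : Set G)).subgroupOf H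
    · rw [cutCoeff_of_mem _ _ ht, blockCoeff_pullBlock, ext0_of_mem _ _
        (Subgroup.mem_subgroupOf.mp ht)]
      rfl
    · rw [cutCoeff_of_not_mem _ _ ht, ext0_of_not_mem _ _
        (fun h => ht (Subgroup.mem_subgroupOf.mpr h))]

/-- **The defect group of the block of `Q · C_G(Q)` over a block of `C_G(Q)` with defect group
`Z(Q)` is `Q`.** -/
theorem defectGroup_eq_of_center (hM : IsPModular p M) (Q : Subgroup G) (hQ : IsPGroup p Q)
    (f : Set (IrrCharacter (Subgroup.centralizer (Q : Set G)))) (hf : IsPBlock M f)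
    (hZ : IsDefectGroup p M f ((Q ⊓ Subgroup.centralizer (Q : Set G)).subgroupOf
      (Subgroup.centralizer (Q : Set G))))
    (F' : Set (IrrCharacter ↥(Q ⊔ Subgroup.centralizer (Q : Set G)))) (hF' : IsPBlock M F')
    (hFc : ∀ t : ↥(Q ⊔ Subgroup.centralizer (Q : Set G)), blockCoeff F' t =
      subgroupBlockCoeff (Subgroup.centralizer (Q : Set G)) f (t : G))
    (D : Subgroup ↥(Q ⊔ Subgroup.centralizer (Q : Set G))) (hD : IsDefectGroup p M F' D) :
    D = Q.subgroupOf (Q ⊔ Subgroup.centralizer (Q : Set G)) ∧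
      ∃ k : ℕ, ((Subgroup.centralizer (Q : Set G)).subgroupOf
        (Q ⊔ Subgroup.centralizer (Q : Set G))).index = p ^ k := by
  classical
  have hp : p.Prime := Fact.out
  have hQL : Q ≤ Q ⊔ Subgroup.centralizer (Q : Set G) := le_sup_left
  have hCL : Subgroup.centralizer (Q : Set G) ≤ Q ⊔ Subgroup.centralizer (Q : Set G) :=
    le_sup_right
  have hLN : Q ⊔ Subgroup.centralizer (Q : Set G) ≤ Subgroup.normalizer (Q : Set G) :=
    sup_le Subgroup.le_normalizer (Subgroup.centralizer_le_normalizer _)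
  have : Fintype ↥(Q ⊔ Subgroup.centralizer (Q : Set G)) := Fintype.ofFinite _
  have : Fintype (IrrCharacter ↥(Q ⊔ Subgroup.centralizer (Q : Set G))) := Fintype.ofFinite _
  have : Fintype ((Subgroup.centralizer (Q : Set G)).subgroupOf
    (Q ⊔ Subgroup.centralizer (Q : Set G))) := Fintype.ofFinite _
  have : Fintype (IrrCharacter ((Subgroup.centralizer (Q : Set G)).subgroupOf
    (Q ⊔ Subgroup.centralizer (Q : Set G)))) := Fintype.ofFinite _
  have hNn : ((Subgroup.centralizer (Q : Set G)).subgroupOf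
      (Q ⊔ Subgroup.centralizer (Q : Set G))).Normal :=
    (Subgroup.normal_subgroupOf_iff_le_normalizer hCL).mpr (le_normalizer_centralizer hLN)
  have hQ'n : (Q.subgroupOf (Q ⊔ Subgroup.centralizer (Q : Set G))).Normal :=
    (Subgroup.normal_subgroupOf_iff_le_normalizer hQL).mpr hLN
  have hQ'p : IsPGroup p (Q.subgroupOf (Q ⊔ Subgroup.centralizer (Q : Set G))) :=
    hQ.comap_subtype
  obtain ⟨hc', hstab, hBc⟩ := stable_setup Q f hf _ hCL hLN
    (fun h hh => stabilizesBlock_of_mem_sup Q f h hh) F' hFc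
  -- `Q' N = ⊤`
  have hsup : Q.subgroupOf (Q ⊔ Subgroup.centralizer (Q : Set G)) ⊔
      (Subgroup.centralizer (Q : Set G)).subgroupOf (Q ⊔ Subgroup.centralizer (Q : Set G)) = ⊤ := by
    rw [← Subgroup.subgroupOf_sup hQL hCL, Subgroup.subgroupOf_self]
  have hrelQ : ((Subgroup.centralizer (Q : Set G)).subgroupOf
      (Q ⊔ Subgroup.centralizer (Q : Set G))).relIndex
        (Q.subgroupOf (Q ⊔ Subgroup.centralizer (Q : Set G))) =
      ((Subgroup.centralizer (Q : Set G)).subgroupOf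
        (Q ⊔ Subgroup.centralizer (Q : Set G))).index := by
    rw [← Subgroup.relIndex_sup_right, hsup, Subgroup.relIndex_top_right]
  have hidx : ∃ k : ℕ, ((Subgroup.centralizer (Q : Set G)).subgroupOf
      (Q ⊔ Subgroup.centralizer (Q : Set G))).index = p ^ k := by
    obtain ⟨n, hn⟩ := IsPGroup.iff_card.mp hQ'p
    have hdvd := Subgroup.relIndex_dvd_card ((Subgroup.centralizer (Q : Set G)).subgroupOf
      (Q ⊔ Subgroup.centralizer (Q : Set G)))
      (Q.subgroupOf (Q ⊔ Subgroup.centralizer (Q : Set G)))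
    rw [hrelQ, hn] at hdvd
    obtain ⟨k, -, hk⟩ := (Nat.dvd_prime_pow hp).mp hdvd
    exact ⟨k, hk⟩
  refine ⟨?_, hidx⟩
  obtain ⟨h1, h2⟩ := defect_of_stable_pindex hM _ hidx _ hc' hstab F' hF' hBc D hD
  have h3 := isDefectGroup_pullBlock (Subgroup.subgroupOfEquivOfLe hCL) hZ
  have heq : ((Q ⊓ Subgroup.centralizer (Q : Set G)).subgroupOf
      (Subgroup.centralizer (Q : Set G))).comap
        (Subgroup.subgroupOfEquivOfLe hCL).toMonoidHom =
      (Q.subgroupOf (Q ⊔ Subgroup.centralizer (Q : Set G)) ⊓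
        (Subgroup.centralizer (Q : Set G)).subgroupOf
          (Q ⊔ Subgroup.centralizer (Q : Set G))).subgroupOf
        ((Subgroup.centralizer (Q : Set G)).subgroupOf
          (Q ⊔ Subgroup.centralizer (Q : Set G))) := by
    ext n
    simp only [Subgroup.mem_comap, Subgroup.mem_subgroupOf, Subgroup.mem_inf]
    rfl
  rw [heq] at h3
  have hc1 := card_defectGroup hM hc' h2
  have hc2 := card_defectGroup hM hc' h3
  have hcard : ∀ X : Subgroup ↥(Q ⊔ Subgroup.centralizer (Q : Set G)),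
      Nat.card ((X ⊓ (Subgroup.centralizer (Q : Set G)).subgroupOf
        (Q ⊔ Subgroup.centralizer (Q : Set G))).subgroupOf
        ((Subgroup.centralizer (Q : Set G)).subgroupOf
          (Q ⊔ Subgroup.centralizer (Q : Set G)))) =
      Nat.card ((X ⊓ (Subgroup.centralizer (Q : Set G)).subgroupOf
        (Q ⊔ Subgroup.centralizer (Q : Set G)) : Subgroup _)) :=
    fun X => Nat.card_congr (Subgroup.subgroupOfEquivOfLe inf_le_right).toEquiv
  rw [hcard] at hc1 hc2
  have hrelD : ((Subgroup.centralizer (Q : Set G)).subgroupOf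
      (Q ⊔ Subgroup.centralizer (Q : Set G))).relIndex D =
      ((Subgroup.centralizer (Q : Set G)).subgroupOf
        (Q ⊔ Subgroup.centralizer (Q : Set G))).index := by
    rw [← Subgroup.relIndex_sup_right, sup_comm D, h1, Subgroup.relIndex_top_right]
  have hQD : Q.subgroupOf (Q ⊔ Subgroup.centralizer (Q : Set G)) ≤ D := by
    refine le_trans ?_ (Cfsg.Agent.S0912.result p M hM F' hF' D hD)
    exact le_sSup ⟨hQ'n, hQ'p⟩
  have hD1 := card_inf_mul_relIndex ((Subgroup.centralizer (Q : Set G)).subgroupOf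
      (Q ⊔ Subgroup.centralizer (Q : Set G))) D
  have hQ1 := card_inf_mul_relIndex ((Subgroup.centralizer (Q : Set G)).subgroupOf
      (Q ⊔ Subgroup.centralizer (Q : Set G)))
      (Q.subgroupOf (Q ⊔ Subgroup.centralizer (Q : Set G)))
  rw [hrelD, inf_comm, hc1] at hD1
  rw [hrelQ, inf_comm, hc2] at hQ1
  exact (Subgroup.eq_of_le_of_card_ge hQD (by rw [← hD1, ← hQ1])).symm

/-- **The block of `Q · C_G(Q)` over a block of `C_G(Q)` with defect group `Z(Q)` is nilpotent.** -/
theorem isNilpotentBlock_of_center (hM : IsPModular p M) (Q : Subgroup G) (hQ : IsPGroup p Q)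
    (f : Set (IrrCharacter (Subgroup.centralizer (Q : Set G)))) (hf : IsPBlock M f)
    (hZ : IsDefectGroup p M f ((Q ⊓ Subgroup.centralizer (Q : Set G)).subgroupOf
      (Subgroup.centralizer (Q : Set G))))
    (F' : Set (IrrCharacter ↥(Q ⊔ Subgroup.centralizer (Q : Set G)))) (hF' : IsPBlock M F')
    (hFc : ∀ t : ↥(Q ⊔ Subgroup.centralizer (Q : Set G)), blockCoeff F' t =
      subgroupBlockCoeff (Subgroup.centralizer (Q : Set G)) f (t : G)) :
    IsNilpotentBlock p M F' := by
  classical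
  have hp : p.Prime := Fact.out
  have : Fintype ↥(Q ⊔ Subgroup.centralizer (Q : Set G)) := Fintype.ofFinite _
  have hCL : Subgroup.centralizer (Q : Set G) ≤ Q ⊔ Subgroup.centralizer (Q : Set G) :=
    le_sup_right
  have hLN : Q ⊔ Subgroup.centralizer (Q : Set G) ≤ Subgroup.normalizer (Q : Set G) :=
    sup_le Subgroup.le_normalizer (Subgroup.centralizer_le_normalizer _)
  have hNn : ((Subgroup.centralizer (Q : Set G)).subgroupOf
      (Q ⊔ Subgroup.centralizer (Q : Set G))).Normal :=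
    (Subgroup.normal_subgroupOf_iff_le_normalizer hCL).mpr (le_normalizer_centralizer hLN)
  refine ⟨hF', ?_⟩
  intro R' g' hRg x hxN hxst hreg
  obtain ⟨c, hcmax, hle⟩ := exists_maximal_above F' _ ⟨R', g'⟩ hRg rfl
  have hcD := isDefectGroup_of_isMaximalBrauerPair hM F' c.1 c.2 hcmax
  obtain ⟨hcQ, k, hk⟩ := defectGroup_eq_of_center hM Q hQ f hf hZ F' hF' hFc c.1 hcD
  have hRQ : R' ≤ Q.subgroupOf (Q ⊔ Subgroup.centralizer (Q : Set G)) :=
    hcQ ▸ fst_le_of_reflTransGen _ _ hle
  have hxk : x ^ (p ^ k) ∈ (Subgroup.centralizer (Q : Set G)).subgroupOf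
      (Q ⊔ Subgroup.centralizer (Q : Set G)) := hk ▸ Subgroup.pow_index_mem _ x
  have hcop : (p ^ k).Coprime (orderOf x) :=
    Nat.Coprime.pow_left k ((Nat.Prime.coprime_iff_not_dvd hp).mpr hreg)
  obtain ⟨m, hm⟩ := exists_pow_eq_self_of_coprime hcop
  have hxN' : x ∈ (Subgroup.centralizer (Q : Set G)).subgroupOf
      (Q ⊔ Subgroup.centralizer (Q : Set G)) := hm ▸ Subgroup.pow_mem _ hxk m
  rw [Subgroup.mem_centralizer_iff]
  intro r hr
  have hrQ : (r : G) ∈ Q := Subgroup.mem_subgroupOf.mp (hRQ hr)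
  have := (Subgroup.mem_centralizer_iff.mp (Subgroup.mem_subgroupOf.mp hxN')) (r : G) hrQ
  exact Subtype.ext this

end Cfsg.Agent.Helper23.CS
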