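import Mathlib
import Cfsg.Prelude.Def_Blocks
import Cfsg.Prelude.Def_BlockLocal
import Cfsg.Prelude.Def_BrauerPairs
import Cfsg.Prelude.Def_BlockFusion
import Cfsg.Agent.Helper23.CentricStab

set_option autoImplicit false
set_option linter.unusedSectionVars false
set_option linter.unusedVariables false

/-!
# The fusion system of a block on a maximal Brauer pair: existence
-/

namespace Cfsg.Agent.Helper23.BFS

open Cfsg Cfsg.Agent.Helper24 Cfsg.Agent.Helper5 Cfsg.Agent.Helper5.Loc Cfsg.Agent.Helper5.CC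
open Cfsg.Agent.Helper14
open Cfsg.Agent.Helper23.BT Cfsg.Agent.Helper23.IC Cfsg.Agent.Helper23.TM
open Cfsg.Agent.Helper23.SB
open Cfsg.Agent.Helper23.SP Cfsg.Agent.Helper23.SU Cfsg.Agent.Helper23.PP
open Cfsg.Agent.Helper23.MP Cfsg.Agent.Helper23.PC Cfsg.Agent.Helper23.BC
open Cfsg.Agent.Helper23.MC Cfsg.Agent.Helper23.LD Cfsg.Agent.Helper23.ST
open Cfsg.Agent.Helper23.BF Cfsg.Agent.Helper23.RP Cfsg.Agent.Helper23.AD
open Cfsg.Agent.Helper23.NS Cfsg.Agent.Helper23.NPI Cfsg.Agent.Helper23.II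
open Cfsg.Agent.Helper23.CS

variable {G : Type*} [Group G] [Fintype G] {M : Ideal AlgInt} {p : ℕ} [Fact p.Prime]

/-- A pair is fixed under conjugation by the elements of its subgroup. -/
theorem cjPair_eq_of_mem (P : Subgroup G)
    (e : Set (IrrCharacter (Subgroup.centralizer (P : Set G)))) {g : G} (hg : g ∈ P) :
    cjPair g (⟨P, e⟩ : BrauerPairIdx G) = ⟨P, e⟩ :=
  cjPair_eq_self P e g (Subgroup.le_normalizer hg)
    (stabilizesBlock_of_mem_sup P e g⁻¹ (Subgroup.mem_sup_left (P.inv_mem hg)))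

/-- Conjugating a subpair of `(P, e)` by an element of `P`. -/
theorem subpairLE_conj_of_mem {P Q : Subgroup G}
    {e : Set (IrrCharacter (Subgroup.centralizer (P : Set G)))}
    {f : Set (IrrCharacter (Subgroup.centralizer (Q : Set G)))}
    (hle : SubpairLE p M Q f P e) {g : G} (hg : g ∈ P) :
    SubpairLE p M (Q.map (MulAut.conj g).toMonoidHom) (conjBlock Q g f) P e := by
  have h := reflTransGen_conj (M := M) (p := p) g hle
  rw [cjPair_eq_of_mem P e hg] at h
  exact h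

omit [Fintype G] [Fact p.Prime] in
theorem map_conj_map_conj (Q : Subgroup G) (k g : G) :
    (Q.map (MulAut.conj g).toMonoidHom).map (MulAut.conj k).toMonoidHom =
      Q.map (MulAut.conj (k * g)).toMonoidHom := by
  rw [Subgroup.map_map]
  congr 1
  ext t
  simp [MulAut.conj_apply, mul_assoc]

omit [Fintype G] [Fact p.Prime] in
theorem map_conj_inv_map_conj (Q : Subgroup G) (g : G) :
    (Q.map (MulAut.conj g).toMonoidHom).map (MulAut.conj g⁻¹).toMonoidHom = Q := by
  rw [map_conj_map_conj, inv_mul_cancel]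
  ext t
  rw [mem_map_conj_iff]
  simp

omit [Fintype G] [Fact p.Prime] in
theorem range_eq_map_conj {Q : Subgroup G} {φ : Q →* G} {g : G}
    (hφ : ∀ u : Q, φ u = g * (u : G) * g⁻¹) :
    φ.range = Q.map (MulAut.conj g).toMonoidHom := by
  ext y
  constructor
  · rintro ⟨u, rfl⟩
    exact ⟨(u : G), u.2, (hφ u).symm⟩
  · rintro ⟨q, hq, rfl⟩
    exact ⟨⟨q, hq⟩, hφ ⟨q, hq⟩⟩

/-- The inverse of a map of the block fusion system. -/
theorem inv_aux {P Q : Subgroup G}
    {e : Set (IrrCharacter (Subgroup.centralizer (P : Set G)))}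
    {f : Set (IrrCharacter (Subgroup.centralizer (Q : Set G)))} {g : G}
    (hQP : Q ≤ P) (hg : Q.map (MulAut.conj g).toMonoidHom ≤ P)
    (h1 : SubpairLE p M Q f P e)
    (h2 : SubpairLE p M (Q.map (MulAut.conj g).toMonoidHom) (conjBlock Q g f) P e)
    (Q'' : Subgroup G) (hQ'' : Q'' = Q.map (MulAut.conj g).toMonoidHom) :
    Q'' ≤ P ∧ Q''.map (MulAut.conj g⁻¹).toMonoidHom ≤ P ∧
      ∃ f'' : Set (IrrCharacter (Subgroup.centralizer (Q'' : Set G))),
        SubpairLE p M Q'' f'' P e ∧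
          SubpairLE p M (Q''.map (MulAut.conj g⁻¹).toMonoidHom) (conjBlock Q'' g⁻¹ f'') P e := by
  subst hQ''
  refine ⟨hg, ?_, conjBlock Q g f, h2, ?_⟩
  · rw [map_conj_inv_map_conj]
    exact hQP
  · have : cjPair g⁻¹ (cjPair g (⟨Q, f⟩ : BrauerPairIdx G)) = ⟨Q, f⟩ := by
      rw [cjPair_mul, inv_mul_cancel, cjPair_one]
    show Relation.ReflTransGen (NormalSubpairRel p M)
      (cjPair g⁻¹ (cjPair g (⟨Q, f⟩ : BrauerPairIdx G))) ⟨P, e⟩
    rw [this]
    exact h1

/-- **The fusion system of a block on a maximal Brauer pair exists.** -/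
theorem exists_blockFusionSystem (hM : IsPModular p M) (B : Set (IrrCharacter G))
    (P : Subgroup G) (e : Set (IrrCharacter (Subgroup.centralizer (P : Set G))))
    (hmax : IsMaximalBrauerPair p M B P e) :
    ∃ F : FusionSystem P, IsBlockFusionSystemOn p M B P e F := by
  have hPe := hmax.1.1
  refine ⟨{ Hom := fun Q => {φ | Q ≤ P ∧ ∃ g : G, (∀ u : Q, φ u = g * (u : G) * g⁻¹) ∧
              Q.map (MulAut.conj g).toMonoidHom ≤ P ∧
              ∃ f : Set (IrrCharacter (Subgroup.centralizer (Q : Set G))),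
                SubpairLE p M Q f P e ∧
                  SubpairLE p M (Q.map (MulAut.conj g).toMonoidHom) (conjBlock Q g f) P e}
            le_of_mem := ?_
            injective_of_mem := ?_
            conj_mem := ?_
            comp_mem := ?_
            inv_mem := ?_ }, hmax, fun Q φ => Iff.rfl⟩
  · rintro Q φ ⟨hQP, g, hφ, hg, -⟩
    refine ⟨hQP, fun x => ?_⟩
    rw [hφ]
    exact hg ⟨(x : G), x.2, rfl⟩
  · rintro Q φ ⟨-, g, hφ, -⟩ a b hab
    have h : g * (a : G) * g⁻¹ = g * (b : G) * g⁻¹ := ((hφ a).symm.trans hab).trans (hφ b)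
    exact Subtype.ext (mul_left_cancel (mul_right_cancel h))
  · intro Q g hQP hg
    obtain ⟨f, -, hle⟩ := (existsUnique_subpair hM P Q e hPe hQP).exists
    refine ⟨hQP, g, fun u => rfl, ?_, f, hle, subpairLE_conj_of_mem hle hg⟩
    rintro _ ⟨q, hq, rfl⟩
    exact P.mul_mem (P.mul_mem hg (hQP hq)) (P.inv_mem hg)
  · rintro Q R φ ψ ⟨hQP, g, hφ, hg, f, h1, h2⟩ ⟨hRP, k, hψ, hk, fR, h3, h4⟩ h
    have hQR : Q.map (MulAut.conj g).toMonoidHom ≤ R := by
      rintro _ ⟨q, hq, rfl⟩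
      have := h ⟨q, hq⟩
      rwa [hφ] at this
    refine ⟨hQP, k * g, fun u => ?_, ?_, f, h1, ?_⟩
    · show ψ (φ.codRestrict R h u) = k * g * (u : G) * (k * g)⁻¹
      rw [hψ]
      show k * φ u * k⁻¹ = _
      rw [hφ, mul_inv_rev]
      simp only [mul_assoc]
    · rw [← map_conj_map_conj]
      exact (Subgroup.map_mono hQR).trans hk
    · have h5 : Relation.ReflTransGen (NormalSubpairRel p M)
          (cjPair g (⟨Q, f⟩ : BrauerPairIdx G)) ⟨R, fR⟩ :=
        subpairLE_of_le_of_le hM (a := cjPair g (⟨Q, f⟩ : BrauerPairIdx G)) (b := ⟨R, fR⟩)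
          (c := ⟨P, e⟩) h2 h3 hPe hQR
      have h6 := reflTransGen_conj (M := M) (p := p) k h5
      rw [cjPair_mul] at h6
      exact h6.trans h4
  · rintro Q φ ⟨hQP, g, hφ, hg, f, h1, h2⟩
    obtain ⟨hr1, hr2, f'', hr3, hr4⟩ := inv_aux hQP hg h1 h2 φ.range (range_eq_map_conj hφ)
    refine ⟨conjHom φ.range g⁻¹, ⟨hr1, g⁻¹, fun u => rfl, hr2, f'', hr3, hr4⟩, ?_⟩
    intro x
    show g⁻¹ * φ x * g⁻¹⁻¹ = x
    rw [hφ, inv_inv]
    simp only [mul_assoc, inv_mul_cancel, mul_one, inv_mul_cancel_left]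

end Cfsg.Agent.Helper23.BFS
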