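import Mathlib
import Cfsg.Prelude.Def_Blocks
import Cfsg.Prelude.Def_BlockLocal
import Cfsg.Prelude.Def_BrauerPairs
import Cfsg.Prelude.Def_BlockFusion
import Cfsg.Agent.Helper23.BlockFusionSys
import Cfsg.Agent.Helper25.FusionSat

set_option autoImplicit false
set_option linter.unusedSectionVars false
set_option linter.unusedVariables false

/-!
# The fusion system of a block: fully normalized subgroups are fully automized
-/

namespace Cfsg.Agent.Helper23.BFA

open Cfsg Cfsg.Agent.Helper24 Cfsg.Agent.Helper5 Cfsg.Agent.Helper5.Loc Cfsg.Agent.Helper5.CC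
open Cfsg.Agent.Helper14
open Cfsg.Agent.Helper23.BT Cfsg.Agent.Helper23.IC Cfsg.Agent.Helper23.TM
open Cfsg.Agent.Helper23.SB
open Cfsg.Agent.Helper23.SP Cfsg.Agent.Helper23.SU Cfsg.Agent.Helper23.PP
open Cfsg.Agent.Helper23.MP Cfsg.Agent.Helper23.PC Cfsg.Agent.Helper23.BC
open Cfsg.Agent.Helper23.MC Cfsg.Agent.Helper23.LD Cfsg.Agent.Helper23.ST
open Cfsg.Agent.Helper23.BF Cfsg.Agent.Helper23.RP Cfsg.Agent.Helper23.AD
open Cfsg.Agent.Helper23.NS Cfsg.Agent.Helper23.NPI Cfsg.Agent.Helper23.II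
open Cfsg.Agent.Helper23.CS Cfsg.Agent.Helper23.BFS

variable {G : Type*} [Group G] [Fintype G] {M : Ideal AlgInt} {p : ℕ} [Fact p.Prime]

/-- An element fixing a pair under conjugation stabilizes it. -/
theorem mem_stabSubgroup_of_cjPair_eq (Q : Subgroup G)
    (f : Set (IrrCharacter (Subgroup.centralizer (Q : Set G)))) (g : G)
    (h : cjPair g (⟨Q, f⟩ : BrauerPairIdx G) = ⟨Q, f⟩) : g ∈ stabSubgroup Q f := by
  have h1 : Q.map (MulAut.conj g).toMonoidHom = Q := congrArg Sigma.fst h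
  have hgN : g ∈ Subgroup.normalizer (Q : Set G) :=
    Subgroup.mem_normalizer_iff_map_conj_eq.mpr h1
  have hnK : g⁻¹ ∈ Subgroup.normalizer
      ((Subgroup.centralizer (Q : Set G) : Subgroup G) : Set G) :=
    le_normalizer_centralizer (le_refl _) (Subgroup.inv_mem _ hgN)
  rw [cjPair_eq_of_mem_normalizer Q g hgN hnK f] at h
  have h2 : pullBlock (conjEquiv (Subgroup.centralizer (Q : Set G)) g⁻¹ hnK).symm f = f :=
    eq_of_heq (Sigma.mk.inj_iff.mp h).2
  have h3 : pullBlock (conjEquiv (Subgroup.centralizer (Q : Set G)) g⁻¹ hnK) f = f := by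
    conv_lhs => rw [← h2]
    have := pullBlock_symm_pullBlock
      (conjEquiv (Subgroup.centralizer (Q : Set G)) g⁻¹ hnK).symm f
    rwa [MulEquiv.symm_symm] at this
  have h4 : g⁻¹ ∈ stabSubgroup Q f :=
    (mem_stabSubgroup Q f _).mpr ⟨Subgroup.inv_mem _ hgN, stabilizesBlock_of_pullBlock_eq hnK h3⟩
  have := (stabSubgroup Q f).inv_mem h4
  rwa [inv_inv] at this

/-- The elements of the stabilizer fix the pair under conjugation. -/
theorem cjPair_eq_of_mem_stabSubgroup (Q : Subgroup G)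
    (f : Set (IrrCharacter (Subgroup.centralizer (Q : Set G)))) {g : G}
    (hg : g ∈ stabSubgroup Q f) : cjPair g (⟨Q, f⟩ : BrauerPairIdx G) = ⟨Q, f⟩ :=
  cjPair_eq_self Q f g ((mem_stabSubgroup Q f g).mp hg).1
    ((mem_stabSubgroup Q f _).mp ((stabSubgroup Q f).inv_mem hg)).2

/-- **The automorphism group of `Q` in the fusion system of a block is induced by the stabilizer
of the pair `(Q, f)`.** -/
theorem mem_autGroup_iff' (hM : IsPModular p M) {B : Set (IrrCharacter G)} {P : Subgroup G}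
    {e : Set (IrrCharacter (Subgroup.centralizer (P : Set G)))} {F : FusionSystem P}
    (hF : IsBlockFusionSystemOn p M B P e F) {Q : Subgroup G}
    {f : Set (IrrCharacter (Subgroup.centralizer (Q : Set G)))} (hQP : Q ≤ P)
    (hf : IsPBlock M f) (hle : SubpairLE p M Q f P e) (α : MulAut Q) :
    α ∈ F.autGroup Q ↔
      ∃ t ∈ stabSubgroup Q f, ∀ u : Q, ((α u : Q) : G) = t * (u : G) * t⁻¹ := by
  have hPe := hF.1.1.1
  rw [Cfsg.Agent.Helper25.mem_autGroup_iff F hQP, hF.2]
  constructor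
  · rintro ⟨-, g, hα, hg, f₁, h1, h2⟩
    have hα' : ∀ u : Q, ((α u : Q) : G) = g * (u : G) * g⁻¹ := hα
    have hf₁ : IsPBlock M f₁ :=
      (isBrauerPair_of_reflTransGen (a := ⟨Q, f₁⟩) (c := ⟨P, e⟩) h1 hPe).2
    have hff : f₁ = f := (existsUnique_subpair hM P Q e hPe hQP).unique ⟨hf₁, h1⟩ ⟨hf, hle⟩
    subst hff
    have hQg : Q.map (MulAut.conj g).toMonoidHom = Q := by
      ext y
      constructor
      · rintro ⟨q, hq, rfl⟩
        have := hα' ⟨q, hq⟩
        show g * q * g⁻¹ ∈ Q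
        rw [← this]
        exact (α ⟨q, hq⟩).2
      · intro hy
        refine ⟨(α.symm ⟨y, hy⟩ : Q), (α.symm ⟨y, hy⟩).2, ?_⟩
        have := hα' (α.symm ⟨y, hy⟩)
        rw [MulEquiv.apply_symm_apply] at this
        exact this.symm
    have h3 : cjPair g (⟨Q, f₁⟩ : BrauerPairIdx G) = ⟨Q, f₁⟩ :=
      subpair_unique hM _ (cjPair g (⟨Q, f₁⟩ : BrauerPairIdx G)) ⟨Q, f₁⟩ ⟨P, e⟩ hPe rfl hQg h2 h1
    exact ⟨g, mem_stabSubgroup_of_cjPair_eq Q f₁ g h3, hα'⟩
  · rintro ⟨t, ht, hα⟩
    have h3 := cjPair_eq_of_mem_stabSubgroup Q f ht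
    have hQt : Q.map (MulAut.conj t).toMonoidHom = Q := congrArg Sigma.fst h3
    refine ⟨hQP, t, hα, hQt.le.trans hQP, f, hle, ?_⟩
    show Relation.ReflTransGen (NormalSubpairRel p M) (cjPair t (⟨Q, f⟩ : BrauerPairIdx G)) ⟨P, e⟩
    rw [h3]
    exact hle

/-- **Fully normalized subgroups are fully automized** in the fusion system of a block. -/
theorem isFullyAutomized_of_isFullyNormalized (hM : IsPModular p M) (B : Set (IrrCharacter G))
    (P : Subgroup G) (e : Set (IrrCharacter (Subgroup.centralizer (P : Set G))))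
    (hmax : IsMaximalBrauerPair p M B P e) (F : FusionSystem P)
    (hF : IsBlockFusionSystemOn p M B P e F) (Q : Subgroup G)
    (f : Set (IrrCharacter (Subgroup.centralizer (Q : Set G)))) (hQP : Q ≤ P)
    (hf : IsPBlock M f) (hle : SubpairLE p M Q f P e) (hfn : F.IsFullyNormalized Q) :
    F.IsFullyAutomized p Q := by
  classical
  have hPe := hmax.1.1
  have hT := mem_stabSubgroup Q f
  obtain ⟨-, hCT, hTN⟩ := stab_basic Q f (stabSubgroup Q f) hT
  obtain ⟨F', hF', hFc, hD⟩ :=
    (isFullyNormalized_iff hM B P e hmax F hF Q f hQP hf hle (stabSubgroup Q f) hT).mp hfn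
  have hidx := not_dvd_index_stab hM Q f hf (stabSubgroup Q f) hT F' hF' hFc _ hD
  -- the action of the stabilizer on `Q`
  have hval : ∀ t : stabSubgroup Q f,
      (Q.normalizerMonoidHom.comp (Subgroup.inclusion hTN)) t ∈ F.autGroup Q := by
    intro t
    exact (mem_autGroup_iff' hM hF hQP hf hle _).mpr ⟨(t : G), t.2, fun u => rfl⟩
  let ν : stabSubgroup Q f →* F.autGroup Q :=
    (Q.normalizerMonoidHom.comp (Subgroup.inclusion hTN)).codRestrict (F.autGroup Q) hval
  have hν : ∀ (t : stabSubgroup Q f) (u : Q),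
      ((((ν t : F.autGroup Q) : MulAut Q) u : Q) : G) = (t : G) * (u : G) * (t : G)⁻¹ :=
    fun t u => rfl
  have hsurj : Function.Surjective ν := by
    rintro ⟨α, hα⟩
    obtain ⟨t, ht, hαt⟩ := (mem_autGroup_iff' hM hF hQP hf hle α).mp hα
    refine ⟨⟨t, ht⟩, ?_⟩
    apply Subtype.ext
    ext u
    rw [hν]
    exact (hαt u).symm
  have hker : ν.ker ≤ (Subgroup.centralizer (Q : Set G)).subgroupOf (stabSubgroup Q f) := by
    intro t ht
    rw [MonoidHom.mem_ker] at ht
    rw [Subgroup.mem_subgroupOf, Subgroup.mem_centralizer_iff]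
    intro u hu
    have h1 := hν t ⟨u, hu⟩
    rw [ht] at h1
    have h2 : u = (t : G) * u * (t : G)⁻¹ := h1
    calc u * (t : G) = ((t : G) * u * (t : G)⁻¹) * (t : G) := by rw [← h2]
      _ = (t : G) * u := by group
  have hCker : (Subgroup.centralizer (Q : Set G)).subgroupOf (stabSubgroup Q f) ≤ ν.ker := by
    intro t ht
    rw [MonoidHom.mem_ker]
    apply Subtype.ext
    ext u
    rw [hν]
    have := (Subgroup.mem_centralizer_iff.mp (Subgroup.mem_subgroupOf.mp ht)) (u : G) u.2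
    show (t : G) * (u : G) * (t : G)⁻¹ = (u : G)
    rw [← this]
    group
  have hmap : (((P ⊓ Subgroup.normalizer (Q : Set G)).subgroupOf (stabSubgroup Q f)) ⊔
      (Subgroup.centralizer (Q : Set G)).subgroupOf (stabSubgroup Q f)).map ν =
      (autInducedBy P Q).subgroupOf (F.autGroup Q) := by
    apply le_antisymm
    · rw [Subgroup.map_le_iff_le_comap]
      apply sup_le
      · intro t ht
        rw [Subgroup.mem_comap, Subgroup.mem_subgroupOf]
        apply Subgroup.subset_closure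
        exact ⟨(t : G), (Subgroup.mem_subgroupOf.mp ht).1, fun u => rfl⟩
      · intro t ht
        rw [Subgroup.mem_comap]
        have := hCker ht
        rw [MonoidHom.mem_ker] at this
        rw [this]
        exact Subgroup.one_mem _
    · rintro ⟨β, hβ⟩ hβ'
      have hβ'' : β ∈ autInducedBy P Q := hβ'
      rw [Cfsg.Agent.Helper25.autInducedBy_eq_map] at hβ''
      obtain ⟨n, hn, rfl⟩ := hβ''
      have hnP : (n : G) ∈ P := hn
      have hnT : (n : G) ∈ stabSubgroup Q f :=
        (hT _).mpr ⟨n.2, stabilizesBlock_of_mem_normalizerIn hM P Q e f hPe hQP hle _ ⟨hnP, n.2⟩⟩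
      refine ⟨⟨(n : G), hnT⟩, Subgroup.mem_sup_left ?_, ?_⟩
      · exact Subgroup.mem_subgroupOf.mpr ⟨hnP, n.2⟩
      · apply Subtype.ext
        ext u
        rfl
  have hindex : ((autInducedBy P Q).subgroupOf (F.autGroup Q)).index =
      (((P ⊓ Subgroup.normalizer (Q : Set G)).subgroupOf (stabSubgroup Q f)) ⊔
      (Subgroup.centralizer (Q : Set G)).subgroupOf (stabSubgroup Q f)).index := by
    rw [← hmap]
    exact Subgroup.index_map_eq _ hsurj (hker.trans le_sup_right)
  have hpg : IsPGroup p ((autInducedBy P Q).subgroupOf (F.autGroup Q)) :=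
    (Cfsg.Agent.Helper25.autInducedBy_isPGroup hPe.1 Q).comap_subtype
  exact ⟨hQP, hpg.toSylow (by rw [hindex]; exact hidx), rfl⟩

end Cfsg.Agent.Helper23.BFA
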