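import Mathlib
import Cfsg.Prelude.Def_Blocks
import Cfsg.Prelude.Def_BlockLocal
import Cfsg.Prelude.Def_BrauerPairs
import Cfsg.Agent.Helper23.CentricStab

set_option autoImplicit false
set_option linter.unusedSectionVars false
set_option linter.unusedVariables false

/-!
# Translating Brauer pairs between `G` and a subgroup `L` containing the centralizers
-/

namespace Cfsg.Agent.Helper23.DP

open Cfsg Cfsg.Agent.Helper24 Cfsg.Agent.Helper5 Cfsg.Agent.Helper5.Loc Cfsg.Agent.Helper5.CC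
open Cfsg.Agent.Helper14
open Cfsg.Agent.Helper23.BT Cfsg.Agent.Helper23.IC Cfsg.Agent.Helper23.TM
open Cfsg.Agent.Helper23.SB
open Cfsg.Agent.Helper23.SP Cfsg.Agent.Helper23.SU Cfsg.Agent.Helper23.PP
open Cfsg.Agent.Helper23.MP Cfsg.Agent.Helper23.PC Cfsg.Agent.Helper23.BC
open Cfsg.Agent.Helper23.MC Cfsg.Agent.Helper23.LD Cfsg.Agent.Helper23.ST
open Cfsg.Agent.Helper23.BF Cfsg.Agent.Helper23.RP Cfsg.Agent.Helper23.AD
open Cfsg.Agent.Helper23.NS Cfsg.Agent.Helper23.NPI Cfsg.Agent.Helper23.II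
open Cfsg.Agent.Helper23.CS

variable {G : Type*} [Group G] [Fintype G] {M : Ideal AlgInt} {p : ℕ} [Fact p.Prime]

/-- Translation of a pair of `G` on a subgroup `Y ≤ L` with `C_G(Y) ≤ L` to a pair of `L`. -/
noncomputable def downPair (L : Subgroup G) (a : BrauerPairIdx G) (h2 : a.1 ≤ L)
    (hC : Subgroup.centralizer (a.1 : Set G) ≤ L) : BrauerPairIdx L :=
  ⟨a.1.subgroupOf L, pullBlock (centEquiv a.1 L h2 hC) a.2⟩

omit [Fintype G] in
theorem mem_centralizer_subgroupOf_iff (Y L : Subgroup G) (hYL : Y ≤ L) (l : L) :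
    l ∈ Subgroup.centralizer ((Y.subgroupOf L : Subgroup L) : Set L) ↔
      (l : G) ∈ Subgroup.centralizer (Y : Set G) := by
  constructor
  · intro h
    rw [Subgroup.mem_centralizer_iff]
    intro y hy
    have := (Subgroup.mem_centralizer_iff.mp h) ⟨y, hYL hy⟩ (Subgroup.mem_subgroupOf.mpr hy)
    exact congrArg Subtype.val this
  · intro h
    rw [Subgroup.mem_centralizer_iff]
    intro y hy
    apply Subtype.ext
    exact (Subgroup.mem_centralizer_iff.mp h) (y : G) (Subgroup.mem_subgroupOf.mp hy)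

theorem coe_centEquiv_symm (Y L : Subgroup G) (hYL : Y ≤ L)
    (hC : Subgroup.centralizer (Y : Set G) ≤ L) (y : Subgroup.centralizer (Y : Set G)) :
    ((((centEquiv Y L hYL hC).symm y :
      Subgroup.centralizer ((Y.subgroupOf L : Subgroup L) : Set L)) : L) : G) = (y : G) := by
  have := coe_centEquiv Y L hYL hC ((centEquiv Y L hYL hC).symm y)
  rw [MulEquiv.apply_symm_apply] at this
  exact this.symm

/-- The idempotent of the translated block. -/
theorem coeff_down (Y L : Subgroup G) (hYL : Y ≤ L)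
    (hC : Subgroup.centralizer (Y : Set G) ≤ L)
    (e : Set (IrrCharacter (Subgroup.centralizer (Y : Set G)))) (l : L) :
    subgroupBlockCoeff (Subgroup.centralizer ((Y.subgroupOf L : Subgroup L) : Set L))
      (pullBlock (centEquiv Y L hYL hC) e) l =
    subgroupBlockCoeff (Subgroup.centralizer (Y : Set G)) e (l : G) := by
  classical
  rw [subgroupBlockCoeff_eq_ext0, subgroupBlockCoeff_eq_ext0]
  by_cases h : l ∈ Subgroup.centralizer ((Y.subgroupOf L : Subgroup L) : Set L)
  · rw [ext0_of_mem _ _ h, ext0_of_mem _ _ ((mem_centralizer_subgroupOf_iff Y L hYL l).mp h),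
      blockCoeff_pullBlock]
    rfl
  · rw [ext0_of_not_mem _ _ h,
      ext0_of_not_mem _ _ (fun h' => h ((mem_centralizer_subgroupOf_iff Y L hYL l).mpr h'))]

/-- A normal inclusion of translated pairs comes from a normal inclusion in `G`. -/
theorem isNormalSubpair_up (L : Subgroup G) (a b : BrauerPairIdx G) (ha2 : a.1 ≤ L)
    (haC : Subgroup.centralizer (a.1 : Set G) ≤ L) (hb2 : b.1 ≤ L)
    (hbC : Subgroup.centralizer (b.1 : Set G) ≤ L)
    (h : NormalSubpairRel p M (downPair L a ha2 haC) (downPair L b hb2 hbC)) :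
    NormalSubpairRel p M a b := by
  classical
  obtain ⟨Y₁, e₁⟩ := a
  obtain ⟨Y₂, e₂⟩ := b
  obtain ⟨⟨hp1, hb1⟩, ⟨hp2, hb2'⟩, hle, hnorm, hstab, hcond⟩ := h
  have : Fintype L := Fintype.ofFinite _
  have hY12 : Y₁ ≤ Y₂ := by
    intro y hy
    have := hle (Subgroup.mem_subgroupOf.mpr (show ((⟨y, ha2 hy⟩ : L) : G) ∈ Y₁ from hy))
    exact Subgroup.mem_subgroupOf.mp this
  have hN : Y₂ ≤ Subgroup.normalizer (Y₁ : Set G) := by
    intro x hx
    have hx' := hnorm (Subgroup.mem_subgroupOf.mpr (show ((⟨x, hb2 hx⟩ : L) : G) ∈ Y₂ from hx))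
    rw [Subgroup.mem_normalizer_iff] at hx' ⊢
    intro g
    constructor
    · intro hg
      have := (hx' ⟨g, ha2 hg⟩).mp (Subgroup.mem_subgroupOf.mpr hg)
      exact Subgroup.mem_subgroupOf.mp this
    · intro hg
      have hgL : g ∈ L := by
        have h1 := L.mul_mem (L.mul_mem (L.inv_mem (hb2 hx)) (ha2 hg)) (hb2 hx)
        have e1 : x⁻¹ * (x * g * x⁻¹) * x = g := by group
        rwa [e1] at h1
      have := (hx' ⟨g, hgL⟩).mpr (Subgroup.mem_subgroupOf.mpr hg)
      exact Subgroup.mem_subgroupOf.mp this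
  refine ⟨⟨?_, ?_⟩, ⟨?_, ?_⟩, hY12, hN, ?_, ?_⟩
  · exact hp1.of_equiv (Subgroup.subgroupOfEquivOfLe ha2)
  · exact (isPBlock_pullBlock_iff _ e₁).mp hb1
  · exact hp2.of_equiv (Subgroup.subgroupOfEquivOfLe hb2)
  · exact (isPBlock_pullBlock_iff _ e₂).mp hb2'
  · intro x hx
    have hx' : (⟨x, hb2 hx⟩ : L) ∈ Y₂.subgroupOf L := Subgroup.mem_subgroupOf.mpr hx
    have hst := hstab _ hx'
    have hK' := le_normalizer_centralizer (le_refl _) (hnorm hx')
    have hK : x ∈ Subgroup.normalizer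
        ((Subgroup.centralizer (Y₁ : Set G) : Subgroup G) : Set G) :=
      le_normalizer_centralizer (le_refl _) (hN hx)
    have h1 := pullBlock_eq_of_stabilizesBlock hK' hst
    have h2 := eq_pullBlock_conj_of_down Y₁ L ha2 haC ⟨x, hb2 hx⟩ hK' hK e₁ e₁ h1.symm
    exact stabilizesBlock_of_pullBlock_eq hK h2.symm
  · intro ξ hξ
    have h1 : MemLocalIdeal M (brauerOmega (Y₂.subgroupOf L)
        (subgroupBlockCoeff (Subgroup.centralizer ((Y₁.subgroupOf L : Subgroup L) : Set L))
          (pullBlock (centEquiv Y₁ L ha2 haC) e₁))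
        ((pullIrr (centEquiv Y₂ L hb2 hbC) ξ : IrrCharacter _) :
          Subgroup.centralizer ((Y₂.subgroupOf L : Subgroup L) : Set L) → ℂ) - 1) :=
      hcond (pullIrr (centEquiv Y₂ L hb2 hbC) ξ)
        ((pullIrr_mem_pullBlock_iff _ e₂ ξ).mpr hξ)
    rw [brauerOmega_centEquiv Y₂ L hb2 hbC
      (subgroupBlockCoeff (Subgroup.centralizer (Y₁ : Set G)) e₁) _
      (coeff_down Y₁ L ha2 haC e₁)] at h1
    exact h1

/-- Every pair of `L` above `Q` is the translation of a pair of `G`. -/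
theorem exists_eq_downPair (Q L : Subgroup G) (hQL : Q ≤ L)
    (hCL : Subgroup.centralizer (Q : Set G) ≤ L) (b : BrauerPairIdx L)
    (hQ : Q.subgroupOf L ≤ b.1) :
    ∃ (a : BrauerPairIdx G) (h1 : Q ≤ a.1) (h2 : a.1 ≤ L)
      (hC : Subgroup.centralizer (a.1 : Set G) ≤ L), b = downPair L a h2 hC := by
  obtain ⟨Y', e'⟩ := b
  have hYL : Y'.map L.subtype ≤ L := by
    rintro _ ⟨y, -, rfl⟩
    exact y.2
  have hQY : Q ≤ Y'.map L.subtype := by
    intro q hq
    exact ⟨⟨q, hQL hq⟩, hQ (Subgroup.mem_subgroupOf.mpr hq), rfl⟩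
  have hC : Subgroup.centralizer ((Y'.map L.subtype : Subgroup G) : Set G) ≤ L :=
    (Subgroup.centralizer_le hQY).trans hCL
  have key : ∀ (Y'' : Subgroup L) (hY : (Y'.map L.subtype).subgroupOf L = Y'')
      (e'' : Set (IrrCharacter (Subgroup.centralizer (Y'' : Set L)))),
      ∃ e : Set (IrrCharacter (Subgroup.centralizer ((Y'.map L.subtype : Subgroup G) : Set G))),
        (⟨Y'', e''⟩ : BrauerPairIdx L) =
          ⟨(Y'.map L.subtype).subgroupOf L, pullBlock (centEquiv _ L hYL hC) e⟩ := by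
    rintro Y'' rfl e''
    refine ⟨pullBlock (centEquiv _ L hYL hC).symm e'', ?_⟩
    have := pullBlock_symm_pullBlock (centEquiv _ L hYL hC).symm e''
    rw [MulEquiv.symm_symm] at this
    rw [this]
  obtain ⟨e, he⟩ := key Y' (subgroupOf_map_subtype' Y') e'
  exact ⟨⟨Y'.map L.subtype, e⟩, hQY, hYL, hC, he⟩

/-- The translation is injective. -/
theorem downPair_injective (L : Subgroup G) (a a' : BrauerPairIdx G) (h2 : a.1 ≤ L)
    (hC : Subgroup.centralizer (a.1 : Set G) ≤ L) (h2' : a'.1 ≤ L)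
    (hC' : Subgroup.centralizer (a'.1 : Set G) ≤ L)
    (h : downPair L a h2 hC = downPair L a' h2' hC') : a = a' := by
  obtain ⟨Y, e⟩ := a
  obtain ⟨Y', e'⟩ := a'
  have hY : Y.subgroupOf L = Y'.subgroupOf L := congrArg Sigma.fst h
  have hYY : Y = Y' := by
    have h1 : Y ≤ L := h2
    have h1' : Y' ≤ L := h2'
    rw [← map_subtype_subgroupOf h1, ← map_subtype_subgroupOf h1', hY]
  subst hYY
  have h3 : pullBlock (centEquiv Y L h2 hC) e = pullBlock (centEquiv Y L h2' hC') e' :=
    eq_of_heq (Sigma.mk.inj_iff.mp h).2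
  rw [pullBlock_injective _ h3]

/-- **Chains of pairs of `L` above a translated pair come from chains in `G`.** -/
theorem chain_up (Q L : Subgroup G) (hQL : Q ≤ L)
    (hCL : Subgroup.centralizer (Q : Set G) ≤ L) (a : BrauerPairIdx G) (h1 : Q ≤ a.1)
    (h2 : a.1 ≤ L) (hC : Subgroup.centralizer (a.1 : Set G) ≤ L) (b' : BrauerPairIdx L)
    (h : Relation.ReflTransGen (NormalSubpairRel p M) (downPair L a h2 hC) b') :
    ∃ (b : BrauerPairIdx G) (h1' : Q ≤ b.1) (h2' : b.1 ≤ L)
      (hC' : Subgroup.centralizer (b.1 : Set G) ≤ L), b' = downPair L b h2' hC' ∧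
        Relation.ReflTransGen (NormalSubpairRel p M) a b := by
  induction h with
  | refl => exact ⟨a, h1, h2, hC, rfl, Relation.ReflTransGen.refl⟩
  | @tail b₁ c hab hbc ih =>
    obtain ⟨b, hb1, hb2, hbC, rfl, hchain⟩ := ih
    have hQc : Q.subgroupOf L ≤ c.1 :=
      (Subgroup.comap_mono hb1 : Q.subgroupOf L ≤ b.1.subgroupOf L).trans hbc.2.2.1
    obtain ⟨c₀, hc1, hc2, hcC, rfl⟩ := exists_eq_downPair Q L hQL hCL c hQc
    exact ⟨c₀, hc1, hc2, hcC, rfl,
      hchain.tail (isNormalSubpair_up L b c₀ hb2 hbC hc2 hcC hbc)⟩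

/-- Chains between translated pairs come from chains in `G`. -/
theorem chain_up' (Q L : Subgroup G) (hQL : Q ≤ L)
    (hCL : Subgroup.centralizer (Q : Set G) ≤ L) (a b : BrauerPairIdx G) (h1 : Q ≤ a.1)
    (h2 : a.1 ≤ L) (hC : Subgroup.centralizer (a.1 : Set G) ≤ L)
    (h2' : b.1 ≤ L) (hC' : Subgroup.centralizer (b.1 : Set G) ≤ L)
    (h : Relation.ReflTransGen (NormalSubpairRel p M) (downPair L a h2 hC)
      (downPair L b h2' hC')) :
    Relation.ReflTransGen (NormalSubpairRel p M) a b := by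
  obtain ⟨b₀, -, hb2, hbC, heq, hchain⟩ := chain_up Q L hQL hCL a h1 h2 hC _ h
  rw [downPair_injective L b b₀ h2' hC' hb2 hbC heq]
  exact hchain

/-- **Translation commutes with conjugation by elements of `L`.** -/
theorem downPair_cjPair_aux (L : Subgroup G) (z : L) (Y : Subgroup G)
    (e : Set (IrrCharacter (Subgroup.centralizer (Y : Set G)))) (h2 : Y ≤ L)
    (hC : Subgroup.centralizer (Y : Set G) ≤ L)
    (h2' : Y.map (MulAut.conj (z : G)).toMonoidHom ≤ L)
    (hC' : Subgroup.centralizer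
      ((Y.map (MulAut.conj (z : G)).toMonoidHom : Subgroup G) : Set G) ≤ L) :
    downPair L (cjPair (z : G) (⟨Y, e⟩ : BrauerPairIdx G)) h2' hC' =
      cjPair z (downPair L (⟨Y, e⟩ : BrauerPairIdx G) h2 hC) := by
  apply pairIdx_ext
  · show (Y.map (MulAut.conj (z : G)).toMonoidHom).subgroupOf L =
      (Y.subgroupOf L).map (MulAut.conj z).toMonoidHom
    ext l
    rw [Subgroup.mem_subgroupOf, mem_map_conj_iff, mem_map_conj_iff, Subgroup.mem_subgroupOf]
    rfl
  · show ∀ (ξ₁ : IrrCharacter (Subgroup.centralizer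
        (((Y.map (MulAut.conj (z : G)).toMonoidHom).subgroupOf L : Subgroup L) : Set L)))
      (ξ₂ : IrrCharacter (Subgroup.centralizer
        (((Y.subgroupOf L).map (MulAut.conj z).toMonoidHom : Subgroup L) : Set L))),
      (∀ (t : L) (h₁ : t ∈ Subgroup.centralizer
          (((Y.map (MulAut.conj (z : G)).toMonoidHom).subgroupOf L : Subgroup L) : Set L))
        (h₂ : t ∈ Subgroup.centralizer
          (((Y.subgroupOf L).map (MulAut.conj z).toMonoidHom : Subgroup L) : Set L)),
        (ξ₁ : Subgroup.centralizer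
          (((Y.map (MulAut.conj (z : G)).toMonoidHom).subgroupOf L : Subgroup L) : Set L) → ℂ)
            ⟨t, h₁⟩ =
        (ξ₂ : Subgroup.centralizer
          (((Y.subgroupOf L).map (MulAut.conj z).toMonoidHom : Subgroup L) : Set L) → ℂ)
            ⟨t, h₂⟩) →
      (ξ₁ ∈ pullBlock (centEquiv (Y.map (MulAut.conj (z : G)).toMonoidHom) L h2' hC')
        (conjBlock Y (z : G) e) ↔
      ξ₂ ∈ conjBlock (Y.subgroupOf L) z (pullBlock (centEquiv Y L h2 hC) e))
    intro ξ₁ ξ₂ hξ
    rw [conjBlock_eq_pullBlock, conjBlock_eq_pullBlock, mem_pullBlock_iff, mem_pullBlock_iff,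
      mem_pullBlock_iff, mem_pullBlock_iff]
    have key : pullIrr (centralizerConjEquiv Y (z : G)).symm
        (pullIrr (centEquiv (Y.map (MulAut.conj (z : G)).toMonoidHom) L h2' hC').symm ξ₁) =
        pullIrr (centEquiv Y L h2 hC).symm
          (pullIrr (centralizerConjEquiv (Y.subgroupOf L) z).symm ξ₂) := by
      apply Subtype.ext
      funext c
      rw [pullIrr_apply, pullIrr_apply, pullIrr_apply, pullIrr_apply]
      have heq : (((centEquiv (Y.map (MulAut.conj (z : G)).toMonoidHom) L h2' hC').symm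
          ((centralizerConjEquiv Y (z : G)).symm c) : Subgroup.centralizer _) : L) =
          (((centralizerConjEquiv (Y.subgroupOf L) z).symm ((centEquiv Y L h2 hC).symm c) :
            Subgroup.centralizer _) : L) := by
        apply Subtype.ext
        rw [coe_centEquiv_symm]
        show (z : G) * (c : G) * (z : G)⁻¹ =
          (z : G) * ((((centEquiv Y L h2 hC).symm c : Subgroup.centralizer _) : L) : G) *
            (z : G)⁻¹
        rw [coe_centEquiv_symm]
      have h1 := hξ _ ((centEquiv (Y.map (MulAut.conj (z : G)).toMonoidHom) L h2' hC').symm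
          ((centralizerConjEquiv Y (z : G)).symm c)).2
        (heq ▸ ((centralizerConjEquiv (Y.subgroupOf L) z).symm
          ((centEquiv Y L h2 hC).symm c)).2)
      refine h1.trans ?_
      exact congrArg _ (Subtype.ext heq)
    rw [key]

theorem downPair_cjPair (L : Subgroup G) (z : L) (a : BrauerPairIdx G) (h2 : a.1 ≤ L)
    (hC : Subgroup.centralizer (a.1 : Set G) ≤ L) (h2' : (cjPair (z : G) a).1 ≤ L)
    (hC' : Subgroup.centralizer ((cjPair (z : G) a).1 : Set G) ≤ L) :
    downPair L (cjPair (z : G) a) h2' hC' = cjPair z (downPair L a h2 hC) := by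
  obtain ⟨Y, e⟩ := a
  exact downPair_cjPair_aux L z Y e h2 hC h2' hC'

end Cfsg.Agent.Helper23.DP
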