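import Mathlib
import Cfsg.Prelude.Def_Blocks
import Cfsg.Prelude.Def_BlockLocal
import Cfsg.Prelude.Def_BrauerPairs
import Cfsg.Prelude.Def_BlockFusion
import Cfsg.Agent.Helper23.DownPairs
import Cfsg.Agent.Helper23.BlockFusionAut

set_option autoImplicit false
set_option linter.unusedSectionVars false
set_option linter.unusedVariables false

/-!
# The fusion system of a block: fully normalized subgroups are receptive
-/

namespace Cfsg.Agent.Helper23.RC

open Cfsg Cfsg.Agent.Helper24 Cfsg.Agent.Helper5 Cfsg.Agent.Helper5.Loc Cfsg.Agent.Helper5.CC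
open Cfsg.Agent.Helper14
open Cfsg.Agent.Helper23.BT Cfsg.Agent.Helper23.IC Cfsg.Agent.Helper23.TM
open Cfsg.Agent.Helper23.SB
open Cfsg.Agent.Helper23.SP Cfsg.Agent.Helper23.SU Cfsg.Agent.Helper23.PP
open Cfsg.Agent.Helper23.MP Cfsg.Agent.Helper23.PC Cfsg.Agent.Helper23.BC
open Cfsg.Agent.Helper23.MC Cfsg.Agent.Helper23.LD Cfsg.Agent.Helper23.ST
open Cfsg.Agent.Helper23.BF Cfsg.Agent.Helper23.RP Cfsg.Agent.Helper23.AD
open Cfsg.Agent.Helper23.NS Cfsg.Agent.Helper23.NPI Cfsg.Agent.Helper23.II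
open Cfsg.Agent.Helper23.CS Cfsg.Agent.Helper23.BFS Cfsg.Agent.Helper23.BFA
open Cfsg.Agent.Helper23.DP

variable {G : Type*} [Group G] [Fintype G] {M : Ideal AlgInt} {p : ℕ} [Fact p.Prime]

/-- The upper end of a chain starting at a Brauer pair is a Brauer pair. -/
theorem isBrauerPair_of_reflTransGen_right {a c : BrauerPairIdx G}
    (h : Relation.ReflTransGen (NormalSubpairRel p M) a c) (ha : IsBrauerPair p M a.1 a.2) :
    IsBrauerPair p M c.1 c.2 := by
  rcases Relation.ReflTransGen.cases_tail h with h1 | ⟨b, -, hbc⟩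
  · rw [h1]; exact ha
  · exact hbc.2.1

/-- **Key step for receptivity.**  Let `(Q, f) ≤ (P, e)` be fully normalized, and let `(X, e_X)`
be a pair with `(Q, f) ⊴ (X, e_X)` and `X ≤ N_P(Q) C_G(Q)`.  Then some `C_G(Q)`-conjugate of
`(X, e_X)` lies below `(P, e)`. -/
theorem exists_centralizer_conj (hM : IsPModular p M) (B : Set (IrrCharacter G))
    (P : Subgroup G) (e : Set (IrrCharacter (Subgroup.centralizer (P : Set G))))
    (hmax : IsMaximalBrauerPair p M B P e) (Q : Subgroup G)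
    (f : Set (IrrCharacter (Subgroup.centralizer (Q : Set G)))) (hQP : Q ≤ P)
    (hf : IsPBlock M f) (hle : SubpairLE p M Q f P e)
    (hfn : ∀ x : G, SubpairLE p M (Q.map (MulAut.conj x).toMonoidHom) (conjBlock Q x f) P e →
      Nat.card ((P ⊓ Subgroup.normalizer
        ((Q.map (MulAut.conj x).toMonoidHom : Subgroup G) : Set G) : Subgroup G)) ≤
      Nat.card ((P ⊓ Subgroup.normalizer (Q : Set G) : Subgroup G)))
    (X : Subgroup G) (eX : Set (IrrCharacter (Subgroup.centralizer (X : Set G))))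
    (hXn : IsNormalSubpair p M Q f X eX)
    (hXL : X ≤ (P ⊓ Subgroup.normalizer (Q : Set G)) ⊔ Subgroup.centralizer (Q : Set G)) :
    ∃ c ∈ Subgroup.centralizer (Q : Set G), Relation.ReflTransGen (NormalSubpairRel p M)
      (cjPair c (⟨X, eX⟩ : BrauerPairIdx G)) ⟨P, e⟩ := by
  classical
  have hPe := hmax.1.1
  have hB := hmax.1.2.1
  have hQp : IsPGroup p Q := hXn.1.1
  have hQD' : Q ≤ P ⊓ Subgroup.normalizer (Q : Set G) := le_inf hQP Subgroup.le_normalizer
  have hQL : Q ≤ (P ⊓ Subgroup.normalizer (Q : Set G)) ⊔ Subgroup.centralizer (Q : Set G) :=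
    hQD'.trans le_sup_left
  have hCL : Subgroup.centralizer (Q : Set G) ≤
      (P ⊓ Subgroup.normalizer (Q : Set G)) ⊔ Subgroup.centralizer (Q : Set G) := le_sup_right
  have hLN : (P ⊓ Subgroup.normalizer (Q : Set G)) ⊔ Subgroup.centralizer (Q : Set G) ≤
      Subgroup.normalizer (Q : Set G) :=
    sup_le inf_le_right (Subgroup.centralizer_le_normalizer _)
  have hLstab : (P ⊓ Subgroup.normalizer (Q : Set G)) ⊔ Subgroup.centralizer (Q : Set G) ≤
      stabSubgroup Q f := by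
    apply sup_le
    · intro r hr
      exact (mem_stabSubgroup Q f r).mpr
        ⟨hr.2, stabilizesBlock_of_mem_normalizerIn hM P Q e f hPe hQP hle r hr⟩
    · intro r hr
      exact (mem_stabSubgroup Q f r).mpr ⟨Subgroup.centralizer_le_normalizer _ hr,
        stabilizesBlock_of_mem_sup Q f r (Subgroup.mem_sup_right hr)⟩
  obtain ⟨FL, hFL, hFLc⟩ := exists_block_of_stable hM Q _ hQp hQL hCL hLN f hf
    (fun h hh => ((mem_stabSubgroup Q f h).mp (hLstab hh)).2)
  -- the pair on `D = N_P(Q)`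
  obtain ⟨eD, heD, hleD⟩ := (existsUnique_subpair hM P (P ⊓ Subgroup.normalizer (Q : Set G)) e
    hPe inf_le_left).exists
  have hQD : Relation.ReflTransGen (NormalSubpairRel p M) (⟨Q, f⟩ : BrauerPairIdx G)
      ⟨P ⊓ Subgroup.normalizer (Q : Set G), eD⟩ :=
    subpairLE_of_le_of_le hM (a := ⟨Q, f⟩) (b := ⟨P ⊓ Subgroup.normalizer (Q : Set G), eD⟩)
      (c := ⟨P, e⟩) hle hleD hPe hQD'
  have hDpair : IsBrauerPair p M (P ⊓ Subgroup.normalizer (Q : Set G)) eD :=
    ⟨hPe.1.to_le inf_le_left, heD⟩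
  have hnD : IsNormalSubpair p M Q f (P ⊓ Subgroup.normalizer (Q : Set G)) eD :=
    isNormalSubpair_of_subpairLE hM hQD hDpair hQD' inf_le_right
  have hDL : P ⊓ Subgroup.normalizer (Q : Set G) ≤
      (P ⊓ Subgroup.normalizer (Q : Set G)) ⊔ Subgroup.centralizer (Q : Set G) := le_sup_left
  have hCD : Subgroup.centralizer ((P ⊓ Subgroup.normalizer (Q : Set G) : Subgroup G) : Set G) ≤
      (P ⊓ Subgroup.normalizer (Q : Set G)) ⊔ Subgroup.centralizer (Q : Set G) :=
    (Subgroup.centralizer_le hQD').trans hCL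
  have hBD := isBrauerPairOf_down (P ⊓ Subgroup.normalizer (Q : Set G)) _ hDL hCD eD hDpair
    FL hFL (subgroupBlockCoeff (Subgroup.centralizer (Q : Set G)) f) hFLc hnD.2.2.2.2.2
  -- the pair on `X`
  have hXpair := hXn.2.1
  have hQX : Q ≤ X := hXn.2.2.1
  have hCX : Subgroup.centralizer (X : Set G) ≤
      (P ⊓ Subgroup.normalizer (Q : Set G)) ⊔ Subgroup.centralizer (Q : Set G) :=
    (Subgroup.centralizer_le hQX).trans hCL
  have hBX := isBrauerPairOf_down X _ hXL hCX eX hXpair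
    FL hFL (subgroupBlockCoeff (Subgroup.centralizer (Q : Set G)) f) hFLc hXn.2.2.2.2.2
  -- maximality of the pair on `D`
  have : Fintype ↥((P ⊓ Subgroup.normalizer (Q : Set G)) ⊔ Subgroup.centralizer (Q : Set G)) :=
    Fintype.ofFinite _
  obtain ⟨cmax, hcmax, hchain⟩ := exists_maximal_above FL _
    (downPair _ (⟨P ⊓ Subgroup.normalizer (Q : Set G), eD⟩ : BrauerPairIdx G) hDL hCD) hBD rfl
  obtain ⟨amax, ham1, ham2, hamC, rfl, hGchain⟩ := chain_up Q _ hQL hCL
    (⟨P ⊓ Subgroup.normalizer (Q : Set G), eD⟩ : BrauerPairIdx G) hQD' hDL hCD cmax hchain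
  have hQB : IsBrauerPairOf p M B Q f :=
    (isBrauerPairOf_iff_of_subpairLE hM B hB ⟨Q, f⟩ ⟨P, e⟩ hle).mp hmax.1
  have hQamax : Relation.ReflTransGen (NormalSubpairRel p M) (⟨Q, f⟩ : BrauerPairIdx G) amax :=
    hQD.trans hGchain
  have hamaxB : IsBrauerPairOf p M B amax.1 amax.2 :=
    (isBrauerPairOf_iff_of_subpairLE hM B hB ⟨Q, f⟩ amax hQamax).mpr hQB
  obtain ⟨x, hx⟩ := exists_conj_subpairLE hM B P amax.1 e amax.2 hmax hamaxB
  have hxQ : SubpairLE p M (Q.map (MulAut.conj x).toMonoidHom) (conjBlock Q x f) P e :=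
    (reflTransGen_conj (M := M) (p := p) x hQamax).trans hx
  have hcard := hfn x hxQ
  have hsub : amax.1.map (MulAut.conj x).toMonoidHom ≤ P ⊓ Subgroup.normalizer
      ((Q.map (MulAut.conj x).toMonoidHom : Subgroup G) : Set G) := by
    apply le_inf
    · exact fst_le_of_reflTransGen (cjPair x amax) ⟨P, e⟩ hx
    · have h1 := Cfsg.Agent.Helper25.normalizer_cj Q x
      rw [h1]
      exact Subgroup.map_mono (ham2.trans hLN)
  have hcard2 : Nat.card amax.1 ≤ Nat.card ((P ⊓ Subgroup.normalizer (Q : Set G) : Subgroup G)) := by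
    have hc : Nat.card (amax.1.map (MulAut.conj x).toMonoidHom) = Nat.card amax.1 :=
      Subgroup.card_map_of_injective (MulAut.conj x).injective
    rw [← hc]
    exact (Subgroup.card_le_of_le hsub).trans hcard
  have hfst : (P ⊓ Subgroup.normalizer (Q : Set G) : Subgroup G) = amax.1 :=
    Subgroup.eq_of_le_of_card_ge (fst_le_of_reflTransGen _ _ hGchain) hcard2
  have hamax : (⟨P ⊓ Subgroup.normalizer (Q : Set G), eD⟩ : BrauerPairIdx G) = amax :=
    eq_of_reflTransGen_of_fst_eq hM _ _ hGchain hfst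
  subst hamax
  -- conjugation in `L`
  obtain ⟨z, hz⟩ := exists_conj_subpairLE hM FL _ _ _ _ hcmax hBX
  have hzN : (z : G) ∈ Subgroup.normalizer (Q : Set G) := hLN z.2
  have hQz : Q ≤ X.map (MulAut.conj (z : G)).toMonoidHom := by
    have h1 : Q.map (MulAut.conj (z : G)).toMonoidHom = Q :=
      Subgroup.mem_normalizer_iff_map_conj_eq.mp hzN
    have h2 : Q.map (MulAut.conj (z : G)).toMonoidHom ≤
        X.map (MulAut.conj (z : G)).toMonoidHom := Subgroup.map_mono hQX
    rwa [h1] at h2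
  have h2' : (cjPair (z : G) (⟨X, eX⟩ : BrauerPairIdx G)).1 ≤
      (P ⊓ Subgroup.normalizer (Q : Set G)) ⊔ Subgroup.centralizer (Q : Set G) := by
    rintro _ ⟨y, hy, rfl⟩
    exact Subgroup.mul_mem _ (Subgroup.mul_mem _ z.2 (hXL hy)) (Subgroup.inv_mem _ z.2)
  have hC' : Subgroup.centralizer ((cjPair (z : G) (⟨X, eX⟩ : BrauerPairIdx G)).1 : Set G) ≤
      (P ⊓ Subgroup.normalizer (Q : Set G)) ⊔ Subgroup.centralizer (Q : Set G) :=
    (Subgroup.centralizer_le hQz).trans hCL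
  have hz' : Relation.ReflTransGen (NormalSubpairRel p M)
      (cjPair z (downPair _ (⟨X, eX⟩ : BrauerPairIdx G) hXL hCX))
      (downPair _ (⟨P ⊓ Subgroup.normalizer (Q : Set G), eD⟩ : BrauerPairIdx G) hDL hCD) := hz
  rw [← downPair_cjPair _ z ⟨X, eX⟩ hXL hCX h2' hC'] at hz'
  have hG := chain_up' Q _ hQL hCL (cjPair (z : G) (⟨X, eX⟩ : BrauerPairIdx G))
    ⟨P ⊓ Subgroup.normalizer (Q : Set G), eD⟩ hQz h2' hC' hDL hCD hz'
  have hG' := hG.trans hleD
  -- `z = d c`
  have hDN : P ⊓ Subgroup.normalizer (Q : Set G) ≤ Subgroup.normalizer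
      ((Subgroup.centralizer (Q : Set G) : Subgroup G) : Set G) :=
    le_normalizer_centralizer inf_le_right
  have hzmem : (z : G) ∈ (((P ⊓ Subgroup.normalizer (Q : Set G)) ⊔
      Subgroup.centralizer (Q : Set G) : Subgroup G) : Set G) := z.2
  rw [Subgroup.coe_mul_of_left_le_normalizer_right _ _ hDN] at hzmem
  obtain ⟨d, hd, c, hc, hdc⟩ := Set.mem_mul.mp hzmem
  refine ⟨c, hc, ?_⟩
  have hdP : d ∈ P := hd.1
  rw [← hdc, ← cjPair_mul] at hG'
  have h3 := reflTransGen_conj (M := M) (p := p) d⁻¹ hG'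
  rw [cjPair_mul, inv_mul_cancel, cjPair_one, cjPair_eq_of_mem P e (P.inv_mem hdP)] at h3
  exact h3

/-- **Fully normalized subgroups are receptive** in the fusion system of a block. -/
theorem isReceptive_of_isFullyNormalized (hM : IsPModular p M) (B : Set (IrrCharacter G))
    (P : Subgroup G) (e : Set (IrrCharacter (Subgroup.centralizer (P : Set G))))
    (hmax : IsMaximalBrauerPair p M B P e) (F : FusionSystem P)
    (hF : IsBlockFusionSystemOn p M B P e F) (Q' : Subgroup G)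
    (f' : Set (IrrCharacter (Subgroup.centralizer (Q' : Set G)))) (hQ'P : Q' ≤ P)
    (hf' : IsPBlock M f') (hle' : SubpairLE p M Q' f' P e) (hfn : F.IsFullyNormalized Q') :
    F.IsReceptive Q' := by
  classical
  have hPe := hmax.1.1
  refine ⟨hQ'P, ?_⟩
  intro R φ hφ hrange
  obtain ⟨hRP, g, hφg, hgP, f₁, h1, h2⟩ := (hF.2 R φ).mp hφ
  have hQ'eq : Q' = R.map (MulAut.conj g).toMonoidHom := hrange ▸ range_eq_map_conj hφg
  subst hQ'eq
  have hf₁g : IsPBlock M (conjBlock R g f₁) :=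
    (isBrauerPair_of_reflTransGen (a := ⟨_, conjBlock R g f₁⟩) (c := ⟨P, e⟩) h2 hPe).2
  have hff : f' = conjBlock R g f₁ :=
    (existsUnique_subpair hM P _ e hPe hQ'P).unique ⟨hf', hle'⟩ ⟨hf₁g, h2⟩
  subst hff
  have hfn' : ∀ x : G, SubpairLE p M
      ((R.map (MulAut.conj g).toMonoidHom).map (MulAut.conj x).toMonoidHom)
      (conjBlock (R.map (MulAut.conj g).toMonoidHom) x (conjBlock R g f₁)) P e →
      Nat.card ((P ⊓ Subgroup.normalizer
        (((R.map (MulAut.conj g).toMonoidHom).map (MulAut.conj x).toMonoidHom : Subgroup G) :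
          Set G) : Subgroup G)) ≤
      Nat.card ((P ⊓ Subgroup.normalizer
        ((R.map (MulAut.conj g).toMonoidHom : Subgroup G) : Set G) : Subgroup G)) := by
    intro x hx
    exact hfn.2 _ ((isConj_iff hM hF hQ'P hf' hle' _).mpr ⟨x, rfl, hx⟩)
  have hφS : ∀ x, φ x ∈ P := (F.le_of_mem hφ).2
  have hNP : FusionSystem.extender P R φ ≤ P := by
    unfold FusionSystem.extender
    rw [Subgroup.closure_le]
    rintro y ⟨hyP, -, -⟩
    exact hyP
  have hRN : R ≤ FusionSystem.extender P R φ := Cfsg.Agent.Helper25.le_extender hRP φ hφS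
  have hLN : (P ⊓ Subgroup.normalizer ((R.map (MulAut.conj g).toMonoidHom : Subgroup G) : Set G)) ⊔
      Subgroup.centralizer ((R.map (MulAut.conj g).toMonoidHom : Subgroup G) : Set G) ≤
      Subgroup.normalizer ((R.map (MulAut.conj g).toMonoidHom : Subgroup G) : Set G) :=
    sup_le inf_le_right (Subgroup.centralizer_le_normalizer _)
  have hNL : (FusionSystem.extender P R φ).map (MulAut.conj g).toMonoidHom ≤
      (P ⊓ Subgroup.normalizer ((R.map (MulAut.conj g).toMonoidHom : Subgroup G) : Set G)) ⊔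
      Subgroup.centralizer ((R.map (MulAut.conj g).toMonoidHom : Subgroup G) : Set G) := by
    rw [Subgroup.map_le_iff_le_comap]
    unfold FusionSystem.extender
    rw [Subgroup.closure_le]
    rintro y ⟨hyP, hyN, h, hhP, hh⟩
    rw [SetLike.mem_coe, Subgroup.mem_comap]
    show g * y * g⁻¹ ∈ _
    have hhN : h ∈ Subgroup.normalizer
        ((R.map (MulAut.conj g).toMonoidHom : Subgroup G) : Set G) :=
      Cfsg.Agent.Helper25.witness_mem_normalizer φ hrange hyN hh
    have hcen : h⁻¹ * (g * y * g⁻¹) ∈ Subgroup.centralizer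
        ((R.map (MulAut.conj g).toMonoidHom : Subgroup G) : Set G) := by
      rw [Subgroup.mem_centralizer_iff]
      rintro _ ⟨r, hr, rfl⟩
      have hr' : y * r * y⁻¹ ∈ R := (Subgroup.mem_normalizer_iff.mp hyN r).mp hr
      have h3 := hh ⟨r, hr⟩ hr'
      rw [hφg, hφg] at h3
      have h4 : g * (y * r * y⁻¹) * g⁻¹ = h * (g * r * g⁻¹) * h⁻¹ := h3
      show g * r * g⁻¹ * (h⁻¹ * (g * y * g⁻¹)) = h⁻¹ * (g * y * g⁻¹) * (g * r * g⁻¹)
      calc g * r * g⁻¹ * (h⁻¹ * (g * y * g⁻¹))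
          = h⁻¹ * (h * (g * r * g⁻¹) * h⁻¹) * (g * y * g⁻¹) := by group
        _ = h⁻¹ * (g * (y * r * y⁻¹) * g⁻¹) * (g * y * g⁻¹) := by rw [h4]
        _ = h⁻¹ * (g * y * g⁻¹) * (g * r * g⁻¹) := by group
    have e1 : g * y * g⁻¹ = h * (h⁻¹ * (g * y * g⁻¹)) := by group
    rw [e1]
    exact Subgroup.mul_mem _ (Subgroup.mem_sup_left ⟨hhP, hhN⟩) (Subgroup.mem_sup_right hcen)
  obtain ⟨eN, heN, hleN⟩ := (existsUnique_subpair hM P (FusionSystem.extender P R φ) e hPe
    hNP).exists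
  have hRle : Relation.ReflTransGen (NormalSubpairRel p M) (⟨R, f₁⟩ : BrauerPairIdx G)
      ⟨FusionSystem.extender P R φ, eN⟩ :=
    subpairLE_of_le_of_le hM (a := ⟨R, f₁⟩) (b := ⟨FusionSystem.extender P R φ, eN⟩)
      (c := ⟨P, e⟩) h1 hleN hPe hRN
  have hchain : Relation.ReflTransGen (NormalSubpairRel p M)
      (cjPair g (⟨R, f₁⟩ : BrauerPairIdx G))
      (cjPair g (⟨FusionSystem.extender P R φ, eN⟩ : BrauerPairIdx G)) :=
    reflTransGen_conj g hRle
  have hXpair : IsBrauerPair p M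
      ((FusionSystem.extender P R φ).map (MulAut.conj g).toMonoidHom)
      (conjBlock (FusionSystem.extender P R φ) g eN) :=
    isBrauerPair_of_reflTransGen_right hchain ⟨(hPe.1.to_le hQ'P), hf'⟩
  have hXn : IsNormalSubpair p M (R.map (MulAut.conj g).toMonoidHom) (conjBlock R g f₁)
      ((FusionSystem.extender P R φ).map (MulAut.conj g).toMonoidHom)
      (conjBlock (FusionSystem.extender P R φ) g eN) :=
    isNormalSubpair_of_subpairLE hM hchain hXpair (Subgroup.map_mono hRN) (hNL.trans hLN)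
  obtain ⟨c, hc, hcc⟩ := exists_centralizer_conj hM B P e hmax _ _ hQ'P hf' hle' hfn' _ _ hXn hNL
  have hcc' : Relation.ReflTransGen (NormalSubpairRel p M)
      (cjPair (c * g) (⟨FusionSystem.extender P R φ, eN⟩ : BrauerPairIdx G)) ⟨P, e⟩ := by
    rw [← cjPair_mul]
    exact hcc
  refine ⟨conjHom (FusionSystem.extender P R φ) (c * g), ?_, ?_⟩
  · exact (hF.2 _ _).mpr ⟨hNP, c * g, fun u => rfl,
      fst_le_of_reflTransGen _ _ hcc', eN, hleN, hcc'⟩
  · intro x hxR hxN
    show c * g * x * (c * g)⁻¹ = φ ⟨x, hxR⟩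
    rw [hφg]
    have hmem : g * x * g⁻¹ ∈ R.map (MulAut.conj g).toMonoidHom := ⟨x, hxR, rfl⟩
    have := (Subgroup.mem_centralizer_iff.mp hc) _ hmem
    show c * g * x * (c * g)⁻¹ = g * x * g⁻¹
    calc c * g * x * (c * g)⁻¹ = c * (g * x * g⁻¹) * c⁻¹ := by group
      _ = (g * x * g⁻¹) * c * c⁻¹ := by rw [← this]
      _ = g * x * g⁻¹ := by group

/-- **The fusion system of a block on a maximal Brauer pair is saturated.** -/
theorem isSaturated (hM : IsPModular p M) (B : Set (IrrCharacter G))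
    (P : Subgroup G) (e : Set (IrrCharacter (Subgroup.centralizer (P : Set G))))
    (hmax : IsMaximalBrauerPair p M B P e) (F : FusionSystem P)
    (hF : IsBlockFusionSystemOn p M B P e F) : F.IsSaturated p := by
  have hPe := hmax.1.1
  intro Q hQP
  obtain ⟨Q', hconj, hfn⟩ := Cfsg.Agent.Helper25.exists_isConj_fullyNormalized F hQP
  obtain ⟨f', hf', hle'⟩ := (existsUnique_subpair hM P Q' e hPe hfn.1).exists
  exact ⟨Q', hconj,
    isFullyAutomized_of_isFullyNormalized hM B P e hmax F hF Q' f' hfn.1 hf' hle' hfn,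
    isReceptive_of_isFullyNormalized hM B P e hmax F hF Q' f' hfn.1 hf' hle' hfn⟩

end Cfsg.Agent.Helper23.RC
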