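import Mathlib
import Cfsg.Prelude.Def_Blocks
import Cfsg.Prelude.Def_BlockLocal
import Cfsg.Prelude.Def_BrauerPairs
import Cfsg.Prelude.Def_BlockFusion
import Cfsg.Agent.Helper23.Receptive
import Cfsg.Agent.Helper25.FusionAlperin2

set_option autoImplicit false
set_option linter.unusedSectionVars false
set_option linter.unusedVariables false

/-!
# Nilpotent blocks: the fusion system is inner
-/

namespace Cfsg.Agent.Helper23.NF

open Cfsg Cfsg.Agent.Helper24 Cfsg.Agent.Helper5 Cfsg.Agent.Helper5.Loc Cfsg.Agent.Helper5.CC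
open Cfsg.Agent.Helper14
open Cfsg.Agent.Helper23.BT Cfsg.Agent.Helper23.IC Cfsg.Agent.Helper23.TM
open Cfsg.Agent.Helper23.SB
open Cfsg.Agent.Helper23.SP Cfsg.Agent.Helper23.SU Cfsg.Agent.Helper23.PP
open Cfsg.Agent.Helper23.MP Cfsg.Agent.Helper23.PC Cfsg.Agent.Helper23.BC
open Cfsg.Agent.Helper23.MC Cfsg.Agent.Helper23.LD Cfsg.Agent.Helper23.ST
open Cfsg.Agent.Helper23.BF Cfsg.Agent.Helper23.RP Cfsg.Agent.Helper23.AD
open Cfsg.Agent.Helper23.NS Cfsg.Agent.Helper23.NPI Cfsg.Agent.Helper23.II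
open Cfsg.Agent.Helper23.CS Cfsg.Agent.Helper23.BFS Cfsg.Agent.Helper23.BFA
open Cfsg.Agent.Helper23.DP Cfsg.Agent.Helper23.RC

variable {G : Type*} [Group G] [Fintype G] {M : Ideal AlgInt} {p : ℕ} [Fact p.Prime]

/-- In a nilpotent block, the automorphism groups of the fusion system are `p`-groups. -/
theorem isPGroup_autGroup_of_nilpotent (hM : IsPModular p M) {B : Set (IrrCharacter G)}
    {P : Subgroup G} {e : Set (IrrCharacter (Subgroup.centralizer (P : Set G)))}
    {F : FusionSystem P} (hF : IsBlockFusionSystemOn p M B P e F)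
    (hnil : IsNilpotentBlock p M B) {Q : Subgroup G}
    {f : Set (IrrCharacter (Subgroup.centralizer (Q : Set G)))} (hQP : Q ≤ P)
    (hf : IsPBlock M f) (hle : SubpairLE p M Q f P e) : IsPGroup p (F.autGroup Q) := by
  have hp : p.Prime := Fact.out
  have hB := hF.1.1.2.1
  have hQB : IsBrauerPairOf p M B Q f :=
    (isBrauerPairOf_iff_of_subpairLE hM B hB ⟨Q, f⟩ ⟨P, e⟩ hle).mp hF.1.1
  rintro ⟨α, hα⟩
  obtain ⟨t, ht, hαt⟩ := (mem_autGroup_iff' hM hF hQP hf hle α).mp hα
  have ho : orderOf t ≠ 0 := (orderOf_pos t).ne'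
  obtain ⟨k, m, hm, hkm⟩ := Nat.exists_eq_pow_mul_and_not_dvd ho p hp.ne_one
  refine ⟨k, ?_⟩
  have hmem : t ^ p ^ k ∈ stabSubgroup Q f := (stabSubgroup Q f).pow_mem ht _
  have hreg : IsPRegular p (t ^ p ^ k) := by
    unfold IsPRegular
    rw [orderOf_pow' _ (pow_pos hp.pos k).ne', hkm, Nat.gcd_eq_right (Dvd.intro _ rfl),
      Nat.mul_div_cancel_left _ (pow_pos hp.pos k)]
    exact hm
  have hcen := hnil.2 Q f hQB _ ((mem_stabSubgroup Q f _).mp hmem).1
    ((mem_stabSubgroup Q f _).mp hmem).2 hreg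
  apply Subtype.ext
  show α ^ p ^ k = 1
  -- `α ^ n` is conjugation by `t ^ n`
  have hpow : ∀ n : ℕ, ∀ u : Q, (((α ^ n) u : Q) : G) = t ^ n * (u : G) * (t ^ n)⁻¹ := by
    intro n
    induction n with
    | zero => intro u; simp
    | succ n ih =>
      intro u
      rw [pow_succ', MulAut.mul_apply, hαt, ih, pow_succ']
      group
  ext u
  rw [hpow]
  have := (Subgroup.mem_centralizer_iff.mp hcen) (u : G) u.2
  show t ^ p ^ k * (u : G) * (t ^ p ^ k)⁻¹ = (u : G)
  rw [← this]
  group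

omit [Fintype G] [Fact p.Prime] in
/-- The inner fusion system is contained in every fusion system. -/
theorem inner_hom_subset {P : Subgroup G} (F : FusionSystem P) (Q : Subgroup G) :
    (innerFusionSystem P).Hom Q ⊆ F.Hom Q := by
  rintro φ ⟨hQP, g, hg, hφ⟩
  have : φ = conjHom Q g := MonoidHom.ext hφ
  rw [this]
  exact F.conj_mem hQP hg

/-- **Nilpotent blocks have inner fusion systems.** -/
theorem hom_eq_inner_of_nilpotent (hM : IsPModular p M) (B : Set (IrrCharacter G))
    (P : Subgroup G) (e : Set (IrrCharacter (Subgroup.centralizer (P : Set G))))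
    (hmax : IsMaximalBrauerPair p M B P e) (F : FusionSystem P)
    (hF : IsBlockFusionSystemOn p M B P e F) (hnil : IsNilpotentBlock p M B)
    (Q : Subgroup G) : F.Hom Q = (innerFusionSystem P).Hom Q := by
  have hPe := hmax.1.1
  have hsat := isSaturated hM B P e hmax F hF
  apply Set.Subset.antisymm _ (inner_hom_subset F Q)
  have hle : F ≤ innerFusionSystem P := by
    apply Cfsg.Agent.Helper25.alperin_le p hPe.1 F hsat
    intro R hR
    have hfn : F.IsFullyNormalized R := by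
      rcases hR with rfl | hess
      · refine ⟨le_rfl, fun Q' _ => ?_⟩
        have h1 : FusionSystem.normalizerIn R Q' ≤ FusionSystem.normalizerIn R R := by
          intro y hy
          exact ⟨hy.1, Subgroup.le_normalizer hy.1⟩
        exact Subgroup.card_le_of_le h1
      · exact hess.2.1
    have hRP := hfn.1
    obtain ⟨fR, hfR, hleR⟩ := (existsUnique_subpair hM P R e hPe hRP).exists
    obtain ⟨-, S', hS'⟩ := isFullyAutomized_of_isFullyNormalized hM B P e hmax F hF R fR hRP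
      hfR hleR hfn
    have hpg := isPGroup_autGroup_of_nilpotent hM hF hnil hRP hfR hleR
    have htop : IsPGroup p (⊤ : Subgroup (F.autGroup R)) :=
      hpg.of_equiv Subgroup.topEquiv.symm
    have h2 : (⊤ : Subgroup (F.autGroup R)) = (S' : Subgroup (F.autGroup R)) :=
      S'.3 htop le_top
    rw [hS'] at h2
    have h3 : F.autGroup R ≤ autInducedBy P R := Subgroup.subgroupOf_eq_top.mp h2.symm
    exact h3.trans (Cfsg.Agent.Helper25.autInducedBy_le_autGroup _ hRP)
  exact hle Q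

/-- **A block with inner fusion system is nilpotent.** -/
theorem isNilpotentBlock_of_inner (hM : IsPModular p M) (B : Set (IrrCharacter G))
    (P : Subgroup G) (e : Set (IrrCharacter (Subgroup.centralizer (P : Set G))))
    (hmax : IsMaximalBrauerPair p M B P e) (F : FusionSystem P)
    (hF : IsBlockFusionSystemOn p M B P e F)
    (hin : ∀ Q : Subgroup G, F.Hom Q = (innerFusionSystem P).Hom Q) :
    IsNilpotentBlock p M B := by
  have hp : p.Prime := Fact.out
  have hPe := hmax.1.1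
  refine ⟨hmax.1.2.1, ?_⟩
  intro Q' e' hQe x hxN hxst hreg
  obtain ⟨z, hz⟩ := exists_conj_subpairLE hM B P Q' e e' hmax hQe
  have hQP := fst_le_of_reflTransGen (⟨_, conjBlock Q' z e'⟩ : BrauerPairIdx G) ⟨P, e⟩ hz
  have hf : IsPBlock M (conjBlock Q' z e') := isPBlock_conjBlock Q' z hQe.1.2
  have hx' : stabP (cjPair z (⟨Q', e'⟩ : BrauerPairIdx G)) (z * x * z⁻¹) :=
    stabP_conj z (a := ⟨Q', e'⟩) ⟨hxN, hxst⟩
  have hx'T : z * x * z⁻¹ ∈ stabSubgroup (Q'.map (MulAut.conj z).toMonoidHom)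
      (conjBlock Q' z e') := (mem_stabSubgroup _ _ _).mpr hx'
  have hx'N : z * x * z⁻¹ ∈ Subgroup.normalizer
      ((Q'.map (MulAut.conj z).toMonoidHom : Subgroup G) : Set G) := hx'.1
  -- the automorphism induced by `x'`
  have hα : (Q'.map (MulAut.conj z).toMonoidHom).normalizerMonoidHom ⟨z * x * z⁻¹, hx'N⟩ ∈
      F.autGroup (Q'.map (MulAut.conj z).toMonoidHom) :=
    (mem_autGroup_iff' hM hF hQP hf hz _).mpr ⟨z * x * z⁻¹, hx'T, fun u => rfl⟩
  rw [Cfsg.Agent.Helper25.mem_autGroup_iff F hQP, hin] at hα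
  obtain ⟨-, u, hu, hαu⟩ := hα
  have hα2 : (Q'.map (MulAut.conj z).toMonoidHom).normalizerMonoidHom ⟨z * x * z⁻¹, hx'N⟩ ∈
      autInducedBy P (Q'.map (MulAut.conj z).toMonoidHom) :=
    Subgroup.subset_closure ⟨u, hu, hαu⟩
  obtain ⟨k, hk⟩ := (Cfsg.Agent.Helper25.autInducedBy_isPGroup hPe.1 _) ⟨_, hα2⟩
  have hk' : ((Q'.map (MulAut.conj z).toMonoidHom).normalizerMonoidHom ⟨z * x * z⁻¹, hx'N⟩) ^
      p ^ k = 1 := congrArg Subtype.val hk
  have hord : orderOf (z * x * z⁻¹) = orderOf x := by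
    have := (MulAut.conj z).orderOf_eq x
    rwa [MulAut.conj_apply] at this
  have hn : ((Q'.map (MulAut.conj z).toMonoidHom).normalizerMonoidHom ⟨z * x * z⁻¹, hx'N⟩) ^
      orderOf x = 1 := by
    rw [← map_pow]
    have : (⟨z * x * z⁻¹, hx'N⟩ : Subgroup.normalizer
        ((Q'.map (MulAut.conj z).toMonoidHom : Subgroup G) : Set G)) ^ orderOf x = 1 := by
      apply Subtype.ext
      show (z * x * z⁻¹) ^ orderOf x = 1
      rw [← hord]
      exact pow_orderOf_eq_one _
    rw [this, map_one]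
  have hcop : (p ^ k).Coprime (orderOf x) :=
    Nat.Coprime.pow_left k ((Nat.Prime.coprime_iff_not_dvd hp).mpr hreg)
  have hone : (Q'.map (MulAut.conj z).toMonoidHom).normalizerMonoidHom ⟨z * x * z⁻¹, hx'N⟩ =
      1 := by
    have h1 := orderOf_dvd_of_pow_eq_one hk'
    have h2 := orderOf_dvd_of_pow_eq_one hn
    have h3 := Nat.dvd_gcd h1 h2
    rw [hcop, Nat.dvd_one] at h3
    exact orderOf_eq_one_iff.mp h3
  have hx'C : z * x * z⁻¹ ∈ Subgroup.centralizer
      ((Q'.map (MulAut.conj z).toMonoidHom : Subgroup G) : Set G) := by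
    rw [Subgroup.mem_centralizer_iff]
    intro q hq
    have h1 := congrArg (fun β : MulAut (Q'.map (MulAut.conj z).toMonoidHom) =>
      ((β ⟨q, hq⟩ : Q'.map (MulAut.conj z).toMonoidHom) : G)) hone
    have h2 : z * x * z⁻¹ * q * (z * x * z⁻¹)⁻¹ = q := h1
    calc q * (z * x * z⁻¹) = (z * x * z⁻¹ * q * (z * x * z⁻¹)⁻¹) * (z * x * z⁻¹) := by rw [h2]
      _ = z * x * z⁻¹ * q := by group
  have := (centralizerConjEquiv Q' z ⟨_, hx'C⟩).2
  rw [centralizerConjEquiv_apply] at this
  have e1 : z⁻¹ * (z * x * z⁻¹) * z = x := by group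
  simp only at this
  rwa [e1] at this

/-- **A block is nilpotent iff its fusion system is inner** (= S4686). -/
theorem isNilpotentBlock_iff_inner (hM : IsPModular p M) (B : Set (IrrCharacter G))
    (P : Subgroup G) (e : Set (IrrCharacter (Subgroup.centralizer (P : Set G))))
    (hmax : IsMaximalBrauerPair p M B P e) (F : FusionSystem P)
    (hF : IsBlockFusionSystemOn p M B P e F) :
    IsNilpotentBlock p M B ↔ ∀ Q : Subgroup G, F.Hom Q = (innerFusionSystem P).Hom Q :=
  ⟨fun h => hom_eq_inner_of_nilpotent hM B P e hmax F hF h,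
    isNilpotentBlock_of_inner hM B P e hmax F hF⟩

end Cfsg.Agent.Helper23.NF
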