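import Mathlib
import Cfsg.Prelude.Def_Blocks
import Cfsg.Prelude.Def_BlockLocal
import Cfsg.Prelude.Def_BrauerPairs
import Cfsg.Prelude.Def_BlockFusion
import Cfsg.Agent.Helper23.NilpotentFusion

set_option autoImplicit false
set_option linter.unusedSectionVars false
set_option linter.unusedVariables false

/-!
# Nilpotent blocks: the local blocks are nilpotent
-/

namespace Cfsg.Agent.Helper23.NL

open Cfsg Cfsg.Agent.Helper24 Cfsg.Agent.Helper5 Cfsg.Agent.Helper5.Loc Cfsg.Agent.Helper5.CC
open Cfsg.Agent.Helper14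
open Cfsg.Agent.Helper23.BT Cfsg.Agent.Helper23.IC Cfsg.Agent.Helper23.TM
open Cfsg.Agent.Helper23.SB Cfsg.Agent.Helper23.TMH
open Cfsg.Agent.Helper23.SP Cfsg.Agent.Helper23.SU Cfsg.Agent.Helper23.PP
open Cfsg.Agent.Helper23.MP Cfsg.Agent.Helper23.PC Cfsg.Agent.Helper23.BC
open Cfsg.Agent.Helper23.MC Cfsg.Agent.Helper23.LD Cfsg.Agent.Helper23.ST
open Cfsg.Agent.Helper23.BF Cfsg.Agent.Helper23.RP Cfsg.Agent.Helper23.AD
open Cfsg.Agent.Helper23.NS Cfsg.Agent.Helper23.NPI Cfsg.Agent.Helper23.II
open Cfsg.Agent.Helper23.CS Cfsg.Agent.Helper23.BFS Cfsg.Agent.Helper23.BFA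
open Cfsg.Agent.Helper23.DP Cfsg.Agent.Helper23.RC Cfsg.Agent.Helper23.NF

variable {G : Type*} [Group G] [Fintype G] {M : Ideal AlgInt} {p : ℕ} [Fact p.Prime]

omit [Fintype G] in
/-- The centralizer in `C_G(Q)` of a subgroup `R'` maps onto `C_G(Q R)`. -/
theorem map_centralizer_sup (Q : Subgroup G)
    (R' : Subgroup (Subgroup.centralizer (Q : Set G))) :
    (Subgroup.centralizer (R' : Set ↥(Subgroup.centralizer (Q : Set G)))).map
      (Subgroup.centralizer (Q : Set G)).subtype =
    Subgroup.centralizer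
      ((Q ⊔ R'.map (Subgroup.centralizer (Q : Set G)).subtype : Subgroup G) : Set G) := by
  ext x
  constructor
  · rintro ⟨x', hx', rfl⟩
    have hle : Q ⊔ R'.map (Subgroup.centralizer (Q : Set G)).subtype ≤
        Subgroup.centralizer ({((x' : Subgroup.centralizer (Q : Set G)) : G)} : Set G) := by
      apply sup_le
      · intro q hq
        rw [Subgroup.mem_centralizer_iff]
        intro h hh
        rw [Set.mem_singleton_iff] at hh
        subst hh
        exact ((Subgroup.mem_centralizer_iff.mp x'.2) q hq).symm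
      · rintro _ ⟨r', hr', rfl⟩
        rw [Subgroup.mem_centralizer_iff]
        intro h hh
        rw [Set.mem_singleton_iff] at hh
        subst hh
        have := (Subgroup.mem_centralizer_iff.mp hx') r' hr'
        exact (congrArg Subtype.val this).symm
    rw [Subgroup.mem_centralizer_iff]
    intro y hy
    have := (Subgroup.mem_centralizer_iff.mp (hle hy)) _ (Set.mem_singleton _)
    exact this.symm
  · intro hx
    have hxQ : x ∈ Subgroup.centralizer (Q : Set G) :=
      Subgroup.centralizer_le (le_sup_left : Q ≤ Q ⊔ _) hx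
    refine ⟨⟨x, hxQ⟩, ?_, rfl⟩
    rw [SetLike.mem_coe, Subgroup.mem_centralizer_iff]
    intro r' hr'
    apply Subtype.ext
    exact (Subgroup.mem_centralizer_iff.mp hx) (r' : G)
      (Subgroup.mem_sup_right ⟨r', hr', rfl⟩)

/-- The isomorphism `C_{C_G(Q)}(R') ≃ C_G(Q R)`. -/
noncomputable def centSupEquiv (Q : Subgroup G)
    (R' : Subgroup (Subgroup.centralizer (Q : Set G))) :
    Subgroup.centralizer (R' : Set ↥(Subgroup.centralizer (Q : Set G))) ≃*
      Subgroup.centralizer
        ((Q ⊔ R'.map (Subgroup.centralizer (Q : Set G)).subtype : Subgroup G) : Set G) :=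
  liftEquiv _ _ _ (map_centralizer_sup Q R')

omit [Fintype G] in
theorem coe_centSupEquiv (Q : Subgroup G)
    (R' : Subgroup (Subgroup.centralizer (Q : Set G)))
    (y : Subgroup.centralizer (R' : Set ↥(Subgroup.centralizer (Q : Set G)))) :
    ((centSupEquiv Q R' y : Subgroup.centralizer _) : G) =
      ((y : Subgroup.centralizer (Q : Set G)) : G) := rfl

/-- **A pair of the block `f` of `C_G(Q)` gives a pair of `G` containing `(Q, f)` normally.** -/
theorem isNormalSubpair_sup (Q : Subgroup G)
    (f : Set (IrrCharacter (Subgroup.centralizer (Q : Set G)))) (hQf : IsBrauerPair p M Q f)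
    (R' : Subgroup (Subgroup.centralizer (Q : Set G)))
    (g' : Set (IrrCharacter (Subgroup.centralizer
      (R' : Set ↥(Subgroup.centralizer (Q : Set G))))))
    (hRg : IsBrauerPairOf p M f R' g') :
    IsNormalSubpair p M Q f (Q ⊔ R'.map (Subgroup.centralizer (Q : Set G)).subtype)
      (pullBlock (centSupEquiv Q R').symm g') := by
  classical
  have hRC : R'.map (Subgroup.centralizer (Q : Set G)).subtype ≤
      Subgroup.centralizer (Q : Set G) := by
    rintro _ ⟨r, -, rfl⟩
    exact r.2
  have hRN : R'.map (Subgroup.centralizer (Q : Set G)).subtype ≤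
      Subgroup.normalizer (Q : Set G) := hRC.trans (Subgroup.centralizer_le_normalizer _)
  refine ⟨hQf, ⟨?_, isPBlock_pullBlock _ hRg.1.2⟩, le_sup_left,
    sup_le Subgroup.le_normalizer hRN, ?_, ?_⟩
  · exact IsPGroup.to_sup_of_normal_left' hQf.1 (hRg.1.1.map _) hRN
  · intro y hy
    exact stabilizesBlock_of_mem_sup Q f y (sup_le_sup_left hRC Q hy)
  · intro ξ hξ
    rw [mem_pullBlock_iff, MulEquiv.symm_symm] at hξ
    have h1 := hRg.2.2 _ hξ
    have h2 : brauerOmega R' (blockCoeff f)
        ((pullIrr (centSupEquiv Q R') ξ : IrrCharacter _) :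
          Subgroup.centralizer (R' : Set ↥(Subgroup.centralizer (Q : Set G))) → ℂ) =
        brauerOmega (Q ⊔ R'.map (Subgroup.centralizer (Q : Set G)).subtype)
          (subgroupBlockCoeff (Subgroup.centralizer (Q : Set G)) f)
          (ξ : Subgroup.centralizer _ → ℂ) := by
      rw [brauerOmega, brauerOmega, ← finsum_comp_equiv (centSupEquiv Q R').toEquiv]
      refine finsum_congr fun c' => ?_
      rw [pullIrr_apply, pullIrr_apply, map_one, subgroupBlockCoeff_eq_ext0]
      have : ext0 (Subgroup.centralizer (Q : Set G)) (blockCoeff f)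
          (((centSupEquiv Q R').toEquiv c' : Subgroup.centralizer _) : G) =
          blockCoeff f (c' : Subgroup.centralizer (Q : Set G)) :=
        ext0_coe _ _ (c' : Subgroup.centralizer (Q : Set G))
      rw [this]
      rfl
    rw [h2] at h1
    exact h1

/-- **The local blocks of a nilpotent block are nilpotent.** -/
theorem isNilpotentBlock_local (hM : IsPModular p M) (B : Set (IrrCharacter G))
    (hnil : IsNilpotentBlock p M B) (Q : Subgroup G)
    (f : Set (IrrCharacter (Subgroup.centralizer (Q : Set G))))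
    (hQf : IsBrauerPairOf p M B Q f) : IsNilpotentBlock p M f := by
  classical
  have hB := hnil.1
  refine ⟨hQf.1.2, ?_⟩
  intro R' g' hRg x hxN hxst hreg
  have : Fintype (Subgroup.centralizer (Q : Set G)) := Fintype.ofFinite _
  have hn := isNormalSubpair_sup Q f hQf.1 R' g' hRg
  have hYB : IsBrauerPairOf p M B (Q ⊔ R'.map (Subgroup.centralizer (Q : Set G)).subtype)
      (pullBlock (centSupEquiv Q R').symm g') :=
    (isBrauerPairOf_iff_of_normalSubpair hM _ Q _ f hn B hB).mpr hQf
  -- `x` normalizes `Q R`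
  have hxNY : ((x : Subgroup.centralizer (Q : Set G)) : G) ∈ Subgroup.normalizer
      ((Q ⊔ R'.map (Subgroup.centralizer (Q : Set G)).subtype : Subgroup G) : Set G) := by
    rw [Subgroup.mem_normalizer_iff_map_conj_eq, Subgroup.map_sup]
    congr 1
    · exact Subgroup.mem_normalizer_iff_map_conj_eq.mp
        (Subgroup.centralizer_le_normalizer _ x.2)
    · have h1 : R'.map (MulAut.conj x).toMonoidHom = R' :=
        Subgroup.mem_normalizer_iff_map_conj_eq.mp hxN
      conv_rhs => rw [← h1]
      rw [Subgroup.map_map, Subgroup.map_map]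
      rfl
  -- `x` stabilizes the block
  have hK' : x ∈ Subgroup.normalizer ((Subgroup.centralizer
      (R' : Set ↥(Subgroup.centralizer (Q : Set G))) : Subgroup _) : Set _) :=
    le_normalizer_centralizer (le_refl _) hxN
  have hK : ((x : Subgroup.centralizer (Q : Set G)) : G) ∈ Subgroup.normalizer
      ((Subgroup.centralizer
        ((Q ⊔ R'.map (Subgroup.centralizer (Q : Set G)).subtype : Subgroup G) : Set G) :
          Subgroup G) : Set G) :=
    le_normalizer_centralizer (le_refl _) hxNY
  have h1 := pullBlock_eq_of_stabilizesBlock hK' hxst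
  have hgg : pullBlock (centSupEquiv Q R') (pullBlock (centSupEquiv Q R').symm g') = g' := by
    have := pullBlock_symm_pullBlock (centSupEquiv Q R').symm g'
    rwa [MulEquiv.symm_symm] at this
  have hcomm : (conjEquiv _ x hK').trans (centSupEquiv Q R') =
      (centSupEquiv Q R').trans (conjEquiv _ (x : G) hK) := by
    apply MulEquiv.ext
    intro k
    apply Subtype.ext
    rfl
  have h2 : pullBlock (conjEquiv _ (x : G) hK) (pullBlock (centSupEquiv Q R').symm g') =
      pullBlock (centSupEquiv Q R').symm g' := by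
    apply pullBlock_injective (centSupEquiv Q R')
    rw [pullBlock_trans, ← hcomm, ← pullBlock_trans, hgg, h1]
  have hxstY := stabilizesBlock_of_pullBlock_eq hK h2
  have hregY : IsPRegular p ((x : Subgroup.centralizer (Q : Set G)) : G) := by
    unfold IsPRegular at hreg ⊢
    rwa [Subgroup.orderOf_coe]
  have hcen := hnil.2 _ _ hYB _ hxNY hxstY hregY
  rw [Subgroup.mem_centralizer_iff]
  intro r' hr'
  apply Subtype.ext
  exact (Subgroup.mem_centralizer_iff.mp hcen) (r' : G)
    (Subgroup.mem_sup_right ⟨r', hr', rfl⟩)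

/-- **In a nilpotent block, `C_P(Q)` is a defect group of the block `f` of `C_G(Q)`**, for
`(Q, f) ≤ (P, e)`. -/
theorem isDefectGroup_of_nilpotent (hM : IsPModular p M) (B : Set (IrrCharacter G))
    (P : Subgroup G) (e : Set (IrrCharacter (Subgroup.centralizer (P : Set G))))
    (hmax : IsMaximalBrauerPair p M B P e) (hnil : IsNilpotentBlock p M B) (Q : Subgroup G)
    (f : Set (IrrCharacter (Subgroup.centralizer (Q : Set G))))
    (hle : SubpairLE p M Q f P e) :
    IsDefectGroup p M f ((P ⊓ Subgroup.centralizer (Q : Set G)).subgroupOf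
      (Subgroup.centralizer (Q : Set G))) := by
  have hPe := hmax.1.1
  obtain ⟨F, hF⟩ := exists_blockFusionSystem hM B P e hmax
  have hin := hom_eq_inner_of_nilpotent hM B P e hmax F hF hnil
  have hQP : Q ≤ P := fst_le_of_reflTransGen (⟨Q, f⟩ : BrauerPairIdx G) ⟨P, e⟩ hle
  have hf : IsPBlock M f :=
    (isBrauerPair_of_reflTransGen (a := ⟨Q, f⟩) (c := ⟨P, e⟩) hle hPe).2
  rw [← isFullyCentralized_iff hM B P e hmax F hF Q f hQP hf hle]
  refine ⟨hQP, ?_⟩
  rintro Q'' ⟨φ, hφ, rfl⟩
  rw [hin] at hφ
  obtain ⟨-, u, hu, hφu⟩ := hφ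
  rw [range_eq_map_conj hφu]
  have hPu : P.map (MulAut.conj u).toMonoidHom = P :=
    Subgroup.mem_normalizer_iff_map_conj_eq.mp (Subgroup.le_normalizer hu)
  have h1 : FusionSystem.centralizerIn P (Q.map (MulAut.conj u).toMonoidHom) =
      (FusionSystem.centralizerIn P Q).map (MulAut.conj u).toMonoidHom := by
    unfold FusionSystem.centralizerIn
    rw [Subgroup.map_inf _ _ _ (MulAut.conj u).injective, hPu]
    congr 1
    exact Cfsg.Agent.Helper25.centralizer_cj Q u
  rw [h1]
  exact le_of_eq (Subgroup.card_map_of_injective (MulAut.conj u).injective)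

end Cfsg.Agent.Helper23.NL
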