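import Mathlib
import Cfsg.Prelude.Def_Blocks
import Cfsg.Prelude.Def_BlockLocal
import Cfsg.Prelude.Def_BrauerPairs
import Cfsg.Agent.Helper23.NilpotentLocal
import Cfsg.Agent.Helper5.RestrictScalar
import Cfsg.Agent.Helper5.BlockSupport
import Cfsg.Agent.S0964
import Cfsg.Agent.S0966

set_option autoImplicit false
set_option linter.unusedSectionVars false
set_option linter.unusedVariables false

/-!
# Brauer pairs of a stable block of a normal subgroup and of the block covering it
-/

namespace Cfsg.Agent.Helper23.PIC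

open Cfsg Cfsg.Agent.Helper24 Cfsg.Agent.Helper5 Cfsg.Agent.Helper5.Loc Cfsg.Agent.Helper5.CC
open Cfsg.Agent.Helper14
open Cfsg.Agent.Helper23.BT Cfsg.Agent.Helper23.IC Cfsg.Agent.Helper23.TM
open Cfsg.Agent.Helper23.SB Cfsg.Agent.Helper23.TMH
open Cfsg.Agent.Helper23.SP Cfsg.Agent.Helper23.SU Cfsg.Agent.Helper23.PP
open Cfsg.Agent.Helper23.MP Cfsg.Agent.Helper23.PC Cfsg.Agent.Helper23.BC
open Cfsg.Agent.Helper23.MC Cfsg.Agent.Helper23.LD Cfsg.Agent.Helper23.ST
open Cfsg.Agent.Helper23.BF Cfsg.Agent.Helper23.RP Cfsg.Agent.Helper23.AD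
open Cfsg.Agent.Helper23.NS Cfsg.Agent.Helper23.NPI Cfsg.Agent.Helper23.II
open Cfsg.Agent.Helper23.CS Cfsg.Agent.Helper23.DP

variable {G : Type*} [Group G] [Fintype G] {M : Ideal AlgInt} {p : ℕ} [Fact p.Prime]

omit [Fintype G] in
theorem map_centralizer_subgroupOf_eq_inf (N R : Subgroup G) (hRN : R ≤ N) :
    (Subgroup.centralizer ((R.subgroupOf N : Subgroup N) : Set N)).map N.subtype =
      N ⊓ Subgroup.centralizer (R : Set G) := by
  ext y
  constructor
  · rintro ⟨y', hy', rfl⟩
    exact ⟨y'.2, (mem_centralizer_subgroupOf_iff R N hRN y').mp hy'⟩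
  · rintro ⟨hyN, hyC⟩
    exact ⟨⟨y, hyN⟩, (mem_centralizer_subgroupOf_iff R N hRN ⟨y, hyN⟩).mpr hyC, rfl⟩

/-- `C_N(R) ≃ N ∩ C_G(R)`. -/
noncomputable def kap1 (N R : Subgroup G) (hRN : R ≤ N) :
    Subgroup.centralizer ((R.subgroupOf N : Subgroup N) : Set N) ≃*
      (N ⊓ Subgroup.centralizer (R : Set G) : Subgroup G) :=
  liftEquiv N _ _ (map_centralizer_subgroupOf_eq_inf N R hRN)

omit [Fintype G] in
theorem coe_kap1 (N R : Subgroup G) (hRN : R ≤ N)
    (y : Subgroup.centralizer ((R.subgroupOf N : Subgroup N) : Set N)) :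
    ((kap1 N R hRN y : (N ⊓ Subgroup.centralizer (R : Set G) : Subgroup G)) : G) =
      ((y : N) : G) := rfl

/-- `N ∩ C_G(R)` as a subgroup of `C_G(R)`, and as a subgroup of `G`. -/
noncomputable def kap2 (N R : Subgroup G) :
    (N.subgroupOf (Subgroup.centralizer (R : Set G))) ≃*
      (N ⊓ Subgroup.centralizer (R : Set G) : Subgroup G) :=
  liftEquiv (Subgroup.centralizer (R : Set G)) _ _
    (Subgroup.subgroupOf_map_subtype N (Subgroup.centralizer (R : Set G)))

omit [Fintype G] in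
theorem coe_kap2 (N R : Subgroup G)
    (t : N.subgroupOf (Subgroup.centralizer (R : Set G))) :
    ((kap2 N R t : (N ⊓ Subgroup.centralizer (R : Set G) : Subgroup G)) : G) =
      ((t : Subgroup.centralizer (R : Set G)) : G) := rfl

/-- The covering relation between an irreducible character of `C_G(R)` and one of
`N ∩ C_G(R)`. -/
def Cov (N R : Subgroup G) [Fintype (N ⊓ Subgroup.centralizer (R : Set G) : Subgroup G)]
    (ξ : IrrCharacter (Subgroup.centralizer (R : Set G)))
    (θ₀ : IrrCharacter (N ⊓ Subgroup.centralizer (R : Set G) : Subgroup G)) : Prop :=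
  classInner (fun k : (N ⊓ Subgroup.centralizer (R : Set G) : Subgroup G) =>
    (ξ : Subgroup.centralizer (R : Set G) → ℂ) ⟨(k : G), k.2.2⟩)
    (θ₀ : (N ⊓ Subgroup.centralizer (R : Set G) : Subgroup G) → ℂ) ≠ 0

/-- The covering relation, read in the group `C_G(R)` with its normal subgroup `N ∩ C_G(R)`. -/
theorem cov_iff (N R : Subgroup G) [Fintype (N ⊓ Subgroup.centralizer (R : Set G) : Subgroup G)]
    [Fintype (N.subgroupOf (Subgroup.centralizer (R : Set G)))]
    (ξ : IrrCharacter (Subgroup.centralizer (R : Set G)))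
    (θ₀ : IrrCharacter (N ⊓ Subgroup.centralizer (R : Set G) : Subgroup G)) :
    Cov N R ξ θ₀ ↔ classInner (fun n : N.subgroupOf (Subgroup.centralizer (R : Set G)) =>
        (ξ : Subgroup.centralizer (R : Set G) → ℂ) n)
      ((pullIrr (kap2 N R) θ₀ : IrrCharacter _) :
        N.subgroupOf (Subgroup.centralizer (R : Set G)) → ℂ) ≠ 0 := by
  classical
  unfold Cov
  have h := classInner_comp_mulEquiv (kap2 N R)
    (fun k : (N ⊓ Subgroup.centralizer (R : Set G) : Subgroup G) =>
      (ξ : Subgroup.centralizer (R : Set G) → ℂ) ⟨(k : G), k.2.2⟩)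
    (θ₀ : (N ⊓ Subgroup.centralizer (R : Set G) : Subgroup G) → ℂ)
  have e1 : (fun x : N.subgroupOf (Subgroup.centralizer (R : Set G)) =>
      (fun k : (N ⊓ Subgroup.centralizer (R : Set G) : Subgroup G) =>
        (ξ : Subgroup.centralizer (R : Set G) → ℂ) ⟨(k : G), k.2.2⟩) (kap2 N R x)) =
      (fun n : N.subgroupOf (Subgroup.centralizer (R : Set G)) =>
        (ξ : Subgroup.centralizer (R : Set G) → ℂ) n) := by
    funext x
    rfl
  rw [e1] at h
  rw [← h]
  exact Iff.rfl

/-- **The Brauer functional of `B` at `ξ` equals that of `c` at a constituent of `ξ`.** -/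
theorem brauerOmega_eq_of_cov (N R : Subgroup G) [hN : N.Normal] (hRN : R ≤ N)
    [Fintype (N ⊓ Subgroup.centralizer (R : Set G) : Subgroup G)]
    (B : Set (IrrCharacter G)) (c : Set (IrrCharacter N))
    (hBc : ∀ g : G, blockCoeff B g = subgroupBlockCoeff N c g)
    (ξ : IrrCharacter (Subgroup.centralizer (R : Set G)))
    (θ₀ : IrrCharacter (N ⊓ Subgroup.centralizer (R : Set G) : Subgroup G))
    (h : Cov N R ξ θ₀) :
    brauerOmega R (blockCoeff B) (ξ : Subgroup.centralizer (R : Set G) → ℂ) =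
      brauerOmega (R.subgroupOf N) (blockCoeff c)
        ((pullIrr (kap1 N R hRN) θ₀ : IrrCharacter _) :
          Subgroup.centralizer ((R.subgroupOf N : Subgroup N) : Set N) → ℂ) := by
  classical
  have : Fintype (Subgroup.centralizer (R : Set G)) := Fintype.ofFinite _
  have : Fintype (N.subgroupOf (Subgroup.centralizer (R : Set G))) := Fintype.ofFinite _
  have : Fintype N := Fintype.ofFinite _
  have : Fintype (IrrCharacter G) := Fintype.ofFinite _
  have : Fintype (Subgroup.centralizer ((R.subgroupOf N : Subgroup N) : Set N)) :=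
    Fintype.ofFinite _
  have hK'n : (N.subgroupOf (Subgroup.centralizer (R : Set G))).Normal := inferInstance
  have ha : IsClassFunction (Subgroup.centralizer (R : Set G))
      (fun t : Subgroup.centralizer (R : Set G) => blockCoeff B (t : G)) := by
    intro g x
    exact isClassFunction_blockCoeff B (g : G) (x : G)
  have h' := (cov_iff N R ξ θ₀).mp h
  have h1 := Cfsg.Agent.Helper5.RS.restrict_scalar_eq
    (N.subgroupOf (Subgroup.centralizer (R : Set G))) ξ (pullIrr (kap2 N R) θ₀) h'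
    (fun t : Subgroup.centralizer (R : Set G) => blockCoeff B (t : G)) ha
  have hL : brauerOmega R (blockCoeff B) (ξ : Subgroup.centralizer (R : Set G) → ℂ) =
      (∑ t : N.subgroupOf (Subgroup.centralizer (R : Set G)),
        blockCoeff B ((t : Subgroup.centralizer (R : Set G)) : G) *
          (ξ : Subgroup.centralizer (R : Set G) → ℂ) t) /
        (ξ : Subgroup.centralizer (R : Set G) → ℂ) 1 := by
    rw [brauerOmega, finsum_eq_sum_of_fintype, ← Finset.sum_div]
    congr 1
    rw [Cfsg.Agent.Helper5.RS.sum_subgroup_eq_sum'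
      (N.subgroupOf (Subgroup.centralizer (R : Set G)))
      (fun t : Subgroup.centralizer (R : Set G) => blockCoeff B (t : G) *
        (ξ : Subgroup.centralizer (R : Set G) → ℂ) t)]
    intro t ht
    have htN : (t : G) ∉ N := fun hh => ht (Subgroup.mem_subgroupOf.mpr hh)
    rw [hBc, subgroupBlockCoeff_eq_ext0, ext0_of_not_mem _ _ htN, zero_mul]
  rw [hL, ← h1, brauerOmega, finsum_eq_sum_of_fintype, ← Finset.sum_div]
  have e4 : ((pullIrr (kap1 N R hRN) θ₀ : IrrCharacter _) :
      Subgroup.centralizer ((R.subgroupOf N : Subgroup N) : Set N) → ℂ) 1 =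
      ((pullIrr (kap2 N R) θ₀ : IrrCharacter _) :
        N.subgroupOf (Subgroup.centralizer (R : Set G)) → ℂ) 1 := by
    rw [pullIrr_apply, pullIrr_apply, map_one, map_one]
  rw [e4]
  congr 1
  rw [← Equiv.sum_comp ((kap1 N R hRN).trans (kap2 N R).symm).toEquiv]
  refine Finset.sum_congr rfl fun y _ => ?_
  have e5 : ((((kap1 N R hRN).trans (kap2 N R).symm).toEquiv y :
      N.subgroupOf (Subgroup.centralizer (R : Set G))) : Subgroup.centralizer (R : Set G)) =
      ⟨((y : N) : G), (kap1 N R hRN y).2.2⟩ := by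
    apply Subtype.ext
    have := coe_kap2 N R ((kap2 N R).symm (kap1 N R hRN y))
    rw [MulEquiv.apply_symm_apply] at this
    exact this.symm
  rw [pullIrr_apply, pullIrr_apply]
  have e6 : (kap2 N R) (((kap1 N R hRN).trans (kap2 N R).symm).toEquiv y) = kap1 N R hRN y := by
    show (kap2 N R) ((kap2 N R).symm (kap1 N R hRN y)) = _
    rw [MulEquiv.apply_symm_apply]
  rw [e6, e5]
  congr 1
  show blockCoeff B ((y : N) : G) = blockCoeff c (y : N)
  rw [hBc, subgroupBlockCoeff_eq_ext0, ext0_coe]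

/-- A pair of `B` on `R ≤ N` gives a pair of `c` on `R`, through any covered block. -/
theorem isBrauerPairOf_down_of_cov (hM : IsPModular p M) (N R : Subgroup G) [hN : N.Normal]
    (hRN : R ≤ N) [Fintype (N ⊓ Subgroup.centralizer (R : Set G) : Subgroup G)]
    (B : Set (IrrCharacter G)) (c : Set (IrrCharacter N)) (hc : IsPBlock M c)
    (hBc : ∀ g : G, blockCoeff B g = subgroupBlockCoeff N c g)
    (g : Set (IrrCharacter (Subgroup.centralizer (R : Set G))))
    (b₀ : Set (IrrCharacter (N ⊓ Subgroup.centralizer (R : Set G) : Subgroup G)))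
    (hb₀ : IsPBlock M b₀)
    (ξ : IrrCharacter (Subgroup.centralizer (R : Set G))) (hξ : ξ ∈ g)
    (θ₀ : IrrCharacter (N ⊓ Subgroup.centralizer (R : Set G) : Subgroup G)) (hθ₀ : θ₀ ∈ b₀)
    (hcov : Cov N R ξ θ₀) (hRg : IsBrauerPairOf p M B R g) :
    IsBrauerPairOf p M c (R.subgroupOf N) (pullBlock (kap1 N R hRN) b₀) := by
  classical
  have : Fintype N := Fintype.ofFinite _
  have : Fintype (Subgroup.centralizer ((R.subgroupOf N : Subgroup N) : Set N)) :=
    Fintype.ofFinite _
  have hpair : IsBrauerPair p M (R.subgroupOf N) (pullBlock (kap1 N R hRN) b₀) :=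
    ⟨hRg.1.1.comap_subtype, isPBlock_pullBlock _ hb₀⟩
  rw [isBrauerPairOf_iff_one hM (R.subgroupOf N) _ hpair (pullIrr (kap1 N R hRN) θ₀)
    ((pullIrr_mem_pullBlock_iff _ b₀ θ₀).mpr hθ₀) c hc,
    ← brauerOmega_eq_of_cov N R hRN B c hBc ξ θ₀ hcov]
  exact hRg.2.2 ξ hξ

/-- A pair of `c` on `R ≤ N` gives a pair of `B` on `R`, through any covering block. -/
theorem isBrauerPairOf_up_of_cov (hM : IsPModular p M) (N R : Subgroup G) [hN : N.Normal]
    (hRN : R ≤ N) [Fintype (N ⊓ Subgroup.centralizer (R : Set G) : Subgroup G)]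
    (B : Set (IrrCharacter G)) (hB : IsPBlock M B) (c : Set (IrrCharacter N))
    (hBc : ∀ g : G, blockCoeff B g = subgroupBlockCoeff N c g)
    (hR : IsPGroup p R)
    (g : Set (IrrCharacter (Subgroup.centralizer (R : Set G)))) (hg : IsPBlock M g)
    (b₀ : Set (IrrCharacter (N ⊓ Subgroup.centralizer (R : Set G) : Subgroup G)))
    (ξ : IrrCharacter (Subgroup.centralizer (R : Set G))) (hξ : ξ ∈ g)
    (θ₀ : IrrCharacter (N ⊓ Subgroup.centralizer (R : Set G) : Subgroup G)) (hθ₀ : θ₀ ∈ b₀)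
    (hcov : Cov N R ξ θ₀)
    (hcp : IsBrauerPairOf p M c (R.subgroupOf N) (pullBlock (kap1 N R hRN) b₀)) :
    IsBrauerPairOf p M B R g := by
  classical
  have : Fintype (Subgroup.centralizer (R : Set G)) := Fintype.ofFinite _
  rw [isBrauerPairOf_iff_one hM R g ⟨hR, hg⟩ ξ hξ B hB,
    brauerOmega_eq_of_cov N R hRN B c hBc ξ θ₀ hcov]
  exact hcp.2.2 _ ((pullIrr_mem_pullBlock_iff _ b₀ θ₀).mpr hθ₀)

end Cfsg.Agent.Helper23.PIC
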