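import Mathlib
import Cfsg.Prelude.Def_Blocks
import Cfsg.Prelude.Def_BlockLocal
import Cfsg.Prelude.Def_BrauerPairs
import Cfsg.Agent.Helper23.PIndexCover

set_option autoImplicit false
set_option linter.unusedSectionVars false
set_option linter.unusedVariables false

/-!
# Nilpotency of a stable block of a normal subgroup of `p`-power index
-/

namespace Cfsg.Agent.Helper23.PIN

open Cfsg Cfsg.Agent.Helper24 Cfsg.Agent.Helper5 Cfsg.Agent.Helper5.Loc Cfsg.Agent.Helper5.CC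
open Cfsg.Agent.Helper14
open Cfsg.Agent.Helper23.BT Cfsg.Agent.Helper23.IC Cfsg.Agent.Helper23.TM
open Cfsg.Agent.Helper23.SB Cfsg.Agent.Helper23.TMH
open Cfsg.Agent.Helper23.SP Cfsg.Agent.Helper23.SU Cfsg.Agent.Helper23.PP
open Cfsg.Agent.Helper23.MP Cfsg.Agent.Helper23.PC Cfsg.Agent.Helper23.BC
open Cfsg.Agent.Helper23.MC Cfsg.Agent.Helper23.LD Cfsg.Agent.Helper23.ST
open Cfsg.Agent.Helper23.BF Cfsg.Agent.Helper23.RP Cfsg.Agent.Helper23.AD
open Cfsg.Agent.Helper23.NS Cfsg.Agent.Helper23.NPI Cfsg.Agent.Helper23.II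
open Cfsg.Agent.Helper23.CS Cfsg.Agent.Helper23.DP Cfsg.Agent.Helper23.PIC
open Cfsg.Agent.Helper23.BFA

variable {G : Type*} [Group G] [Fintype G] {M : Ideal AlgInt} {p : ℕ} [Fact p.Prime]

omit [Fintype G] in
theorem index_subgroupOf_pow (N : Subgroup G) [N.Normal] (hN : ∃ k : ℕ, N.index = p ^ k)
    (H : Subgroup G) : ∃ j : ℕ, (N.subgroupOf H).index = p ^ j := by
  obtain ⟨k, hk⟩ := hN
  have h1 : (N.subgroupOf H).index ∣ N.index := Subgroup.relIndex_dvd_index_of_normal N H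
  rw [hk] at h1
  obtain ⟨j, -, hj⟩ := (Nat.dvd_prime_pow (Fact.out)).mp h1
  exact ⟨j, hj⟩

omit [Fintype G] in
/-- An element normalizing `R` normalizes `N ∩ C_G(R)`. -/
theorem mem_normalizer_hub (N R : Subgroup G) [hN : N.Normal] {y : G}
    (hy : y ∈ Subgroup.normalizer (R : Set G)) :
    y ∈ Subgroup.normalizer
      ((N ⊓ Subgroup.centralizer (R : Set G) : Subgroup G) : Set G) := by
  have hyC := le_normalizer_centralizer (le_refl _) hy
  rw [Subgroup.mem_normalizer_iff] at hyC ⊢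
  intro k
  constructor
  · rintro ⟨h1, h2⟩
    exact ⟨hN.conj_mem k h1 y, (hyC k).mp h2⟩
  · rintro ⟨h1, h2⟩
    refine ⟨?_, (hyC k).mpr h2⟩
    have := hN.conj_mem _ h1 y⁻¹
    simpa [mul_assoc] using this

/-- Two blocks of `C_G(R)` covering the same block of `N ∩ C_G(R)` are equal. -/
theorem cover_unique (hM : IsPModular p M) (N R : Subgroup G) [N.Normal]
    (hN : ∃ k : ℕ, N.index = p ^ k)
    [Fintype (N ⊓ Subgroup.centralizer (R : Set G) : Subgroup G)]
    (b₀ : Set (IrrCharacter (N ⊓ Subgroup.centralizer (R : Set G) : Subgroup G)))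
    (hb₀ : IsPBlock M b₀)
    (g₁ g₂ : Set (IrrCharacter (Subgroup.centralizer (R : Set G))))
    (hg₁ : IsPBlock M g₁) (hg₂ : IsPBlock M g₂)
    (ξ₁ ξ₂ : IrrCharacter (Subgroup.centralizer (R : Set G))) (hξ₁ : ξ₁ ∈ g₁) (hξ₂ : ξ₂ ∈ g₂)
    (θ₁ θ₂ : IrrCharacter (N ⊓ Subgroup.centralizer (R : Set G) : Subgroup G))
    (hθ₁ : θ₁ ∈ b₀) (hθ₂ : θ₂ ∈ b₀) (h1 : Cov N R ξ₁ θ₁) (h2 : Cov N R ξ₂ θ₂) : g₁ = g₂ := by
  classical
  have : Fintype (Subgroup.centralizer (R : Set G)) := Fintype.ofFinite _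
  have : Fintype (N.subgroupOf (Subgroup.centralizer (R : Set G))) := Fintype.ofFinite _
  have hK'n : (N.subgroupOf (Subgroup.centralizer (R : Set G))).Normal := inferInstance
  have hu := Cfsg.Agent.S0966.result p M hM (N.subgroupOf (Subgroup.centralizer (R : Set G)))
    (index_subgroupOf_pow N hN _) (pullBlock (kap2 N R) b₀) (isPBlock_pullBlock _ hb₀)
  exact hu.unique
    ⟨hg₁, ξ₁, hξ₁, pullIrr (kap2 N R) θ₁, (pullIrr_mem_pullBlock_iff _ b₀ θ₁).mpr hθ₁,
      (cov_iff N R ξ₁ θ₁).mp h1⟩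
    ⟨hg₂, ξ₂, hξ₂, pullIrr (kap2 N R) θ₂, (pullIrr_mem_pullBlock_iff _ b₀ θ₂).mpr hθ₂,
      (cov_iff N R ξ₂ θ₂).mp h2⟩

/-- Every irreducible character of `N ∩ C_G(R)` lies under one of `C_G(R)`. -/
theorem exists_cover (N R : Subgroup G)
    [Fintype (N ⊓ Subgroup.centralizer (R : Set G) : Subgroup G)]
    (θ₀ : IrrCharacter (N ⊓ Subgroup.centralizer (R : Set G) : Subgroup G)) :
    ∃ ξ : IrrCharacter (Subgroup.centralizer (R : Set G)), Cov N R ξ θ₀ := by
  classical
  have : Fintype (Subgroup.centralizer (R : Set G)) := Fintype.ofFinite _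
  have : Fintype (N.subgroupOf (Subgroup.centralizer (R : Set G))) := Fintype.ofFinite _
  have : Fintype (IrrCharacter (Subgroup.centralizer (R : Set G))) := Fintype.ofFinite _
  obtain ⟨ξ, hξ⟩ := Cfsg.Agent.S0963.exists_irr_over
    (N.subgroupOf (Subgroup.centralizer (R : Set G))) (pullIrr (kap2 N R) θ₀)
  exact ⟨ξ, (cov_iff N R ξ θ₀).mpr hξ⟩

/-- Every irreducible character of `C_G(R)` lies over one of `N ∩ C_G(R)`. -/
theorem exists_under (N R : Subgroup G)
    [Fintype (N ⊓ Subgroup.centralizer (R : Set G) : Subgroup G)]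
    (ξ : IrrCharacter (Subgroup.centralizer (R : Set G))) :
    ∃ θ₀ : IrrCharacter (N ⊓ Subgroup.centralizer (R : Set G) : Subgroup G), Cov N R ξ θ₀ := by
  classical
  have : Fintype (Subgroup.centralizer (R : Set G)) := Fintype.ofFinite _
  have : Fintype (N.subgroupOf (Subgroup.centralizer (R : Set G))) := Fintype.ofFinite _
  obtain ⟨θ', hθ'⟩ := exists_constituent_restrict
    (N.subgroupOf (Subgroup.centralizer (R : Set G))) ξ
  refine ⟨pullIrr (kap2 N R).symm θ', (cov_iff N R ξ _).mpr ?_⟩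
  rw [pullIrr_pullIrr_symm]
  exact hθ'

/-- Covering is compatible with conjugation by elements normalizing `R`. -/
theorem cov_conj (N R : Subgroup G)
    [Fintype (N ⊓ Subgroup.centralizer (R : Set G) : Subgroup G)] (y : G)
    (hyH : y ∈ Subgroup.normalizer
      ((Subgroup.centralizer (R : Set G) : Subgroup G) : Set G))
    (hyK : y ∈ Subgroup.normalizer
      ((N ⊓ Subgroup.centralizer (R : Set G) : Subgroup G) : Set G))
    (ξ : IrrCharacter (Subgroup.centralizer (R : Set G)))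
    (θ₀ : IrrCharacter (N ⊓ Subgroup.centralizer (R : Set G) : Subgroup G))
    (h : Cov N R ξ θ₀) :
    Cov N R (pullIrr (conjEquiv _ y hyH) ξ) (pullIrr (conjEquiv _ y hyK) θ₀) := by
  unfold Cov at h ⊢
  rw [← classInner_comp_mulEquiv (conjEquiv _ y hyK)] at h
  exact h

/-- Blocks of `N ∩ C_G(R)` lying under the same block of `C_G(R)` are conjugate under
`C_G(R)`. -/
theorem cover_conj (hM : IsPModular p M) (N R : Subgroup G) [hNn : N.Normal]
    [Fintype (N ⊓ Subgroup.centralizer (R : Set G) : Subgroup G)]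
    (g : Set (IrrCharacter (Subgroup.centralizer (R : Set G)))) (hg : IsPBlock M g)
    (b₀ : Set (IrrCharacter (N ⊓ Subgroup.centralizer (R : Set G) : Subgroup G)))
    (hb₀ : IsPBlock M b₀)
    (ξ : IrrCharacter (Subgroup.centralizer (R : Set G))) (hξ : ξ ∈ g)
    (θ₀ : IrrCharacter (N ⊓ Subgroup.centralizer (R : Set G) : Subgroup G)) (hθ₀ : θ₀ ∈ b₀)
    (hcov : Cov N R ξ θ₀)
    (ξ' : IrrCharacter (Subgroup.centralizer (R : Set G))) (hξ' : ξ' ∈ g)
    (ψ₀ : IrrCharacter (N ⊓ Subgroup.centralizer (R : Set G) : Subgroup G))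
    (hcov' : Cov N R ξ' ψ₀) :
    ∃ h : G, h ∈ Subgroup.centralizer (R : Set G) ∧
      ∃ hhn : h ∈ Subgroup.normalizer
        ((N ⊓ Subgroup.centralizer (R : Set G) : Subgroup G) : Set G),
        pullIrr (conjEquiv _ h hhn) ψ₀ ∈ b₀ := by
  classical
  have : Fintype (Subgroup.centralizer (R : Set G)) := Fintype.ofFinite _
  have : Fintype (N.subgroupOf (Subgroup.centralizer (R : Set G))) := Fintype.ofFinite _
  have hK'n : (N.subgroupOf (Subgroup.centralizer (R : Set G))).Normal := inferInstance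
  obtain ⟨t, θ', hθ', ht⟩ := Cfsg.Agent.S0964.result p M hM
    (N.subgroupOf (Subgroup.centralizer (R : Set G))) g hg (pullBlock (kap2 N R) b₀)
    (isPBlock_pullBlock _ hb₀) ξ hξ (pullIrr (kap2 N R) θ₀)
    ((pullIrr_mem_pullBlock_iff _ b₀ θ₀).mpr hθ₀) ((cov_iff N R ξ θ₀).mp hcov) ξ' hξ'
    (pullIrr (kap2 N R) ψ₀) ((cov_iff N R ξ' ψ₀).mp hcov')
  have hhn : (t : G) ∈ Subgroup.normalizer
      ((N ⊓ Subgroup.centralizer (R : Set G) : Subgroup G) : Set G) :=
    mem_normalizer_hub N R (Subgroup.centralizer_le_normalizer (R : Set G) t.2)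
  refine ⟨(t : G), t.2, hhn, ?_⟩
  have he : pullIrr (conjEquiv _ (t : G) hhn) ψ₀ = pullIrr (kap2 N R).symm θ' := by
    apply Subtype.ext
    funext k
    rw [pullIrr_apply, pullIrr_apply]
    have h1 := ht ((kap2 N R).symm (conjEquiv _ (t : G) hhn k))
    rw [pullIrr_apply, MulEquiv.apply_symm_apply] at h1
    rw [h1]
    refine congrArg _ ?_
    apply Subtype.ext
    apply Subtype.ext
    have h2 := coe_kap2 N R ((kap2 N R).symm (conjEquiv _ (t : G) hhn k))
    rw [MulEquiv.apply_symm_apply, conjEquiv_apply] at h2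
    have h3 := coe_kap2 N R ((kap2 N R).symm k)
    rw [MulEquiv.apply_symm_apply] at h3
    show (t : G) * (((((kap2 N R).symm (conjEquiv _ (t : G) hhn k) :
      N.subgroupOf (Subgroup.centralizer (R : Set G))) :
        Subgroup.centralizer (R : Set G)) : G)) * (t : G)⁻¹ = _
    rw [← h2, ← h3]
    group
  rw [he]
  exact hθ'

omit [Fintype G] in
/-- Conjugation by an element of `N` commutes with the identification `C_N(R) ≃ N ∩ C_G(R)`. -/
theorem pullBlock_kap1_conj (N R : Subgroup G) (hRN : R ≤ N) (x : N)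
    (hx' : x ∈ Subgroup.normalizer
      ((Subgroup.centralizer ((R.subgroupOf N : Subgroup N) : Set N) : Subgroup N) : Set N))
    (hx : (x : G) ∈ Subgroup.normalizer
      ((N ⊓ Subgroup.centralizer (R : Set G) : Subgroup G) : Set G))
    (b₀ : Set (IrrCharacter (N ⊓ Subgroup.centralizer (R : Set G) : Subgroup G))) :
    pullBlock (conjEquiv _ x hx') (pullBlock (kap1 N R hRN) b₀) =
      pullBlock (kap1 N R hRN) (pullBlock (conjEquiv _ (x : G) hx) b₀) := by
  rw [pullBlock_trans, pullBlock_trans]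
  congr 1
  apply MulEquiv.ext
  intro k
  apply Subtype.ext
  rfl

omit [Fintype G] in
/-- Powers of an element fixing a block fix it. -/
theorem pullBlock_conj_pow {K : Subgroup G} (b : Set (IrrCharacter K)) (y : G)
    (hy : y ∈ Subgroup.normalizer (K : Set G))
    (h : pullBlock (conjEquiv K y hy) b = b) (n : ℕ) (z : G)
    (hz : z ∈ Subgroup.normalizer (K : Set G)) (hzy : z = y ^ n) :
    pullBlock (conjEquiv K z hz) b = b := by
  induction n generalizing z with
  | zero =>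
    rw [pow_zero] at hzy
    subst hzy
    rw [conjEquiv_one]
    ext ξ
    rw [mem_pullBlock_iff]
    have : pullIrr (MulEquiv.refl _).symm ξ = ξ := Subtype.ext rfl
    rw [this]
  | succ n ih =>
    rw [pow_succ] at hzy
    subst hzy
    rw [conjEquiv_mul K (y ^ n) y (Subgroup.pow_mem _ hy n) hy, ← pullBlock_trans, h]
    exact ih _ _ rfl

omit [Fintype G] in
theorem mem_normalizer_subgroupOf_iff (N R : Subgroup G) (hRN : R ≤ N) (x : N) :
    x ∈ Subgroup.normalizer ((R.subgroupOf N : Subgroup N) : Set N) ↔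
      (x : G) ∈ Subgroup.normalizer (R : Set G) := by
  rw [← Subgroup.subgroupOf_normalizer_eq hRN, Subgroup.mem_subgroupOf]

/-- The pairs of `c` on subgroups of the form `R.subgroupOf N`: their stabilizers are controlled
by `B`. -/
theorem nilpotent_down_aux (hM : IsPModular p M) (N : Subgroup G) [hNn : N.Normal]
    (hN : ∃ k : ℕ, N.index = p ^ k) (c : Set (IrrCharacter N)) (hc : IsPBlock M c)
    (B : Set (IrrCharacter G)) (hB : IsPBlock M B)
    (hBc : ∀ g : G, blockCoeff B g = subgroupBlockCoeff N c g)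
    (hnil : IsNilpotentBlock p M B) (R : Subgroup G) (hRN : R ≤ N)
    (g' : Set (IrrCharacter (Subgroup.centralizer ((R.subgroupOf N : Subgroup N) : Set N))))
    (hpair : IsBrauerPairOf p M c (R.subgroupOf N) g') (x' : N)
    (hx'n : x' ∈ Subgroup.normalizer ((R.subgroupOf N : Subgroup N) : Set N))
    (hx'st : StabilizesBlock
      (Subgroup.centralizer ((R.subgroupOf N : Subgroup N) : Set N)) g' x')
    (hx'reg : IsPRegular p x') :
    x' ∈ Subgroup.centralizer ((R.subgroupOf N : Subgroup N) : Set N) := by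
  classical
  have hMp := isPrime_of_isPModular hM
  have : Fintype (N ⊓ Subgroup.centralizer (R : Set G) : Subgroup G) := Fintype.ofFinite _
  have : Fintype N := Fintype.ofFinite _
  have : Fintype (Subgroup.centralizer (R : Set G)) := Fintype.ofFinite _
  have : Fintype (Subgroup.centralizer ((R.subgroupOf N : Subgroup N) : Set N)) :=
    Fintype.ofFinite _
  have hb₀ : IsPBlock M (pullBlock (kap1 N R hRN).symm g') := isPBlock_pullBlock _ hpair.1.2
  have he : pullBlock (kap1 N R hRN) (pullBlock (kap1 N R hRN).symm g') = g' :=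
    pullBlock_symm_pullBlock (kap1 N R hRN).symm g'
  obtain ⟨θ₀, hθ₀⟩ := IsPBlock.nonempty hMp hb₀
  obtain ⟨ξ, hcov⟩ := exists_cover N R θ₀
  have hg : IsPBlock M (blockOf M (ξ : Subgroup.centralizer (R : Set G) → ℂ)) :=
    isPBlock_blockOf ξ
  have hξ : ξ ∈ blockOf M (ξ : Subgroup.centralizer (R : Set G) → ℂ) := mem_blockOf_self hMp ξ
  have hR : IsPGroup p R := hpair.1.1.of_equiv (Subgroup.subgroupOfEquivOfLe hRN)
  have hRg : IsBrauerPairOf p M B R (blockOf M (ξ : Subgroup.centralizer (R : Set G) → ℂ)) :=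
    isBrauerPairOf_up_of_cov hM N R hRN B hB c hBc hR _ hg _ ξ hξ θ₀ hθ₀ hcov
      (by rw [he]; exact hpair)
  have hxR : (x' : G) ∈ Subgroup.normalizer (R : Set G) :=
    (mem_normalizer_subgroupOf_iff N R hRN x').mp hx'n
  have hxK := mem_normalizer_hub N R hxR
  have hxH := le_normalizer_centralizer (le_refl _) hxR
  have hx'C := le_normalizer_centralizer (le_refl _) hx'n
  -- `x` fixes the block of `N ∩ C_G(R)`
  have hb₀x : pullBlock (conjEquiv _ (x' : G) hxK) (pullBlock (kap1 N R hRN).symm g') =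
      pullBlock (kap1 N R hRN).symm g' := by
    apply pullBlock_injective (kap1 N R hRN)
    rw [← pullBlock_kap1_conj N R hRN x' hx'C hxK, he]
    exact pullBlock_eq_of_stabilizesBlock hx'C hx'st
  -- hence it fixes the covering block
  have hgx : pullBlock (conjEquiv _ (x' : G) hxH)
      (blockOf M (ξ : Subgroup.centralizer (R : Set G) → ℂ)) =
      blockOf M (ξ : Subgroup.centralizer (R : Set G) → ℂ) := by
    apply cover_unique hM N R hN _ hb₀ _ _ (isPBlock_pullBlock _ hg) hg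
      (pullIrr (conjEquiv _ (x' : G) hxH) ξ) ξ
      ((pullIrr_mem_pullBlock_iff _ _ ξ).mpr hξ) hξ
      (pullIrr (conjEquiv _ (x' : G) hxK) θ₀) θ₀ _ hθ₀
      (cov_conj N R (x' : G) hxH hxK ξ θ₀ hcov) hcov
    rw [← hb₀x]
    exact (pullIrr_mem_pullBlock_iff _ _ θ₀).mpr hθ₀
  have hst := stabilizesBlock_of_pullBlock_eq hxH hgx
  have hreg : IsPRegular p (x' : G) := by
    unfold IsPRegular at hx'reg ⊢
    rwa [Subgroup.orderOf_coe]
  have := hnil.2 R _ hRg (x' : G) hxR hst hreg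
  exact (mem_centralizer_subgroupOf_iff R N hRN x').mpr this

/-- **If `B` is nilpotent then so is `c`.** -/
theorem nilpotent_down (hM : IsPModular p M) (N : Subgroup G) [hNn : N.Normal]
    (hN : ∃ k : ℕ, N.index = p ^ k) (c : Set (IrrCharacter N)) (hc : IsPBlock M c)
    (B : Set (IrrCharacter G)) (hB : IsPBlock M B)
    (hBc : ∀ g : G, blockCoeff B g = subgroupBlockCoeff N c g)
    (hnil : IsNilpotentBlock p M B) : IsNilpotentBlock p M c := by
  refine ⟨hc, ?_⟩
  intro R' g' hpair x' hx'n hx'st hx'reg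
  have key : ∀ R'' : Subgroup N, (R'.map N.subtype).subgroupOf N = R'' →
      ∀ g'' : Set (IrrCharacter (Subgroup.centralizer (R'' : Set N))),
        IsBrauerPairOf p M c R'' g'' → x' ∈ Subgroup.normalizer (R'' : Set N) →
        StabilizesBlock (Subgroup.centralizer (R'' : Set N)) g'' x' →
        x' ∈ Subgroup.centralizer (R'' : Set N) := by
    rintro _ rfl g'' hpair'' hn'' hst''
    exact nilpotent_down_aux hM N hN c hc B hB hBc hnil (R'.map N.subtype)
      (Subgroup.map_subtype_le R') g'' hpair'' x' hn'' hst'' hx'reg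
  exact key R' (subgroupOf_map_subtype' R') g' hpair hx'n hx'st

omit [Fintype G] in
/-- If `x` normalizes `R`, `h` centralizes `R`, and a power of `h * x` with exponent prime to the
order of `x` centralizes `R`, then `x` centralizes `R`. -/
theorem mem_centralizer_of_pow (R : Subgroup G) (x h : G)
    (hx : x ∈ Subgroup.normalizer (R : Set G)) (hh : h ∈ Subgroup.centralizer (R : Set G))
    (n : ℕ) (hn : (h * x) ^ n ∈ Subgroup.centralizer (R : Set G))
    (hcop : n.Coprime (orderOf x)) : x ∈ Subgroup.centralizer (R : Set G) := by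
  have hhN : h ∈ Subgroup.normalizer (R : Set G) := Subgroup.centralizer_le_normalizer _ hh
  have mem_ker : ∀ t : Subgroup.normalizer (R : Set G),
      R.normalizerMonoidHom t = 1 ↔ (t : G) ∈ Subgroup.centralizer (R : Set G) := by
    intro t
    rw [← MonoidHom.mem_ker, Subgroup.normalizerMonoidHom_ker, Subgroup.mem_subgroupOf]
  have h1 : R.normalizerMonoidHom ⟨h, hhN⟩ = 1 := (mem_ker _).mpr hh
  have h2 : R.normalizerMonoidHom (⟨h, hhN⟩ * ⟨x, hx⟩) ^ n = 1 := by
    rw [← map_pow]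
    exact (mem_ker _).mpr hn
  rw [map_mul, h1, one_mul] at h2
  have h3 : R.normalizerMonoidHom ⟨x, hx⟩ ^ orderOf x = 1 := by
    rw [← map_pow]
    apply (mem_ker _).mpr
    show x ^ orderOf x ∈ _
    rw [pow_orderOf_eq_one]
    exact Subgroup.one_mem _
  have h4 := orderOf_dvd_of_pow_eq_one h2
  have h5 := orderOf_dvd_of_pow_eq_one h3
  have h6 := Nat.dvd_gcd h4 h5
  rw [hcop, Nat.dvd_one] at h6
  exact (mem_ker _).mp (orderOf_eq_one_iff.mp h6)

omit [Fintype G] in
/-- A `p`-regular element of the normal subgroup `N` normalizing the `p`-group `Q` and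
centralizing `Q ∩ N` centralizes `Q`. -/
theorem mem_centralizer_of_inf (N Q : Subgroup G) [hN : N.Normal] (hQ : IsPGroup p Q) (x : G)
    (hxN : x ∈ N) (hxQ : x ∈ Subgroup.normalizer (Q : Set G))
    (hxC : x ∈ Subgroup.centralizer ((Q ⊓ N : Subgroup G) : Set G))
    (hreg : ¬ p ∣ orderOf x) : x ∈ Subgroup.centralizer (Q : Set G) := by
  have hp : p.Prime := Fact.out
  rw [Subgroup.mem_centralizer_iff]
  intro q hq
  have hcQ : x * q * x⁻¹ * q⁻¹ ∈ Q :=
    Q.mul_mem ((Subgroup.mem_normalizer_iff.mp hxQ q).mp hq) (Q.inv_mem hq)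
  have hcN : x * q * x⁻¹ * q⁻¹ ∈ N := by
    have h1 : q * x⁻¹ * q⁻¹ ∈ N := hN.conj_mem _ (N.inv_mem hxN) q
    have h2 := N.mul_mem hxN h1
    have e : x * (q * x⁻¹ * q⁻¹) = x * q * x⁻¹ * q⁻¹ := by group
    rwa [e] at h2
  have hcomm : (x * q * x⁻¹ * q⁻¹) * x = x * (x * q * x⁻¹ * q⁻¹) :=
    (Subgroup.mem_centralizer_iff.mp hxC) _ ⟨hcQ, hcN⟩
  have hpow : ∀ n : ℕ, x ^ n * q * (x ^ n)⁻¹ = (x * q * x⁻¹ * q⁻¹) ^ n * q := by
    intro n
    induction n with
    | zero => simp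
    | succ n ih =>
      have hc2 : x * (x * q * x⁻¹ * q⁻¹) ^ n * x⁻¹ = (x * q * x⁻¹ * q⁻¹) ^ n := by
        have : Commute x ((x * q * x⁻¹ * q⁻¹) ^ n) := (Commute.pow_right hcomm.symm n)
        rw [this.eq, mul_inv_cancel_right]
      calc x ^ (n + 1) * q * (x ^ (n + 1))⁻¹
          = x * (x ^ n * q * (x ^ n)⁻¹) * x⁻¹ := by rw [pow_succ']; group
        _ = (x * (x * q * x⁻¹ * q⁻¹) ^ n * x⁻¹) * (x * q * x⁻¹) := by rw [ih]; group
        _ = (x * q * x⁻¹ * q⁻¹) ^ n * ((x * q * x⁻¹ * q⁻¹) * q) := by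
            rw [hc2]; congr 1; group
        _ = (x * q * x⁻¹ * q⁻¹) ^ (n + 1) * q := by
            rw [pow_succ, mul_assoc ((x * q * x⁻¹ * q⁻¹) ^ n)]
  have h1 := hpow (orderOf x)
  rw [pow_orderOf_eq_one, one_mul, inv_one, mul_one] at h1
  have h2 : (x * q * x⁻¹ * q⁻¹) ^ orderOf x = 1 := by
    have := congrArg (· * q⁻¹) h1
    simp only [mul_inv_cancel_right] at this
    rw [← this, mul_inv_cancel]
  obtain ⟨j, hj⟩ := (IsPGroup.iff_orderOf.mp hQ) ⟨_, hcQ⟩
  rw [Subgroup.orderOf_mk] at hj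
  have h3 := orderOf_dvd_of_pow_eq_one h2
  rw [hj] at h3
  have hj0 : j = 0 := by
    by_contra hne
    exact hreg (dvd_trans (dvd_pow_self p hne) h3)
  rw [hj0, pow_zero, orderOf_eq_one_iff] at hj
  have : x * q * x⁻¹ = q := by
    have := congrArg (· * q) hj
    simpa using this
  calc q * x = (x * q * x⁻¹) * x := by rw [this]
    _ = x * q := by group

/-- The local step: a `p`-regular element stabilizing a pair of `B` on a subgroup of `N`
centralizes it, if `c` is nilpotent. -/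
theorem mem_centralizer_of_stab (hM : IsPModular p M) (N : Subgroup G) [hNn : N.Normal]
    (hN : ∃ k : ℕ, N.index = p ^ k) (c : Set (IrrCharacter N)) (hc : IsPBlock M c)
    (B : Set (IrrCharacter G)) (hB : IsPBlock M B)
    (hBc : ∀ g : G, blockCoeff B g = subgroupBlockCoeff N c g)
    (hnil : IsNilpotentBlock p M c) (R : Subgroup G) (hRN : R ≤ N)
    (f₀ : Set (IrrCharacter (Subgroup.centralizer (R : Set G))))
    (hRf₀ : IsBrauerPairOf p M B R f₀) (x : G)
    (hxR : x ∈ Subgroup.normalizer (R : Set G))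
    (hxst : StabilizesBlock (Subgroup.centralizer (R : Set G)) f₀ x)
    (hxreg : IsPRegular p x) : x ∈ Subgroup.centralizer (R : Set G) := by
  classical
  have hMp := isPrime_of_isPModular hM
  have hp : p.Prime := Fact.out
  have : Fintype (N ⊓ Subgroup.centralizer (R : Set G) : Subgroup G) := Fintype.ofFinite _
  have : Fintype N := Fintype.ofFinite _
  have : Fintype (Subgroup.centralizer (R : Set G)) := Fintype.ofFinite _
  have : Fintype (Subgroup.centralizer ((R.subgroupOf N : Subgroup N) : Set N)) :=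
    Fintype.ofFinite _
  obtain ⟨ξ₀, hξ₀⟩ := IsPBlock.nonempty hMp hRf₀.1.2
  obtain ⟨θ₀, hcov⟩ := exists_under N R ξ₀
  have hb₀ : IsPBlock M (blockOf M
      (θ₀ : (N ⊓ Subgroup.centralizer (R : Set G) : Subgroup G) → ℂ)) := isPBlock_blockOf θ₀
  have hθ₀ : θ₀ ∈ blockOf M
      (θ₀ : (N ⊓ Subgroup.centralizer (R : Set G) : Subgroup G) → ℂ) := mem_blockOf_self hMp θ₀
  have hcp := isBrauerPairOf_down_of_cov hM N R hRN B c hc hBc f₀ _ hb₀ ξ₀ hξ₀ θ₀ hθ₀ hcov hRf₀
  have hxH := le_normalizer_centralizer (le_refl _) hxR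
  have hxK := mem_normalizer_hub N R hxR
  have hf₀x : pullBlock (conjEquiv _ x hxH) f₀ = f₀ := pullBlock_eq_of_stabilizesBlock hxH hxst
  have hξ' : pullIrr (conjEquiv _ x hxH) ξ₀ ∈ f₀ := by
    have := (pullIrr_mem_pullBlock_iff (conjEquiv _ x hxH) f₀ ξ₀).mpr hξ₀
    rwa [hf₀x] at this
  obtain ⟨h, hhC, hhn, hmem⟩ := cover_conj hM N R f₀ hRf₀.1.2 _ hb₀ ξ₀ hξ₀ θ₀ hθ₀ hcov _ hξ' _
    (cov_conj N R x hxH hxK ξ₀ θ₀ hcov)
  have hyK : h * x ∈ Subgroup.normalizer
      ((N ⊓ Subgroup.centralizer (R : Set G) : Subgroup G) : Set G) :=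
    Subgroup.mul_mem _ hhn hxK
  have hθ' : pullIrr (conjEquiv _ (h * x) hyK) θ₀ ∈ blockOf M
      (θ₀ : (N ⊓ Subgroup.centralizer (R : Set G) : Subgroup G) → ℂ) := by
    have : pullIrr (conjEquiv _ (h * x) hyK) θ₀ =
        pullIrr (conjEquiv _ h hhn) (pullIrr (conjEquiv _ x hxK) θ₀) := by
      rw [conjEquiv_mul _ h x hhn hxK]
      rfl
    rw [this]
    exact hmem
  have hb₀y : pullBlock (conjEquiv _ (h * x) hyK) (blockOf M
      (θ₀ : (N ⊓ Subgroup.centralizer (R : Set G) : Subgroup G) → ℂ)) = blockOf M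
      (θ₀ : (N ⊓ Subgroup.centralizer (R : Set G) : Subgroup G) → ℂ) :=
    (IsPBlock_eq_blockOf hMp (isPBlock_pullBlock _ hb₀)
      ((pullIrr_mem_pullBlock_iff _ _ θ₀).mpr hθ₀)).trans
      (IsPBlock_eq_blockOf hMp hb₀ hθ').symm
  obtain ⟨e, m, hm, hcard⟩ :=
    Nat.exists_eq_pow_mul_and_not_dvd (Fintype.card_pos (α := G)).ne' p hp.ne_one
  have hzreg : ¬ p ∣ orderOf ((h * x) ^ p ^ e) := by
    intro hdvd
    apply hm
    apply dvd_trans hdvd
    apply orderOf_dvd_of_pow_eq_one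
    rw [← pow_mul, ← hcard]
    exact pow_card_eq_one
  have hzN : (h * x) ^ p ^ e ∈ N := mem_of_regular_of_index_pow N hN _ hzreg
  have hyR : h * x ∈ Subgroup.normalizer (R : Set G) :=
    Subgroup.mul_mem _ (Subgroup.centralizer_le_normalizer _ hhC) hxR
  have hzR : (h * x) ^ p ^ e ∈ Subgroup.normalizer (R : Set G) := Subgroup.pow_mem _ hyR _
  have hzK : (h * x) ^ p ^ e ∈ Subgroup.normalizer
      ((N ⊓ Subgroup.centralizer (R : Set G) : Subgroup G) : Set G) :=
    Subgroup.pow_mem _ hyK _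
  have hb₀z := pullBlock_conj_pow _ (h * x) hyK hb₀y (p ^ e) _ hzK rfl
  have hz'n : (⟨(h * x) ^ p ^ e, hzN⟩ : N) ∈
      Subgroup.normalizer ((R.subgroupOf N : Subgroup N) : Set N) :=
    (mem_normalizer_subgroupOf_iff N R hRN _).mpr hzR
  have hz'C := le_normalizer_centralizer (le_refl _) hz'n
  have hz'st : StabilizesBlock
      (Subgroup.centralizer ((R.subgroupOf N : Subgroup N) : Set N))
      (pullBlock (kap1 N R hRN) (blockOf M
        (θ₀ : (N ⊓ Subgroup.centralizer (R : Set G) : Subgroup G) → ℂ)))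
      (⟨(h * x) ^ p ^ e, hzN⟩ : N) := by
    apply stabilizesBlock_of_pullBlock_eq hz'C
    rw [pullBlock_kap1_conj N R hRN _ hz'C hzK, hb₀z]
  have hz'reg : IsPRegular p (⟨(h * x) ^ p ^ e, hzN⟩ : N) := by
    unfold IsPRegular
    rw [← Subgroup.orderOf_coe]
    exact hzreg
  have hz'c := hnil.2 _ _ hcp _ hz'n hz'st hz'reg
  have hzc : (h * x) ^ p ^ e ∈ Subgroup.centralizer (R : Set G) :=
    (mem_centralizer_subgroupOf_iff R N hRN _).mp hz'c
  exact mem_centralizer_of_pow R x h hxR hhC (p ^ e) hzc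
    (Nat.Coprime.pow_left e ((Nat.Prime.coprime_iff_not_dvd hp).mpr hxreg))

/-- **If `c` is nilpotent then so is `B`.** -/
theorem nilpotent_up (hM : IsPModular p M) (N : Subgroup G) [hNn : N.Normal]
    (hN : ∃ k : ℕ, N.index = p ^ k) (c : Set (IrrCharacter N)) (hc : IsPBlock M c)
    (B : Set (IrrCharacter G)) (hB : IsPBlock M B)
    (hBc : ∀ g : G, blockCoeff B g = subgroupBlockCoeff N c g)
    (hnil : IsNilpotentBlock p M c) : IsNilpotentBlock p M B := by
  classical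
  refine ⟨hB, ?_⟩
  intro Q f hQf x hxQ hxst hxreg
  have hxN : x ∈ N := mem_of_regular_of_index_pow N hN x hxreg
  obtain ⟨f₀, ⟨hf₀, hle⟩, -⟩ := existsUnique_subpair hM Q (Q ⊓ N) f hQf.1 inf_le_left
  have hxQ₀ : x ∈ Subgroup.normalizer ((Q ⊓ N : Subgroup G) : Set G) := by
    rw [Subgroup.mem_normalizer_iff] at hxQ ⊢
    intro k
    constructor
    · rintro ⟨h1, h2⟩
      exact ⟨(hxQ k).mp h1, hNn.conj_mem k h2 x⟩
    · rintro ⟨h1, h2⟩
      refine ⟨(hxQ k).mpr h1, ?_⟩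
      have := hNn.conj_mem _ h2 x⁻¹
      simpa [mul_assoc] using this
  have hQx : (Q ⊓ N).map (MulAut.conj x).toMonoidHom = Q ⊓ N :=
    Subgroup.mem_normalizer_iff_map_conj_eq.mp hxQ₀
  have hxT : x ∈ stabSubgroup Q f := (mem_stabSubgroup Q f x).mpr ⟨hxQ, hxst⟩
  have h2 : Relation.ReflTransGen (NormalSubpairRel p M)
      (cjPair x (⟨Q ⊓ N, f₀⟩ : BrauerPairIdx G)) ⟨Q, f⟩ := by
    have := reflTransGen_conj x hle
    rwa [cjPair_eq_of_mem_stabSubgroup Q f hxT] at this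
  have h3 : cjPair x (⟨Q ⊓ N, f₀⟩ : BrauerPairIdx G) = ⟨Q ⊓ N, f₀⟩ :=
    subpair_unique hM _ (cjPair x (⟨Q ⊓ N, f₀⟩ : BrauerPairIdx G)) ⟨Q ⊓ N, f₀⟩ ⟨Q, f⟩ hQf.1 rfl
      hQx h2 hle
  have hx₀ := mem_stabSubgroup_of_cjPair_eq (Q ⊓ N) f₀ x h3
  have hx₀st := ((mem_stabSubgroup _ _ _).mp hx₀).2
  have hQ₀f₀ : IsBrauerPairOf p M B (Q ⊓ N) f₀ :=
    (isBrauerPairOf_iff_of_subpairLE hM B hB ⟨Q ⊓ N, f₀⟩ ⟨Q, f⟩ hle).mp hQf
  have hxC₀ := mem_centralizer_of_stab hM N hN c hc B hB hBc hnil (Q ⊓ N) inf_le_right f₀ hQ₀f₀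
    x hxQ₀ hx₀st hxreg
  exact mem_centralizer_of_inf N Q hQf.1.1 x hxN hxQ hxC₀ hxreg

/-- **S4692**: a stable block of a normal subgroup of `p`-power index is nilpotent iff the block
of `G` with the same idempotent is. -/
theorem nilpotent_iff (hM : IsPModular p M) (N : Subgroup G) [hNn : N.Normal]
    (hN : ∃ k : ℕ, N.index = p ^ k) (c : Set (IrrCharacter N)) (hc : IsPBlock M c)
    (B : Set (IrrCharacter G)) (hB : IsPBlock M B)
    (hBc : ∀ g : G, blockCoeff B g = subgroupBlockCoeff N c g) :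
    IsNilpotentBlock p M c ↔ IsNilpotentBlock p M B :=
  ⟨nilpotent_up hM N hN c hc B hB hBc, nilpotent_down hM N hN c hc B hB hBc⟩

end Cfsg.Agent.Helper23.PIN
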