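import Mathlib
import Cfsg.Prelude.Def_Blocks
import Cfsg.Prelude.Def_BlockLocal
import Cfsg.Prelude.Def_BrauerPairs
import Cfsg.Agent.Helper23.PIndexNilp
import Cfsg.Agent.Helper5.DefectOrder

set_option autoImplicit false
set_option linter.unusedSectionVars false
set_option linter.unusedVariables false

/-!
# A block of `C_G(P)` inducing `B`, `P` a defect group of `B`, gives a maximal Brauer pair
-/

namespace Cfsg.Agent.Helper23.MOD

open Cfsg Cfsg.Agent.Helper24 Cfsg.Agent.Helper5 Cfsg.Agent.Helper5.Loc Cfsg.Agent.Helper5.CC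
open Cfsg.Agent.Helper14
open Cfsg.Agent.Helper23.BT Cfsg.Agent.Helper23.IC Cfsg.Agent.Helper23.TM
open Cfsg.Agent.Helper23.SB Cfsg.Agent.Helper23.TMH Cfsg.Agent.Helper23.BP
open Cfsg.Agent.Helper23.SP Cfsg.Agent.Helper23.SU Cfsg.Agent.Helper23.PP
open Cfsg.Agent.Helper23.MP Cfsg.Agent.Helper23.PC Cfsg.Agent.Helper23.BC
open Cfsg.Agent.Helper23.MC Cfsg.Agent.Helper23.LD Cfsg.Agent.Helper23.ST
open Cfsg.Agent.Helper23.BF Cfsg.Agent.Helper23.RP Cfsg.Agent.Helper23.AD
open Cfsg.Agent.Helper23.NS Cfsg.Agent.Helper23.NPI Cfsg.Agent.Helper23.II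
open Cfsg.Agent.Helper23.CS Cfsg.Agent.Helper23.DP

variable {G : Type*} [Group G] [Fintype G] {M : Ideal AlgInt} {p : ℕ} [Fact p.Prime]

/-- A block of `C_G(P)` inducing `B` forms a Brauer pair of `B` with `P`. -/
theorem isBrauerPairOf_of_induced (hM : IsPModular p M) (P : Subgroup G) (hP : IsPGroup p P)
    (c : Set (IrrCharacter (Subgroup.centralizer (P : Set G)))) (B : Set (IrrCharacter G))
    (hind : IsInducedBlock M (Subgroup.centralizer (P : Set G)) c B) :
    IsBrauerPairOf p M B P c := by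
  classical
  have hMp := isPrime_of_isPModular hM
  have : Fintype (Subgroup.centralizer (P : Set G)) := Fintype.ofFinite _
  have : Fintype (IrrCharacter G) := Fintype.ofFinite _
  refine ⟨⟨hP, hind.1⟩, hind.2.1, ?_⟩
  intro ξ hξ
  obtain ⟨χ, hχ⟩ := IsPBlock.nonempty hMp hind.2.1
  have h1 := act_restrict_sub_act_of_induced hMp _ hind hξ hχ (isClassFunction_blockCoeff B)
    (osima hMp B hind.2.1)
  rw [act_blockCoeff, if_pos hχ] at h1
  rw [brauerOmega_eq_act]
  have e : brRes P (Subgroup.centralizer (P : Set G)) (blockCoeff B) =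
      fun h : Subgroup.centralizer (P : Set G) => blockCoeff B (h : G) := by
    funext h
    rw [brRes, cut_of_mem _ h.2]
  rw [e]
  exact h1

/-- **A block of `C_G(P)` inducing `B`, with `P` a defect group of `B`, gives a maximal Brauer
pair.** -/
theorem isMaximalBrauerPair_of_defectGroup (hM : IsPModular p M) (B : Set (IrrCharacter G))
    (P : Subgroup G) (hPD : IsDefectGroup p M B P)
    (c : Set (IrrCharacter (Subgroup.centralizer (P : Set G))))
    (hind : IsInducedBlock M (Subgroup.centralizer (P : Set G)) c B) :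
    IsMaximalBrauerPair p M B P c := by
  classical
  have : Fintype (IrrCharacter G) := Fintype.ofFinite _
  have hB := hind.2.1
  have hP : IsPGroup p P := IsPGroup.of_card (card_defectGroup hM hB hPD)
  have hpair := isBrauerPairOf_of_induced hM P hP c B hind
  refine ⟨hpair, ?_⟩
  intro R g hRg hle
  obtain ⟨m, hm, hRm⟩ := exists_maximal_above B _ (⟨R, g⟩ : BrauerPairIdx G) hRg rfl
  have hmD := isDefectGroup_of_isMaximalBrauerPair hM B m.1 m.2 hm
  have h1 : P ≤ R := fst_le_of_reflTransGen (⟨P, c⟩ : BrauerPairIdx G) ⟨R, g⟩ hle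
  have h2 : R ≤ m.1 := fst_le_of_reflTransGen (⟨R, g⟩ : BrauerPairIdx G) m hRm
  have hcard : Nat.card m.1 = Nat.card P := by
    rw [card_defectGroup hM hB hmD, card_defectGroup hM hB hPD]
  exact (Subgroup.eq_of_le_of_card_ge h1
    (by rw [← hcard]; exact Subgroup.card_le_of_le h2)).symm

end Cfsg.Agent.Helper23.MOD
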