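import Mathlib
import Cfsg.Prelude.Def_Blocks
import Cfsg.Prelude.Def_BlockLocal
import Cfsg.Prelude.Def_BrauerPairs
import Cfsg.Agent.Helper23.MaxOfDefect

set_option autoImplicit false
set_option linter.unusedSectionVars false
set_option linter.unusedVariables false

/-!
# Block induction computed inside a subgroup
-/

namespace Cfsg.Agent.Helper23.IIn

open Cfsg Cfsg.Agent.Helper24 Cfsg.Agent.Helper5 Cfsg.Agent.Helper5.Loc Cfsg.Agent.Helper5.CC
open Cfsg.Agent.Helper14
open Cfsg.Agent.Helper23.BT Cfsg.Agent.Helper23.IC Cfsg.Agent.Helper23.TM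
open Cfsg.Agent.Helper23.SB Cfsg.Agent.Helper23.TMH Cfsg.Agent.Helper23.BP
open Cfsg.Agent.Helper23.SP Cfsg.Agent.Helper23.SU Cfsg.Agent.Helper23.PP
open Cfsg.Agent.Helper23.MP Cfsg.Agent.Helper23.PC Cfsg.Agent.Helper23.BC
open Cfsg.Agent.Helper23.MC Cfsg.Agent.Helper23.LD Cfsg.Agent.Helper23.ST
open Cfsg.Agent.Helper23.BF Cfsg.Agent.Helper23.RP Cfsg.Agent.Helper23.AD
open Cfsg.Agent.Helper23.NS Cfsg.Agent.Helper23.NPI Cfsg.Agent.Helper23.II
open Cfsg.Agent.Helper23.CS Cfsg.Agent.Helper23.DP Cfsg.Agent.Helper23.MOD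

variable {G : Type*} [Group G] {M : Ideal AlgInt}

/-- The central character induced inside `H`, read in the group `H`. -/
theorem inducedCentralCharIn_eq (H K : Subgroup G) (K' : Subgroup H) (φ : K' ≃* K)
    (hφ : ∀ k' : K', ((φ k' : K) : G) = ((k' : H) : G)) (ξ : K → ℂ) (h : H) :
    inducedCentralCharIn H K ξ (h : G) = inducedCentralChar K' (fun k' => ξ (φ k')) h := by
  rw [inducedCentralCharIn, inducedCentralChar]
  symm
  apply finsum_mem_eq_of_bijOn (fun k' : K' => φ k')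
  · refine ⟨?_, fun a _ b _ hab => φ.injective hab, ?_⟩
    · intro k' hk'
      obtain ⟨c, hc⟩ := isConj_iff.mp hk'
      refine ⟨c⁻¹, ?_⟩
      rw [hφ, ← hc]
      simp [mul_assoc]
    · intro k hk
      obtain ⟨x, hx⟩ := hk
      refine ⟨φ.symm k, ?_, φ.apply_symm_apply k⟩
      apply isConj_iff.mpr
      refine ⟨x⁻¹, ?_⟩
      apply Subtype.ext
      have := hφ (φ.symm k)
      rw [MulEquiv.apply_symm_apply] at this
      rw [← this]
      show (x : G)⁻¹ * (h : G) * (x : G)⁻¹⁻¹ = (k : G)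
      rw [← hx]
      simp [mul_assoc]
  · intro k' _
    simp only [map_one]

/-- **Induction inside `H` is induction in the group `H`.** -/
theorem isInducedBlockIn_iff (H K : Subgroup G) (K' : Subgroup H) (φ : K' ≃* K)
    (hφ : ∀ k' : K', ((φ k' : K) : G) = ((k' : H) : G)) (e : Set (IrrCharacter K))
    (f : Set (IrrCharacter H)) :
    IsInducedBlockIn M H K e f ↔ IsInducedBlock M K' (pullBlock φ e) f := by
  constructor
  · rintro ⟨he, hf, h⟩
    refine ⟨isPBlock_pullBlock φ he, hf, ?_⟩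
    intro ξ' hξ' χ hχ y
    rw [mem_pullBlock_iff] at hξ'
    have := h _ hξ' χ hχ y
    rw [inducedCentralCharIn_eq H K K' φ hφ] at this
    have e1 : (fun k' : K' => ((pullIrr φ.symm ξ' : IrrCharacter K) : K → ℂ) (φ k')) =
        (ξ' : K' → ℂ) := by
      funext k'
      rw [pullIrr_apply, MulEquiv.symm_apply_apply]
    rwa [e1] at this
  · rintro ⟨he, hf, h⟩
    have he' : IsPBlock M e := by
      have := isPBlock_pullBlock φ.symm he
      rwa [pullBlock_symm_pullBlock] at this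
    refine ⟨he', hf, ?_⟩
    intro ξ hξ χ hχ y
    have := h (pullIrr φ ξ) ((pullIrr_mem_pullBlock_iff φ e ξ).mpr hξ) χ hχ y
    rw [inducedCentralCharIn_eq H K K' φ hφ]
    exact this

end Cfsg.Agent.Helper23.IIn
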