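import Mathlib
import Cfsg.Prelude.Def_Blocks
import Cfsg.Prelude.Def_BlockLocal
import Cfsg.Prelude.Def_BrauerPairs
import Cfsg.Agent.Helper23.InducedIn
import Cfsg.Agent.S0919

set_option autoImplicit false
set_option linter.unusedSectionVars false
set_option linter.unusedVariables false

/-!
# Abelian defect groups: free action of the inertial quotient and nilpotency of local blocks
-/

namespace Cfsg.Agent.Helper23.AL

open Cfsg Cfsg.Agent.Helper24 Cfsg.Agent.Helper5 Cfsg.Agent.Helper5.Loc Cfsg.Agent.Helper5.CC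
open Cfsg.Agent.Helper14
open Cfsg.Agent.Helper23.BT Cfsg.Agent.Helper23.IC Cfsg.Agent.Helper23.TM
open Cfsg.Agent.Helper23.SB Cfsg.Agent.Helper23.TMH Cfsg.Agent.Helper23.BP
open Cfsg.Agent.Helper23.SP Cfsg.Agent.Helper23.SU Cfsg.Agent.Helper23.PP
open Cfsg.Agent.Helper23.MP Cfsg.Agent.Helper23.PC Cfsg.Agent.Helper23.BC
open Cfsg.Agent.Helper23.MC Cfsg.Agent.Helper23.LD Cfsg.Agent.Helper23.ST
open Cfsg.Agent.Helper23.BF Cfsg.Agent.Helper23.RP Cfsg.Agent.Helper23.AD
open Cfsg.Agent.Helper23.NS Cfsg.Agent.Helper23.NPI Cfsg.Agent.Helper23.II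
open Cfsg.Agent.Helper23.CS Cfsg.Agent.Helper23.DP Cfsg.Agent.Helper23.MOD
open Cfsg.Agent.Helper23.IIn Cfsg.Agent.Helper23.PIN

variable {G : Type*} [Group G] [Fintype G] {M : Ideal AlgInt} {p : ℕ} [Fact p.Prime]

/-- For abelian `P`, a Brauer pair `(P, c)` of `B` has `c` inducing `B`. -/
theorem isInducedBlock_of_pair_abelian (hM : IsPModular p M) (P : Subgroup G)
    (hab : ∀ x ∈ P, ∀ y ∈ P, x * y = y * x)
    (c : Set (IrrCharacter (Subgroup.centralizer (P : Set G)))) (B : Set (IrrCharacter G))
    (h : IsBrauerPairOf p M B P c) : IsInducedBlock M (Subgroup.centralizer (P : Set G)) c B := by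
  have hPC : P ≤ Subgroup.centralizer (P : Set G) := le_centralizer_of_abelian hab le_rfl
  obtain ⟨B', hB'⟩ := Cfsg.Agent.S0919.result p M hM P (Subgroup.centralizer (P : Set G)) h.1.1 hPC
    le_rfl (Subgroup.centralizer_le_normalizer _) c h.1.2
  have h' := isBrauerPairOf_of_induced hM P h.1.1 c B' hB'
  have := (existsUnique_isBrauerPairOf hM P c h.1).unique h h'
  rw [this]
  exact hB'

omit [Fact p.Prime] in
/-- Conjugation by an element of `H` commutes with the identification `C_H(P) ≃ C_G(P)`. -/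
theorem pullBlock_centEquiv_conj (P H : Subgroup G) (hPH : P ≤ H)
    (hCH : Subgroup.centralizer (P : Set G) ≤ H) (x : H)
    (hx' : x ∈ Subgroup.normalizer
      ((Subgroup.centralizer ((P.subgroupOf H : Subgroup H) : Set H) : Subgroup H) : Set H))
    (hx : (x : G) ∈ Subgroup.normalizer
      ((Subgroup.centralizer (P : Set G) : Subgroup G) : Set G))
    (c : Set (IrrCharacter (Subgroup.centralizer (P : Set G)))) :
    pullBlock (conjEquiv _ x hx') (pullBlock (centEquiv P H hPH hCH) c) =
      pullBlock (centEquiv P H hPH hCH) (pullBlock (conjEquiv _ (x : G) hx) c) := by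
  rw [pullBlock_trans, pullBlock_trans]
  congr 1
  apply MulEquiv.ext
  intro k
  apply Subtype.ext
  rfl

/-- **For abelian `P` and `Q ≤ P`: `c` induces `f` inside `C_G(Q)` iff `(Q, f) ≤ (P, c)`.** -/
theorem inducedIn_iff_subpairLE (hM : IsPModular p M) (P Q : Subgroup G)
    (hab : ∀ x ∈ P, ∀ y ∈ P, x * y = y * x) (hQP : Q ≤ P)
    (c : Set (IrrCharacter (Subgroup.centralizer (P : Set G)))) (hPc : IsBrauerPair p M P c)
    (f : Set (IrrCharacter (Subgroup.centralizer (Q : Set G)))) (hf : IsPBlock M f) :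
    IsInducedBlockIn M (Subgroup.centralizer (Q : Set G)) (Subgroup.centralizer (P : Set G)) c f ↔
      SubpairLE p M Q f P c := by
  classical
  have hPH : P ≤ Subgroup.centralizer (Q : Set G) := le_centralizer_of_abelian hab hQP
  have hCH : Subgroup.centralizer (P : Set G) ≤ Subgroup.centralizer (Q : Set G) :=
    Subgroup.centralizer_le hQP
  have : Fintype (Subgroup.centralizer (Q : Set G)) := Fintype.ofFinite _
  have hab' : ∀ x ∈ P.subgroupOf (Subgroup.centralizer (Q : Set G)),
      ∀ y ∈ P.subgroupOf (Subgroup.centralizer (Q : Set G)), x * y = y * x := by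
    intro x hx y hy
    apply Subtype.ext
    exact hab _ (Subgroup.mem_subgroupOf.mp hx) _ (Subgroup.mem_subgroupOf.mp hy)
  have hP' : IsPGroup p (P.subgroupOf (Subgroup.centralizer (Q : Set G))) := hPc.1.comap_subtype
  have hβ : ∀ l : Subgroup.centralizer (Q : Set G),
      blockCoeff f l = subgroupBlockCoeff (Subgroup.centralizer (Q : Set G)) f (l : G) := by
    intro l
    rw [subgroupBlockCoeff_eq_ext0, ext0_coe]
  have hQf : IsBrauerPair p M Q f := ⟨hPc.1.to_le hQP, hf⟩
  have hPN : P ≤ Subgroup.normalizer (Q : Set G) :=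
    hPH.trans (Subgroup.centralizer_le_normalizer _)
  rw [isInducedBlockIn_iff (Subgroup.centralizer (Q : Set G)) (Subgroup.centralizer (P : Set G))
    _ (centEquiv P _ hPH hCH) (coe_centEquiv P _ hPH hCH) c f]
  constructor
  · intro hind
    have hpair := isBrauerPairOf_of_induced hM _ hP' _ f hind
    apply Relation.ReflTransGen.single
    refine ⟨hQf, hPc, hQP, hPN,
      fun x hx => stabilizesBlock_of_mem_sup Q f x (Subgroup.mem_sup_right (hPH hx)), ?_⟩
    intro ξ hξ
    have := hpair.2.2 (pullIrr (centEquiv P _ hPH hCH) ξ)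
      ((pullIrr_mem_pullBlock_iff _ c ξ).mpr hξ)
    rwa [brauerOmega_centEquiv P _ hPH hCH
      (subgroupBlockCoeff (Subgroup.centralizer (Q : Set G)) f) (blockCoeff f) hβ ξ] at this
  · intro hle
    have hns := isNormalSubpair_of_subpairLE hM hle hPc hQP hPN
    have hpair := isBrauerPairOf_down P _ hPH hCH c hPc f hf
      (subgroupBlockCoeff (Subgroup.centralizer (Q : Set G)) f) hβ hns.2.2.2.2.2
    exact isInducedBlock_of_pair_abelian hM _ hab' _ f hpair

/-- **Nilpotency of the local block at `Q ≤ P`, `P` abelian.** -/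
theorem isNilpotentBlock_local_iff (hM : IsPModular p M) (B : Set (IrrCharacter G))
    (P : Subgroup G) (hab : ∀ x ∈ P, ∀ y ∈ P, x * y = y * x)
    (c : Set (IrrCharacter (Subgroup.centralizer (P : Set G))))
    (hmax : IsMaximalBrauerPair p M B P c) (Q : Subgroup G) (hQP : Q ≤ P)
    (f : Set (IrrCharacter (Subgroup.centralizer (Q : Set G)))) (hf : IsPBlock M f)
    (hle : SubpairLE p M Q f P c) :
    IsNilpotentBlock p M f ↔ ∀ g : G, g ∈ Subgroup.normalizer (P : Set G) →
      StabilizesBlock (Subgroup.centralizer (P : Set G)) c g →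
      g ∈ Subgroup.centralizer (Q : Set G) → g ∈ Subgroup.centralizer (P : Set G) := by
  classical
  have hPc := hmax.1.1
  have hPH : P ≤ Subgroup.centralizer (Q : Set G) := le_centralizer_of_abelian hab hQP
  have hCH : Subgroup.centralizer (P : Set G) ≤ Subgroup.centralizer (Q : Set G) :=
    Subgroup.centralizer_le hQP
  have : Fintype (Subgroup.centralizer (Q : Set G)) := Fintype.ofFinite _
  have hab' : ∀ x ∈ P.subgroupOf (Subgroup.centralizer (Q : Set G)),
      ∀ y ∈ P.subgroupOf (Subgroup.centralizer (Q : Set G)), x * y = y * x := by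
    intro x hx y hy
    apply Subtype.ext
    exact hab _ (Subgroup.mem_subgroupOf.mp hx) _ (Subgroup.mem_subgroupOf.mp hy)
  have hP'D := isDefectGroup_of_abelian hM B P c hmax hab Q f hQP hf hle
  have hin := (inducedIn_iff_subpairLE hM P Q hab hQP c hPc f hf).mpr hle
  rw [isInducedBlockIn_iff (Subgroup.centralizer (Q : Set G)) (Subgroup.centralizer (P : Set G))
    _ (centEquiv P _ hPH hCH) (coe_centEquiv P _ hPH hCH) c f] at hin
  have hmax' := isMaximalBrauerPair_of_defectGroup hM f _ hP'D _ hin
  rw [isNilpotentBlock_iff_of_abelian hM f _ _ hmax' hab']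
  constructor
  · intro h g hgN hgst hgQ
    have hgN' : (⟨g, hgQ⟩ : Subgroup.centralizer (Q : Set G)) ∈ Subgroup.normalizer
        ((P.subgroupOf (Subgroup.centralizer (Q : Set G)) :
          Subgroup (Subgroup.centralizer (Q : Set G))) : Set (Subgroup.centralizer (Q : Set G))) :=
      (mem_normalizer_subgroupOf_iff _ P hPH _).mpr hgN
    have hgC' := le_normalizer_centralizer (le_refl _) hgN'
    have hgC := le_normalizer_centralizer (le_refl _) hgN
    have hst' : StabilizesBlock _ (pullBlock (centEquiv P _ hPH hCH) c)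
        (⟨g, hgQ⟩ : Subgroup.centralizer (Q : Set G)) := by
      apply stabilizesBlock_of_pullBlock_eq hgC'
      rw [pullBlock_centEquiv_conj P _ hPH hCH _ hgC' hgC,
        pullBlock_eq_of_stabilizesBlock hgC hgst]
    have := h ⟨g, hgQ⟩ hgN' hst'
    exact (mem_centralizer_subgroupOf_iff P _ hPH _).mp this
  · intro h x hxN hxst
    have hgN : (x : G) ∈ Subgroup.normalizer (P : Set G) :=
      (mem_normalizer_subgroupOf_iff _ P hPH x).mp hxN
    have hgC' := le_normalizer_centralizer (le_refl _) hxN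
    have hgC := le_normalizer_centralizer (le_refl _) hgN
    have hst : StabilizesBlock (Subgroup.centralizer (P : Set G)) c (x : G) := by
      apply stabilizesBlock_of_pullBlock_eq hgC
      apply pullBlock_injective (centEquiv P _ hPH hCH)
      rw [← pullBlock_centEquiv_conj P _ hPH hCH x hgC' hgC]
      exact pullBlock_eq_of_stabilizesBlock hgC' hxst
    exact (mem_centralizer_subgroupOf_iff P _ hPH x).mpr (h (x : G) hgN hst x.2)

/-- **S4650**: for abelian defect groups, the inertial quotient acts freely iff all local blocks at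
nontrivial subgroups are nilpotent. -/
theorem free_iff_local_nilpotent (hM : IsPModular p M) (B : Set (IrrCharacter G))
    (P : Subgroup G) (hPD : IsDefectGroup p M B P) (hab : ∀ x ∈ P, ∀ y ∈ P, x * y = y * x)
    (c : Set (IrrCharacter (Subgroup.centralizer (P : Set G))))
    (hc : IsInducedBlock M (Subgroup.centralizer (P : Set G)) c B) (T : Subgroup G)
    (hT : ∀ g : G, g ∈ T ↔ (g ∈ Subgroup.normalizer (P : Set G) ∧
      StabilizesBlock (Subgroup.centralizer (P : Set G)) c g)) :
    (∀ g ∈ T, ∀ x ∈ P, x ≠ 1 → g * x * g⁻¹ = x → g ∈ Subgroup.centralizer (P : Set G)) ↔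
      ∀ Q : Subgroup G, Q ≤ P → Q ≠ ⊥ →
        ∀ f : Set (IrrCharacter (Subgroup.centralizer (Q : Set G))),
          IsInducedBlockIn M (Subgroup.centralizer (Q : Set G))
            (Subgroup.centralizer (P : Set G)) c f → IsNilpotentBlock p M f := by
  classical
  have hmax := isMaximalBrauerPair_of_defectGroup hM B P hPD c hc
  have hPc := hmax.1.1
  constructor
  · intro hfree Q hQP hQ1 f hin
    have hf := hin.2.1
    have hle := (inducedIn_iff_subpairLE hM P Q hab hQP c hPc f hf).mp hin
    rw [isNilpotentBlock_local_iff hM B P hab c hmax Q hQP f hf hle]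
    intro g hgN hgst hgQ
    obtain ⟨⟨q, hq⟩, hq1⟩ := Subgroup.ne_bot_iff_exists_ne_one.mp hQ1
    have hq1' : q ≠ 1 := fun h => hq1 (Subtype.ext h)
    have hgq : g * q * g⁻¹ = q := by
      have := (Subgroup.mem_centralizer_iff.mp hgQ) q hq
      rw [← this, mul_inv_cancel_right]
    exact hfree g ((hT g).mpr ⟨hgN, hgst⟩) q (hQP hq) hq1' hgq
  · intro hloc g hg x hx hx1 hgx
    have hQP : Subgroup.zpowers x ≤ P := Subgroup.zpowers_le.mpr hx
    have hQ1 : Subgroup.zpowers x ≠ ⊥ := by
      rw [Ne, Subgroup.zpowers_eq_bot]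
      exact hx1
    obtain ⟨f, ⟨hf, hle⟩, -⟩ := existsUnique_subpair hM P (Subgroup.zpowers x) c hPc hQP
    have hin := (inducedIn_iff_subpairLE hM P _ hab hQP c hPc f hf).mpr hle
    have hnil := hloc _ hQP hQ1 f hin
    rw [isNilpotentBlock_local_iff hM B P hab c hmax _ hQP f hf hle] at hnil
    have hgQ : g ∈ Subgroup.centralizer ((Subgroup.zpowers x : Subgroup G) : Set G) := by
      rw [Subgroup.mem_centralizer_iff]
      intro y hy
      obtain ⟨k, rfl⟩ := Subgroup.mem_zpowers_iff.mp hy
      have hcomm : Commute g x := by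
        show g * x = x * g
        calc g * x = (g * x * g⁻¹) * g := by group
          _ = x * g := by rw [hgx]
      exact ((hcomm.zpow_right k).eq).symm
    exact hnil g ((hT g).mp hg).1 ((hT g).mp hg).2 hgQ

end Cfsg.Agent.Helper23.AL
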