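import Mathlib
import Cfsg.Prelude.Def_Blocks
import Cfsg.Prelude.Def_BlockLocal
import Cfsg.Prelude.Def_BrauerPairs
import Cfsg.Agent.Helper23.MaxOfDefect
import Cfsg.Agent.Helper5.BrauerMap2
import Cfsg.Agent.S0933

set_option autoImplicit false
set_option linter.unusedSectionVars false
set_option linter.unusedVariables false

/-!
# Blocks of subgroups containing the centralizer of a defect group
-/

namespace Cfsg.Agent.Helper23.IDf

open Cfsg Cfsg.Agent.Helper24 Cfsg.Agent.Helper5 Cfsg.Agent.Helper5.Loc Cfsg.Agent.Helper5.CC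
open Cfsg.Agent.Helper14
open Cfsg.Agent.Helper23.BT Cfsg.Agent.Helper23.IC Cfsg.Agent.Helper23.TM
open Cfsg.Agent.Helper23.SB Cfsg.Agent.Helper23.TMH Cfsg.Agent.Helper23.BP
open Cfsg.Agent.Helper23.SP Cfsg.Agent.Helper23.SU Cfsg.Agent.Helper23.PP
open Cfsg.Agent.Helper23.MP Cfsg.Agent.Helper23.PC Cfsg.Agent.Helper23.BC
open Cfsg.Agent.Helper23.MC Cfsg.Agent.Helper23.LD Cfsg.Agent.Helper23.ST
open Cfsg.Agent.Helper23.BF Cfsg.Agent.Helper23.RP Cfsg.Agent.Helper23.AD
open Cfsg.Agent.Helper23.NS Cfsg.Agent.Helper23.NPI Cfsg.Agent.Helper23.II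
open Cfsg.Agent.Helper23.CS Cfsg.Agent.Helper23.DP Cfsg.Agent.Helper23.MOD

/-- `act` transports along group isomorphisms. -/
theorem act_comp_equiv {X Y : Type*} [Group X] [Group Y] [Fintype X] [Fintype Y] (φ : X ≃* Y)
    (a : Y → ℂ) (ξ : IrrCharacter Y) : act (fun x => a (φ x)) (pullIrr φ ξ) = act a ξ := by
  rw [act, act, pullIrr_apply, map_one]
  congr 1
  rw [← Equiv.sum_comp φ.toEquiv (fun y => a y * (ξ : Y → ℂ) y)]
  rfl

variable {G : Type*} [Group G] [Fintype G] {M : Ideal AlgInt} {p : ℕ} [Fact p.Prime]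

/-- The centralizer of the trivial subgroup is the whole group. -/
noncomputable def botEquiv (G : Type*) [Group G] :
    Subgroup.centralizer (((⊥ : Subgroup G) : Subgroup G) : Set G) ≃* G where
  toFun := Subtype.val
  invFun x := ⟨x, by
    rw [Subgroup.mem_centralizer_iff]
    intro h hh
    have : h = 1 := Subgroup.mem_bot.mp hh
    rw [this, one_mul, mul_one]⟩
  left_inv _ := Subtype.ext rfl
  right_inv _ := rfl
  map_mul' _ _ := rfl

/-- Every block has the trivial Brauer pair. -/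
theorem exists_pair_bot (hM : IsPModular p M) (B : Set (IrrCharacter G)) (hB : IsPBlock M B) :
    ∃ f : Set (IrrCharacter (Subgroup.centralizer (((⊥ : Subgroup G) : Subgroup G) : Set G))),
      IsBrauerPairOf p M B ⊥ f := by
  classical
  have hMp := isPrime_of_isPModular hM
  have : Fintype (Subgroup.centralizer (((⊥ : Subgroup G) : Subgroup G) : Set G)) :=
    Fintype.ofFinite _
  have : Fintype (IrrCharacter G) := Fintype.ofFinite _
  refine ⟨pullBlock (botEquiv G) B, ⟨IsPGroup.of_bot, isPBlock_pullBlock _ hB⟩, hB, ?_⟩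
  intro ξ hξ
  rw [mem_pullBlock_iff] at hξ
  rw [brauerOmega_eq_act]
  have e1 : brRes ⊥ (Subgroup.centralizer (((⊥ : Subgroup G) : Subgroup G) : Set G))
      (blockCoeff B) = fun x => blockCoeff B (botEquiv G x) := by
    funext h
    rw [brRes, cut_of_mem _ h.2]
    rfl
  have e2 : ξ = pullIrr (botEquiv G) (pullIrr (botEquiv G).symm ξ) :=
    (pullIrr_pullIrr_symm _ ξ).symm
  rw [e1, e2, act_comp_equiv, act_blockCoeff, if_pos hξ, sub_self]
  exact memLocalIdeal_zero hMp

/-- A Brauer pair of `B` on a defect group of `B` is maximal. -/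
theorem isMaximalBrauerPair_of_pair (hM : IsPModular p M) (B : Set (IrrCharacter G))
    (P : Subgroup G) (hPD : IsDefectGroup p M B P)
    (c : Set (IrrCharacter (Subgroup.centralizer (P : Set G))))
    (hpair : IsBrauerPairOf p M B P c) : IsMaximalBrauerPair p M B P c := by
  classical
  have : Fintype (IrrCharacter G) := Fintype.ofFinite _
  have hB := hpair.2.1
  refine ⟨hpair, ?_⟩
  intro R g hRg hle
  obtain ⟨m, hm, hRm⟩ := exists_maximal_above B _ (⟨R, g⟩ : BrauerPairIdx G) hRg rfl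
  have hmD := isDefectGroup_of_isMaximalBrauerPair hM B m.1 m.2 hm
  have h1 : P ≤ R := fst_le_of_reflTransGen (⟨P, c⟩ : BrauerPairIdx G) ⟨R, g⟩ hle
  have h2 : R ≤ m.1 := fst_le_of_reflTransGen (⟨R, g⟩ : BrauerPairIdx G) m hRm
  have hcard : Nat.card m.1 = Nat.card P := by
    rw [card_defectGroup hM hB hmD, card_defectGroup hM hB hPD]
  exact (Subgroup.eq_of_le_of_card_ge h1
    (by rw [← hcard]; exact Subgroup.card_le_of_le h2)).symm

/-- Every defect group of `B` carries a (maximal) Brauer pair of `B`. -/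
theorem exists_pair_at_defectGroup (hM : IsPModular p M) (B : Set (IrrCharacter G))
    (hB : IsPBlock M B) (D : Subgroup G) (hD : IsDefectGroup p M B D) :
    ∃ β : Set (IrrCharacter (Subgroup.centralizer (D : Set G))),
      IsMaximalBrauerPair p M B D β := by
  classical
  have : Fintype (IrrCharacter G) := Fintype.ofFinite _
  obtain ⟨f₀, hf₀⟩ := exists_pair_bot hM B hB
  obtain ⟨m, hm, -⟩ := exists_maximal_above B _ (⟨⊥, f₀⟩ : BrauerPairIdx G) hf₀ rfl
  have hmD := isDefectGroup_of_isMaximalBrauerPair hM B m.1 m.2 hm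
  obtain ⟨x, hx⟩ := defectGroup_conj hM B hB m.1 D hmD hD
  have hpair := isBrauerPairOf_conj x hm.1
  have key : ∀ D' : Subgroup G, m.1.map (MulAut.conj x).toMonoidHom = D' →
      IsDefectGroup p M B D' →
      ∃ β : Set (IrrCharacter (Subgroup.centralizer (D' : Set G))),
        IsMaximalBrauerPair p M B D' β := by
    rintro _ rfl hD'
    exact ⟨_, isMaximalBrauerPair_of_pair hM B _ hD' _ hpair⟩
  exact key D hx.symm hD

/-- **At a maximal Brauer pair `(P, e)`, the centre of `P` is a defect group of `e`.** -/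
theorem isDefectGroup_center_of_maximal (hM : IsPModular p M) (B : Set (IrrCharacter G))
    (P : Subgroup G) (e : Set (IrrCharacter (Subgroup.centralizer (P : Set G))))
    (hmax : IsMaximalBrauerPair p M B P e) :
    IsDefectGroup p M e ((P ⊓ Subgroup.centralizer (P : Set G)).subgroupOf
      (Subgroup.centralizer (P : Set G))) := by
  obtain ⟨x, hxle, hx⟩ := exists_conj_defectGroup hM B P P e e hmax le_rfl
    Relation.ReflTransGen.refl
  have hfst : (cjPair x (⟨P, e⟩ : BrauerPairIdx G)).1 = P := by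
    show P.map (MulAut.conj x).toMonoidHom = P
    exact Subgroup.eq_of_le_of_card_ge
      (fst_le_of_reflTransGen (⟨_, conjBlock P x e⟩ : BrauerPairIdx G) ⟨P, e⟩ hxle)
      (le_of_eq (Subgroup.card_map_of_injective (MulAut.conj x).injective).symm)
  have heq : cjPair x (⟨P, e⟩ : BrauerPairIdx G) = ⟨P, e⟩ :=
    eq_of_reflTransGen_of_fst_eq hM _ _ hxle hfst
  have key : ∀ a : BrauerPairIdx G, a = ⟨P, e⟩ →
      IsDefectGroup p M a.2 ((P ⊓ Subgroup.centralizer (a.1 : Set G)).subgroupOf
        (Subgroup.centralizer (a.1 : Set G))) →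
      IsDefectGroup p M e ((P ⊓ Subgroup.centralizer (P : Set G)).subgroupOf
        (Subgroup.centralizer (P : Set G))) := by
    rintro a rfl h
    exact h
  exact key _ heq hx

/-- **A block of `H` whose defect group `Q` has `C_G(Q) ≤ H` induces a block of `G`, which has a
defect group `D ≥ Q` with `C_D(Q) ≤ Q`.** -/
theorem induced_of_centralizer_le (hM : IsPModular p M) (H : Subgroup G)
    (b : Set (IrrCharacter H)) (hb : IsPBlock M b) (Q : Subgroup G) (hQH : Q ≤ H)
    (hCH : Subgroup.centralizer (Q : Set G) ≤ H)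
    (hD : IsDefectGroup p M b (Q.subgroupOf H)) :
    ∃ B : Set (IrrCharacter G), IsInducedBlock M H b B ∧
      ∃ D : Subgroup G, IsDefectGroup p M B D ∧ Q ≤ D ∧
        D ⊓ Subgroup.centralizer (Q : Set G) ≤ Q := by
  classical
  have hMp := isPrime_of_isPModular hM
  have : Fintype H := Fintype.ofFinite _
  have : Fintype (IrrCharacter H) := Fintype.ofFinite _
  have : Fintype (IrrCharacter G) := Fintype.ofFinite _
  have : Fintype (Subgroup.centralizer (Q : Set G)) := Fintype.ofFinite _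
  have : Fintype (IrrCharacter (Subgroup.centralizer (Q : Set G))) := Fintype.ofFinite _
  have : Fintype (Subgroup.centralizer ((Q.subgroupOf H : Subgroup H) : Set H)) :=
    Fintype.ofFinite _
  -- the maximal pair of `b` on `Q`
  obtain ⟨β, hmaxX⟩ := exists_pair_at_defectGroup hM b hb (Q.subgroupOf H) hD
  have hβD := isDefectGroup_center_of_maximal hM b _ β hmaxX
  have hQ'p : IsPGroup p (Q.subgroupOf H) := hmaxX.1.1.1
  have hQp : IsPGroup p Q := hQ'p.of_equiv (Subgroup.subgroupOfEquivOfLe hQH)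
  have hβ : IsPBlock M β := hmaxX.1.1.2
  have hβG : IsPBlock M (pullBlock (centEquiv Q H hQH hCH).symm β) := isPBlock_pullBlock _ hβ
  obtain ⟨B, hBpair, -⟩ := existsUnique_isBrauerPairOf hM Q
    (pullBlock (centEquiv Q H hQH hCH).symm β) ⟨hQp, hβG⟩
  have hB := hBpair.2.1
  refine ⟨B, ?_, ?_⟩
  · -- `b` induces `B`
    obtain ⟨ξ', hξ'⟩ := IsPBlock.nonempty hMp hβ
    have hξ : pullIrr (centEquiv Q H hQH hCH).symm ξ' ∈
        pullBlock (centEquiv Q H hQH hCH).symm β := (pullIrr_mem_pullBlock_iff _ β ξ').mpr hξ'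
    obtain ⟨ψ₀, hψ₀⟩ := exists_irr_brauer hM (Q.subgroupOf H)
      (Subgroup.centralizer ((Q.subgroupOf H : Subgroup H) : Set H)) hQ'p le_rfl
      (Subgroup.centralizer_le_normalizer _) ξ'
    have hψ₀b : ψ₀ ∈ b :=
      (isBrauerPairOf_iff hM _ β hmaxX.1.1 ξ' hξ' ψ₀ hψ₀ b hb).mp hmaxX.1
    obtain ⟨χ₀, hχ₀⟩ := exists_irr_brauer hM Q (Subgroup.centralizer (Q : Set G)) hQp le_rfl
      (Subgroup.centralizer_le_normalizer _) (pullIrr (centEquiv Q H hQH hCH).symm ξ')
    have hχ₀B : χ₀ ∈ B :=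
      (isBrauerPairOf_iff hM Q _ ⟨hQp, hβG⟩ _ hξ χ₀ hχ₀ B hB).mp hBpair
    have hfun : ∀ c, IsClassFunction G c → (∀ t, MemLocalRing M (c t)) → ∀ ψ ∈ b, ∀ χ ∈ B,
        MemLocalIdeal M (act (fun h : H => c (h : G)) ψ - act c χ) := by
      intro c hc hcM ψ hψ χ hχ
      have hcH : IsClassFunction H (fun h : H => c (h : G)) := fun h x => hc (h : G) (x : G)
      have a1 := act_sub_act_memLocalIdeal hMp hcH (fun t => hcM _)
        (sameBlock_of_mem hMp hb hψ hψ₀b)
      have a2 := hψ₀ _ hcH (fun t => hcM _)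
      have a3 := hχ₀ c hc hcM
      have a4 := act_sub_act_memLocalIdeal hMp hc hcM (sameBlock_of_mem hMp hB hχ₀B hχ)
      have e : act (brRes (Q.subgroupOf H)
          (Subgroup.centralizer ((Q.subgroupOf H : Subgroup H) : Set H))
          (fun h : H => c (h : G))) ξ' =
          act (brRes Q (Subgroup.centralizer (Q : Set G)) c)
            (pullIrr (centEquiv Q H hQH hCH).symm ξ') := by
        have h1 := act_comp_equiv (centEquiv Q H hQH hCH)
          (brRes Q (Subgroup.centralizer (Q : Set G)) c)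
          (pullIrr (centEquiv Q H hQH hCH).symm ξ')
        rw [pullIrr_pullIrr_symm] at h1
        rw [← h1]
        congr 1
        funext x
        rw [brRes, brRes, cut_of_mem _ x.2, cut_of_mem _ (centEquiv Q H hQH hCH x).2]
        rfl
      rw [e] at a2
      have := li_add hMp (li_add hMp (li_sub hMp a1 a2) a3) a4
      convert this using 1
      ring
    refine ⟨hb, hB, ?_⟩
    intro ψ hψ χ hχ g
    rw [Cfsg.Agent.S0933.inducedCentralChar_eq_act, ← act_classIndicator]
    exact hfun (classIndicator g) (isClassFunction_classIndicator g)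
      (memLocalRing_classIndicator hMp g) ψ hψ χ hχ
  · -- the defect group
    have hZc := isDefectGroup_pullBlock (p := p) (centEquiv Q H hQH hCH).symm hβD
    have hmemZ : ∀ y : Subgroup.centralizer (Q : Set G),
        y ∈ (((Q.subgroupOf H ⊓ Subgroup.centralizer ((Q.subgroupOf H : Subgroup H) : Set H)
          ).subgroupOf (Subgroup.centralizer ((Q.subgroupOf H : Subgroup H) : Set H))).comap
            (centEquiv Q H hQH hCH).symm.toMonoidHom) ↔ (y : G) ∈ Q := by
      intro y
      rw [Subgroup.mem_comap, Subgroup.mem_subgroupOf]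
      constructor
      · rintro ⟨h1, -⟩
        have h2 : ((((centEquiv Q H hQH hCH).symm y :
            Subgroup.centralizer ((Q.subgroupOf H : Subgroup H) : Set H)) : H) : G) ∈ Q :=
          Subgroup.mem_subgroupOf.mp h1
        rwa [coe_centEquiv_symm] at h2
      · intro hy
        refine ⟨?_, ((centEquiv Q H hQH hCH).symm y).2⟩
        show ((((centEquiv Q H hQH hCH).symm y :
            Subgroup.centralizer ((Q.subgroupOf H : Subgroup H) : Set H)) : H) : G) ∈ Q
        rwa [coe_centEquiv_symm]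
    obtain ⟨m, hm, hle⟩ := exists_maximal_above B _
      (⟨Q, pullBlock (centEquiv Q H hQH hCH).symm β⟩ : BrauerPairIdx G) hBpair rfl
    have hmD := isDefectGroup_of_isMaximalBrauerPair hM B m.1 m.2 hm
    have hQm : Q ≤ m.1 := fst_le_of_reflTransGen
      (⟨Q, pullBlock (centEquiv Q H hQH hCH).symm β⟩ : BrauerPairIdx G) m hle
    obtain ⟨D', hD', hge⟩ := exists_defectGroup_ge hM m.1 Q m.2 _ hm.1.1 hQm hle
    obtain ⟨x, hx⟩ := defectGroup_conj hM _ hβG _ D' hZc hD'
    have hD'Z : ∀ y : Subgroup.centralizer (Q : Set G), y ∈ D' → (y : G) ∈ Q := by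
      intro y hy
      rw [hx] at hy
      obtain ⟨z, hz, rfl⟩ := hy
      have hzQ := (hmemZ z).mp hz
      show ((x * z * x⁻¹ : Subgroup.centralizer (Q : Set G)) : G) ∈ Q
      have hcomm : (x : G) * (z : G) = (z : G) * (x : G) :=
        ((Subgroup.mem_centralizer_iff.mp x.2) (z : G) hzQ).symm
      have : ((x * z * x⁻¹ : Subgroup.centralizer (Q : Set G)) : G) = (z : G) := by
        show (x : G) * (z : G) * (x : G)⁻¹ = (z : G)
        rw [hcomm, mul_inv_cancel_right]
      rw [this]
      exact hzQ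
    refine ⟨m.1, hmD, hQm, ?_⟩
    rintro y ⟨hyD, hyC⟩
    have : (⟨y, hyC⟩ : Subgroup.centralizer (Q : Set G)) ∈
        (m.1 ⊓ Subgroup.centralizer (Q : Set G)).subgroupOf (Subgroup.centralizer (Q : Set G)) :=
      Subgroup.mem_subgroupOf.mpr ⟨hyD, hyC⟩
    exact hD'Z _ (hge this)

/-- The statement of S4726. -/
theorem induced_nested (hM : IsPModular p M) (H : Subgroup G) (b : Set (IrrCharacter H))
    (hb : IsPBlock M b) (D₀ : Subgroup H) (hD₀ : IsDefectGroup p M b D₀)
    (hC : Subgroup.centralizer ((D₀.map H.subtype : Subgroup G) : Set G) ≤ H) :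
    InducedBlockDefined M H b ∧ ∀ B : Set (IrrCharacter G), IsInducedBlock M H b B →
      (∃ D : Subgroup G, IsDefectGroup p M B D ∧
        (Subgroup.center ↥D).map D.subtype ≤
          ((Subgroup.center ↥D₀).map D₀.subtype).map H.subtype ∧
        ((Subgroup.center ↥D₀).map D₀.subtype).map H.subtype ≤ D₀.map H.subtype ∧
        D₀.map H.subtype ≤ D) ∧
      (∀ D : Subgroup G, IsDefectGroup p M B D → IsMulCommutative ↥D →
        IsDefectGroup p M B (D₀.map H.subtype)) := by
  have hMp := isPrime_of_isPModular hM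
  have : Fintype (IrrCharacter G) := Fintype.ofFinite _
  have hQH : D₀.map H.subtype ≤ H := Subgroup.map_subtype_le D₀
  have hD : IsDefectGroup p M b ((D₀.map H.subtype).subgroupOf H) := by
    rw [Cfsg.Agent.Helper14.subgroupOf_map_subtype']; exact hD₀
  obtain ⟨B, hind, D, hDB, hQD, hDC⟩ := induced_of_centralizer_le hM H b hb _ hQH hC hD
  refine ⟨⟨B, hind⟩, ?_⟩
  intro B' hB'
  obtain rfl : B = B' := induced_unique hMp H hind hB'
  have hB := hind.2.1
  constructor
  · refine ⟨D, hDB, ?_, Subgroup.map_mono (Subgroup.map_subtype_le _), hQD⟩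
    rintro _ ⟨z, hz, rfl⟩
    have hzC : (z : G) ∈ Subgroup.centralizer ((D₀.map H.subtype : Subgroup G) : Set G) := by
      rw [Subgroup.mem_centralizer_iff]
      intro q hq
      have h1 := Subgroup.mem_center_iff.mp hz ⟨q, hQD hq⟩
      exact congrArg Subtype.val h1
    have hzQ : (z : G) ∈ D₀.map H.subtype := hDC ⟨z.2, hzC⟩
    obtain ⟨w, hw, hwz⟩ := hzQ
    refine ⟨w, ⟨⟨w, hw⟩, ?_, rfl⟩, hwz⟩
    show (⟨w, hw⟩ : D₀) ∈ Subgroup.center ↥D₀
    rw [Subgroup.mem_center_iff]
    intro d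
    apply Subtype.ext
    apply Subtype.ext
    have hdD : ((d : H) : G) ∈ D := hQD ⟨d, d.2, rfl⟩
    have h1 := Subgroup.mem_center_iff.mp hz ⟨_, hdD⟩
    have h2 : ((d : H) : G) * (z : G) = (z : G) * ((d : H) : G) := congrArg Subtype.val h1
    have hwz' : (w : G) = (z : G) := hwz
    show ((d : H) : G) * (w : G) = (w : G) * ((d : H) : G)
    rw [hwz']
    exact h2
  · intro D₂ hD₂ hab
    obtain ⟨x, hx⟩ := defectGroup_conj hM B hB D₂ D hD₂ hDB
    have hDab : ∀ a ∈ D, ∀ c ∈ D, a * c = c * a := by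
      intro a ha c hc
      rw [hx] at ha hc
      obtain ⟨a', ha', rfl⟩ := ha
      obtain ⟨c', hc', rfl⟩ := hc
      have h1 : (⟨a', ha'⟩ : D₂) * ⟨c', hc'⟩ = ⟨c', hc'⟩ * ⟨a', ha'⟩ := hab.is_comm.comm _ _
      have h2 : a' * c' = c' * a' := congrArg Subtype.val h1
      rw [← map_mul, ← map_mul, h2]
    have hDQ : D ≤ D₀.map H.subtype := fun a ha =>
      hDC ⟨ha, Subgroup.mem_centralizer_iff.mpr (fun q hq => hDab q (hQD hq) a ha)⟩
    have hEq : D₀.map H.subtype = D := le_antisymm hQD hDQ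
    rw [hEq]
    exact hDB

end Cfsg.Agent.Helper23.IDf
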