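import Mathlib
import Cfsg.Prelude.Def_Blocks
import Cfsg.Prelude.Def_BlockLocal
import Cfsg.Prelude.Def_BrauerPairs
import Cfsg.Prelude.Def_BlockRank
import Cfsg.Agent.Helper8.SectionCore
import Cfsg.Agent.Helper8.RankTrace
import Cfsg.Agent.Helper23.AbelianLocal

/-!
# The trace of the contribution matrix of a subsection

For a `p`-element `x`, `C ⊇ C_G(x)` centralizing `x`, and a block `e` of `C` inducing the block `B`
of `G`: `∑_{χ ∈ B} ∑_{s ∈ C p-regular} χ_x(s) · conj χ_x(s) = |C| · l(e)`, where `χ_x` is the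
`e`-part of `c ↦ χ(x c)`.
-/

set_option autoImplicit false
set_option linter.unusedSectionVars false
set_option linter.unusedVariables false

namespace Cfsg.Agent.Helper23.SubTr

open Cfsg Cfsg.Agent.Helper24 Cfsg.Agent.Helper5 Cfsg.Agent.Helper5.CC Cfsg.Agent.Helper5.Loc
open Cfsg.Agent.Helper8.SecCore

variable {G : Type*} [Group G] [Fintype G] {M : Ideal AlgInt}

/-- `∑_χ |D_{χψ}|² · N = ∑_{y p-regular} |ψ(y)|²` for the truncated generalized decomposition
numbers `D_{χψ} = N⁻¹ ∑_{c p-regular} χ(xc) conj ψ(c)`. -/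
theorem sum_D_sq [Fintype (IrrCharacter G)] {p : ℕ} [hp : Fact p.Prime]
    (x : G) (hx : ∃ k : ℕ, orderOf x = p ^ k)
    (C : Subgroup G) [Fintype C] [Fintype (IrrCharacter C)]
    (hcomm : ∀ c : C, x * (c : G) = (c : G) * x)
    (hcent : Subgroup.centralizer ({x} : Set G) ≤ C) (ψ : IrrCharacter C) :
    ∑ χ : IrrCharacter G,
      ((Nat.card C : ℂ)⁻¹ * ∑ c : C, (if p ∣ orderOf c then (0 : ℂ) else 1) *
        (χ : G → ℂ) (x * (c : G)) * (starRingEnd ℂ) ((ψ : C → ℂ) c)) *
      ((Nat.card C : ℂ) * (starRingEnd ℂ) ((Nat.card C : ℂ)⁻¹ *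
        ∑ c : C, (if p ∣ orderOf c then (0 : ℂ) else 1) *
        (χ : G → ℂ) (x * (c : G)) * (starRingEnd ℂ) ((ψ : C → ℂ) c))) =
    ∑ y : C, (if p ∣ orderOf y then (0 : ℂ) else
      (ψ : C → ℂ) y * (starRingEnd ℂ) ((ψ : C → ℂ) y)) := by
  set r : C → ℂ := fun c => if p ∣ orderOf c then (0 : ℂ) else 1 with hr
  have hrc : ∀ c, (starRingEnd ℂ) (r c) = r c := by
    intro c; simp only [hr]; split_ifs <;> simp
  have hr0 : ∀ c : C, p ∣ orderOf c → r c = 0 := fun c hc => by simp only [hr, if_pos hc]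
  have hr1 : ∀ c : C, ¬ p ∣ orderOf c → r c = 1 := fun c hc => by simp only [hr, if_neg hc]
  set N : ℂ := (Nat.card C : ℂ) with hN
  have hN0 : N ≠ 0 := by rw [hN]; exact_mod_cast (Nat.card_pos (α := C)).ne'
  have hNc : (starRingEnd ℂ) N = N := by rw [hN]; exact Complex.conj_natCast _
  have k1 := kernel_expand (fun (χ : IrrCharacter G) (c : C) => (χ : G → ℂ) (x * (c : G)))
    (ψ : C → ℂ) r hrc N hNc hN0
  have k2 := kernel_expand (fun (ψ' : IrrCharacter C) (c : C) => (ψ' : C → ℂ) c)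
    (ψ : C → ℂ) r hrc N hNc hN0
  have hker : ∀ c c' : C, (r c * r c' * (starRingEnd ℂ) ((ψ : C → ℂ) c) * (ψ : C → ℂ) c') *
      ∑ χ : IrrCharacter G, (χ : G → ℂ) (x * (c : G)) *
        (starRingEnd ℂ) ((χ : G → ℂ) (x * (c' : G))) =
      (r c * r c' * (starRingEnd ℂ) ((ψ : C → ℂ) c) * (ψ : C → ℂ) c') *
      ∑ ψ' : IrrCharacter C, (ψ' : C → ℂ) c * (starRingEnd ℂ) ((ψ' : C → ℂ) c') := by
    intro c c'
    by_cases hc : p ∣ orderOf c
    · rw [hr0 c hc]; ring
    by_cases hc' : p ∣ orderOf c'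
    · rw [hr0 c' hc']; ring
    rw [sum_irr_section_eq x hx C hcomm hcent c c' hc hc']
  have hk12 : ∑ χ : IrrCharacter G,
      (N⁻¹ * ∑ c : C, r c * (χ : G → ℂ) (x * (c : G)) * (starRingEnd ℂ) ((ψ : C → ℂ) c)) *
      (N * (starRingEnd ℂ)
        (N⁻¹ * ∑ c : C, r c * (χ : G → ℂ) (x * (c : G)) * (starRingEnd ℂ) ((ψ : C → ℂ) c))) =
      ∑ ψ' : IrrCharacter C,
        (N⁻¹ * ∑ c : C, r c * (ψ' : C → ℂ) c * (starRingEnd ℂ) ((ψ : C → ℂ) c)) *
        (N * (starRingEnd ℂ)
          (N⁻¹ * ∑ c : C, r c * (ψ' : C → ℂ) c * (starRingEnd ℂ) ((ψ : C → ℂ) c))) := by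
    rw [k2, k1]
    congr 1
    refine Finset.sum_congr rfl fun c _ => ?_
    refine Finset.sum_congr rfl fun c' _ => ?_
    exact hker c c'
  rw [hk12]
  -- Parseval
  set ψt : C → ℂ := fun c => r c * (ψ : C → ℂ) c with hψt
  have hcf : IsClassFunction C ψt := by
    intro c h
    simp only [hψt, hr]
    rw [Cfsg.Agent.Helper8.PRegular.orderOf_conj_eq, isClassFunction_irr ψ c h]
  have hexp := IsClassFunction.eq_sum_classInner hcf
  have hpars : classInner ψt ψt = ∑ ψ' : IrrCharacter C,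
      classInner ψt (ψ' : C → ℂ) * (starRingEnd ℂ) (classInner ψt (ψ' : C → ℂ)) := by
    conv_lhs => rw [hexp]
    rw [classInner_sum_sum]
  have ha : ∀ ψ' : IrrCharacter C,
      N⁻¹ * ∑ c : C, r c * (ψ' : C → ℂ) c * (starRingEnd ℂ) ((ψ : C → ℂ) c) =
      (starRingEnd ℂ) (classInner ψt (ψ' : C → ℂ)) := by
    intro ψ'
    simp only [classInner, hψt, map_mul, map_sum, map_inv₀, Complex.conj_conj, hrc,
      Complex.conj_natCast, hN]
    congr 1
    refine Finset.sum_congr rfl fun c _ => ?_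
    ring
  simp_rw [ha, Complex.conj_conj]
  have e5 : ∑ ψ' : IrrCharacter C, (starRingEnd ℂ) (classInner ψt (ψ' : C → ℂ)) *
      (N * classInner ψt (ψ' : C → ℂ)) = N * classInner ψt ψt := by
    rw [hpars, Finset.mul_sum]
    refine Finset.sum_congr rfl fun ψ' _ => ?_
    ring
  rw [e5]
  simp only [classInner, ← hN]
  rw [← mul_assoc, mul_inv_cancel₀ hN0, one_mul]
  refine Finset.sum_congr rfl fun c _ => ?_
  by_cases hc : p ∣ orderOf c
  · rw [if_pos hc]; simp only [hψt, hr0 c hc]; ring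
  · rw [if_neg hc]; simp only [hψt, hr1 c hc, one_mul]


/-- `blockPart` as a `Finset` sum. -/
theorem blockPart_eq_sum {H : Type*} [Group H] [Fintype H] [Fintype (IrrCharacter H)]
    (e : Set (IrrCharacter H)) [DecidablePred (· ∈ e)] (f : H → ℂ) (s : H) :
    blockPart e f s = ∑ ψ : IrrCharacter H,
      if ψ ∈ e then classInner f (ψ : H → ℂ) * (ψ : H → ℂ) s else 0 := by
  have hinst : Fintype.ofFinite H = ‹Fintype H› := Subsingleton.elim _ _
  simp only [blockPart]
  rw [hinst, finsum_mem_eq_sum_ite]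

/-- The truncated generalized decomposition number. -/
noncomputable def dnum (p : ℕ) (x : G) (C : Subgroup G) [Fintype C] (χ : IrrCharacter G)
    (ψ : IrrCharacter C) : ℂ :=
  (Nat.card C : ℂ)⁻¹ * ∑ c : C, (if p ∣ orderOf c then (0 : ℂ) else 1) *
    (χ : G → ℂ) (x * (c : G)) * (starRingEnd ℂ) ((ψ : C → ℂ) c)

omit [Fintype G] in
theorem isClassFunction_shift [Finite G] (x : G) (C : Subgroup G)
    (hcomm : ∀ c : C, x * (c : G) = (c : G) * x) (χ : IrrCharacter G) :
    IsClassFunction C (fun c : C => (χ : G → ℂ) (x * (c : G))) := by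
  intro c h
  show (χ : G → ℂ) (x * ((h * c * h⁻¹ : C) : G)) = (χ : G → ℂ) (x * (c : G))
  rw [← isClassFunction_irr χ (x * (c : G)) (h : G)]
  simp only [Subgroup.coe_mul, Subgroup.coe_inv]
  rw [← mul_assoc, ← mul_assoc, hcomm h]
  group

/-- F1: the `e`-part at a `p`-regular element through the truncated decomposition numbers. -/
theorem blockPart_eq_sum_dnum [Fintype (IrrCharacter G)] {p : ℕ} [hp : Fact p.Prime]
    (hM : IsPModular p M) (x : G) (C : Subgroup G) [Fintype C] [Fintype (IrrCharacter C)]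
    (e : Set (IrrCharacter C)) [DecidablePred (· ∈ e)] (he : IsPBlock M e)
    (χ : IrrCharacter G) (s : C) (hs : ¬ p ∣ orderOf s) :
    blockPart e (fun c : C => (χ : G → ℂ) (x * (c : G))) s =
      ∑ ψ : IrrCharacter C, if ψ ∈ e then dnum p x C χ ψ * (ψ : C → ℂ) s else 0 := by
  have hMp := isPrime_of_isPModular hM
  have hS : ∀ ψ ∈ e, blockOf M (ψ : C → ℂ) ⊆ e := by
    intro ψ hψ
    rw [← IsPBlock_eq_blockOf hMp he hψ]
  rw [blockPart_eq_sum]
  rw [sum_classInner_congr hM e hS (fun c : C => (χ : G → ℂ) (x * (c : G)))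
    (fun c : C => (if p ∣ orderOf c then (0 : ℂ) else 1) * (χ : G → ℂ) (x * (c : G))) ?_ s hs]
  · refine Finset.sum_congr rfl fun ψ _ => ?_
    by_cases hψ : ψ ∈ e
    · rw [if_pos hψ, if_pos hψ]
      simp only [classInner, dnum]
    · rw [if_neg hψ, if_neg hψ]
  · intro c hc
    simp only [if_neg hc, one_mul]

/-- F2: second main theorem: the `e`-part vanishes on `p`-regular elements for `χ ∉ B`. -/
theorem blockPart_eq_zero [Fintype (IrrCharacter G)] {p : ℕ} [hp : Fact p.Prime]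
    (hM : IsPModular p M) (x : G) (hx : ∃ k : ℕ, orderOf x = p ^ k)
    (C : Subgroup G) [Fintype C] [Fintype (IrrCharacter C)] (hxC : x ∈ C)
    (hcomm : ∀ c : C, x * (c : G) = (c : G) * x)
    (hcent : Subgroup.centralizer ({x} : Set G) ≤ C)
    (B : Set (IrrCharacter G)) (e : Set (IrrCharacter C)) (hind : IsInducedBlock M C e B)
    (χ : IrrCharacter G) (hχ : χ ∉ B) (s : C) (hs : ¬ p ∣ orderOf s) :
    blockPart e (fun c : C => (χ : G → ℂ) (x * (c : G))) s = 0 := by
  have : Finite G := Finite.of_fintype G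
  have hΘ := isClassFunction_shift x C hcomm χ
  rw [blockPart_eq_sum_blockCoeff e hΘ s]
  have hxyC : x * (s : G) ∈ C := C.mul_mem hxC s.2
  have hs' : ¬ p ∣ orderOf (s : G) := by rwa [Subgroup.orderOf_coe]
  have hpp : IsPPart p (x * (s : G)) x := ⟨(s : G), rfl, hcomm s, hx, hs'⟩
  have hCu : ∀ z : G, IsPPart p (((⟨x * (s : G), hxyC⟩ : C) : G)) z →
      Subgroup.centralizer ({z} : Set G) ≤ C := by
    intro z hz
    have : x = z := isPPart_unique hpp hz
    rw [← this]
    exact hcent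
  have h0 := second_main_idem hM C e B hind ⟨x * (s : G), hxyC⟩ hCu χ hχ
  rw [← h0]
  refine Finset.sum_congr rfl fun k _ => ?_
  congr 1
  show (χ : G → ℂ) (x * ((k * s : C) : G)) = (χ : G → ℂ) ((k : G) * (x * (s : G)))
  rw [Subgroup.coe_mul, ← mul_assoc, ← mul_assoc, hcomm k]


/-- F3: the `e`-part of `c ↦ χ(x⁻¹ c)` at `s⁻¹` is the conjugate of the `e`-part of
`c ↦ χ(x c)` at `s`. -/
theorem blockPart_inv [Fintype (IrrCharacter G)]
    (x : G) (C : Subgroup G) [Fintype C] [Fintype (IrrCharacter C)]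
    (hcomm : ∀ c : C, x * (c : G) = (c : G) * x)
    (e : Set (IrrCharacter C)) [DecidablePred (· ∈ e)] (χ : IrrCharacter G) (s : C) :
    blockPart e (fun c : C => (χ : G → ℂ) (x⁻¹ * (c : G))) s⁻¹ =
      (starRingEnd ℂ) (blockPart e (fun c : C => (χ : G → ℂ) (x * (c : G))) s) := by
  have : Finite G := Finite.of_fintype G
  rw [blockPart_eq_sum, blockPart_eq_sum, map_sum]
  refine Finset.sum_congr rfl fun ψ _ => ?_
  by_cases hψ : ψ ∈ e
  swap
  · rw [if_neg hψ, if_neg hψ, map_zero]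
  rw [if_pos hψ, if_pos hψ, map_mul, Cfsg.Agent.Helper5.irr_inv ψ s]
  congr 1
  simp only [classInner, map_mul, map_sum, map_inv₀, Complex.conj_natCast, Complex.conj_conj]
  congr 1
  refine Fintype.sum_equiv (Equiv.inv C) _ _ (fun c => ?_)
  simp only [Equiv.inv_apply]
  rw [Cfsg.Agent.Helper5.irr_inv ψ c]
  congr 1
  have h1 : x⁻¹ * (c : G) = (x * ((c⁻¹ : C) : G))⁻¹ := by
    rw [hcomm c⁻¹, mul_inv_rev, Subgroup.coe_inv, inv_inv]
  rw [h1, Cfsg.Agent.Helper5.irr_inv χ]

/-- F4: on `p`-regular elements, pairing `ψ ∈ e` against the `e`-part of `c ↦ χ(x c)` gives the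
truncated decomposition number. -/
theorem sum_mul_conj_blockPart [Fintype (IrrCharacter G)] {p : ℕ} [hp : Fact p.Prime]
    (hM : IsPModular p M) (x : G) (C : Subgroup G) [Fintype C] [Fintype (IrrCharacter C)]
    (hcomm : ∀ c : C, x * (c : G) = (c : G) * x)
    (e : Set (IrrCharacter C)) [DecidablePred (· ∈ e)] (he : IsPBlock M e)
    (χ : IrrCharacter G) (ψ : IrrCharacter C) (hψ : ψ ∈ e) :
    ∑ s : C, (if p ∣ orderOf s then (0 : ℂ) else 1) * ((ψ : C → ℂ) s *
      (starRingEnd ℂ) (blockPart e (fun c : C => (χ : G → ℂ) (x * (c : G))) s)) =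
    (Nat.card C : ℂ) * (starRingEnd ℂ) (dnum p x C χ ψ) := by
  have : Finite G := Finite.of_fintype G
  set f : C → ℂ := fun c : C => (χ : G → ℂ) (x * (c : G)) with hf
  have hΘ : IsClassFunction C f := isClassFunction_shift x C hcomm χ
  set N : ℂ := (Nat.card C : ℂ) with hN
  have hN0 : N ≠ 0 := by rw [hN]; exact_mod_cast (Nat.card_pos (α := C)).ne'
  have hNc : (starRingEnd ℂ) N = N := by rw [hN]; exact Complex.conj_natCast _
  set r : C → ℂ := fun c => if p ∣ orderOf c then (0 : ℂ) else 1 with hr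
  have hrc : ∀ c, (starRingEnd ℂ) (r c) = r c := by
    intro c; simp only [hr]; split_ifs <;> simp
  -- right side
  have hR : N * (starRingEnd ℂ) (dnum p x C χ ψ) =
      ∑ s : C, r s * ((ψ : C → ℂ) s * (starRingEnd ℂ) (f s)) := by
    simp only [dnum, map_mul, map_sum, map_inv₀, Complex.conj_conj, hNc, ← hN]
    rw [← mul_assoc, mul_inv_cancel₀ hN0, one_mul]
    refine Finset.sum_congr rfl fun y _ => ?_
    simp only [hr, hf]
    split_ifs <;> simp <;> ring
  rw [hR]
  -- expand `f` through the irreducible characters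
  have hexp := IsClassFunction.eq_sum_classInner hΘ
  have key : ∀ (F : IrrCharacter C → ℂ),
      ∑ s : C, r s * ((ψ : C → ℂ) s *
        (starRingEnd ℂ) (∑ ψ' : IrrCharacter C, F ψ' * (ψ' : C → ℂ) s)) =
      ∑ ψ' : IrrCharacter C, (starRingEnd ℂ) (F ψ') *
        ∑ s : C, r s * ((ψ : C → ℂ) s * (starRingEnd ℂ) ((ψ' : C → ℂ) s)) := by
    intro F
    simp_rw [map_sum, map_mul, Finset.mul_sum]
    rw [Finset.sum_comm]
    refine Finset.sum_congr rfl fun ψ' _ => ?_
    refine Finset.sum_congr rfl fun s _ => ?_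
    ring
  have hL : ∀ s : C, blockPart e f s = ∑ ψ' : IrrCharacter C,
      (if ψ' ∈ e then classInner f (ψ' : C → ℂ) else 0) * (ψ' : C → ℂ) s := by
    intro s
    rw [blockPart_eq_sum]
    refine Finset.sum_congr rfl fun ψ' _ => ?_
    split_ifs <;> simp
  have hF : ∀ s : C, f s = ∑ ψ' : IrrCharacter C,
      classInner f (ψ' : C → ℂ) * (ψ' : C → ℂ) s := by
    intro s
    have := congrFun hexp s
    simpa [Finset.sum_apply, Pi.smul_apply, smul_eq_mul] using this
  simp_rw [hL]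
  conv_rhs => simp only [hF]
  rw [key, key]
  refine Finset.sum_congr rfl fun ψ' _ => ?_
  by_cases hψ' : ψ' ∈ e
  · rw [if_pos hψ']
  · rw [if_neg hψ', map_zero, zero_mul]
    have h0 := Cfsg.Agent.Helper8.BlockReg.sum_pRegular_eq_zero hM he ψ ψ' hψ hψ'
    have : ∑ s : C, r s * ((ψ : C → ℂ) s * (starRingEnd ℂ) ((ψ' : C → ℂ) s)) = 0 := by
      rw [← h0]
      refine Finset.sum_congr rfl fun s _ => ?_
      simp only [hr]
      split_ifs <;> simp
    rw [this, mul_zero]


/-- **The trace of the contribution matrix of the subsection `(x, e)` is `l(e)`.** -/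
theorem subsection_trace [Fintype (IrrCharacter G)] {p : ℕ} [hp : Fact p.Prime]
    (hM : IsPModular p M) (x : G) (hx : ∃ k : ℕ, orderOf x = p ^ k)
    (C : Subgroup G) [Fintype C] [Fintype (IrrCharacter C)] (hxC : x ∈ C)
    (hcomm : ∀ c : C, x * (c : G) = (c : G) * x)
    (hcent : Subgroup.centralizer ({x} : Set G) ≤ C)
    (B : Set (IrrCharacter G)) [DecidablePred (· ∈ B)]
    (e : Set (IrrCharacter C)) [DecidablePred (· ∈ e)] (hind : IsInducedBlock M C e B) :
    ∑ χ : IrrCharacter G, (if χ ∈ B then ∑ s : C,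
      pRegularPart p (blockPart e (fun c : C => (χ : G → ℂ) (x * (c : G)))) s *
        blockPart e (fun c : C => (χ : G → ℂ) (x⁻¹ * (c : G))) s⁻¹ else 0) =
    (Nat.card C : ℂ) * (blockRank p e : ℂ) := by
  have he : IsPBlock M e := hind.1
  set r : C → ℂ := fun c => if p ∣ orderOf c then (0 : ℂ) else 1 with hr
  have hr0 : ∀ c : C, p ∣ orderOf c → r c = 0 := fun c hc => by simp only [hr, if_pos hc]
  have hr1 : ∀ c : C, ¬ p ∣ orderOf c → r c = 1 := fun c hc => by simp only [hr, if_neg hc]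
  set N : ℂ := (Nat.card C : ℂ) with hN
  have hN0 : N ≠ 0 := by rw [hN]; exact_mod_cast (Nat.card_pos (α := C)).ne'
  -- step a
  have ha : ∀ (χ : IrrCharacter G) (s : C),
      pRegularPart p (blockPart e (fun c : C => (χ : G → ℂ) (x * (c : G)))) s *
        blockPart e (fun c : C => (χ : G → ℂ) (x⁻¹ * (c : G))) s⁻¹ =
      r s * (blockPart e (fun c : C => (χ : G → ℂ) (x * (c : G))) s *
        (starRingEnd ℂ) (blockPart e (fun c : C => (χ : G → ℂ) (x * (c : G))) s)) := by
    intro χ s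
    rw [blockPart_inv x C hcomm e χ s, Cfsg.Agent.Helper8.RankTr.pRegularPart_fun]
    simp only [hr]
    split_ifs <;> ring
  simp_rw [ha]
  -- step b
  have hb : ∀ χ : IrrCharacter G, (if χ ∈ B then ∑ s : C,
      r s * (blockPart e (fun c : C => (χ : G → ℂ) (x * (c : G))) s *
        (starRingEnd ℂ) (blockPart e (fun c : C => (χ : G → ℂ) (x * (c : G))) s)) else 0) =
      ∑ s : C, r s * (blockPart e (fun c : C => (χ : G → ℂ) (x * (c : G))) s *
        (starRingEnd ℂ) (blockPart e (fun c : C => (χ : G → ℂ) (x * (c : G))) s)) := by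
    intro χ
    by_cases hχ : χ ∈ B
    · rw [if_pos hχ]
    · rw [if_neg hχ]
      symm
      apply Finset.sum_eq_zero
      intro s _
      by_cases hs : p ∣ orderOf s
      · rw [hr0 s hs, zero_mul]
      · rw [blockPart_eq_zero hM x hx C hxC hcomm hcent B e hind χ hχ s hs]
        ring
  rw [Finset.sum_congr rfl (fun χ _ => hb χ)]
  -- step c
  have hc : ∀ χ : IrrCharacter G,
      ∑ s : C, r s * (blockPart e (fun c : C => (χ : G → ℂ) (x * (c : G))) s *
        (starRingEnd ℂ) (blockPart e (fun c : C => (χ : G → ℂ) (x * (c : G))) s)) =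
      ∑ ψ : IrrCharacter C, if ψ ∈ e then
        dnum p x C χ ψ * (N * (starRingEnd ℂ) (dnum p x C χ ψ)) else 0 := by
    intro χ
    have h1 : ∀ s : C, r s * (blockPart e (fun c : C => (χ : G → ℂ) (x * (c : G))) s *
        (starRingEnd ℂ) (blockPart e (fun c : C => (χ : G → ℂ) (x * (c : G))) s)) =
        ∑ ψ : IrrCharacter C, if ψ ∈ e then dnum p x C χ ψ * (r s * ((ψ : C → ℂ) s *
          (starRingEnd ℂ) (blockPart e (fun c : C => (χ : G → ℂ) (x * (c : G))) s))) else 0 := by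
      intro s
      by_cases hs : p ∣ orderOf s
      · rw [hr0 s hs, zero_mul]
        symm
        apply Finset.sum_eq_zero
        intro ψ _
        split_ifs <;> ring
      · have hA := blockPart_eq_sum_dnum hM x C e he χ s hs
        set A := blockPart e (fun c : C => (χ : G → ℂ) (x * (c : G))) s with hAdef
        have h2 : r s * (A * (starRingEnd ℂ) A) =
            r s * ((∑ ψ : IrrCharacter C, if ψ ∈ e then dnum p x C χ ψ * (ψ : C → ℂ) s else 0) *
              (starRingEnd ℂ) A) := by rw [← hA]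
        rw [h2, Finset.sum_mul, Finset.mul_sum]
        refine Finset.sum_congr rfl fun ψ _ => ?_
        split_ifs <;> ring
    rw [Finset.sum_congr rfl (fun s _ => h1 s), Finset.sum_comm]
    refine Finset.sum_congr rfl fun ψ _ => ?_
    by_cases hψ : ψ ∈ e
    · simp only [if_pos hψ]
      rw [← Finset.mul_sum, sum_mul_conj_blockPart hM x C hcomm e he χ ψ hψ]
    · simp only [if_neg hψ, Finset.sum_const_zero]
  rw [Finset.sum_congr rfl (fun χ _ => hc χ), Finset.sum_comm]
  -- step d, e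
  rw [Cfsg.Agent.Helper8.RankTr.blockRank_eq_sum hM he, Finset.mul_sum]
  refine Finset.sum_congr rfl fun ψ _ => ?_
  by_cases hψ : ψ ∈ e
  swap
  · simp only [if_neg hψ, Finset.sum_const_zero, mul_zero]
  simp only [if_pos hψ]
  have h5 := sum_D_sq (p := p) x hx C hcomm hcent ψ
  simp only [dnum, ← hN]
  rw [← hN] at h5
  rw [h5]
  simp only [classInner, ← hN]
  rw [← mul_assoc, mul_inv_cancel₀ hN0, one_mul]
  refine Finset.sum_congr rfl fun y _ => ?_
  rw [Cfsg.Agent.Helper8.RankTr.pRegularPart_fun]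
  simp only
  split_ifs <;> ring

end Cfsg.Agent.Helper23.SubTr
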