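import Mathlib
import Cfsg.Prelude.Def_Blocks
import Cfsg.Prelude.Def_BlockRank
import Cfsg.Agent.Helper23.SubsectionTrace

/-!
# The contribution matrix of a subsection: linear algebra

For a `p`-element `x`, `C ⊇ C_G(x)` centralizing `x` and a block `e` of `C`, the contribution
matrix `m_{χχ'} = ∑_{ψ ∈ e} D_{χψ} conj D_{χ'ψ}` (with `D` the truncated generalized
decomposition numbers) is a Hermitian idempotent of trace `l(e)`, vanishing outside `e^G`.
-/

set_option autoImplicit false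
set_option linter.unusedSectionVars false
set_option linter.unusedVariables false
set_option linter.unusedSimpArgs false
set_option linter.unnecessarySimpa false
set_option linter.style.haveILetI false

namespace Cfsg.Agent.Helper23.CM

open Cfsg Cfsg.Agent.Helper24 Cfsg.Agent.Helper5 Cfsg.Agent.Helper5.CC Cfsg.Agent.Helper5.Loc
open Cfsg.Agent.Helper8.SecCore Cfsg.Agent.Helper23.SubTr

section Gram

variable {H : Type*} [Group H] [Fintype H]

/-- Indicator of the `p`-regular elements. -/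
noncomputable def rr (p : ℕ) (c : H) : ℂ := if p ∣ orderOf c then (0 : ℂ) else 1

theorem rr_conj (p : ℕ) (c : H) : (starRingEnd ℂ) (rr p c) = rr p c := by
  simp only [rr]; split_ifs <;> simp

theorem rr_mul_self (p : ℕ) (c : H) : rr p c * rr p c = rr p c := by
  simp only [rr]; split_ifs <;> simp

theorem rr_of_dvd {p : ℕ} {c : H} (h : p ∣ orderOf c) : rr p c = 0 := by simp only [rr, if_pos h]

theorem rr_of_not_dvd {p : ℕ} {c : H} (h : ¬ p ∣ orderOf c) : rr p c = 1 := by
  simp only [rr, if_neg h]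

theorem isClassFunction_rr_mul (p : ℕ) {f : H → ℂ} (hf : IsClassFunction H f) :
    IsClassFunction H (fun c => rr p c * f c) := by
  intro c h
  simp only [rr]
  rw [Cfsg.Agent.Helper8.PRegular.orderOf_conj_eq, hf c h]

/-- Parseval for class functions. -/
theorem classInner_eq_sum [Fintype (IrrCharacter H)] {f g : H → ℂ} (hf : IsClassFunction H f)
    (hg : IsClassFunction H g) :
    classInner f g = ∑ ψ : IrrCharacter H,
      classInner f (ψ : H → ℂ) * (starRingEnd ℂ) (classInner g (ψ : H → ℂ)) := by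
  haveI : Finite H := Finite.of_fintype H
  conv_lhs => rw [IsClassFunction.eq_sum_classInner hf, IsClassFunction.eq_sum_classInner hg]
  rw [classInner_sum_sum]

/-- Moving the real indicator across the inner product. -/
theorem classInner_rr_left (p : ℕ) (f g : H → ℂ) :
    classInner (fun c => rr p c * f c) g = classInner f (fun c => rr p c * g c) := by
  simp only [classInner]
  congr 1
  refine Finset.sum_congr rfl fun c _ => ?_
  rw [map_mul, rr_conj]; ring

theorem classInner_rr_both (p : ℕ) (f g : H → ℂ) :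
    classInner (fun c => rr p c * f c) (fun c => rr p c * g c) =
      classInner (fun c => rr p c * f c) g := by
  simp only [classInner]
  congr 1
  refine Finset.sum_congr rfl fun c _ => ?_
  rw [map_mul, rr_conj]
  calc rr p c * f c * (rr p c * (starRingEnd ℂ) (g c))
      = (rr p c * rr p c) * f c * (starRingEnd ℂ) (g c) := by ring
    _ = rr p c * f c * (starRingEnd ℂ) (g c) := by rw [rr_mul_self]

/-- The Gram matrix of the irreducible characters on the `p`-regular elements. -/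
noncomputable def gram (p : ℕ) (θ ψ : IrrCharacter H) : ℂ :=
  classInner (fun c => rr p c * (θ : H → ℂ) c) (ψ : H → ℂ)

theorem gram_conj (p : ℕ) (θ ψ : IrrCharacter H) :
    (starRingEnd ℂ) (gram p θ ψ) = gram p ψ θ := by
  simp only [gram, classInner, map_mul, map_sum, map_inv₀, Complex.conj_natCast, rr_conj,
    Complex.conj_conj]
  congr 1
  refine Finset.sum_congr rfl fun c _ => ?_
  ring

theorem gram_sq [Fintype (IrrCharacter H)] (p : ℕ) (θ θ' : IrrCharacter H) :
    ∑ ψ : IrrCharacter H, gram p θ ψ * gram p ψ θ' = gram p θ θ' := by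
  haveI : Finite H := Finite.of_fintype H
  have h1 : gram p θ θ' = classInner (fun c => rr p c * (θ : H → ℂ) c)
      (fun c => rr p c * (θ' : H → ℂ) c) := by
    rw [classInner_rr_both]; rfl
  rw [h1, classInner_eq_sum (isClassFunction_rr_mul p (isClassFunction_irr θ))
    (isClassFunction_rr_mul p (isClassFunction_irr θ'))]
  refine Finset.sum_congr rfl fun ψ _ => ?_
  rw [← gram_conj p θ' ψ]
  rfl

end Gram

section Sub

variable {G : Type*} [Group G] [Fintype G] {M : Ideal AlgInt}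

/-- The class function `c ↦ χ(x c)` on `C`. -/
noncomputable def shift (x : G) (C : Subgroup G) (χ : IrrCharacter G) : C → ℂ :=
  fun c => (χ : G → ℂ) (x * (c : G))

theorem dnum_eq_classInner (p : ℕ) (x : G) (C : Subgroup G) [Fintype C] (χ : IrrCharacter G)
    (ψ : IrrCharacter C) :
    dnum p x C χ ψ = classInner (fun c => rr p c * shift x C χ c) (ψ : C → ℂ) := by
  simp only [dnum, classInner, rr, shift]

/-- The coefficient of `θ` in `c ↦ χ(x c)`. -/
noncomputable def acoef (x : G) (C : Subgroup G) [Fintype C] (χ : IrrCharacter G)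
    (θ : IrrCharacter C) : ℂ :=
  classInner (shift x C χ) (θ : C → ℂ)

/-- `D = A Γ`. -/
theorem dnum_eq_sum_gram (p : ℕ) (x : G) (C : Subgroup G) [Fintype C] [Fintype (IrrCharacter C)]
    (hcomm : ∀ c : C, x * (c : G) = (c : G) * x) (χ : IrrCharacter G) (ψ : IrrCharacter C) :
    dnum p x C χ ψ = ∑ θ : IrrCharacter C, acoef x C χ θ * gram p θ ψ := by
  haveI : Finite G := Finite.of_fintype G
  haveI : Finite C := Finite.of_fintype C
  have hsh : IsClassFunction C (shift x C χ) := isClassFunction_shift x C hcomm χ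
  rw [dnum_eq_classInner, classInner_rr_left,
    classInner_eq_sum hsh (isClassFunction_rr_mul p (isClassFunction_irr ψ))]
  refine Finset.sum_congr rfl fun θ _ => ?_
  rw [← gram_conj p ψ θ]
  rfl

/-- Expansion of a sum of products of truncated inner products. -/
theorem sum_mul_conj_expand {T I : Type*} [Fintype T] [Fintype I] (u : I → T → ℂ)
    (w w' r : T → ℂ) (hr : ∀ c, (starRingEnd ℂ) (r c) = r c) (N : ℂ)
    (hN : (starRingEnd ℂ) N = N) :
    ∑ i : I, (N⁻¹ * ∑ c : T, r c * u i c * (starRingEnd ℂ) (w c)) *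
      (starRingEnd ℂ) (N⁻¹ * ∑ c : T, r c * u i c * (starRingEnd ℂ) (w' c)) =
    N⁻¹ * N⁻¹ * ∑ c : T, ∑ c' : T, (r c * r c' * (starRingEnd ℂ) (w c) * w' c') *
      ∑ i : I, u i c * (starRingEnd ℂ) (u i c') := by
  simp only [map_mul, map_sum, map_inv₀, hN, hr, Complex.conj_conj]
  have h1 : ∀ i : I, (N⁻¹ * ∑ c : T, r c * u i c * (starRingEnd ℂ) (w c)) *
      (N⁻¹ * ∑ c : T, r c * (starRingEnd ℂ) (u i c) * w' c) =
      N⁻¹ * N⁻¹ * ∑ c : T, ∑ c' : T, (r c * r c' * (starRingEnd ℂ) (w c) * w' c') *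
        (u i c * (starRingEnd ℂ) (u i c')) := by
    intro i
    rw [mul_mul_mul_comm, Finset.sum_mul_sum]
    congr 1
    refine Finset.sum_congr rfl fun c _ => ?_
    refine Finset.sum_congr rfl fun c' _ => ?_
    ring
  rw [Finset.sum_congr rfl (fun i _ => h1 i), ← Finset.mul_sum, Finset.sum_comm]
  congr 1
  refine Finset.sum_congr rfl fun c _ => ?_
  rw [Finset.sum_comm]
  refine Finset.sum_congr rfl fun c' _ => ?_
  rw [Finset.mul_sum]

/-- `D* D = Γ` (polarized form of `sum_D_sq`). -/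
theorem sum_dnum_mul_conj [Fintype (IrrCharacter G)] {p : ℕ} [hp : Fact p.Prime]
    (x : G) (hx : ∃ k : ℕ, orderOf x = p ^ k)
    (C : Subgroup G) [Fintype C] [Fintype (IrrCharacter C)]
    (hcomm : ∀ c : C, x * (c : G) = (c : G) * x)
    (hcent : Subgroup.centralizer ({x} : Set G) ≤ C) (ψ₁ ψ₂ : IrrCharacter C) :
    ∑ χ : IrrCharacter G, dnum p x C χ ψ₁ * (starRingEnd ℂ) (dnum p x C χ ψ₂) =
      gram p ψ₂ ψ₁ := by
  haveI : Finite C := Finite.of_fintype C
  set N : ℂ := (Nat.card C : ℂ) with hN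
  have hNc : (starRingEnd ℂ) N = N := by rw [hN]; exact Complex.conj_natCast _
  have k1 := sum_mul_conj_expand
    (fun (χ : IrrCharacter G) (c : C) => (χ : G → ℂ) (x * (c : G)))
    (ψ₁ : C → ℂ) (ψ₂ : C → ℂ) (rr p) (rr_conj p) N hNc
  have k2 := sum_mul_conj_expand
    (fun (ψ' : IrrCharacter C) (c : C) => (ψ' : C → ℂ) c)
    (ψ₁ : C → ℂ) (ψ₂ : C → ℂ) (rr p) (rr_conj p) N hNc
  have hker : ∀ c c' : C,
      (rr p c * rr p c' * (starRingEnd ℂ) ((ψ₁ : C → ℂ) c) * (ψ₂ : C → ℂ) c') *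
      ∑ χ : IrrCharacter G, (χ : G → ℂ) (x * (c : G)) *
        (starRingEnd ℂ) ((χ : G → ℂ) (x * (c' : G))) =
      (rr p c * rr p c' * (starRingEnd ℂ) ((ψ₁ : C → ℂ) c) * (ψ₂ : C → ℂ) c') *
      ∑ ψ' : IrrCharacter C, (ψ' : C → ℂ) c * (starRingEnd ℂ) ((ψ' : C → ℂ) c') := by
    intro c c'
    by_cases hc : p ∣ orderOf c
    · rw [rr_of_dvd hc]; ring
    by_cases hc' : p ∣ orderOf c'
    · rw [rr_of_dvd hc']; ring
    rw [sum_irr_section_eq x hx C hcomm hcent c c' hc hc']
  have e1 : ∑ χ : IrrCharacter G, dnum p x C χ ψ₁ * (starRingEnd ℂ) (dnum p x C χ ψ₂) =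
      ∑ ψ' : IrrCharacter C, gram p ψ' ψ₁ * (starRingEnd ℂ) (gram p ψ' ψ₂) := by
    have hL : ∀ χ : IrrCharacter G, dnum p x C χ ψ₁ * (starRingEnd ℂ) (dnum p x C χ ψ₂) =
        (N⁻¹ * ∑ c : C, rr p c * (χ : G → ℂ) (x * (c : G)) * (starRingEnd ℂ) ((ψ₁ : C → ℂ) c)) *
        (starRingEnd ℂ) (N⁻¹ * ∑ c : C, rr p c * (χ : G → ℂ) (x * (c : G)) *
          (starRingEnd ℂ) ((ψ₂ : C → ℂ) c)) := by
      intro χ; rfl
    have hR : ∀ ψ' : IrrCharacter C, gram p ψ' ψ₁ * (starRingEnd ℂ) (gram p ψ' ψ₂) =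
        (N⁻¹ * ∑ c : C, rr p c * (ψ' : C → ℂ) c * (starRingEnd ℂ) ((ψ₁ : C → ℂ) c)) *
        (starRingEnd ℂ) (N⁻¹ * ∑ c : C, rr p c * (ψ' : C → ℂ) c *
          (starRingEnd ℂ) ((ψ₂ : C → ℂ) c)) := by
      intro ψ'; rfl
    rw [Finset.sum_congr rfl (fun χ _ => hL χ), Finset.sum_congr rfl (fun ψ' _ => hR ψ'), k1, k2]
    congr 1
    refine Finset.sum_congr rfl fun c _ => ?_
    refine Finset.sum_congr rfl fun c' _ => ?_
    exact hker c c'
  rw [e1]
  have e2 : ∀ ψ' : IrrCharacter C, gram p ψ' ψ₁ * (starRingEnd ℂ) (gram p ψ' ψ₂) =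
      gram p ψ₂ ψ' * gram p ψ' ψ₁ := by
    intro ψ'
    rw [gram_conj]; ring
  rw [Finset.sum_congr rfl (fun ψ' _ => e2 ψ'), gram_sq]

end Sub

section Block

variable {G : Type*} [Group G] [Fintype G] {M : Ideal AlgInt}

/-- Block orthogonality for the Gram matrix. -/
theorem gram_eq_zero {H : Type*} [Group H] [Fintype H] [Fintype (IrrCharacter H)]
    {p : ℕ} [hp : Fact p.Prime] (hM : IsPModular p M) {e : Set (IrrCharacter H)}
    (he : IsPBlock M e) {θ ψ : IrrCharacter H} (hθ : θ ∈ e) (hψ : ψ ∉ e) : gram p θ ψ = 0 := by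
  have h0 := Cfsg.Agent.Helper8.BlockReg.classInner_pRegular_eq_zero hM he θ ψ hθ hψ 1
  rw [← h0]
  simp only [gram, classInner, rr]
  congr 1
  refine Finset.sum_congr rfl fun c _ => ?_
  split_ifs <;> simp

theorem gram_eq_zero' {H : Type*} [Group H] [Fintype H] [Fintype (IrrCharacter H)]
    {p : ℕ} [hp : Fact p.Prime] (hM : IsPModular p M) {e : Set (IrrCharacter H)}
    (he : IsPBlock M e) {θ ψ : IrrCharacter H} (hθ : θ ∉ e) (hψ : ψ ∈ e) : gram p θ ψ = 0 := by
  rw [← gram_conj, gram_eq_zero hM he hψ hθ, map_zero]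

/-- The contribution matrix of the subsection `(x, e)`. -/
noncomputable def contrib (p : ℕ) (x : G) (C : Subgroup G) [Fintype C] [Fintype (IrrCharacter C)]
    (e : Set (IrrCharacter C)) [DecidablePred (· ∈ e)] (χ χ' : IrrCharacter G) : ℂ :=
  ∑ ψ : IrrCharacter C, if ψ ∈ e then
    dnum p x C χ ψ * (starRingEnd ℂ) (dnum p x C χ' ψ) else 0

theorem contrib_conj (p : ℕ) (x : G) (C : Subgroup G) [Fintype C] [Fintype (IrrCharacter C)]
    (e : Set (IrrCharacter C)) [DecidablePred (· ∈ e)] (χ χ' : IrrCharacter G) :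
    (starRingEnd ℂ) (contrib p x C e χ χ') = contrib p x C e χ' χ := by
  simp only [contrib, map_sum]
  refine Finset.sum_congr rfl fun ψ _ => ?_
  split_ifs
  · rw [map_mul, Complex.conj_conj, mul_comm]
  · rw [map_zero]

/-- `D Γ = D` on the columns of `e`. -/
theorem sum_dnum_mul_gram [Fintype (IrrCharacter G)] {p : ℕ} [hp : Fact p.Prime]
    (hM : IsPModular p M) (x : G) (C : Subgroup G) [Fintype C] [Fintype (IrrCharacter C)]
    (hcomm : ∀ c : C, x * (c : G) = (c : G) * x)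
    (e : Set (IrrCharacter C)) [DecidablePred (· ∈ e)] (he : IsPBlock M e)
    (χ : IrrCharacter G) (ψ' : IrrCharacter C) (hψ' : ψ' ∈ e) :
    ∑ ψ : IrrCharacter C, (if ψ ∈ e then dnum p x C χ ψ * gram p ψ ψ' else 0) =
      dnum p x C χ ψ' := by
  have h1 : ∀ ψ : IrrCharacter C, (if ψ ∈ e then dnum p x C χ ψ * gram p ψ ψ' else 0) =
      dnum p x C χ ψ * gram p ψ ψ' := by
    intro ψ
    by_cases hψ : ψ ∈ e
    · rw [if_pos hψ]
    · rw [if_neg hψ, gram_eq_zero' hM he hψ hψ', mul_zero]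
  rw [Finset.sum_congr rfl (fun ψ _ => h1 ψ)]
  simp_rw [dnum_eq_sum_gram p x C hcomm χ, Finset.sum_mul]
  rw [Finset.sum_comm]
  refine Finset.sum_congr rfl fun θ _ => ?_
  simp_rw [mul_assoc]
  rw [← Finset.mul_sum, gram_sq]

/-- The contribution matrix is idempotent. -/
theorem contrib_idem [Fintype (IrrCharacter G)] {p : ℕ} [hp : Fact p.Prime]
    (hM : IsPModular p M) (x : G) (hx : ∃ k : ℕ, orderOf x = p ^ k)
    (C : Subgroup G) [Fintype C] [Fintype (IrrCharacter C)]
    (hcomm : ∀ c : C, x * (c : G) = (c : G) * x)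
    (hcent : Subgroup.centralizer ({x} : Set G) ≤ C)
    (e : Set (IrrCharacter C)) [DecidablePred (· ∈ e)] (he : IsPBlock M e)
    (χ χ' : IrrCharacter G) :
    ∑ χ'' : IrrCharacter G, contrib p x C e χ χ'' * (starRingEnd ℂ) (contrib p x C e χ' χ'') =
      contrib p x C e χ χ' := by
  have h1 : ∀ χ'' : IrrCharacter G,
      contrib p x C e χ χ'' * (starRingEnd ℂ) (contrib p x C e χ' χ'') =
      ∑ ψ : IrrCharacter C, ∑ ψ' : IrrCharacter C,
        (if ψ ∈ e then (if ψ' ∈ e then dnum p x C χ ψ * (starRingEnd ℂ) (dnum p x C χ' ψ') *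
          (dnum p x C χ'' ψ' * (starRingEnd ℂ) (dnum p x C χ'' ψ)) else 0) else 0) := by
    intro χ''
    rw [contrib_conj]
    simp only [contrib]
    rw [Finset.sum_mul_sum]
    refine Finset.sum_congr rfl fun ψ _ => ?_
    refine Finset.sum_congr rfl fun ψ' _ => ?_
    by_cases hψ : ψ ∈ e
    · by_cases hψ' : ψ' ∈ e
      · rw [if_pos hψ, if_pos hψ', if_pos hψ, if_pos hψ']; ring
      · rw [if_pos hψ, if_neg hψ', if_pos hψ, if_neg hψ', mul_zero]
    · rw [if_neg hψ, if_neg hψ, zero_mul]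
  rw [Finset.sum_congr rfl (fun χ'' _ => h1 χ''), Finset.sum_comm]
  simp only [contrib]
  refine Finset.sum_congr rfl fun ψ _ => ?_
  rw [Finset.sum_comm]
  by_cases hψ : ψ ∈ e
  swap
  · simp only [if_neg hψ, Finset.sum_const_zero]
  simp only [if_pos hψ]
  have h2 : ∀ ψ' : IrrCharacter C, ∑ χ'' : IrrCharacter G,
      (if ψ' ∈ e then dnum p x C χ ψ * (starRingEnd ℂ) (dnum p x C χ' ψ') *
          (dnum p x C χ'' ψ' * (starRingEnd ℂ) (dnum p x C χ'' ψ)) else 0) =
      dnum p x C χ ψ * (starRingEnd ℂ)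
        (if ψ' ∈ e then dnum p x C χ' ψ' * gram p ψ' ψ else 0) := by
    intro ψ'
    by_cases hψ' : ψ' ∈ e
    · simp only [if_pos hψ']
      rw [← Finset.mul_sum, sum_dnum_mul_conj x hx C hcomm hcent ψ' ψ, map_mul, gram_conj]
      ring
    · simp only [if_neg hψ', Finset.sum_const_zero, map_zero, mul_zero]
  rw [Finset.sum_congr rfl (fun ψ' _ => h2 ψ'), ← Finset.mul_sum, ← map_sum,
    sum_dnum_mul_gram hM x C hcomm e he χ' ψ hψ]

/-- The trace of the contribution matrix is `l(e)`. -/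
theorem contrib_trace [Fintype (IrrCharacter G)] {p : ℕ} [hp : Fact p.Prime]
    (hM : IsPModular p M) (x : G) (hx : ∃ k : ℕ, orderOf x = p ^ k)
    (C : Subgroup G) [Fintype C] [Fintype (IrrCharacter C)]
    (hcomm : ∀ c : C, x * (c : G) = (c : G) * x)
    (hcent : Subgroup.centralizer ({x} : Set G) ≤ C)
    (e : Set (IrrCharacter C)) [DecidablePred (· ∈ e)] (he : IsPBlock M e) :
    ∑ χ : IrrCharacter G, contrib p x C e χ χ = (blockRank p e : ℂ) := by
  simp only [contrib]
  rw [Finset.sum_comm, Cfsg.Agent.Helper8.RankTr.blockRank_eq_sum hM he]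
  refine Finset.sum_congr rfl fun ψ _ => ?_
  by_cases hψ : ψ ∈ e
  swap
  · simp only [if_neg hψ, Finset.sum_const_zero]
  simp only [if_pos hψ]
  rw [sum_dnum_mul_conj x hx C hcomm hcent ψ ψ]
  simp only [gram, classInner]
  congr 1
  refine Finset.sum_congr rfl fun c _ => ?_
  rw [Cfsg.Agent.Helper8.RankTr.pRegularPart_fun]
  simp only [rr]
  split_ifs <;> simp

/-- Second main theorem: the decomposition numbers vanish outside `e^G`. -/
theorem dnum_eq_zero [Fintype (IrrCharacter G)] {p : ℕ} [hp : Fact p.Prime]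
    (hM : IsPModular p M) (x : G) (hx : ∃ k : ℕ, orderOf x = p ^ k)
    (C : Subgroup G) [Fintype C] [Fintype (IrrCharacter C)] (hxC : x ∈ C)
    (hcomm : ∀ c : C, x * (c : G) = (c : G) * x)
    (hcent : Subgroup.centralizer ({x} : Set G) ≤ C)
    (B : Set (IrrCharacter G)) (e : Set (IrrCharacter C)) [DecidablePred (· ∈ e)]
    (hind : IsInducedBlock M C e B)
    (χ : IrrCharacter G) (hχ : χ ∉ B) (ψ : IrrCharacter C) (hψ : ψ ∈ e) :
    dnum p x C χ ψ = 0 := by
  have h4 := sum_mul_conj_blockPart hM x C hcomm e hind.1 χ ψ hψ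
  have h0 : ∑ s : C, (if p ∣ orderOf s then (0 : ℂ) else 1) * ((ψ : C → ℂ) s *
      (starRingEnd ℂ) (blockPart e (fun c : C => (χ : G → ℂ) (x * (c : G))) s)) = 0 := by
    apply Finset.sum_eq_zero
    intro s _
    by_cases hs : p ∣ orderOf s
    · rw [if_pos hs, zero_mul]
    · rw [blockPart_eq_zero hM x hx C hxC hcomm hcent B e hind χ hχ s hs]
      simp
  rw [h0] at h4
  have hN0 : (Nat.card C : ℂ) ≠ 0 := by exact_mod_cast (Nat.card_pos (α := C)).ne'
  rcases mul_eq_zero.mp h4.symm with h | h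
  · exact absurd h hN0
  · simpa using h

theorem contrib_eq_zero_left [Fintype (IrrCharacter G)] {p : ℕ} [hp : Fact p.Prime]
    (hM : IsPModular p M) (x : G) (hx : ∃ k : ℕ, orderOf x = p ^ k)
    (C : Subgroup G) [Fintype C] [Fintype (IrrCharacter C)] (hxC : x ∈ C)
    (hcomm : ∀ c : C, x * (c : G) = (c : G) * x)
    (hcent : Subgroup.centralizer ({x} : Set G) ≤ C)
    (B : Set (IrrCharacter G)) (e : Set (IrrCharacter C)) [DecidablePred (· ∈ e)]
    (hind : IsInducedBlock M C e B)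
    (χ χ' : IrrCharacter G) (hχ : χ ∉ B) : contrib p x C e χ χ' = 0 := by
  simp only [contrib]
  apply Finset.sum_eq_zero
  intro ψ _
  by_cases hψ : ψ ∈ e
  · rw [if_pos hψ, dnum_eq_zero hM x hx C hxC hcomm hcent B e hind χ hχ ψ hψ, zero_mul]
  · rw [if_neg hψ]

theorem contrib_eq_zero_right [Fintype (IrrCharacter G)] {p : ℕ} [hp : Fact p.Prime]
    (hM : IsPModular p M) (x : G) (hx : ∃ k : ℕ, orderOf x = p ^ k)
    (C : Subgroup G) [Fintype C] [Fintype (IrrCharacter C)] (hxC : x ∈ C)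
    (hcomm : ∀ c : C, x * (c : G) = (c : G) * x)
    (hcent : Subgroup.centralizer ({x} : Set G) ≤ C)
    (B : Set (IrrCharacter G)) (e : Set (IrrCharacter C)) [DecidablePred (· ∈ e)]
    (hind : IsInducedBlock M C e B)
    (χ χ' : IrrCharacter G) (hχ' : χ' ∉ B) : contrib p x C e χ χ' = 0 := by
  rw [← contrib_conj, contrib_eq_zero_left hM x hx C hxC hcomm hcent B e hind χ' χ hχ', map_zero]

end Block

end Cfsg.Agent.Helper23.CM
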