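import Mathlib
import Cfsg.Prelude.Def_Blocks
import Cfsg.Prelude.Def_BlockRank
import Cfsg.Agent.Helper23.ContribA
import Cfsg.Agent.Helper8.HeightZeroInner
import Cfsg.Agent.Helper8.InducedHeight
import Cfsg.Agent.Helper8.CharComp
import Cfsg.Agent.Helper24.GlaubCyc

/-!
# The contribution matrix of a subsection: integrality

`p^d m_{χχ'}` is an algebraic integer, `d` the defect of `e`.
-/

set_option autoImplicit false
set_option linter.unusedSectionVars false
set_option linter.unusedVariables false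
set_option linter.unusedSimpArgs false
set_option linter.unnecessarySimpa false
set_option linter.style.haveILetI false

namespace Cfsg.Agent.Helper23.CM

open Cfsg Cfsg.Agent.Helper24 Cfsg.Agent.Helper5 Cfsg.Agent.Helper5.CC Cfsg.Agent.Helper5.Loc
open Cfsg.Agent.Helper8.SecCore Cfsg.Agent.Helper23.SubTr Cfsg.Agent.Helper8.HZI
open Cfsg.Agent.Helper8.IndHt

variable {G : Type*} [Group G] [Fintype G] {M : Ideal AlgInt}

/-- The norm sum of the contribution matrix is `l(e)`. -/
theorem sum_norm_sq_contrib [Fintype (IrrCharacter G)] {p : ℕ} [hp : Fact p.Prime]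
    (hM : IsPModular p M) (x : G) (hx : ∃ k : ℕ, orderOf x = p ^ k)
    (C : Subgroup G) [Fintype C] [Fintype (IrrCharacter C)]
    (hcomm : ∀ c : C, x * (c : G) = (c : G) * x)
    (hcent : Subgroup.centralizer ({x} : Set G) ≤ C)
    (e : Set (IrrCharacter C)) [DecidablePred (· ∈ e)] (he : IsPBlock M e) :
    ∑ χ : IrrCharacter G, ∑ χ' : IrrCharacter G, ‖contrib p x C e χ χ'‖ ^ 2 =
      (blockRank p e : ℝ) := by
  have h1 : ∀ χ : IrrCharacter G, ((∑ χ' : IrrCharacter G, ‖contrib p x C e χ χ'‖ ^ 2 : ℝ) : ℂ) =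
      contrib p x C e χ χ := by
    intro χ
    rw [← contrib_idem hM x hx C hcomm hcent e he χ χ]
    push_cast
    refine Finset.sum_congr rfl fun χ' _ => ?_
    rw [Complex.mul_conj, Complex.normSq_eq_norm_sq]
    push_cast
    rfl
  have h2 : ((∑ χ : IrrCharacter G, ∑ χ' : IrrCharacter G, ‖contrib p x C e χ χ'‖ ^ 2 : ℝ) : ℂ) =
      ((blockRank p e : ℝ) : ℂ) := by
    rw [Complex.ofReal_sum, Finset.sum_congr rfl (fun χ _ => h1 χ),
      contrib_trace hM x hx C hcomm hcent e he]
    push_cast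
    rfl
  exact_mod_cast h2

/-- The coefficients `a_{χθ}` are algebraic integers. -/
theorem isIntegral_acoef (x : G) (C : Subgroup G) [Fintype C] (hxC : x ∈ C)
    (hcomm : ∀ c : C, x * (c : G) = (c : G) * x) (χ : IrrCharacter G) (θ : IrrCharacter C) :
    IsIntegral ℤ (acoef x C χ θ) := by
  classical
  haveI : Finite G := Finite.of_fintype G
  haveI : Finite C := Finite.of_fintype C
  haveI : Fintype (IrrCharacter C) := Fintype.ofFinite _
  set z : C := ⟨x, hxC⟩ with hz
  have hzc : ∀ d : C, d * z = z * d := by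
    intro d
    apply Subtype.ext
    simp only [Subgroup.coe_mul, hz]
    exact (hcomm d).symm
  obtain ⟨ω, hω1, hω⟩ := exists_central_scalar θ z hzc
  set n := orderOf z with hn
  have hnpos : 0 < n := orderOf_pos z
  have hxn : x ^ n = 1 := by
    have : z ^ n = 1 := pow_orderOf_eq_one z
    have h2 := congrArg (fun c : C => (c : G)) this
    simpa [hz] using h2
  obtain ⟨m, hm⟩ := IsCharacter.classInner_irr_nat
    (Cfsg.Agent.Helper8.isCharacter_restrict C (IsIrrCharacter.isCharacter χ.2)) θ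
  have key : acoef x C χ θ = (starRingEnd ℂ) (ω ^ (n - 1)) * (m : ℂ) := by
    rw [← hm]
    simp only [acoef, classInner, shift]
    rw [mul_left_comm]
    congr 1
    rw [Finset.mul_sum]
    refine Fintype.sum_equiv (Equiv.mulRight (z ^ (n - 1))).symm _ _ fun c => ?_
    have hc : c = ((Equiv.mulRight (z ^ (n - 1))).symm c) * z ^ (n - 1) := by
      simp [Equiv.mulRight]
    set d := (Equiv.mulRight (z ^ (n - 1))).symm c with hd
    rw [hc, hω d (n - 1), map_mul]
    have hx1 : x * ((d * z ^ (n - 1) : C) : G) = (d : G) := by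
      simp only [Subgroup.coe_mul, SubgroupClass.coe_pow, hz]
      rw [← mul_assoc, hcomm d, mul_assoc, ← pow_succ', Nat.sub_add_cancel hnpos, hxn, mul_one]
    rw [hx1]
    ring
  rw [key]
  refine IsIntegral.mul ?_ (isIntegral_algebraMap (R := ℤ) (A := ℂ) (x := (m : ℤ)) |> fun h => by
    simpa using h)
  have h1 : IsIntegral ℤ (ω ^ (n - 1)) := by
    apply IsIntegral.pow
    exact IsIntegral.of_pow hnpos (by rw [hω1]; exact isIntegral_one)
  exact h1.map (starRingEnd ℂ).toIntAlgHom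

/-- `|H|_p` times the Gram matrix is the integer matrix `N`. -/
theorem pow_mul_gram {H : Type*} [Group H] [Fintype H] (p : ℕ) [hp : Fact p.Prime]
    (θ θ' : IrrCharacter H) :
    ((p : ℂ) ^ (Nat.card H).factorization p) * gram p θ θ' = (N p θ θ' : ℂ) := by
  rw [← N_spec]
  simp only [gram, classInner, trunc, rr]
  rw [mul_left_comm]
  congr 1
  rw [Finset.mul_sum]
  refine Finset.sum_congr rfl fun c _ => ?_
  split_ifs
  · simp
  · push_cast; ring

/-- `p^d Γ_{θθ'}` is an integer for `θ' ∈ e`, `d` the defect of `e`. -/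
theorem exists_int_pow_mul_gram {H : Type*} [Group H] [Fintype H] (p : ℕ) [hp : Fact p.Prime]
    (e : Set (IrrCharacter H)) (θ θ' : IrrCharacter H) (hθ' : θ' ∈ e) :
    ∃ n : ℤ, ((p : ℂ) ^ blockDefect p e) * gram p θ θ' = n := by
  haveI : Finite H := Finite.of_fintype H
  set a := (Nat.card H).factorization p with ha
  set mv := minVal p e with hmv
  have h1 : mv ≤ (irrDeg θ').factorization p := minVal_le p hθ'
  have h2 : mv ≤ a := h1.trans (factorization_irrDeg_le_card p θ')
  have hd : blockDefect p e = a - mv := blockDefect_eq p e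
  obtain ⟨q, hq⟩ : (p : ℤ) ^ mv ∣ N p θ θ' :=
    dvd_trans (pow_dvd_pow _ h1) (pow_dvd_N_right p θ θ')
  refine ⟨q, ?_⟩
  have hp0 : (p : ℂ) ≠ 0 := by exact_mod_cast hp.out.pos.ne'
  have h3 := pow_mul_gram p θ θ'
  rw [hq, ← ha, show a = (a - mv) + mv by omega, pow_add] at h3
  push_cast at h3
  rw [hd]
  have h4 : (p : ℂ) ^ mv ≠ 0 := pow_ne_zero _ hp0
  apply mul_left_cancel₀ h4
  rw [← h3]
  ring

/-- `m_{χχ'} = ∑_{θ ∈ e} a_{χθ} conj D_{χ'θ}`. -/
theorem contrib_eq_sum_acoef [Fintype (IrrCharacter G)] {p : ℕ} [hp : Fact p.Prime]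
    (hM : IsPModular p M) (x : G) (C : Subgroup G) [Fintype C] [Fintype (IrrCharacter C)]
    (hcomm : ∀ c : C, x * (c : G) = (c : G) * x)
    (e : Set (IrrCharacter C)) [DecidablePred (· ∈ e)] (he : IsPBlock M e)
    (χ χ' : IrrCharacter G) :
    contrib p x C e χ χ' = ∑ θ : IrrCharacter C,
      if θ ∈ e then acoef x C χ θ * (starRingEnd ℂ) (dnum p x C χ' θ) else 0 := by
  simp only [contrib]
  have h1 : ∀ ψ : IrrCharacter C,
      (if ψ ∈ e then dnum p x C χ ψ * (starRingEnd ℂ) (dnum p x C χ' ψ) else 0) =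
      ∑ θ : IrrCharacter C, acoef x C χ θ *
        (if ψ ∈ e then gram p θ ψ * (starRingEnd ℂ) (dnum p x C χ' ψ) else 0) := by
    intro ψ
    by_cases hψ : ψ ∈ e
    · simp only [if_pos hψ]
      rw [dnum_eq_sum_gram p x C hcomm χ ψ, Finset.sum_mul]
      refine Finset.sum_congr rfl fun θ _ => ?_
      ring
    · simp only [if_neg hψ, mul_zero, Finset.sum_const_zero]
  rw [Finset.sum_congr rfl (fun ψ _ => h1 ψ), Finset.sum_comm]
  refine Finset.sum_congr rfl fun θ _ => ?_
  rw [← Finset.mul_sum]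
  by_cases hθ : θ ∈ e
  · rw [if_pos hθ]
    congr 1
    rw [← sum_dnum_mul_gram hM x C hcomm e he χ' θ hθ, map_sum]
    refine Finset.sum_congr rfl fun ψ _ => ?_
    by_cases hψ : ψ ∈ e
    · rw [if_pos hψ, if_pos hψ, map_mul, gram_conj]; ring
    · rw [if_neg hψ, if_neg hψ, map_zero]
  · rw [if_neg hθ]
    have : ∑ ψ : IrrCharacter C,
        (if ψ ∈ e then gram p θ ψ * (starRingEnd ℂ) (dnum p x C χ' ψ) else 0) = 0 := by
      apply Finset.sum_eq_zero
      intro ψ _
      by_cases hψ : ψ ∈ e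
      · rw [if_pos hψ, gram_eq_zero' hM he hθ hψ, zero_mul]
      · rw [if_neg hψ]
    rw [this, mul_zero]

/-- `p^d m_{χχ'}` is an algebraic integer. -/
theorem isIntegral_pow_mul_contrib [Fintype (IrrCharacter G)] {p : ℕ} [hp : Fact p.Prime]
    (hM : IsPModular p M) (x : G) (C : Subgroup G) [Fintype C] [Fintype (IrrCharacter C)]
    (hxC : x ∈ C) (hcomm : ∀ c : C, x * (c : G) = (c : G) * x)
    (e : Set (IrrCharacter C)) [DecidablePred (· ∈ e)] (he : IsPBlock M e)
    (χ χ' : IrrCharacter G) :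
    IsIntegral ℤ (((p : ℂ) ^ blockDefect p e) * contrib p x C e χ χ') := by
  rw [contrib_eq_sum_acoef hM x C hcomm e he χ χ', Finset.mul_sum]
  refine IsIntegral.sum _ fun θ _ => ?_
  by_cases hθ : θ ∈ e
  swap
  · rw [if_neg hθ, mul_zero]; exact isIntegral_zero
  rw [if_pos hθ]
  have h1 : (p : ℂ) ^ blockDefect p e * (acoef x C χ θ * (starRingEnd ℂ) (dnum p x C χ' θ)) =
      acoef x C χ θ * (starRingEnd ℂ) ((p : ℂ) ^ blockDefect p e * dnum p x C χ' θ) := by
    rw [map_mul, map_pow, Complex.conj_natCast]; ring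
  rw [h1]
  refine IsIntegral.mul (isIntegral_acoef x C hxC hcomm χ θ) ?_
  have h2 : IsIntegral ℤ ((p : ℂ) ^ blockDefect p e * dnum p x C χ' θ) := by
    rw [dnum_eq_sum_gram p x C hcomm χ' θ, Finset.mul_sum]
    refine IsIntegral.sum _ fun θ' _ => ?_
    obtain ⟨n, hn⟩ := exists_int_pow_mul_gram p e θ' θ hθ
    rw [mul_left_comm, hn]
    exact IsIntegral.mul (isIntegral_acoef x C hxC hcomm χ' θ')
      (by simpa using isIntegral_algebraMap (R := ℤ) (A := ℂ) (x := n))
  exact h2.map (starRingEnd ℂ).toIntAlgHom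

end Cfsg.Agent.Helper23.CM
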