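import Mathlib
import Cfsg.Prelude.Def_Blocks
import Cfsg.Prelude.Def_BlockRank
import Cfsg.Agent.Helper23.ContribB
import Cfsg.Agent.Helper8.InducedRestrict
import Cfsg.Agent.Helper5.PElementCongr

/-!
# The contribution matrix of a subsection: non-vanishing on height zero characters
-/

set_option autoImplicit false
set_option linter.unusedSectionVars false
set_option linter.unusedVariables false
set_option linter.unusedSimpArgs false
set_option linter.unnecessarySimpa false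
set_option linter.style.haveILetI false

namespace Cfsg.Agent.Helper23.CM

open Cfsg Cfsg.Agent.Helper24 Cfsg.Agent.Helper5.CC Cfsg.Agent.Helper5.Loc
open Cfsg.Agent.Helper8.SecCore Cfsg.Agent.Helper23.SubTr Cfsg.Agent.Helper8.HZI
open Cfsg.Agent.Helper8.IndHt

variable {G : Type*} [Group G] [Fintype G] {M : Ideal AlgInt}

/-- The class function `t ↦ 1_{p-reg}(t) χ(x t⁻¹)` on `C`. -/
noncomputable def vfun (p : ℕ) (x : G) (C : Subgroup G) (χ : IrrCharacter G) : C → ℂ :=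
  fun t => regInd p t * (χ : G → ℂ) (x * ((t⁻¹ : C) : G))

theorem isClassFunction_vfun (p : ℕ) (x : G) (C : Subgroup G)
    (hcomm : ∀ c : C, x * (c : G) = (c : G) * x) (χ : IrrCharacter G) :
    IsClassFunction C (vfun p x C χ) := by
  haveI : Finite G := Finite.of_fintype G
  intro g h
  simp only [vfun]
  rw [isClassFunction_regInd p g h]
  congr 1
  have e1 : (h * g * h⁻¹)⁻¹ = h * g⁻¹ * h⁻¹ := by group
  rw [e1]
  exact isClassFunction_shift x C hcomm χ g⁻¹ h

theorem lr_vfun (hMp : M.IsPrime) (p : ℕ) (x : G) (C : Subgroup G) (χ : IrrCharacter G) (t : C) :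
    MemLocalRing M (vfun p x C χ t) := by
  haveI : Finite G := Finite.of_fintype G
  exact lr_mul hMp (lr_regInd hMp p t) (memLocalRing_of_isIntegral hMp (irr_isIntegral χ _))

theorem regInd_eq_rr {H : Type*} [Group H] [Fintype H] (p : ℕ) (t : H) : regInd p t = rr p t := by
  by_cases h : p ∣ orderOf t
  · rw [regInd_of_dvd h, rr_of_dvd h]
  · rw [regInd_of_not_dvd h, rr_of_not_dvd h]

/-- `D_{χθ} = θ(1)/|C| · V(x, χ, θ)`. -/
theorem dnum_eq_act (p : ℕ) (x : G) (C : Subgroup G) [Fintype C] (χ : IrrCharacter G)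
    (θ : IrrCharacter C) :
    dnum p x C χ θ = (Nat.card C : ℂ)⁻¹ * ((θ : C → ℂ) 1 * act (vfun p x C χ) θ) := by
  haveI : Finite C := Finite.of_fintype C
  have h1 : (θ : C → ℂ) 1 ≠ 0 := irr_one_ne_zero θ
  rw [act, mul_div_cancel₀ _ h1]
  simp only [dnum]
  congr 1
  refine Fintype.sum_equiv (Equiv.inv C) _ _ fun c => ?_
  simp only [Equiv.inv_apply, vfun, inv_inv]
  rw [Cfsg.Agent.Helper5.irr_inv θ c, regInd_eq_rr]
  simp only [rr, orderOf_inv]

/-- `conj D_{χθ} = θ(1)/|C| · V(x⁻¹, χ, θ)`. -/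
theorem conj_dnum_eq_act (p : ℕ) (x : G) (C : Subgroup G) [Fintype C]
    (hcomm : ∀ c : C, x * (c : G) = (c : G) * x) (χ : IrrCharacter G)
    (θ : IrrCharacter C) :
    (starRingEnd ℂ) (dnum p x C χ θ) =
      (Nat.card C : ℂ)⁻¹ * ((θ : C → ℂ) 1 * act (vfun p x⁻¹ C χ) θ) := by
  haveI : Finite G := Finite.of_fintype G
  haveI : Finite C := Finite.of_fintype C
  have h1 : (θ : C → ℂ) 1 ≠ 0 := irr_one_ne_zero θ
  rw [act, mul_div_cancel₀ _ h1]
  simp only [dnum, map_mul, map_sum, map_inv₀, Complex.conj_natCast, Complex.conj_conj]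
  congr 1
  refine Finset.sum_congr rfl fun c _ => ?_
  simp only [vfun]
  rw [regInd_eq_rr, ← Cfsg.Agent.Helper5.irr_inv χ]
  have e : (x * (c : G))⁻¹ = x⁻¹ * ((c⁻¹ : C) : G) := by
    rw [hcomm c, mul_inv_rev, Subgroup.coe_inv]
  rw [e]
  simp only [rr]
  split_ifs <;> simp

/-- Helper8's unit criterion: `V(x, χ, θ)` is a local unit for `χ` of height zero in `e^G`. -/
theorem act_vfun_not_li [Fintype (IrrCharacter G)] {p : ℕ} [hp : Fact p.Prime]
    (hM : IsPModular p M) (x : G) (k : ℕ) (hxk : x ^ (p ^ k) = 1)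
    (C : Subgroup G) [Fintype C] [Fintype (IrrCharacter C)]
    (hcomm : ∀ c : C, x * (c : G) = (c : G) * x)
    {e : Set (IrrCharacter C)} {B : Set (IrrCharacter G)} (hind : IsInducedBlock M C e B)
    (χ : IrrCharacter G) (hχ : χ ∈ B)
    (hmin : ∀ ξ ∈ B, (irrDeg χ).factorization p ≤ (irrDeg ξ).factorization p)
    (θ : IrrCharacter C) (hθ : θ ∈ e) :
    ¬ MemLocalIdeal M (act (vfun p x C χ) θ) := by
  classical
  haveI : Finite G := Finite.of_fintype G
  have hMp := isPrime_of_isPModular hM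
  set c₂ : C → ℂ := fun t => cfun p χ (t : G) with hc₂
  have hreg : ∀ t : C, regInd p (t : G) = regInd p t := by
    intro t
    by_cases hd : p ∣ orderOf t
    · have hd' : p ∣ orderOf (t : G) := by rwa [Subgroup.orderOf_coe]
      rw [regInd_of_dvd hd, regInd_of_dvd hd']
    · have hd' : ¬ p ∣ orderOf (t : G) := by rwa [Subgroup.orderOf_coe]
      rw [regInd_of_not_dvd hd, regInd_of_not_dvd hd']
  have hc₂eq : ∀ t : C, c₂ t = regInd p t * (χ : G → ℂ) ((t⁻¹ : C) : G) := by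
    intro t
    simp only [hc₂, cfun]
    rw [hreg, InvMemClass.coe_inv, Cfsg.Agent.Helper5.irr_inv χ (t : G)]
  have hc₂cf : IsClassFunction C c₂ := by
    intro g h
    simp only [hc₂]
    have e2 : (((h * g * h⁻¹ : C)) : G) = (h : G) * (g : G) * (h : G)⁻¹ := by simp
    rw [e2, isClassFunction_cfun p χ (g : G) (h : G)]
  have hdiffcf : IsClassFunction C (vfun p x C χ - c₂) := by
    intro g h
    simp only [Pi.sub_apply]
    rw [isClassFunction_vfun p x C hcomm χ g h, hc₂cf g h]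
  have hdiff : ∀ t : C, MemLocalIdeal M ((vfun p x C χ - c₂) t) := by
    intro t
    simp only [Pi.sub_apply]
    rw [hc₂eq t]
    simp only [vfun]
    rw [← mul_sub]
    refine li_mul_left hMp (lr_regInd hMp p t) ?_
    exact char_mul_sub_char_memLocalIdeal hM (IsIrrCharacter.isCharacter χ.2) x _
      (hcomm t⁻¹) k hxk
  have h1 : MemLocalIdeal M (act (vfun p x C χ) θ - act c₂ θ) := by
    rw [← act_sub]
    exact act_li hMp hdiffcf hdiff θ
  have hmm0 : (mm C p : ℂ) ≠ 0 := by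
    have : mm C p ≠ 0 := fun h0 => (not_dvd_mm (G := C) p) (h0 ▸ dvd_zero p)
    exact_mod_cast this
  have h2 : ¬ MemLocalIdeal M (act c₂ θ) := by
    intro hli
    apply (Cfsg.Agent.Helper8.IndRes.main hM C hind χ θ hθ).2 hχ hmin
    exact li_mul_left hMp (memLocalRing_inv_natCast hM (not_dvd_mm (G := C) p)) hli
  intro h3
  apply h2
  have := li_sub hMp h3 h1
  rwa [sub_sub_cancel] at this

/-- **Non-vanishing of the contributions between height zero characters.** -/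
theorem contrib_ne_zero [Fintype (IrrCharacter G)] {p : ℕ} [hp : Fact p.Prime]
    (hM : IsPModular p M) (x : G) (k : ℕ) (hxk : x ^ (p ^ k) = 1)
    (C : Subgroup G) [Fintype C] [Fintype (IrrCharacter C)] (hxC : x ∈ C)
    (hcomm : ∀ c : C, x * (c : G) = (c : G) * x)
    {e : Set (IrrCharacter C)} [DecidablePred (· ∈ e)] {B : Set (IrrCharacter G)}
    (hind : IsInducedBlock M C e B)
    (χ χ' : IrrCharacter G) (hχ : χ ∈ B) (hχ' : χ' ∈ B)
    (hmin : ∀ ξ ∈ B, (irrDeg χ).factorization p ≤ (irrDeg ξ).factorization p)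
    (hmin' : ∀ ξ ∈ B, (irrDeg χ').factorization p ≤ (irrDeg ξ).factorization p) :
    contrib p x C e χ χ' ≠ 0 := by
  classical
  haveI : Finite G := Finite.of_fintype G
  haveI : Finite C := Finite.of_fintype C
  have hMp := isPrime_of_isPModular hM
  have he : IsPBlock M e := hind.1
  obtain ⟨θ₀, hθ₀, hθ₀v⟩ := exists_minVal p (IsPBlock.nonempty hMp he)
  set mv := minVal p e with hmv
  set a := (Nat.card C).factorization p with ha
  have hmva : mv ≤ a := by
    rw [← hθ₀v]; exact factorization_irrDeg_le_card p θ₀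
  have hd : blockDefect p e = a - mv := blockDefect_eq p e
  -- the cofactors
  set u : IrrCharacter C → ℕ := fun θ => irrDeg θ / p ^ mv with hu
  have hu_spec : ∀ θ ∈ e, irrDeg θ = p ^ mv * u θ := by
    intro θ hθ
    have h1 : p ^ mv ∣ irrDeg θ :=
      dvd_trans (pow_dvd_pow p (minVal_le p hθ)) (Nat.ordProj_dvd (irrDeg θ) p)
    rw [hu]; exact (Nat.mul_div_cancel' h1).symm
  have hu0 : ¬ p ∣ u θ₀ := by
    rw [hu]; simp only
    rw [← hθ₀v]
    exact Nat.not_dvd_ordCompl hp.out (irrDeg_pos θ₀).ne'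
  have hp0 : (p : ℂ) ≠ 0 := by exact_mod_cast hp.out.pos.ne'
  have hpmv : (p : ℂ) ^ mv ≠ 0 := pow_ne_zero _ hp0
  have hpa : (p : ℂ) ^ a ≠ 0 := pow_ne_zero _ hp0
  have hmm0 : (mm C p : ℂ) ≠ 0 := by
    have : mm C p ≠ 0 := fun h0 => (not_dvd_mm (G := C) p) (h0 ▸ dvd_zero p)
    exact_mod_cast this
  have hNC : (Nat.card C : ℂ) = (p : ℂ) ^ a * (mm C p : ℂ) := by
    have := Nat.ordProj_mul_ordCompl_eq_self (Nat.card C) p
    rw [← ha] at this
    have h2 : (Nat.card C : ℂ) = ((p ^ a * mm C p : ℕ) : ℂ) := by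
      congr 1; exact this.symm
    rw [h2]; push_cast; ring
  have hθ1 : ∀ θ ∈ e, (θ : C → ℂ) 1 = (p : ℂ) ^ mv * (u θ : ℂ) := by
    intro θ hθ
    rw [irrDeg_spec, hu_spec θ hθ]; push_cast; ring
  have hpd : (p : ℂ) ^ a = (p : ℂ) ^ blockDefect p e * (p : ℂ) ^ mv := by
    rw [hd, ← pow_add, Nat.sub_add_cancel hmva]
  -- local integrality of the pieces
  have hlr_ac : ∀ (ξ : IrrCharacter G) (θ : IrrCharacter C), MemLocalRing M (acoef x C ξ θ) :=
    fun ξ θ => memLocalRing_of_isIntegral hMp (isIntegral_acoef x C hxC hcomm ξ θ)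
  have hlr_u : ∀ θ : IrrCharacter C, MemLocalRing M (u θ : ℂ) := fun θ => memLocalRing_natCast hMp _
  -- x⁻¹
  have hcomm' : ∀ c : C, x⁻¹ * (c : G) = (c : G) * x⁻¹ := by
    intro c
    have := hcomm c
    calc x⁻¹ * (c : G) = x⁻¹ * ((c : G) * x) * x⁻¹ := by group
      _ = x⁻¹ * (x * (c : G)) * x⁻¹ := by rw [this]
      _ = (c : G) * x⁻¹ := by group
  have hxk' : x⁻¹ ^ (p ^ k) = 1 := by rw [inv_pow, hxk, inv_one]
  set W : IrrCharacter C → ℂ := fun θ => act (vfun p x⁻¹ C χ') θ with hW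
  set K : IrrCharacter C → ℂ := fun θ => act (cfun p θ₀) θ with hK
  set V₀ : ℂ := act (vfun p x C χ) θ₀ with hV₀
  have hW_lr : ∀ θ, MemLocalRing M (W θ) := fun θ =>
    act_lr hMp (isClassFunction_vfun p x⁻¹ C hcomm' χ') (lr_vfun hMp p x⁻¹ C χ') θ
  have hK_lr : ∀ θ, MemLocalRing M (K θ) := fun θ =>
    act_lr hMp (isClassFunction_cfun p θ₀) (lr_cfun hMp p θ₀) θ
  have hV₀_lr : MemLocalRing M V₀ :=
    act_lr hMp (isClassFunction_vfun p x C hcomm χ) (lr_vfun hMp p x C χ) θ₀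
  have hW_diff : ∀ θ ∈ e, MemLocalIdeal M (W θ - W θ₀) := fun θ hθ =>
    act_sub_act_memLocalIdeal hMp (isClassFunction_vfun p x⁻¹ C hcomm' χ')
      (lr_vfun hMp p x⁻¹ C χ') (sameBlock_of_mem hMp he hθ hθ₀)
  have hK_diff : ∀ θ ∈ e, MemLocalIdeal M (K θ - K θ₀) := fun θ hθ =>
    act_sub_act_memLocalIdeal hMp (isClassFunction_cfun p θ₀)
      (lr_cfun hMp p θ₀) (sameBlock_of_mem hMp he hθ hθ₀)
  have hW₀ : ¬ MemLocalIdeal M (W θ₀) :=
    act_vfun_not_li hM x⁻¹ k hxk' C hcomm' hind χ' hχ' hmin' θ₀ hθ₀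
  have hV₀ : ¬ MemLocalIdeal M V₀ :=
    act_vfun_not_li hM x k hxk C hcomm hind χ hχ hmin θ₀ hθ₀
  set A : ℂ := ∑ θ : IrrCharacter C, if θ ∈ e then acoef x C χ θ * (u θ : ℂ) else 0 with hA
  have hA_lr : MemLocalRing M A := by
    refine lr_sum hMp _ _ fun θ _ => ?_
    split_ifs
    · exact lr_mul hMp (hlr_ac χ θ) (hlr_u θ)
    · exact memLocalRing_zero hMp
  -- key1
  have key1 : (mm C p : ℂ) * ((p : ℂ) ^ blockDefect p e * contrib p x C e χ χ') =
      ∑ θ : IrrCharacter C, if θ ∈ e then acoef x C χ θ * (u θ : ℂ) * W θ else 0 := by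
    rw [contrib_eq_sum_acoef hM x C hcomm e he χ χ', Finset.mul_sum, Finset.mul_sum]
    refine Finset.sum_congr rfl fun θ _ => ?_
    by_cases hθ : θ ∈ e
    swap
    · rw [if_neg hθ, if_neg hθ, mul_zero, mul_zero]
    rw [if_pos hθ, if_pos hθ, conj_dnum_eq_act p x C hcomm χ' θ, hθ1 θ hθ, hNC, hpd]
    simp only [hW]
    have h1 := pow_ne_zero (blockDefect p e) hp0
    field_simp
  -- key3
  have key3 : (u θ₀ : ℂ) * V₀ =
      ∑ θ : IrrCharacter C, if θ ∈ e then acoef x C χ θ * (u θ : ℂ) * K θ else 0 := by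
    have h1 := dnum_eq_act p x C χ θ₀
    rw [dnum_eq_sum_gram p x C hcomm χ θ₀] at h1
    have h2 : ∀ θ : IrrCharacter C, acoef x C χ θ * gram p θ θ₀ =
        (Nat.card C : ℂ)⁻¹ * (if θ ∈ e then acoef x C χ θ * ((θ : C → ℂ) 1 * K θ) else 0) := by
      intro θ
      by_cases hθ : θ ∈ e
      swap
      · rw [if_neg hθ, gram_eq_zero' hM he hθ hθ₀]; ring
      rw [if_pos hθ]
      have h3 := pow_mul_gram p θ θ₀
      rw [N_symm] at h3
      have h4 := N_mul p θ₀ θ
      rw [← h3] at h4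
      rw [← ha] at h4
      simp only [hK]
      rw [← h4, hNC]
      field_simp
    rw [Finset.sum_congr rfl (fun θ _ => h2 θ), ← Finset.mul_sum] at h1
    have hN0 : (Nat.card C : ℂ)⁻¹ ≠ 0 := by
      rw [hNC]; exact inv_ne_zero (mul_ne_zero hpa hmm0)
    have h5 := mul_left_cancel₀ hN0 h1
    rw [hθ1 θ₀ hθ₀] at h5
    apply mul_left_cancel₀ hpmv
    rw [Finset.mul_sum]
    calc (p : ℂ) ^ mv * ((u θ₀ : ℂ) * V₀) = (p : ℂ) ^ mv * (u θ₀ : ℂ) * V₀ := by ring
      _ = _ := h5.symm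
      _ = _ := by
        refine Finset.sum_congr rfl fun θ _ => ?_
        by_cases hθ : θ ∈ e
        · rw [if_pos hθ, if_pos hθ, hθ1 θ hθ]; ring
        · rw [if_neg hθ, if_neg hθ, mul_zero]
  intro h0
  -- A ∈ li
  have hA_li : MemLocalIdeal M A := by
    have h1 : MemLocalIdeal M (A * W θ₀) := by
      have h2 : A * W θ₀ = - ∑ θ : IrrCharacter C,
          (if θ ∈ e then acoef x C χ θ * (u θ : ℂ) * (W θ - W θ₀) else 0) := by
        have h3 : ∑ θ : IrrCharacter C,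
            (if θ ∈ e then acoef x C χ θ * (u θ : ℂ) * (W θ - W θ₀) else 0) =
            (∑ θ : IrrCharacter C, if θ ∈ e then acoef x C χ θ * (u θ : ℂ) * W θ else 0) -
              A * W θ₀ := by
          rw [hA, Finset.sum_mul, ← Finset.sum_sub_distrib]
          refine Finset.sum_congr rfl fun θ _ => ?_
          split_ifs <;> ring
        rw [h3, ← key1, h0]; ring
      rw [h2]
      refine li_neg (li_sum hMp _ _ fun θ _ => ?_)
      by_cases hθ : θ ∈ e
      · rw [if_pos hθ]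
        exact li_mul_left hMp (lr_mul hMp (hlr_ac χ θ) (hlr_u θ)) (hW_diff θ hθ)
      · rw [if_neg hθ]; exact memLocalIdeal_zero hMp
    rcases li_of_mul hMp hA_lr (hW_lr θ₀) h1 with h | h
    · exact h
    · exact absurd h hW₀
  -- contradiction through key3
  have h6 : MemLocalIdeal M ((u θ₀ : ℂ) * V₀) := by
    have h7 : (u θ₀ : ℂ) * V₀ = A * K θ₀ + ∑ θ : IrrCharacter C,
        (if θ ∈ e then acoef x C χ θ * (u θ : ℂ) * (K θ - K θ₀) else 0) := by
      rw [key3, hA, Finset.sum_mul, ← Finset.sum_add_distrib]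
      refine Finset.sum_congr rfl fun θ _ => ?_
      split_ifs <;> ring
    rw [h7]
    refine li_add hMp (li_mul_right hMp hA_li (hK_lr θ₀)) (li_sum hMp _ _ fun θ _ => ?_)
    by_cases hθ : θ ∈ e
    · rw [if_pos hθ]
      exact li_mul_left hMp (lr_mul hMp (hlr_ac χ θ) (hlr_u θ)) (hK_diff θ hθ)
    · rw [if_neg hθ]; exact memLocalIdeal_zero hMp
  rcases li_of_mul hMp (hlr_u θ₀) hV₀_lr h6 with h | h
  · exact hu0 ((memLocalIdeal_natCast_iff hM _).mp h)
  · exact hV₀ h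

end Cfsg.Agent.Helper23.CM
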