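import Mathlib
import Cfsg.Prelude.Def_Blocks
import Cfsg.Prelude.Def_BlockRank
import Cfsg.Agent.Helper23.ContribC
import Cfsg.Agent.Helper23.CharGalois

/-!
# The contribution matrix of a subsection: Galois conjugates

An embedding `σ` of the `|G|`-th cyclotomic field raising roots of unity to the `k`-th power maps
the contributions of `(x, e)` to those of `(x^k, e)`.
-/

set_option autoImplicit false
set_option linter.unusedSectionVars false
set_option linter.unusedVariables false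
set_option linter.unusedSimpArgs false
set_option linter.unnecessarySimpa false
set_option linter.style.haveILetI false

namespace Cfsg.Agent.Helper23.CM

open Cfsg Cfsg.Agent.Helper24 Cfsg.Agent.Helper23 Cfsg.Agent.Helper23.SubTr

section Rel

variable {N : ℕ}

/-- `u` lies in the `N`-th cyclotomic field and `σ u = v`. -/
def Rel (σ : cyclo N →ₐ[ℚ] ℂ) (u v : ℂ) : Prop := ∃ hu : u ∈ cyclo N, σ ⟨u, hu⟩ = v

theorem Rel.add {σ : cyclo N →ₐ[ℚ] ℂ} {u v u' v' : ℂ} (h : Rel σ u v) (h' : Rel σ u' v') :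
    Rel σ (u + u') (v + v') := by
  obtain ⟨hu, rfl⟩ := h
  obtain ⟨hu', rfl⟩ := h'
  refine ⟨add_mem hu hu', ?_⟩
  rw [← map_add]; rfl

theorem Rel.mul {σ : cyclo N →ₐ[ℚ] ℂ} {u v u' v' : ℂ} (h : Rel σ u v) (h' : Rel σ u' v') :
    Rel σ (u * u') (v * v') := by
  obtain ⟨hu, rfl⟩ := h
  obtain ⟨hu', rfl⟩ := h'
  refine ⟨mul_mem hu hu', ?_⟩
  rw [← map_mul]; rfl

theorem Rel.zero (σ : cyclo N →ₐ[ℚ] ℂ) : Rel σ 0 0 :=
  ⟨zero_mem _, by rw [show (⟨0, zero_mem _⟩ : cyclo N) = 0 from rfl, map_zero]⟩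

theorem Rel.one (σ : cyclo N →ₐ[ℚ] ℂ) : Rel σ 1 1 :=
  ⟨one_mem _, by rw [show (⟨1, one_mem _⟩ : cyclo N) = 1 from rfl, map_one]⟩

theorem Rel.ratCast (σ : cyclo N →ₐ[ℚ] ℂ) (q : ℚ) : Rel σ (q : ℂ) (q : ℂ) := by
  have hq : ((q : ℂ)) = algebraMap ℚ ℂ q := by simp
  refine ⟨by rw [hq]; exact (cyclo N).algebraMap_mem q, ?_⟩
  have : (⟨(q : ℂ), by rw [hq]; exact (cyclo N).algebraMap_mem q⟩ : cyclo N) =
      algebraMap ℚ (cyclo N) q := by
    apply Subtype.ext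
    simp
  rw [this, AlgHom.commutes]
  simp

theorem Rel.natCast (σ : cyclo N →ₐ[ℚ] ℂ) (n : ℕ) : Rel σ (n : ℂ) (n : ℂ) := by
  have := Rel.ratCast σ (n : ℚ)
  simpa using this

theorem Rel.inv_natCast (σ : cyclo N →ₐ[ℚ] ℂ) (n : ℕ) : Rel σ ((n : ℂ)⁻¹) ((n : ℂ)⁻¹) := by
  have := Rel.ratCast σ ((n : ℚ)⁻¹)
  simpa using this

theorem Rel.sum {σ : cyclo N →ₐ[ℚ] ℂ} {ι : Type*} (s : Finset ι) (u v : ι → ℂ)
    (h : ∀ i ∈ s, Rel σ (u i) (v i)) : Rel σ (∑ i ∈ s, u i) (∑ i ∈ s, v i) := by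
  classical
  induction s using Finset.induction_on with
  | empty => simpa using Rel.zero σ
  | insert a s ha ih =>
    rw [Finset.sum_insert ha, Finset.sum_insert ha]
    exact Rel.add (h a (Finset.mem_insert_self a s))
      (ih fun i hi => h i (Finset.mem_insert_of_mem hi))

theorem Rel.pow {σ : cyclo N →ₐ[ℚ] ℂ} {u v : ℂ} (h : Rel σ u v) (n : ℕ) :
    Rel σ (u ^ n) (v ^ n) := by
  induction n with
  | zero => simpa using Rel.one σ
  | succ m ih => rw [pow_succ, pow_succ]; exact Rel.mul ih h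

/-- Galois conjugates of character values of a group whose order divides `N`. -/
theorem rel_char {H V : Type*} [Group H] [Finite H] [AddCommGroup V] [Module ℂ V]
    [FiniteDimensional ℂ V] (hN : Nat.card H ∣ N) (σ : cyclo N →ₐ[ℚ] ℂ) (k : ℕ)
    (hk : ∀ (μ : ℂ) (hμ : μ ^ N = 1), σ ⟨μ, mem_cyclo hμ⟩ = μ ^ k)
    (ρ : Representation ℂ H V) (g : H) :
    Rel σ (ρ.character g) (ρ.character (g ^ k)) := by
  rw [char_eq_sum_eigen ρ g, char_pow_eq_sum_eigen ρ g k]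
  refine Rel.sum _ _ _ fun μ hμ => ?_
  refine Rel.mul ?_ (Rel.natCast σ _)
  have h1 : μ ^ N = 1 := by
    obtain ⟨c, hc⟩ := hN
    rw [hc, pow_mul, eigen_pow_card ρ g hμ, one_pow]
  exact ⟨mem_cyclo h1, hk μ h1⟩

theorem rel_irr {H : Type*} [Group H] [Finite H] (hN : Nat.card H ∣ N) (σ : cyclo N →ₐ[ℚ] ℂ)
    (k : ℕ) (hk : ∀ (μ : ℂ) (hμ : μ ^ N = 1), σ ⟨μ, mem_cyclo hμ⟩ = μ ^ k)
    (θ : IrrCharacter H) (g : H) :
    Rel σ ((θ : H → ℂ) g) ((θ : H → ℂ) (g ^ k)) := by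
  obtain ⟨n, ρ, _, h⟩ := θ.2
  rw [← h]
  exact rel_char hN σ k hk ρ g

end Rel

section Dnum

variable {G : Type*} [Group G] [Fintype G]

/-- `σ(D^x_{χψ}) = D^{x^k}_{χψ}`. -/
theorem rel_dnum (p : ℕ) (x : G) (C : Subgroup G) [Fintype C]
    (hcomm : ∀ c : C, x * (c : G) = (c : G) * x)
    (σ : cyclo (Nat.card G) →ₐ[ℚ] ℂ) (k : ℕ) (hkc : k.Coprime (Nat.card G))
    (hk : ∀ (μ : ℂ) (hμ : μ ^ Nat.card G = 1), σ ⟨μ, mem_cyclo hμ⟩ = μ ^ k)
    (χ : IrrCharacter G) (ψ : IrrCharacter C) :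
    Rel σ (dnum p x C χ ψ) (dnum p (x ^ k) C χ ψ) := by
  classical
  haveI : Finite G := Finite.of_fintype G
  haveI : Finite C := Finite.of_fintype C
  have hCG : Nat.card C ∣ Nat.card G := Subgroup.card_subgroup_dvd_card C
  have hkC : (Nat.card C).Coprime k := (Nat.Coprime.coprime_dvd_right hCG hkc).symm
  -- step 1
  have h1 : Rel σ (dnum p x C χ ψ) ((Nat.card C : ℂ)⁻¹ * ∑ c : C,
      (if p ∣ orderOf c then (0 : ℂ) else 1) * (χ : G → ℂ) ((x * (c : G)) ^ k) *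
        (ψ : C → ℂ) (c⁻¹ ^ k)) := by
    simp only [dnum]
    refine Rel.mul (Rel.inv_natCast σ _) (Rel.sum _ _ _ fun c _ => ?_)
    refine Rel.mul (Rel.mul ?_ (rel_irr dvd_rfl σ k hk χ _)) ?_
    · split_ifs
      · exact Rel.zero σ
      · exact Rel.one σ
    · rw [← Cfsg.Agent.Helper5.irr_inv ψ c]
      exact rel_irr hCG σ k hk ψ _
  -- step 2
  have h2 : (Nat.card C : ℂ)⁻¹ * ∑ c : C,
      (if p ∣ orderOf c then (0 : ℂ) else 1) * (χ : G → ℂ) ((x * (c : G)) ^ k) *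
        (ψ : C → ℂ) (c⁻¹ ^ k) = dnum p (x ^ k) C χ ψ := by
    simp only [dnum]
    congr 1
    refine Fintype.sum_equiv (powCoprime hkC) _ _ fun c => ?_
    have e1 : (powCoprime hkC) c = c ^ k := rfl
    rw [e1]
    have e2 : orderOf (c ^ k) = orderOf c := by
      apply Nat.Coprime.orderOf_pow
      exact Nat.Coprime.coprime_dvd_left (orderOf_dvd_natCard c) hkC
    have e3 : (x * (c : G)) ^ k = x ^ k * ((c ^ k : C) : G) := by
      rw [SubgroupClass.coe_pow]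
      exact (show Commute x (c : G) from hcomm c).mul_pow k
    rw [e2, e3, inv_pow, Cfsg.Agent.Helper5.irr_inv ψ (c ^ k)]
  rw [← h2]
  exact h1

theorem conj_dnum (p : ℕ) (x : G) (C : Subgroup G) [Fintype C]
    (hcomm : ∀ c : C, x * (c : G) = (c : G) * x) (χ : IrrCharacter G) (ψ : IrrCharacter C) :
    (starRingEnd ℂ) (dnum p x C χ ψ) = dnum p x⁻¹ C χ ψ := by
  haveI : Finite G := Finite.of_fintype G
  haveI : Finite C := Finite.of_fintype C
  simp only [dnum, map_mul, map_sum, map_inv₀, Complex.conj_natCast, Complex.conj_conj]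
  congr 1
  refine Fintype.sum_equiv (Equiv.inv C) _ _ fun c => ?_
  simp only [Equiv.inv_apply, orderOf_inv]
  rw [Cfsg.Agent.Helper5.irr_inv ψ c, Complex.conj_conj, ← Cfsg.Agent.Helper5.irr_inv χ]
  have e : (x * (c : G))⁻¹ = x⁻¹ * ((c⁻¹ : C) : G) := by
    rw [hcomm c, mul_inv_rev, Subgroup.coe_inv]
  rw [e]
  split_ifs <;> simp

theorem comm_pow {x : G} {C : Subgroup G} (hcomm : ∀ c : C, x * (c : G) = (c : G) * x) (k : ℕ) :
    ∀ c : C, x ^ k * (c : G) = (c : G) * x ^ k := by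
  intro c
  exact ((show Commute x (c : G) from hcomm c).pow_left k).eq

/-- `σ(m^x_{χχ'}) = m^{x^k}_{χχ'}`. -/
theorem rel_contrib (p : ℕ) (x : G) (C : Subgroup G) [Fintype C] [Fintype (IrrCharacter C)]
    (hcomm : ∀ c : C, x * (c : G) = (c : G) * x)
    (e : Set (IrrCharacter C)) [DecidablePred (· ∈ e)]
    (σ : cyclo (Nat.card G) →ₐ[ℚ] ℂ) (k : ℕ) (hkc : k.Coprime (Nat.card G))
    (hk : ∀ (μ : ℂ) (hμ : μ ^ Nat.card G = 1), σ ⟨μ, mem_cyclo hμ⟩ = μ ^ k)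
    (χ χ' : IrrCharacter G) :
    Rel σ (contrib p x C e χ χ') (contrib p (x ^ k) C e χ χ') := by
  have hcomm' : ∀ c : C, x⁻¹ * (c : G) = (c : G) * x⁻¹ := by
    intro c
    have := hcomm c
    calc x⁻¹ * (c : G) = x⁻¹ * ((c : G) * x) * x⁻¹ := by group
      _ = x⁻¹ * (x * (c : G)) * x⁻¹ := by rw [this]
      _ = (c : G) * x⁻¹ := by group
  simp only [contrib]
  refine Rel.sum _ _ _ fun ψ _ => ?_
  by_cases hψ : ψ ∈ e
  swap
  · rw [if_neg hψ, if_neg hψ]; exact Rel.zero σ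
  rw [if_pos hψ, if_pos hψ, conj_dnum p x C hcomm χ' ψ,
    conj_dnum p (x ^ k) C (comm_pow hcomm k) χ' ψ, ← inv_pow]
  exact Rel.mul (rel_dnum p x C hcomm σ k hkc hk χ ψ) (rel_dnum p x⁻¹ C hcomm' σ k hkc hk χ' ψ)

end Dnum

end Cfsg.Agent.Helper23.CM
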