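import Mathlib
import Cfsg.Prelude.Def_Blocks
import Cfsg.Prelude.Def_BlockRank
import Cfsg.Agent.Helper23.ContribD

/-!
# `k₀(B)² ≤ p^{2d(e)} l(e)` for a subsection `(x, e)` of `B`

Here stated for a set `S ⊆ B` of characters of minimal degree valuation (height zero).
-/

set_option autoImplicit false
set_option linter.unusedSectionVars false
set_option linter.unusedVariables false
set_option linter.unusedSimpArgs false
set_option linter.unnecessarySimpa false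
set_option linter.style.haveILetI false

namespace Cfsg.Agent.Helper23.CM

open Cfsg Cfsg.Agent.Helper24 Cfsg.Agent.Helper23 Cfsg.Agent.Helper23.SubTr
open Cfsg.Agent.Helper5.Loc

variable {G : Type*} [Group G] [Fintype G] {M : Ideal AlgInt}

theorem centralizer_pow_le {x : G} {k : ℕ} (hk : k.Coprime (orderOf x)) :
    Subgroup.centralizer ({x ^ k} : Set G) ≤ Subgroup.centralizer ({x} : Set G) := by
  intro g hg
  rw [Subgroup.mem_centralizer_iff] at hg ⊢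
  intro y hy
  rw [Set.mem_singleton_iff] at hy
  rw [hy]
  obtain ⟨m, hm⟩ := exists_pow_eq_self_of_coprime hk
  have h1 : Commute (x ^ k) g := hg (x ^ k) rfl
  have h2 : Commute ((x ^ k) ^ m) g := h1.pow_left m
  rw [hm] at h2
  exact h2.eq

/-- **The height zero bound** `#S² ≤ p^{2 d(e)} l(e)` for a set `S` of height zero characters
of `B = e^G`. -/
theorem card_sq_le [Fintype (IrrCharacter G)] {p : ℕ} [hp : Fact p.Prime]
    (hM : IsPModular p M) (x : G) (hx : ∃ k : ℕ, orderOf x = p ^ k)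
    (C : Subgroup G) [Fintype C] [Fintype (IrrCharacter C)] (hxC : x ∈ C)
    (hcomm : ∀ c : C, x * (c : G) = (c : G) * x)
    (hcent : Subgroup.centralizer ({x} : Set G) ≤ C)
    {e : Set (IrrCharacter C)} [DecidablePred (· ∈ e)] {B : Set (IrrCharacter G)}
    (hind : IsInducedBlock M C e B) (S : Finset (IrrCharacter G)) (hSB : ∀ χ ∈ S, χ ∈ B)
    (hmin : ∀ χ ∈ S, ∀ ξ ∈ B, (irrDeg χ).factorization p ≤ (irrDeg ξ).factorization p) :
    ((S.card : ℝ)) ^ 2 ≤ (p : ℝ) ^ (2 * blockDefect p e) * (blockRank p e : ℝ) := by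
  classical
  haveI : Finite G := Finite.of_fintype G
  have he : IsPBlock M e := hind.1
  set N := Nat.card G with hN
  have hNpos : 0 < N := Nat.card_pos
  haveI hfd : FiniteDimensional ℚ (cyclo N) := finiteDimensional_cyclo N hNpos
  set E := Fintype.card (cyclo N →ₐ[ℚ] ℂ) with hE
  have hEpos : 0 < E := Fintype.card_pos_iff.mpr ⟨(cyclo N).val⟩
  choose kf hkc hkf using exists_pow_of_embedding N hNpos
  obtain ⟨k₀, hk₀⟩ := hx
  have hxk : x ^ (p ^ k₀) = 1 := by rw [← hk₀]; exact pow_orderOf_eq_one x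
  set d := blockDefect p e with hd
  -- the elements
  have hrel : ∀ (σ : cyclo N →ₐ[ℚ] ℂ) (χ χ' : IrrCharacter G),
      Rel σ ((p : ℂ) ^ d * contrib p x C e χ χ') ((p : ℂ) ^ d * contrib p (x ^ kf σ) C e χ χ') :=
    fun σ χ χ' => Rel.mul (Rel.pow (Rel.natCast σ p) d)
      (rel_contrib p x C hcomm e σ (kf σ) (hkc σ) (hkf σ) χ χ')
  have hmem : ∀ χ χ' : IrrCharacter G, (p : ℂ) ^ d * contrib p x C e χ χ' ∈ cyclo N :=
    fun χ χ' => (hrel (cyclo N).val χ χ').1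
  let z : IrrCharacter G → IrrCharacter G → cyclo N := fun χ χ' => ⟨_, hmem χ χ'⟩
  have hσz : ∀ (σ : cyclo N →ₐ[ℚ] ℂ) (χ χ' : IrrCharacter G),
      σ (z χ χ') = (p : ℂ) ^ d * contrib p (x ^ kf σ) C e χ χ' := by
    intro σ χ χ'
    obtain ⟨hu, h⟩ := hrel σ χ χ'
    exact h
  -- per pair lower bound
  have h1 : ∀ χ ∈ S, ∀ χ' ∈ S, (E : ℝ) ≤ ∑ σ : cyclo N →ₐ[ℚ] ℂ, ‖σ (z χ χ')‖ ^ 2 := by
    intro χ hχ χ' hχ'
    apply card_le_sum_norm_sq (cyclo N) (z χ χ')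
    · intro h0
      have h2 : ((z χ χ' : cyclo N) : ℂ) = 0 := by rw [h0]; rfl
      have h3 : (p : ℂ) ^ d * contrib p x C e χ χ' = 0 := h2
      have hp0 : (p : ℂ) ^ d ≠ 0 := pow_ne_zero _ (by exact_mod_cast hp.out.pos.ne')
      rcases mul_eq_zero.mp h3 with h | h
      · exact hp0 h
      · exact contrib_ne_zero hM x k₀ hxk C hxC hcomm hind χ χ' (hSB χ hχ) (hSB χ' hχ')
          (hmin χ hχ) (hmin χ' hχ') h
    · have h2 : IsIntegral ℤ ((algebraMap (cyclo N) ℂ) (z χ χ')) :=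
        isIntegral_pow_mul_contrib hM x C hxC hcomm e he χ χ'
      exact (isIntegral_algebraMap_iff (algebraMap (cyclo N) ℂ).injective).mp h2
  -- per embedding upper bound
  have h2 : ∀ σ : cyclo N →ₐ[ℚ] ℂ, ∑ χ ∈ S, ∑ χ' ∈ S, ‖σ (z χ χ')‖ ^ 2 ≤
      (p : ℝ) ^ (2 * d) * (blockRank p e : ℝ) := by
    intro σ
    have hcop : (kf σ).Coprime (orderOf x) :=
      Nat.Coprime.coprime_dvd_right (orderOf_dvd_natCard x) (hkc σ)
    have hx' : ∃ j : ℕ, orderOf (x ^ kf σ) = p ^ j := ⟨k₀, by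
      rw [Nat.Coprime.orderOf_pow hcop.symm, hk₀]⟩
    have hcent' : Subgroup.centralizer ({x ^ kf σ} : Set G) ≤ C :=
      (centralizer_pow_le hcop).trans hcent
    have h3 := sum_norm_sq_contrib hM (x ^ kf σ) hx' C (comm_pow hcomm (kf σ)) hcent' e he
    rw [← h3, Finset.mul_sum]
    have h4 : ∀ χ χ' : IrrCharacter G, ‖σ (z χ χ')‖ ^ 2 =
        (p : ℝ) ^ (2 * d) * ‖contrib p (x ^ kf σ) C e χ χ'‖ ^ 2 := by
      intro χ χ'
      rw [hσz, norm_mul, mul_pow, norm_pow, Complex.norm_natCast, ← pow_mul, mul_comm d 2]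
    calc ∑ χ ∈ S, ∑ χ' ∈ S, ‖σ (z χ χ')‖ ^ 2
        ≤ ∑ χ ∈ S, ∑ χ' : IrrCharacter G, ‖σ (z χ χ')‖ ^ 2 :=
          Finset.sum_le_sum fun χ _ =>
            Finset.sum_le_sum_of_subset_of_nonneg (Finset.subset_univ S)
              (fun χ' _ _ => by positivity)
      _ ≤ ∑ χ : IrrCharacter G, ∑ χ' : IrrCharacter G, ‖σ (z χ χ')‖ ^ 2 :=
          Finset.sum_le_sum_of_subset_of_nonneg (Finset.subset_univ S)
              (fun χ _ _ => Finset.sum_nonneg fun χ' _ => by positivity)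
      _ = _ := by
          refine Finset.sum_congr rfl fun χ _ => ?_
          rw [Finset.mul_sum]
          exact Finset.sum_congr rfl fun χ' _ => h4 χ χ'
  -- combine
  have h5 : (S.card : ℝ) ^ 2 * E ≤ E * ((p : ℝ) ^ (2 * d) * (blockRank p e : ℝ)) := by
    calc (S.card : ℝ) ^ 2 * E = ∑ χ ∈ S, ∑ χ' ∈ S, (E : ℝ) := by
          simp only [Finset.sum_const, nsmul_eq_mul]; ring
      _ ≤ ∑ χ ∈ S, ∑ χ' ∈ S, ∑ σ : cyclo N →ₐ[ℚ] ℂ, ‖σ (z χ χ')‖ ^ 2 :=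
          Finset.sum_le_sum fun χ hχ => Finset.sum_le_sum fun χ' hχ' => h1 χ hχ χ' hχ'
      _ = ∑ σ : cyclo N →ₐ[ℚ] ℂ, ∑ χ ∈ S, ∑ χ' ∈ S, ‖σ (z χ χ')‖ ^ 2 := by
          have h6 : ∀ χ ∈ S, ∑ χ' ∈ S, ∑ σ : cyclo N →ₐ[ℚ] ℂ, ‖σ (z χ χ')‖ ^ 2 =
              ∑ σ : cyclo N →ₐ[ℚ] ℂ, ∑ χ' ∈ S, ‖σ (z χ χ')‖ ^ 2 := fun χ _ => Finset.sum_comm
          rw [Finset.sum_congr rfl h6, Finset.sum_comm]
      _ ≤ ∑ σ : cyclo N →ₐ[ℚ] ℂ, (p : ℝ) ^ (2 * d) * (blockRank p e : ℝ) :=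
          Finset.sum_le_sum fun σ _ => h2 σ
      _ = E * ((p : ℝ) ^ (2 * d) * (blockRank p e : ℝ)) := by
          simp only [Finset.sum_const, Finset.card_univ, nsmul_eq_mul, ← hE]
  have hEr : (0 : ℝ) < E := by exact_mod_cast hEpos
  rw [mul_comm] at h5
  exact le_of_mul_le_mul_left h5 hEr

end Cfsg.Agent.Helper23.CM
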