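import Mathlib
import Cfsg.Prelude.Def_Blocks
import Cfsg.Prelude.Def_BlockRank
import Cfsg.Agent.Helper23.ContribE

/-!
# The contribution matrix: explicit form through central characters, and traces of
roots of unity of `2`-power order
-/

set_option autoImplicit false
set_option linter.unusedSectionVars false
set_option linter.unusedVariables false
set_option linter.unusedSimpArgs false
set_option linter.unnecessarySimpa false
set_option linter.style.haveILetI false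

namespace Cfsg.Agent.Helper23.CM

open Cfsg Cfsg.Agent.Helper24 Cfsg.Agent.Helper23 Cfsg.Agent.Helper23.SubTr
open Cfsg.Agent.Helper5.Loc Cfsg.Agent.Helper5.CC Cfsg.Agent.Helper8.HZI Cfsg.Agent.Helper8.IndHt

variable {G : Type*} [Group G] [Fintype G] {M : Ideal AlgInt}

/-- The multiplicity of `θ` in the restriction of `χ` to `C`. -/
noncomputable def rmult (C : Subgroup G) [Fintype C] (χ : IrrCharacter G) (θ : IrrCharacter C) : ℂ :=
  classInner (fun c : C => (χ : G → ℂ) c) (θ : C → ℂ)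

theorem rmult_nat (C : Subgroup G) [Fintype C] (χ : IrrCharacter G) (θ : IrrCharacter C) :
    ∃ n : ℕ, rmult C χ θ = n := by
  haveI : Finite G := Finite.of_fintype G
  haveI : Finite C := Finite.of_fintype C
  haveI : Fintype (IrrCharacter C) := Fintype.ofFinite _
  exact IsCharacter.classInner_irr_nat
    (Cfsg.Agent.Helper8.isCharacter_restrict C (IsIrrCharacter.isCharacter χ.2)) θ

/-- The coefficients `a_{χθ}` for the powers of `x`: `a^{x^k}_{χθ} = λ_θ^k ⟨χ_C, θ⟩` with a root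
of unity `λ_θ`. -/
theorem exists_acoef_pow (x : G) (C : Subgroup G) [Fintype C] (hxC : x ∈ C)
    (hcomm : ∀ c : C, x * (c : G) = (c : G) * x) (θ : IrrCharacter C) :
    ∃ lam : ℂ, lam ^ orderOf x = 1 ∧ lam * (starRingEnd ℂ) lam = 1 ∧
      ∀ (χ : IrrCharacter G) (k : ℕ), acoef (x ^ k) C χ θ = lam ^ k * rmult C χ θ := by
  classical
  haveI : Finite G := Finite.of_fintype G
  haveI : Finite C := Finite.of_fintype C
  haveI : Fintype (IrrCharacter C) := Fintype.ofFinite _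
  set z : C := ⟨x, hxC⟩ with hz
  have hzc : ∀ d : C, d * z = z * d := by
    intro d
    apply Subtype.ext
    simp only [Subgroup.coe_mul, hz]
    exact (hcomm d).symm
  obtain ⟨ω, hω1, hω⟩ := exists_central_scalar θ z hzc
  set n := orderOf z with hn
  have hnx : orderOf x = n := by
    rw [hn, hz]; exact (Subgroup.orderOf_mk x hxC).symm
  have hnpos : 0 < n := orderOf_pos z
  have hxn : x ^ n = 1 := by rw [← hnx]; exact pow_orderOf_eq_one x
  have hωnorm : ω * (starRingEnd ℂ) ω = 1 := by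
    rw [Complex.mul_conj, Complex.normSq_eq_norm_sq]
    have h1 : ‖ω‖ = 1 := by
      apply Complex.norm_eq_one_of_pow_eq_one hω1 hnpos.ne'
    rw [h1]; simp
  refine ⟨(starRingEnd ℂ) (ω ^ (n - 1)), ?_, ?_, ?_⟩
  · rw [hnx, ← map_pow, ← pow_mul, mul_comm, pow_mul, hω1, one_pow, map_one]
  · rw [Complex.conj_conj, mul_comm, map_pow, ← mul_pow, hωnorm, one_pow]
  · intro χ k
    simp only [acoef, rmult, classInner, shift]
    rw [mul_left_comm]
    congr 1
    rw [Finset.mul_sum]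
    refine Fintype.sum_equiv (Equiv.mulRight (z ^ ((n - 1) * k))).symm _ _ fun c => ?_
    have hc : c = ((Equiv.mulRight (z ^ ((n - 1) * k))).symm c) * z ^ ((n - 1) * k) := by
      simp [Equiv.mulRight]
    set d := (Equiv.mulRight (z ^ ((n - 1) * k))).symm c with hd
    rw [hc, hω d ((n - 1) * k), map_mul]
    have hx1 : x ^ k * ((d * z ^ ((n - 1) * k) : C) : G) = (d : G) := by
      simp only [Subgroup.coe_mul, SubgroupClass.coe_pow, hz]
      rw [← mul_assoc, (comm_pow hcomm k d), mul_assoc, ← pow_add]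
      have : k + (n - 1) * k = n * k := by
        have : n = (n - 1) + 1 := (Nat.sub_add_cancel hnpos).symm
        conv_rhs => rw [this]
        ring
      rw [this, pow_mul, hxn, one_pow, mul_one]
    rw [hx1, ← map_pow, ← pow_mul]
    ring

/-- `m_{χχ'} = ∑_{θ,θ' ∈ e} a_{χθ} conj(a_{χ'θ'}) Γ_{θθ'}`. -/
theorem contrib_eq_sum_gram [Fintype (IrrCharacter G)] {p : ℕ} [hp : Fact p.Prime]
    (hM : IsPModular p M) (x : G) (C : Subgroup G) [Fintype C] [Fintype (IrrCharacter C)]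
    (hcomm : ∀ c : C, x * (c : G) = (c : G) * x)
    (e : Set (IrrCharacter C)) [DecidablePred (· ∈ e)] (he : IsPBlock M e)
    (χ χ' : IrrCharacter G) :
    contrib p x C e χ χ' = ∑ θ : IrrCharacter C, ∑ θ' : IrrCharacter C,
      if θ ∈ e ∧ θ' ∈ e then
        acoef x C χ θ * (starRingEnd ℂ) (acoef x C χ' θ') * gram p θ θ' else 0 := by
  rw [contrib_eq_sum_acoef hM x C hcomm e he χ χ']
  refine Finset.sum_congr rfl fun θ _ => ?_
  by_cases hθ : θ ∈ e
  swap
  · rw [if_neg hθ]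
    symm
    apply Finset.sum_eq_zero
    intro θ' _
    rw [if_neg (fun h => hθ h.1)]
  rw [if_pos hθ, dnum_eq_sum_gram p x C hcomm χ' θ, map_sum, Finset.mul_sum]
  refine Finset.sum_congr rfl fun θ' _ => ?_
  by_cases hθ' : θ' ∈ e
  · rw [if_pos ⟨hθ, hθ'⟩, map_mul, gram_conj]; ring
  · rw [if_neg (fun h => hθ' h.2), gram_eq_zero' hM he hθ' hθ, mul_zero, map_zero, mul_zero]

/-- The `p'`-cofactor `θ(1) / p^{a - d}` of a degree in a block of defect `d`. -/
noncomputable def cofac (p : ℕ) {H : Type*} [Group H] [Finite H] (e : Set (IrrCharacter H))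
    (θ : IrrCharacter H) : ℕ :=
  irrDeg θ / p ^ minVal p e

theorem cofac_spec (p : ℕ) {H : Type*} [Group H] [Finite H] {e : Set (IrrCharacter H)}
    {θ : IrrCharacter H} (hθ : θ ∈ e) : irrDeg θ = p ^ minVal p e * cofac p e θ := by
  have h1 : p ^ minVal p e ∣ irrDeg θ :=
    dvd_trans (pow_dvd_pow p (minVal_le p hθ)) (Nat.ordProj_dvd (irrDeg θ) p)
  rw [cofac]; exact (Nat.mul_div_cancel' h1).symm

/-- `∑_{θ ∈ e} a_{χθ} u_θ` is a local unit for `χ` of height zero in `e^G`. -/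
theorem sum_acoef_cofac_not_li [Fintype (IrrCharacter G)] {p : ℕ} [hp : Fact p.Prime]
    (hM : IsPModular p M) (x : G) (k : ℕ) (hxk : x ^ (p ^ k) = 1)
    (C : Subgroup G) [Fintype C] [Fintype (IrrCharacter C)] (hxC : x ∈ C)
    (hcomm : ∀ c : C, x * (c : G) = (c : G) * x)
    {e : Set (IrrCharacter C)} [DecidablePred (· ∈ e)] {B : Set (IrrCharacter G)}
    (hind : IsInducedBlock M C e B)
    (χ : IrrCharacter G) (hχ : χ ∈ B)
    (hmin : ∀ ξ ∈ B, (irrDeg χ).factorization p ≤ (irrDeg ξ).factorization p) :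
    ¬ MemLocalIdeal M (∑ θ : IrrCharacter C,
      if θ ∈ e then acoef x C χ θ * (cofac p e θ : ℂ) else 0) := by
  classical
  haveI : Finite G := Finite.of_fintype G
  haveI : Finite C := Finite.of_fintype C
  have hMp := isPrime_of_isPModular hM
  have he : IsPBlock M e := hind.1
  obtain ⟨θ₀, hθ₀, hθ₀v⟩ := exists_minVal p (IsPBlock.nonempty hMp he)
  set mv := minVal p e with hmv
  set a := (Nat.card C).factorization p with ha
  set u : IrrCharacter C → ℕ := fun θ => cofac p e θ with hu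
  have hu_spec : ∀ θ ∈ e, irrDeg θ = p ^ mv * u θ := fun θ hθ => cofac_spec p hθ
  have hu0 : ¬ p ∣ u θ₀ := by
    rw [hu]; simp only [cofac]
    rw [← hmv, ← hθ₀v]
    exact Nat.not_dvd_ordCompl hp.out (irrDeg_pos θ₀).ne'
  have hp0 : (p : ℂ) ≠ 0 := by exact_mod_cast hp.out.pos.ne'
  have hpmv : (p : ℂ) ^ mv ≠ 0 := pow_ne_zero _ hp0
  have hpa : (p : ℂ) ^ a ≠ 0 := pow_ne_zero _ hp0
  have hmm0 : (mm C p : ℂ) ≠ 0 := by
    have : mm C p ≠ 0 := fun h0 => (not_dvd_mm (G := C) p) (h0 ▸ dvd_zero p)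
    exact_mod_cast this
  have hNC : (Nat.card C : ℂ) = (p : ℂ) ^ a * (mm C p : ℂ) := by
    have := Nat.ordProj_mul_ordCompl_eq_self (Nat.card C) p
    rw [← ha] at this
    have h2 : (Nat.card C : ℂ) = ((p ^ a * mm C p : ℕ) : ℂ) := by
      congr 1; exact this.symm
    rw [h2]; push_cast; ring
  have hθ1 : ∀ θ ∈ e, (θ : C → ℂ) 1 = (p : ℂ) ^ mv * (u θ : ℂ) := by
    intro θ hθ
    rw [irrDeg_spec, hu_spec θ hθ]; push_cast; ring
  have hlr_ac : ∀ (θ : IrrCharacter C), MemLocalRing M (acoef x C χ θ) :=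
    fun θ => memLocalRing_of_isIntegral hMp (isIntegral_acoef x C hxC hcomm χ θ)
  have hlr_u : ∀ θ : IrrCharacter C, MemLocalRing M (u θ : ℂ) := fun θ => memLocalRing_natCast hMp _
  set K : IrrCharacter C → ℂ := fun θ => act (cfun p θ₀) θ with hK
  set V₀ : ℂ := act (vfun p x C χ) θ₀ with hV₀
  have hK_lr : ∀ θ, MemLocalRing M (K θ) := fun θ =>
    act_lr hMp (isClassFunction_cfun p θ₀) (lr_cfun hMp p θ₀) θ
  have hV₀_lr : MemLocalRing M V₀ :=
    act_lr hMp (isClassFunction_vfun p x C hcomm χ) (lr_vfun hMp p x C χ) θ₀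
  have hK_diff : ∀ θ ∈ e, MemLocalIdeal M (K θ - K θ₀) := fun θ hθ =>
    act_sub_act_memLocalIdeal hMp (isClassFunction_cfun p θ₀)
      (lr_cfun hMp p θ₀) (sameBlock_of_mem hMp he hθ hθ₀)
  have hV₀ : ¬ MemLocalIdeal M V₀ :=
    act_vfun_not_li hM x k hxk C hcomm hind χ hχ hmin θ₀ hθ₀
  set A : ℂ := ∑ θ : IrrCharacter C, if θ ∈ e then acoef x C χ θ * (u θ : ℂ) else 0 with hA
  have key3 : (u θ₀ : ℂ) * V₀ =
      ∑ θ : IrrCharacter C, if θ ∈ e then acoef x C χ θ * (u θ : ℂ) * K θ else 0 := by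
    have h1 := dnum_eq_act p x C χ θ₀
    rw [dnum_eq_sum_gram p x C hcomm χ θ₀] at h1
    have h2 : ∀ θ : IrrCharacter C, acoef x C χ θ * gram p θ θ₀ =
        (Nat.card C : ℂ)⁻¹ * (if θ ∈ e then acoef x C χ θ * ((θ : C → ℂ) 1 * K θ) else 0) := by
      intro θ
      by_cases hθ : θ ∈ e
      swap
      · rw [if_neg hθ, gram_eq_zero' hM he hθ hθ₀]; ring
      rw [if_pos hθ]
      have h3 := pow_mul_gram p θ θ₀
      rw [N_symm] at h3
      have h4 := N_mul p θ₀ θ
      rw [← h3] at h4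
      rw [← ha] at h4
      simp only [hK]
      rw [← h4, hNC]
      field_simp
    rw [Finset.sum_congr rfl (fun θ _ => h2 θ), ← Finset.mul_sum] at h1
    have hN0 : (Nat.card C : ℂ)⁻¹ ≠ 0 := by
      rw [hNC]; exact inv_ne_zero (mul_ne_zero hpa hmm0)
    have h5 := mul_left_cancel₀ hN0 h1
    rw [hθ1 θ₀ hθ₀] at h5
    apply mul_left_cancel₀ hpmv
    rw [Finset.mul_sum]
    calc (p : ℂ) ^ mv * ((u θ₀ : ℂ) * V₀) = (p : ℂ) ^ mv * (u θ₀ : ℂ) * V₀ := by ring
      _ = _ := h5.symm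
      _ = _ := by
        refine Finset.sum_congr rfl fun θ _ => ?_
        by_cases hθ : θ ∈ e
        · rw [if_pos hθ, if_pos hθ, hθ1 θ hθ]; ring
        · rw [if_neg hθ, if_neg hθ, mul_zero]
  intro hA_li
  have h6 : MemLocalIdeal M ((u θ₀ : ℂ) * V₀) := by
    have h7 : (u θ₀ : ℂ) * V₀ = A * K θ₀ + ∑ θ : IrrCharacter C,
        (if θ ∈ e then acoef x C χ θ * (u θ : ℂ) * (K θ - K θ₀) else 0) := by
      rw [key3, hA, Finset.sum_mul, ← Finset.sum_add_distrib]
      refine Finset.sum_congr rfl fun θ _ => ?_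
      split_ifs <;> ring
    rw [h7]
    refine li_add hMp (li_mul_right hMp hA_li (hK_lr θ₀)) (li_sum hMp _ _ fun θ _ => ?_)
    by_cases hθ : θ ∈ e
    · rw [if_pos hθ]
      exact li_mul_left hMp (lr_mul hMp (hlr_ac θ) (hlr_u θ)) (hK_diff θ hθ)
    · rw [if_neg hθ]; exact memLocalIdeal_zero hMp
  rcases li_of_mul hMp (hlr_u θ₀) hV₀_lr h6 with h | h
  · exact hu0 ((memLocalIdeal_natCast_iff hM _).mp h)
  · exact hV₀ h

/-- `p ∤ ∑_{θ ∈ e} ⟨χ_C, θ⟩ u_θ` for `χ` of height zero in `e^G`. -/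
theorem not_dvd_sum_rmult_cofac [Fintype (IrrCharacter G)] {p : ℕ} [hp : Fact p.Prime]
    (hM : IsPModular p M) (x : G) (k : ℕ) (hxk : x ^ (p ^ k) = 1)
    (C : Subgroup G) [Fintype C] [Fintype (IrrCharacter C)] (hxC : x ∈ C)
    (hcomm : ∀ c : C, x * (c : G) = (c : G) * x)
    {e : Set (IrrCharacter C)} [DecidablePred (· ∈ e)] {B : Set (IrrCharacter G)}
    (hind : IsInducedBlock M C e B)
    (χ : IrrCharacter G) (hχ : χ ∈ B)
    (hmin : ∀ ξ ∈ B, (irrDeg χ).factorization p ≤ (irrDeg ξ).factorization p)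
    (n : IrrCharacter C → ℕ) (hn : ∀ θ, rmult C χ θ = n θ) :
    ¬ p ∣ ∑ θ : IrrCharacter C, if θ ∈ e then n θ * cofac p e θ else 0 := by
  classical
  have hMp := isPrime_of_isPModular hM
  intro hdvd
  apply sum_acoef_cofac_not_li hM x k hxk C hxC hcomm hind χ hχ hmin
  have h1 : MemLocalIdeal M ((∑ θ : IrrCharacter C,
      if θ ∈ e then n θ * cofac p e θ else 0 : ℕ) : ℂ) :=
    (memLocalIdeal_natCast_iff hM _).mpr hdvd
  have h2 : (∑ θ : IrrCharacter C, if θ ∈ e then acoef x C χ θ * (cofac p e θ : ℂ) else 0) =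
      ((∑ θ : IrrCharacter C, if θ ∈ e then n θ * cofac p e θ else 0 : ℕ) : ℂ) +
      ∑ θ : IrrCharacter C, if θ ∈ e then
        (acoef x C χ θ - (n θ : ℂ)) * (cofac p e θ : ℂ) else 0 := by
    push_cast
    rw [← Finset.sum_add_distrib]
    refine Finset.sum_congr rfl fun θ _ => ?_
    split_ifs <;> ring
  rw [h2]
  refine li_add hMp h1 (li_sum hMp _ _ fun θ _ => ?_)
  by_cases hθ : θ ∈ e
  swap
  · rw [if_neg hθ]; exact memLocalIdeal_zero hMp
  rw [if_pos hθ]
  refine li_mul_right hMp ?_ (memLocalRing_natCast hMp _)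
  obtain ⟨lam, hlam1, -, hlam⟩ := exists_acoef_pow x C hxC hcomm θ
  have h3 := hlam χ 1
  rw [pow_one, pow_one, hn θ] at h3
  rw [h3, show lam * (n θ : ℂ) - (n θ : ℂ) = (lam - 1) * (n θ : ℂ) by ring]
  refine li_mul_right hMp ?_ (memLocalRing_natCast hMp _)
  apply pPowRoot_sub_one_memLocalIdeal hM lam k
  obtain ⟨c, hc⟩ := orderOf_dvd_of_pow_eq_one hxk
  rw [hc, pow_mul, hlam1, one_pow]

/-- The diagonal entries of the integer matrix `p^d Γ`: `p ∣ g_{θθ} ↔ p ∣ u_θ`. -/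
theorem dvd_gram_diag_iff {H : Type*} [Group H] [Fintype H] {p : ℕ} [hp : Fact p.Prime]
    (hM : IsPModular p M) {e : Set (IrrCharacter H)} (he : IsPBlock M e)
    (θ : IrrCharacter H) (hθ : θ ∈ e) (g : ℤ)
    (hg : ((p : ℂ) ^ blockDefect p e) * gram p θ θ = g) :
    (p : ℤ) ∣ g ↔ p ∣ cofac p e θ := by
  haveI : Finite H := Finite.of_fintype H
  set a := (Nat.card H).factorization p with ha
  set mv := minVal p e with hmv
  have h1 : mv ≤ (irrDeg θ).factorization p := minVal_le p hθ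
  have h2 : mv ≤ a := h1.trans (factorization_irrDeg_le_card p θ)
  have hd : blockDefect p e = a - mv := blockDefect_eq p e
  have hp0 : (p : ℂ) ≠ 0 := by exact_mod_cast hp.out.pos.ne'
  have hpz : (p : ℤ) ≠ 0 := by exact_mod_cast hp.out.pos.ne'
  -- N = p^mv g
  have hN : N p θ θ = (p : ℤ) ^ mv * g := by
    have h3 := pow_mul_gram p θ θ
    rw [← ha, show a = (a - mv) + mv by omega, pow_add, ← hd, mul_right_comm, hg] at h3
    have : ((N p θ θ : ℤ) : ℂ) = (((p : ℤ) ^ mv * g : ℤ) : ℂ) := by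
      rw [← h3]; push_cast; ring
    exact_mod_cast this
  have hu := cofac_spec p hθ
  rw [← hmv] at hu
  constructor
  · intro hpg
    by_contra hnu
    -- θ has minimal valuation
    have hval : (irrDeg θ).factorization p = mv := by
      have hc0 : cofac p e θ ≠ 0 := fun h0 => hnu (by rw [h0]; exact dvd_zero p)
      rw [hu, Nat.factorization_mul (pow_ne_zero _ hp.out.pos.ne') hc0]
      simp only [Finsupp.coe_add, Pi.add_apply]
      rw [Nat.Prime.factorization_pow hp.out]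
      simp only [Finsupp.single_eq_same]
      rw [Nat.factorization_eq_zero_of_not_dvd hnu, add_zero]
    have hminθ : ∀ ψ ∈ e, (irrDeg θ).factorization p ≤ (irrDeg ψ).factorization p := by
      intro ψ hψ; rw [hval]; exact minVal_le p hψ
    obtain ⟨hN0, hNv⟩ := good_of_minimal hM he hθ hminθ θ hθ
    rw [hval, hN] at hNv
    have hg0 : g ≠ 0 := by
      rintro rfl; rw [mul_zero] at hN; exact hN0 hN
    rw [padicValInt.mul (pow_ne_zero _ hpz) hg0] at hNv
    have hpp : padicValInt p ((p : ℤ) ^ mv) = mv := by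
      rw [show ((p : ℤ) ^ mv) = ((p ^ mv : ℕ) : ℤ) by push_cast; rfl, padicValInt.of_nat,
        padicValNat.prime_pow]
    rw [hpp] at hNv
    have h0 : padicValInt p g = 0 := by omega
    have h5 := (padicValInt_dvd_iff (p := p) 1 g).mp (by simpa using hpg)
    rcases h5 with h5 | h5
    · exact hg0 h5
    · omega
  · intro hpu
    obtain ⟨c, hc⟩ := hpu
    have h3 : (p : ℤ) ^ (mv + 1) ∣ N p θ θ := by
      refine dvd_trans ?_ (pow_dvd_N_left p θ θ)
      apply pow_dvd_pow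
      have : p ^ (mv + 1) ∣ irrDeg θ := by
        rw [hu, hc, pow_succ]; exact ⟨c, by ring⟩
      exact (Nat.Prime.pow_dvd_iff_le_factorization hp.out (irrDeg_pos θ).ne').mp this
    rw [hN, pow_succ] at h3
    exact (mul_dvd_mul_iff_left (pow_ne_zero _ hpz)).mp h3

/-- A symmetric integer matrix has the parity of its trace. -/
theorem sum_sum_symm_modEq {ι : Type*} (s : Finset ι) (F : ι → ι → ℤ)
    (hF : ∀ a b, F a b = F b a) :
    (∑ a ∈ s, ∑ b ∈ s, F a b) ≡ ∑ a ∈ s, F a a [ZMOD 2] := by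
  classical
  induction s using Finset.induction_on with
  | empty => simp [Int.ModEq]
  | insert c s hc ih =>
    rw [Finset.sum_insert hc, Finset.sum_insert hc, Finset.sum_insert hc]
    have h1 : ∑ a ∈ s, ∑ b ∈ insert c s, F a b = ∑ a ∈ s, F a c + ∑ a ∈ s, ∑ b ∈ s, F a b := by
      rw [← Finset.sum_add_distrib]
      refine Finset.sum_congr rfl fun a _ => ?_
      rw [Finset.sum_insert hc]
    rw [h1]
    have h2 : ∑ b ∈ s, F c b = ∑ a ∈ s, F a c := Finset.sum_congr rfl fun a _ => hF c a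
    rw [h2]
    have h3 : F c c + ∑ a ∈ s, F a c + (∑ a ∈ s, F a c + ∑ a ∈ s, ∑ b ∈ s, F a b) =
        (F c c + ∑ a ∈ s, ∑ b ∈ s, F a b) + 2 * ∑ a ∈ s, F a c := by ring
    rw [h3]
    have h4 : (F c c + ∑ a ∈ s, ∑ b ∈ s, F a b) + 2 * ∑ a ∈ s, F a c ≡
        F c c + ∑ a ∈ s, ∑ b ∈ s, F a b [ZMOD 2] := by
      have : (2 * ∑ a ∈ s, F a c) ≡ 0 [ZMOD 2] := by
        rw [Int.modEq_zero_iff_dvd]; exact dvd_mul_right _ _
      simpa using Int.ModEq.add_left (F c c + ∑ a ∈ s, ∑ b ∈ s, F a b) this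
    exact h4.trans (Int.ModEq.add_left _ ih)

section Trace

open Polynomial

theorem nextCoeff_X_pow_add_one (a : ℕ) (ha : 2 ≤ a) : (X ^ a + 1 : ℚ[X]).nextCoeff = 0 := by
  have hdeg : (X ^ a + 1 : ℚ[X]).natDegree = a := by
    rw [show (X ^ a + 1 : ℚ[X]) = X ^ a + C 1 by simp]
    exact natDegree_X_pow_add_C
  rw [nextCoeff, hdeg, if_neg (by omega)]
  simp only [coeff_add, coeff_one, coeff_X_pow]
  rw [if_neg (by omega), if_neg (by omega)]
  simp

/-- The embeddings of the `N`-th cyclotomic field sum to zero on a root of unity of `2`-power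
order at least `4`. -/
theorem sum_embeddings_two_pow_root (N : ℕ) (hN : 0 < N) [FiniteDimensional ℚ (cyclo N)]
    (ζ : ℂ) (j : ℕ)
    (hζ : ζ ^ (2 ^ j) = 1) (hζN : ζ ^ N = 1) (h1 : ζ ≠ 1) (h2 : ζ ≠ -1) :
    ∑ σ : cyclo N →ₐ[ℚ] ℂ, σ ⟨ζ, mem_cyclo hζN⟩ = 0 := by
  set z : cyclo N := ⟨ζ, mem_cyclo hζN⟩ with hz
  rw [← trace_eq_sum_embeddings ℂ (K := ℚ) (L := cyclo N) (x := z),
    trace_eq_finrank_mul_minpoly_nextCoeff]
  have hmin : minpoly ℚ z = minpoly ℚ ζ := by
    have := minpoly.algebraMap_eq (A := ℚ) (B := cyclo N) (B' := ℂ)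
      (algebraMap (cyclo N) ℂ).injective z
    rw [← this]
    rfl
  obtain ⟨i, hij, hi⟩ := (Nat.dvd_prime_pow Nat.prime_two).mp (orderOf_dvd_of_pow_eq_one hζ)
  have hi0 : i ≠ 0 := by
    rintro rfl
    rw [pow_zero, orderOf_eq_one_iff] at hi
    exact h1 hi
  have hi1 : i ≠ 1 := by
    rintro rfl
    rw [pow_one] at hi
    have h3 : ζ ^ 2 = 1 := by rw [← hi]; exact pow_orderOf_eq_one ζ
    have h4 : (ζ - 1) * (ζ + 1) = 0 := by ring_nf; rw [h3]; ring
    rcases mul_eq_zero.mp h4 with h | h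
    · exact h1 (sub_eq_zero.mp h)
    · exact h2 (eq_neg_of_add_eq_zero_left h)
  obtain ⟨i', rfl⟩ : ∃ i', i = i' + 1 + 1 := ⟨i - 2, by omega⟩
  have hprim : IsPrimitiveRoot ζ (2 ^ (i' + 1 + 1)) := by
    rw [← hi]; exact IsPrimitiveRoot.orderOf ζ
  have hcyc := cyclotomic_eq_minpoly_rat hprim (by positivity)
  rw [cyclotomic_prime_pow_eq_geom_sum Nat.prime_two] at hcyc
  have hpoly : (∑ t ∈ Finset.range 2, ((X : ℚ[X]) ^ 2 ^ (i' + 1)) ^ t) = X ^ (2 ^ (i' + 1)) + 1 := by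
    rw [Finset.sum_range_succ, Finset.sum_range_one]
    ring
  rw [hpoly] at hcyc
  rw [hmin, ← hcyc, nextCoeff_X_pow_add_one _ (by
    calc 2 = 2 ^ 1 := by norm_num
      _ ≤ 2 ^ (i' + 1) := Nat.pow_le_pow_right (by norm_num) (by omega))]
  simp

end Trace

end Cfsg.Agent.Helper23.CM
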