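import Mathlib
import Cfsg.Prelude.Def_Blocks
import Cfsg.Prelude.Def_BlockRank
import Cfsg.Agent.Helper23.ContribF

/-!
# The Galois-averaged diagonal contributions of a `2`-subsection are odd integers
-/

set_option autoImplicit false
set_option linter.unusedSectionVars false
set_option linter.unusedVariables false
set_option linter.unusedSimpArgs false
set_option linter.unnecessarySimpa false
set_option linter.style.haveILetI false

namespace Cfsg.Agent.Helper23.CM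

open Cfsg Cfsg.Agent.Helper24 Cfsg.Agent.Helper23 Cfsg.Agent.Helper23.SubTr
open Cfsg.Agent.Helper5.Loc Cfsg.Agent.Helper5.CC Cfsg.Agent.Helper8.HZI Cfsg.Agent.Helper8.IndHt

/-- The exponent of an embedding of the `N`-th cyclotomic field. -/
noncomputable def kexp (N : ℕ) (hN : 0 < N) (σ : cyclo N →ₐ[ℚ] ℂ) : ℕ :=
  (exists_pow_of_embedding N hN σ).choose

theorem kexp_coprime (N : ℕ) (hN : 0 < N) (σ : cyclo N →ₐ[ℚ] ℂ) : (kexp N hN σ).Coprime N :=
  (exists_pow_of_embedding N hN σ).choose_spec.1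

theorem kexp_spec (N : ℕ) (hN : 0 < N) (σ : cyclo N →ₐ[ℚ] ℂ) (μ : ℂ) (hμ : μ ^ N = 1) :
    σ ⟨μ, mem_cyclo hμ⟩ = μ ^ kexp N hN σ :=
  (exists_pow_of_embedding N hN σ).choose_spec.2 μ hμ

/-- The sign attached to a root of unity of `2`-power order. -/
noncomputable def eps (ζ : ℂ) : ℤ := by
  classical exact if ζ = 1 then 1 else if ζ = -1 then -1 else 0

theorem eps_one : eps 1 = 1 := by simp [eps]

theorem eps_conj (ζ : ℂ) : eps ((starRingEnd ℂ) ζ) = eps ζ := by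
  classical
  have h1 : (starRingEnd ℂ) ζ = 1 ↔ ζ = 1 := by
    constructor
    · intro h; have := congrArg (starRingEnd ℂ) h; simpa using this
    · intro h; rw [h, map_one]
  have h2 : (starRingEnd ℂ) ζ = -1 ↔ ζ = -1 := by
    constructor
    · intro h; have := congrArg (starRingEnd ℂ) h; simpa using this
    · intro h; rw [h, map_neg, map_one]
  simp only [eps, h1, h2]

/-- `∑_σ ζ^{k_σ} = E ε(ζ)` for a root of unity `ζ` of `2`-power order. -/
theorem sum_pow_kexp (N : ℕ) (hN : 0 < N) [FiniteDimensional ℚ (cyclo N)] (ζ : ℂ) (j : ℕ)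
    (hζ : ζ ^ (2 ^ j) = 1) (hjN : 2 ^ j ∣ N) :
    ∑ σ : cyclo N →ₐ[ℚ] ℂ, ζ ^ kexp N hN σ =
      (Fintype.card (cyclo N →ₐ[ℚ] ℂ) : ℂ) * (eps ζ : ℂ) := by
  classical
  have hζN : ζ ^ N = 1 := by
    obtain ⟨c, hc⟩ := hjN
    rw [hc, pow_mul, hζ, one_pow]
  have h0 : ∑ σ : cyclo N →ₐ[ℚ] ℂ, ζ ^ kexp N hN σ =
      ∑ σ : cyclo N →ₐ[ℚ] ℂ, σ ⟨ζ, mem_cyclo hζN⟩ :=
    Finset.sum_congr rfl fun σ _ => (kexp_spec N hN σ ζ hζN).symm
  rw [h0]
  by_cases h1 : ζ = 1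
  · subst h1
    have : ∀ σ : cyclo N →ₐ[ℚ] ℂ, σ ⟨1, mem_cyclo hζN⟩ = 1 := by
      intro σ
      rw [show (⟨1, mem_cyclo hζN⟩ : cyclo N) = 1 from rfl, map_one]
    rw [Finset.sum_congr rfl (fun σ _ => this σ)]
    simp [eps_one]
  by_cases h2 : ζ = -1
  · subst h2
    have : ∀ σ : cyclo N →ₐ[ℚ] ℂ, σ ⟨-1, mem_cyclo hζN⟩ = -1 := by
      intro σ
      rw [show (⟨-1, mem_cyclo hζN⟩ : cyclo N) = -1 from rfl, map_neg, map_one]
    rw [Finset.sum_congr rfl (fun σ _ => this σ)]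
    have he : eps (-1 : ℂ) = -1 := by
      simp only [eps]
      rw [if_neg (by norm_num)]
      simp
    rw [he]
    simp
  · rw [sum_embeddings_two_pow_root N hN ζ j hζ hζN h1 h2]
    have he : eps ζ = 0 := by
      simp only [eps]
      rw [if_neg h1, if_neg h2]
    rw [he]; simp

variable {G : Type*} [Group G] [Fintype G] {M : Ideal AlgInt}

/-- The Galois sum of the diagonal contribution `2^q m_{χχ}` is `E` times an explicit integer. -/
theorem sum_sigma_contrib_diag [Fintype (IrrCharacter G)] (hM : IsPModular 2 M) (x : G) (j : ℕ)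
    (hxj : orderOf x = 2 ^ j)
    (C : Subgroup G) [Fintype C] [Fintype (IrrCharacter C)]
    (hcomm : ∀ c : C, x * (c : G) = (c : G) * x)
    (e : Set (IrrCharacter C)) [DecidablePred (· ∈ e)] (he : IsPBlock M e) (χ : IrrCharacter G)
    (lam : IrrCharacter C → ℂ) (n : IrrCharacter C → ℕ)
    (hlam1 : ∀ θ, lam θ ^ orderOf x = 1)
    (hlam : ∀ θ k, acoef (x ^ k) C χ θ = lam θ ^ k * (n θ : ℂ))
    (g : IrrCharacter C → IrrCharacter C → ℤ)
    (hg : ∀ θ θ', θ' ∈ e → (2 : ℂ) ^ (blockDefect 2 e) * gram 2 θ θ' = g θ θ')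
    (hN : 0 < Nat.card G) [FiniteDimensional ℚ (cyclo (Nat.card G))] :
    ∑ σ : cyclo (Nat.card G) →ₐ[ℚ] ℂ,
        (2 : ℂ) ^ (blockDefect 2 e) * contrib 2 (x ^ kexp (Nat.card G) hN σ) C e χ χ =
      (Fintype.card (cyclo (Nat.card G) →ₐ[ℚ] ℂ) : ℂ) *
        ((∑ θ : IrrCharacter C, ∑ θ' : IrrCharacter C, if θ ∈ e ∧ θ' ∈ e then
          ((n θ : ℤ) * (n θ' : ℤ)) * g θ θ' * eps (lam θ * (starRingEnd ℂ) (lam θ')) else 0 : ℤ) : ℂ) := by
  classical
  haveI : Fact (Nat.Prime 2) := ⟨Nat.prime_two⟩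
  have h1 : ∀ σ : cyclo (Nat.card G) →ₐ[ℚ] ℂ,
      (2 : ℂ) ^ (blockDefect 2 e) * contrib 2 (x ^ kexp (Nat.card G) hN σ) C e χ χ =
      ∑ θ : IrrCharacter C, ∑ θ' : IrrCharacter C, if θ ∈ e ∧ θ' ∈ e then
        ((n θ : ℂ) * (n θ' : ℂ)) * (g θ θ' : ℂ) *
          (lam θ * (starRingEnd ℂ) (lam θ')) ^ kexp (Nat.card G) hN σ else 0 := by
    intro σ
    set k := kexp (Nat.card G) hN σ with hk
    rw [contrib_eq_sum_gram hM (x ^ k) C (comm_pow hcomm k) e he χ χ, Finset.mul_sum]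
    refine Finset.sum_congr rfl fun θ _ => ?_
    rw [Finset.mul_sum]
    refine Finset.sum_congr rfl fun θ' _ => ?_
    by_cases h : θ ∈ e ∧ θ' ∈ e
    swap
    · rw [if_neg h, if_neg h, mul_zero]
    rw [if_pos h, if_pos h, hlam θ k, hlam θ' k, ← hg θ θ' h.2]
    simp only [map_mul, map_pow, Complex.conj_natCast, mul_pow]
    ring
  rw [Finset.sum_congr rfl (fun σ _ => h1 σ), Finset.sum_comm]
  push_cast
  rw [Finset.mul_sum]
  refine Finset.sum_congr rfl fun θ _ => ?_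
  rw [Finset.sum_comm, Finset.mul_sum]
  refine Finset.sum_congr rfl fun θ' _ => ?_
  by_cases h : θ ∈ e ∧ θ' ∈ e
  swap
  · simp only [if_neg h, Finset.sum_const_zero, mul_zero]
  simp only [if_pos h]
  rw [← Finset.mul_sum]
  have hζ : (lam θ * (starRingEnd ℂ) (lam θ')) ^ (2 ^ j) = 1 := by
    rw [mul_pow, ← map_pow, ← hxj, hlam1 θ, hlam1 θ', map_one, mul_one]
  have hjN : 2 ^ j ∣ Nat.card G := by rw [← hxj]; exact orderOf_dvd_natCard x
  rw [sum_pow_kexp (Nat.card G) hN _ j hζ hjN]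
  ring

theorem int_modEq_two_of_dvd_iff {a b : ℤ} (h : (2 : ℤ) ∣ a ↔ (2 : ℤ) ∣ b) : a ≡ b [ZMOD 2] := by
  rcases Int.emod_two_eq_zero_or_one a with ha | ha <;>
  rcases Int.emod_two_eq_zero_or_one b with hb | hb
  · exact ha.trans hb.symm
  · exfalso
    have : (2 : ℤ) ∣ b := h.mp (Int.dvd_of_emod_eq_zero ha)
    have := Int.emod_eq_zero_of_dvd this
    omega
  · exfalso
    have : (2 : ℤ) ∣ a := h.mpr (Int.dvd_of_emod_eq_zero hb)
    have := Int.emod_eq_zero_of_dvd this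
    omega
  · exact ha.trans hb.symm

/-- The averaged diagonal contribution is odd. -/
theorem odd_avg_diag {ι : Type*} [Fintype ι] (e : Set ι) [DecidablePred (· ∈ e)]
    (n u : ι → ℕ) (g : ι → ι → ℤ) (lam : ι → ℂ)
    (hgs : ∀ θ θ', θ ∈ e → θ' ∈ e → g θ θ' = g θ' θ)
    (hlam : ∀ θ, lam θ * (starRingEnd ℂ) (lam θ) = 1)
    (hgu : ∀ θ ∈ e, ((2 : ℤ) ∣ g θ θ ↔ 2 ∣ u θ))
    (hodd : ¬ 2 ∣ ∑ θ : ι, if θ ∈ e then n θ * u θ else 0) :
    Odd (∑ θ : ι, ∑ θ' : ι, if θ ∈ e ∧ θ' ∈ e then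
      ((n θ : ℤ) * (n θ' : ℤ)) * g θ θ' * eps (lam θ * (starRingEnd ℂ) (lam θ')) else 0) := by
  classical
  set F : ι → ι → ℤ := fun θ θ' => if θ ∈ e ∧ θ' ∈ e then
      ((n θ : ℤ) * (n θ' : ℤ)) * g θ θ' * eps (lam θ * (starRingEnd ℂ) (lam θ')) else 0 with hF
  have hFs : ∀ a b, F a b = F b a := by
    intro a b
    simp only [hF]
    by_cases h : a ∈ e ∧ b ∈ e
    · rw [if_pos h, if_pos ⟨h.2, h.1⟩, hgs a b h.1 h.2]
      have : lam b * (starRingEnd ℂ) (lam a) = (starRingEnd ℂ) (lam a * (starRingEnd ℂ) (lam b)) := by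
        rw [map_mul, Complex.conj_conj, mul_comm]
      rw [this, eps_conj]
      ring
    · rw [if_neg h, if_neg (fun h' => h ⟨h'.2, h'.1⟩)]
  have h1 := sum_sum_symm_modEq Finset.univ F hFs
  have h2 : (∑ a : ι, F a a) ≡ ((∑ θ : ι, if θ ∈ e then n θ * u θ else 0 : ℕ) : ℤ) [ZMOD 2] := by
    push_cast
    apply Int.ModEq.sum
    intro θ _
    simp only [hF]
    by_cases hθ : θ ∈ e
    swap
    · rw [if_neg (fun h => hθ h.1), if_neg hθ]
    rw [if_pos ⟨hθ, hθ⟩, if_pos hθ, hlam θ, eps_one, mul_one]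
    have h3 : g θ θ ≡ (u θ : ℤ) [ZMOD 2] := by
      apply int_modEq_two_of_dvd_iff
      rw [hgu θ hθ]
      exact (Int.natCast_dvd_natCast (m := 2) (n := u θ)).symm
    have h4 : (n θ : ℤ) * (n θ : ℤ) ≡ (n θ : ℤ) [ZMOD 2] := by
      rcases Int.emod_two_eq_zero_or_one (n θ : ℤ) with h | h
      · have : (n θ : ℤ) ≡ 0 [ZMOD 2] := h
        exact (this.mul this).trans (by simpa using this.symm)
      · have : (n θ : ℤ) ≡ 1 [ZMOD 2] := h
        exact (this.mul this).trans (by simpa using this.symm)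
    push_cast
    exact h4.mul h3
  have h3 := h1.trans h2
  rw [Int.odd_iff]
  have h4 : ((∑ θ : ι, if θ ∈ e then n θ * u θ else 0 : ℕ) : ℤ) % 2 = 1 := by
    have : (∑ θ : ι, if θ ∈ e then n θ * u θ else 0) % 2 = 1 := by
      rcases Nat.mod_two_eq_zero_or_one (∑ θ : ι, if θ ∈ e then n θ * u θ else 0) with h | h
      · exact absurd (Nat.dvd_of_mod_eq_zero h) hodd
      · exact h
    omega
  rw [← h4]
  exact h3

end Cfsg.Agent.Helper23.CM
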