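import Mathlib
import Cfsg.Prelude.Def_Blocks
import Cfsg.Prelude.Def_BlockRank
import Cfsg.Agent.Helper23.ContribG

/-!
# The `2`-block bound `k₀(B) ≤ α 2^q` for a subsection
-/

set_option autoImplicit false
set_option linter.unusedSectionVars false
set_option linter.unusedVariables false
set_option linter.unusedSimpArgs false
set_option linter.unnecessarySimpa false
set_option linter.style.haveILetI false

namespace Cfsg.Agent.Helper23.CM

open Cfsg Cfsg.Agent.Helper24 Cfsg.Agent.Helper23 Cfsg.Agent.Helper23.SubTr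
open Cfsg.Agent.Helper5.Loc Cfsg.Agent.Helper5.CC Cfsg.Agent.Helper8.HZI Cfsg.Agent.Helper8.IndHt

variable {G : Type*} [Group G] [Fintype G] {M : Ideal AlgInt}

/-- Hypotheses on `x` pass to `x ^ k` for `k` prime to the group order. -/
theorem pow_hyps {p : ℕ} (x : G) (hx : ∃ k : ℕ, orderOf x = p ^ k) (C : Subgroup G)
    (hcent : Subgroup.centralizer ({x} : Set G) ≤ C) (k : ℕ) (hk : k.Coprime (Nat.card G)) :
    (∃ j : ℕ, orderOf (x ^ k) = p ^ j) ∧ Subgroup.centralizer ({x ^ k} : Set G) ≤ C := by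
  haveI : Finite G := Finite.of_fintype G
  have hcop : k.Coprime (orderOf x) :=
    Nat.Coprime.coprime_dvd_right (orderOf_dvd_natCard x) hk
  obtain ⟨k₀, hk₀⟩ := hx
  exact ⟨⟨k₀, by rw [Nat.Coprime.orderOf_pow hcop.symm, hk₀]⟩,
    (centralizer_pow_le hcop).trans hcent⟩

/-- The AM-GM lower bound for one pair of height zero characters. -/
theorem card_le_sum_sigma [Fintype (IrrCharacter G)] {p : ℕ} [hp : Fact p.Prime]
    (hM : IsPModular p M) (x : G) (hx : ∃ k : ℕ, orderOf x = p ^ k)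
    (C : Subgroup G) [Fintype C] [Fintype (IrrCharacter C)] (hxC : x ∈ C)
    (hcomm : ∀ c : C, x * (c : G) = (c : G) * x)
    {e : Set (IrrCharacter C)} [DecidablePred (· ∈ e)] {B : Set (IrrCharacter G)}
    (hind : IsInducedBlock M C e B) (χ χ' : IrrCharacter G) (hχ : χ ∈ B) (hχ' : χ' ∈ B)
    (hmin : ∀ ξ ∈ B, (irrDeg χ).factorization p ≤ (irrDeg ξ).factorization p)
    (hmin' : ∀ ξ ∈ B, (irrDeg χ').factorization p ≤ (irrDeg ξ).factorization p)
    (hN : 0 < Nat.card G) [FiniteDimensional ℚ (cyclo (Nat.card G))] :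
    (Fintype.card (cyclo (Nat.card G) →ₐ[ℚ] ℂ) : ℝ) ≤
      ∑ σ : cyclo (Nat.card G) →ₐ[ℚ] ℂ,
        ‖(p : ℂ) ^ blockDefect p e * contrib p (x ^ kexp (Nat.card G) hN σ) C e χ χ'‖ ^ 2 := by
  classical
  have he : IsPBlock M e := hind.1
  obtain ⟨k₀, hk₀⟩ := hx
  have hxk : x ^ (p ^ k₀) = 1 := by rw [← hk₀]; exact pow_orderOf_eq_one x
  set d := blockDefect p e with hd
  have hrel : ∀ (σ : cyclo (Nat.card G) →ₐ[ℚ] ℂ),
      Rel σ ((p : ℂ) ^ d * contrib p x C e χ χ')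
        ((p : ℂ) ^ d * contrib p (x ^ kexp (Nat.card G) hN σ) C e χ χ') :=
    fun σ => Rel.mul (Rel.pow (Rel.natCast σ p) d)
      (rel_contrib p x C hcomm e σ _ (kexp_coprime _ hN σ) (kexp_spec _ hN σ) χ χ')
  have hmem : (p : ℂ) ^ d * contrib p x C e χ χ' ∈ cyclo (Nat.card G) :=
    (hrel (cyclo (Nat.card G)).val).1
  let z : cyclo (Nat.card G) := ⟨_, hmem⟩
  have hσz : ∀ (σ : cyclo (Nat.card G) →ₐ[ℚ] ℂ),
      σ z = (p : ℂ) ^ d * contrib p (x ^ kexp (Nat.card G) hN σ) C e χ χ' := by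
    intro σ
    obtain ⟨hu, h⟩ := hrel σ
    exact h
  have h1 := card_le_sum_norm_sq (cyclo (Nat.card G)) z ?_ ?_
  · rw [Finset.sum_congr rfl (fun σ _ => by rw [hσz σ])] at h1
    exact h1
  · intro h0
    have h2 : ((z : cyclo (Nat.card G)) : ℂ) = 0 := by rw [h0]; rfl
    have h3 : (p : ℂ) ^ d * contrib p x C e χ χ' = 0 := h2
    have hp0 : (p : ℂ) ^ d ≠ 0 := pow_ne_zero _ (by exact_mod_cast hp.out.pos.ne')
    rcases mul_eq_zero.mp h3 with h | h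
    · exact hp0 h
    · exact contrib_ne_zero hM x k₀ hxk C hxC hcomm hind χ χ' hχ hχ' hmin hmin' h
  · have h2 : IsIntegral ℤ ((algebraMap (cyclo (Nat.card G)) ℂ) z) :=
      isIntegral_pow_mul_contrib hM x C hxC hcomm e he χ χ'
    exact (isIntegral_algebraMap_iff (algebraMap (cyclo (Nat.card G)) ℂ).injective).mp h2

/-- **Key integrality statement for `p = 2`**: to each character `χ` there is an integer `N_χ`
(the Galois average of `2^d m_{χχ}`), odd for `χ` of height zero, with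
`#S ≤ 2^d N_χ` and `∑_{χ ∈ S} N_χ ≤ 2^d l(e)` for a set `S` of height zero characters. -/
theorem exists_odd_avg [Fintype (IrrCharacter G)] (hM : IsPModular 2 M) (x : G)
    (hx : ∃ k : ℕ, orderOf x = 2 ^ k)
    (C : Subgroup G) [Fintype C] [Fintype (IrrCharacter C)] (hxC : x ∈ C)
    (hcomm : ∀ c : C, x * (c : G) = (c : G) * x)
    (hcent : Subgroup.centralizer ({x} : Set G) ≤ C)
    {e : Set (IrrCharacter C)} [DecidablePred (· ∈ e)] {B : Set (IrrCharacter G)}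
    (hind : IsInducedBlock M C e B) (S : Finset (IrrCharacter G)) (hSB : ∀ χ ∈ S, χ ∈ B)
    (hmin : ∀ χ ∈ S, ∀ ξ ∈ B, (irrDeg χ).factorization 2 ≤ (irrDeg ξ).factorization 2) :
    ∃ Nf : IrrCharacter G → ℤ, (∀ χ ∈ S, Odd (Nf χ)) ∧
      (∀ χ ∈ S, (S.card : ℤ) ≤ 2 ^ blockDefect 2 e * Nf χ) ∧
      ∑ χ ∈ S, Nf χ ≤ 2 ^ blockDefect 2 e * (blockRank 2 e : ℤ) := by
  classical
  haveI : Fact (Nat.Prime 2) := ⟨Nat.prime_two⟩
  haveI : Finite G := Finite.of_fintype G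
  have he : IsPBlock M e := hind.1
  have hNpos : 0 < Nat.card G := Nat.card_pos
  haveI hfd : FiniteDimensional ℚ (cyclo (Nat.card G)) :=
    finiteDimensional_cyclo (Nat.card G) hNpos
  set E := Fintype.card (cyclo (Nat.card G) →ₐ[ℚ] ℂ) with hE
  have hEpos : 0 < E := Fintype.card_pos_iff.mpr ⟨(cyclo (Nat.card G)).val⟩
  have hEr : (0 : ℝ) < E := by exact_mod_cast hEpos
  obtain ⟨k₀, hk₀⟩ := hx
  have hxk : x ^ (2 ^ k₀) = 1 := by rw [← hk₀]; exact pow_orderOf_eq_one x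
  set d := blockDefect 2 e with hd
  choose lam hlam1 hlamn hlam using fun θ => exists_acoef_pow x C hxC hcomm θ
  choose nf hnf using fun χ θ => rmult_nat C χ θ
  have hgex : ∀ θ θ' : IrrCharacter C, ∃ n : ℤ, θ' ∈ e → (2 : ℂ) ^ d * gram 2 θ θ' = n := by
    intro θ θ'
    by_cases h : θ' ∈ e
    · obtain ⟨n, hn⟩ := exists_int_pow_mul_gram 2 e θ θ' h
      exact ⟨n, fun _ => by rw [← hn]; push_cast; rfl⟩
    · exact ⟨0, fun h' => absurd h' h⟩
  choose g hg using hgex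
  set kσ : (cyclo (Nat.card G) →ₐ[ℚ] ℂ) → ℕ := fun σ => kexp (Nat.card G) hNpos σ with hkσ
  have hpw : ∀ σ, (∃ j : ℕ, orderOf (x ^ kσ σ) = 2 ^ j) ∧
      Subgroup.centralizer ({x ^ kσ σ} : Set G) ≤ C :=
    fun σ => pow_hyps x ⟨k₀, hk₀⟩ C hcent _ (kexp_coprime _ hNpos σ)
  set R : (cyclo (Nat.card G) →ₐ[ℚ] ℂ) → IrrCharacter G → ℝ := fun σ χ =>
    ∑ χ'' : IrrCharacter G, ‖contrib 2 (x ^ kσ σ) C e χ χ''‖ ^ 2 with hRdef
  have hR : ∀ σ χ, ((R σ χ : ℝ) : ℂ) = contrib 2 (x ^ kσ σ) C e χ χ := by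
    intro σ χ
    rw [← contrib_idem hM (x ^ kσ σ) (hpw σ).1 C (comm_pow hcomm _) (hpw σ).2 e he χ χ]
    simp only [hRdef]
    push_cast
    refine Finset.sum_congr rfl fun χ' _ => ?_
    rw [Complex.mul_conj, Complex.normSq_eq_norm_sq]
    push_cast
    rfl
  set Nf : IrrCharacter G → ℤ := fun χ =>
    ∑ θ : IrrCharacter C, ∑ θ' : IrrCharacter C, if θ ∈ e ∧ θ' ∈ e then
      ((nf χ θ : ℤ) * (nf χ θ' : ℤ)) * g θ θ' * eps (lam θ * (starRingEnd ℂ) (lam θ')) else 0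
    with hNf
  have hmain : ∀ χ : IrrCharacter G, (E : ℝ) * (Nf χ : ℝ) =
      (2 : ℝ) ^ d * ∑ σ : cyclo (Nat.card G) →ₐ[ℚ] ℂ, R σ χ := by
    intro χ
    have h1 := sum_sigma_contrib_diag hM x k₀ hk₀ C hcomm e he χ lam (nf χ) hlam1
      (fun θ k => by rw [hlam θ χ k, hnf χ θ]) g (fun θ θ' h => hg θ θ' h) hNpos
    have h2 : (((E : ℝ) * (Nf χ : ℝ) : ℝ) : ℂ) =
        (((2 : ℝ) ^ d * ∑ σ : cyclo (Nat.card G) →ₐ[ℚ] ℂ, R σ χ : ℝ) : ℂ) := by
      rw [Complex.ofReal_mul, Complex.ofReal_mul, Complex.ofReal_sum,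
        Finset.sum_congr rfl (fun σ _ => hR σ χ), Finset.mul_sum]
      have h3 : ∀ σ : cyclo (Nat.card G) →ₐ[ℚ] ℂ,
          (((2 : ℝ) ^ d : ℝ) : ℂ) * contrib 2 (x ^ kσ σ) C e χ χ =
          (2 : ℂ) ^ (blockDefect 2 e) * contrib 2 (x ^ kexp (Nat.card G) hNpos σ) C e χ χ := by
        intro σ
        push_cast
        rfl
      rw [Finset.sum_congr rfl (fun σ _ => h3 σ), h1, Complex.ofReal_natCast,
        Complex.ofReal_intCast]
    exact_mod_cast h2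
  refine ⟨Nf, ?_, ?_, ?_⟩
  · -- oddness
    intro χ hχ
    apply odd_avg_diag e (nf χ) (cofac 2 e) g lam
    · intro θ θ' hθ hθ'
      have h1 := hg θ θ' hθ'
      have h2 := hg θ' θ hθ
      have h3 : ((g θ' θ : ℤ) : ℂ) = (starRingEnd ℂ) ((g θ θ' : ℤ) : ℂ) := by
        rw [← h1, ← h2, map_mul, gram_conj, map_pow]
        congr 2
        exact (Complex.conj_natCast 2).symm
      rw [map_intCast] at h3
      exact_mod_cast h3.symm
    · exact hlamn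
    · intro θ hθ
      have h1 := dvd_gram_diag_iff hM he θ hθ (g θ θ) (by
        rw [← hg θ θ hθ]; push_cast; rfl)
      exact_mod_cast h1
    · exact not_dvd_sum_rmult_cofac hM x k₀ hxk C hxC hcomm hind χ (hSB χ hχ) (hmin χ hχ)
        (nf χ) (hnf χ)
  · -- lower bound
    intro χ hχ
    have h1 : ∀ χ'' ∈ S, (E : ℝ) ≤ ∑ σ : cyclo (Nat.card G) →ₐ[ℚ] ℂ,
        (2 : ℝ) ^ (2 * d) * ‖contrib 2 (x ^ kσ σ) C e χ χ''‖ ^ 2 := by
      intro χ'' hχ''
      have h2 := card_le_sum_sigma hM x ⟨k₀, hk₀⟩ C hxC hcomm hind χ χ'' (hSB χ hχ)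
        (hSB χ'' hχ'') (hmin χ hχ) (hmin χ'' hχ'') hNpos
      refine h2.trans (le_of_eq ?_)
      refine Finset.sum_congr rfl fun σ _ => ?_
      rw [norm_mul, mul_pow, norm_pow, Complex.norm_natCast, ← pow_mul, mul_comm d 2]
      push_cast
      rfl
    have h2 : (S.card : ℝ) * E ≤ E * ((2 : ℝ) ^ d * (Nf χ : ℝ)) := by
      calc (S.card : ℝ) * E = ∑ χ'' ∈ S, (E : ℝ) := by
            simp only [Finset.sum_const, nsmul_eq_mul]
        _ ≤ ∑ χ'' ∈ S, ∑ σ : cyclo (Nat.card G) →ₐ[ℚ] ℂ,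
              (2 : ℝ) ^ (2 * d) * ‖contrib 2 (x ^ kσ σ) C e χ χ''‖ ^ 2 :=
            Finset.sum_le_sum h1
        _ = ∑ σ : cyclo (Nat.card G) →ₐ[ℚ] ℂ, ∑ χ'' ∈ S,
              (2 : ℝ) ^ (2 * d) * ‖contrib 2 (x ^ kσ σ) C e χ χ''‖ ^ 2 := Finset.sum_comm
        _ ≤ ∑ σ : cyclo (Nat.card G) →ₐ[ℚ] ℂ, (2 : ℝ) ^ (2 * d) * R σ χ := by
            refine Finset.sum_le_sum fun σ _ => ?_
            simp only [hRdef]
            rw [Finset.mul_sum]
            exact Finset.sum_le_sum_of_subset_of_nonneg (Finset.subset_univ S)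
              (fun χ'' _ _ => by positivity)
        _ = (2 : ℝ) ^ d * ((2 : ℝ) ^ d * ∑ σ : cyclo (Nat.card G) →ₐ[ℚ] ℂ, R σ χ) := by
            rw [← Finset.mul_sum, two_mul, pow_add]; ring
        _ = E * ((2 : ℝ) ^ d * (Nf χ : ℝ)) := by rw [← hmain χ]; ring
    rw [mul_comm] at h2
    have h3 : (S.card : ℝ) ≤ (2 : ℝ) ^ d * (Nf χ : ℝ) := le_of_mul_le_mul_left h2 hEr
    exact_mod_cast h3
  · -- upper bound
    have h1 : (E : ℝ) * ((∑ χ ∈ S, Nf χ : ℤ) : ℝ) ≤ E * ((2 : ℝ) ^ d * (blockRank 2 e : ℝ)) := by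
      calc (E : ℝ) * ((∑ χ ∈ S, Nf χ : ℤ) : ℝ) = ∑ χ ∈ S, (E : ℝ) * (Nf χ : ℝ) := by
            push_cast; rw [Finset.mul_sum]
        _ = ∑ χ ∈ S, (2 : ℝ) ^ d * ∑ σ : cyclo (Nat.card G) →ₐ[ℚ] ℂ, R σ χ :=
            Finset.sum_congr rfl fun χ _ => hmain χ
        _ = (2 : ℝ) ^ d * ∑ σ : cyclo (Nat.card G) →ₐ[ℚ] ℂ, ∑ χ ∈ S, R σ χ := by
            rw [← Finset.mul_sum, Finset.sum_comm]
        _ ≤ (2 : ℝ) ^ d * ∑ σ : cyclo (Nat.card G) →ₐ[ℚ] ℂ, (blockRank 2 e : ℝ) := by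
            apply mul_le_mul_of_nonneg_left _ (by positivity)
            refine Finset.sum_le_sum fun σ _ => ?_
            rw [← sum_norm_sq_contrib hM (x ^ kσ σ) (hpw σ).1 C (comm_pow hcomm _) (hpw σ).2 e he]
            exact Finset.sum_le_sum_of_subset_of_nonneg (Finset.subset_univ S)
              (fun χ _ _ => Finset.sum_nonneg fun χ'' _ => by positivity)
        _ = E * ((2 : ℝ) ^ d * (blockRank 2 e : ℝ)) := by
            simp only [Finset.sum_const, Finset.card_univ, nsmul_eq_mul, ← hE]; ring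
    have h2 : ((∑ χ ∈ S, Nf χ : ℤ) : ℝ) ≤ (2 : ℝ) ^ d * (blockRank 2 e : ℝ) :=
      le_of_mul_le_mul_left h1 hEr
    exact_mod_cast h2

/-- The arithmetic behind the bound `k₀ ≤ α 2^q`. -/
theorem two_block_arith {ι : Type*} (S : Finset ι) (Nf : ι → ℤ) (q l : ℕ)
    (hodd : ∀ χ ∈ S, Odd (Nf χ))
    (hlow : ∀ χ ∈ S, (S.card : ℤ) ≤ 2 ^ q * Nf χ)
    (hup : ∑ χ ∈ S, Nf χ ≤ 2 ^ q * (l : ℤ)) :
    (Odd (Nat.sqrt l) → S.card ≤ Nat.sqrt l * 2 ^ q) ∧
    (¬ Odd (Nat.sqrt l) → (Nat.sqrt l + 1) * S.card ≤ l * 2 ^ q) ∧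
    (l ≤ 3 → S.card ≤ 2 ^ q) := by
  set s := Nat.sqrt l with hs
  set k := S.card with hk
  have hs1 : s * s ≤ l := Nat.sqrt_le l
  have hs2 : l < (s + 1) * (s + 1) := Nat.lt_succ_sqrt l
  have h2q : (0 : ℤ) < 2 ^ q := by positivity
  have hA : ∀ m : ℤ, Odd m → m * 2 ^ q < (k : ℤ) → (m + 2) * (k : ℤ) ≤ 2 ^ q * (l : ℤ) := by
    intro m hm hlt
    have h1 : ∀ χ ∈ S, m + 2 ≤ Nf χ := by
      intro χ hχ
      have h2 := hlow χ hχ
      have h3 : m < Nf χ := by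
        by_contra hcon
        push Not at hcon
        have : 2 ^ q * Nf χ ≤ 2 ^ q * m := mul_le_mul_of_nonneg_left hcon h2q.le
        linarith
      obtain ⟨a, ha⟩ := hm
      obtain ⟨b, hb⟩ := hodd χ hχ
      omega
    calc (m + 2) * (k : ℤ) = ∑ χ ∈ S, (m + 2) := by
          simp only [Finset.sum_const, nsmul_eq_mul, hk]; ring
      _ ≤ ∑ χ ∈ S, Nf χ := Finset.sum_le_sum h1
      _ ≤ _ := hup
  have p1 : Odd s → k ≤ s * 2 ^ q := by
    intro hso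
    by_contra hcon
    push Not at hcon
    have hlt : (s : ℤ) * 2 ^ q < (k : ℤ) := by exact_mod_cast hcon
    have hso' : Odd (s : ℤ) := by exact_mod_cast hso
    have h1 := hA s hso' hlt
    have h2 : ((s : ℤ) + 2) * ((s : ℤ) * 2 ^ q) < ((s : ℤ) + 2) * k := by
      apply mul_lt_mul_of_pos_left hlt; positivity
    have h3 : (l : ℤ) ≤ (s : ℤ) * s + 2 * s := by
      have : l + 1 ≤ (s + 1) * (s + 1) := hs2
      zify at this; linarith
    have h4 : (2 : ℤ) ^ q * (l : ℤ) ≤ 2 ^ q * ((s : ℤ) * s + 2 * s) :=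
      mul_le_mul_of_nonneg_left h3 h2q.le
    have h5 : ((s : ℤ) + 2) * ((s : ℤ) * 2 ^ q) = 2 ^ q * ((s : ℤ) * s + 2 * s) := by ring
    linarith
  have p2 : ¬ Odd s → (s + 1) * k ≤ l * 2 ^ q := by
    intro hso
    have hse : Even s := Nat.not_odd_iff_even.mp hso
    have hm : Odd ((s : ℤ) - 1) := by
      obtain ⟨a, ha⟩ := hse
      exact ⟨(a : ℤ) - 1, by rw [ha]; push_cast; ring⟩
    have hgoal : ((s : ℤ) + 1) * k ≤ l * 2 ^ q := by
      by_cases hlt : ((s : ℤ) - 1) * 2 ^ q < (k : ℤ)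
      · have h1 := hA _ hm hlt
        have e : (s : ℤ) - 1 + 2 = s + 1 := by ring
        rw [e] at h1
        linarith [mul_comm ((2 : ℤ) ^ q) (l : ℤ)]
      · push Not at hlt
        have h1 : ((s : ℤ) + 1) * k ≤ ((s : ℤ) + 1) * (((s : ℤ) - 1) * 2 ^ q) :=
          mul_le_mul_of_nonneg_left hlt (by positivity)
        have h2 : ((s : ℤ) * s) * 2 ^ q ≤ (l : ℤ) * 2 ^ q := by
          apply mul_le_mul_of_nonneg_right _ h2q.le
          exact_mod_cast hs1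
        have h3 : ((s : ℤ) + 1) * (((s : ℤ) - 1) * 2 ^ q) = (s : ℤ) * s * 2 ^ q - 2 ^ q := by ring
        linarith
    exact_mod_cast hgoal
  refine ⟨p1, p2, ?_⟩
  intro hl
  have hs01 : s = 0 ∨ s = 1 := by
    have h1 : s * s ≤ 3 := hs1.trans hl
    have h2 : s < 2 := by nlinarith
    omega
  rcases hs01 with h0 | h1
  · have h3 := p2 (by rw [h0]; decide)
    rw [h0] at h3 hs2
    have hl0 : l = 0 := by omega
    rw [hl0] at h3
    have h4 : k = 0 := by simpa using h3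
    rw [h4]; positivity
  · have h3 := p1 (by rw [h1]; exact odd_one)
    rw [h1] at h3
    simpa using h3

end Cfsg.Agent.Helper23.CM
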