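import Mathlib
import Cfsg.Prelude.Def_Blocks
import Cfsg.Prelude.Def_BlockRank
import Cfsg.Agent.Helper23.ContribH

/-!
# Major subsections: the contributions `m_{χψ}` with `ψ` of height zero do not vanish
-/

set_option autoImplicit false
set_option linter.unusedSectionVars false
set_option linter.unusedVariables false
set_option linter.unusedSimpArgs false
set_option linter.unnecessarySimpa false
set_option linter.style.haveILetI false

namespace Cfsg.Agent.Helper23.CM

open Cfsg Cfsg.Agent.Helper24 Cfsg.Agent.Helper5.CC Cfsg.Agent.Helper5.Loc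
open Cfsg.Agent.Helper8.SecCore Cfsg.Agent.Helper23.SubTr Cfsg.Agent.Helper8.HZI
open Cfsg.Agent.Helper8.IndHt

variable {G : Type*} [Group G] [Fintype G] {M : Ideal AlgInt}

/-- `p^{d(e)} m_{χχ'}` is a local unit for height zero characters `χ, χ'` of `e^G`. -/
theorem pow_mul_contrib_not_li [Fintype (IrrCharacter G)] {p : ℕ} [hp : Fact p.Prime]
    (hM : IsPModular p M) (x : G) (k : ℕ) (hxk : x ^ (p ^ k) = 1)
    (C : Subgroup G) [Fintype C] [Fintype (IrrCharacter C)] (hxC : x ∈ C)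
    (hcomm : ∀ c : C, x * (c : G) = (c : G) * x)
    {e : Set (IrrCharacter C)} [DecidablePred (· ∈ e)] {B : Set (IrrCharacter G)}
    (hind : IsInducedBlock M C e B)
    (χ χ' : IrrCharacter G) (hχ : χ ∈ B) (hχ' : χ' ∈ B)
    (hmin : ∀ ξ ∈ B, (irrDeg χ).factorization p ≤ (irrDeg ξ).factorization p)
    (hmin' : ∀ ξ ∈ B, (irrDeg χ').factorization p ≤ (irrDeg ξ).factorization p) :
    ¬ MemLocalIdeal M ((p : ℂ) ^ blockDefect p e * contrib p x C e χ χ') := by
  classical
  haveI : Finite G := Finite.of_fintype G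
  haveI : Finite C := Finite.of_fintype C
  have hMp := isPrime_of_isPModular hM
  have he : IsPBlock M e := hind.1
  obtain ⟨θ₀, hθ₀, hθ₀v⟩ := exists_minVal p (IsPBlock.nonempty hMp he)
  set mv := minVal p e with hmv
  set a := (Nat.card C).factorization p with ha
  have hmva : mv ≤ a := by
    rw [← hθ₀v]; exact factorization_irrDeg_le_card p θ₀
  have hd : blockDefect p e = a - mv := blockDefect_eq p e
  -- the cofactors
  set u : IrrCharacter C → ℕ := fun θ => irrDeg θ / p ^ mv with hu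
  have hu_spec : ∀ θ ∈ e, irrDeg θ = p ^ mv * u θ := by
    intro θ hθ
    have h1 : p ^ mv ∣ irrDeg θ :=
      dvd_trans (pow_dvd_pow p (minVal_le p hθ)) (Nat.ordProj_dvd (irrDeg θ) p)
    rw [hu]; exact (Nat.mul_div_cancel' h1).symm
  have hu0 : ¬ p ∣ u θ₀ := by
    rw [hu]; simp only
    rw [← hθ₀v]
    exact Nat.not_dvd_ordCompl hp.out (irrDeg_pos θ₀).ne'
  have hp0 : (p : ℂ) ≠ 0 := by exact_mod_cast hp.out.pos.ne'
  have hpmv : (p : ℂ) ^ mv ≠ 0 := pow_ne_zero _ hp0
  have hpa : (p : ℂ) ^ a ≠ 0 := pow_ne_zero _ hp0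
  have hmm0 : (mm C p : ℂ) ≠ 0 := by
    have : mm C p ≠ 0 := fun h0 => (not_dvd_mm (G := C) p) (h0 ▸ dvd_zero p)
    exact_mod_cast this
  have hNC : (Nat.card C : ℂ) = (p : ℂ) ^ a * (mm C p : ℂ) := by
    have := Nat.ordProj_mul_ordCompl_eq_self (Nat.card C) p
    rw [← ha] at this
    have h2 : (Nat.card C : ℂ) = ((p ^ a * mm C p : ℕ) : ℂ) := by
      congr 1; exact this.symm
    rw [h2]; push_cast; ring
  have hθ1 : ∀ θ ∈ e, (θ : C → ℂ) 1 = (p : ℂ) ^ mv * (u θ : ℂ) := by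
    intro θ hθ
    rw [irrDeg_spec, hu_spec θ hθ]; push_cast; ring
  have hpd : (p : ℂ) ^ a = (p : ℂ) ^ blockDefect p e * (p : ℂ) ^ mv := by
    rw [hd, ← pow_add, Nat.sub_add_cancel hmva]
  -- local integrality of the pieces
  have hlr_ac : ∀ (ξ : IrrCharacter G) (θ : IrrCharacter C), MemLocalRing M (acoef x C ξ θ) :=
    fun ξ θ => memLocalRing_of_isIntegral hMp (isIntegral_acoef x C hxC hcomm ξ θ)
  have hlr_u : ∀ θ : IrrCharacter C, MemLocalRing M (u θ : ℂ) := fun θ => memLocalRing_natCast hMp _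
  -- x⁻¹
  have hcomm' : ∀ c : C, x⁻¹ * (c : G) = (c : G) * x⁻¹ := by
    intro c
    have := hcomm c
    calc x⁻¹ * (c : G) = x⁻¹ * ((c : G) * x) * x⁻¹ := by group
      _ = x⁻¹ * (x * (c : G)) * x⁻¹ := by rw [this]
      _ = (c : G) * x⁻¹ := by group
  have hxk' : x⁻¹ ^ (p ^ k) = 1 := by rw [inv_pow, hxk, inv_one]
  set W : IrrCharacter C → ℂ := fun θ => act (vfun p x⁻¹ C χ') θ with hW
  set K : IrrCharacter C → ℂ := fun θ => act (cfun p θ₀) θ with hK
  set V₀ : ℂ := act (vfun p x C χ) θ₀ with hV₀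
  have hW_lr : ∀ θ, MemLocalRing M (W θ) := fun θ =>
    act_lr hMp (isClassFunction_vfun p x⁻¹ C hcomm' χ') (lr_vfun hMp p x⁻¹ C χ') θ
  have hK_lr : ∀ θ, MemLocalRing M (K θ) := fun θ =>
    act_lr hMp (isClassFunction_cfun p θ₀) (lr_cfun hMp p θ₀) θ
  have hV₀_lr : MemLocalRing M V₀ :=
    act_lr hMp (isClassFunction_vfun p x C hcomm χ) (lr_vfun hMp p x C χ) θ₀
  have hW_diff : ∀ θ ∈ e, MemLocalIdeal M (W θ - W θ₀) := fun θ hθ =>
    act_sub_act_memLocalIdeal hMp (isClassFunction_vfun p x⁻¹ C hcomm' χ')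
      (lr_vfun hMp p x⁻¹ C χ') (sameBlock_of_mem hMp he hθ hθ₀)
  have hK_diff : ∀ θ ∈ e, MemLocalIdeal M (K θ - K θ₀) := fun θ hθ =>
    act_sub_act_memLocalIdeal hMp (isClassFunction_cfun p θ₀)
      (lr_cfun hMp p θ₀) (sameBlock_of_mem hMp he hθ hθ₀)
  have hW₀ : ¬ MemLocalIdeal M (W θ₀) :=
    act_vfun_not_li hM x⁻¹ k hxk' C hcomm' hind χ' hχ' hmin' θ₀ hθ₀
  have hV₀ : ¬ MemLocalIdeal M V₀ :=
    act_vfun_not_li hM x k hxk C hcomm hind χ hχ hmin θ₀ hθ₀
  set A : ℂ := ∑ θ : IrrCharacter C, if θ ∈ e then acoef x C χ θ * (u θ : ℂ) else 0 with hA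
  have hA_lr : MemLocalRing M A := by
    refine lr_sum hMp _ _ fun θ _ => ?_
    split_ifs
    · exact lr_mul hMp (hlr_ac χ θ) (hlr_u θ)
    · exact memLocalRing_zero hMp
  -- key1
  have key1 : (mm C p : ℂ) * ((p : ℂ) ^ blockDefect p e * contrib p x C e χ χ') =
      ∑ θ : IrrCharacter C, if θ ∈ e then acoef x C χ θ * (u θ : ℂ) * W θ else 0 := by
    rw [contrib_eq_sum_acoef hM x C hcomm e he χ χ', Finset.mul_sum, Finset.mul_sum]
    refine Finset.sum_congr rfl fun θ _ => ?_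
    by_cases hθ : θ ∈ e
    swap
    · rw [if_neg hθ, if_neg hθ, mul_zero, mul_zero]
    rw [if_pos hθ, if_pos hθ, conj_dnum_eq_act p x C hcomm χ' θ, hθ1 θ hθ, hNC, hpd]
    simp only [hW]
    have h1 := pow_ne_zero (blockDefect p e) hp0
    field_simp
  -- key3
  have key3 : (u θ₀ : ℂ) * V₀ =
      ∑ θ : IrrCharacter C, if θ ∈ e then acoef x C χ θ * (u θ : ℂ) * K θ else 0 := by
    have h1 := dnum_eq_act p x C χ θ₀
    rw [dnum_eq_sum_gram p x C hcomm χ θ₀] at h1
    have h2 : ∀ θ : IrrCharacter C, acoef x C χ θ * gram p θ θ₀ =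
        (Nat.card C : ℂ)⁻¹ * (if θ ∈ e then acoef x C χ θ * ((θ : C → ℂ) 1 * K θ) else 0) := by
      intro θ
      by_cases hθ : θ ∈ e
      swap
      · rw [if_neg hθ, gram_eq_zero' hM he hθ hθ₀]; ring
      rw [if_pos hθ]
      have h3 := pow_mul_gram p θ θ₀
      rw [N_symm] at h3
      have h4 := N_mul p θ₀ θ
      rw [← h3] at h4
      rw [← ha] at h4
      simp only [hK]
      rw [← h4, hNC]
      field_simp
    rw [Finset.sum_congr rfl (fun θ _ => h2 θ), ← Finset.mul_sum] at h1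
    have hN0 : (Nat.card C : ℂ)⁻¹ ≠ 0 := by
      rw [hNC]; exact inv_ne_zero (mul_ne_zero hpa hmm0)
    have h5 := mul_left_cancel₀ hN0 h1
    rw [hθ1 θ₀ hθ₀] at h5
    apply mul_left_cancel₀ hpmv
    rw [Finset.mul_sum]
    calc (p : ℂ) ^ mv * ((u θ₀ : ℂ) * V₀) = (p : ℂ) ^ mv * (u θ₀ : ℂ) * V₀ := by ring
      _ = _ := h5.symm
      _ = _ := by
        refine Finset.sum_congr rfl fun θ _ => ?_
        by_cases hθ : θ ∈ e
        · rw [if_pos hθ, if_pos hθ, hθ1 θ hθ]; ring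
        · rw [if_neg hθ, if_neg hθ, mul_zero]
  intro h0
  -- A ∈ li
  have hA_li : MemLocalIdeal M A := by
    have h1 : MemLocalIdeal M (A * W θ₀) := by
      have h2 : A * W θ₀ = (mm C p : ℂ) * ((p : ℂ) ^ blockDefect p e * contrib p x C e χ χ') -
          ∑ θ : IrrCharacter C,
          (if θ ∈ e then acoef x C χ θ * (u θ : ℂ) * (W θ - W θ₀) else 0) := by
        have h3 : ∑ θ : IrrCharacter C,
            (if θ ∈ e then acoef x C χ θ * (u θ : ℂ) * (W θ - W θ₀) else 0) =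
            (∑ θ : IrrCharacter C, if θ ∈ e then acoef x C χ θ * (u θ : ℂ) * W θ else 0) -
              A * W θ₀ := by
          rw [hA, Finset.sum_mul, ← Finset.sum_sub_distrib]
          refine Finset.sum_congr rfl fun θ _ => ?_
          split_ifs <;> ring
        rw [h3, ← key1]; ring
      rw [h2]
      refine li_sub hMp (li_mul_left hMp (memLocalRing_natCast hMp _) h0)
        (li_sum hMp _ _ fun θ _ => ?_)
      by_cases hθ : θ ∈ e
      · rw [if_pos hθ]
        exact li_mul_left hMp (lr_mul hMp (hlr_ac χ θ) (hlr_u θ)) (hW_diff θ hθ)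
      · rw [if_neg hθ]; exact memLocalIdeal_zero hMp
    rcases li_of_mul hMp hA_lr (hW_lr θ₀) h1 with h | h
    · exact h
    · exact absurd h hW₀
  -- contradiction through key3
  have h6 : MemLocalIdeal M ((u θ₀ : ℂ) * V₀) := by
    have h7 : (u θ₀ : ℂ) * V₀ = A * K θ₀ + ∑ θ : IrrCharacter C,
        (if θ ∈ e then acoef x C χ θ * (u θ : ℂ) * (K θ - K θ₀) else 0) := by
      rw [key3, hA, Finset.sum_mul, ← Finset.sum_add_distrib]
      refine Finset.sum_congr rfl fun θ _ => ?_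
      split_ifs <;> ring
    rw [h7]
    refine li_add hMp (li_mul_right hMp hA_li (hK_lr θ₀)) (li_sum hMp _ _ fun θ _ => ?_)
    by_cases hθ : θ ∈ e
    · rw [if_pos hθ]
      exact li_mul_left hMp (lr_mul hMp (hlr_ac χ θ) (hlr_u θ)) (hK_diff θ hθ)
    · rw [if_neg hθ]; exact memLocalIdeal_zero hMp
  rcases li_of_mul hMp (hlr_u θ₀) hV₀_lr h6 with h | h
  · exact hu0 ((memLocalIdeal_natCast_iff hM _).mp h)
  · exact hV₀ h


/-- The column sums `∑_χ D_{χθ} conj χ(t)`. -/
noncomputable def colFun [Fintype (IrrCharacter G)] (p : ℕ) (x : G) (C : Subgroup G) [Fintype C]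
    (θ : IrrCharacter C) (t : G) : ℂ :=
  ∑ χ : IrrCharacter G, dnum p x C χ θ * (starRingEnd ℂ) ((χ : G → ℂ) t)

/-- `colFun θ t = |C|⁻¹ ∑_{c reg} conj θ(c) ∑_χ χ(xc) conj χ(t)`. -/
theorem colFun_eq [Fintype (IrrCharacter G)] (p : ℕ) (x : G) (C : Subgroup G) [Fintype C]
    (θ : IrrCharacter C) (t : G) :
    colFun p x C θ t = (Nat.card C : ℂ)⁻¹ * ∑ c : C, rr p c * (starRingEnd ℂ) ((θ : C → ℂ) c) *
      ∑ χ : IrrCharacter G, (χ : G → ℂ) (x * (c : G)) * (starRingEnd ℂ) ((χ : G → ℂ) t) := by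
  simp only [colFun, dnum]
  simp_rw [Finset.mul_sum, Finset.sum_mul]
  rw [Finset.sum_comm]
  refine Finset.sum_congr rfl fun c _ => ?_
  refine Finset.sum_congr rfl fun χ _ => ?_
  simp only [rr]
  ring

/-- The column sums are algebraic integers. -/
theorem isIntegral_colFun [Fintype (IrrCharacter G)] {p : ℕ} [hp : Fact p.Prime] (x : G)
    (hx : ∃ k : ℕ, orderOf x = p ^ k)
    (C : Subgroup G) [Fintype C] [Fintype (IrrCharacter C)]
    (hcomm : ∀ c : C, x * (c : G) = (c : G) * x)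
    (hcent : Subgroup.centralizer ({x} : Set G) ≤ C) (θ : IrrCharacter C) (t : G) :
    IsIntegral ℤ (colFun p x C θ t) := by
  classical
  haveI : Finite G := Finite.of_fintype G
  haveI : Finite C := Finite.of_fintype C
  have hN0 : (Nat.card C : ℂ) ≠ 0 := by exact_mod_cast (Nat.card_pos (α := C)).ne'
  by_cases hex : ∃ c₀ : C, ¬ p ∣ orderOf c₀ ∧ IsConj (x * (c₀ : G)) t
  · obtain ⟨c₀, hc₀, hconj⟩ := hex
    have ht : ∀ χ : IrrCharacter G, (χ : G → ℂ) t = (χ : G → ℂ) (x * (c₀ : G)) := by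
      intro χ
      exact (IsClassFunction.eq_of_isConj (isClassFunction_irr χ) hconj).symm
    have h1 : colFun p x C θ t = (starRingEnd ℂ) ((θ : C → ℂ) c₀) := by
      rw [colFun_eq]
      have h2 : ∀ c : C, rr p c * (starRingEnd ℂ) ((θ : C → ℂ) c) *
          ∑ χ : IrrCharacter G, (χ : G → ℂ) (x * (c : G)) * (starRingEnd ℂ) ((χ : G → ℂ) t) =
          ∑ ψ : IrrCharacter C, (starRingEnd ℂ) ((ψ : C → ℂ) c₀) *
            (rr p c * (ψ : C → ℂ) c * (starRingEnd ℂ) ((θ : C → ℂ) c)) := by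
        intro c
        by_cases hc : p ∣ orderOf c
        · rw [rr_of_dvd hc]
          simp
        · simp_rw [ht]
          rw [sum_irr_section_eq x hx C hcomm hcent c c₀ hc hc₀, Finset.mul_sum]
          refine Finset.sum_congr rfl fun ψ _ => ?_
          ring
      rw [Finset.sum_congr rfl (fun c _ => h2 c), Finset.sum_comm, Finset.mul_sum]
      have h3 : ∀ ψ : IrrCharacter C, (Nat.card C : ℂ)⁻¹ * ∑ c : C,
          (starRingEnd ℂ) ((ψ : C → ℂ) c₀) *
            (rr p c * (ψ : C → ℂ) c * (starRingEnd ℂ) ((θ : C → ℂ) c)) =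
          (starRingEnd ℂ) (gram p θ ψ * (ψ : C → ℂ) c₀) := by
        intro ψ
        rw [map_mul, gram_conj]
        simp only [gram, classInner]
        rw [← Finset.mul_sum]
        ring
      rw [Finset.sum_congr rfl (fun ψ _ => h3 ψ), ← map_sum]
      congr 1
      have hcf : IsClassFunction C (fun c => rr p c * (θ : C → ℂ) c) :=
        isClassFunction_rr_mul p (isClassFunction_irr θ)
      have h4 := congrFun (IsClassFunction.eq_sum_classInner hcf) c₀
      simp only [Finset.sum_apply, Pi.smul_apply, smul_eq_mul] at h4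
      rw [rr_of_not_dvd hc₀, one_mul] at h4
      rw [h4]
      rfl
    rw [h1]
    exact (irr_isIntegral θ c₀).map (starRingEnd ℂ).toIntAlgHom
  · push Not at hex
    have h1 : colFun p x C θ t = 0 := by
      rw [colFun_eq]
      have : ∀ c : C, rr p c * (starRingEnd ℂ) ((θ : C → ℂ) c) *
          ∑ χ : IrrCharacter G, (χ : G → ℂ) (x * (c : G)) * (starRingEnd ℂ) ((χ : G → ℂ) t) = 0 := by
        intro c
        by_cases hc : p ∣ orderOf c
        · rw [rr_of_dvd hc]; simp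
        · rw [sum_irr_mul_conj, if_neg (hex c hc), mul_zero]
      rw [Finset.sum_congr rfl (fun c _ => this c), Finset.sum_const_zero, mul_zero]
    rw [h1]
    exact isIntegral_zero

/-- The class function `t ↦ ∑_χ' m_{χ'ψ} conj χ'(t)`. -/
noncomputable def thetaFun [Fintype (IrrCharacter G)] (p : ℕ) (x : G) (C : Subgroup G) [Fintype C]
    [Fintype (IrrCharacter C)] (e : Set (IrrCharacter C)) [DecidablePred (· ∈ e)]
    (ψ : IrrCharacter G) (t : G) : ℂ :=
  ∑ χ' : IrrCharacter G, contrib p x C e χ' ψ * (starRingEnd ℂ) ((χ' : G → ℂ) t)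

theorem thetaFun_eq [Fintype (IrrCharacter G)] {p : ℕ} [hp : Fact p.Prime]
    (hM : IsPModular p M) (x : G) (C : Subgroup G) [Fintype C] [Fintype (IrrCharacter C)]
    (hcomm : ∀ c : C, x * (c : G) = (c : G) * x)
    (e : Set (IrrCharacter C)) [DecidablePred (· ∈ e)] (he : IsPBlock M e)
    (ψ : IrrCharacter G) (t : G) :
    thetaFun p x C e ψ t = ∑ θ : IrrCharacter C,
      if θ ∈ e then (starRingEnd ℂ) (acoef x C ψ θ) * colFun p x C θ t else 0 := by
  simp only [thetaFun, colFun]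
  have h1 : ∀ χ' : IrrCharacter G, contrib p x C e χ' ψ = ∑ θ : IrrCharacter C,
      if θ ∈ e then (starRingEnd ℂ) (acoef x C ψ θ) * dnum p x C χ' θ else 0 := by
    intro χ'
    rw [← contrib_conj, contrib_eq_sum_acoef hM x C hcomm e he ψ χ', map_sum]
    refine Finset.sum_congr rfl fun θ _ => ?_
    split_ifs
    · rw [map_mul, Complex.conj_conj]
    · rw [map_zero]
  simp_rw [h1, Finset.sum_mul]
  rw [Finset.sum_comm]
  refine Finset.sum_congr rfl fun θ _ => ?_
  by_cases hθ : θ ∈ e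
  · simp only [if_pos hθ]
    rw [Finset.mul_sum]
    refine Finset.sum_congr rfl fun χ' _ => ?_
    ring
  · simp only [if_neg hθ, zero_mul, Finset.sum_const_zero]

theorem isIntegral_thetaFun [Fintype (IrrCharacter G)] {p : ℕ} [hp : Fact p.Prime]
    (hM : IsPModular p M) (x : G) (hx : ∃ k : ℕ, orderOf x = p ^ k)
    (C : Subgroup G) [Fintype C] [Fintype (IrrCharacter C)] (hxC : x ∈ C)
    (hcomm : ∀ c : C, x * (c : G) = (c : G) * x)
    (hcent : Subgroup.centralizer ({x} : Set G) ≤ C)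
    (e : Set (IrrCharacter C)) [DecidablePred (· ∈ e)] (he : IsPBlock M e)
    (ψ : IrrCharacter G) (t : G) :
    IsIntegral ℤ (thetaFun p x C e ψ t) := by
  rw [thetaFun_eq hM x C hcomm e he ψ t]
  refine IsIntegral.sum _ fun θ _ => ?_
  split_ifs
  · exact IsIntegral.mul ((isIntegral_acoef x C hxC hcomm ψ θ).map (starRingEnd ℂ).toIntAlgHom)
      (isIntegral_colFun x hx C hcomm hcent θ t)
  · exact isIntegral_zero

theorem isClassFunction_thetaFun [Fintype (IrrCharacter G)] (p : ℕ) (x : G) (C : Subgroup G)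
    [Fintype C] [Fintype (IrrCharacter C)] (e : Set (IrrCharacter C)) [DecidablePred (· ∈ e)]
    (ψ : IrrCharacter G) : IsClassFunction G (thetaFun p x C e ψ) := by
  haveI : Finite G := Finite.of_fintype G
  intro g h
  simp only [thetaFun]
  refine Finset.sum_congr rfl fun χ' _ => ?_
  rw [isClassFunction_irr χ' g h]

theorem act_thetaFun [Fintype (IrrCharacter G)] (p : ℕ) (x : G) (C : Subgroup G)
    [Fintype C] [Fintype (IrrCharacter C)] (e : Set (IrrCharacter C)) [DecidablePred (· ∈ e)]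
    (ψ χ : IrrCharacter G) :
    act (thetaFun p x C e ψ) χ = (Nat.card G : ℂ) * contrib p x C e χ ψ / (χ : G → ℂ) 1 := by
  classical
  haveI : Finite G := Finite.of_fintype G
  have hG0 : (Nat.card G : ℂ) ≠ 0 := by exact_mod_cast (Nat.card_pos (α := G)).ne'
  rw [act]
  congr 1
  simp only [thetaFun]
  simp_rw [Finset.sum_mul]
  rw [Finset.sum_comm]
  have h1 : ∀ χ' : IrrCharacter G, ∑ t : G,
      contrib p x C e χ' ψ * (starRingEnd ℂ) ((χ' : G → ℂ) t) * (χ : G → ℂ) t =
      (Nat.card G : ℂ) * (contrib p x C e χ' ψ * if χ = χ' then 1 else 0) := by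
    intro χ'
    rw [← classInner_irr χ χ', classInner]
    rw [Finset.mul_sum, Finset.mul_sum, Finset.mul_sum]
    refine Finset.sum_congr rfl fun t _ => ?_
    field_simp
  rw [Finset.sum_congr rfl (fun χ' _ => h1 χ'), ← Finset.mul_sum]
  congr 1
  rw [Finset.sum_eq_single χ]
  · rw [if_pos rfl, mul_one]
  · intro χ' _ hne
    rw [if_neg (Ne.symm hne), mul_zero]
  · intro h; exact absurd (Finset.mem_univ _) h


/-- **Major subsections**: if `e` and `e^G = B` have the same defect then `m_{χψ} ≠ 0` for all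
`χ ∈ B` and all height zero `ψ ∈ B`. -/
theorem contrib_ne_zero_major [Fintype (IrrCharacter G)] {p : ℕ} [hp : Fact p.Prime]
    (hM : IsPModular p M) (x : G) (hx : ∃ k : ℕ, orderOf x = p ^ k)
    (C : Subgroup G) [Fintype C] [Fintype (IrrCharacter C)] (hxC : x ∈ C)
    (hcomm : ∀ c : C, x * (c : G) = (c : G) * x)
    (hcent : Subgroup.centralizer ({x} : Set G) ≤ C)
    {e : Set (IrrCharacter C)} [DecidablePred (· ∈ e)] {B : Set (IrrCharacter G)}
    (hind : IsInducedBlock M C e B) (hdef : blockDefect p e = blockDefect p B)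
    (χ ψ : IrrCharacter G) (hχ : χ ∈ B) (hψ : ψ ∈ B)
    (hmin : ∀ ξ ∈ B, (irrDeg ψ).factorization p ≤ (irrDeg ξ).factorization p) :
    contrib p x C e χ ψ ≠ 0 := by
  classical
  haveI : Finite G := Finite.of_fintype G
  haveI : Finite C := Finite.of_fintype C
  have hMp := isPrime_of_isPModular hM
  have he : IsPBlock M e := hind.1
  have hB : IsPBlock M B := hind.2.1
  obtain ⟨k, hk⟩ := hx
  have hxk : x ^ (p ^ k) = 1 := by rw [← hk]; exact pow_orderOf_eq_one x
  have hx : ∃ k : ℕ, orderOf x = p ^ k := ⟨k, hk⟩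
  set c := thetaFun p x C e ψ with hc
  have hcf : IsClassFunction G c := isClassFunction_thetaFun p x C e ψ
  have hlr : ∀ t, MemLocalRing M (c t) := fun t =>
    memLocalRing_of_isIntegral hMp (isIntegral_thetaFun hM x hx C hxC hcomm hcent e he ψ t)
  have hdiff : MemLocalIdeal M (act c χ - act c ψ) :=
    act_sub_act_memLocalIdeal hMp hcf hlr (sameBlock_of_mem hMp hB hχ hψ)
  -- the value at `ψ`
  set a := (Nat.card G).factorization p with ha
  set mv := minVal p B with hmv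
  have hψv : (irrDeg ψ).factorization p = mv := by
    obtain ⟨θ₀, hθ₀, hθ₀v⟩ := exists_minVal p (IsPBlock.nonempty hMp hB)
    have h1 := hmin θ₀ hθ₀
    have h2 := minVal_le p hψ
    rw [hθ₀v] at h1
    exact le_antisymm h1 h2
  have hmva : mv ≤ a := by
    rw [← hψv]; exact factorization_irrDeg_le_card p ψ
  have hd : blockDefect p B = a - mv := blockDefect_eq p B
  set u : ℕ := irrDeg ψ / p ^ mv with hu
  have hu_spec : irrDeg ψ = p ^ mv * u := by
    have h1 : p ^ mv ∣ irrDeg ψ := by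
      rw [← hψv]; exact Nat.ordProj_dvd (irrDeg ψ) p
    rw [hu]; exact (Nat.mul_div_cancel' h1).symm
  have hu0 : ¬ p ∣ u := by
    rw [hu, ← hψv]
    exact Nat.not_dvd_ordCompl hp.out (irrDeg_pos ψ).ne'
  have hp0 : (p : ℂ) ≠ 0 := by exact_mod_cast hp.out.pos.ne'
  have hpmv : (p : ℂ) ^ mv ≠ 0 := pow_ne_zero _ hp0
  have hNG : (Nat.card G : ℂ) = (p : ℂ) ^ a * (mm G p : ℂ) := by
    have := Nat.ordProj_mul_ordCompl_eq_self (Nat.card G) p
    rw [← ha] at this
    have h2 : (Nat.card G : ℂ) = ((p ^ a * mm G p : ℕ) : ℂ) := by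
      congr 1; exact this.symm
    rw [h2]; push_cast; ring
  have hψ1 : (ψ : G → ℂ) 1 = (p : ℂ) ^ mv * (u : ℂ) := by
    rw [irrDeg_spec, hu_spec]; push_cast; ring
  have hu0' : (u : ℂ) ≠ 0 := by
    have : u ≠ 0 := fun h0 => hu0 (h0 ▸ dvd_zero p)
    exact_mod_cast this
  have hpa : (p : ℂ) ^ a = (p : ℂ) ^ blockDefect p e * (p : ℂ) ^ mv := by
    rw [hdef, hd, ← pow_add, Nat.sub_add_cancel hmva]
  have hval : (u : ℂ) * act c ψ =
      (mm G p : ℂ) * ((p : ℂ) ^ blockDefect p e * contrib p x C e ψ ψ) := by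
    rw [hc, act_thetaFun, hψ1, hNG, hpa]
    field_simp
  have hunit : ¬ MemLocalIdeal M (act c ψ) := by
    intro h0
    have h1 : MemLocalIdeal M ((mm G p : ℂ) *
        ((p : ℂ) ^ blockDefect p e * contrib p x C e ψ ψ)) := by
      rw [← hval]
      exact li_mul_left hMp (memLocalRing_natCast hMp _) h0
    have hlr2 : MemLocalRing M ((p : ℂ) ^ blockDefect p e * contrib p x C e ψ ψ) :=
      memLocalRing_of_isIntegral hMp (isIntegral_pow_mul_contrib hM x C hxC hcomm e he ψ ψ)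
    rcases li_of_mul hMp (memLocalRing_natCast hMp _) hlr2 h1 with h | h
    · exact (not_dvd_mm (G := G) p) ((memLocalIdeal_natCast_iff hM _).mp h)
    · exact pow_mul_contrib_not_li hM x k hxk C hxC hcomm hind ψ ψ hψ hψ hmin hmin h
  intro h0
  apply hunit
  have h1 : act c χ = 0 := by
    rw [hc, act_thetaFun, h0, mul_zero, zero_div]
  rw [h1, zero_sub] at hdiff
  have := li_neg hdiff
  rwa [neg_neg] at this

end Cfsg.Agent.Helper23.CM
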