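import Mathlib
import Cfsg.Prelude.Def_Blocks
import Cfsg.Prelude.Def_BlockRank
import Cfsg.Agent.Helper23.ContribI
import Cfsg.Agent.Helper5.BlockRankOne
import Cfsg.Agent.Helper5.BlockGalois

/-!
# A `2`-block of defect two with a major subsection `(x, e)`, `x` an involution, `l(e) = 1`,
has exactly four characters
-/

set_option autoImplicit false
set_option linter.unusedSectionVars false
set_option linter.unusedVariables false
set_option linter.unusedSimpArgs false
set_option linter.unnecessarySimpa false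
set_option linter.style.haveILetI false

namespace Cfsg.Agent.Helper23.KC

open Cfsg Cfsg.Agent.Helper24 Cfsg.Agent.Helper5.CC Cfsg.Agent.Helper5.Loc
open Cfsg.Agent.Helper8.SecCore Cfsg.Agent.Helper23.SubTr Cfsg.Agent.Helper8.HZI
open Cfsg.Agent.Helper8.IndHt Cfsg.Agent.Helper23.CM

/-- No integer squares to two. -/
theorem int_sq_ne_two (m : ℤ) : m * m ≠ 2 := by
  intro h
  have h1 : m ≤ 1 ∨ 2 ≤ m := by omega
  have h2 : -1 ≤ m ∨ m ≤ -2 := by omega
  rcases h1 with h1 | h1 <;> rcases h2 with h2 | h2 <;> nlinarith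

/-- No integer squares to three. -/
theorem int_sq_ne_three (m : ℤ) : m * m ≠ 3 := by
  intro h
  have h1 : m ≤ 1 ∨ 2 ≤ m := by omega
  have h2 : -1 ≤ m ∨ m ≤ -2 := by omega
  rcases h1 with h1 | h1 <;> rcases h2 with h2 | h2 <;> nlinarith

/-- The arithmetic of the contributions of a major subsection of rank one in a `2`-block of
defect two. -/
theorem card_eq_four_of_arith {ι : Type*} [DecidableEq ι] (S : Finset ι) (n : ι → ι → ℤ)
    (hpos : ∀ i ∈ S, 1 ≤ n i i) (hsum : ∑ i ∈ S, n i i = 4)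
    (hsq : ∀ i ∈ S, ∀ j ∈ S, n i j * n i j = n i i * n j j)
    (i₀ : ι) (hi₀ : i₀ ∈ S) (hodd : ¬ (2 : ℤ) ∣ n i₀ i₀) : S.card = 4 := by
  have hsplit : n i₀ i₀ + ∑ i ∈ S.erase i₀, n i i = 4 := by
    rw [Finset.add_sum_erase S (fun i => n i i) hi₀]; exact hsum
  have hrest : ∀ i ∈ S.erase i₀, n i i ≤ ∑ j ∈ S.erase i₀, n j j := by
    intro i hi
    exact Finset.single_le_sum (f := fun j => n j j)
      (fun j hj => le_trans zero_le_one (hpos j (Finset.mem_of_mem_erase hj))) hi
  have hrest0 : 0 ≤ ∑ j ∈ S.erase i₀, n j j :=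
    Finset.sum_nonneg fun j hj => le_trans zero_le_one (hpos j (Finset.mem_of_mem_erase hj))
  have h1 := hpos i₀ hi₀
  have hcases : n i₀ i₀ = 1 ∨ n i₀ i₀ = 3 := by
    have : n i₀ i₀ ≤ 4 := by omega
    omega
  rcases hcases with h | h
  · -- all diagonal entries are one
    have hall : ∀ i ∈ S, n i i = 1 := by
      intro i hi
      by_cases hii : i = i₀
      · rw [hii]; exact h
      · have hi' : i ∈ S.erase i₀ := Finset.mem_erase.mpr ⟨hii, hi⟩
        have h2 := hrest i hi'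
        have h3 := hpos i hi
        have h4 := hsq i hi i₀ hi₀
        rw [h, mul_one] at h4
        have h5 : n i i ≤ 3 := by omega
        have h6 : n i i = 1 ∨ n i i = 2 ∨ n i i = 3 := by omega
        rcases h6 with h6 | h6 | h6
        · exact h6
        · rw [h6] at h4; exact absurd h4 (int_sq_ne_two _)
        · rw [h6] at h4; exact absurd h4 (int_sq_ne_three _)
    rw [Finset.sum_congr rfl hall] at hsum
    simp at hsum
    exact_mod_cast hsum
  · exfalso
    have h2 : ∑ i ∈ S.erase i₀, n i i = 1 := by omega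
    have hne : (S.erase i₀).Nonempty := by
      by_contra hcon
      rw [Finset.not_nonempty_iff_eq_empty] at hcon
      rw [hcon, Finset.sum_empty] at h2
      exact absurd h2 (by norm_num)
    obtain ⟨i, hi⟩ := hne
    have h3 := hrest i hi
    have h4 := hpos i (Finset.mem_of_mem_erase hi)
    have h5 : n i i = 1 := by omega
    have h6 := hsq i (Finset.mem_of_mem_erase hi) i₀ hi₀
    rw [h5, h, one_mul] at h6
    exact int_sq_ne_three _ h6

variable {G : Type*} [Group G] [Fintype G] {M : Ideal AlgInt}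

/-- For `e` of rank one, the truncated decomposition numbers are proportional. -/
theorem dnum_proportional (x : G) (C : Subgroup G) [Fintype C] {p : ℕ} [hp : Fact p.Prime]
    {e : Set (IrrCharacter C)} (hrank : blockRank p e = 1) (θ₀ θ : IrrCharacter C)
    (hθ₀ : θ₀ ∈ e) (hθ : θ ∈ e) (χ : IrrCharacter G) :
    dnum p x C χ θ = ((irrDeg θ : ℂ) / (irrDeg θ₀ : ℂ)) * dnum p x C χ θ₀ := by
  haveI : Finite C := Finite.of_fintype C
  have key : ∀ c : C, (if p ∣ orderOf c then (0 : ℂ) else 1) * (χ : G → ℂ) (x * (c : G)) *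
      (starRingEnd ℂ) ((θ : C → ℂ) c) = ((irrDeg θ : ℂ) / (irrDeg θ₀ : ℂ)) *
      ((if p ∣ orderOf c then (0 : ℂ) else 1) * (χ : G → ℂ) (x * (c : G)) *
      (starRingEnd ℂ) ((θ₀ : C → ℂ) c)) := by
    intro c
    by_cases hc : p ∣ orderOf c
    · simp only [if_pos hc, zero_mul, mul_zero]
    · simp only [if_neg hc, one_mul]
      rw [Cfsg.Agent.Helper5.BR1.regular_proportional hrank θ₀ θ hθ₀ hθ c hc, map_mul, map_div₀,
        irrDeg_spec, irrDeg_spec, Complex.conj_natCast, Complex.conj_natCast]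
      ring
  unfold dnum
  rw [Finset.sum_congr rfl (fun c _ => key c), ← Finset.mul_sum]
  ring


/-- **The Klein four core lemma.** A `2`-block `B` of defect two with a subsection `(x, e)`,
`x` an involution, `e` of defect two and `l(e) = 1`, has exactly four characters. -/
theorem klein_core [Fintype (IrrCharacter G)] (hM : IsPModular 2 M) (x : G) (hx2 : orderOf x = 2)
    (C : Subgroup G) [Fintype C] [Fintype (IrrCharacter C)] (hxC : x ∈ C)
    (hcomm : ∀ c : C, x * (c : G) = (c : G) * x)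
    (hcent : Subgroup.centralizer ({x} : Set G) ≤ C)
    {e : Set (IrrCharacter C)} {B : Set (IrrCharacter G)}
    (hind : IsInducedBlock M C e B) (hde : blockDefect 2 e = 2) (hdB : blockDefect 2 B = 2)
    (hrank : blockRank 2 e = 1) : Nat.card B = 4 := by
  classical
  haveI : Fact (Nat.Prime 2) := ⟨Nat.prime_two⟩
  haveI : Finite G := Finite.of_fintype G
  haveI : Finite C := Finite.of_fintype C
  have hMp := isPrime_of_isPModular hM
  have he : IsPBlock M e := hind.1
  have hB : IsPBlock M B := hind.2.1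
  have hx : ∃ k : ℕ, orderOf x = 2 ^ k := ⟨1, by rw [hx2, pow_one]⟩
  have hxk : x ^ (2 ^ 1) = 1 := by rw [pow_one, ← hx2]; exact pow_orderOf_eq_one x
  -- integrality
  choose lam hlam1 hlamn hlam using fun θ => exists_acoef_pow x C hxC hcomm θ
  choose nf hnf using fun χ θ => rmult_nat C χ θ
  have hlam_int : ∀ θ, ∃ s : ℤ, lam θ = s := by
    intro θ
    have h := hlam1 θ
    rw [hx2] at h
    have h0 : (lam θ - 1) * (lam θ + 1) = 0 := by
      have : (lam θ - 1) * (lam θ + 1) = lam θ ^ 2 - 1 := by ring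
      rw [this, h, sub_self]
    rcases mul_eq_zero.mp h0 with h1 | h1
    · exact ⟨1, by rw [sub_eq_zero.mp h1]; simp⟩
    · exact ⟨-1, by rw [eq_neg_of_add_eq_zero_left h1]; simp⟩
  choose sg hsg using hlam_int
  have hacoef : ∀ χ θ, acoef x C χ θ = ((sg θ * nf χ θ : ℤ) : ℂ) := by
    intro χ θ
    have h := hlam θ χ 1
    rw [pow_one, pow_one] at h
    rw [h, hsg θ, hnf χ θ]
    push_cast
    ring
  have hgex : ∀ θ θ' : IrrCharacter C, ∃ n : ℤ, θ' ∈ e → (4 : ℂ) * gram 2 θ θ' = n := by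
    intro θ θ'
    by_cases hθ' : θ' ∈ e
    · obtain ⟨n, hn⟩ := exists_int_pow_mul_gram 2 e θ θ' hθ'
      rw [hde] at hn
      refine ⟨n, fun _ => ?_⟩
      rw [← hn]
      norm_num
    · exact ⟨0, fun h => absurd h hθ'⟩
  choose gi hgi using hgex
  set n : IrrCharacter G → IrrCharacter G → ℤ := fun χ ψ =>
    ∑ θ : IrrCharacter C, ∑ θ' : IrrCharacter C,
      if θ ∈ e ∧ θ' ∈ e then sg θ * nf χ θ * (sg θ' * nf ψ θ') * gi θ θ' else 0 with hndef
  have hn : ∀ χ ψ, (n χ ψ : ℂ) = 4 * contrib 2 x C e χ ψ := by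
    intro χ ψ
    rw [contrib_eq_sum_gram hM x C hcomm e he χ ψ]
    simp only [hndef]
    push_cast
    rw [Finset.mul_sum]
    refine Finset.sum_congr rfl fun θ _ => ?_
    rw [Finset.mul_sum]
    refine Finset.sum_congr rfl fun θ' _ => ?_
    by_cases h : θ ∈ e ∧ θ' ∈ e
    · rw [if_pos h, if_pos h, hacoef, hacoef, map_intCast]
      have := hgi θ θ' h.2
      push_cast
      linear_combination (-(sg θ : ℂ) * (nf χ θ : ℂ) * ((sg θ' : ℂ) * (nf ψ θ' : ℂ))) * this
    · rw [if_neg h, if_neg h, mul_zero]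
  have hcontrib : ∀ χ ψ, contrib 2 x C e χ ψ = (n χ ψ : ℂ) / 4 := by
    intro χ ψ
    rw [hn]; ring
  -- symmetry
  have hsymm : ∀ χ ψ, n χ ψ = n ψ χ := by
    intro χ ψ
    apply Int.cast_injective (α := ℂ)
    rw [hn ψ χ, ← contrib_conj, hcontrib χ ψ, map_div₀, map_intCast]
    have : (starRingEnd ℂ) (4 : ℂ) = 4 := by
      rw [show (4 : ℂ) = ((4 : ℕ) : ℂ) by norm_num, Complex.conj_natCast]
    rw [this]
    ring
  have hreal : ∀ χ ψ, (starRingEnd ℂ) (contrib 2 x C e χ ψ) = contrib 2 x C e χ ψ := by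
    intro χ ψ
    rw [contrib_conj, hcontrib, hcontrib, hsymm]
  -- idempotence
  have hidem : ∀ χ χ', ∑ χ'' : IrrCharacter G, n χ χ'' * n χ' χ'' = 4 * n χ χ' := by
    intro χ χ'
    apply Int.cast_injective (α := ℂ)
    push_cast
    have h1 := contrib_idem hM x hx C hcomm hcent e he χ χ'
    simp_rw [hreal] at h1
    rw [hn χ χ', ← h1, Finset.mul_sum, Finset.mul_sum]
    refine Finset.sum_congr rfl fun χ'' _ => ?_
    rw [hn, hn]
    ring
  -- trace
  have htrace : ∑ χ : IrrCharacter G, n χ χ = 4 := by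
    apply Int.cast_injective (α := ℂ)
    push_cast
    have h1 := contrib_trace hM x hx C hcomm hcent e he
    rw [hrank] at h1
    simp_rw [hn]
    rw [← Finset.mul_sum, h1]
    norm_num
  -- vanishing outside `B`
  have hzero : ∀ χ, χ ∉ B → n χ χ = 0 := by
    intro χ hχ
    apply Int.cast_injective (α := ℂ)
    rw [hn, contrib_eq_zero_left hM x hx C hxC hcomm hcent B e hind χ χ hχ]
    simp
  -- rank one
  obtain ⟨θ₀, hθ₀⟩ := IsPBlock.nonempty hMp he
  have hrk : ∀ χ ψ, n χ ψ * n χ ψ = n χ χ * n ψ ψ := by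
    intro χ ψ
    set r : IrrCharacter C → ℂ := fun θ => (irrDeg θ : ℂ) / (irrDeg θ₀ : ℂ) with hr
    have hrc : ∀ θ, (starRingEnd ℂ) (r θ) = r θ := by
      intro θ
      simp only [hr]
      rw [map_div₀, Complex.conj_natCast, Complex.conj_natCast]
    set R : ℂ := ∑ θ : IrrCharacter C, if θ ∈ e then r θ * r θ else 0 with hR
    have hform : ∀ χ ψ : IrrCharacter G, contrib 2 x C e χ ψ =
        R * (dnum 2 x C χ θ₀ * (starRingEnd ℂ) (dnum 2 x C ψ θ₀)) := by
      intro χ ψ
      simp only [contrib, hR]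
      rw [Finset.sum_mul]
      refine Finset.sum_congr rfl fun θ _ => ?_
      by_cases hθ : θ ∈ e
      · rw [if_pos hθ, if_pos hθ, dnum_proportional x C hrank θ₀ θ hθ₀ hθ χ,
          dnum_proportional x C hrank θ₀ θ hθ₀ hθ ψ, map_mul]
        have := hrc θ
        simp only [hr] at this
        rw [this]
        ring
      · rw [if_neg hθ, if_neg hθ, zero_mul]
    have h1 : contrib 2 x C e χ ψ * contrib 2 x C e ψ χ =
        contrib 2 x C e χ χ * contrib 2 x C e ψ ψ := by
      rw [hform χ ψ, hform ψ χ, hform χ χ, hform ψ ψ]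
      ring
    apply Int.cast_injective (α := ℂ)
    push_cast
    rw [hn χ ψ, hn χ χ, hn ψ ψ]
    have h2 : contrib 2 x C e ψ χ = contrib 2 x C e χ ψ := by
      rw [hcontrib, hcontrib, hsymm]
    rw [h2] at h1
    linear_combination 16 * h1
  -- a height zero character
  obtain ⟨ψ₀, hψ₀, hψ₀v⟩ := exists_minVal 2 (IsPBlock.nonempty hMp hB)
  have hmin : ∀ ξ ∈ B, (irrDeg ψ₀).factorization 2 ≤ (irrDeg ξ).factorization 2 := by
    intro ξ hξ
    rw [hψ₀v]
    exact minVal_le 2 hξ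
  have hodd : ¬ (2 : ℤ) ∣ n ψ₀ ψ₀ := by
    intro hdvd
    have h1 := pow_mul_contrib_not_li hM x 1 hxk C hxC hcomm hind ψ₀ ψ₀ hψ₀ hψ₀ hmin hmin
    apply h1
    rw [hde]
    have h2 : ((2 : ℕ) : ℂ) ^ 2 * contrib 2 x C e ψ₀ ψ₀ = ((n ψ₀ ψ₀ : ℤ) : ℂ) := by
      rw [hn]; norm_num
    rw [h2]
    exact (Cfsg.Agent.Helper5.BG.memLocalIdeal_intCast_iff hM _).mpr (by exact_mod_cast hdvd)
  have hpos : ∀ χ ∈ B, 1 ≤ n χ χ := by
    intro χ hχ
    have h1 : contrib 2 x C e χ ψ₀ ≠ 0 :=
      contrib_ne_zero_major hM x hx C hxC hcomm hcent hind (by rw [hde, hdB]) χ ψ₀ hχ hψ₀ hmin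
    have h2 : n χ ψ₀ ≠ 0 := by
      intro h0
      apply h1
      rw [hcontrib, h0]
      simp
    have h3 := hidem χ χ
    have h4 : n χ ψ₀ * n χ ψ₀ ≤ ∑ χ'' : IrrCharacter G, n χ χ'' * n χ χ'' :=
      Finset.single_le_sum (f := fun χ'' => n χ χ'' * n χ χ'')
        (fun χ'' _ => mul_self_nonneg _) (Finset.mem_univ ψ₀)
    have h5 : 0 < n χ ψ₀ * n χ ψ₀ := mul_self_pos.mpr h2
    omega
  -- conclusion
  set S : Finset (IrrCharacter G) := Finset.univ.filter (· ∈ B) with hS
  have hcard : Nat.card B = S.card := by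
    rw [Nat.card_eq_fintype_card, hS]
    exact Fintype.card_subtype _
  rw [hcard]
  refine card_eq_four_of_arith S n ?_ ?_ ?_ ψ₀ ?_ hodd
  · intro χ hχ
    exact hpos χ (Finset.mem_filter.mp hχ).2
  · rw [hS, Finset.sum_filter, ← htrace]
    refine Finset.sum_congr rfl fun χ _ => ?_
    by_cases hχ : χ ∈ B
    · rw [if_pos hχ]
    · rw [if_neg hχ, hzero χ hχ]
  · intro χ _ ψ _
    exact hrk χ ψ
  · exact Finset.mem_filter.mpr ⟨Finset.mem_univ _, hψ₀⟩

end Cfsg.Agent.Helper23.KC
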