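import Mathlib
import Cfsg.Prelude.Def_Blocks
import Cfsg.Prelude.Def_BlockRank
import Cfsg.Prelude.Def_BrauerPairs
import Cfsg.Agent.Helper23.KleinCore
import Cfsg.Agent.Helper23.AbelianLocal
import Cfsg.Agent.Helper23.InducedDefect
import Cfsg.Agent.Helper5.CentralDefect2
import Cfsg.Agent.Helper8.SectionCount2

/-!
# Tools for the local analysis of blocks with Klein four defect groups
-/

set_option autoImplicit false
set_option linter.unusedSectionVars false
set_option linter.unusedVariables false
set_option linter.unusedSimpArgs false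
set_option linter.unnecessarySimpa false
set_option linter.style.haveILetI false

namespace Cfsg.Agent.Helper23.KLA

open Cfsg Cfsg.Agent.Helper24 Cfsg.Agent.Helper5 Cfsg.Agent.Helper5.CC Cfsg.Agent.Helper5.Loc

section General

variable {G : Type*} [Group G]

/-- The `p`-regular rank of a nonempty set of irreducible characters is positive. -/
theorem blockRank_pos [Finite G] (p : ℕ) [hp : Fact p.Prime] {B : Set (IrrCharacter G)}
    (hne : ∃ χ, χ ∈ B) : 0 < blockRank p B := by
  classical
  obtain ⟨χ, hχ⟩ := hne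
  unfold blockRank
  rw [Module.finrank_pos_iff_exists_ne_zero]
  refine ⟨⟨pRegularPart p (χ : G → ℂ), Submodule.subset_span ⟨χ, hχ, rfl⟩⟩, ?_⟩
  intro h0
  have h1 : pRegularPart p (χ : G → ℂ) = 0 := congrArg Subtype.val h0
  have h2 := congrFun h1 1
  unfold pRegularPart IsPRegular at h2
  rw [if_pos (by rw [orderOf_one]; exact fun h => hp.out.one_lt.ne' (Nat.dvd_one.mp h))] at h2
  have h3 : (χ : G → ℂ) 1 ≠ 0 := by
    rw [irrDeg_spec]
    exact_mod_cast (irrDeg_pos χ).ne'
  exact h3 h2

/-- A system of representatives of the classes of `p`-elements containing a given set of pairwise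
non-conjugate `p`-elements. -/
theorem exists_reps [Fintype G] [DecidableEq G] {p : ℕ} (S₀ : Finset G)
    (hS₀ : ∀ x ∈ S₀, ∃ k : ℕ, orderOf x = p ^ k)
    (hnc : ∀ x ∈ S₀, ∀ y ∈ S₀, IsConj x y → x = y) :
    ∃ X : Finset G, S₀ ⊆ X ∧ (∀ x ∈ X, ∃ k : ℕ, orderOf x = p ^ k) ∧
      (∀ g : G, (∃ k : ℕ, orderOf g = p ^ k) → ∃! x, x ∈ X ∧ IsConj g x) := by
  classical
  set rep : G → G := fun g =>
    if h : ∃ s ∈ S₀, IsConj g s then Classical.choose h else (ConjClasses.mk g).out with hrep
  have hrep1 : ∀ g, IsConj g (rep g) := by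
    intro g
    simp only [hrep]
    by_cases h : ∃ s ∈ S₀, IsConj g s
    · rw [dif_pos h]
      exact (Classical.choose_spec h).2
    · rw [dif_neg h]
      have : ConjClasses.mk (ConjClasses.mk g).out = ConjClasses.mk g := Quotient.out_eq _
      exact (ConjClasses.mk_eq_mk_iff_isConj.mp this).symm
  have hrep2 : ∀ g g', IsConj g g' → rep g = rep g' := by
    intro g g' hgg
    simp only [hrep]
    by_cases h : ∃ s ∈ S₀, IsConj g s
    · have h' : ∃ s ∈ S₀, IsConj g' s := by
        obtain ⟨s, hs, hgs⟩ := h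
        exact ⟨s, hs, hgg.symm.trans hgs⟩
      rw [dif_pos h, dif_pos h']
      have h1 := Classical.choose_spec h
      have h2 := Classical.choose_spec h'
      exact hnc _ h1.1 _ h2.1 (h1.2.symm.trans (hgg.trans h2.2))
    · have h' : ¬ ∃ s ∈ S₀, IsConj g' s := by
        rintro ⟨s, hs, hgs⟩
        exact h ⟨s, hs, hgg.trans hgs⟩
      rw [dif_neg h, dif_neg h']
      have : ConjClasses.mk g = ConjClasses.mk g' := ConjClasses.mk_eq_mk_iff_isConj.mpr hgg
      rw [this]
  have hrep3 : ∀ s ∈ S₀, rep s = s := by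
    intro s hs
    simp only [hrep]
    have h : ∃ s' ∈ S₀, IsConj s s' := ⟨s, hs, IsConj.refl s⟩
    rw [dif_pos h]
    have h1 := Classical.choose_spec h
    exact (hnc _ hs _ h1.1 h1.2).symm
  have hord : ∀ g g' : G, IsConj g g' → orderOf g' = orderOf g := by
    intro g g' hgg
    obtain ⟨c, hc⟩ := isConj_iff.mp hgg
    rw [← hc]
    exact orderOf_injective (MulAut.conj c).toMonoidHom (MulAut.conj c).injective g
  refine ⟨(Finset.univ.filter (fun g : G => ∃ k : ℕ, orderOf g = p ^ k)).image rep, ?_, ?_, ?_⟩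
  · intro s hs
    rw [Finset.mem_image]
    exact ⟨s, Finset.mem_filter.mpr ⟨Finset.mem_univ _, hS₀ s hs⟩, hrep3 s hs⟩
  · intro x hx
    rw [Finset.mem_image] at hx
    obtain ⟨g, hg, rfl⟩ := hx
    obtain ⟨k, hk⟩ := (Finset.mem_filter.mp hg).2
    exact ⟨k, by rw [hord g _ (hrep1 g), hk]⟩
  · intro g hg
    refine ⟨rep g, ⟨Finset.mem_image.mpr ⟨g, Finset.mem_filter.mpr ⟨Finset.mem_univ _, hg⟩, rfl⟩,
      hrep1 g⟩, ?_⟩
    rintro y ⟨hy, hgy⟩
    rw [Finset.mem_image] at hy
    obtain ⟨g', -, rfl⟩ := hy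
    exact (hrep2 g g' (hgy.trans (hrep1 g').symm)).symm

/-- The structure of a Klein four subgroup around one of its involutions. -/
theorem klein_struct (D : Subgroup G) (hV : IsKleinFour D) (z : G) (hzD : z ∈ D) (hz1 : z ≠ 1) :
    ∃ v ∈ D, v ≠ 1 ∧ v ≠ z ∧ ∀ d ∈ D, d = 1 ∨ d = z ∨ d = v ∨ d = z * v := by
  classical
  haveI := hV
  haveI : Finite D := Nat.finite_of_card_ne_zero (by rw [IsKleinFour.card_four]; norm_num)
  haveI : Fintype D := Fintype.ofFinite _
  have hcard : Fintype.card D = 4 := IsKleinFour.card_four'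
  have hex : ∃ y : D, y ∉ ({1, ⟨z, hzD⟩} : Finset D) := by
    by_contra hcon
    push Not at hcon
    have h1 : (Finset.univ : Finset D) ⊆ {1, ⟨z, hzD⟩} := fun y _ => hcon y
    have h2 := Finset.card_le_card h1
    rw [Finset.card_univ, hcard] at h2
    have h3 : ({1, ⟨z, hzD⟩} : Finset D).card ≤ 2 := Finset.card_le_two
    omega
  obtain ⟨y, hy⟩ := hex
  rw [Finset.mem_insert, Finset.mem_singleton, not_or] at hy
  have hz1' : (⟨z, hzD⟩ : D) ≠ 1 := fun h => hz1 (congrArg Subtype.val h)
  refine ⟨(y : G), y.2, fun h => hy.1 (Subtype.ext h), fun h => hy.2 (Subtype.ext h), ?_⟩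
  intro d hd
  by_cases h1 : d = 1
  · exact Or.inl h1
  by_cases h2 : d = z
  · exact Or.inr (Or.inl h2)
  by_cases h3 : d = (y : G)
  · exact Or.inr (Or.inr (Or.inl h3))
  right; right; right
  have := IsKleinFour.eq_mul_of_ne_all (G := D) (x := ⟨z, hzD⟩) (y := y) (z := ⟨d, hd⟩) hz1' hy.1
    (fun h => hy.2 h.symm) (fun h => h1 (congrArg Subtype.val h))
    (fun h => h2 (congrArg Subtype.val h)) (fun h => h3 (congrArg Subtype.val h))
  exact congrArg Subtype.val this

theorem klein_mul_self (D : Subgroup G) (hV : IsKleinFour D) {d : G} (hd : d ∈ D) : d * d = 1 := by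
  haveI := hV
  exact congrArg Subtype.val (IsKleinFour.mul_self (⟨d, hd⟩ : D))

theorem klein_comm (D : Subgroup G) (hV : IsKleinFour D) :
    ∀ x ∈ D, ∀ y ∈ D, x * y = y * x := by
  haveI := hV
  intro x hx y hy
  exact congrArg Subtype.val
    (mul_comm_of_exponent_two (G := D) IsKleinFour.exponent_two (⟨x, hx⟩ : D) ⟨y, hy⟩)

theorem klein_orderOf (D : Subgroup G) (hV : IsKleinFour D) {d : G} (hd : d ∈ D) (hd1 : d ≠ 1) :
    orderOf d = 2 :=
  orderOf_eq_prime (by rw [pow_two]; exact klein_mul_self D hV hd) hd1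

end General


section Fin

open Cfsg.Agent.Helper8.SecCount Cfsg.Agent.Helper23.IDf Cfsg.Agent.Helper23.AL

variable {G : Type*} [Group G] [Fintype G] {M : Ideal AlgInt}

/-- **A central `p`-element contributes `l(B)` to Brauer's count.** -/
theorem term_central [Fintype (IrrCharacter G)] {p : ℕ} [hp : Fact p.Prime]
    (hM : IsPModular p M) (B : Set (IrrCharacter G)) (hB : IsPBlock M B) (z : G)
    (hz : ∃ k : ℕ, orderOf z = p ^ k) (hzc : ∀ g : G, g * z = z * g) :
    (∑ᶠ b ∈ {b : Set (IrrCharacter ↥(Subgroup.centralizer ({z} : Set G))) |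
        IsInducedBlock M (Subgroup.centralizer ({z} : Set G)) b B}, blockRank p b) =
      blockRank p B := by
  classical
  haveI : Finite G := Finite.of_fintype G
  apply Nat.cast_injective (R := ℂ)
  have hG0 : (Nat.card G : ℂ) ≠ 0 := by exact_mod_cast (Nat.card_pos (α := G)).ne'
  have h1 := term_eq hM B hB z hz
  have h0 := term_eq hM B hB (1 : G) ⟨0, by simp⟩
  rw [term_one hM B hB] at h0
  have hcz : Nat.card (Subgroup.centralizer ({z} : Set G)) = Nat.card G := by
    have : Subgroup.centralizer ({z} : Set G) = ⊤ := by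
      ext g
      simp only [Subgroup.mem_centralizer_iff, Set.mem_singleton_iff, Subgroup.mem_top, iff_true]
      intro h hh
      rw [hh]
      exact (hzc g).symm
    rw [this, Nat.card_congr Subgroup.topEquiv.toEquiv]
  have hc1 : Nat.card (Subgroup.centralizer ({(1 : G)} : Set G)) = Nat.card G := by
    have : Subgroup.centralizer ({(1 : G)} : Set G) = ⊤ := by
      ext g
      simp [Subgroup.mem_centralizer_iff]
    rw [this, Nat.card_congr Subgroup.topEquiv.toEquiv]
  rw [hcz] at h1
  rw [hc1] at h0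
  have hFB : ∀ y : G, FB B (z * y) = FB B (1 * y) := by
    intro y
    simp only [FB]
    refine Finset.sum_congr rfl fun χ _ => ?_
    by_cases hχ : χ ∈ B
    swap
    · rw [if_neg hχ, if_neg hχ]
    rw [if_pos hχ, if_pos hχ, one_mul]
    obtain ⟨ω, hω1, hω⟩ := exists_central_scalar χ z hzc
    have h2 := hω y 1
    rw [pow_one, pow_one, hzc y] at h2
    rw [h2, map_mul]
    have hωnorm : ω * (starRingEnd ℂ) ω = 1 := by
      rw [Complex.mul_conj, Complex.normSq_eq_norm_sq]
      have h3 : ‖ω‖ = 1 := Complex.norm_eq_one_of_pow_eq_one hω1 (orderOf_pos z).ne'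
      rw [h3]; simp
    calc ω * (χ : G → ℂ) y * ((starRingEnd ℂ) ω * (starRingEnd ℂ) ((χ : G → ℂ) y))
        = (ω * (starRingEnd ℂ) ω) * ((χ : G → ℂ) y * (starRingEnd ℂ) ((χ : G → ℂ) y)) := by ring
      _ = _ := by rw [hωnorm, one_mul]
  have hsum : ∑ y : G, (if (z * y = y * z ∧ ¬ p ∣ orderOf y) then FB B (z * y) else 0) =
      ∑ y : G, (if ((1 : G) * y = y * 1 ∧ ¬ p ∣ orderOf y) then FB B (1 * y) else 0) := by
    refine Finset.sum_congr rfl fun y _ => ?_
    by_cases hy : p ∣ orderOf y
    · rw [if_neg (fun h => h.2 hy), if_neg (fun h => h.2 hy)]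
    · rw [if_pos ⟨(hzc y).symm, hy⟩, if_pos ⟨by rw [one_mul, mul_one], hy⟩, hFB]
  rw [hsum, h0] at h1
  exact (mul_left_cancel₀ hG0 h1).symm

/-- **Abelian defect groups: the root of a block.** -/
theorem exists_root_abelian {p : ℕ} [hp : Fact p.Prime] (hM : IsPModular p M)
    (B : Set (IrrCharacter G)) (hB : IsPBlock M B) (D : Subgroup G)
    (hD : IsDefectGroup p M B D) (hab : ∀ x ∈ D, ∀ y ∈ D, x * y = y * x) :
    ∃ c : Set (IrrCharacter (Subgroup.centralizer (D : Set G))),
      IsMaximalBrauerPair p M B D c ∧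
      IsInducedBlock M (Subgroup.centralizer (D : Set G)) c B ∧
      blockDefect p c = blockDefect p B ∧ blockRank p c = 1 := by
  classical
  haveI : Finite G := Finite.of_fintype G
  haveI : Fintype (IrrCharacter G) := Fintype.ofFinite _
  haveI : Fintype (Subgroup.centralizer (D : Set G)) := Fintype.ofFinite _
  haveI : Fintype (IrrCharacter (Subgroup.centralizer (D : Set G))) := Fintype.ofFinite _
  obtain ⟨c, hmax⟩ := exists_pair_at_defectGroup hM B hB D hD
  have hind := isInducedBlock_of_pair_abelian hM D hab c B hmax.1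
  have hdef := isDefectGroup_center_of_maximal hM B D c hmax
  have hDC : D ≤ Subgroup.centralizer (D : Set G) := by
    intro x hx
    rw [Subgroup.mem_centralizer_iff]
    intro y hy
    exact hab y hy x hx
  rw [inf_eq_left.mpr hDC] at hdef
  have hc : IsPBlock M c := hind.1
  refine ⟨c, hmax, hind, ?_, ?_⟩
  · have h1 := card_defectGroup hM hc hdef
    have h2 := card_defectGroup hM hB hD
    have h3 : Nat.card (D.subgroupOf (Subgroup.centralizer (D : Set G))) = Nat.card D :=
      Nat.card_congr (Subgroup.subgroupOfEquivOfLe hDC).toEquiv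
    rw [h3, h2] at h1
    exact (Nat.pow_right_injective hp.out.two_le h1).symm
  · apply Cfsg.Agent.Helper5.CD.blockRank_eq_one_of_central hM hc hdef
    intro x hx
    rw [Subgroup.mem_center_iff]
    intro g
    apply Subtype.ext
    have hx' : (x : G) ∈ D := Subgroup.mem_subgroupOf.mp hx
    have := g.2
    rw [Subgroup.mem_centralizer_iff] at this
    simp only [Subgroup.coe_mul]
    exact (this _ hx').symm


/-- **A `2`-block with a Klein four defect group containing a central involution has four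
characters and `2`-regular rank one.** -/
theorem klein_central [Fintype (IrrCharacter G)] (hM : IsPModular 2 M)
    (B : Set (IrrCharacter G)) (hB : IsPBlock M B) (D : Subgroup G)
    (hD : IsDefectGroup 2 M B D) (hV : IsKleinFour D) (z : G) (hzD : z ∈ D) (hz1 : z ≠ 1)
    (hzc : ∀ g : G, g * z = z * g) : blockRank 2 B = 1 ∧ Nat.card B = 4 := by
  classical
  haveI : Fact (Nat.Prime 2) := ⟨Nat.prime_two⟩
  haveI : Finite G := Finite.of_fintype G
  have hMp := isPrime_of_isPModular hM
  obtain ⟨v, hvD, hv1, hvz, hmem⟩ := klein_struct D hV z hzD hz1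
  have hab := klein_comm D hV
  obtain ⟨c, hmax, hind, hdef, hrank⟩ := exists_root_abelian hM B hB D hD hab
  have hdB : blockDefect 2 B = 2 := by
    have h2 := card_defectGroup hM hB hD
    haveI := hV
    rw [IsKleinFour.card_four] at h2
    have h3 : 2 ^ 2 = 2 ^ blockDefect 2 B := by rw [← h2]; norm_num
    exact (Nat.pow_right_injective (le_refl 2) h3).symm
  have hK : Subgroup.centralizer (D : Set G) = Subgroup.centralizer ({v} : Set G) := by
    ext h
    simp only [Subgroup.mem_centralizer_iff]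
    constructor
    · intro hh w hw
      rw [Set.mem_singleton_iff] at hw
      rw [hw]
      exact hh v hvD
    · intro hh d hd
      have hv : v * h = h * v := hh v rfl
      rcases hmem d hd with rfl | rfl | rfl | rfl
      · simp
      · exact (hzc h).symm
      · exact hv
      · rw [mul_assoc, hv, ← mul_assoc, ← hzc h, mul_assoc]
  have key : ∀ K : Subgroup G, Subgroup.centralizer (D : Set G) = K →
      ∃ e : Set (IrrCharacter K), IsInducedBlock M K e B ∧ blockDefect 2 e = 2 ∧
        blockRank 2 e = 1 := by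
    rintro _ rfl
    exact ⟨c, hind, by rw [hdef, hdB], hrank⟩
  obtain ⟨e, heind, hede, herank⟩ := key _ hK
  haveI : Fintype (Subgroup.centralizer ({v} : Set G)) := Fintype.ofFinite _
  haveI : Fintype (IrrCharacter (Subgroup.centralizer ({v} : Set G))) := Fintype.ofFinite _
  have hvC : v ∈ Subgroup.centralizer ({v} : Set G) := by
    rw [Subgroup.mem_centralizer_iff]
    intro w hw
    rw [Set.mem_singleton_iff] at hw
    rw [hw]
  have hcomm : ∀ c : Subgroup.centralizer ({v} : Set G), v * (c : G) = (c : G) * v := by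
    intro c
    have := c.2
    rw [Subgroup.mem_centralizer_iff] at this
    exact this v rfl
  have hv2 : orderOf v = 2 := klein_orderOf D hV hvD hv1
  have hz2 : orderOf z = 2 := klein_orderOf D hV hzD hz1
  have hcard : Nat.card B = 4 :=
    Cfsg.Agent.Helper23.KC.klein_core hM v hv2 _ hvC hcomm le_rfl heind hede hdB herank
  refine ⟨?_, hcard⟩
  -- representatives
  have hcz : ∀ a : G, IsConj z a → a = z := by
    intro a ha
    obtain ⟨g, hg⟩ := isConj_iff.mp ha
    rw [← hg, hzc g, mul_assoc, mul_inv_cancel, mul_one]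
  have hnc : ∀ x ∈ ({1, z, v} : Finset G), ∀ y ∈ ({1, z, v} : Finset G), IsConj x y → x = y := by
    intro x hx y hy hxy
    simp only [Finset.mem_insert, Finset.mem_singleton] at hx hy
    rcases hx with rfl | rfl | rfl
    · exact (isConj_one_right.mp hxy).symm
    · exact (hcz y hxy).symm
    · rcases hy with rfl | rfl | rfl
      · exact isConj_one_left.mp hxy
      · exact hcz _ hxy.symm
      · rfl
  have hS₀ : ∀ x ∈ ({1, z, v} : Finset G), ∃ k : ℕ, orderOf x = 2 ^ k := by
    intro x hx
    simp only [Finset.mem_insert, Finset.mem_singleton] at hx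
    rcases hx with rfl | rfl | rfl
    · exact ⟨0, by simp⟩
    · exact ⟨1, by rw [hz2, pow_one]⟩
    · exact ⟨1, by rw [hv2, pow_one]⟩
  obtain ⟨X, hS₀X, hX, hXrep⟩ := exists_reps (p := 2) ({1, z, v} : Finset G) hS₀ hnc
  have hmain := main hM B hB X hX hXrep
  set T : G → ℕ := fun x =>
    ∑ᶠ b ∈ {b : Set (IrrCharacter ↥(Subgroup.centralizer ({x} : Set G))) |
      IsInducedBlock M (Subgroup.centralizer ({x} : Set G)) b B}, blockRank 2 b with hT
  have hle : ∑ x ∈ ({1, z, v} : Finset G), T x ≤ ∑ x ∈ X, T x :=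
    Finset.sum_le_sum_of_subset hS₀X
  have h3 : ∑ x ∈ ({1, z, v} : Finset G), T x = T 1 + (T z + T v) := by
    rw [Finset.sum_insert, Finset.sum_insert, Finset.sum_singleton]
    · rw [Finset.mem_singleton]; exact fun h => hvz h.symm
    · rw [Finset.mem_insert, Finset.mem_singleton, not_or]
      exact ⟨fun h => hz1 h.symm, fun h => hv1 h.symm⟩
  have hT1 : T 1 = blockRank 2 B := term_one hM B hB
  have hTz : T z = blockRank 2 B := term_central hM B hB z ⟨1, by rw [hz2, pow_one]⟩ hzc
  have hTv : 1 ≤ T v := by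
    simp only [hT]
    have hfin : ({b : Set (IrrCharacter ↥(Subgroup.centralizer ({v} : Set G))) |
        IsInducedBlock M (Subgroup.centralizer ({v} : Set G)) b B}).Finite := Set.toFinite _
    rw [finsum_mem_eq_finite_toFinset_sum _ hfin]
    have hmem' : e ∈ hfin.toFinset := by
      rw [Set.Finite.mem_toFinset]
      exact heind
    have := Finset.single_le_sum (f := fun b => blockRank 2 b) (fun b _ => Nat.zero_le _) hmem'
    rw [herank] at this
    exact this
  have hpos := blockRank_pos 2 (IsPBlock.nonempty hMp hB)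
  rw [hcard] at hmain
  have : ∑ x ∈ X, T x = 4 := hmain.symm
  omega

end Fin

end Cfsg.Agent.Helper23.KLA
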