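import Mathlib
import Cfsg.Prelude.Def_Blocks
import Cfsg.Prelude.Def_BlockRank
import Cfsg.Prelude.Def_BrauerPairs
import Cfsg.Agent.Helper23.KleinLocalA
import Cfsg.Agent.Helper23.AbelianDefect
import Cfsg.Agent.Helper23.BlockFusion
import Cfsg.Agent.Helper23.MaxConj

/-!
# Subsections of a block with a Klein four defect group have rank one
-/

set_option autoImplicit false
set_option linter.unusedSectionVars false
set_option linter.unusedVariables false
set_option linter.unusedSimpArgs false
set_option linter.unnecessarySimpa false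
set_option linter.style.haveILetI false

namespace Cfsg.Agent.Helper23.KLB

open Cfsg Cfsg.Agent.Helper24 Cfsg.Agent.Helper5 Cfsg.Agent.Helper5.CC Cfsg.Agent.Helper5.Loc
open Cfsg.Agent.Helper23.BT Cfsg.Agent.Helper23.KLA

section Transport

variable {X Y : Type*} [Group X] [Group Y]

/-- The `p`-regular rank is invariant under transport along isomorphisms. -/
theorem blockRank_pullBlock (p : ℕ) (φ : X ≃* Y) (b : Set (IrrCharacter Y)) :
    blockRank p (pullBlock φ b) = blockRank p b := by
  classical
  unfold blockRank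
  set L : (Y → ℂ) ≃ₗ[ℂ] (X → ℂ) := LinearEquiv.funCongrLeft ℂ ℂ φ.toEquiv with hL
  have hLap : ∀ (f : Y → ℂ) (x : X), L f x = f (φ x) := fun f x => rfl
  have hreg : ∀ χ : IrrCharacter Y, L (pRegularPart p (χ : Y → ℂ)) =
      pRegularPart p (pullIrr φ χ : X → ℂ) := by
    intro χ
    funext x
    rw [hLap]
    unfold pRegularPart IsPRegular
    rw [MulEquiv.orderOf_eq φ x]
    rfl
  have himg : (fun ξ : IrrCharacter X => pRegularPart p (ξ : X → ℂ)) '' (pullBlock φ b) =
      L '' ((fun χ : IrrCharacter Y => pRegularPart p (χ : Y → ℂ)) '' b) := by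
    ext f
    constructor
    · rintro ⟨ξ, hξ, rfl⟩
      refine ⟨pRegularPart p (pullIrr φ.symm ξ : Y → ℂ), ⟨pullIrr φ.symm ξ, hξ, rfl⟩, ?_⟩
      rw [hreg, pullIrr_pullIrr_symm]
    · rintro ⟨_, ⟨χ, hχ, rfl⟩, rfl⟩
      exact ⟨pullIrr φ χ, (pullIrr_mem_pullBlock_iff φ b χ).mpr hχ, (hreg χ).symm⟩
  rw [himg]
  have h1 : Submodule.span ℂ (L '' ((fun χ : IrrCharacter Y => pRegularPart p (χ : Y → ℂ)) '' b)) =
      (Submodule.span ℂ ((fun χ : IrrCharacter Y => pRegularPart p (χ : Y → ℂ)) '' b)).map
        (L : (Y → ℂ) →ₗ[ℂ] (X → ℂ)) := (Submodule.map_span _ _).symm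
  rw [h1]
  exact LinearEquiv.finrank_map_eq L _

/-- The defect is invariant under transport along isomorphisms. -/
theorem blockDefect_pullBlock (p : ℕ) (φ : X ≃* Y) (b : Set (IrrCharacter Y)) :
    blockDefect p (pullBlock φ b) = blockDefect p b := by
  unfold blockDefect
  have himg : (fun ξ : IrrCharacter X => (charDegree (ξ : X → ℂ)).factorization p) ''
      (pullBlock φ b) =
      (fun χ : IrrCharacter Y => (charDegree (χ : Y → ℂ)).factorization p) '' b := by
    ext n
    constructor
    · rintro ⟨ξ, hξ, rfl⟩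
      refine ⟨pullIrr φ.symm ξ, hξ, ?_⟩
      simp only
      unfold charDegree
      rw [pullIrr_apply, map_one]
    · rintro ⟨χ, hχ, rfl⟩
      refine ⟨pullIrr φ χ, (pullIrr_mem_pullBlock_iff φ b χ).mpr hχ, ?_⟩
      simp only
      unfold charDegree
      rw [pullIrr_apply, map_one]
  rw [himg, Nat.card_congr φ.toEquiv]

/-- A group of order four and exponent two is a Klein four group. -/
theorem isKleinFour_of_card_of_sq {P : Type*} [Group P] (hP : Nat.card P = 4)
    (hexp : ∀ x : P, x * x = 1) : IsKleinFour P := by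
  refine ⟨hP, ?_⟩
  have hdvd : Monoid.exponent P ∣ 2 := by
    apply Monoid.exponent_dvd_of_forall_pow_eq_one
    intro x
    rw [pow_two]; exact hexp x
  have hne : Monoid.exponent P ≠ 1 := by
    intro h
    have := Monoid.exp_eq_one_iff.mp h
    have h1 : Nat.card P = 1 := Nat.card_unique
    omega
  rcases (Nat.dvd_prime Nat.prime_two).mp hdvd with h | h
  · exact absurd h hne
  · exact h

end Transport

section Pairs

open Cfsg.Agent.Helper23.MC Cfsg.Agent.Helper23.AD Cfsg.Agent.Helper23.SU Cfsg.Agent.Helper23.PC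
open Cfsg.Agent.Helper23.PP

variable {G : Type*} [Group G] [Fintype G] {M : Ideal AlgInt}

/-- **Every nontrivial Brauer pair of a block with a Klein four defect group carries a block of
rank one and defect two.** -/
theorem pair_rank_one (hM : IsPModular 2 M) (B : Set (IrrCharacter G)) (P : Subgroup G)
    (c : Set (IrrCharacter (Subgroup.centralizer (P : Set G))))
    (hmax : IsMaximalBrauerPair 2 M B P c) (hV : IsKleinFour P)
    (Q : Subgroup G) (f : Set (IrrCharacter (Subgroup.centralizer (Q : Set G))))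
    (hQf : IsBrauerPairOf 2 M B Q f) (hQ1 : Q ≠ ⊥) :
    blockRank 2 f = 1 ∧ blockDefect 2 f = 2 := by
  classical
  haveI : Fact (Nat.Prime 2) := ⟨Nat.prime_two⟩
  haveI : Finite G := Finite.of_fintype G
  have hab := klein_comm P hV
  obtain ⟨g, hle⟩ := exists_conj_subpairLE hM B P Q c f hmax hQf
  have hQ'P : Q.map (MulAut.conj g).toMonoidHom ≤ P :=
    fst_le_of_reflTransGen (⟨_, conjBlock Q g f⟩ : BrauerPairIdx G) ⟨P, c⟩ hle
  have hf' : IsPBlock M (conjBlock Q g f) := isPBlock_conjBlock Q g hQf.1.2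
  have hD := isDefectGroup_of_abelian hM B P c hmax hab _ (conjBlock Q g f) hQ'P hf' hle
  have hPK : P ≤ Subgroup.centralizer
      ((Q.map (MulAut.conj g).toMonoidHom : Subgroup G) : Set G) :=
    le_centralizer_of_abelian hab hQ'P
  haveI : Fintype (Subgroup.centralizer
      ((Q.map (MulAut.conj g).toMonoidHom : Subgroup G) : Set G)) := Fintype.ofFinite _
  haveI : Fintype (IrrCharacter (Subgroup.centralizer
      ((Q.map (MulAut.conj g).toMonoidHom : Subgroup G) : Set G))) := Fintype.ofFinite _
  -- the defect group is a Klein four group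
  have hVD : IsKleinFour (P.subgroupOf (Subgroup.centralizer
      ((Q.map (MulAut.conj g).toMonoidHom : Subgroup G) : Set G))) := by
    apply isKleinFour_of_card_of_sq
    · rw [Nat.card_congr (Subgroup.subgroupOfEquivOfLe hPK).toEquiv]
      haveI := hV
      exact IsKleinFour.card_four
    · intro x
      apply Subtype.ext
      apply Subtype.ext
      have hx : ((x : Subgroup.centralizer
          ((Q.map (MulAut.conj g).toMonoidHom : Subgroup G) : Set G)) : G) ∈ P :=
        Subgroup.mem_subgroupOf.mp x.2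
      exact klein_mul_self P hV hx
  -- a central involution
  obtain ⟨q, hq1⟩ := (Subgroup.ne_bot_iff_exists_ne_one).mp hQ1
  have hzQ' : g * (q : G) * g⁻¹ ∈ Q.map (MulAut.conj g).toMonoidHom :=
    ⟨(q : G), q.2, by simp [MulAut.conj_apply]⟩
  have hz1 : g * (q : G) * g⁻¹ ≠ 1 := by
    intro h
    apply hq1
    apply Subtype.ext
    have : (q : G) = g⁻¹ * (g * (q : G) * g⁻¹) * g := by group
    rw [this, h]
    simp
  set z : Subgroup.centralizer ((Q.map (MulAut.conj g).toMonoidHom : Subgroup G) : Set G) :=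
    ⟨g * (q : G) * g⁻¹, hPK (hQ'P hzQ')⟩ with hz
  have hzD : z ∈ P.subgroupOf (Subgroup.centralizer
      ((Q.map (MulAut.conj g).toMonoidHom : Subgroup G) : Set G)) :=
    Subgroup.mem_subgroupOf.mpr (hQ'P hzQ')
  have hz1' : z ≠ 1 := fun h => hz1 (congrArg Subtype.val h)
  have hzc : ∀ h : Subgroup.centralizer
      ((Q.map (MulAut.conj g).toMonoidHom : Subgroup G) : Set G), h * z = z * h := by
    intro h
    apply Subtype.ext
    have := (Subgroup.mem_centralizer_iff.mp h.2) _ hzQ'
    simp only [Subgroup.coe_mul, hz]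
    exact this.symm
  obtain ⟨hrank, -⟩ := klein_central hM (conjBlock Q g f) hf' _ hD hVD z hzD hz1' hzc
  have hdef : blockDefect 2 (conjBlock Q g f) = 2 := by
    have h2 := card_defectGroup hM hf' hD
    haveI := hVD
    rw [IsKleinFour.card_four] at h2
    have h3 : 2 ^ 2 = 2 ^ blockDefect 2 (conjBlock Q g f) := by rw [← h2]; norm_num
    exact (Nat.pow_right_injective (le_refl 2) h3).symm
  rw [conjBlock_eq_pullBlock, blockRank_pullBlock] at hrank
  rw [conjBlock_eq_pullBlock, blockDefect_pullBlock] at hdef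
  exact ⟨hrank, hdef⟩

end Pairs

end Cfsg.Agent.Helper23.KLB
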