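import Mathlib
import Cfsg.Prelude.Def_Blocks
import Cfsg.Prelude.Def_BlockRank
import Cfsg.Prelude.Def_BrauerPairs
import Cfsg.Agent.Helper23.KleinLocalB
import Cfsg.Agent.Helper23.MaxOfDefect
import Cfsg.Agent.Helper23.AbelianLocal
import Cfsg.Agent.Helper23.InertialIndex
import Cfsg.Agent.Helper23.NilpotentFusion
import Cfsg.Agent.Helper23.BlockFusionSys
import Cfsg.Agent.Helper23.StabBlock

/-!
# Counting the subsections of a block with a Klein four defect group
-/

set_option autoImplicit false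
set_option linter.unusedSectionVars false
set_option linter.unusedVariables false
set_option linter.unusedSimpArgs false
set_option linter.unnecessarySimpa false
set_option linter.style.haveILetI false

namespace Cfsg.Agent.Helper23.KCt

open Cfsg Cfsg.Agent.Helper24 Cfsg.Agent.Helper5 Cfsg.Agent.Helper5.CC Cfsg.Agent.Helper5.Loc
open Cfsg.Agent.Helper23.BT Cfsg.Agent.Helper23.KLA Cfsg.Agent.Helper23.KLB
open Cfsg.Agent.Helper23.MC Cfsg.Agent.Helper23.AD Cfsg.Agent.Helper23.SU Cfsg.Agent.Helper23.PC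
open Cfsg.Agent.Helper23.PP Cfsg.Agent.Helper23.MOD Cfsg.Agent.Helper23.AL Cfsg.Agent.Helper23.SP
open Cfsg.Agent.Helper23.LD Cfsg.Agent.Helper23.II Cfsg.Agent.Helper23.NF Cfsg.Agent.Helper23.BFS
open Cfsg.Agent.Helper23.ST

section Basic

variable {G : Type*} [Group G]

/-- The centralizer of an element is the centralizer of the cyclic subgroup it generates. -/
theorem centralizer_singleton_eq (x : G) :
    Subgroup.centralizer ({x} : Set G) =
      Subgroup.centralizer ((Subgroup.zpowers x : Subgroup G) : Set G) := by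
  ext h
  rw [Subgroup.mem_centralizer_iff, Subgroup.mem_centralizer_iff]
  constructor
  · intro hh y hy
    obtain ⟨k, rfl⟩ := Subgroup.mem_zpowers_iff.mp hy
    have h1 : Commute x h := hh x rfl
    exact (h1.zpow_left k).eq
  · intro hh y hy
    rw [Set.mem_singleton_iff] at hy
    rw [hy]
    exact hh x (Subgroup.mem_zpowers x)

theorem mem_zpowers_of_orderOf_two {u y : G} (h2 : orderOf u = 2) (hy : y ∈ Subgroup.zpowers u) :
    y = 1 ∨ y = u := by
  obtain ⟨k, rfl⟩ := Subgroup.mem_zpowers_iff.mp hy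
  rw [← zpow_mod_orderOf, h2]
  rcases Int.emod_two_eq_zero_or_one k with h | h
  · left; rw [show k % ((2 : ℕ) : ℤ) = 0 from h, zpow_zero]
  · right; rw [show k % ((2 : ℕ) : ℤ) = 1 from h, zpow_one]

theorem map_zpowers_conj (g x : G) :
    (Subgroup.zpowers x).map (MulAut.conj g).toMonoidHom = Subgroup.zpowers (g * x * g⁻¹) := by
  rw [MonoidHom.map_zpowers]
  rfl

/-- A pair index with a prescribed first component. -/
theorem exists_snd_eq (a : BrauerPairIdx G) (Q : Subgroup G) (h : a.1 = Q) :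
    ∃ b : Set (IrrCharacter (Subgroup.centralizer (Q : Set G))),
      (⟨Q, b⟩ : BrauerPairIdx G) = a := by
  obtain ⟨Q', b⟩ := a
  simp only at h
  subst h
  exact ⟨b, rfl⟩

/-- The contribution of a subgroup to Brauer's count. -/
noncomputable def secTerm (M : Ideal AlgInt) (p : ℕ) (B : Set (IrrCharacter G)) (K : Subgroup G) :
    ℕ :=
  ∑ᶠ b ∈ {b : Set (IrrCharacter K) | IsInducedBlock M K b B}, blockRank p b

end Basic


section Fin

variable {G : Type*} [Group G] [Fintype G] {M : Ideal AlgInt}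

/-- Elements centralizing `x` fix the pairs on `⟨x⟩`. -/
theorem cjPair_eq_of_commute (x h : G) (hxh : h * x * h⁻¹ = x)
    (b : Set (IrrCharacter (Subgroup.centralizer ((Subgroup.zpowers x : Subgroup G) : Set G)))) :
    cjPair h (⟨Subgroup.zpowers x, b⟩ : BrauerPairIdx G) = ⟨Subgroup.zpowers x, b⟩ := by
  have hc : h ∈ Subgroup.centralizer ({x} : Set G) := by
    rw [Subgroup.mem_centralizer_iff]
    intro y hy
    rw [Set.mem_singleton_iff] at hy
    rw [hy]
    calc x * h = h * x * h⁻¹ * h := by rw [hxh]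
      _ = h * x := by group
  rw [centralizer_singleton_eq] at hc
  apply cjPair_eq_self (Subgroup.zpowers x) b h (Subgroup.centralizer_le_normalizer _ hc)
  exact stabilizesBlock_of_mem_sup _ b h⁻¹ (Subgroup.mem_sup_right (Subgroup.inv_mem _ hc))

theorem isPGroup_zpowers {p : ℕ} {x : G} (hx : ∃ k : ℕ, orderOf x = p ^ k) :
    IsPGroup p (Subgroup.zpowers x) := by
  obtain ⟨k, hk⟩ := hx
  apply IsPGroup.of_card (n := k)
  rw [Nat.card_zpowers, hk]

theorem zpowers_comm (x : G) : ∀ a ∈ Subgroup.zpowers x, ∀ b ∈ Subgroup.zpowers x,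
    a * b = b * a := by
  intro a ha b hb
  obtain ⟨i, rfl⟩ := Subgroup.mem_zpowers_iff.mp ha
  obtain ⟨j, rfl⟩ := Subgroup.mem_zpowers_iff.mp hb
  rw [← zpow_add, ← zpow_add, add_comm]

/-- **Every subsection is conjugate to one below the maximal pair.** -/
theorem classify (hM : IsPModular 2 M) (B : Set (IrrCharacter G)) (P : Subgroup G)
    (c : Set (IrrCharacter (Subgroup.centralizer (P : Set G))))
    (hmax : IsMaximalBrauerPair 2 M B P c) (x : G) (hx : ∃ k : ℕ, orderOf x = 2 ^ k)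
    (b : Set (IrrCharacter (Subgroup.centralizer ((Subgroup.zpowers x : Subgroup G) : Set G))))
    (hb : IsInducedBlock M (Subgroup.centralizer ((Subgroup.zpowers x : Subgroup G) : Set G)) b B) :
    ∃ g : G, g * x * g⁻¹ ∈ P ∧ Relation.ReflTransGen (NormalSubpairRel 2 M)
      (cjPair g (⟨Subgroup.zpowers x, b⟩ : BrauerPairIdx G)) ⟨P, c⟩ := by
  haveI : Fact (Nat.Prime 2) := ⟨Nat.prime_two⟩
  have hpair := isBrauerPairOf_of_induced hM (Subgroup.zpowers x) (isPGroup_zpowers hx) b B hb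
  obtain ⟨g, hle⟩ := exists_conj_subpairLE hM B P (Subgroup.zpowers x) c b hmax hpair
  refine ⟨g, ?_, hle⟩
  have h1 : (Subgroup.zpowers x).map (MulAut.conj g).toMonoidHom ≤ P :=
    fst_le_of_reflTransGen (⟨_, conjBlock (Subgroup.zpowers x) g b⟩ : BrauerPairIdx G) ⟨P, c⟩ hle
  apply h1
  exact ⟨x, Subgroup.mem_zpowers x, by simp [MulAut.conj_apply]⟩

/-- **Every involution of `P` gives a subsection.** -/
theorem exists_marked [DecidableEq G] (hM : IsPModular 2 M) (B : Set (IrrCharacter G)) (P : Subgroup G)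
    (c : Set (IrrCharacter (Subgroup.centralizer (P : Set G))))
    (hmax : IsMaximalBrauerPair 2 M B P c) (hV : IsKleinFour P) (X : Finset G)
    (hXrep : ∀ g : G, (∃ k : ℕ, orderOf g = 2 ^ k) → ∃! x, x ∈ X ∧ IsConj g x)
    (u : G) (huP : u ∈ P) (hu1 : u ≠ 1) :
    ∃ (x : G) (b : Set (IrrCharacter (Subgroup.centralizer
        ((Subgroup.zpowers x : Subgroup G) : Set G)))) (g : G) (a : BrauerPairIdx G),
      x ∈ X.erase 1 ∧
      IsInducedBlock M (Subgroup.centralizer ((Subgroup.zpowers x : Subgroup G) : Set G)) b B ∧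
      g * u * g⁻¹ = x ∧ a.1 = Subgroup.zpowers u ∧
      Relation.ReflTransGen (NormalSubpairRel 2 M) a ⟨P, c⟩ ∧
      (⟨Subgroup.zpowers x, b⟩ : BrauerPairIdx G) = cjPair g a := by
  classical
  haveI : Fact (Nat.Prime 2) := ⟨Nat.prime_two⟩
  have hPe := hmax.1.1
  have hB := hmax.1.2.1
  have hu2 : orderOf u = 2 := klein_orderOf P hV huP hu1
  obtain ⟨x, ⟨hxX, hconj⟩, -⟩ := hXrep u ⟨1, by rw [hu2, pow_one]⟩
  obtain ⟨g, hg⟩ := isConj_iff.mp hconj
  have hx1 : x ≠ 1 := by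
    intro h
    apply hu1
    rw [h] at hg
    have : u = g⁻¹ * (g * u * g⁻¹) * g := by group
    rw [this, hg]
    simp
  obtain ⟨f, hf, hle⟩ := exists_subpair hM _ P c (Subgroup.zpowers u) hPe
    (Subgroup.zpowers_le.mpr huP) rfl
  have hle' : Relation.ReflTransGen (NormalSubpairRel 2 M)
      (⟨Subgroup.zpowers u, f⟩ : BrauerPairIdx G) ⟨P, c⟩ := hle
  have hfst : (cjPair g (⟨Subgroup.zpowers u, f⟩ : BrauerPairIdx G)).1 = Subgroup.zpowers x := by
    show (Subgroup.zpowers u).map (MulAut.conj g).toMonoidHom = Subgroup.zpowers x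
    rw [map_zpowers_conj, hg]
  obtain ⟨b, hb⟩ := exists_snd_eq _ _ hfst
  refine ⟨x, b, g, ⟨Subgroup.zpowers u, f⟩, Finset.mem_erase.mpr ⟨hx1, hxX⟩, ?_, hg, rfl, hle', hb⟩
  have hpa : IsBrauerPairOf 2 M B (Subgroup.zpowers u) f :=
    (isBrauerPairOf_iff_of_subpairLE hM B hB (⟨Subgroup.zpowers u, f⟩ : BrauerPairIdx G) ⟨P, c⟩
      hle').mp hmax.1
  have hpc := isBrauerPairOf_conj g hpa
  have hpb : IsBrauerPairOf 2 M B (⟨Subgroup.zpowers x, b⟩ : BrauerPairIdx G).1
      (⟨Subgroup.zpowers x, b⟩ : BrauerPairIdx G).2 := by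
    rw [hb]
    exact hpc
  exact isInducedBlock_of_pair_abelian hM (Subgroup.zpowers x) (zpowers_comm x) b B hpb


/-- The blocks of `C_G(x)` inducing `B`, as a finite set. -/
noncomputable def Sfin (M : Ideal AlgInt) (B : Set (IrrCharacter G)) (x : G) :
    Finset (Set (IrrCharacter (Subgroup.centralizer
      ((Subgroup.zpowers x : Subgroup G) : Set G)))) :=
  haveI : Finite G := Finite.of_fintype G
  (Set.toFinite {b : Set (IrrCharacter (Subgroup.centralizer
    ((Subgroup.zpowers x : Subgroup G) : Set G))) |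
    IsInducedBlock M (Subgroup.centralizer ((Subgroup.zpowers x : Subgroup G) : Set G)) b B}).toFinset

theorem mem_Sfin (B : Set (IrrCharacter G)) (x : G)
    (b : Set (IrrCharacter (Subgroup.centralizer ((Subgroup.zpowers x : Subgroup G) : Set G)))) :
    b ∈ Sfin M B x ↔
      IsInducedBlock M (Subgroup.centralizer ((Subgroup.zpowers x : Subgroup G) : Set G)) b B := by
  unfold Sfin
  rw [Set.Finite.mem_toFinset]
  rfl

/-- The count of the nontrivial subsections as the cardinality of a finite set. -/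
theorem sum_secTerm_eq_card [DecidableEq G] (hM : IsPModular 2 M) (B : Set (IrrCharacter G))
    (P : Subgroup G) (c : Set (IrrCharacter (Subgroup.centralizer (P : Set G))))
    (hmax : IsMaximalBrauerPair 2 M B P c) (hV : IsKleinFour P) (X : Finset G)
    (hX : ∀ x ∈ X, ∃ k : ℕ, orderOf x = 2 ^ k) :
    ∑ x ∈ X.erase 1, secTerm M 2 B (Subgroup.centralizer
      ((Subgroup.zpowers x : Subgroup G) : Set G)) = ((X.erase 1).sigma (Sfin M B)).card := by
  classical
  haveI : Fact (Nat.Prime 2) := ⟨Nat.prime_two⟩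
  haveI : Finite G := Finite.of_fintype G
  rw [Finset.card_sigma]
  refine Finset.sum_congr rfl fun x hx => ?_
  obtain ⟨hx1, hxX⟩ := Finset.mem_erase.mp hx
  unfold secTerm
  have hfin : ({b : Set (IrrCharacter (Subgroup.centralizer
      ((Subgroup.zpowers x : Subgroup G) : Set G))) |
      IsInducedBlock M (Subgroup.centralizer ((Subgroup.zpowers x : Subgroup G) : Set G)) b B}).Finite :=
    Set.toFinite _
  rw [finsum_mem_eq_finite_toFinset_sum _ hfin]
  have h1 : ∀ b ∈ hfin.toFinset, blockRank 2 b = 1 := by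
    intro b hb
    rw [Set.Finite.mem_toFinset] at hb
    have hpair := isBrauerPairOf_of_induced hM (Subgroup.zpowers x) (isPGroup_zpowers (hX x hxX))
      b B hb
    exact (pair_rank_one hM B P c hmax hV (Subgroup.zpowers x) b hpair
      (Subgroup.zpowers_ne_bot.mpr hx1)).1
  rw [Finset.sum_congr rfl h1, Finset.sum_const, smul_eq_mul, mul_one]
  rfl

/-- **The transitive case: exactly one class of nontrivial subsections.** -/
theorem count_transitive [DecidableEq G] (hM : IsPModular 2 M) (B : Set (IrrCharacter G))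
    (P : Subgroup G) (c : Set (IrrCharacter (Subgroup.centralizer (P : Set G))))
    (hmax : IsMaximalBrauerPair 2 M B P c) (hV : IsKleinFour P) (T : Subgroup G)
    (hT : ∀ g : G, g ∈ T ↔ (g ∈ Subgroup.normalizer (P : Set G) ∧
      StabilizesBlock (Subgroup.centralizer (P : Set G)) c g))
    (htrans : ∀ u ∈ P, u ≠ 1 → ∀ u' ∈ P, u' ≠ 1 → ∃ t ∈ T, t * u * t⁻¹ = u')
    (X : Finset G) (hX : ∀ x ∈ X, ∃ k : ℕ, orderOf x = 2 ^ k)
    (hXrep : ∀ g : G, (∃ k : ℕ, orderOf g = 2 ^ k) → ∃! x, x ∈ X ∧ IsConj g x) :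
    ∑ x ∈ X.erase 1, secTerm M 2 B (Subgroup.centralizer
      ((Subgroup.zpowers x : Subgroup G) : Set G)) = 1 := by
  classical
  haveI : Fact (Nat.Prime 2) := ⟨Nat.prime_two⟩
  have hPe := hmax.1.1
  rw [sum_secTerm_eq_card hM B P c hmax hV X hX, Finset.card_eq_one]
  have hPbot : P ≠ ⊥ := by
    intro h
    haveI := hV
    have h4 : Nat.card P = 4 := IsKleinFour.card_four
    rw [h] at h4
    simp at h4
  obtain ⟨u₀', hu₀1'⟩ := (Subgroup.ne_bot_iff_exists_ne_one).mp hPbot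
  set u₀ : G := (u₀' : G) with hu₀def
  have hu₀P : u₀ ∈ P := u₀'.2
  have hu₀1 : u₀ ≠ 1 := fun h => hu₀1' (Subtype.ext h)
  obtain ⟨x₀, b₀, g₀, a₀, hx₀, hb₀, hg₀, ha₀1, ha₀le, heq₀⟩ :=
    exists_marked hM B P c hmax hV X hXrep u₀ hu₀P hu₀1
  refine ⟨⟨x₀, b₀⟩, ?_⟩
  rw [Finset.eq_singleton_iff_unique_mem]
  refine ⟨Finset.mem_sigma.mpr ⟨hx₀, (mem_Sfin B x₀ b₀).mpr hb₀⟩, ?_⟩
  rintro ⟨x, b⟩ hω
  obtain ⟨hxX, hb⟩ := Finset.mem_sigma.mp hω
  simp only at hxX hb
  rw [mem_Sfin] at hb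
  obtain ⟨hx1, hxX'⟩ := Finset.mem_erase.mp hxX
  obtain ⟨g, hgP, hle⟩ := classify hM B P c hmax x (hX x hxX') b hb
  have hu1 : g * x * g⁻¹ ≠ 1 := by
    intro h
    apply hx1
    have : x = g⁻¹ * (g * x * g⁻¹) * g := by group
    rw [this, h]
    simp
  obtain ⟨t, htT, htu⟩ := htrans _ hgP hu1 u₀ hu₀P hu₀1
  have htN := ((hT t).mp htT).1
  have htinv := ((hT t⁻¹).mp (T.inv_mem htT)).2
  have h1 := reflTransGen_conj (M := M) (p := 2) t hle
  rw [cjPair_eq_self P c t htN htinv, cjPair_mul] at h1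
  have hfst : (cjPair (t * g) (⟨Subgroup.zpowers x, b⟩ : BrauerPairIdx G)).1 = a₀.1 := by
    show (Subgroup.zpowers x).map (MulAut.conj (t * g)).toMonoidHom = a₀.1
    rw [ha₀1, map_zpowers_conj, ← htu]
    congr 1
    group
  have h2 := subpair_unique hM _ _ a₀ (⟨P, c⟩ : BrauerPairIdx G) hPe rfl hfst h1 ha₀le
  have h3 : cjPair (g₀ * (t * g)) (⟨Subgroup.zpowers x, b⟩ : BrauerPairIdx G) =
      ⟨Subgroup.zpowers x₀, b₀⟩ := by
    rw [← cjPair_mul, h2, heq₀]
  have hconj : (g₀ * (t * g)) * x * (g₀ * (t * g))⁻¹ = x₀ := by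
    rw [← hg₀, ← htu]
    group
  have hxx : x = x₀ := by
    obtain ⟨y, -, hy⟩ := hXrep x (hX x hxX')
    have e1 := hy x ⟨hxX', IsConj.refl x⟩
    have e2 := hy x₀ ⟨(Finset.mem_erase.mp hx₀).2, isConj_iff.mpr ⟨_, hconj⟩⟩
    rw [e1, e2]
  subst hxx
  rw [cjPair_eq_of_commute x _ hconj b] at h3
  have h4 := eq_of_heq (Sigma.mk.inj_iff.mp h3).2
  rw [h4]


/-- **Nilpotent fusion**: in the case of trivial inertial quotient, distinct involutions of `P`
give non-conjugate subpairs. -/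
theorem eq_of_cjPair_eq (hM : IsPModular 2 M) (B : Set (IrrCharacter G))
    (P : Subgroup G) (c : Set (IrrCharacter (Subgroup.centralizer (P : Set G))))
    (hmax : IsMaximalBrauerPair 2 M B P c) (hV : IsKleinFour P)
    (hTC : ∀ t : G, t ∈ Subgroup.normalizer (P : Set G) →
      StabilizesBlock (Subgroup.centralizer (P : Set G)) c t →
      t ∈ Subgroup.centralizer (P : Set G))
    (u u' : G) (huP : u ∈ P) (hu1 : u ≠ 1) (hu'P : u' ∈ P) (hu'1 : u' ≠ 1)
    (a a' : BrauerPairIdx G) (ha1 : a.1 = Subgroup.zpowers u) (ha'1 : a'.1 = Subgroup.zpowers u')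
    (hale : Relation.ReflTransGen (NormalSubpairRel 2 M) a ⟨P, c⟩)
    (ha'le : Relation.ReflTransGen (NormalSubpairRel 2 M) a' ⟨P, c⟩)
    (k : G) (hk : cjPair k a = a') : u = u' := by
  classical
  haveI : Fact (Nat.Prime 2) := ⟨Nat.prime_two⟩
  have hab := klein_comm P hV
  have hnil : IsNilpotentBlock 2 M B :=
    (isNilpotentBlock_iff_of_abelian hM B P c hmax hab).mpr hTC
  obtain ⟨F, hF⟩ := exists_blockFusionSystem hM B P c hmax
  obtain ⟨Q, f⟩ := a
  simp only at ha1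
  subst ha1
  have hfst : (Subgroup.zpowers u).map (MulAut.conj k).toMonoidHom = Subgroup.zpowers u' := by
    have := congrArg Sigma.fst hk
    rw [ha'1] at this
    exact this
  have hQP : Subgroup.zpowers u ≤ P := Subgroup.zpowers_le.mpr huP
  have hQ'P : (Subgroup.zpowers u).map (MulAut.conj k).toMonoidHom ≤ P := by
    rw [hfst]
    exact Subgroup.zpowers_le.mpr hu'P
  have hφ : conjHom (Subgroup.zpowers u) k ∈ F.Hom (Subgroup.zpowers u) := by
    rw [hF.2]
    refine ⟨hQP, k, fun q => rfl, hQ'P, f, hale, ?_⟩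
    have : Relation.ReflTransGen (NormalSubpairRel 2 M)
        (cjPair k (⟨Subgroup.zpowers u, f⟩ : BrauerPairIdx G)) ⟨P, c⟩ := by
      rw [hk]; exact ha'le
    exact this
  rw [hom_eq_inner_of_nilpotent hM B P c hmax F hF hnil] at hφ
  obtain ⟨-, s, hsP, hs⟩ := hφ
  have h1 := hs ⟨u, Subgroup.mem_zpowers u⟩
  have h2 : conjHom (Subgroup.zpowers u) k ⟨u, Subgroup.mem_zpowers u⟩ = k * u * k⁻¹ := rfl
  rw [h2] at h1
  have h3 : s * u * s⁻¹ = u := by
    rw [hab s hsP u huP, mul_assoc, mul_inv_cancel, mul_one]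
  simp only at h1
  rw [h3] at h1
  have h4 : k * u * k⁻¹ ∈ Subgroup.zpowers u' := by
    rw [← hfst]
    exact ⟨u, Subgroup.mem_zpowers u, by simp [MulAut.conj_apply]⟩
  rw [h1] at h4
  rcases mem_zpowers_of_orderOf_two (klein_orderOf P hV hu'P hu'1) h4 with h | h
  · exact absurd h hu1
  · exact h

/-- **The case of trivial inertial quotient: at least three classes of nontrivial
subsections.** -/
theorem count_trivial [DecidableEq G] (hM : IsPModular 2 M) (B : Set (IrrCharacter G))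
    (P : Subgroup G) (c : Set (IrrCharacter (Subgroup.centralizer (P : Set G))))
    (hmax : IsMaximalBrauerPair 2 M B P c) (hV : IsKleinFour P)
    (hTC : ∀ t : G, t ∈ Subgroup.normalizer (P : Set G) →
      StabilizesBlock (Subgroup.centralizer (P : Set G)) c t →
      t ∈ Subgroup.centralizer (P : Set G))
    (X : Finset G) (hX : ∀ x ∈ X, ∃ k : ℕ, orderOf x = 2 ^ k)
    (hXrep : ∀ g : G, (∃ k : ℕ, orderOf g = 2 ^ k) → ∃! x, x ∈ X ∧ IsConj g x) :
    3 ≤ ∑ x ∈ X.erase 1, secTerm M 2 B (Subgroup.centralizer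
      ((Subgroup.zpowers x : Subgroup G) : Set G)) := by
  classical
  haveI : Fact (Nat.Prime 2) := ⟨Nat.prime_two⟩
  rw [sum_secTerm_eq_card hM B P c hmax hV X hX]
  have hPbot : P ≠ ⊥ := by
    intro h
    haveI := hV
    have h4 : Nat.card P = 4 := IsKleinFour.card_four
    rw [h] at h4
    simp at h4
  obtain ⟨z', hz1'⟩ := (Subgroup.ne_bot_iff_exists_ne_one).mp hPbot
  set z : G := (z' : G) with hzdef
  have hzP : z ∈ P := z'.2
  have hz1 : z ≠ 1 := fun h => hz1' (Subtype.ext h)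
  obtain ⟨v, hvP, hv1, hvz, -⟩ := klein_struct P hV z hzP hz1
  have hwP : z * v ∈ P := P.mul_mem hzP hvP
  have hzz : z * z = 1 := klein_mul_self P hV hzP
  have hw1 : z * v ≠ 1 := by
    intro h
    apply hvz
    calc v = z * (z * v) := by rw [← mul_assoc, hzz, one_mul]
      _ = z := by rw [h, mul_one]
  have hwz : z * v ≠ z := by
    intro h
    apply hv1
    calc v = z * (z * v) := by rw [← mul_assoc, hzz, one_mul]
      _ = 1 := by rw [h, hzz]
  have hwv : z * v ≠ v := by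
    intro h
    apply hz1
    calc z = z * v * v⁻¹ := by group
      _ = 1 := by rw [h, mul_inv_cancel]
  obtain ⟨x₁, b₁, g₁, a₁, hx₁, hb₁, hg₁, ha₁1, ha₁le, heq₁⟩ :=
    exists_marked hM B P c hmax hV X hXrep z hzP hz1
  obtain ⟨x₂, b₂, g₂, a₂, hx₂, hb₂, hg₂, ha₂1, ha₂le, heq₂⟩ :=
    exists_marked hM B P c hmax hV X hXrep v hvP hv1
  obtain ⟨x₃, b₃, g₃, a₃, hx₃, hb₃, hg₃, ha₃1, ha₃le, heq₃⟩ :=
    exists_marked hM B P c hmax hV X hXrep (z * v) hwP hw1
  -- distinctness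
  have key : ∀ (u u' : G) (huP : u ∈ P) (hu1 : u ≠ 1) (hu'P : u' ∈ P) (hu'1 : u' ≠ 1)
      (x x' : G)
      (b : Set (IrrCharacter (Subgroup.centralizer ((Subgroup.zpowers x : Subgroup G) : Set G))))
      (b' : Set (IrrCharacter (Subgroup.centralizer ((Subgroup.zpowers x' : Subgroup G) : Set G))))
      (g g' : G) (a a' : BrauerPairIdx G), a.1 = Subgroup.zpowers u → a'.1 = Subgroup.zpowers u' →
      Relation.ReflTransGen (NormalSubpairRel 2 M) a ⟨P, c⟩ →
      Relation.ReflTransGen (NormalSubpairRel 2 M) a' ⟨P, c⟩ →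
      (⟨Subgroup.zpowers x, b⟩ : BrauerPairIdx G) = cjPair g a →
      (⟨Subgroup.zpowers x', b'⟩ : BrauerPairIdx G) = cjPair g' a' →
      (⟨x, b⟩ : Σ y : G, Set (IrrCharacter (Subgroup.centralizer
        ((Subgroup.zpowers y : Subgroup G) : Set G)))) = ⟨x', b'⟩ → u = u' := by
    intro u u' huP hu1 hu'P hu'1 x x' b b' g g' a a' ha1 ha'1 hale ha'le heq heq' hω
    have hxx : x = x' := congrArg Sigma.fst hω
    subst hxx
    have hbb : b = b' := eq_of_heq (Sigma.mk.inj_iff.mp hω).2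
    subst hbb
    have h1 : cjPair g a = cjPair g' a' := by rw [← heq, ← heq']
    have h2 : cjPair (g'⁻¹ * g) a = a' := by
      rw [← cjPair_mul, h1, cjPair_mul, inv_mul_cancel, cjPair_one]
    exact eq_of_cjPair_eq hM B P c hmax hV hTC u u' huP hu1 hu'P hu'1 a a' ha1 ha'1 hale ha'le _ h2
  have hlt : 2 < ((X.erase 1).sigma (Sfin M B)).card := by
    rw [Finset.two_lt_card_iff]
    refine ⟨⟨x₁, b₁⟩, ⟨x₂, b₂⟩, ⟨x₃, b₃⟩,
      Finset.mem_sigma.mpr ⟨hx₁, (mem_Sfin B x₁ b₁).mpr hb₁⟩,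
      Finset.mem_sigma.mpr ⟨hx₂, (mem_Sfin B x₂ b₂).mpr hb₂⟩,
      Finset.mem_sigma.mpr ⟨hx₃, (mem_Sfin B x₃ b₃).mpr hb₃⟩, ?_, ?_, ?_⟩
    · intro h
      exact hvz (key z v hzP hz1 hvP hv1 x₁ x₂ b₁ b₂ g₁ g₂ a₁ a₂ ha₁1 ha₂1 ha₁le ha₂le heq₁ heq₂
        h).symm
    · intro h
      exact hwz (key z (z * v) hzP hz1 hwP hw1 x₁ x₃ b₁ b₃ g₁ g₃ a₁ a₃ ha₁1 ha₃1 ha₁le ha₃le heq₁
        heq₃ h).symm
    · intro h
      exact hwv (key v (z * v) hvP hv1 hwP hw1 x₂ x₃ b₂ b₃ g₂ g₃ a₂ a₃ ha₂1 ha₃1 ha₂le ha₃le heq₂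
        heq₃ h).symm
  omega

end Fin

end Cfsg.Agent.Helper23.KCt
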