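import Mathlib
import Cfsg.Prelude.Def_Blocks
import Cfsg.Prelude.Def_BlockRank
import Cfsg.Agent.Helper23.ContribI

/-!
# Brauer's bound for major subsections: `k(B) ≤ p^d l(e)`
-/

set_option autoImplicit false
set_option linter.unusedSectionVars false
set_option linter.unusedVariables false
set_option linter.unusedSimpArgs false
set_option linter.unnecessarySimpa false
set_option linter.style.haveILetI false

namespace Cfsg.Agent.Helper23.CM

open Cfsg Cfsg.Agent.Helper24 Cfsg.Agent.Helper5.CC Cfsg.Agent.Helper5.Loc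
open Cfsg.Agent.Helper8.SecCore Cfsg.Agent.Helper23.SubTr Cfsg.Agent.Helper8.HZI
open Cfsg.Agent.Helper8.IndHt

/-- AM-GM bound: for a nonzero algebraic integer `x` in a number field `K ⊆ ℂ`,
`#embeddings ≤ ∑_σ ‖σ x‖`. -/
theorem card_le_sum_norm (K : IntermediateField ℚ ℂ) [FiniteDimensional ℚ K] (x : K)
    (hx : x ≠ 0) (hint : IsIntegral ℤ x) :
    (Fintype.card (K →ₐ[ℚ] ℂ) : ℝ) ≤ ∑ σ : K →ₐ[ℚ] ℂ, ‖σ x‖ := by
  classical
  have hnorm_int : IsIntegral ℤ (Algebra.norm ℚ x) := Algebra.isIntegral_norm ℚ hint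
  obtain ⟨m, hm⟩ := (IsIntegrallyClosed.isIntegral_iff (R := ℤ) (K := ℚ)).mp hnorm_int
  have hprod := Algebra.norm_eq_prod_embeddings ℚ ℂ x
  have hm0 : m ≠ 0 := by
    intro h0
    have : Algebra.norm ℚ x = 0 := by rw [← hm, h0]; simp
    exact hx (Algebra.norm_eq_zero_iff.mp this)
  have h1 : ((m : ℚ) : ℂ) = ∏ σ : K →ₐ[ℚ] ℂ, σ x := by
    rw [← hprod, ← hm]; simp
  have h2 : (1 : ℝ) ≤ ∏ σ : K →ₐ[ℚ] ℂ, ‖σ x‖ := by
    rw [← norm_prod, ← h1]
    have h3 : ‖((m : ℚ) : ℂ)‖ = |(m : ℝ)| := by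
      rw [show ((m : ℚ) : ℂ) = ((m : ℝ) : ℂ) by push_cast; rfl, Complex.norm_real]
      rfl
    rw [h3]
    have : (1 : ℤ) ≤ |m| := Int.one_le_abs hm0
    exact_mod_cast this
  set E := Fintype.card (K →ₐ[ℚ] ℂ) with hE
  by_cases hE0 : E = 0
  · rw [hE0]; simp only [Nat.cast_zero]
    exact Finset.sum_nonneg (fun σ _ => by positivity)
  have hEpos : (0 : ℝ) < E := by exact_mod_cast Nat.pos_of_ne_zero hE0
  have key := Real.geom_mean_le_arith_mean_weighted Finset.univ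
    (fun _ : K →ₐ[ℚ] ℂ => (E : ℝ)⁻¹) (fun σ => ‖σ x‖)
    (fun _ _ => by positivity)
    (by rw [Finset.sum_const, Finset.card_univ, nsmul_eq_mul, ← hE]; field_simp)
    (fun σ _ => by positivity)
  rw [Real.finsetProd_rpow _ _ (fun σ _ => by positivity), ← Finset.mul_sum] at key
  have h5 : (1 : ℝ) ≤ (∏ σ : K →ₐ[ℚ] ℂ, ‖σ x‖) ^ (E : ℝ)⁻¹ :=
    Real.one_le_rpow h2 (by positivity)
  have h6 : (1 : ℝ) ≤ (E : ℝ)⁻¹ * ∑ σ : K →ₐ[ℚ] ℂ, ‖σ x‖ := h5.trans key
  calc (E : ℝ) = E * 1 := by ring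
    _ ≤ E * ((E : ℝ)⁻¹ * ∑ σ : K →ₐ[ℚ] ℂ, ‖σ x‖) := by
        exact mul_le_mul_of_nonneg_left h6 hEpos.le
    _ = ∑ σ : K →ₐ[ℚ] ℂ, ‖σ x‖ := by field_simp

variable {G : Type*} [Group G] [Fintype G] {M : Ideal AlgInt}

/-- The diagonal contributions are sums of squares. -/
theorem norm_contrib_diag [Fintype (IrrCharacter G)] {p : ℕ} [hp : Fact p.Prime]
    (hM : IsPModular p M) (x : G) (hx : ∃ k : ℕ, orderOf x = p ^ k)
    (C : Subgroup G) [Fintype C] [Fintype (IrrCharacter C)]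
    (hcomm : ∀ c : C, x * (c : G) = (c : G) * x)
    (hcent : Subgroup.centralizer ({x} : Set G) ≤ C)
    (e : Set (IrrCharacter C)) [DecidablePred (· ∈ e)] (he : IsPBlock M e)
    (χ : IrrCharacter G) :
    contrib p x C e χ χ = ((∑ χ'' : IrrCharacter G, ‖contrib p x C e χ χ''‖ ^ 2 : ℝ) : ℂ) := by
  rw [← contrib_idem hM x hx C hcomm hcent e he χ χ]
  push_cast
  refine Finset.sum_congr rfl fun χ'' _ => ?_
  rw [Complex.mul_conj, Complex.normSq_eq_norm_sq]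
  push_cast
  rfl

/-- **Brauer's bound for major subsections**: `k(B) ≤ p^{d} l(e)` when `e` has the same defect as
`B = e^G`. -/
theorem card_le_major [Fintype (IrrCharacter G)] {p : ℕ} [hp : Fact p.Prime]
    (hM : IsPModular p M) (x : G) (hx : ∃ k : ℕ, orderOf x = p ^ k)
    (C : Subgroup G) [Fintype C] [Fintype (IrrCharacter C)] (hxC : x ∈ C)
    (hcomm : ∀ c : C, x * (c : G) = (c : G) * x)
    (hcent : Subgroup.centralizer ({x} : Set G) ≤ C)
    {e : Set (IrrCharacter C)} [DecidablePred (· ∈ e)] {B : Set (IrrCharacter G)}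
    (hind : IsInducedBlock M C e B) (hdef : blockDefect p e = blockDefect p B) :
    (Nat.card B : ℝ) ≤ (p : ℝ) ^ (blockDefect p e) * (blockRank p e : ℝ) := by
  classical
  haveI : Finite G := Finite.of_fintype G
  have hMp := isPrime_of_isPModular hM
  have he : IsPBlock M e := hind.1
  have hB : IsPBlock M B := hind.2.1
  set S : Finset (IrrCharacter G) := Finset.univ.filter (· ∈ B) with hS
  have hSB : ∀ χ, χ ∈ S ↔ χ ∈ B := by
    intro χ; rw [hS, Finset.mem_filter]; simp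
  have hcardS : Nat.card B = S.card := by
    rw [Nat.card_eq_fintype_card, hS, Fintype.card_subtype]
  -- a character of minimal degree valuation
  obtain ⟨ψ₀, hψ₀B, hψ₀min⟩ : ∃ ψ₀ ∈ B, ∀ ξ ∈ B,
      (irrDeg ψ₀).factorization p ≤ (irrDeg ξ).factorization p := by
    obtain ⟨χ₀, hχ₀⟩ := IsPBlock.nonempty hMp hB
    have hne : S.Nonempty := ⟨χ₀, (hSB χ₀).mpr hχ₀⟩
    obtain ⟨ψ₀, hψ₀S, hmin⟩ := Finset.exists_min_image S
      (fun ξ => (irrDeg ξ).factorization p) hne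
    exact ⟨ψ₀, (hSB ψ₀).mp hψ₀S, fun ξ hξ => hmin ξ ((hSB ξ).mpr hξ)⟩
  set N := Nat.card G with hN
  have hNpos : 0 < N := Nat.card_pos
  haveI hfd : FiniteDimensional ℚ (cyclo N) := finiteDimensional_cyclo N hNpos
  set E := Fintype.card (cyclo N →ₐ[ℚ] ℂ) with hE
  have hEpos : 0 < E := Fintype.card_pos_iff.mpr ⟨(cyclo N).val⟩
  choose kf hkc hkf using exists_pow_of_embedding N hNpos
  set d := blockDefect p e with hd
  have hrel : ∀ (σ : cyclo N →ₐ[ℚ] ℂ) (χ χ' : IrrCharacter G),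
      Rel σ ((p : ℂ) ^ d * contrib p x C e χ χ') ((p : ℂ) ^ d * contrib p (x ^ kf σ) C e χ χ') :=
    fun σ χ χ' => Rel.mul (Rel.pow (Rel.natCast σ p) d)
      (rel_contrib p x C hcomm e σ (kf σ) (hkc σ) (hkf σ) χ χ')
  have hmem : ∀ χ χ' : IrrCharacter G, (p : ℂ) ^ d * contrib p x C e χ χ' ∈ cyclo N :=
    fun χ χ' => (hrel (cyclo N).val χ χ').1
  let z : IrrCharacter G → cyclo N := fun χ => ⟨_, hmem χ χ⟩
  have hσz : ∀ (σ : cyclo N →ₐ[ℚ] ℂ) (χ : IrrCharacter G),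
      σ (z χ) = (p : ℂ) ^ d * contrib p (x ^ kf σ) C e χ χ := by
    intro σ χ
    obtain ⟨hu, h⟩ := hrel σ χ χ
    exact h
  -- per character lower bound
  have h1 : ∀ χ ∈ S, (E : ℝ) ≤ ∑ σ : cyclo N →ₐ[ℚ] ℂ, ‖σ (z χ)‖ := by
    intro χ hχ
    have hχB := (hSB χ).mp hχ
    apply card_le_sum_norm (cyclo N) (z χ)
    · intro h0
      have h2 : ((z χ : cyclo N) : ℂ) = 0 := by rw [h0]; rfl
      have h3 : (p : ℂ) ^ d * contrib p x C e χ χ = 0 := h2
      have hp0 : (p : ℂ) ^ d ≠ 0 := pow_ne_zero _ (by exact_mod_cast hp.out.pos.ne')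
      rcases mul_eq_zero.mp h3 with h | h
      · exact hp0 h
      · rw [norm_contrib_diag hM x hx C hcomm hcent e he χ] at h
        have h4 : (∑ χ'' : IrrCharacter G, ‖contrib p x C e χ χ''‖ ^ 2 : ℝ) = 0 := by
          exact_mod_cast h
        have h5 := (Finset.sum_eq_zero_iff_of_nonneg (fun χ'' _ => by positivity)).mp h4 ψ₀
          (Finset.mem_univ _)
        have h6 : contrib p x C e χ ψ₀ = 0 := by
          have : ‖contrib p x C e χ ψ₀‖ = 0 := by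
            have := pow_eq_zero_iff (two_ne_zero) |>.mp h5
            exact this
          exact norm_eq_zero.mp this
        exact contrib_ne_zero_major hM x hx C hxC hcomm hcent hind hdef χ ψ₀ hχB hψ₀B hψ₀min h6
    · have h2 : IsIntegral ℤ ((algebraMap (cyclo N) ℂ) (z χ)) :=
        isIntegral_pow_mul_contrib hM x C hxC hcomm e he χ χ
      exact (isIntegral_algebraMap_iff (algebraMap (cyclo N) ℂ).injective).mp h2
  -- per embedding upper bound
  have h2 : ∀ σ : cyclo N →ₐ[ℚ] ℂ, ∑ χ ∈ S, ‖σ (z χ)‖ ≤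
      (p : ℝ) ^ d * (blockRank p e : ℝ) := by
    intro σ
    obtain ⟨hx', hcent'⟩ := pow_hyps x hx C hcent (kf σ) (hkc σ)
    have hcomm' := comm_pow hcomm (kf σ)
    have h3 := sum_norm_sq_contrib hM (x ^ kf σ) hx' C hcomm' hcent' e he
    rw [← h3, Finset.mul_sum]
    have h4 : ∀ χ : IrrCharacter G, ‖σ (z χ)‖ =
        (p : ℝ) ^ d * ∑ χ'' : IrrCharacter G, ‖contrib p (x ^ kf σ) C e χ χ''‖ ^ 2 := by
      intro χ
      rw [hσz, norm_mul, norm_pow, Complex.norm_natCast,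
        norm_contrib_diag hM (x ^ kf σ) hx' C hcomm' hcent' e he χ, Complex.norm_real,
        Real.norm_eq_abs, abs_of_nonneg (Finset.sum_nonneg fun χ'' _ => by positivity)]
    calc ∑ χ ∈ S, ‖σ (z χ)‖
        ≤ ∑ χ : IrrCharacter G, ‖σ (z χ)‖ :=
          Finset.sum_le_sum_of_subset_of_nonneg (Finset.subset_univ S)
              (fun χ _ _ => by positivity)
      _ = _ := Finset.sum_congr rfl fun χ _ => h4 χ
  -- combine
  have h5 : (S.card : ℝ) * E ≤ E * ((p : ℝ) ^ d * (blockRank p e : ℝ)) := by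
    calc (S.card : ℝ) * E = ∑ χ ∈ S, (E : ℝ) := by
          simp only [Finset.sum_const, nsmul_eq_mul]
      _ ≤ ∑ χ ∈ S, ∑ σ : cyclo N →ₐ[ℚ] ℂ, ‖σ (z χ)‖ :=
          Finset.sum_le_sum fun χ hχ => h1 χ hχ
      _ = ∑ σ : cyclo N →ₐ[ℚ] ℂ, ∑ χ ∈ S, ‖σ (z χ)‖ := Finset.sum_comm
      _ ≤ ∑ σ : cyclo N →ₐ[ℚ] ℂ, (p : ℝ) ^ d * (blockRank p e : ℝ) :=
          Finset.sum_le_sum fun σ _ => h2 σ
      _ = E * ((p : ℝ) ^ d * (blockRank p e : ℝ)) := by
          simp only [Finset.sum_const, Finset.card_univ, nsmul_eq_mul, ← hE]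
  have hEr : (0 : ℝ) < E := by exact_mod_cast hEpos
  rw [mul_comm] at h5
  rw [hcardS]
  exact le_of_mul_le_mul_left h5 hEr

end Cfsg.Agent.Helper23.CM
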