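import Mathlib
import Cfsg.Prelude.Def_Blocks
import Cfsg.Prelude.Def_BlockRank
import Cfsg.Prelude.Def_BrauerPairs
import Cfsg.Agent.Helper23.KleinCount
import Cfsg.Agent.Helper23.MajorBound

/-!
# Nilpotent blocks with cyclic defect groups have one Brauer character

Counting the subsections of a nilpotent block with abelian defect group `P`: there are at least
`|P| - 1` classes of nontrivial subsections.  Together with Brauer's bound for major subsections
this gives `l(B) = 1` when `P` is cyclic.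
-/

set_option autoImplicit false
set_option linter.unusedSectionVars false
set_option linter.unusedVariables false
set_option linter.unusedSimpArgs false
set_option linter.unnecessarySimpa false
set_option linter.style.haveILetI false

namespace Cfsg.Agent.Helper23.ACt

open Cfsg Cfsg.Agent.Helper24 Cfsg.Agent.Helper5 Cfsg.Agent.Helper5.CC Cfsg.Agent.Helper5.Loc
open Cfsg.Agent.Helper23.BT Cfsg.Agent.Helper23.KLA Cfsg.Agent.Helper23.KLB
open Cfsg.Agent.Helper23.MC Cfsg.Agent.Helper23.AD Cfsg.Agent.Helper23.SU Cfsg.Agent.Helper23.PC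
open Cfsg.Agent.Helper23.PP Cfsg.Agent.Helper23.MOD Cfsg.Agent.Helper23.AL Cfsg.Agent.Helper23.SP
open Cfsg.Agent.Helper23.LD Cfsg.Agent.Helper23.II Cfsg.Agent.Helper23.NF Cfsg.Agent.Helper23.BFS
open Cfsg.Agent.Helper23.ST Cfsg.Agent.Helper23.KCt

variable {G : Type*} [Group G] [Fintype G] {M : Ideal AlgInt} {p : ℕ} [hp : Fact p.Prime]

theorem exists_orderOf_of_mem {P : Subgroup G} (hP : IsPGroup p P) {u : G} (hu : u ∈ P) :
    ∃ k : ℕ, orderOf u = p ^ k := by
  obtain ⟨k, hk⟩ := (IsPGroup.iff_orderOf.mp hP) ⟨u, hu⟩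
  exact ⟨k, by rw [← hk, Subgroup.orderOf_mk]⟩

/-- **Every nontrivial element of `P` gives a subsection.** -/
theorem exists_marked_gen [DecidableEq G] (hM : IsPModular p M) (B : Set (IrrCharacter G))
    (P : Subgroup G) (c : Set (IrrCharacter (Subgroup.centralizer (P : Set G))))
    (hmax : IsMaximalBrauerPair p M B P c) (X : Finset G)
    (hXrep : ∀ g : G, (∃ k : ℕ, orderOf g = p ^ k) → ∃! x, x ∈ X ∧ IsConj g x)
    (u : G) (huP : u ∈ P) (hu1 : u ≠ 1) :
    ∃ (x : G) (b : Set (IrrCharacter (Subgroup.centralizer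
        ((Subgroup.zpowers x : Subgroup G) : Set G)))) (g : G) (a : BrauerPairIdx G),
      x ∈ X.erase 1 ∧
      IsInducedBlock M (Subgroup.centralizer ((Subgroup.zpowers x : Subgroup G) : Set G)) b B ∧
      g * u * g⁻¹ = x ∧ a.1 = Subgroup.zpowers u ∧
      Relation.ReflTransGen (NormalSubpairRel p M) a ⟨P, c⟩ ∧
      (⟨Subgroup.zpowers x, b⟩ : BrauerPairIdx G) = cjPair g a := by
  classical
  have hPe := hmax.1.1
  have hB := hmax.1.2.1
  obtain ⟨x, ⟨hxX, hconj⟩, -⟩ := hXrep u (exists_orderOf_of_mem hPe.1 huP)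
  obtain ⟨g, hg⟩ := isConj_iff.mp hconj
  have hx1 : x ≠ 1 := by
    intro h
    apply hu1
    rw [h] at hg
    have : u = g⁻¹ * (g * u * g⁻¹) * g := by group
    rw [this, hg]
    simp
  obtain ⟨f, hf, hle⟩ := exists_subpair hM _ P c (Subgroup.zpowers u) hPe
    (Subgroup.zpowers_le.mpr huP) rfl
  have hle' : Relation.ReflTransGen (NormalSubpairRel p M)
      (⟨Subgroup.zpowers u, f⟩ : BrauerPairIdx G) ⟨P, c⟩ := hle
  have hfst : (cjPair g (⟨Subgroup.zpowers u, f⟩ : BrauerPairIdx G)).1 = Subgroup.zpowers x := by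
    show (Subgroup.zpowers u).map (MulAut.conj g).toMonoidHom = Subgroup.zpowers x
    rw [map_zpowers_conj, hg]
  obtain ⟨b, hb⟩ := exists_snd_eq _ _ hfst
  refine ⟨x, b, g, ⟨Subgroup.zpowers u, f⟩, Finset.mem_erase.mpr ⟨hx1, hxX⟩, ?_, hg, rfl, hle', hb⟩
  have hpa : IsBrauerPairOf p M B (Subgroup.zpowers u) f :=
    (isBrauerPairOf_iff_of_subpairLE hM B hB (⟨Subgroup.zpowers u, f⟩ : BrauerPairIdx G) ⟨P, c⟩
      hle').mp hmax.1
  have hpc := isBrauerPairOf_conj g hpa
  have hpb : IsBrauerPairOf p M B (⟨Subgroup.zpowers x, b⟩ : BrauerPairIdx G).1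
      (⟨Subgroup.zpowers x, b⟩ : BrauerPairIdx G).2 := by
    rw [hb]
    exact hpc
  exact isInducedBlock_of_pair_abelian hM (Subgroup.zpowers x) (zpowers_comm x) b B hpb

/-- **Nilpotent fusion**: for a nilpotent block with abelian defect group, conjugate marked
subpairs come from the same element. -/
theorem eq_of_cjPair_eq_gen (hM : IsPModular p M) (B : Set (IrrCharacter G))
    (P : Subgroup G) (c : Set (IrrCharacter (Subgroup.centralizer (P : Set G))))
    (hmax : IsMaximalBrauerPair p M B P c) (hab : ∀ x ∈ P, ∀ y ∈ P, x * y = y * x)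
    (hnil : IsNilpotentBlock p M B)
    (u u' : G) (huP : u ∈ P) (hu'P : u' ∈ P)
    (a a' : BrauerPairIdx G) (ha1 : a.1 = Subgroup.zpowers u) (ha'1 : a'.1 = Subgroup.zpowers u')
    (hale : Relation.ReflTransGen (NormalSubpairRel p M) a ⟨P, c⟩)
    (ha'le : Relation.ReflTransGen (NormalSubpairRel p M) a' ⟨P, c⟩)
    (k : G) (hk : cjPair k a = a') (hku : k * u * k⁻¹ = u') : u = u' := by
  classical
  obtain ⟨F, hF⟩ := exists_blockFusionSystem hM B P c hmax
  obtain ⟨Q, f⟩ := a
  simp only at ha1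
  subst ha1
  have hfst : (Subgroup.zpowers u).map (MulAut.conj k).toMonoidHom = Subgroup.zpowers u' := by
    have := congrArg Sigma.fst hk
    rw [ha'1] at this
    exact this
  have hQP : Subgroup.zpowers u ≤ P := Subgroup.zpowers_le.mpr huP
  have hQ'P : (Subgroup.zpowers u).map (MulAut.conj k).toMonoidHom ≤ P := by
    rw [hfst]
    exact Subgroup.zpowers_le.mpr hu'P
  have hφ : conjHom (Subgroup.zpowers u) k ∈ F.Hom (Subgroup.zpowers u) := by
    rw [hF.2]
    refine ⟨hQP, k, fun q => rfl, hQ'P, f, hale, ?_⟩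
    have : Relation.ReflTransGen (NormalSubpairRel p M)
        (cjPair k (⟨Subgroup.zpowers u, f⟩ : BrauerPairIdx G)) ⟨P, c⟩ := by
      rw [hk]; exact ha'le
    exact this
  rw [hom_eq_inner_of_nilpotent hM B P c hmax F hF hnil] at hφ
  obtain ⟨-, s, hsP, hs⟩ := hφ
  have h1 := hs ⟨u, Subgroup.mem_zpowers u⟩
  have h2 : conjHom (Subgroup.zpowers u) k ⟨u, Subgroup.mem_zpowers u⟩ = k * u * k⁻¹ := rfl
  rw [h2] at h1
  have h3 : s * u * s⁻¹ = u := by
    rw [hab s hsP u huP, mul_assoc, mul_inv_cancel, mul_one]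
  simp only at h1
  rw [h3] at h1
  rw [← hku, h1]

/-- **Counting the subsections of a nilpotent block with abelian defect group**: at least
`|P| - 1` classes of nontrivial subsections. -/
theorem card_le_sum_secTerm [DecidableEq G] (hM : IsPModular p M) (B : Set (IrrCharacter G))
    (P : Subgroup G) (c : Set (IrrCharacter (Subgroup.centralizer (P : Set G))))
    (hmax : IsMaximalBrauerPair p M B P c) (hab : ∀ x ∈ P, ∀ y ∈ P, x * y = y * x)
    (hnil : IsNilpotentBlock p M B)
    (X : Finset G) (hX : ∀ x ∈ X, ∃ k : ℕ, orderOf x = p ^ k)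
    (hXrep : ∀ g : G, (∃ k : ℕ, orderOf g = p ^ k) → ∃! x, x ∈ X ∧ IsConj g x) :
    Nat.card P ≤ 1 + ∑ x ∈ X.erase 1, secTerm M p B (Subgroup.centralizer
      ((Subgroup.zpowers x : Subgroup G) : Set G)) := by
  classical
  haveI : Finite G := Finite.of_fintype G
  have hMp := isPrime_of_isPModular hM
  -- the sum dominates the number of subsections
  have hsum : ((X.erase 1).sigma (Sfin M B)).card ≤
      ∑ x ∈ X.erase 1, secTerm M p B (Subgroup.centralizer
        ((Subgroup.zpowers x : Subgroup G) : Set G)) := by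
    rw [Finset.card_sigma]
    refine Finset.sum_le_sum fun x hx => ?_
    unfold secTerm
    have hfin : ({b : Set (IrrCharacter (Subgroup.centralizer
        ((Subgroup.zpowers x : Subgroup G) : Set G))) |
        IsInducedBlock M (Subgroup.centralizer ((Subgroup.zpowers x : Subgroup G) : Set G)) b
          B}).Finite := Set.toFinite _
    rw [finsum_mem_eq_finite_toFinset_sum _ hfin]
    have h1 : ∀ b ∈ hfin.toFinset, 1 ≤ blockRank p b := by
      intro b hb
      rw [Set.Finite.mem_toFinset] at hb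
      exact blockRank_pos p (IsPBlock.nonempty hMp hb.1)
    calc (Sfin M B x).card = ∑ b ∈ hfin.toFinset, 1 := by
          rw [Finset.sum_const, smul_eq_mul, mul_one]; rfl
      _ ≤ _ := Finset.sum_le_sum h1
  -- the marked subsections
  have hex : ∀ u : {u : G // u ∈ P ∧ u ≠ 1}, ∃ (x : G) (b : Set (IrrCharacter
      (Subgroup.centralizer ((Subgroup.zpowers x : Subgroup G) : Set G)))) (g : G)
      (a : BrauerPairIdx G), x ∈ X.erase 1 ∧
      IsInducedBlock M (Subgroup.centralizer ((Subgroup.zpowers x : Subgroup G) : Set G)) b B ∧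
      g * u.1 * g⁻¹ = x ∧ a.1 = Subgroup.zpowers u.1 ∧
      Relation.ReflTransGen (NormalSubpairRel p M) a ⟨P, c⟩ ∧
      (⟨Subgroup.zpowers x, b⟩ : BrauerPairIdx G) = cjPair g a :=
    fun u => exists_marked_gen hM B P c hmax X hXrep u.1 u.2.1 u.2.2
  choose xf bf gf af h1 h2 h3 h4 h5 h6 using hex
  let F : {u : G // u ∈ P ∧ u ≠ 1} → (Σ y : G, Set (IrrCharacter (Subgroup.centralizer
      ((Subgroup.zpowers y : Subgroup G) : Set G)))) := fun u => ⟨xf u, bf u⟩
  have hFmem : ∀ u ∈ (Finset.univ : Finset {u : G // u ∈ P ∧ u ≠ 1}),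
      F u ∈ (X.erase 1).sigma (Sfin M B) := by
    intro u _
    exact Finset.mem_sigma.mpr ⟨h1 u, (mem_Sfin B (xf u) (bf u)).mpr (h2 u)⟩
  have hFinj : Set.InjOn F (Finset.univ : Finset {u : G // u ∈ P ∧ u ≠ 1}) := by
    intro u _ u' _ hω
    have key : ∀ (x x' : G)
        (b : Set (IrrCharacter (Subgroup.centralizer ((Subgroup.zpowers x : Subgroup G) : Set G))))
        (b' : Set (IrrCharacter (Subgroup.centralizer
          ((Subgroup.zpowers x' : Subgroup G) : Set G))))
        (g g' : G) (a a' : BrauerPairIdx G), a.1 = Subgroup.zpowers u.1 →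
        a'.1 = Subgroup.zpowers u'.1 →
        Relation.ReflTransGen (NormalSubpairRel p M) a ⟨P, c⟩ →
        Relation.ReflTransGen (NormalSubpairRel p M) a' ⟨P, c⟩ →
        g * u.1 * g⁻¹ = x → g' * u'.1 * g'⁻¹ = x' →
        (⟨Subgroup.zpowers x, b⟩ : BrauerPairIdx G) = cjPair g a →
        (⟨Subgroup.zpowers x', b'⟩ : BrauerPairIdx G) = cjPair g' a' →
        (⟨x, b⟩ : Σ y : G, Set (IrrCharacter (Subgroup.centralizer
          ((Subgroup.zpowers y : Subgroup G) : Set G)))) = ⟨x', b'⟩ → u.1 = u'.1 := by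
      intro x x' b b' g g' a a' ha1 ha'1 hale ha'le hgx hgx' heq heq' hω
      have hxx : x = x' := congrArg Sigma.fst hω
      subst hxx
      have hbb : b = b' := eq_of_heq (Sigma.mk.inj_iff.mp hω).2
      subst hbb
      have e1 : cjPair g a = cjPair g' a' := by rw [← heq, ← heq']
      have e2 : cjPair (g'⁻¹ * g) a = a' := by
        rw [← cjPair_mul, e1, cjPair_mul, inv_mul_cancel, cjPair_one]
      have e3 : (g'⁻¹ * g) * u.1 * (g'⁻¹ * g)⁻¹ = u'.1 := by
        have : (g'⁻¹ * g) * u.1 * (g'⁻¹ * g)⁻¹ = g'⁻¹ * (g * u.1 * g⁻¹) * g' := by group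
        rw [this, hgx, ← hgx']
        group
      exact eq_of_cjPair_eq_gen hM B P c hmax hab hnil u.1 u'.1 u.2.1 u'.2.1 a a' ha1 ha'1 hale
        ha'le _ e2 e3
    apply Subtype.ext
    exact key (xf u) (xf u') (bf u) (bf u') (gf u) (gf u') (af u) (af u') (h4 u) (h4 u') (h5 u)
      (h5 u') (h3 u) (h3 u') (h6 u) (h6 u') hω
  have hcard := Finset.card_le_card_of_injOn F hFmem hFinj
  rw [Finset.card_univ, Fintype.card_subtype] at hcard
  have hfilter : (Finset.univ.filter (fun u : G => u ∈ P ∧ u ≠ 1)) =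
      (Finset.univ.filter (fun u : G => u ∈ P)).erase 1 := by
    ext u
    simp only [Finset.mem_filter, Finset.mem_univ, true_and, Finset.mem_erase]
    tauto
  rw [hfilter] at hcard
  have h1P : (1 : G) ∈ Finset.univ.filter (fun u : G => u ∈ P) := by
    simp only [Finset.mem_filter, Finset.mem_univ, true_and]
    exact P.one_mem
  have hcardP : Nat.card P = (Finset.univ.filter (fun u : G => u ∈ P)).card := by
    rw [Nat.card_eq_fintype_card, Fintype.card_subtype]
  have := Finset.card_erase_add_one h1P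
  omega

/-- **A nilpotent block with cyclic defect group has exactly one irreducible Brauer
character.** -/
theorem blockRank_eq_one_of_nilpotent_cyclic (hM : IsPModular p M) (B : Set (IrrCharacter G))
    (hB : IsPBlock M B) (D : Subgroup G) (hD : IsDefectGroup p M B D) (hcyc : IsCyclic D)
    (hnil : IsNilpotentBlock p M B) : blockRank p B = 1 := by
  classical
  haveI : Finite G := Finite.of_fintype G
  haveI : Fintype (IrrCharacter G) := Fintype.ofFinite _
  have hMp := isPrime_of_isPModular hM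
  have hab : ∀ x ∈ D, ∀ y ∈ D, x * y = y * x := by
    intro x hx y hy
    have := (isMulCommutative_iff.mp hcyc.isMulCommutative) (⟨x, hx⟩ : D) ⟨y, hy⟩
    exact congrArg Subtype.val this
  obtain ⟨c, hmax, hind, hdef, hrank⟩ := exists_root_abelian hM B hB D hD hab
  have hDp : IsPGroup p D := hmax.1.1.1
  -- a generator
  obtain ⟨⟨u, huD⟩, hgen⟩ := hcyc.exists_generator
  have hDu : ∀ y ∈ D, ∃ k : ℤ, u ^ k = y := by
    intro y hy
    obtain ⟨k, hk⟩ := Subgroup.mem_zpowers_iff.mp (hgen ⟨y, hy⟩)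
    exact ⟨k, by simpa using congrArg Subtype.val hk⟩
  have hux := exists_orderOf_of_mem hDp huD
  haveI : Fintype (Subgroup.centralizer (D : Set G)) := Fintype.ofFinite _
  haveI : Fintype (IrrCharacter (Subgroup.centralizer (D : Set G))) := Fintype.ofFinite _
  have huC : u ∈ Subgroup.centralizer (D : Set G) := le_centralizer_of_abelian hab le_rfl huD
  have hcomm : ∀ k : Subgroup.centralizer (D : Set G), u * (k : G) = (k : G) * u := by
    intro k
    have := k.2
    rw [Subgroup.mem_centralizer_iff] at this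
    exact this u huD
  have hcent : Subgroup.centralizer ({u} : Set G) ≤ Subgroup.centralizer (D : Set G) := by
    intro h hh
    rw [Subgroup.mem_centralizer_iff] at hh ⊢
    intro y hy
    obtain ⟨k, rfl⟩ := hDu y hy
    have h1 : Commute u h := hh u rfl
    exact (h1.zpow_left k).eq
  -- Brauer's bound
  have hbound := Cfsg.Agent.Helper23.CM.card_le_major hM u hux _ huC hcomm hcent hind hdef
  rw [hrank, hdef] at hbound
  have hcardD := card_defectGroup hM hB hD
  have hbound' : Nat.card B ≤ Nat.card D := by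
    have : (Nat.card B : ℝ) ≤ (Nat.card D : ℝ) := by
      rw [hcardD]; push_cast
      simpa using hbound
    exact_mod_cast this
  -- Brauer's count
  obtain ⟨X, -, hX, hXrep⟩ := exists_reps (G := G) (p := p) (∅ : Finset G)
    (by intro x hx; exact absurd hx (Finset.notMem_empty x))
    (by intro x hx; exact absurd hx (Finset.notMem_empty x))
  have hmain := Cfsg.Agent.Helper8.SecCount.main' hM B hB X hX hXrep
  have hconv : ∀ x : G,
      (∑ᶠ b ∈ {b : Set (IrrCharacter ↥(Subgroup.centralizer ({x} : Set G))) |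
        IsInducedBlock M (Subgroup.centralizer ({x} : Set G)) b B}, blockRank p b) =
      secTerm M p B (Subgroup.centralizer ((Subgroup.zpowers x : Subgroup G) : Set G)) := by
    intro x
    exact congrArg (secTerm M p B) (centralizer_singleton_eq x)
  rw [Finset.sum_congr rfl (fun x _ => hconv x)] at hmain
  have hcount := card_le_sum_secTerm hM B D c hmax hab hnil X hX hXrep
  have hpos := blockRank_pos p (IsPBlock.nonempty hMp hB)
  omega

end Cfsg.Agent.Helper23.ACt
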