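import Mathlib
import Cfsg.Prelude.Def_ChevB2
import Cfsg.Prelude.Def_ChevStructure
import Cfsg.Agent.Helper28.B2Defs

/-!
# S1083 piece NORM: `Ω₅ = [O₅, O₅] ≤ RB` from `O₅ = RB · diagonal`

A diagonal isometry normalizes the set of root elements, so `RB` is normal in `O₅`; diagonal
matrices commute, so `O₅ / RB` is abelian.
-/

set_option autoImplicit false

open Matrix Cfsg.Lie Cfsg.Agent.Helper28.Sg Cfsg.Agent.Helper28.B2
open scoped commutatorElement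

namespace Cfsg.Agent.Helper23.B2

section general

variable {F : Type*} [Field F] {ι : Type} [Fintype ι] [DecidableEq ι]
  (Q : QuadraticForm F (ι → F))

/-- Conjugating a Siegel transformation `siegO u v` by an isometry for which `u` and `v` are
eigenvectors. -/
theorem conj_siegO_of_eigen (a : ↥(Cfsg.isometryGroup F ⇑Q)) {u v : ι → F} (hu : Q u = 0)
    (huv : B Q u v = 0) (α β : F) (hau : mt Q a *ᵥ u = α • u) (hav : mt Q a *ᵥ v = β • v)
    (huv' : B Q u ((α * β) • v) = 0) :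
    a * siegO Q u v hu huv * a⁻¹ = siegO Q u ((α * β) • v) hu huv' := by
  have h1 : Q (mt Q a *ᵥ u) = 0 := by
    rw [Cfsg.Agent.Helper28.Spin.isom_apply Q a u]; exact hu
  have h2 : B Q (mt Q a *ᵥ u) (mt Q a *ᵥ v) = 0 := by rw [B_isom]; exact huv
  rw [siegO_conj Q a hu huv h1 h2]
  have h3 : Q (α • u) = 0 := by rw [Q_smul, hu, mul_zero]
  have h4 : B Q (α • u) (β • v) = 0 := B_smul_left_zero Q α (B_smul_right_zero Q β huv)
  rw [siegO_congr Q h1 h2 h3 h4 hau hav]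
  have h5 : B Q u (α • (β • v)) = 0 := B_smul_right_zero Q α (B_smul_right_zero Q β huv)
  rw [siegO_smul Q α hu (B_smul_right_zero Q β huv) h3 h4 h5]
  exact siegO_congr Q hu h5 hu huv' rfl (smul_smul α β v)

end general

variable {F : Type*} [Field F]

theorem diag_mulVec_single (a : ↥(Cfsg.isometryGroup F ⇑(Q5 F))) (c : J5 → F)
    (ha : mt (Q5 F) a = Matrix.diagonal c) (j : J5) :
    mt (Q5 F) a *ᵥ (Pi.single j 1 : J5 → F) = c j • (Pi.single j 1 : J5 → F) := by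
  rw [ha]
  ext i
  rw [Matrix.mulVec_diagonal, Pi.smul_apply, smul_eq_mul, Pi.single_apply]
  split_ifs with h
  · rw [h]
  · simp

theorem diag_mulVec_d (a : ↥(Cfsg.isometryGroup F ⇑(Q5 F))) (c : J5 → F)
    (ha : mt (Q5 F) a = Matrix.diagonal c) (p : H4) :
    mt (Q5 F) a *ᵥ (d p : J5 → F) = c (Sum.inr p) • d p :=
  diag_mulVec_single a c ha (Sum.inr p)

theorem diag_mulVec_z (a : ↥(Cfsg.isometryGroup F ⇑(Q5 F))) (c : J5 → F)
    (ha : mt (Q5 F) a = Matrix.diagonal c) :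
    mt (Q5 F) a *ᵥ (z : J5 → F) = c (Sum.inl ()) • z :=
  diag_mulVec_single a c ha (Sum.inl ())

theorem B_d_d (p q : H4) (h : q ≠ p.swap) : B (Q5 F) (d p) (d q : J5 → F) = 0 := by
  rw [B_d, d_apply, if_neg (fun h' => h (Sum.inr.inj h').symm)]

theorem B_d_z (p : H4) : B (Q5 F) (d p) (z : J5 → F) = 0 := by
  rw [B_d, z_apply, if_neg (by simp)]

theorem conj_sL (a : ↥(Cfsg.isometryGroup F ⇑(Q5 F))) (c : J5 → F)
    (ha : mt (Q5 F) a = Matrix.diagonal c) (p q : H4) (k : F) (h : q ≠ p.swap) :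
    a * sL p q k h * a⁻¹ = sL p q (c (Sum.inr p) * c (Sum.inr q) * k) h := by
  have hav : mt (Q5 F) a *ᵥ (k • (d q : J5 → F)) = c (Sum.inr q) • (k • d q) := by
    rw [Matrix.mulVec_smul, diag_mulVec_d a c ha q, smul_comm]
  have huv : B (Q5 F) (d p) (k • (d q : J5 → F)) = 0 := B_smul_right_zero (Q5 F) k (B_d_d p q h)
  have huv' : B (Q5 F) (d p) ((c (Sum.inr p) * c (Sum.inr q)) • (k • (d q : J5 → F))) = 0 :=
    B_smul_right_zero (Q5 F) _ huv
  have := conj_siegO_of_eigen (Q5 F) a (Q5_d p) huv (c (Sum.inr p)) (c (Sum.inr q))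
    (diag_mulVec_d a c ha p) hav huv'
  unfold sL
  rw [this]
  exact siegO_congr (Q5 F) _ _ _ _ rfl (smul_smul _ _ _)

theorem conj_sS (a : ↥(Cfsg.isometryGroup F ⇑(Q5 F))) (c : J5 → F)
    (ha : mt (Q5 F) a = Matrix.diagonal c) (p : H4) (k : F) :
    a * sS p k * a⁻¹ = sS p (c (Sum.inr p) * c (Sum.inl ()) * k) := by
  have hav : mt (Q5 F) a *ᵥ (k • (z : J5 → F)) = c (Sum.inl ()) • (k • z) := by
    rw [Matrix.mulVec_smul, diag_mulVec_z a c ha, smul_comm]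
  have huv : B (Q5 F) (d p) (k • (z : J5 → F)) = 0 := B_smul_right_zero (Q5 F) k (B_d_z p)
  have huv' : B (Q5 F) (d p) ((c (Sum.inr p) * c (Sum.inl ())) • (k • (z : J5 → F))) = 0 :=
    B_smul_right_zero (Q5 F) _ huv
  have := conj_siegO_of_eigen (Q5 F) a (Q5_d p) huv (c (Sum.inr p)) (c (Sum.inl ()))
    (diag_mulVec_d a c ha p) hav huv'
  unfold sS
  rw [this]
  exact siegO_congr (Q5 F) _ _ _ _ rfl (smul_smul _ _ _)

/-- A diagonal isometry conjugates `RB` into itself. -/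
theorem conj_mem_RB (a : ↥(Cfsg.isometryGroup F ⇑(Q5 F))) (c : J5 → F)
    (ha : mt (Q5 F) a = Matrix.diagonal c) :
    ∀ n ∈ RB F, a * n * a⁻¹ ∈ RB F := by
  intro n hn
  unfold RB at hn
  induction hn using Subgroup.closure_induction with
  | mem x hx =>
    rcases hx with ⟨p, q, k, h, rfl⟩ | ⟨p, k, rfl⟩
    · rw [conj_sL a c ha]; exact sL_mem_RB _ _ _ _
    · rw [conj_sS a c ha]; exact sS_mem_RB _ _
  | one => simp [one_mem]
  | mul x y _ _ hx hy =>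
    have : a * (x * y) * a⁻¹ = (a * x * a⁻¹) * (a * y * a⁻¹) := by group
    rw [this]; exact mul_mem hx hy
  | inv x _ hx =>
    have : a * x⁻¹ * a⁻¹ = (a * x * a⁻¹)⁻¹ := by group
    rw [this]; exact inv_mem hx

theorem RB_normal
    (hgeo : ∀ g : ↥(Cfsg.isometryGroup F ⇑(Q5 F)), ∃ ρ ∈ RB F, ∃ c : J5 → F,
      mt (Q5 F) (ρ * g) = Matrix.diagonal c) : (RB F).Normal := by
  constructor
  intro n hn g
  obtain ⟨ρ, hρ, c, hc⟩ := hgeo g
  have : g * n * g⁻¹ = ρ⁻¹ * ((ρ * g) * n * (ρ * g)⁻¹) * ρ := by group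
  rw [this]
  exact mul_mem (mul_mem (inv_mem hρ) (conj_mem_RB (ρ * g) c hc n hn)) hρ

theorem Omega_le_RB
    (hgeo : ∀ g : ↥(Cfsg.isometryGroup F ⇑(Q5 F)), ∃ ρ ∈ RB F, ∃ c : J5 → F,
      mt (Q5 F) (ρ * g) = Matrix.diagonal c) :
    Cfsg.Omega F ⇑(Q5 F) ≤ RB F := by
  have hnorm := RB_normal hgeo
  show commutator _ ≤ RB F
  rw [commutator_def, Subgroup.commutator_le]
  intro g _ h _
  obtain ⟨ρ₁, hρ₁, c₁, hc₁⟩ := hgeo g
  obtain ⟨ρ₂, hρ₂, c₂, hc₂⟩ := hgeo h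
  have e1 : QuotientGroup.mk' (RB F) g = QuotientGroup.mk' (RB F) (ρ₁ * g) := by
    have h0 : QuotientGroup.mk' (RB F) ρ₁ = 1 := (QuotientGroup.eq_one_iff ρ₁).2 hρ₁
    rw [map_mul, h0, one_mul]
  have e2 : QuotientGroup.mk' (RB F) h = QuotientGroup.mk' (RB F) (ρ₂ * h) := by
    have h0 : QuotientGroup.mk' (RB F) ρ₂ = 1 := (QuotientGroup.eq_one_iff ρ₂).2 hρ₂
    rw [map_mul, h0, one_mul]
  have hcomm : ⁅ρ₁ * g, ρ₂ * h⁆ = 1 := by
    rw [commutatorElement_eq_one_iff_mul_comm]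
    apply Subtype.ext
    apply Units.ext
    show mt (Q5 F) (ρ₁ * g) * mt (Q5 F) (ρ₂ * h) = mt (Q5 F) (ρ₂ * h) * mt (Q5 F) (ρ₁ * g)
    rw [hc₁, hc₂, Matrix.diagonal_mul_diagonal, Matrix.diagonal_mul_diagonal]
    congr 1
    ext i
    exact mul_comm _ _
  have key : QuotientGroup.mk' (RB F) ⁅g, h⁆ = 1 := by
    rw [map_commutatorElement, e1, e2, ← map_commutatorElement, hcomm, map_one]
  exact (QuotientGroup.eq_one_iff _).1 key

end Cfsg.Agent.Helper23.B2
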