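import Mathlib
import Cfsg.Prelude.Def_ChevB2
import Cfsg.Prelude.Def_ChevStructure
import Cfsg.Agent.Helper28.B2Defs
import Cfsg.Agent.Helper23.B2NORM

/-!
# S1083 piece COMM: `RB ≤ Ω₅ = [O₅, O₅]` when `|F| ≥ 3`

Every root element is a commutator with a diagonal (torus) isometry.
-/

set_option autoImplicit false

open Matrix Cfsg.Lie Cfsg.Agent.Helper28.Sg Cfsg.Agent.Helper28.B2
open scoped commutatorElement

namespace Cfsg.Agent.Helper23.B2

variable {F : Type*} [Field F]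

/-- the diagonal entries of the torus element `h_p(l)` -/
def torC (p : H4) (l : F) : J5 → F :=
  fun j => if j = Sum.inr p then l else if j = Sum.inr p.swap then l⁻¹ else 1

theorem torC_self (p : H4) (l : F) : torC p l (Sum.inr p) = l := by
  unfold torC; rw [if_pos rfl]

theorem torC_z (p : H4) (l : F) : torC p l (Sum.inl ()) = 1 := by
  unfold torC; simp

theorem torC_other (p q : H4) (l : F) (h1 : q ≠ p) (h2 : q ≠ p.swap) :
    torC p l (Sum.inr q) = 1 := by
  unfold torC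
  rw [if_neg (fun h => h1 (Sum.inr.inj h)), if_neg (fun h => h2 (Sum.inr.inj h))]

theorem torC_mul_inv (p : H4) {l : F} (hl : l ≠ 0) (j : J5) :
    torC p l j * torC p l⁻¹ j = 1 := by
  unfold torC
  split_ifs <;> simp [hl]

theorem Q5_torC (p : H4) {l : F} (hl : l ≠ 0) (x : J5 → F) :
    Q5 F (Matrix.diagonal (torC p l) *ᵥ x) = Q5 F x := by
  rw [Q5_apply, Q5_apply]
  simp only [Matrix.mulVec_diagonal]
  rcases p with p | p <;> fin_cases p <;> simp [torC] <;> field_simp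

/-- the torus element `h_p(l)` as an isometry -/
noncomputable def torO (p : H4) (l : F) (hl : l ≠ 0) : ↥(Cfsg.isometryGroup F ⇑(Q5 F)) :=
  ⟨⟨Matrix.diagonal (torC p l), Matrix.diagonal (torC p l⁻¹), by
      rw [Matrix.diagonal_mul_diagonal, ← Matrix.diagonal_one]
      congr 1
      ext j
      exact torC_mul_inv p hl j, by
      rw [Matrix.diagonal_mul_diagonal, ← Matrix.diagonal_one]
      congr 1
      ext j
      rw [mul_comm]
      exact torC_mul_inv p hl j⟩, by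
    rw [Cfsg.Agent.Helper28.IsoTransport.mem_isometryGroup_iff]
    intro x
    exact Q5_torC p hl x⟩

theorem mt_torO (p : H4) (l : F) (hl : l ≠ 0) :
    mt (Q5 F) (torO p l hl) = Matrix.diagonal (torC p l) := rfl

theorem sL_mul (p q : H4) (a b : F) (h : q ≠ p.swap) :
    sL p q a h * sL p q b h = sL p q (a + b) h := by
  unfold sL
  rw [siegO_mul (Q5 F) (Q5_d p) _ _
    (B_add_right_zero (Q5 F) (B_smul_right_zero (Q5 F) a (B_d_d p q h))
      (B_smul_right_zero (Q5 F) b (B_d_d p q h)))]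
  exact siegO_congr (Q5 F) _ _ _ _ rfl (add_smul a b _).symm

theorem sS_mul (p : H4) (a b : F) : sS p a * sS p b = sS p (a + b) := by
  unfold sS
  rw [siegO_mul (Q5 F) (Q5_d p) _ _
    (B_add_right_zero (Q5 F) (B_smul_right_zero (Q5 F) a (B_d_z p))
      (B_smul_right_zero (Q5 F) b (B_d_z p)))]
  exact siegO_congr (Q5 F) _ _ _ _ rfl (add_smul a b _).symm

theorem sL_zero (p q : H4) (h : q ≠ p.swap) : sL p q (0 : F) h = 1 := by
  unfold sL
  rw [← siegO_zero (Q5 F) (d p) (Q5_d p) (QuadraticMap.polar_zero_right _ _)]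
  exact siegO_congr (Q5 F) _ _ _ _ rfl (zero_smul _ _)

theorem sS_zero (p : H4) : sS p (0 : F) = 1 := by
  unfold sS
  rw [← siegO_zero (Q5 F) (d p) (Q5_d p) (QuadraticMap.polar_zero_right _ _)]
  exact siegO_congr (Q5 F) _ _ _ _ rfl (zero_smul _ _)

theorem sL_inv (p q : H4) (a : F) (h : q ≠ p.swap) : (sL p q a h)⁻¹ = sL p q (-a) h := by
  apply inv_eq_of_mul_eq_one_right
  rw [sL_mul, add_neg_cancel, sL_zero]

theorem sS_inv (p : H4) (a : F) : (sS p a)⁻¹ = sS p (-a) := by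
  apply inv_eq_of_mul_eq_one_right
  rw [sS_mul, add_neg_cancel, sS_zero]

/-- `sL p p c` is trivial. -/
theorem sL_self (p : H4) (c : F) (h : p ≠ p.swap) : sL p p c h = 1 := by
  unfold sL
  have h0 : B (Q5 F) (d p) (0 : J5 → F) = 0 := QuadraticMap.polar_zero_right _ _
  have h1 : B (Q5 F) (d p) ((0 : J5 → F) + c • d p) = 0 := by
    rw [zero_add]; exact B_smul_right_zero (Q5 F) c (B_d_d p p h)
  rw [← siegO_zero (Q5 F) (d p) (Q5_d p) h0,
    ← siegO_add_smul_self (Q5 F) c (Q5_d p) h0 h1]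
  exact siegO_congr (Q5 F) _ _ _ _ rfl (zero_add _).symm

theorem mem_Omega_of_commutator (a b : ↥(Cfsg.isometryGroup F ⇑(Q5 F))) :
    ⁅a, b⁆ ∈ Cfsg.Omega F ⇑(Q5 F) := by
  show ⁅a, b⁆ ∈ commutator _
  rw [commutator_def]
  exact Subgroup.commutator_mem_commutator (Subgroup.mem_top a) (Subgroup.mem_top b)

theorem sL_mem_Omega {l : F} (hl0 : l ≠ 0) (hl1 : l ≠ 1) (p q : H4) (k : F) (h : q ≠ p.swap) :
    sL p q k h ∈ Cfsg.Omega F ⇑(Q5 F) := by
  by_cases hqp : q = p
  · subst hqp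
    rw [sL_self]; exact one_mem _
  · have hne : l - 1 ≠ 0 := sub_ne_zero.2 hl1
    have hc := conj_sL (torO p l hl0) (torC p l) (mt_torO p l hl0) p q ((l - 1)⁻¹ * k) h
    rw [torC_self, torC_other p q l hqp h] at hc
    have : sL p q k h = ⁅torO p l hl0, sL p q ((l - 1)⁻¹ * k) h⁆ := by
      rw [commutatorElement_def, hc, sL_inv, sL_mul]
      congr 1
      field_simp
      ring
    rw [this]
    exact mem_Omega_of_commutator _ _

theorem sS_mem_Omega {l : F} (hl0 : l ≠ 0) (hl1 : l ≠ 1) (p : H4) (k : F) :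
    sS p k ∈ Cfsg.Omega F ⇑(Q5 F) := by
  have hne : l - 1 ≠ 0 := sub_ne_zero.2 hl1
  have hc := conj_sS (torO p l hl0) (torC p l) (mt_torO p l hl0) p ((l - 1)⁻¹ * k)
  rw [torC_self, torC_z] at hc
  have : sS p k = ⁅torO p l hl0, sS p ((l - 1)⁻¹ * k)⁆ := by
    rw [commutatorElement_def, hc, sS_inv, sS_mul]
    congr 1
    field_simp
    ring
  rw [this]
  exact mem_Omega_of_commutator _ _

theorem RB_le_Omega (hF : ∃ a : F, a ≠ 0 ∧ a ≠ 1) :
    RB F ≤ Cfsg.Omega F ⇑(Q5 F) := by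
  obtain ⟨l, hl0, hl1⟩ := hF
  unfold RB
  rw [Subgroup.closure_le]
  rintro g (⟨p, q, k, h, rfl⟩ | ⟨p, k, rfl⟩)
  · exact sL_mem_Omega hl0 hl1 p q k h
  · exact sS_mem_Omega hl0 hl1 p k

end Cfsg.Agent.Helper23.B2
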