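import Mathlib
import Cfsg.Prelude.Def_OddOrderLocal
import Cfsg.Agent.Helper29.BG14Hyp
import Cfsg.Agent.Helper29.BG14E
import Cfsg.Agent.Helper29.BG14F
import Cfsg.Agent.Helper4.BG12E
import Cfsg.Agent.Lead.BG143b
import Cfsg.Agent.S1416
import Cfsg.Agent.S1425

/-!
# B&G Lemma 16.1(a) (= S1436(a)), part A: basic lemmas

* an ideal prime never lies in `τ₂(H)`;
* for `q ∈ τ₂(M)` and `A ∈ E_q^2(E)`, every maximal subgroup over `N_G(A)` has `q` in its `σ`;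
* for `p ∈ β(N)` every subgroup of order `p` of `G` has its centralizer in a unique maximal
  subgroup, a conjugate of `N`.
-/

set_option autoImplicit false
set_option linter.unusedSectionVars false
set_option linter.unusedVariables false
set_option linter.style.haveILetI false

namespace Cfsg.Agent.Helper23.BG161

open Subgroup Cfsg
open Cfsg.Agent.Helper14 (IsSylowIn cj map_cj_le_iff mem_map_cj isSylowIn_of_sylow
  map_cj_centralizer map_cj_map_cj_inv map_cj_inv_map_cj cj_injective)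
open Cfsg.Agent.H9.BG12
open Cfsg.Agent.Lead (IsPiNum)

universe u
variable {G : Type u} [Group G] [Finite G]

/-- an ideal prime is never in `τ₂` of a maximal subgroup -/
theorem not_mem_tau2_of_ideal (hG : Cfsg.IsMinSimpleOddOrder G) {p : ℕ}
    (hp : Cfsg.IsIdealPrime p G) {H : Subgroup G} (hH : IsCoatom H) : p ∉ Cfsg.tau2 H := by
  intro hτ
  haveI : Fact p.Prime := ⟨hp.1⟩
  obtain ⟨A, hAH, hAe, hAc⟩ := Cfsg.Agent.Helper4.BG10.exists_elementary_sq hτ.2.2.1 hτ.2.2.2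
  have hAp : IsPGroup p A := Cfsg.Agent.Helper4.BG10.isPGroup_of_elementary hAe
  obtain ⟨P, hAP⟩ := hAp.exists_le_sylow
  obtain ⟨B, hBP, hBe, hAB⟩ := hp.2.2 P A hAP hAe hAc
  have hBC : B ≤ centralizer (A : Set G) := by
    intro b hb
    rw [mem_centralizer_iff]
    intro a ha
    exact Cfsg.Agent.Helper7.IsElementaryAbelian.commute hBe (hAB.le ha) hb
  have hCA := (Cfsg.Agent.S1416.result hG H hH p A ⟨hAH, hAe, hAc⟩).1
  have hBH : B ≤ H := hBC.trans hCA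
  have hlt : p ^ 2 < Nat.card B := by
    rw [← hAc]
    exact Cfsg.Agent.Lead.card_lt_card_of_lt hAB
  exact Cfsg.Agent.Lead.BG9.not_pRankLE_of_elementary hBH hBe hlt hτ.2.2.1

/-- **B&G 12.13-type**: for `q ∈ τ₂(M)`, `E` a complement of `M_σ` and `A ∈ E_q^2(E)`, every
maximal subgroup `L ⊇ N_G(A)` has `q ∈ σ(L)` (and `E ≤ L`, `L ≠ M`, `A ≤ L_σ`). -/
theorem mem_sigma_of_normalizer_le (hG : Cfsg.IsMinSimpleOddOrder G) {M : Subgroup G}
    (hM : IsCoatom M) {E : Subgroup G} (hE : Cfsg.IsComplIn E (Cfsg.sigmaCore M) M) {q : ℕ}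
    [Fact q.Prime] (hq : q ∈ Cfsg.tau2 M) {A : Subgroup G} (hAE : A ≤ E)
    (hAe : Cfsg.IsElementaryAbelian q A) (hAc : Nat.card A = q ^ 2) {L : Subgroup G}
    (hL : IsCoatom L) (hNL : normalizer (A : Set G) ≤ L) :
    q ∈ Cfsg.sigma L ∧ E ≤ L ∧ L ≠ M ∧ A ≤ Cfsg.sigmaCore L := by
  have h1350 := Cfsg.Agent.Helper21.BG12.st1350 hG
  have hU := Cfsg.Agent.Helper21.BG12.uniq hG
  obtain ⟨⟨hEN, -⟩, -, -⟩ := Cfsg.Agent.S1418.result hG M hM E hE q hq A ⟨hAE, hAe, hAc⟩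
  have hAL : A ≤ L := le_normalizer.trans hNL
  have hEL : E ≤ L := hEN.trans hNL
  have hAp : IsPGroup q A := Cfsg.Agent.Helper4.BG10.isPGroup_of_elementary hAe
  have hqL : q ∈ Cfsg.sigma L := by
    by_contra hpL
    have hr2L := Cfsg.Agent.Helper4.BG10.sigma'_pRankLE_two hG hU hL hpL
    have hr1L : ¬ Cfsg.PRankLE q 1 L := by
      apply Cfsg.Agent.Lead.BG9.not_pRankLE_of_elementary hAL hAe
      rw [hAc]
      exact Nat.pow_lt_pow_right hq.1.one_lt (by norm_num)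
    have hτL : q ∈ Cfsg.tau2 L := ⟨hq.1, hpL, hr2L, hr1L⟩
    have hsolvL : Group.IsSolvable L := hG.2.2.2 L hL.1
    obtain ⟨F₀, hF₀⟩ := exists_complIn_sigmaCore h1350 hL
    have hF₀H := isPiHallOf_compl h1350 hL hF₀
    have hAπL : IsPiNum (Cfsg.sigma L)ᶜ (Nat.card A) :=
      isPiNum_of_isPGroup (π := (Cfsg.sigma L)ᶜ) hpL hAp
    obtain ⟨l, hl, hlA⟩ := exists_conj_le_of_hall hsolvL hF₀H hAL hAπL
    have hF₁ : Cfsg.IsComplIn (F₀.map (cj l⁻¹)) (Cfsg.sigmaCore L) L :=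
      isComplIn_map_cj hF₀ (le_normalizer_sigmaCore L) (inv_mem hl)
    have hAF₁ : A ≤ F₀.map (cj l⁻¹) := (map_cj_le_iff _ _ _).mp hlA
    obtain ⟨-, ⟨-, -, hnot⟩, -⟩ :=
      Cfsg.Agent.S1418.result hG L hL _ hF₁ q hτL A ⟨hAF₁, hAe, hAc⟩
    exact hnot hNL
  have hLM : L ≠ M := fun h => hq.2.1 (h ▸ hqL)
  exact ⟨hqL, hEL, hLM, le_sigmaCore_of_isPGroup h1350 hL hqL hAL hAp⟩

/-- for `p ∈ β(N)`, the centralizer of any subgroup of order `p` of `G` lies in a unique maximal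
subgroup, which is a conjugate of `N`. -/
theorem exists_conj_centralizer_le (hG : Cfsg.IsMinSimpleOddOrder G) {N : Subgroup G}
    (hN : IsCoatom N) {p : ℕ} [Fact p.Prime] (hpσ : p ∈ Cfsg.sigma N) (hpβ : p ∈ Cfsg.beta N)
    {X : Subgroup G} (hX : Nat.card X = p) :
    ∃ g : G, centralizer (X : Set G) ≤ N.map (cj g) ∧ X ≤ Cfsg.sigmaCore (N.map (cj g)) ∧
      ∀ L : Subgroup G, IsCoatom L → centralizer (X : Set G) ≤ L → L = N.map (cj g) := by
  have hp : p.Prime := Fact.out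
  have hX1 : X ≠ ⊥ := by
    intro h
    rw [h, Subgroup.card_bot] at hX
    exact hp.one_lt.ne hX
  have hXσ : ∀ r : ℕ, r.Prime → r ∣ Nat.card X → r ∈ Cfsg.sigma N := by
    intro r hr hd
    rw [hX] at hd
    rw [(Nat.prime_dvd_prime_iff_eq hr hp).mp hd]
    exact hpσ
  obtain ⟨g, hg⟩ := Cfsg.Agent.S1425.result hG N hN X hX1 hXσ
  have hg' : X.map (cj g) ≤ Cfsg.sigmaCore N := hg
  have hXN : X.map (cj g) ≤ N := hg'.trans (sigmaCore_le N)
  have hXc : Nat.card (X.map (cj g)) = p := by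
    rw [Subgroup.card_map_of_injective (cj_injective g)]; exact hX
  obtain ⟨⟨hC, huniq⟩, -, -⟩ := Cfsg.Agent.S1423.result hG N hN p hpσ (X.map (cj g)) hXN hXc
    default (Or.inl hpβ)
  rw [← map_cj_centralizer] at hC huniq
  refine ⟨g⁻¹, (map_cj_le_iff _ _ _).mp hC, ?_, ?_⟩
  · rw [Cfsg.Agent.Helper29.BG14.sigmaCore_map_cj hG hN]
    exact (map_cj_le_iff _ _ _).mp hg'
  · intro L hL hCL
    have h1 : (centralizer (X : Set G)).map (cj g) ≤ L.map (cj g) := Subgroup.map_mono hCL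
    have h2 := huniq (L.map (cj g)) (Cfsg.Agent.Lead.BG9.isCoatom_map_cj hL g) h1
    rw [← h2, map_cj_map_cj_inv]

end Cfsg.Agent.Helper23.BG161
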