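import Mathlib
import Cfsg.Prelude.Def_OddOrderLocal
import Cfsg.Agent.Helper23.BG161A
import Cfsg.Agent.Helper27.BG15St
import Cfsg.Agent.Helper10.BG16A
import Cfsg.Agent.Helper10.BG16D
import Cfsg.Agent.S1351
import Cfsg.Agent.S1352
import Cfsg.Agent.S1366
import Cfsg.Agent.S1367
import Cfsg.Agent.S1434

/-!
# B&G Lemma 16.1(a) (= S1436(a)), part B: the setting, `p ∈ β(N)`, and `κ(M) = ∅`
-/

set_option autoImplicit false
set_option linter.unusedSectionVars false
set_option linter.unusedVariables false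
set_option linter.style.haveILetI false

namespace Cfsg.Agent.Helper23.BG161

open Subgroup Cfsg
open Cfsg.Agent.Helper14 (IsSylowIn cj map_cj_le_iff mem_map_cj isSylowIn_of_sylow
  map_cj_centralizer map_cj_map_cj_inv map_cj_inv_map_cj cj_injective map_cj_mul)
open Cfsg.Agent.H9.BG12
open Cfsg.Agent.Lead (IsPiNum)
open Cfsg.Agent.Lead.BG143 (ppart orderOf_ppart ppart_ne_one ppart_mem ppart_comm)
open Cfsg.Agent.Helper29.BG14 (Hyp DCfg hyp_of thmD_b thmD_prime centralizer_le_of_mem_zpowers centralizer_zpowers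
  ppart_mem_zpowers sigma_partition' mem_sigma_map_cj_iff sigmaCore_map_cj
  centralizer_singleton_map_cj isPiNum_of_mem_sigmaCore)

universe u
variable {G : Type u} [Group G] [Finite G]

/-- the data of the Theorem-D configuration `(M, x, N)` -/
structure Data (M N : Subgroup G) (x : G) (q : ℕ) (y : G) : Prop where
  c : DCfg M N q
  hqM : q ∈ Cfsg.sigma M
  hyM : y ∈ M
  hyo : orderOf y = q
  hNy : normalizer ((zpowers y : Subgroup G) : Set G) ≤ N
  huniq : ∀ L : Subgroup G, IsCoatom L → centralizer ({x} : Set G) ≤ L → L = N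
  hxN : x ∈ N
  hCx : centralizer ({x} : Set G) ≤ N
  hxσ : ∀ r : ℕ, r.Prime → r ∣ orderOf x → r ∉ Cfsg.sigma N

theorem exists_data (hG : Cfsg.IsMinSimpleOddOrder G) {M : Subgroup G} (hM : IsCoatom M) {x : G}
    (hx : x ∈ Cfsg.sigmaCore M) (hx1 : x ≠ 1) (hxM : ¬ centralizer ({x} : Set G) ≤ M)
    {N : Subgroup G} (hN : IsCoatom N) (hxN : centralizer ({x} : Set G) ≤ N) :
    ∃ (q : ℕ) (y : G), Data M N x q y := by
  have h := hyp_of hG
  obtain ⟨L, q, c, hxL, hCL, hqd, huniq, hτ, hR1, hfus⟩ := thmD_b h hM hx hx1 hxM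
  have hLN : N = L := huniq N hN hxN
  subst hLN
  have hqp : q.Prime := c.hq.1
  haveI : Fact q.Prime := ⟨hqp⟩
  have hxM' : x ∈ M := sigmaCore_le M hx
  have hyo : orderOf (ppart x q) = q := orderOf_ppart hqd
  have hyσ : ppart x q ∈ Cfsg.sigmaCore M := ppart_mem hx q
  have hyM : ppart x q ∈ M := ppart_mem hxM' q
  have hyz : ppart x q ∈ zpowers x := ppart_mem_zpowers x q
  have hqM : q ∈ Cfsg.sigma M := by
    apply mem_sigma_of_dvd_card_sigmaCore hqp
    rw [← hyo]
    exact Subgroup.orderOf_dvd_natCard _ hyσ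
  have hCxy := centralizer_le_of_mem_zpowers hyz
  have hyC : ¬ centralizer ({ppart x q} : Set G) ≤ M := fun h' => hxM (hCxy.trans h')
  obtain ⟨L', c', hNL'⟩ := thmD_prime h hM hqM hyM hyo hyC
  have hCyL' : centralizer ({ppart x q} : Set G) ≤ L' := by
    rw [← centralizer_zpowers]
    exact (Subgroup.centralizer_le_normalizer _).trans hNL'
  have hL'N : L' = N := huniq L' c'.hL (hCxy.trans hCyL')
  subst hL'N
  refine ⟨q, ppart x q, c, hqM, hyM, hyo, hNL', huniq, hxL.2, hCL, ?_⟩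
  intro r hr hd
  exact (hτ r hr hd).2.1

namespace Data

variable {M N : Subgroup G} {x : G} {q : ℕ} {y : G}

theorem hM (d : Data M N x q y) : IsCoatom M := d.c.hM
theorem hN (d : Data M N x q y) : IsCoatom N := d.c.hL

theorem ne (d : Data M N x q y) : N ≠ M := by
  intro h
  have := d.c.hnc 1
  rw [Cfsg.Agent.Helper14.map_cj_one] at this
  exact this h

/-- **B&G 12.15(e2)** in the Theorem-D configuration: `σ(N) ∩ π(M) ⊆ β(N)` -/
theorem mem_beta (d : Data M N x q y) (hG : Cfsg.IsMinSimpleOddOrder G) {p : ℕ}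
    (hpN : p ∈ Cfsg.sigma N) (hpM : p ∣ Nat.card M) : p ∈ Cfsg.beta N := by
  have hqp : q.Prime := d.c.hq.1
  haveI : Fact q.Prime := ⟨hqp⟩
  have hYcard : Nat.card (zpowers y) = q := by rw [Nat.card_zpowers, d.hyo]
  have hY1 : zpowers y ≠ ⊥ := Cfsg.Agent.Helper29.BG14.ne_bot_of_card_prime hYcard
  have hYM : zpowers y ≤ M := zpowers_le.mpr d.hyM
  have hYp : IsPGroup q (zpowers y) := Cfsg.Agent.Helper29.BG14.isPGroup_of_card_prime hYcard
  exact Cfsg.Agent.Helper4.BG12E.lem_12_15_e2 hG d.hM d.hN d.ne d.hqM hYp hY1 hYM d.hNy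
    d.c.hq.2.1 hpN.1 hpM hpN

theorem ideal (d : Data M N x q y) (hG : Cfsg.IsMinSimpleOddOrder G) {p : ℕ}
    (hpN : p ∈ Cfsg.sigma N) (hpM : p ∣ Nat.card M) : Cfsg.IsIdealPrime p G :=
  (d.mem_beta hG hpN hpM).2

theorem not_mem_sigma (d : Data M N x q y) (hG : Cfsg.IsMinSimpleOddOrder G) {p : ℕ}
    (hpN : p ∈ Cfsg.sigma N) : p ∉ Cfsg.sigma M := by
  intro hpM
  obtain ⟨g, hg⟩ := sigma_partition' (hyp_of hG) d.hM d.hN hpM hpN
  exact d.c.hnc g hg

/-- no conjugate of `M` contains `C_G(x)` -/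
theorem not_le_conj (d : Data M N x q y) (w : G) : ¬ centralizer ({x} : Set G) ≤ M.map (cj w) := by
  intro h
  have := d.huniq _ (Cfsg.Agent.Lead.BG9.isCoatom_map_cj d.hM w) h
  exact d.c.hnc w this.symm

end Data

/-- a subgroup of prime order `p` in a subgroup of order divisible by `p` -/
theorem exists_subgroup_card_prime {H : Subgroup G} {p : ℕ} (hp : p.Prime)
    (hd : p ∣ Nat.card H) : ∃ X : Subgroup G, X ≤ H ∧ Nat.card X = p := by
  haveI : Fact p.Prime := ⟨hp⟩
  obtain ⟨z, hz⟩ := exists_prime_orderOf_dvd_card' (G := ↥H) p hd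
  refine ⟨zpowers (z : G), zpowers_le.mpr z.2, ?_⟩
  rw [Nat.card_zpowers, Subgroup.orderOf_coe, hz]

end Cfsg.Agent.Helper23.BG161
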