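import Mathlib
import Cfsg.Prelude.Def_OddOrderLocal
import Cfsg.Agent.Helper23.BG161B

/-!
# B&G Lemma 16.1(a) (= S1436(a)), part C: `κ(M) = ∅`
-/

set_option autoImplicit false
set_option linter.unusedSectionVars false
set_option linter.unusedVariables false
set_option linter.style.haveILetI false

namespace Cfsg.Agent.Helper23.BG161

open Subgroup Cfsg
open Cfsg.Agent.Helper14 (IsSylowIn cj map_cj_le_iff mem_map_cj isSylowIn_of_sylow
  map_cj_centralizer map_cj_map_cj_inv map_cj_inv_map_cj cj_injective map_cj_mul cj_apply)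
open Cfsg.Agent.H9.BG12
open Cfsg.Agent.Lead (IsPiNum)
open Cfsg.Agent.Lead.BG143 (ppart orderOf_ppart ppart_ne_one ppart_mem ppart_comm)
open Cfsg.Agent.Helper29.BG14 (Hyp DCfg hyp_of thmD_b thmD_prime centralizer_le_of_mem_zpowers
  centralizer_zpowers
  ppart_mem_zpowers sigma_partition' mem_sigma_map_cj_iff sigmaCore_map_cj
  centralizer_singleton_map_cj isPiNum_of_mem_sigmaCore)

universe u
variable {G : Type u} [Group G] [Finite G]

/-- a standard factorisation exists -/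
theorem exists_decomp (hG : Cfsg.IsMinSimpleOddOrder G) {M : Subgroup G} (hM : IsCoatom M) :
    ∃ K U : Subgroup G, Cfsg.IsSigmaDecomposition M K U := by
  obtain ⟨⟨K, hK⟩, hcyc⟩ := Cfsg.Agent.S1351.result hG M hM
  obtain ⟨⟨U, hU⟩, -⟩ := Cfsg.Agent.S1352.result hG M hM K (hcyc K hK) hK
  exact ⟨K, U, hU⟩

/-- a standard factorisation with a prescribed Hall `κ(M)`-subgroup -/
theorem exists_decomp_of_hall (hG : Cfsg.IsMinSimpleOddOrder G) {M : Subgroup G} (hM : IsCoatom M)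
    {K : Subgroup G} (hK : Cfsg.IsPiHallOf (Cfsg.kappa M) K M) :
    ∃ U : Subgroup G, Cfsg.IsSigmaDecomposition M K U := by
  obtain ⟨-, hcyc⟩ := Cfsg.Agent.S1351.result hG M hM
  exact (Cfsg.Agent.S1352.result hG M hM K (hcyc K hK) hK).1

/-- if `κ(M)` is nonempty then `K ≠ 1` -/
theorem K_ne_bot_of_kappa {M K U : Subgroup G} (hKU : Cfsg.IsSigmaDecomposition M K U)
    (hκ : (Cfsg.kappa M).Nonempty) : K ≠ ⊥ := by
  obtain ⟨r, hr⟩ := hκ
  intro hK
  have h1 := hKU.hall.2.2 r hr.1 hr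
  have h2 := Cfsg.Agent.Lead.relIndex_mul_card' hKU.hall.1
  rw [hK, Subgroup.card_bot, mul_one] at h2
  rw [hK, h2] at h1
  exact h1 hr.2.1

/-- the conjugate of `x` by `w`, as an element of a conjugate subgroup -/
theorem conj_mem_map_cj {H : Subgroup G} {x : G} (hx : x ∈ H) (w : G) :
    w * x * w⁻¹ ∈ H.map (cj w) := ⟨x, hx, rfl⟩

theorem orderOf_conj' (x w : G) : orderOf (w * x * w⁻¹) = orderOf x := by
  have : w * x * w⁻¹ = (MulAut.conj w) x := rfl
  rw [this, MulEquiv.orderOf_eq]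

/-- a cyclic subgroup generated by an element whose order is a `π`-number is conjugate (inside a
solvable `L`) into a given Hall `π`-subgroup of `L` -/
theorem exists_conj_mem_of_hall (hG : Cfsg.IsMinSimpleOddOrder G) {L H₁ : Subgroup G}
    (hL : IsCoatom L) {π : Set ℕ} (hH₁ : Cfsg.IsPiHallOf π H₁ L) {z : G} (hzL : z ∈ L)
    (hz : IsPiNum π (orderOf z)) : ∃ m ∈ L, m * z * m⁻¹ ∈ H₁ := by
  have hsolv : Group.IsSolvable L := hG.2.2.2 L hL.1
  have hZπ : IsPiNum π (Nat.card (zpowers z)) := by rw [Nat.card_zpowers]; exact hz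
  obtain ⟨m, hm, hle⟩ := exists_conj_le_of_hall hsolv hH₁ (zpowers_le.mpr hzL) hZπ
  exact ⟨m, hm, hle ⟨z, mem_zpowers z, rfl⟩⟩

/-- **key step of (B1)**: no conjugate of `x` lies in the dual `M*` of `M` -/
theorem Data.conj_not_mem_dual {M N : Subgroup G} {x : G} {q : ℕ} {y : G} (d : Data M N x q y)
    (hG : Cfsg.IsMinSimpleOddOrder G) (hx : x ∈ Cfsg.sigmaCore M) (hx1 : x ≠ 1)
    {K U : Subgroup G} (hKU : Cfsg.IsSigmaDecomposition M K U) (hK1 : K ≠ ⊥)
    {Mstar : Subgroup G} (hMstar : IsCoatom Mstar)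
    (hKst : K = Cfsg.sigmaCore Mstar ⊓ Subgroup.centralizer
      ((Cfsg.sigmaCore M ⊓ Subgroup.centralizer (K : Set G)) : Set G))
    (hKstH : Cfsg.IsPiHallOf (Cfsg.kappa Mstar)
      (Cfsg.sigmaCore M ⊓ Subgroup.centralizer (K : Set G)) Mstar) (w : G) :
    w * x * w⁻¹ ∉ Mstar := by
  intro hw
  have hM := d.hM
  have h34 := Cfsg.Agent.S1434.result hG M hM K U hKU hK1 Mstar hMstar hKst hKstH
  have hHall := h34.2.1
  have hπ : IsPiNum (Cfsg.sigma M) (orderOf (w * x * w⁻¹)) := by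
    rw [orderOf_conj']; exact isPiNum_of_mem_sigmaCore hx
  obtain ⟨m, hm, hmem⟩ := exists_conj_mem_of_hall hG hMstar hHall hw hπ
  -- `x₂ = (m w) x (m w)⁻¹ ∈ K*`
  set x₂ := m * (w * x * w⁻¹) * m⁻¹ with hx₂
  have hx₂e : x₂ = (m * w) * x * (m * w)⁻¹ := by rw [hx₂]; group
  have hx₂1 : x₂ ≠ 1 := by
    rw [hx₂e]
    intro h0
    apply hx1
    have : x = (m * w)⁻¹ * ((m * w) * x * (m * w)⁻¹) * (m * w) := by group
    rw [this, h0]; group
  obtain ⟨r, hr, hrd⟩ := Cfsg.Agent.Helper29.BG14.exists_prime_dvd_orderOf hx₂1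
  have hX₂ : zpowers (ppart x₂ r) ≤ Cfsg.sigmaCore M ⊓ Subgroup.centralizer (K : Set G) :=
    zpowers_le.mpr (ppart_mem hmem r)
  have hX₂c : (Nat.card (zpowers (ppart x₂ r))).Prime := by
    rw [Nat.card_zpowers, orderOf_ppart hrd]; exact hr
  have h67 := (Cfsg.Agent.S1367.result hG M hM K U hKU hK1 Mstar hMstar hKst hKstH).1
    (zpowers (ppart x₂ r)) hX₂ hX₂c
  have hC₂ : centralizer ({x₂} : Set G) ≤ M := by
    refine (centralizer_le_of_mem_zpowers (ppart_mem_zpowers x₂ r)).trans ?_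
    rw [← centralizer_zpowers]
    exact h67.1
  rw [hx₂e, centralizer_singleton_map_cj, map_cj_le_iff] at hC₂
  exact d.not_le_conj _ hC₂

/-- **(B1)**: in the Theorem-D configuration, if a prime of `σ(N)` divides `|M|` then
`κ(M) = ∅`. -/
theorem Data.kappa_eq_empty {M N : Subgroup G} {x : G} {q : ℕ} {y : G} (d : Data M N x q y)
    (hG : Cfsg.IsMinSimpleOddOrder G) (h1435 : Cfsg.Agent.Helper27.BG15.St1435 G)
    (hx : x ∈ Cfsg.sigmaCore M) (hx1 : x ≠ 1) {p : ℕ}
    (hpN : p ∈ Cfsg.sigma N) (hpM : p ∣ Nat.card M) : Cfsg.kappa M = ∅ := by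
  by_contra hne
  have hκ : (Cfsg.kappa M).Nonempty := Set.nonempty_iff_ne_empty.mpr hne
  have hM := d.hM
  have hN := d.hN
  have h := hyp_of hG
  have h1350 := Cfsg.Agent.Helper21.BG12.st1350 hG
  have hp : p.Prime := hpN.1
  haveI : Fact p.Prime := ⟨hp⟩
  obtain ⟨K, U, hKU⟩ := exists_decomp hG hM
  have hK1 := K_ne_bot_of_kappa hKU hκ
  obtain ⟨Mstar, ⟨hMstar, hKst, hKstH⟩, -⟩ := Cfsg.Agent.S1366.result hG M hM K U hKU hK1
  have hconj := d.conj_not_mem_dual hG hx hx1 hKU hK1 hMstar hKst hKstH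
  have hpσM : p ∉ Cfsg.sigma M := d.not_mem_sigma hG hpN
  have hβ := d.mem_beta hG hpN hpM
  -- `p ∣ |K|` or `p ∣ |U|`
  have hcard := Cfsg.Agent.Helper10.BG16.sd_card h1350 hM hKU
  rw [hcard] at hpM
  have hpσ' : ¬ p ∣ Nat.card (Cfsg.sigmaCore M) := fun hd =>
    hpσM (mem_sigma_of_dvd_card_sigmaCore hp hd)
  rcases (Nat.Prime.dvd_mul hp).mp hpM with hpU | hpKσ
  · -- `p ∣ |U|`: use S1435
    have hU1 : U ≠ ⊥ := by
      intro h0
      rw [h0, Subgroup.card_bot] at hpU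
      exact hp.one_lt.ne' (Nat.dvd_one.mp hpU)
    have hUM : U ≤ M := hKU.compl.1
    let R : Sylow p U := default
    set Rg : Subgroup G := ((R : Subgroup U).map U.subtype) with hRg
    have hRgU : Rg ≤ U := by
      rintro _ ⟨r, -, rfl⟩; exact r.2
    have hRg1 : Rg ≠ ⊥ := by
      intro h0
      have h1 : Nat.card Rg = Nat.card (R : Subgroup U) :=
        Subgroup.card_map_of_injective (Subgroup.subtype_injective U)
      rw [h0, Subgroup.card_bot] at h1
      have h2 : (R : Subgroup U) = ⊥ := Subgroup.card_eq_one.mp h1.symm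
      have h3 := R.card_eq_multiplicity
      rw [h2, Subgroup.card_bot] at h3
      have h4 : (Nat.card U).factorization p = 0 := by
        by_contra h5
        have : 1 < p ^ (Nat.card U).factorization p :=
          Nat.one_lt_pow h5 hp.one_lt
        omega
      have h6 : 0 < (Nat.card U).factorization p :=
        hp.factorization_pos_of_dvd Nat.card_pos.ne' hpU
      omega
    have hRgt : Rg ≠ ⊤ := by
      intro h0
      apply hM.1
      rw [eq_top_iff, ← h0]
      exact hRgU.trans hUM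
    obtain ⟨H, hH, hNR⟩ := Cfsg.Agent.Helper21.BG10.exists_coatom_normalizer_le hG.2.1 hRg1 hRgt
    obtain ⟨hκH, hUH, -, -, -, hcompl⟩ := h1435 M hM K U hKU hK1 hU1 Mstar hMstar hKst hKstH p hpU R
      H hH hNR
    have hpH : p ∈ Cfsg.sigma H := by
      apply mem_sigma_of_dvd_card_sigmaCore hp
      exact hpU.trans (Subgroup.card_dvd_of_le hUH)
    obtain ⟨g, hg⟩ := sigma_partition' h hN hH hpN hpH
    -- `x₁ = g x g⁻¹ ∈ H` is a `σ(H)'`-element
    have hx₁H : g * x * g⁻¹ ∈ H := by rw [hg]; exact conj_mem_map_cj d.hxN g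
    have hπ : IsPiNum (Cfsg.sigma H)ᶜ (orderOf (g * x * g⁻¹)) := by
      rw [orderOf_conj']
      intro r hr hd hrH
      rw [hg, mem_sigma_map_cj_iff] at hrH
      exact d.hxσ r hr hd hrH
    have hHall := isPiHallOf_compl h1350 hH hcompl
    obtain ⟨m, hm, hmem⟩ := exists_conj_mem_of_hall hG hH hHall hx₁H hπ
    have : m * (g * x * g⁻¹) * m⁻¹ = (m * g) * x * (m * g)⁻¹ := by group
    rw [this] at hmem
    exact hconj (m * g) hmem.2
  · rcases (Nat.Prime.dvd_mul hp).mp hpKσ with hpK | hpσ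
    · -- `p ∣ |K|`
      obtain ⟨X, hXK, hXc⟩ := exists_subgroup_card_prime hp hpK
      have h67 := (Cfsg.Agent.S1367.result hG M hM K U hKU hK1 Mstar hMstar hKst hKstH).2 X hXK
        (by rw [hXc]; exact hp)
      obtain ⟨g, hC, -, huniq⟩ := exists_conj_centralizer_le hG hN hpN hβ hXc
      have hMs : Mstar = N.map (cj g) := huniq Mstar hMstar h67.1
      apply hconj g
      rw [hMs]
      exact conj_mem_map_cj d.hxN g
    · exact hpσ' hpσ

end Cfsg.Agent.Helper23.BG161
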