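import Mathlib
import Cfsg.Prelude.Def_OddOrderLocal
import Cfsg.Agent.Helper23.BG161C
import Cfsg.Agent.Helper20.BG15L

/-!
# B&G Lemma 16.1(a) (= S1436(a)), part D: `τ₂(M) = ∅`
-/

set_option autoImplicit false
set_option linter.unusedSectionVars false
set_option linter.unusedVariables false
set_option linter.style.haveILetI false

namespace Cfsg.Agent.Helper23.BG161

open Subgroup Cfsg
open Cfsg.Agent.Helper14 (IsSylowIn cj map_cj_le_iff mem_map_cj isSylowIn_of_sylow
  map_cj_centralizer map_cj_map_cj_inv map_cj_inv_map_cj cj_injective map_cj_mul cj_apply)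
open Cfsg.Agent.H9.BG12
open Cfsg.Agent.Lead (IsPiNum)
open Cfsg.Agent.Lead.BG143 (ppart orderOf_ppart ppart_ne_one ppart_mem ppart_comm)
open Cfsg.Agent.Helper29.BG14 (Hyp DCfg hyp_of thmD_b thmD_prime centralizer_le_of_mem_zpowers
  centralizer_zpowers
  ppart_mem_zpowers sigma_partition' mem_sigma_map_cj_iff sigmaCore_map_cj
  centralizer_singleton_map_cj isPiNum_of_mem_sigmaCore)

universe u
variable {G : Type u} [Group G] [Finite G]

/-- the output of the analysis of S1376 (B&G 14.4(d)) used here: in the Theorem-D configuration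
`(M, x, N)` with `κ(N) ≠ ∅`, `τ₂(M) = ∅`. -/
def Tau2Empty (G : Type u) [Group G] : Prop :=
  ∀ (M : Subgroup G), IsCoatom M → ∀ x : G, x ∈ Cfsg.sigmaCore M → x ≠ 1 →
    ¬ centralizer ({x} : Set G) ≤ M → ∀ N : Subgroup G, IsCoatom N →
    centralizer ({x} : Set G) ≤ N → (Cfsg.kappa N).Nonempty → Cfsg.tau2 M = ∅

theorem orderOf_eq_of_mem_prime {X : Subgroup G} {p : ℕ} (hp : p.Prime) (hXc : Nat.card X = p)
    {v : G} (hv : v ∈ X) (hv1 : v ≠ 1) : orderOf v = p := by
  have hd : orderOf v ∣ p := hXc ▸ Subgroup.orderOf_dvd_natCard X hv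
  rcases (Nat.dvd_prime hp).mp hd with h | h
  · exact absurd (orderOf_eq_one_iff.mp h) hv1
  · exact h

theorem mem_zpowers_of_mem_prime {X : Subgroup G} {p : ℕ} (hp : p.Prime) (hXc : Nat.card X = p)
    {v w : G} (hv : v ∈ X) (hv1 : v ≠ 1) (hw : w ∈ X) : w ∈ zpowers v := by
  haveI : Fact p.Prime := ⟨hp⟩
  have h1 : (⟨v, hv⟩ : ↥X) ≠ 1 := fun h => hv1 (Subtype.ext_iff.mp h)
  have h2 := mem_zpowers_of_prime_card (G := ↥X) hXc (g := ⟨v, hv⟩) (g' := ⟨w, hw⟩) h1
  obtain ⟨k, hk⟩ := mem_zpowers_iff.mp h2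
  refine mem_zpowers_iff.mpr ⟨k, ?_⟩
  have := congrArg Subtype.val hk
  simpa using this

/-- **(B2)**: in the Theorem-D configuration, if a prime of `σ(N)` divides `|M|` and `κ(M) = ∅`,
then `τ₂(M) = ∅`. -/
theorem Data.tau2_eq_empty {M N : Subgroup G} {x : G} {q : ℕ} {y : G} (d : Data M N x q y)
    (hG : Cfsg.IsMinSimpleOddOrder G) (hT : Tau2Empty G)
    (hx : x ∈ Cfsg.sigmaCore M) (hx1 : x ≠ 1) (hκ : Cfsg.kappa M = ∅) {p : ℕ}
    (hpN : p ∈ Cfsg.sigma N) (hpM : p ∣ Nat.card M) : Cfsg.tau2 M = ∅ := by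
  by_contra hne
  obtain ⟨t, ht⟩ := Set.nonempty_iff_ne_empty.mpr hne
  haveI : Fact t.Prime := ⟨ht.1⟩
  have hM := d.hM
  have hN := d.hN
  have h := hyp_of hG
  have h1350 := Cfsg.Agent.Helper21.BG12.st1350 hG
  have hU := Cfsg.Agent.Helper21.BG12.uniq hG
  have hp : p.Prime := hpN.1
  haveI : Fact p.Prime := ⟨hp⟩
  have hideal := d.ideal hG hpN hpM
  have hβ := d.mem_beta hG hpN hpM
  have hpσM : p ∉ Cfsg.sigma M := d.not_mem_sigma hG hpN
  have hpt : p ≠ t := by
    rintro rfl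
    exact not_mem_tau2_of_ideal hG hideal hM ht
  -- `X ≤ M` of order `p`, in a complement `E`
  obtain ⟨X, hXM, hXc⟩ := exists_subgroup_card_prime hp hpM
  have hX1 : X ≠ ⊥ := by
    intro h0
    rw [h0, Subgroup.card_bot] at hXc
    exact hp.one_lt.ne hXc
  have hXσ : X ⊓ Cfsg.sigmaCore M = ⊥ := by
    by_contra h0
    have h1 : Nat.card (X ⊓ Cfsg.sigmaCore M : Subgroup G) ∣ p :=
      hXc ▸ Subgroup.card_dvd_of_le inf_le_left
    rcases (Nat.dvd_prime hp).mp h1 with h2 | h2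
    · exact h0 (Subgroup.card_eq_one.mp h2)
    · apply hpσM
      apply mem_sigma_of_dvd_card_sigmaCore hp
      rw [← h2]
      exact Subgroup.card_dvd_of_le inf_le_right
  obtain ⟨E, hE, hXE⟩ := Cfsg.Agent.Helper21.BG12.exists_complIn_sigmaCore_ge hG hM hXM hXσ
  obtain ⟨A, hAE, hAe, hAc⟩ :=
    Cfsg.Agent.Lead.BG143.exists_elementary_sq_le_compl hG h1350 hM hE ht
  have hAM : A ≤ M := hAE.trans hE.1
  have hAp : IsPGroup t A := Cfsg.Agent.Helper4.BG10.isPGroup_of_elementary hAe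
  obtain ⟨⟨hEN, -⟩, -, -⟩ := Cfsg.Agent.S1418.result hG M hM E hE t ht A ⟨hAE, hAe, hAc⟩
  obtain ⟨-, -, -, hCσA, -, -⟩ := Cfsg.Agent.S1417.result hG M hM t ht A ⟨hAM, hAe, hAc⟩
  have hlt : t ^ 1 < Nat.card A := by
    rw [hAc]; exact Nat.pow_lt_pow_right ht.1.one_lt (by norm_num)
  have hA1 : A ≠ ⊥ := by
    intro h0
    rw [h0, Subgroup.card_bot] at hlt
    have := ht.1.one_lt
    simp at hlt
    omega
  -- `X` acts fixed-point-freely on `M_σ`
  have hfpf : ∀ v ∈ X, v ≠ 1 → ∀ z ∈ Cfsg.sigmaCore M, v * z = z * v → z = 1 := by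
    intro v hv hv1 z hz hvz
    by_contra hz1
    have hvo : orderOf v = p := orderOf_eq_of_mem_prime hp hXc hv hv1
    have hσ : ∀ r : ℕ, r.Prime → r ∣ orderOf v → r ∉ Cfsg.sigma M := by
      intro r hr hd
      rw [hvo] at hd
      rw [(Nat.prime_dvd_prime_iff_eq hr hp).mp hd]
      exact hpσM
    have hvC : v ∈ M ⊓ centralizer ({z} : Set G) :=
      ⟨hXM hv, Subgroup.mem_centralizer_singleton_iff.mpr hvz⟩
    rcases Cfsg.Agent.S1432.result hG M hM z hz hz1 v hvC hv1 hσ with h1 | h1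
    · have := h1.1 p hp (hvo ▸ dvd_rfl)
      rw [hκ] at this
      exact this
    · exact not_mem_tau2_of_ideal hG hideal hM (h1.1 p hp (hvo ▸ dvd_rfl))
  -- `t ∉ σ(N)`
  have htN : t ∉ Cfsg.sigma N := by
    intro htN
    have htA : t ∣ Nat.card A := by rw [hAc]; exact dvd_pow_self t two_ne_zero
    have htM : t ∣ Nat.card M := htA.trans (Subgroup.card_dvd_of_le hAM)
    exact not_mem_tau2_of_ideal hG (d.ideal hG htN htM) hM ht
  obtain ⟨g, hC, hXσg, huniq⟩ := exists_conj_centralizer_le hG hN hpN hβ hXc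
  have hNX : IsCoatom (N.map (cj g)) := Cfsg.Agent.Lead.BG9.isCoatom_map_cj hN g
  have htNX : t ∉ Cfsg.sigma (N.map (cj g)) := by rw [mem_sigma_map_cj_iff]; exact htN
  have hMNX : M ≠ N.map (cj g) := by
    intro h0
    apply d.c.hnc g⁻¹
    rw [h0, map_cj_map_cj_inv]
  by_cases hcent : X ≤ centralizer (A : Set G)
  · -- Case 1: `X` centralizes `A`
    have hANX : A ≤ N.map (cj g) := by
      intro a ha
      apply hC
      rw [mem_centralizer_iff]
      intro v hv
      exact ((mem_centralizer_iff.mp (hcent hv)) a ha).symm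
    have hτNX : t ∈ Cfsg.tau2 (N.map (cj g)) :=
      ⟨ht.1, htNX, Cfsg.Agent.Helper4.BG10.sigma'_pRankLE_two hG hU hNX htNX,
        Cfsg.Agent.Lead.BG9.not_pRankLE_of_elementary hANX hAe hlt⟩
    have h17 := (Cfsg.Agent.S1417.result hG (N.map (cj g)) hNX t hτNX A
      ⟨hANX, hAe, hAc⟩).2.2.2.2.1 M hM hMNX hAM
    apply hX1
    rw [eq_bot_iff, ← h17]
    exact le_inf hXσg hXM
  · -- Case 2: `X` does not centralize `A`
    have hsolv : Group.IsSolvable M := hG.2.2.2 M hM.1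
    have hodd : Odd (Nat.card M) := by
      have := hG.1
      exact Odd.of_dvd_nat this (Subgroup.card_subgroup_dvd_card M)
    have hA₂ : A ⊓ centralizer (X : Set G) ≠ ⊥ := by
      intro h0
      have hfpfA : ∀ v ∈ X, v ≠ 1 → ∀ a ∈ A, v * a = a * v → a = 1 := by
        intro v hv hv1 a ha hva
        have : a ∈ A ⊓ centralizer (X : Set G) := by
          refine ⟨ha, ?_⟩
          show a ∈ centralizer (X : Set G)
          rw [mem_centralizer_iff]
          intro w hw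
          obtain ⟨k, rfl⟩ := mem_zpowers_iff.mp (mem_zpowers_of_mem_prime hp hXc hv hv1 hw)
          exact (Commute.zpow_left (show Commute v a from hva) k).eq
        rw [h0] at this
        exact Subgroup.mem_bot.mp this
      have hcopσA : (Nat.card (Cfsg.sigmaCore M)).Coprime (Nat.card A) := by
        rw [hAc]
        apply Nat.Coprime.pow_right
        rw [Nat.coprime_comm, Nat.Prime.coprime_iff_not_dvd ht.1]
        intro hd
        exact ht.2.1 (mem_sigma_of_dvd_card_sigmaCore ht.1 hd)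
      have hcopσX : (Nat.card (Cfsg.sigmaCore M)).Coprime (Nat.card X) := by
        rw [hXc, Nat.coprime_comm, Nat.Prime.coprime_iff_not_dvd hp]
        intro hd
        exact hpσM (mem_sigma_of_dvd_card_sigmaCore hp hd)
      have hcopAX : (Nat.card A).Coprime (Nat.card X) := by
        rw [hAc, hXc]
        apply Nat.Coprime.pow_left
        exact (Nat.coprime_primes ht.1 hp).mpr (Ne.symm hpt)
      have hcomm := Cfsg.Agent.Helper20.BG15L.frob_centralizes_in M (Cfsg.sigmaCore M) A X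
        (sigmaCore_le M) hAM hXM hsolv hodd
        (hAM.trans (le_normalizer_sigmaCore M)) (hXM.trans (le_normalizer_sigmaCore M))
        (hXE.trans hEN) hcopσA hcopσX hcopAX hX1 hfpf hfpfA
      have hσ1 : Cfsg.sigmaCore M ≠ ⊥ := Cfsg.Agent.Helper10.BG16.sigmaCore_ne_bot hG h1350
        (Cfsg.Agent.Helper21.BG12.uniq96 hG) hM
      apply hσ1
      rw [eq_bot_iff, ← hCσA]
      intro n hn
      refine ⟨hn, ?_⟩
      show n ∈ centralizer (A : Set G)
      rw [mem_centralizer_iff]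
      intro a ha
      exact (hcomm n hn a ha).symm
    -- `L ⊇ N_G(A)`
    have hAt : A ≠ ⊤ := Cfsg.Agent.Helper4.BG10.elementary_ne_top hG hAe
    obtain ⟨L, hL, hNL⟩ := Cfsg.Agent.Helper21.BG10.exists_coatom_normalizer_le hG.2.1 hA1 hAt
    obtain ⟨htL, hEL, hLM, hAσL⟩ := mem_sigma_of_normalizer_le hG hM hE ht hAE hAe hAc hL hNL
    have hpL : p ∉ Cfsg.sigma L := by
      intro hpL
      obtain ⟨g', hg'⟩ := sigma_partition' h hN hL hpN hpL
      rw [hg', mem_sigma_map_cj_iff] at htL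
      exact htN htL
    obtain ⟨y₂, hy₂, hy₂1⟩ : ∃ y₂ ∈ A ⊓ centralizer (X : Set G), y₂ ≠ 1 := by
      by_contra hall
      push Not at hall
      apply hA₂
      rw [eq_bot_iff]
      intro a ha
      exact Subgroup.mem_bot.mpr (hall a ha)
    obtain ⟨u, hu, hu1⟩ : ∃ u ∈ X, u ≠ 1 := by
      by_contra hall
      push Not at hall
      apply hX1
      rw [eq_bot_iff]
      intro a ha
      exact Subgroup.mem_bot.mpr (hall a ha)
    have huo : orderOf u = p := orderOf_eq_of_mem_prime hp hXc hu hu1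
    have huL : u ∈ L := hEL (hXE hu)
    have huy : u * y₂ = y₂ * u := (mem_centralizer_iff.mp hy₂.2) u hu
    have huC : u ∈ L ⊓ centralizer ({y₂} : Set G) :=
      ⟨huL, Subgroup.mem_centralizer_singleton_iff.mpr huy⟩
    have hσ' : ∀ r : ℕ, r.Prime → r ∣ orderOf u → r ∉ Cfsg.sigma L := by
      intro r hr hd
      rw [huo] at hd
      rw [(Nat.prime_dvd_prime_iff_eq hr hp).mp hd]
      exact hpL
    have hpκ : p ∈ Cfsg.kappa L := by
      rcases Cfsg.Agent.S1432.result hG L hL y₂ (hAσL hy₂.1) hy₂1 u huC hu1 hσ' with h1 | h1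
      · exact h1.1 p hp (huo ▸ dvd_rfl)
      · exact absurd (h1.1 p hp (huo ▸ dvd_rfl)) (not_mem_tau2_of_ideal hG hideal hL)
    obtain ⟨KL, hKL, hKL1, huKL⟩ := Cfsg.Agent.Lead.BG143.exists_kappa_hall_ge hG hL hpκ huL huo
    obtain ⟨UL, hKUL⟩ := exists_decomp_of_hall hG hL hKL
    obtain ⟨Lstar, ⟨hLstar, hKst, hKstH⟩, -⟩ := Cfsg.Agent.S1366.result hG L hL KL UL hKUL hKL1
    have hXKL : X ≤ KL := by
      intro w hw
      obtain ⟨k, rfl⟩ := mem_zpowers_iff.mp (mem_zpowers_of_mem_prime hp hXc hu hu1 hw)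
      exact KL.zpow_mem huKL k
    have h67 := (Cfsg.Agent.S1367.result hG L hL KL UL hKUL hKL1 Lstar hLstar hKst hKstH).2 X hXKL
      (by rw [hXc]; exact hp)
    have hLs : Lstar = N.map (cj g) := huniq Lstar hLstar h67.1
    -- `κ(N^g)` is nonempty
    have hκN : (Cfsg.kappa (N.map (cj g))).Nonempty := by
      have hks := Cfsg.Agent.Helper10.BG16.kstar_ne_bot
        (fun M hM K hK hK1 => Cfsg.Agent.S1430.result hG M hM K hK hK1) hL hKL hKL1
      have hc : Nat.card ↥(Cfsg.sigmaCore L ⊓ centralizer (KL : Set G)) ≠ 1 :=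
        fun h' => hks (Subgroup.card_eq_one.mp h')
      obtain ⟨r, hr, hrd⟩ := Nat.exists_prime_and_dvd hc
      rw [← hLs]
      exact ⟨r, hKstH.2.1 r hr hrd⟩
    -- the conjugated configuration `(M^g, g x g⁻¹, N^g)`
    have hMg : IsCoatom (M.map (cj g)) := Cfsg.Agent.Lead.BG9.isCoatom_map_cj hM g
    have hxg : g * x * g⁻¹ ∈ Cfsg.sigmaCore (M.map (cj g)) := by
      rw [sigmaCore_map_cj hG hM]; exact conj_mem_map_cj hx g
    have hxg1 : g * x * g⁻¹ ≠ 1 := Cfsg.Agent.Helper29.BG14.conj_ne_one g hx1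
    have hxgM : ¬ centralizer ({g * x * g⁻¹} : Set G) ≤ M.map (cj g) := by
      rw [centralizer_singleton_map_cj]
      intro h0
      have h1 := Subgroup.map_mono (f := cj g⁻¹) h0
      rw [map_cj_map_cj_inv, map_cj_map_cj_inv] at h1
      exact d.not_le_conj 1 (by rw [Cfsg.Agent.Helper14.map_cj_one]; exact h1)
    have hxgN : centralizer ({g * x * g⁻¹} : Set G) ≤ N.map (cj g) := by
      rw [centralizer_singleton_map_cj]
      exact Subgroup.map_mono d.hCx
    have hτ := hT (M.map (cj g)) hMg (g * x * g⁻¹) hxg hxg1 hxgM (N.map (cj g)) hNX hxgN hκN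
    -- but `t ∈ τ₂(M^g)`
    have htMg : t ∉ Cfsg.sigma (M.map (cj g)) := by rw [mem_sigma_map_cj_iff]; exact ht.2.1
    have hAg : A.map (cj g) ≤ M.map (cj g) := Subgroup.map_mono hAM
    have hAge : Cfsg.IsElementaryAbelian t (A.map (cj g)) :=
      Cfsg.Agent.Helper26.isElementaryAbelian_map (cj g) hAe
    have hAgc : t ^ 1 < Nat.card (A.map (cj g)) := by
      rw [Subgroup.card_map_of_injective (cj_injective g)]; exact hlt
    have : t ∈ Cfsg.tau2 (M.map (cj g)) :=
      ⟨ht.1, htMg, Cfsg.Agent.Helper4.BG10.sigma'_pRankLE_two hG hU hMg htMg,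
        Cfsg.Agent.Lead.BG9.not_pRankLE_of_elementary hAg hAge hAgc⟩
    rw [hτ] at this
    exact this

end Cfsg.Agent.Helper23.BG161
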