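import Mathlib
import Cfsg.Prelude.Def_OddOrderLocal
import Cfsg.Agent.Helper23.BG161D

/-!
# B&G Lemma 16.1(a) (= S1436(a)) relative to S1435 and the `τ₂(M) = ∅` part of S1376
-/

set_option autoImplicit false
set_option linter.unusedSectionVars false
set_option linter.unusedVariables false

namespace Cfsg.Agent.Helper23.BG161

open Subgroup Cfsg

universe u
variable {G : Type u} [Group G] [Finite G]

/-- **S1436(a)** from S1435 (as a hypothesis) and `Tau2Empty G` (the `τ₂(M) = ∅` step of S1376). -/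
theorem s1436_a_of (hG : Cfsg.IsMinSimpleOddOrder G) (h1435 : Cfsg.Agent.Helper27.BG15.St1435 G)
    (hT : Tau2Empty G) (M : Subgroup G) (hM : IsCoatom M) (x : G) (hx : x ∈ Cfsg.sigmaCore M)
    (hx1 : x ≠ 1) (hxM : ¬ Subgroup.centralizer ({x} : Set G) ≤ M) (N : Subgroup G)
    (hN : IsCoatom N) (hxN : Subgroup.centralizer ({x} : Set G) ≤ N) :
    (∃ p ∈ Cfsg.sigma N, p ∣ Nat.card M) → Cfsg.kappa M = ∅ ∧ Cfsg.tau2 M = ∅ := by
  rintro ⟨p, hpN, hpM⟩
  obtain ⟨q, y, d⟩ := exists_data hG hM hx hx1 hxM hN hxN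
  have hκ := d.kappa_eq_empty hG h1435 hx hx1 hpN hpM
  exact ⟨hκ, d.tau2_eq_empty hG hT hx hx1 hκ hpN hpM⟩

end Cfsg.Agent.Helper23.BG161
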