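import Mathlib
import Cfsg.Agent.Helper23.CMDefs
import Cfsg.Agent.Helper24.Abelian
import Cfsg.Agent.Helper23.ClassProduct

set_option autoImplicit false

/-!
# S4756 pieces CCARD and VAN (column orthogonality against the linear characters)
-/

namespace Cfsg.Agent.Helper23.CM

open Cfsg Cfsg.Agent.Helper24

universe u

variable {G : Type u} [Group G] [Finite G]

/-- a linear character has absolute value one everywhere -/
theorem normSq_linear (χ : IrrCharacter G) (h1 : (χ : G → ℂ) 1 = 1) (g : G) :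
    Complex.normSq ((χ : G → ℂ) g) = 1 := by
  obtain ⟨φ, hφ⟩ := Cfsg.Agent.Helper23.exists_monoidHom_of_irr_one_eq_one χ h1
  have hpow : (φ g) ^ orderOf g = 1 := by
    rw [← map_pow, pow_orderOf_eq_one, map_one]
  have hnorm : ‖φ g‖ = 1 := Complex.norm_eq_one_of_pow_eq_one hpow (orderOf_pos g).ne'
  rw [hφ, Complex.normSq_eq_norm_sq, hnorm, one_pow]

/-- column orthogonality split into linear and nonlinear characters -/
theorem card_centralizer_eq_add (g : G) [Fintype (IrrCharacter G)]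
    [DecidablePred (fun χ : IrrCharacter G => (χ : G → ℂ) 1 = 1)] :
    (Nat.card ↥(Subgroup.centralizer ({g} : Set G)) : ℝ) = ((commutator G).index : ℝ) +
      ∑ χ ∈ Finset.univ.filter (fun χ : IrrCharacter G => ¬ (χ : G → ℂ) 1 = 1),
        Complex.normSq ((χ : G → ℂ) g) := by
  classical
  have : Fintype G := Fintype.ofFinite G
  have h := sum_irr_mul_conj g g
  rw [if_pos (IsConj.refl g)] at h
  have h2 : ∑ χ : IrrCharacter G, Complex.normSq ((χ : G → ℂ) g) =
      (Nat.card ↥(Subgroup.centralizer ({g} : Set G)) : ℝ) := by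
    apply Complex.ofReal_injective
    rw [Complex.ofReal_sum, Complex.ofReal_natCast, ← h]
    refine Finset.sum_congr rfl ?_
    intro χ _
    rw [Complex.mul_conj]
  rw [← h2, ← Finset.sum_filter_add_sum_filter_not Finset.univ
    (fun χ : IrrCharacter G => (χ : G → ℂ) 1 = 1)]
  congr 1
  have h3 : ∑ χ ∈ Finset.univ.filter (fun χ : IrrCharacter G => (χ : G → ℂ) 1 = 1),
      Complex.normSq ((χ : G → ℂ) g) =
      ∑ χ ∈ Finset.univ.filter (fun χ : IrrCharacter G => (χ : G → ℂ) 1 = 1), (1 : ℝ) := by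
    refine Finset.sum_congr rfl ?_
    intro χ hχ
    exact normSq_linear χ (Finset.mem_filter.mp hχ).2 g
  rw [h3, Finset.sum_const, nsmul_eq_mul, mul_one, ← card_linear_irr (G := G),
    Nat.card_eq_fintype_card, Fintype.card_subtype]

/-- CCARD -/
theorem card_centralizer_eq_index (p : ℕ)
    (hvan : ∀ χ : IrrCharacter G, (χ : G → ℂ) 1 ≠ 1 → VanOff p (χ : G → ℂ))
    (r : ℕ) (hr : r.Prime) (hrp : r ≠ p) (y : G) (hy1 : y ≠ 1)
    (hyo : ∃ k : ℕ, orderOf y = r ^ k) :
    Nat.card ↥(Subgroup.centralizer ({y} : Set G)) = (commutator G).index := by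
  classical
  have : Fintype (IrrCharacter G) := Fintype.ofFinite _
  have h := card_centralizer_eq_add y
  have h0 : ∑ χ ∈ Finset.univ.filter (fun χ : IrrCharacter G => ¬ (χ : G → ℂ) 1 = 1),
      Complex.normSq ((χ : G → ℂ) y) = 0 := by
    apply Finset.sum_eq_zero
    intro χ hχ
    rw [hvan χ (Finset.mem_filter.mp hχ).2 r hr hrp y hy1 hyo, map_zero]
  rw [h0, add_zero] at h
  exact_mod_cast h

/-- VAN -/
theorem vanish_of_fpf (D : Subgroup G) (hDn : D.Normal) (hD : commutator G ≤ D) (g : G)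
    (hg : ∀ d ∈ D, g * d = d * g → d = 1) :
    ∀ χ : IrrCharacter G, (χ : G → ℂ) 1 ≠ 1 → (χ : G → ℂ) g = 0 := by
  classical
  have : Fintype (IrrCharacter G) := Fintype.ofFinite _
  have := hDn
  -- |C(g)| ≤ |G : D|
  have hinj : Function.Injective
      (fun c : ↥(Subgroup.centralizer ({g} : Set G)) => ((c : G) : G ⧸ D)) := by
    intro c₁ c₂ h12
    have h1 : (c₁ : G)⁻¹ * (c₂ : G) ∈ D := QuotientGroup.eq.mp h12
    have h2 : (c₁ : G)⁻¹ * (c₂ : G) ∈ Subgroup.centralizer ({g} : Set G) :=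
      Subgroup.mul_mem _ (Subgroup.inv_mem _ c₁.2) c₂.2
    have h3 : g * ((c₁ : G)⁻¹ * (c₂ : G)) = (c₁ : G)⁻¹ * (c₂ : G) * g :=
      Subgroup.mem_centralizer_iff.mp h2 g (Set.mem_singleton g)
    have h4 := hg _ h1 h3
    exact Subtype.ext (inv_mul_eq_one.mp h4)
  have hle1 : Nat.card ↥(Subgroup.centralizer ({g} : Set G)) ≤ D.index := by
    rw [Subgroup.index_eq_card]
    exact Nat.card_le_card_of_injective _ hinj
  have hle2 : D.index ≤ (commutator G).index :=
    Nat.le_of_dvd (Nat.pos_of_ne_zero Subgroup.index_ne_zero_of_finite)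
      (Subgroup.index_dvd_of_le hD)
  have hle : (Nat.card ↥(Subgroup.centralizer ({g} : Set G)) : ℝ) ≤
      ((commutator G).index : ℝ) := by
    exact_mod_cast hle1.trans hle2
  have h := card_centralizer_eq_add g
  have hnonneg : ∀ χ ∈ Finset.univ.filter (fun χ : IrrCharacter G => ¬ (χ : G → ℂ) 1 = 1),
      0 ≤ Complex.normSq ((χ : G → ℂ) g) := fun χ _ => Complex.normSq_nonneg _
  have hsum0 : ∑ χ ∈ Finset.univ.filter (fun χ : IrrCharacter G => ¬ (χ : G → ℂ) 1 = 1),
      Complex.normSq ((χ : G → ℂ) g) = 0 := by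
    have h1 := Finset.sum_nonneg hnonneg
    linarith
  intro χ hχ
  have := (Finset.sum_eq_zero_iff_of_nonneg hnonneg).mp hsum0 χ
    (Finset.mem_filter.mpr ⟨Finset.mem_univ _, hχ⟩)
  exact Complex.normSq_eq_zero.mp this

end Cfsg.Agent.Helper23.CM
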