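import Mathlib
import Cfsg.Agent.Helper23.CMDefs
import Cfsg.Agent.Helper24.Abelian
import Cfsg.Agent.S0943

set_option autoImplicit false

/-!
# S4756 pieces PAIR and FPF
-/

namespace Cfsg.Agent.Helper23.CM

open Cfsg Cfsg.Agent.Helper24

universe u

variable {G : Type u} [Group G] [Finite G]

omit [Finite G] in
theorem orderOf_eq_of_isConj {x x' : G} (h : IsConj x x') : orderOf x' = orderOf x := by
  obtain ⟨c, hc⟩ := isConj_iff.mp h
  have : x' = MulAut.conj c x := by rw [MulAut.conj_apply, hc]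
  rw [this, MulEquiv.orderOf_eq]

/-- PAIR -/
theorem pair_vanish (h : Mult G) (χ : IrrCharacter G) (hχ : (χ : G → ℂ) 1 ≠ 1) (x y : G)
    (hx : x ≠ 1) (hy : y ≠ 1) (hxy : CoprimePP x y) :
    (χ : G → ℂ) x = 0 ∨ (χ : G → ℂ) y = 0 := by
  have hc : ∀ x' y' : G, IsConj x x' → IsConj y y' →
      (χ : G → ℂ) (x' * y') = (χ : G → ℂ) (x * y) := by
    intro x' y' hxc hyc
    have hx'o := orderOf_eq_of_isConj hxc
    have hy'o := orderOf_eq_of_isConj hyc
    have hx'1 : x' ≠ 1 := by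
      intro h1
      rw [h1, orderOf_one] at hx'o
      exact hx (orderOf_eq_one_iff.mp hx'o.symm)
    have hy'1 : y' ≠ 1 := by
      intro h1
      rw [h1, orderOf_one] at hy'o
      exact hy (orderOf_eq_one_iff.mp hy'o.symm)
    have hxy' : CoprimePP x' y' := by
      obtain ⟨p, q, a, b, hp, hq, hpq, hxo, hyo⟩ := hxy
      exact ⟨p, q, a, b, hp, hq, hpq, hx'o.trans hxo, hy'o.trans hyo⟩
    rw [h x' y' χ hx'1 hy'1 hxy', h x y χ hx hy hxy,
      IsClassFunction.eq_of_isConj (isClassFunction_irr χ) hxc.symm,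
      IsClassFunction.eq_of_isConj (isClassFunction_irr χ) hyc.symm]
  have h1 := Cfsg.Agent.S0943.result χ x y hc
  rw [h x y χ hx hy hxy] at h1
  have h2 : ((χ : G → ℂ) 1 - 1) * ((χ : G → ℂ) x * (χ : G → ℂ) y) = 0 := by
    linear_combination -h1
  rcases mul_eq_zero.mp h2 with h3 | h3
  · exact absurd (sub_eq_zero.mp h3) hχ
  · exact mul_eq_zero.mp h3

/-- FPF -/
theorem eq_one_of_commute (p : ℕ) (hp : p.Prime) (hP : IsPGroup p ↥(commutator G)) (y : G)
    (hyo : (orderOf y).Coprime p) (hconj : ∀ n ∈ commutator G, IsConj y (y * n)) :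
    ∀ n ∈ commutator G, y * n = n * y → n = 1 := by
  intro n hn hcomm
  have h1 : orderOf (y * n) = orderOf y := orderOf_eq_of_isConj (hconj n hn)
  obtain ⟨k, hk⟩ := hP ⟨n, hn⟩
  have hk' : n ^ p ^ k = 1 := congrArg Subtype.val hk
  have hno : orderOf n ∣ p ^ k := orderOf_dvd_of_pow_eq_one hk'
  have hcop : (orderOf y).Coprime (orderOf n) :=
    Nat.Coprime.coprime_dvd_right hno (Nat.Coprime.pow_right k hyo)
  have hc : Commute y n := hcomm
  have h2 := hc.orderOf_mul_eq_mul_orderOf_of_coprime hcop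
  rw [h1] at h2
  have hpos : 0 < orderOf y := orderOf_pos y
  have h3 : orderOf n = 1 := by
    have : orderOf y * 1 = orderOf y * orderOf n := by rw [mul_one]; exact h2
    exact (Nat.eq_of_mul_eq_mul_left hpos this).symm
  exact orderOf_eq_one_iff.mp h3

end Cfsg.Agent.Helper23.CM
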