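import Mathlib
import Cfsg.Agent.Helper23.CMDefs
import Cfsg.Agent.Helper24.Abelian
import Cfsg.Agent.Helper15.BrP6

set_option autoImplicit false

/-!
# S4756 piece TWOP (backup): two characters with complementary large degrees
-/

namespace Cfsg.Agent.Helper23.CMTWOPb

open Cfsg Cfsg.Agent.Helper24

universe u

variable {G : Type u} [Group G] [Finite G]

theorem false_of_two_primes' (p q : ℕ) (hp : p.Prime) (hq : q.Prime) (hpq : p ≠ q)
    (χ₀ χ₁ : IrrCharacter G) (hne : χ₀ ≠ χ₁)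
    (h0 : ordCompl[p] (Nat.card G) ∣ irrDeg χ₀)
    (h1 : ordCompl[q] (Nat.card G) ∣ irrDeg χ₁) : False := by
  classical
  have : Fintype (IrrCharacter G) := Fintype.ofFinite _
  set n := Nat.card G with hn
  have hn0 : 0 < n := Nat.card_pos
  have hsum := Cfsg.Agent.Helper15.BrP.sum_irrDeg_sq_le_card (G := G) ({χ₀, χ₁} : Finset (IrrCharacter G))
  rw [Finset.sum_pair hne] at hsum
  set u := ordProj[p] n with hu
  set v := ordProj[q] n with hv
  set c₁ := ordCompl[p] n with hc₁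
  set c₂ := ordCompl[q] n with hc₂
  have e1 : u * c₁ = n := Nat.ordProj_mul_ordCompl_eq_self n p
  have e2 : v * c₂ = n := Nat.ordProj_mul_ordCompl_eq_self n q
  have hcop : Nat.Coprime u v := by
    apply Nat.Coprime.pow
    exact (Nat.coprime_primes hp hq).mpr hpq
  have hud : u ∣ n := Nat.ordProj_dvd n p
  have hvd : v ∣ n := Nat.ordProj_dvd n q
  have huv : u * v ≤ n := Nat.le_of_dvd hn0 (Nat.Coprime.mul_dvd_of_dvd_of_dvd hcop hud hvd)
  have hd0 : c₁ ≤ irrDeg χ₀ := Nat.le_of_dvd (irrDeg_pos χ₀) h0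
  have hd1 : c₂ ≤ irrDeg χ₁ := Nat.le_of_dvd (irrDeg_pos χ₁) h1
  have hc₁pos : 0 < c₁ := Nat.ordCompl_pos p hn0.ne'
  have hc₂pos : 0 < c₂ := Nat.ordCompl_pos q hn0.ne'
  -- n ≤ c₁ * c₂
  have hnc : n ≤ c₁ * c₂ := by
    have h2 : n * n = (u * v) * (c₁ * c₂) := by
      calc n * n = (u * c₁) * (v * c₂) := by rw [e1, e2]
        _ = (u * v) * (c₁ * c₂) := by ring
    have h3 : n * n ≤ n * (c₁ * c₂) := by
      rw [h2]; exact Nat.mul_le_mul_right _ huv
    exact Nat.le_of_mul_le_mul_left h3 hn0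
  have h4 : c₁ ^ 2 + c₂ ^ 2 ≤ n :=
    le_trans (Nat.add_le_add (Nat.pow_le_pow_left hd0 2) (Nat.pow_le_pow_left hd1 2)) hsum
  nlinarith [sq_nonneg ((c₁ : ℤ) - c₂)]

end Cfsg.Agent.Helper23.CMTWOPb
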