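import Mathlib
import Cfsg.Agent.Helper23.CMDefs
import Cfsg.Agent.Helper23.CMPAIR
import Cfsg.Agent.Helper23.CMCCARD
import Cfsg.Agent.Helper23.CMTWOPb
import Cfsg.Agent.Helper20.CMCOMP
import Cfsg.Agent.Helper18.CMCOSET
import Cfsg.Agent.Helper3.CMCYC
import Cfsg.Agent.Helper25.CMDNORM
import Cfsg.Agent.Helper25.CMGLE
import Cfsg.Agent.Helper26.CMNONV
import Cfsg.Agent.Helper13.CMNOTP
import Cfsg.Agent.Helper26.CMORDC
import Cfsg.Agent.Helper29.CMPAIRP
import Cfsg.Agent.Helper3.CMSYLC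
import Cfsg.Agent.Helper24.Abelian
import Cfsg.Agent.Helper23.ClassProduct
import Cfsg.Agent.S0026

set_option autoImplicit false

/-!
# S4756: assembly
-/

namespace Cfsg.Agent.Helper23.CM

open Cfsg Cfsg.Agent.Helper24
open scoped commutatorElement

universe u

variable {G : Type u} [Group G] [Finite G]

/-! ## forward direction -/

theorem vanOff_of_nonvanish (h : Mult G) (χ : IrrCharacter G) (hχ : (χ : G → ℂ) 1 ≠ 1) (p : ℕ)
    (hp : p.Prime) (g : G) (hg1 : g ≠ 1) (hgo : ∃ k : ℕ, orderOf g = p ^ k)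
    (hgχ : (χ : G → ℂ) g ≠ 0) : VanOff p (χ : G → ℂ) := by
  intro r hr hrp y hy1 hyo
  obtain ⟨k, hk⟩ := hyo
  obtain ⟨k', hk'⟩ := hgo
  rcases pair_vanish h χ hχ g y hg1 hy1 ⟨p, r, k', k, hp, hr, hrp.symm, hk', hk⟩ with h0 | h0
  · exact absurd h0 hgχ
  · exact h0

theorem exists_common_prime (h : Mult G) :
    ∃ p : ℕ, p.Prime ∧ ∀ χ : IrrCharacter G, (χ : G → ℂ) 1 ≠ 1 → VanOff p (χ : G → ℂ) := by
  by_cases hnl : ∃ χ₀ : IrrCharacter G, (χ₀ : G → ℂ) 1 ≠ 1
  · obtain ⟨χ₀, hχ₀⟩ := hnl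
    obtain ⟨p, g, hp, hg1, hgo, hgχ⟩ := exists_prime_nonvanish χ₀ hχ₀
    refine ⟨p, hp, ?_⟩
    intro χ hχ
    obtain ⟨q, g', hq, hg'1, hg'o, hg'χ⟩ := exists_prime_nonvanish χ hχ
    by_cases hpq : p = q
    · subst hpq
      exact vanOff_of_nonvanish h χ hχ p hp g' hg'1 hg'o hg'χ
    · exfalso
      have hne : χ₀ ≠ χ := by
        intro he
        subst he
        obtain ⟨k, hk⟩ := hgo
        obtain ⟨k', hk'⟩ := hg'o
        rcases pair_vanish h χ₀ hχ₀ g g' hg1 hg'1 ⟨p, q, k, k', hp, hq, hpq, hk, hk'⟩ with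
          h0 | h0
        · exact hgχ h0
        · exact hg'χ h0
      exact Cfsg.Agent.Helper23.CMTWOPb.false_of_two_primes' p q hp hq hpq χ₀ χ hne
        (ordCompl_dvd_of_vanOff p hp χ₀ (vanOff_of_nonvanish h χ₀ hχ₀ p hp g hg1 hgo hgχ))
        (ordCompl_dvd_of_vanOff q hq χ (vanOff_of_nonvanish h χ hχ q hq g' hg'1 hg'o hg'χ))
  · refine ⟨2, Nat.prime_two, ?_⟩
    intro χ hχ
    exact absurd ⟨χ, hχ⟩ hnl

theorem fpf_commutator (p : ℕ) (hp : p.Prime)
    (hvan : ∀ χ : IrrCharacter G, (χ : G → ℂ) 1 ≠ 1 → VanOff p (χ : G → ℂ))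
    (hP : IsPGroup p ↥(commutator G)) :
    ∀ a : G, a ≠ 1 → (orderOf a).Coprime p → ∀ n ∈ commutator G, a * n = n * a → n = 1 := by
  intro a ha hcop n hn hcomm
  have ho1 : orderOf a ≠ 1 := fun h => ha (orderOf_eq_one_iff.mp h)
  obtain ⟨r, hr, hra⟩ := Nat.exists_prime_and_dvd ho1
  have hrp : r ≠ p := by
    intro he
    subst he
    have h1 : r ∣ Nat.gcd (orderOf a) r := Nat.dvd_gcd hra dvd_rfl
    rw [hcop] at h1
    exact hr.one_lt.ne' (Nat.dvd_one.mp h1)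
  have hyo : orderOf (a ^ (orderOf a / r)) = r :=
    orderOf_pow_orderOf_div (orderOf_pos a).ne' hra
  have hy1 : a ^ (orderOf a / r) ≠ 1 := by
    intro h1
    rw [h1, orderOf_one] at hyo
    exact hr.one_lt.ne hyo
  have hcard := card_centralizer_eq_index p hvan r hr hrp (a ^ (orderOf a / r)) hy1
    ⟨1, by rw [hyo, pow_one]⟩
  have hconj := isConj_mul_of_card _ hcard
  have hcopy : (orderOf (a ^ (orderOf a / r))).Coprime p := by
    rw [hyo]; exact (Nat.coprime_primes hr hp).mpr hrp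
  have hc : Commute a n := hcomm
  exact eq_one_of_commute p hp hP _ hcopy hconj n hn (hc.pow_left _).eq

theorem cent_sup_commutator (p : ℕ) [Fact p.Prime] (P : Sylow p G) (A : Subgroup G)
    (hPn : (P : Subgroup G).Normal) (hAab : ∀ a ∈ A, ∀ b ∈ A, a * b = b * a)
    (hcop : (Nat.card ↥A).Coprime p) :
    ((P : Subgroup G) ⊓ Subgroup.centralizer (A : Set G)) ⊔ ⁅A, (P : Subgroup G)⁆ =
      (P : Subgroup G) := by
  have hAK : A ≤ Subgroup.normalizer ((P : Subgroup G) : Set G) := by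
    rw [Subgroup.normalizer_eq_top]
    exact le_top
  obtain ⟨k, hk⟩ := P.2.exists_card_eq
  have hcop' : (Nat.card ↥A).Coprime (Nat.card ↥(P : Subgroup G)) := by
    rw [hk]; exact Nat.Coprime.pow_right _ hcop
  have hsolv : Group.IsSolvable ↥A :=
    Group.isSolvable_of_comm (fun a b => Subtype.ext (hAab a a.2 b b.2))
  have h := Cfsg.Agent.S0026.result A (P : Subgroup G) hAK hcop' (Or.inl hsolv)
  rw [sup_comm, Subgroup.commutator_comm]
  exact h

theorem commutatorElement_mem_commutator (x y : G) : ⁅x, y⁆ ∈ commutator G := by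
  rw [commutator_def]
  exact Subgroup.commutator_mem_commutator (Subgroup.mem_top x) (Subgroup.mem_top y)

theorem struct_tail (A P : Subgroup G) (hA : A ≠ ⊥)
    (hfpf : ∀ a ∈ A, a ≠ 1 → ∀ n ∈ commutator G, a * n = n * a → n = 1) :
    IsMulCommutative ↥(P ⊓ Subgroup.centralizer (A : Set G)) ∧
      (P ⊓ Subgroup.centralizer (A : Set G)) ⊓ ⁅A, P⁆ = ⊥ ∧
      ∀ a ∈ A, a ≠ 1 → ∀ d ∈ ⁅A, P⁆, a * d = d * a → d = 1 := by
  have hle : ⁅A, P⁆ ≤ commutator G := by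
    rw [commutator_def]
    exact Subgroup.commutator_mono le_top le_top
  obtain ⟨a, haA, ha1⟩ : ∃ a : G, a ∈ A ∧ a ≠ 1 := by
    obtain ⟨x, hx⟩ := (Subgroup.ne_bot_iff_exists_ne_one).mp hA
    exact ⟨x.1, x.2, fun h1 => hx (Subtype.ext h1)⟩
  have hC0 : ∀ c ∈ P ⊓ Subgroup.centralizer (A : Set G), c ∈ commutator G → c = 1 := by
    intro c hc hcG
    have hcA : c ∈ Subgroup.centralizer (A : Set G) := hc.2
    have := Subgroup.mem_centralizer_iff.mp hcA a haA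
    exact hfpf a haA ha1 c hcG this
  refine ⟨⟨⟨?_⟩⟩, ?_, ?_⟩
  · intro x y
    apply Subtype.ext
    have hmem : ⁅(x : G), (y : G)⁆ ∈ P ⊓ Subgroup.centralizer (A : Set G) := by
      rw [commutatorElement_def]
      exact Subgroup.mul_mem _ (Subgroup.mul_mem _ (Subgroup.mul_mem _ x.2 y.2)
        (Subgroup.inv_mem _ x.2)) (Subgroup.inv_mem _ y.2)
    have := hC0 _ hmem (commutatorElement_mem_commutator _ _)
    exact commutatorElement_eq_one_iff_mul_comm.mp this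
  · rw [Subgroup.eq_bot_iff_forall]
    intro c hc
    exact hC0 c hc.1 (hle hc.2)
  · intro a' ha' ha'1 d hd hcomm
    exact hfpf a' ha' ha'1 d (hle hd) hcomm

/-- the structure of the third alternative -/
def Struct (G : Type u) [Group G] [Finite G] : Prop :=
  ∃ (p : ℕ) (_ : Fact p.Prime) (P : Sylow p G) (A : Subgroup G), (P : Subgroup G).Normal ∧ IsCyclic ↥A ∧ A ≠ ⊥ ∧ (Nat.card ↥A).Coprime p ∧ A ⊔ (P : Subgroup G) = ⊤ ∧ IsMulCommutative ↥((P : Subgroup G) ⊓ Subgroup.centralizer (A : Set G)) ∧ (⁅A, (P : Subgroup G)⁆).Normal ∧ ((P : Subgroup G) ⊓ Subgroup.centralizer (A : Set G)) ⊔ ⁅A, (P : Subgroup G)⁆ = (P : Subgroup G) ∧ ((P : Subgroup G) ⊓ Subgroup.centralizer (A : Set G)) ⊓ ⁅A, (P : Subgroup G)⁆ = ⊥ ∧ ∀ a ∈ A, a ≠ 1 → ∀ d ∈ ⁅A, (P : Subgroup G)⁆, a * d = d * a → d = 1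

theorem forward (h : Mult G) :
    (∃ p : ℕ, p.Prime ∧ IsPGroup p G) ∨ IsMulCommutative G ∨ Struct G := by
  by_cases hab : ∀ a b : G, a * b = b * a
  · right; left
    exact ⟨⟨hab⟩⟩
  obtain ⟨p, hp, hvan⟩ := exists_common_prime h
  by_cases hpg : IsPGroup p G
  · left
    exact ⟨p, hp, hpg⟩
  right; right
  haveI hpF : Fact p.Prime := ⟨hp⟩
  have hP := commutator_isPGroup p hp hvan
  have hfpf := fpf_commutator p hp hvan hP
  obtain ⟨P, A, hle, hPn, hA, hcop, hAP, hAab⟩ := exists_sylow_complement p hP hpg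
  have hne : commutator G ≠ ⊥ := by
    intro hbot
    apply hab
    intro a b
    have := commutatorElement_mem_commutator a b
    rw [hbot, Subgroup.mem_bot] at this
    exact commutatorElement_eq_one_iff_mul_comm.mp this
  have hfpfA : ∀ a ∈ A, a ≠ 1 → ∀ n ∈ commutator G, a * n = n * a → n = 1 := by
    intro a ha ha1
    apply hfpf a ha1
    exact Nat.Coprime.coprime_dvd_left (Subgroup.orderOf_dvd_natCard A ha) hcop
  have hcyc := isCyclic_of_fpf p hp A hAab hcop hP hne hfpfA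
  have hDn := commutator_normal_of_sup_eq_top A (P : Subgroup G) hPn hAP
  have hCD := cent_sup_commutator p P A hPn hAab hcop
  obtain ⟨hCab, hCD0, hfpfD⟩ := struct_tail A (P : Subgroup G) hA hfpfA
  exact ⟨p, hpF, P, A, hPn, hcyc, hA, hcop, hAP, hCab, hDn, hCD, hCD0, hfpfD⟩

/-! ## backward direction -/

theorem mult_of_linear (χ : IrrCharacter G) (h1 : (χ : G → ℂ) 1 = 1) (x y : G) :
    (χ : G → ℂ) (x * y) = (χ : G → ℂ) x * (χ : G → ℂ) y := by
  obtain ⟨φ, hφ⟩ := Cfsg.Agent.Helper23.exists_monoidHom_of_irr_one_eq_one χ h1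
  rw [hφ, hφ, hφ, map_mul]

theorem mult_of_pgroup (p : ℕ) (hp : p.Prime) (hG : IsPGroup p G) : Mult G := by
  intro x y χ hx hy hxy
  exfalso
  obtain ⟨p₁, p₂, a, b, hp₁, hp₂, hne, hxo, hyo⟩ := hxy
  have key : ∀ (z : G) (q c : ℕ), q.Prime → z ≠ 1 → orderOf z = q ^ c → q = p := by
    intro z q c hq hz hzo
    obtain ⟨k, hk⟩ := hG z
    have hdvd : orderOf z ∣ p ^ k := orderOf_dvd_of_pow_eq_one hk
    have hc : c ≠ 0 := by
      intro h0
      rw [h0, pow_zero] at hzo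
      exact hz (orderOf_eq_one_iff.mp hzo)
    have hq_dvd : q ∣ p ^ k := by
      rw [hzo] at hdvd
      exact (dvd_pow_self q hc).trans hdvd
    exact (Nat.prime_dvd_prime_iff_eq hq hp).mp (hq.dvd_of_dvd_pow hq_dvd)
  exact hne ((key x p₁ a hp₁ hx hxo).trans (key y p₂ b hp₂ hy hyo).symm)

theorem mult_of_comm (hG : IsMulCommutative G) : Mult G := by
  intro x y χ _ _ _
  have hab : ∀ a b : G, a * b = b * a := fun a b => mul_comm' a b
  exact mult_of_linear χ (comm_iff_forall_irr_one.mp hab χ) x y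

theorem mult_of_struct (hS : Struct G) : Mult G := by
  obtain ⟨p, hpF, P, A, hPn, hcyc, hA, hcop, hAP, hCab, hDn, hCD, hCD0, hfpf⟩ := hS
  intro x y χ hx hy hxy
  by_cases h1 : (χ : G → ℂ) 1 = 1
  · exact mult_of_linear χ h1 x y
  have hAab : ∀ a ∈ A, ∀ b ∈ A, a * b = b * a := by
    intro a ha b hb
    have := hcyc.isMulCommutative
    have := mul_comm' (⟨a, ha⟩ : ↥A) ⟨b, hb⟩
    exact congrArg Subtype.val this
  have hC' : ∀ a ∈ (P : Subgroup G) ⊓ Subgroup.centralizer (A : Set G),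
      ∀ b ∈ (P : Subgroup G) ⊓ Subgroup.centralizer (A : Set G), a * b = b * a := by
    intro a ha b hb
    have := mul_comm' (⟨a, ha⟩ : ↥((P : Subgroup G) ⊓ Subgroup.centralizer (A : Set G))) ⟨b, hb⟩
    exact congrArg Subtype.val this
  have hGD : commutator G ≤ ⁅A, (P : Subgroup G)⁆ :=
    commutator_le_of_struct A (P : Subgroup G) hAab hC' hDn hCD hAP
  have hDP : ⁅A, (P : Subgroup G)⁆ ≤ (P : Subgroup G) := by
    conv_rhs => rw [← hCD]
    exact le_sup_right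
  have hGP := hGD.trans hDP
  obtain ⟨hor, hxyP⟩ := not_mem_of_coprimePP p P hPn hGP x y hx hy hxy
  have hf := fpf_of_not_mem p P hPn A hcop hAP ⁅A, (P : Subgroup G)⁆ hDn hfpf
  have hxy0 : (χ : G → ℂ) (x * y) = 0 :=
    vanish_of_fpf _ hDn hGD (x * y) (hf (x * y) hxyP) χ h1
  rcases hor with hxP | hyP
  · have : (χ : G → ℂ) x = 0 := vanish_of_fpf _ hDn hGD x (hf x hxP) χ h1
    rw [hxy0, this, zero_mul]
  · have : (χ : G → ℂ) y = 0 := vanish_of_fpf _ hDn hGD y (hf y hyP) χ h1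
    rw [hxy0, this, mul_zero]

theorem main : Mult G ↔ ((∃ p : ℕ, p.Prime ∧ IsPGroup p G) ∨ IsMulCommutative G ∨ Struct G) := by
  constructor
  · exact forward
  · rintro (⟨p, hp, hG⟩ | hG | hS)
    · exact mult_of_pgroup p hp hG
    · exact mult_of_comm hG
    · exact mult_of_struct hS

end Cfsg.Agent.Helper23.CM
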