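import Mathlib
import Cfsg.Agent.Helper3.CPDefs
import Cfsg.Agent.Helper3.CPBasic

set_option autoImplicit false

/-!
# S4016 piece BSWXb: the Brauer–Suzuki–Wall configuration contradicts the hypothesis
-/

namespace Cfsg.Agent.Helper23.CPBSWXb

open Subgroup Cfsg.Agent.Helper3.CP
open scoped Pointwise

universe u

variable {G : Type u} [Group G] [Finite G] {p : ℕ} [Fact p.Prime]

/-- `L ⊔ P` is commutative -/
theorem sup_comm_of_locA (h : Hyp p G) (P : Sylow p G) (L : Subgroup G) (hLA : LocA p P L) :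
    ∀ a ∈ L ⊔ (P : Subgroup G), ∀ b ∈ L ⊔ (P : Subgroup G), a * b = b * a := by
  have hPc : IsCyclic ↥(P : Subgroup G) := h.1 P
  have hPcomm : ∀ a ∈ (P : Subgroup G), ∀ b ∈ (P : Subgroup G), a * b = b * a := by
    intro a ha b hb
    have := hPc.isMulCommutative
    have := mul_comm' (⟨a, ha⟩ : ↥(P : Subgroup G)) ⟨b, hb⟩
    exact congrArg Subtype.val this
  have hLcomm : ∀ a ∈ L, ∀ b ∈ L, a * b = b * a := h.2 L hLA.L_card
  have key : L ⊔ (P : Subgroup G) ≤ centralizer ((L ⊔ (P : Subgroup G) : Subgroup G) : Set G) := by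
    apply sup_le
    · intro a ha
      rw [Subgroup.mem_centralizer_iff]
      have hle : L ⊔ (P : Subgroup G) ≤ centralizer ({a} : Set G) := by
        apply sup_le
        · intro b hb
          rw [Subgroup.mem_centralizer_iff]
          intro c hc
          rw [Set.mem_singleton_iff] at hc
          rw [hc]; exact hLcomm a ha b hb
        · intro b hb
          rw [Subgroup.mem_centralizer_iff]
          intro c hc
          rw [Set.mem_singleton_iff] at hc
          rw [hc]; exact hLA.LP_comm a ha b hb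
      intro x hx
      have := Subgroup.mem_centralizer_iff.mp (hle hx) a (Set.mem_singleton a)
      exact this.symm
    · intro a ha
      rw [Subgroup.mem_centralizer_iff]
      have hle : L ⊔ (P : Subgroup G) ≤ centralizer ({a} : Set G) := by
        apply sup_le
        · intro b hb
          rw [Subgroup.mem_centralizer_iff]
          intro c hc
          rw [Set.mem_singleton_iff] at hc
          rw [hc]; exact (hLA.LP_comm b hb a ha).symm
        · intro b hb
          rw [Subgroup.mem_centralizer_iff]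
          intro c hc
          rw [Set.mem_singleton_iff] at hc
          rw [hc]; exact hPcomm a ha b hb
      intro x hx
      have := Subgroup.mem_centralizer_iff.mp (hle hx) a (Set.mem_singleton a)
      exact this.symm
  intro a ha b hb
  have := Subgroup.mem_centralizer_iff.mp (key hb) a ha
  exact this

/-- an element of order `p` is conjugate into `P` -/
theorem exists_conj_mem (P : Sylow p G) (y : G) (hy : orderOf y = p) :
    ∃ g : G, g * y * g⁻¹ ∈ (P : Subgroup G) := by
  have hz : IsPGroup p ↥(zpowers y) := by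
    apply IsPGroup.of_card (n := 1)
    rw [Nat.card_zpowers, hy, pow_one]
  obtain ⟨S, hS⟩ := hz.exists_le_sylow
  obtain ⟨g, hg⟩ := MulAction.exists_smul_eq G S P
  refine ⟨g, ?_⟩
  have hyS : y ∈ (S : Subgroup G) := hS (mem_zpowers y)
  have hcoe : ((g • S : Sylow p G) : Subgroup G) = MulAut.conj g • (S : Subgroup G) := rfl
  have h1 : g * y * g⁻¹ ∈ ((g • S : Sylow p G) : Subgroup G) := by
    rw [hcoe, Subgroup.mem_smul_pointwise_iff_exists]
    exact ⟨y, hyS, rfl⟩
  rw [hg] at h1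
  exact h1

/-- the centralizer of an element of order `p` is commutative and contains an involution
(a conjugate of `t`) -/
theorem cent_of_order_p (h : Hyp p G) (P : Sylow p G) (L : Subgroup G) (hLA : LocA p P L)
    (t : G) (ht : orderOf t = 2) (htL : t ∈ L) (y : G) (hy : orderOf y = p) :
    ∃ t₁ : G, orderOf t₁ = 2 ∧ t₁ * y = y * t₁ ∧
      ∀ a b : G, a * y = y * a → b * y = y * b → a * b = b * a := by
  have hp : p.Prime := Fact.out
  obtain ⟨g, hg⟩ := exists_conj_mem P y hy
  have hy1 : g * y * g⁻¹ ≠ 1 := by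
    intro h1
    have : y = 1 := by
      have := congrArg (fun z => g⁻¹ * z * g) h1
      simpa [mul_assoc] using this
    rw [this, orderOf_one] at hy
    exact hp.one_lt.ne hy
  have hcent := hLA.cent_P _ hg hy1
  have hab := sup_comm_of_locA h P L hLA
  have hmem : ∀ a : G, a * y = y * a → g * a * g⁻¹ ∈ L ⊔ (P : Subgroup G) := by
    intro a ha
    rw [← hcent, Subgroup.mem_centralizer_iff]
    intro c hc
    rw [Set.mem_singleton_iff] at hc
    rw [hc]
    calc g * y * g⁻¹ * (g * a * g⁻¹) = g * (y * a) * g⁻¹ := by group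
      _ = g * (a * y) * g⁻¹ := by rw [ha]
      _ = g * a * g⁻¹ * (g * y * g⁻¹) := by group
  refine ⟨g⁻¹ * t * g, ?_, ?_, ?_⟩
  · have : g⁻¹ * t * g = MulAut.conj g⁻¹ t := by rw [MulAut.conj_apply, inv_inv]
    rw [this, MulEquiv.orderOf_eq, ht]
  · have htK : t ∈ L ⊔ (P : Subgroup G) := mem_sup_left htL
    rw [← hcent, Subgroup.mem_centralizer_iff] at htK
    have h1 : g * y * g⁻¹ * t = t * (g * y * g⁻¹) := htK _ (Set.mem_singleton _)
    calc g⁻¹ * t * g * y = g⁻¹ * (t * (g * y * g⁻¹)) * g := by group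
      _ = g⁻¹ * (g * y * g⁻¹ * t) * g := by rw [h1]
      _ = y * (g⁻¹ * t * g) := by group
  · intro a b ha hb
    have h1 := hab _ (hmem a ha) _ (hmem b hb)
    calc a * b = g⁻¹ * (g * a * g⁻¹ * (g * b * g⁻¹)) * g := by group
      _ = g⁻¹ * (g * b * g⁻¹ * (g * a * g⁻¹)) * g := by rw [h1]
      _ = b * a := by group

end Cfsg.Agent.Helper23.CPBSWXb

namespace Cfsg.Agent.Helper3.CP

open Subgroup
open scoped Pointwise

universe u

variable {G : Type u} [Group G] [Finite G] {p : ℕ} [Fact p.Prime]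

/-- BSWXb -/
theorem false_of_QD (h : Hyp p G) (hp3 : p = 3) (P : Sylow p G) (L : Subgroup G)
    (hLA : LocA p P L) (t : G) (ht : orderOf t = 2) (htL : t ∈ L)
    (Q D : Subgroup G)
    (hcard : 2 * Nat.card G = Nat.card ↥Q * (Nat.card ↥Q + 1) * (Nat.card ↥Q - 1))
    (hCQ : ∀ x ∈ Q, x ≠ 1 → Subgroup.centralizer ({x} : Set G) = Q)
    (hDab : IsMulCommutative ↥D) (hDQ : 2 * Nat.card ↥D + 1 = Nat.card ↥Q) (hQD : Q ⊓ D = ⊥)
    (hNQ : Subgroup.normalizer (Q : Set G) = Q ⊔ D)
    (hX : ∀ X : Subgroup G, X ≤ D → X ≠ ⊥ →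
        Subgroup.normalizer (X : Set G) = Subgroup.normalizer (D : Set G) ∧
        ∃ u : G, orderOf u = 2 ∧ u ∉ D ∧ (∀ d ∈ D, u * d * u⁻¹ = d⁻¹) ∧
          Subgroup.normalizer (D : Set G) = D ⊔ Subgroup.zpowers u) : False := by
  have hp : p.Prime := Fact.out
  have hkey := Cfsg.Agent.Helper23.CPBSWXb.cent_of_order_p h P L hLA t ht htL
  have hDpos : 0 < Nat.card ↥D := Nat.card_pos
  -- (1) p ∤ |Q|
  have h1 : ¬ p ∣ Nat.card ↥Q := by
    intro hdvd
    obtain ⟨y, hy⟩ := exists_prime_orderOf_dvd_card' (G := ↥Q) p hdvd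
    have hyo : orderOf (y : G) = p := by rw [Subgroup.orderOf_coe]; exact hy
    obtain ⟨t₁, ht₁, hcomm, -⟩ := hkey (y : G) hyo
    have hy1 : (y : G) ≠ 1 := by
      intro h1
      rw [h1, orderOf_one] at hyo
      exact hp.one_lt.ne hyo
    have ht₁Q : t₁ ∈ Q := by
      rw [← hCQ (y : G) y.2 hy1, Subgroup.mem_centralizer_iff]
      intro c hc
      rw [Set.mem_singleton_iff] at hc
      rw [hc]; exact hcomm.symm
    have h2 : 2 ∣ Nat.card ↥Q := by
      rw [← ht₁]
      exact Subgroup.orderOf_dvd_natCard Q ht₁Q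
    omega
  -- (2) p ∣ |D|
  have h2 : p ∣ Nat.card ↥D := by
    by_contra hnd
    have hDN : D ≤ normalizer (Q : Set G) := by rw [hNQ]; exact le_sup_right
    have hdvd := card_sup_dvd_mul hDN
    have hnp : ¬ p ∣ Nat.card ↥(D ⊔ Q) := by
      intro hd
      rcases (Nat.Prime.dvd_mul hp).mp (hd.trans hdvd) with h' | h'
      · exact hnd h'
      · exact h1 h'
    have hab := h.2 (D ⊔ Q) hnp
    have hQne : Q ≠ ⊥ := by
      intro hb
      rw [hb, Subgroup.card_bot] at hDQ
      omega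
    obtain ⟨x, hxQ, hx1⟩ : ∃ x : G, x ∈ Q ∧ x ≠ 1 := by
      obtain ⟨x, hx⟩ := (Subgroup.ne_bot_iff_exists_ne_one).mp hQne
      exact ⟨x.1, x.2, fun h1 => hx (Subtype.ext h1)⟩
    have hDbot : D = ⊥ := by
      rw [Subgroup.eq_bot_iff_forall]
      intro d hd
      have hc : d * x = x * d := hab d (mem_sup_left hd) x (mem_sup_right hxQ)
      have hdQ : d ∈ Q := by
        rw [← hCQ x hxQ hx1, Subgroup.mem_centralizer_iff]
        intro c hc'
        rw [Set.mem_singleton_iff] at hc'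
        rw [hc']; exact hc.symm
      have : d ∈ Q ⊓ D := ⟨hdQ, hd⟩
      rw [hQD, Subgroup.mem_bot] at this
      exact this
    rw [hDbot, Subgroup.card_bot] at hDQ
    apply h1
    rw [← hDQ, hp3]
  -- (3) the contradiction
  obtain ⟨y, hy⟩ := exists_prime_orderOf_dvd_card' (G := ↥D) p h2
  have hyo : orderOf (y : G) = p := by rw [Subgroup.orderOf_coe]; exact hy
  have hyD : (y : G) ∈ D := y.2
  have hy1 : (y : G) ≠ 1 := by
    intro h1
    rw [h1, orderOf_one] at hyo
    exact hp.one_lt.ne hyo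
  obtain ⟨t₁, ht₁, hcomm, hab⟩ := hkey (y : G) hyo
  have hXle : zpowers (y : G) ≤ D := by rw [zpowers_le]; exact hyD
  have hXne : zpowers (y : G) ≠ ⊥ := by
    intro hb
    rw [zpowers_eq_bot] at hb
    exact hy1 hb
  obtain ⟨hNX, u, hu, huD, huinv, hND⟩ := hX (zpowers (y : G)) hXle hXne
  -- t₁ normalizes ⟨y⟩
  have ht₁N : t₁ ∈ normalizer ((zpowers (y : G) : Subgroup G) : Set G) := by
    apply mem_normalizer_of_conj_mem
    intro m hm
    obtain ⟨n, rfl⟩ := Subgroup.mem_zpowers_iff.mp hm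
    have hc : Commute t₁ (y : G) := hcomm
    have : t₁ * (y : G) ^ n * t₁⁻¹ = (y : G) ^ n := by
      rw [(hc.zpow_right n).eq, mul_inv_cancel_right]
    rw [this]
    exact Subgroup.zpow_mem _ (mem_zpowers _) n
  rw [hNX, hND] at ht₁N
  have huN : zpowers u ≤ normalizer (D : Set G) := by
    rw [zpowers_le]
    apply mem_normalizer_of_conj_mem
    intro m hm
    rw [huinv m hm]
    exact inv_mem hm
  have hmul : ((D ⊔ zpowers u : Subgroup G) : Set G) = (D : Set G) * (zpowers u : Set G) :=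
    Subgroup.coe_mul_of_right_le_normalizer_left D (zpowers u) huN
  have ht₁mem : t₁ ∈ ((D ⊔ zpowers u : Subgroup G) : Set G) := ht₁N
  rw [hmul] at ht₁mem
  obtain ⟨d₀, hd₀, w, hw, hdw⟩ := ht₁mem
  have hd₀D : d₀ ∈ D := hd₀
  have hdw : d₀ * w = t₁ := hdw
  -- every element of D commutes with y, hence with t₁
  have hDy : ∀ d ∈ D, d * (y : G) = (y : G) * d := by
    intro d hd
    have := mul_comm' (⟨d, hd⟩ : ↥D) y
    exact congrArg Subtype.val this
  obtain ⟨n, hn⟩ := Subgroup.mem_zpowers_iff.mp hw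
  have hu2 : u ^ (2 : ℤ) = 1 := by
    have := pow_orderOf_eq_one u
    rw [hu] at this
    exact_mod_cast this
  have hwcase : w = 1 ∨ w = u := by
    have hmod : u ^ (n % 2) = u ^ n := by
      have := zpow_mod_orderOf u n
      rw [hu] at this
      exact_mod_cast this
    have h01 : n % 2 = 0 ∨ n % 2 = 1 := by omega
    rcases h01 with h0 | h0
    · left
      rw [← hn, ← hmod, h0, zpow_zero]
    · right
      rw [← hn, ← hmod, h0, zpow_one]
  rcases hwcase with hw1 | hwu
  · -- t₁ ∈ D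
    have ht₁D : t₁ ∈ D := by
      rw [← hdw, hw1, mul_one]; exact hd₀D
    -- Q ⊔ ⟨t₁⟩ is a p'-group
    have hTN : zpowers t₁ ≤ normalizer (Q : Set G) := by
      rw [zpowers_le, hNQ]; exact mem_sup_right ht₁D
    have hdvd := card_sup_dvd_mul hTN
    have hnp : ¬ p ∣ Nat.card ↥(zpowers t₁ ⊔ Q) := by
      intro hd
      rcases (Nat.Prime.dvd_mul hp).mp (hd.trans hdvd) with h' | h'
      · rw [Nat.card_zpowers, ht₁, hp3] at h'
        omega
      · exact h1 h'
    have habQ := h.2 (zpowers t₁ ⊔ Q) hnp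
    have hQne : Q ≠ ⊥ := by
      intro hb
      rw [hb, Subgroup.card_bot] at hDQ
      omega
    obtain ⟨x, hxQ, hx1⟩ : ∃ x : G, x ∈ Q ∧ x ≠ 1 := by
      obtain ⟨x, hx⟩ := (Subgroup.ne_bot_iff_exists_ne_one).mp hQne
      exact ⟨x.1, x.2, fun h1 => hx (Subtype.ext h1)⟩
    have hc : t₁ * x = x * t₁ :=
      habQ t₁ (mem_sup_left (mem_zpowers t₁)) x (mem_sup_right hxQ)
    have ht₁Q : t₁ ∈ Q := by
      rw [← hCQ x hxQ hx1, Subgroup.mem_centralizer_iff]
      intro c hc'
      rw [Set.mem_singleton_iff] at hc'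
      rw [hc']; exact hc.symm
    have : t₁ ∈ Q ⊓ D := ⟨ht₁Q, ht₁D⟩
    rw [hQD, Subgroup.mem_bot] at this
    rw [this, orderOf_one] at ht₁
    omega
  · -- t₁ = d₀ * u : u commutes with y but inverts it
    have hueq : u = d₀⁻¹ * t₁ := by
      rw [← hdw, hwu, inv_mul_cancel_left]
    have hd₀y : d₀⁻¹ * (y : G) = (y : G) * d₀⁻¹ := hDy _ (inv_mem hd₀D)
    have huy : u * (y : G) = (y : G) * u := by
      rw [hueq, mul_assoc, hcomm, ← mul_assoc, hd₀y, mul_assoc]
    have hinv := huinv (y : G) hyD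
    rw [huy, mul_inv_cancel_right] at hinv
    have hy2 : (y : G) ^ 2 = 1 := by
      rw [pow_two]
      nth_rewrite 1 [hinv]
      exact inv_mul_cancel _
    have := orderOf_dvd_of_pow_eq_one hy2
    rw [hyo, hp3] at this
    omega

end Cfsg.Agent.Helper3.CP
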