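import Mathlib
import Cfsg.Agent.Helper3.CPDefs
import Cfsg.Agent.Helper3.CPBasic

set_option autoImplicit false

/-!
# S4016 piece LOCb: `N(P)/C(P)` inside `Aut(P)`, `P` cyclic of odd prime power order
-/

namespace Cfsg.Agent.Helper23.CPLOCb

open Subgroup

universe u

variable {G : Type u} [Group G]

/-- the centralizer of a cyclic subgroup is the centralizer of a generator -/
theorem centralizer_eq_of_generator (P : Subgroup G) (g : G) (hgP : g ∈ P)
    (hgen : ∀ x ∈ P, x ∈ zpowers g) :
    centralizer ((P : Subgroup G) : Set G) = centralizer ({g} : Set G) := by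
  apply le_antisymm
  · apply Subgroup.centralizer_le
    intro x hx
    rw [Set.mem_singleton_iff] at hx
    rw [hx]; exact hgP
  · intro x hx
    rw [Subgroup.mem_centralizer_iff] at hx ⊢
    intro y hy
    have hgx : g * x = x * g := hx g (Set.mem_singleton g)
    obtain ⟨n, rfl⟩ := Subgroup.mem_zpowers_iff.mp (hgen y hy)
    have hc : Commute g x := hgx
    exact (hc.zpow_left n).eq

/-- coprime subgroups, one normalizing the other: the join has the product order -/
theorem card_sup_eq_mul {H N : Subgroup G} (h : H ≤ normalizer (N : Set G))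
    (hcop : (Nat.card ↥H).Coprime (Nat.card ↥N)) :
    Nat.card ↥(H ⊔ N) = Nat.card ↥H * Nat.card ↥N := by
  apply Nat.dvd_antisymm
  · exact Cfsg.Agent.Helper3.CP.card_sup_dvd_mul h
  · exact Nat.Coprime.mul_dvd_of_dvd_of_dvd hcop (Subgroup.card_dvd_of_le le_sup_left)
      (Subgroup.card_dvd_of_le le_sup_right)

end Cfsg.Agent.Helper23.CPLOCb

namespace Cfsg.Agent.Helper3.CP

open Subgroup

universe u

variable {G : Type u} [Group G] [Finite G] {p : ℕ} [Fact p.Prime]

/-- LOCb -/
theorem exists_locB (h : Hyp p G) (hodd : p ≠ 2) (P : Sylow p G) (L : Subgroup G)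
    (hLA : LocA p P L)
    (hNC : ¬ normalizer ((P : Subgroup G) : Set G) ≤ centralizer ((P : Subgroup G) : Set G)) :
    ∃ d : ℕ, Nat.card ↥(normalizer ((P : Subgroup G) : Set G)) =
        Nat.card ↥(P : Subgroup G) * Nat.card ↥L * d ∧ d ∣ p - 1 ∧ 1 < d ∧
      ∀ R : Subgroup G, R ≤ normalizer ((P : Subgroup G) : Set G) →
        R ⊓ (L ⊔ (P : Subgroup G)) = ⊥ → IsCyclic ↥R ∧ Nat.card ↥R ∣ d := by
  have hp : p.Prime := Fact.out
  have hcyc : IsCyclic ↥(P : Subgroup G) := h.1 P
  -- P ≠ ⊥
  have hPne : (P : Subgroup G) ≠ ⊥ := by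
    intro hbot
    apply hNC
    intro x _
    rw [Subgroup.mem_centralizer_iff]
    intro y hy
    have hy' : y ∈ (P : Subgroup G) := hy
    rw [hbot, Subgroup.mem_bot] at hy'
    rw [hy']; simp
  -- a generator
  obtain ⟨g, hg⟩ := IsCyclic.exists_generator (α := ↥(P : Subgroup G))
  have hgP : (g : G) ∈ (P : Subgroup G) := g.2
  have hgen : ∀ x ∈ (P : Subgroup G), x ∈ zpowers (g : G) := by
    intro x hx
    have h1 := hg ⟨x, hx⟩
    obtain ⟨n, hn⟩ := Subgroup.mem_zpowers_iff.mp h1
    refine Subgroup.mem_zpowers_iff.mpr ⟨n, ?_⟩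
    have := congrArg Subtype.val hn
    simpa using this
  have hg1 : (g : G) ≠ 1 := by
    intro hg1
    apply hPne
    rw [Subgroup.eq_bot_iff_forall]
    intro x hx
    have := hgen x hx
    rw [hg1] at this
    simpa using this
  have hC : centralizer ((P : Subgroup G) : Set G) = L ⊔ (P : Subgroup G) := by
    rw [Cfsg.Agent.Helper23.CPLOCb.centralizer_eq_of_generator (P : Subgroup G) g hgP hgen]
    exact hLA.cent_P g hgP hg1
  have hCN : centralizer ((P : Subgroup G) : Set G) ≤ normalizer ((P : Subgroup G) : Set G) :=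
    Subgroup.centralizer_le_normalizer _
  have hPC : (P : Subgroup G) ≤ centralizer ((P : Subgroup G) : Set G) := by
    rw [hC]; exact le_sup_right
  -- orders
  obtain ⟨k, hk⟩ := P.2.exists_card_eq
  have hk0 : 0 < k := by
    rcases Nat.eq_zero_or_pos k with h0 | h0
    · exfalso
      apply hPne
      rw [h0, pow_zero] at hk
      exact (Subgroup.card_eq_one).mp hk
    · exact h0
  have hcop : (Nat.card ↥L).Coprime (Nat.card ↥(P : Subgroup G)) := by
    rw [hk]
    apply Nat.Coprime.pow_right
    rw [Nat.coprime_comm]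
    exact (Nat.Prime.coprime_iff_not_dvd hp).mpr hLA.L_card
  have hLN : L ≤ normalizer ((P : Subgroup G) : Set G) := by
    intro a ha
    apply mem_normalizer_of_conj_mem
    intro y hy
    have := hLA.LP_comm a ha y hy
    rw [this]; simpa using hy
  have hcardC : Nat.card ↥(centralizer ((P : Subgroup G) : Set G)) =
      Nat.card ↥L * Nat.card ↥(P : Subgroup G) := by
    rw [hC]
    exact Cfsg.Agent.Helper23.CPLOCb.card_sup_eq_mul hLN hcop
  -- the index d
  set N : Subgroup G := normalizer ((P : Subgroup G) : Set G) with hN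
  set C : Subgroup G := centralizer ((P : Subgroup G) : Set G) with hCdef
  let φ : ↥N →* MulAut ↥(P : Subgroup G) := (P : Subgroup G).normalizerMonoidHom
  have hker : φ.ker = C.subgroupOf N := Subgroup.normalizerMonoidHom_ker (P : Subgroup G)
  have hdcard : Nat.card ↥N = Nat.card ↥C * C.relIndex N := by
    have h1 := Subgroup.card_mul_index (C.subgroupOf N)
    rw [← h1, Subgroup.relIndex]
    congr 1
    exact (Nat.card_congr (Subgroup.subgroupOfEquivOfLe hCN).toEquiv)
  have hrange : Nat.card ↥φ.range = C.relIndex N := by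
    rw [← Subgroup.index_ker, hker, Subgroup.relIndex]
  have hdvd_aut : C.relIndex N ∣ Nat.card (MulAut ↥(P : Subgroup G)) := by
    rw [← hrange]
    exact Subgroup.card_subgroup_dvd_card _
  have hcop_d : (C.relIndex N).Coprime p := by
    apply Nat.Coprime.coprime_dvd_left (Subgroup.relIndex_dvd_of_le_left N hPC)
    apply Nat.Coprime.coprime_dvd_left (Subgroup.relIndex_dvd_index_of_le P.le_normalizer)
    rw [Nat.coprime_comm, Nat.Prime.coprime_iff_not_dvd hp]
    exact P.not_dvd_index
  have hd_dvd : C.relIndex N ∣ p - 1 := by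
    rw [hcyc.card_mulAut, hk, Nat.totient_prime_pow hp hk0] at hdvd_aut
    exact Nat.Coprime.dvd_of_dvd_mul_left (Nat.Coprime.pow_right _ hcop_d) hdvd_aut
  have hp1 : p - 1 ≠ 0 := by
    have := hp.two_le
    omega
  have hd0 : C.relIndex N ≠ 0 := by
    intro h0
    rw [h0] at hd_dvd
    exact hp1 (Nat.eq_zero_of_zero_dvd hd_dvd)
  have hd1 : C.relIndex N ≠ 1 := by
    intro h1
    exact hNC (Subgroup.relIndex_eq_one.mp h1)
  -- Aut(P) cyclic
  have hAutCyc : IsCyclic (MulAut ↥(P : Subgroup G)) := by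
    have hc : IsCyclic (ZMod (Nat.card ↥(P : Subgroup G)))ˣ := by
      rw [hk]
      exact ZMod.isCyclic_units_of_prime_pow p hp hodd k
    exact (MulEquiv.isCyclic (IsCyclic.mulAutMulEquiv ↥(P : Subgroup G))).mpr hc
  refine ⟨C.relIndex N, ?_, hd_dvd, by omega, ?_⟩
  · rw [hdcard, hcardC]; ring
  · intro R hRN hRC
    let ψ : ↥R →* MulAut ↥(P : Subgroup G) := φ.comp (Subgroup.inclusion hRN)
    have hψinj : Function.Injective ψ := by
      rw [injective_iff_map_eq_one]
      intro x hx
      have hx' : Subgroup.inclusion hRN x ∈ φ.ker := hx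
      rw [hker, Subgroup.mem_subgroupOf] at hx'
      have hxC : (x : G) ∈ C := hx'
      have hxR : (x : G) ∈ R := x.2
      have : (x : G) ∈ R ⊓ (L ⊔ (P : Subgroup G)) := by
        rw [← hC]; exact ⟨hxR, hxC⟩
      rw [hRC, Subgroup.mem_bot] at this
      exact Subtype.ext this
    refine ⟨isCyclic_of_injective ψ hψinj, ?_⟩
    have hle : ψ.range ≤ φ.range := by
      rintro _ ⟨x, rfl⟩
      exact ⟨Subgroup.inclusion hRN x, rfl⟩
    have h1 : Nat.card ↥R = Nat.card ↥ψ.range :=
      Nat.card_congr (MonoidHom.ofInjective hψinj).toEquiv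
    rw [h1, ← hrange]
    exact Subgroup.card_dvd_of_le hle

end Cfsg.Agent.Helper3.CP
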