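import Mathlib

/-!
# Alternating sums over chains of `p`-subgroups: the cancellation lemmas

Pure combinatorics of finite sets of subgroups: toggling a canonically attached member of a chain
gives a sign-reversing involution.
-/

set_option autoImplicit false
set_option linter.unusedSectionVars false
set_option linter.unusedVariables false
set_option linter.unusedSimpArgs false
set_option linter.unnecessarySimpa false
set_option linter.style.haveILetI false

namespace Cfsg.Agent.Helper23.CS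

section Toggle

variable {α : Type*} [DecidableEq α]

/-- Remove `a` from `s` if it is there, add it otherwise. -/
def toggle (s : Finset α) (a : α) : Finset α := if a ∈ s then s.erase a else insert a s

theorem toggle_of_mem {s : Finset α} {a : α} (h : a ∈ s) : toggle s a = s.erase a := if_pos h

theorem toggle_of_notMem {s : Finset α} {a : α} (h : a ∉ s) : toggle s a = insert a s := if_neg h

theorem toggle_toggle (s : Finset α) (a : α) : toggle (toggle s a) a = s := by
  by_cases h : a ∈ s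
  · rw [toggle_of_mem h, toggle_of_notMem (Finset.notMem_erase a s), Finset.insert_erase h]
  · rw [toggle_of_notMem h, toggle_of_mem (Finset.mem_insert_self a s), Finset.erase_insert h]

theorem mem_toggle_self_iff (s : Finset α) (a : α) : a ∈ toggle s a ↔ a ∉ s := by
  by_cases h : a ∈ s
  · rw [toggle_of_mem h]
    simp [h]
  · rw [toggle_of_notMem h]
    simp [h]

theorem toggle_ne (s : Finset α) (a : α) : toggle s a ≠ s := by
  intro h
  have := mem_toggle_self_iff s a
  rw [h] at this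
  by_cases h' : a ∈ s
  · exact (this.mp h') h'
  · exact h' (this.mpr h')

theorem mem_toggle_of_ne {s : Finset α} {a b : α} (h : b ≠ a) : b ∈ toggle s a ↔ b ∈ s := by
  by_cases h' : a ∈ s
  · rw [toggle_of_mem h', Finset.mem_erase]
    exact ⟨fun h2 => h2.2, fun h2 => ⟨h, h2⟩⟩
  · rw [toggle_of_notMem h', Finset.mem_insert]
    exact ⟨fun h2 => h2.resolve_left h, fun h2 => Or.inr h2⟩

theorem mem_toggle_iff {s : Finset α} {a b : α} :
    b ∈ toggle s a ↔ (b = a ∧ a ∉ s) ∨ (b ≠ a ∧ b ∈ s) := by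
  by_cases hb : b = a
  · subst hb
    rw [mem_toggle_self_iff]
    simp
  · rw [mem_toggle_of_ne hb]
    simp [hb]

theorem erase_toggle (s : Finset α) (a : α) : (toggle s a).erase a = s.erase a := by
  by_cases h : a ∈ s
  · rw [toggle_of_mem h, Finset.erase_idem]
  · rw [toggle_of_notMem h, Finset.erase_insert h, Finset.erase_eq_of_notMem h]

theorem neg_one_pow_card_toggle (s : Finset α) (a : α) :
    (-1 : ℤ) ^ (toggle s a).card = - (-1 : ℤ) ^ s.card := by
  by_cases h : a ∈ s
  · rw [toggle_of_mem h]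
    have h1 : s.card = (s.erase a).card + 1 := (Finset.card_erase_add_one h).symm
    rw [h1, pow_succ]
    ring
  · rw [toggle_of_notMem h, Finset.card_insert_of_notMem h, pow_succ]
    ring

theorem filter_toggle (s : Finset α) (a : α) (P : α → Prop) [DecidablePred P] (h : ¬ P a) :
    (toggle s a).filter P = s.filter P := by
  ext b
  rw [Finset.mem_filter, Finset.mem_filter]
  constructor
  · rintro ⟨h1, h2⟩
    have hb : b ≠ a := fun e => h (e ▸ h2)
    exact ⟨(mem_toggle_of_ne hb).mp h1, h2⟩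
  · rintro ⟨h1, h2⟩
    have hb : b ≠ a := fun e => h (e ▸ h2)
    exact ⟨(mem_toggle_of_ne hb).mpr h1, h2⟩

/-- **The toggling lemma.** A canonically attached element that survives toggling gives a
sign-reversing involution. -/
theorem sum_toggle_eq_zero (S : Finset (Finset α)) (f : Finset α → ℤ) (c : Finset α → α)
    (hS : ∀ s ∈ S, toggle s (c s) ∈ S) (hc : ∀ s ∈ S, c (toggle s (c s)) = c s)
    (hf : ∀ s ∈ S, f (toggle s (c s)) = f s) :
    ∑ s ∈ S, (-1 : ℤ) ^ s.card * f s = 0 := by
  refine Finset.sum_involution (fun s _ => toggle s (c s)) ?_ ?_ ?_ ?_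
  · intro s hs
    rw [neg_one_pow_card_toggle, hf s hs]
    ring
  · intro s hs _
    exact toggle_ne s (c s)
  · intro s hs
    exact hS s hs
  · intro s hs
    show toggle (toggle s (c s)) (c (toggle s (c s))) = s
    rw [hc s hs, toggle_toggle]

end Toggle

section Chain

open Classical

variable {G : Type*} [Group G]

/-- Nonempty chains of nontrivial `p`-subgroups. -/
def IsCh (p : ℕ) (s : Finset (Subgroup G)) : Prop :=
  s.Nonempty ∧ (∀ Q ∈ s, ∀ R ∈ s, Q ≤ R ∨ R ≤ Q) ∧ (∀ Q ∈ s, Q ≠ ⊥ ∧ IsPGroup p Q)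

/-- Normal chains: every member is normal in the largest one. -/
def IsNCh (p : ℕ) (s : Finset (Subgroup G)) : Prop :=
  s.Nonempty ∧ (∀ Q ∈ s, ∀ R ∈ s, Q ≤ R ∨ R ≤ Q) ∧ (∀ Q ∈ s, Q ≠ ⊥ ∧ IsPGroup p Q) ∧
    ∃ T ∈ s, ∀ Q ∈ s, Q ≤ T ∧ T ≤ Subgroup.normalizer ((Q : Subgroup G) : Set G)

/-- The stabilizer of a chain. -/
def stab (s : Finset (Subgroup G)) : Subgroup G :=
  ⨅ Q ∈ s, Subgroup.normalizer ((Q : Subgroup G) : Set G)

theorem IsNCh.isCh {p : ℕ} {s : Finset (Subgroup G)} (h : IsNCh p s) : IsCh p s :=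
  ⟨h.1, h.2.1, h.2.2.1⟩

theorem mem_stab {s : Finset (Subgroup G)} {g : G} :
    g ∈ stab s ↔ ∀ Q ∈ s, g ∈ Subgroup.normalizer ((Q : Subgroup G) : Set G) := by
  simp only [stab, Subgroup.mem_iInf]

theorem stab_insert (C : Subgroup G) (s : Finset (Subgroup G)) :
    stab (insert C s) = Subgroup.normalizer ((C : Subgroup G) : Set G) ⊓ stab s := by
  unfold stab
  rw [Finset.iInf_insert]

theorem stab_anti {s t : Finset (Subgroup G)} (h : s ⊆ t) : stab t ≤ stab s := by
  intro g hg
  rw [mem_stab] at hg ⊢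
  exact fun Q hQ => hg Q (h hQ)

/-- Toggling a member normalized by the rest does not change the stabilizer (relative to `K`). -/
theorem stab_toggle_inf (s : Finset (Subgroup G)) (C K : Subgroup G)
    (h : stab (s.erase C) ⊓ K ≤ Subgroup.normalizer ((C : Subgroup G) : Set G)) :
    stab (toggle s C) ⊓ K = stab s ⊓ K := by
  have key : stab (insert C (s.erase C)) ⊓ K = stab (s.erase C) ⊓ K := by
    rw [stab_insert]
    apply le_antisymm
    · exact inf_le_inf_right _ inf_le_right
    · exact le_inf (le_inf h inf_le_left) inf_le_right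
  by_cases hC : C ∈ s
  · rw [toggle_of_mem hC, ← key, Finset.insert_erase hC]
  · rw [toggle_of_notMem hC]
    have : s.erase C = s := Finset.erase_eq_of_notMem hC
    rw [this] at key
    exact key

theorem stab_toggle (s : Finset (Subgroup G)) (C : Subgroup G)
    (h : stab (s.erase C) ≤ Subgroup.normalizer ((C : Subgroup G) : Set G)) :
    stab (toggle s C) = stab s := by
  have := stab_toggle_inf s C ⊤ (inf_le_left.trans h)
  rwa [inf_top_eq, inf_top_eq] at this

/-- The supremum of a nonempty finite chain is a member. -/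
theorem sup_mem_of_chain {s : Finset (Subgroup G)} (hne : s.Nonempty)
    (hch : ∀ Q ∈ s, ∀ R ∈ s, Q ≤ R ∨ R ≤ Q) : s.sup id ∈ s := by
  revert hch
  refine Finset.Nonempty.cons_induction (motive := fun s _ =>
    (∀ Q ∈ s, ∀ R ∈ s, Q ≤ R ∨ R ≤ Q) → s.sup id ∈ s) ?_ ?_ hne
  · intro a _
    simp
  · intro a s ha hs ih hch
    rw [Finset.sup_cons]
    have h1 : s.sup id ∈ s := ih (fun Q hQ R hR =>
      hch Q (Finset.mem_cons.mpr (Or.inr hQ)) R (Finset.mem_cons.mpr (Or.inr hR)))
    rcases hch a (Finset.mem_cons_self a s) _ (Finset.mem_cons.mpr (Or.inr h1)) with h | h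
    · rw [id, sup_eq_right.mpr h]
      exact Finset.mem_cons.mpr (Or.inr h1)
    · rw [id, sup_eq_left.mpr h]
      exact Finset.mem_cons_self a s

/-- The subgroup generated by the `T`-conjugates of `Q`. -/
def ncl (T Q : Subgroup G) : Subgroup G :=
  Subgroup.closure {y | ∃ t ∈ T, ∃ q ∈ Q, y = t * q * t⁻¹}

theorem le_ncl (T Q : Subgroup G) : Q ≤ ncl T Q := by
  intro q hq
  apply Subgroup.subset_closure
  exact ⟨1, T.one_mem, q, hq, by simp⟩

theorem ncl_le {T Q R : Subgroup G} (hQR : Q ≤ R)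
    (hT : T ≤ Subgroup.normalizer ((R : Subgroup G) : Set G)) : ncl T Q ≤ R := by
  unfold ncl
  rw [Subgroup.closure_le]
  rintro y ⟨t, ht, q, hq, rfl⟩
  exact (Subgroup.mem_normalizer_iff.mp (hT ht) q).mp (hQR hq)

theorem mem_normalizer_ncl {T Q : Subgroup G} {g : G}
    (hgT : g ∈ Subgroup.normalizer ((T : Subgroup G) : Set G))
    (hgQ : g ∈ Subgroup.normalizer ((Q : Subgroup G) : Set G)) :
    g ∈ Subgroup.normalizer ((ncl T Q : Subgroup G) : Set G) := by
  unfold ncl
  apply Subgroup.normalizer_le_normalizer_closure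
  rw [Subgroup.mem_set_normalizer_iff]
  have hfwd : ∀ g' : G, g' ∈ Subgroup.normalizer ((T : Subgroup G) : Set G) →
      g' ∈ Subgroup.normalizer ((Q : Subgroup G) : Set G) →
      ∀ y ∈ {y : G | ∃ t ∈ T, ∃ q ∈ Q, y = t * q * t⁻¹},
        g' * y * g'⁻¹ ∈ {y : G | ∃ t ∈ T, ∃ q ∈ Q, y = t * q * t⁻¹} := by
    rintro g' hT' hQ' y ⟨t, ht, q, hq, rfl⟩
    refine ⟨g' * t * g'⁻¹, (Subgroup.mem_normalizer_iff.mp hT' t).mp ht,
      g' * q * g'⁻¹, (Subgroup.mem_normalizer_iff.mp hQ' q).mp hq, ?_⟩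
    group
  intro h
  constructor
  · exact hfwd g hgT hgQ h
  · intro hh
    have := hfwd g⁻¹ (Subgroup.inv_mem _ hgT) (Subgroup.inv_mem _ hgQ) _ hh
    have e : g⁻¹ * (g * h * g⁻¹) * g⁻¹⁻¹ = h := by group
    rwa [e] at this

theorem le_normalizer_ncl (T Q : Subgroup G) :
    T ≤ Subgroup.normalizer ((ncl T Q : Subgroup G) : Set G) := by
  intro g hg
  unfold ncl
  apply Subgroup.normalizer_le_normalizer_closure
  rw [Subgroup.mem_set_normalizer_iff]
  have hfwd : ∀ g' : G, g' ∈ T →
      ∀ y ∈ {y : G | ∃ t ∈ T, ∃ q ∈ Q, y = t * q * t⁻¹},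
        g' * y * g'⁻¹ ∈ {y : G | ∃ t ∈ T, ∃ q ∈ Q, y = t * q * t⁻¹} := by
    rintro g' hT' y ⟨t, ht, q, hq, rfl⟩
    refine ⟨g' * t, T.mul_mem hT' ht, q, hq, ?_⟩
    group
  intro h
  constructor
  · exact hfwd g hg h
  · intro hh
    have := hfwd g⁻¹ (T.inv_mem hg) _ hh
    have e : g⁻¹ * (g * h * g⁻¹) * g⁻¹⁻¹ = h := by group
    rwa [e] at this

/-- A proper subgroup of a finite `p`-group lies in a proper normal subgroup. -/
theorem exists_normal_proper [Finite G] {p : ℕ} [Fact p.Prime] {T Q : Subgroup G}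
    (hT : IsPGroup p T) (hQT : Q < T) :
    ∃ R : Subgroup G, Q ≤ R ∧ R < T ∧ T ≤ Subgroup.normalizer ((R : Subgroup G) : Set G) := by
  haveI : Group.IsNilpotent T := hT.isNilpotent
  have nc : NormalizerCondition T := Group.normalizerCondition_of_isNilpotent
  have hQ' : Q.subgroupOf T ≠ ⊤ := by
    intro h
    rw [Subgroup.subgroupOf_eq_top] at h
    exact lt_irrefl _ (lt_of_lt_of_le hQT h)
  rcases eq_top_or_exists_le_coatom (Q.subgroupOf T) with h | ⟨R', hR', hQR'⟩
  · exact absurd h hQ'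
  · have hn : R'.Normal := Subgroup.NormalizerCondition.normal_of_coatom R' nc hR'
    refine ⟨R'.map T.subtype, ?_, ?_, ?_⟩
    · intro q hq
      have hqT := hQT.le hq
      exact ⟨⟨q, hqT⟩, hQR' (Subgroup.mem_subgroupOf.mpr hq), rfl⟩
    · rw [lt_iff_le_and_ne]
      constructor
      · exact Subgroup.map_subtype_le R'
      · intro h
        apply hR'.1
        rw [eq_top_iff]
        intro t _
        have ht : (t : G) ∈ R'.map T.subtype := by rw [h]; exact t.2
        obtain ⟨r, hr, hrt⟩ := ht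
        have : r = t := Subtype.ext hrt
        rwa [← this]
    · intro t ht
      rw [Subgroup.mem_normalizer_iff]
      intro h
      constructor
      · rintro ⟨r, hr, rfl⟩
        exact ⟨⟨t, ht⟩ * r * ⟨t, ht⟩⁻¹, hn.conj_mem r hr ⟨t, ht⟩, rfl⟩
      · rintro ⟨r, hr, hrt⟩
        refine ⟨⟨t, ht⟩⁻¹ * r * ⟨t, ht⟩, ?_, ?_⟩
        · have := hn.conj_mem r hr (⟨t, ht⟩⁻¹)
          simpa using this
        · show (t⁻¹ * (r : G) * t : G) = h
          have hrt' : (r : G) = t * h * t⁻¹ := hrt
          rw [hrt']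
          group

/-- The largest member. -/
noncomputable def topOf (s : Finset (Subgroup G)) : Subgroup G := s.sup id

/-- The members not normal in the largest one. -/
noncomputable def badOf (s : Finset (Subgroup G)) : Finset (Subgroup G) :=
  s.filter (fun Q => ¬ topOf s ≤ Subgroup.normalizer ((Q : Subgroup G) : Set G))

/-- The member to toggle in a chain that is not normal. -/
noncomputable def cB (s : Finset (Subgroup G)) : Subgroup G :=
  ncl (topOf s) ((badOf s).sup id)

/-- Toggling `cB s` in a chain that is not normal. -/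
theorem nonnormal_toggle [Finite G] {p : ℕ} [Fact p.Prime] {s : Finset (Subgroup G)}
    (hch : IsCh p s) (hnn : ¬ IsNCh p s) :
    IsCh p (toggle s (cB s)) ∧ ¬ IsNCh p (toggle s (cB s)) ∧
      cB (toggle s (cB s)) = cB s ∧ stab (toggle s (cB s)) = stab s := by
  obtain ⟨hne, hcomp, hmem⟩ := hch
  have hT : topOf s ∈ s := sup_mem_of_chain hne hcomp
  have hle : ∀ Q ∈ s, Q ≤ topOf s := fun Q hQ => Finset.le_sup (f := id) hQ
  have hbadne : (badOf s).Nonempty := by
    by_contra h
    rw [Finset.not_nonempty_iff_eq_empty] at h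
    apply hnn
    refine ⟨hne, hcomp, hmem, topOf s, hT, fun Q hQ => ⟨hle Q hQ, ?_⟩⟩
    by_contra hq
    have : Q ∈ badOf s := Finset.mem_filter.mpr ⟨hQ, hq⟩
    rw [h] at this
    exact absurd this (Finset.notMem_empty _)
  have hQ₀bad : (badOf s).sup id ∈ badOf s :=
    sup_mem_of_chain hbadne (fun Q hQ R hR =>
      hcomp Q (Finset.mem_filter.mp hQ).1 R (Finset.mem_filter.mp hR).1)
  have hQ₀s : (badOf s).sup id ∈ s := (Finset.mem_filter.mp hQ₀bad).1
  have hQ₀n : ¬ topOf s ≤ Subgroup.normalizer (((badOf s).sup id : Subgroup G) : Set G) :=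
    (Finset.mem_filter.mp hQ₀bad).2
  have hQ₀T : (badOf s).sup id ≤ topOf s := hle _ hQ₀s
  have hQ₀ltT : (badOf s).sup id < topOf s := by
    refine lt_of_le_of_ne hQ₀T ?_
    intro h
    apply hQ₀n
    rw [h]
    exact Subgroup.le_normalizer
  have hQC : (badOf s).sup id ≤ cB s := le_ncl _ _
  have hCT : cB s ≤ topOf s := ncl_le hQ₀T Subgroup.le_normalizer
  have hTC : topOf s ≤ Subgroup.normalizer ((cB s : Subgroup G) : Set G) := le_normalizer_ncl _ _
  have hCneQ : cB s ≠ (badOf s).sup id := by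
    intro h
    apply hQ₀n
    rw [← h]
    exact hTC
  have hCneT : cB s ≠ topOf s := by
    obtain ⟨R, hQR, hRT, hTR⟩ := exists_normal_proper (hmem _ hT).2 hQ₀ltT
    intro h
    have h1 : cB s ≤ R := ncl_le hQR hTR
    rw [h] at h1
    exact lt_irrefl _ (lt_of_le_of_lt h1 hRT)
  have hCp : IsPGroup p (cB s) := (hmem _ hT).2.to_le hCT
  have hCbot : cB s ≠ ⊥ := by
    intro h
    apply (hmem _ hQ₀s).1
    rw [eq_bot_iff, ← h]
    exact hQC
  have hcompC : ∀ R ∈ s, R ≤ cB s ∨ cB s ≤ R := by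
    intro R hR
    rcases hcomp R hR _ hQ₀s with h | h
    · left; exact h.trans hQC
    · by_cases hRbad : R ∈ badOf s
      · left
        exact (Finset.le_sup (f := id) hRbad : R ≤ (badOf s).sup id).trans hQC
      · right
        have h2 : topOf s ≤ Subgroup.normalizer ((R : Subgroup G) : Set G) := by
          by_contra hh
          exact hRbad (Finset.mem_filter.mpr ⟨hR, hh⟩)
        exact ncl_le h h2
  have hTs' : topOf s ∈ toggle s (cB s) := (mem_toggle_of_ne hCneT.symm).mpr hT
  have hQ₀s' : (badOf s).sup id ∈ toggle s (cB s) := (mem_toggle_of_ne hCneQ.symm).mpr hQ₀s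
  have hs'sub : ∀ R ∈ toggle s (cB s), R = cB s ∨ R ∈ s := by
    intro R hR
    rcases mem_toggle_iff.mp hR with h | h
    · exact Or.inl h.1
    · exact Or.inr h.2
  have hch' : IsCh p (toggle s (cB s)) := by
    refine ⟨⟨_, hTs'⟩, ?_, ?_⟩
    · intro Q hQ R hR
      rcases hs'sub Q hQ with rfl | hQs
      · rcases hs'sub R hR with rfl | hRs
        · exact Or.inl le_rfl
        · exact (hcompC R hRs).symm
      · rcases hs'sub R hR with rfl | hRs
        · exact hcompC Q hQs
        · exact hcomp Q hQs R hRs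
    · intro Q hQ
      rcases hs'sub Q hQ with rfl | hQs
      · exact ⟨hCbot, hCp⟩
      · exact hmem Q hQs
  have htop' : topOf (toggle s (cB s)) = topOf s := by
    apply le_antisymm
    · apply Finset.sup_le
      intro R hR
      rcases hs'sub R hR with rfl | hRs
      · exact hCT
      · exact hle R hRs
    · exact Finset.le_sup (f := id) hTs'
  have hbad' : badOf (toggle s (cB s)) = badOf s := by
    unfold badOf
    rw [htop']
    exact filter_toggle s (cB s) _ (not_not.mpr hTC)
  have hcB' : cB (toggle s (cB s)) = cB s := by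
    have : cB (toggle s (cB s)) =
        ncl (topOf (toggle s (cB s))) ((badOf (toggle s (cB s))).sup id) := rfl
    rw [this, htop', hbad']
    rfl
  refine ⟨hch', ?_, hcB', ?_⟩
  · rintro ⟨_, _, _, T', hT', hall⟩
    have hT'eq : T' = topOf s := by
      apply le_antisymm
      · rcases hs'sub T' hT' with rfl | h
        · exact hCT
        · exact hle _ h
      · exact (hall _ hTs').1
    apply hQ₀n
    rw [← hT'eq]
    exact (hall _ hQ₀s').2
  · apply stab_toggle
    intro g hg
    rw [mem_stab] at hg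
    have h1 : topOf s ∈ s.erase (cB s) := Finset.mem_erase.mpr ⟨hCneT.symm, hT⟩
    have h2 : (badOf s).sup id ∈ s.erase (cB s) := Finset.mem_erase.mpr ⟨hCneQ.symm, hQ₀s⟩
    exact mem_normalizer_ncl (hg _ h1) (hg _ h2)

/-- **Chains that are not normal cancel.** -/
theorem sum_nonnormal_eq_zero [Finite G] {p : ℕ} [Fact p.Prime] (F : Subgroup G → ℤ)
    (S : Finset (Finset (Subgroup G))) (hS : ∀ s, s ∈ S ↔ IsCh p s ∧ ¬ IsNCh p s) :
    ∑ s ∈ S, (-1 : ℤ) ^ s.card * F (stab s) = 0 := by
  apply sum_toggle_eq_zero S (fun s => F (stab s)) cB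
  · intro s hs
    obtain ⟨h1, h2⟩ := (hS s).mp hs
    obtain ⟨a, b, _, _⟩ := nonnormal_toggle h1 h2
    exact (hS _).mpr ⟨a, b⟩
  · intro s hs
    obtain ⟨h1, h2⟩ := (hS s).mp hs
    exact (nonnormal_toggle h1 h2).2.2.1
  · intro s hs
    obtain ⟨h1, h2⟩ := (hS s).mp hs
    show F (stab (toggle s (cB s))) = F (stab s)
    rw [(nonnormal_toggle h1 h2).2.2.2]

/-- The members not containing `x`. -/
noncomputable def lowOf (x : G) (s : Finset (Subgroup G)) : Finset (Subgroup G) :=
  s.filter (fun Q => x ∉ Q)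

/-- The member to toggle in a chain stabilized by `x`. -/
noncomputable def cC (x : G) (s : Finset (Subgroup G)) : Subgroup G :=
  (lowOf x s).sup id ⊔ Subgroup.zpowers x

theorem mem_normalizer_bot (g : G) :
    g ∈ Subgroup.normalizer (((⊥ : Subgroup G) : Subgroup G) : Set G) := by
  rw [Subgroup.mem_normalizer_iff]
  intro h
  rw [Subgroup.mem_bot, Subgroup.mem_bot]
  constructor
  · intro e; rw [e]; group
  · intro e
    have : h = g⁻¹ * (g * h * g⁻¹) * g := by group
    rw [this, e]; group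

/-- Toggling `cC x s` in a chain stabilized by `x`. -/
theorem fixed_toggle {p : ℕ} [Fact p.Prime] {x : G} (hx1 : x ≠ 1)
    (hxp : IsPGroup p (Subgroup.zpowers x)) {s : Finset (Subgroup G)}
    (hch : IsCh p s) (hxs : x ∈ stab s) (hsx : s ≠ {Subgroup.zpowers x}) :
    IsCh p (toggle s (cC x s)) ∧ x ∈ stab (toggle s (cC x s)) ∧
      toggle s (cC x s) ≠ {Subgroup.zpowers x} ∧
      cC x (toggle s (cC x s)) = cC x s ∧
      stab (toggle s (cC x s)) ⊓ Subgroup.centralizer ({x} : Set G) =
        stab s ⊓ Subgroup.centralizer ({x} : Set G) := by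
  obtain ⟨hne, hcomp, hmem⟩ := hch
  rw [mem_stab] at hxs
  have hLcases : (lowOf x s).sup id = ⊥ ∨ ((lowOf x s).sup id ∈ s ∧ x ∉ (lowOf x s).sup id) := by
    by_cases h : (lowOf x s).Nonempty
    · right
      have := sup_mem_of_chain h (fun Q hQ R hR =>
        hcomp Q (Finset.mem_filter.mp hQ).1 R (Finset.mem_filter.mp hR).1)
      exact Finset.mem_filter.mp this
    · left
      rw [Finset.not_nonempty_iff_eq_empty] at h
      rw [h, Finset.sup_empty]
  have hxL : x ∉ (lowOf x s).sup id := by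
    rcases hLcases with h | h
    · rw [h, Subgroup.mem_bot]; exact hx1
    · exact h.2
  have hLN : x ∈ Subgroup.normalizer ((((lowOf x s).sup id : Subgroup G)) : Set G) := by
    rcases hLcases with h | h
    · rw [h]; exact mem_normalizer_bot x
    · exact hxs _ h.1
  have hLp : IsPGroup p ((lowOf x s).sup id : Subgroup G) := by
    rcases hLcases with h | h
    · rw [h]; exact IsPGroup.of_bot
    · exact (hmem _ h.1).2
  have hRp : IsPGroup p (cC x s) :=
    IsPGroup.to_sup_of_normal_left' hLp hxp (Subgroup.zpowers_le.mpr hLN)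
  have hxR : x ∈ cC x s :=
    (le_sup_right : Subgroup.zpowers x ≤ cC x s) (Subgroup.mem_zpowers x)
  have hRbot : cC x s ≠ ⊥ := by
    intro h
    rw [h, Subgroup.mem_bot] at hxR
    exact hx1 hxR
  have hLR : (lowOf x s).sup id ≤ cC x s := le_sup_left
  have hLneR : (lowOf x s).sup id ≠ cC x s := by
    intro h
    rw [h] at hxL
    exact hxL hxR
  have hcompR : ∀ Q ∈ s, Q ≤ cC x s ∨ cC x s ≤ Q := by
    intro Q hQ
    by_cases hxQ : x ∈ Q
    · right
      refine sup_le ?_ (Subgroup.zpowers_le.mpr hxQ)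
      apply Finset.sup_le
      intro Q' hQ'
      obtain ⟨hQ's, hxQ'⟩ := Finset.mem_filter.mp hQ'
      rcases hcomp Q' hQ's Q hQ with h | h
      · exact h
      · exact absurd (h hxQ) hxQ'
    · left
      have : Q ∈ lowOf x s := Finset.mem_filter.mpr ⟨hQ, hxQ⟩
      exact (Finset.le_sup (f := id) this : Q ≤ (lowOf x s).sup id).trans hLR
  have hs'sub : ∀ R ∈ toggle s (cC x s), R = cC x s ∨ R ∈ s := by
    intro R hR
    rcases mem_toggle_iff.mp hR with h | h
    · exact Or.inl h.1
    · exact Or.inr h.2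
  -- if every member is `cC x s`, then `s` is the exceptional chain
  have hother : ∃ Q ∈ s, Q ≠ cC x s := by
    by_contra hcon
    push Not at hcon
    apply hsx
    have hlow : lowOf x s = ∅ := by
      rw [Finset.eq_empty_iff_forall_notMem]
      intro Q hQ
      obtain ⟨hQs, hxQ⟩ := Finset.mem_filter.mp hQ
      rw [hcon Q hQs] at hxQ
      exact hxQ hxR
    have hR : cC x s = Subgroup.zpowers x := by
      unfold cC
      rw [hlow, Finset.sup_empty, bot_sup_eq]
    obtain ⟨Q, hQ⟩ := hne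
    rw [Finset.eq_singleton_iff_unique_mem]
    refine ⟨?_, fun Q' hQ' => (hcon Q' hQ').trans hR⟩
    rw [← hR, ← hcon Q hQ]
    exact hQ
  have hne' : (toggle s (cC x s)).Nonempty := by
    obtain ⟨Q, hQ, hQR⟩ := hother
    exact ⟨Q, (mem_toggle_of_ne hQR).mpr hQ⟩
  have hch' : IsCh p (toggle s (cC x s)) := by
    refine ⟨hne', ?_, ?_⟩
    · intro Q hQ R hR
      rcases hs'sub Q hQ with rfl | hQs
      · rcases hs'sub R hR with rfl | hRs
        · exact Or.inl le_rfl
        · exact (hcompR R hRs).symm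
      · rcases hs'sub R hR with rfl | hRs
        · exact hcompR Q hQs
        · exact hcomp Q hQs R hRs
    · intro Q hQ
      rcases hs'sub Q hQ with rfl | hQs
      · exact ⟨hRbot, hRp⟩
      · exact hmem Q hQs
  have hlow' : lowOf x (toggle s (cC x s)) = lowOf x s :=
    filter_toggle s (cC x s) _ (not_not.mpr hxR)
  have hcC' : cC x (toggle s (cC x s)) = cC x s := by
    have : cC x (toggle s (cC x s)) =
        (lowOf x (toggle s (cC x s))).sup id ⊔ Subgroup.zpowers x := rfl
    rw [this, hlow']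
    rfl
  refine ⟨hch', ?_, ?_, hcC', ?_⟩
  · rw [mem_stab]
    intro Q hQ
    rcases hs'sub Q hQ with rfl | hQs
    · exact Subgroup.le_normalizer hxR
    · exact hxs Q hQs
  · intro h
    have hlow : lowOf x s = ∅ := by
      rw [← hlow', h, Finset.eq_empty_iff_forall_notMem]
      intro Q hQ
      obtain ⟨hQs, hxQ⟩ := Finset.mem_filter.mp hQ
      rw [Finset.mem_singleton] at hQs
      rw [hQs] at hxQ
      exact hxQ (Subgroup.mem_zpowers x)
    have hR : cC x s = Subgroup.zpowers x := by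
      unfold cC
      rw [hlow, Finset.sup_empty, bot_sup_eq]
    have hRs' : cC x s ∈ toggle s (cC x s) := by
      rw [h, hR]; exact Finset.mem_singleton_self _
    have hRs : cC x s ∉ s := (mem_toggle_self_iff s (cC x s)).mp hRs'
    obtain ⟨Q, hQ⟩ := hne
    have hQR : Q ≠ cC x s := fun e => hRs (e ▸ hQ)
    have hQs' : Q ∈ toggle s (cC x s) := (mem_toggle_of_ne hQR).mpr hQ
    rw [h, Finset.mem_singleton] at hQs'
    exact hQR (hQs'.trans hR.symm)
  · apply stab_toggle_inf
    intro g hg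
    obtain ⟨hg1, hg2⟩ := Subgroup.mem_inf.mp hg
    rw [mem_stab] at hg1
    have hgL : g ∈ Subgroup.normalizer ((((lowOf x s).sup id : Subgroup G)) : Set G) := by
      rcases hLcases with h | h
      · rw [h]; exact mem_normalizer_bot g
      · exact hg1 _ (Finset.mem_erase.mpr ⟨hLneR, h.1⟩)
    have hgx : g ∈ Subgroup.normalizer (((Subgroup.zpowers x : Subgroup G)) : Set G) := by
      apply Subgroup.centralizer_le_normalizer
      rw [Subgroup.mem_centralizer_iff]
      intro y hy
      obtain ⟨i, rfl⟩ := Subgroup.mem_zpowers_iff.mp hy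
      rw [Subgroup.mem_centralizer_iff] at hg2
      have h1 : Commute x g := hg2 x (Set.mem_singleton x)
      exact (h1.zpow_left i).eq
    exact Subgroup.normalizer_inf_normalizer_le_normalizer_sup _ _ (Subgroup.mem_inf.mpr ⟨hgL, hgx⟩)

/-- **For a fixed `x`, the chains stabilized by `x` cancel, except `{⟨x⟩}`.** -/
theorem sum_fixed_eq_zero {p : ℕ} [Fact p.Prime] (Φ : Subgroup G → ℤ) {x : G} (hx1 : x ≠ 1)
    (hxp : IsPGroup p (Subgroup.zpowers x))
    (S : Finset (Finset (Subgroup G)))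
    (hS : ∀ s, s ∈ S ↔ IsCh p s ∧ x ∈ stab s ∧ s ≠ {Subgroup.zpowers x}) :
    ∑ s ∈ S, (-1 : ℤ) ^ s.card * Φ (stab s ⊓ Subgroup.centralizer ({x} : Set G)) = 0 := by
  apply sum_toggle_eq_zero S (fun s => Φ (stab s ⊓ Subgroup.centralizer ({x} : Set G))) (cC x)
  · intro s hs
    obtain ⟨h1, h2, h3⟩ := (hS s).mp hs
    obtain ⟨a, b, c, _, _⟩ := fixed_toggle hx1 hxp h1 h2 h3
    exact (hS _).mpr ⟨a, b, c⟩
  · intro s hs
    obtain ⟨h1, h2, h3⟩ := (hS s).mp hs
    exact (fixed_toggle hx1 hxp h1 h2 h3).2.2.2.1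
  · intro s hs
    obtain ⟨h1, h2, h3⟩ := (hS s).mp hs
    show Φ (stab (toggle s (cC x s)) ⊓ Subgroup.centralizer ({x} : Set G)) =
      Φ (stab s ⊓ Subgroup.centralizer ({x} : Set G))
    rw [(fixed_toggle hx1 hxp h1 h2 h3).2.2.2.2]

theorem centralizer_singleton_le_normalizer_zpowers (x : G) :
    Subgroup.centralizer ({x} : Set G) ≤
      Subgroup.normalizer (((Subgroup.zpowers x : Subgroup G)) : Set G) := by
  intro g hg
  apply Subgroup.centralizer_le_normalizer
  rw [Subgroup.mem_centralizer_iff]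
  intro y hy
  obtain ⟨i, rfl⟩ := Subgroup.mem_zpowers_iff.mp hy
  rw [Subgroup.mem_centralizer_iff] at hg
  have h1 : Commute x g := hg x (Set.mem_singleton x)
  exact (h1.zpow_left i).eq

theorem stab_singleton (Z : Subgroup G) :
    stab ({Z} : Finset (Subgroup G)) = Subgroup.normalizer ((Z : Subgroup G) : Set G) := by
  ext g
  rw [mem_stab]
  constructor
  · intro h; exact h Z (Finset.mem_singleton_self Z)
  · intro h Q hQ
    rw [Finset.mem_singleton] at hQ
    rw [hQ]; exact h

theorem neg_one_pow_card_sub_one {α : Type*} {s : Finset α} (hs : s.Nonempty) :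
    (-1 : ℤ) ^ (s.card - 1) = - (-1 : ℤ) ^ s.card := by
  have h1 : s.card = (s.card - 1) + 1 := by
    have := Finset.card_pos.mpr hs
    omega
  rw [h1, pow_succ, Nat.add_sub_cancel]
  ring

/-- **The alternating sum over normal chains**, reduced to a sum over `p`-elements. -/
theorem chain_sum [Finite G] {p : ℕ} [Fact p.Prime] (F Φ : Subgroup G → ℤ)
    (hA : ∀ (H : Subgroup G) (PH : Finset G),
      (∀ x, x ∈ PH ↔ x ∈ H ∧ x ≠ 1 ∧ ∃ k : ℕ, orderOf x = p ^ k) →
      F H = ∑ x ∈ PH, Φ (H ⊓ Subgroup.centralizer ({x} : Set G)))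
    (𝒩 : Finset (Finset (Subgroup G))) (h𝒩 : ∀ s, s ∈ 𝒩 ↔ IsNCh p s)
    (P : Finset G) (hP : ∀ x, x ∈ P ↔ x ≠ 1 ∧ ∃ k : ℕ, orderOf x = p ^ k) :
    ∑ s ∈ 𝒩, (-1 : ℤ) ^ (s.card - 1) * F (stab s) =
      ∑ x ∈ P, Φ (Subgroup.centralizer ({x} : Set G)) := by
  haveI : Fintype (Finset (Subgroup G)) := Fintype.ofFinite _
  set AllCh : Finset (Finset (Subgroup G)) := Finset.univ.filter (fun s => IsCh p s) with hAllCh
  have hmemAllCh : ∀ s, s ∈ AllCh ↔ IsCh p s := by
    intro s
    rw [hAllCh, Finset.mem_filter]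
    exact ⟨fun h => h.2, fun h => ⟨Finset.mem_univ _, h⟩⟩
  -- Step 1: pass to all chains
  have h1 : ∑ s ∈ 𝒩, (-1 : ℤ) ^ (s.card - 1) * F (stab s) =
      - ∑ s ∈ AllCh, (-1 : ℤ) ^ s.card * F (stab s) := by
    have e1 : ∑ s ∈ 𝒩, (-1 : ℤ) ^ (s.card - 1) * F (stab s) =
        - ∑ s ∈ 𝒩, (-1 : ℤ) ^ s.card * F (stab s) := by
      rw [← Finset.sum_neg_distrib]
      refine Finset.sum_congr rfl fun s hs => ?_
      rw [neg_one_pow_card_sub_one ((h𝒩 s).mp hs).1]
      ring
    rw [e1]
    congr 1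
    rw [← Finset.sum_filter_add_sum_filter_not AllCh (fun s => IsNCh p s)]
    have e2 : AllCh.filter (fun s => IsNCh p s) = 𝒩 := by
      ext s
      rw [Finset.mem_filter, hmemAllCh, h𝒩]
      exact ⟨fun h => h.2, fun h => ⟨h.isCh, h⟩⟩
    have e3 : ∑ s ∈ AllCh.filter (fun s => ¬ IsNCh p s), (-1 : ℤ) ^ s.card * F (stab s) = 0 := by
      apply sum_nonnormal_eq_zero (p := p) F
      intro s
      rw [Finset.mem_filter, hmemAllCh]
    rw [e2, e3, add_zero]
  rw [h1]
  -- Step 2: expand `F` and interchange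
  have h2 : ∑ s ∈ AllCh, (-1 : ℤ) ^ s.card * F (stab s) =
      ∑ x ∈ P, ∑ s ∈ AllCh.filter (fun s => x ∈ stab s),
        (-1 : ℤ) ^ s.card * Φ (stab s ⊓ Subgroup.centralizer ({x} : Set G)) := by
    have e1 : ∀ s ∈ AllCh, (-1 : ℤ) ^ s.card * F (stab s) =
        ∑ x ∈ P, if x ∈ stab s then
          (-1 : ℤ) ^ s.card * Φ (stab s ⊓ Subgroup.centralizer ({x} : Set G)) else 0 := by
      intro s _
      rw [hA (stab s) (P.filter (fun x => x ∈ stab s)) (by
        intro x
        rw [Finset.mem_filter, hP]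
        tauto), Finset.mul_sum, Finset.sum_filter]
    rw [Finset.sum_congr rfl e1, Finset.sum_comm]
    refine Finset.sum_congr rfl fun x _ => ?_
    exact (Finset.sum_filter _ _).symm
  rw [h2]
  -- Step 3: only the chain `{⟨x⟩}` survives
  have h3 : ∀ x ∈ P, ∑ s ∈ AllCh.filter (fun s => x ∈ stab s),
      (-1 : ℤ) ^ s.card * Φ (stab s ⊓ Subgroup.centralizer ({x} : Set G)) =
      - Φ (Subgroup.centralizer ({x} : Set G)) := by
    intro x hx
    obtain ⟨hx1, k, hk⟩ := (hP x).mp hx
    have hxp : IsPGroup p (Subgroup.zpowers x) := by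
      apply IsPGroup.of_card (n := k)
      rw [Nat.card_zpowers, hk]
    have heAllCh : ({Subgroup.zpowers x} : Finset (Subgroup G)) ∈
        AllCh.filter (fun s => x ∈ stab s) := by
      rw [Finset.mem_filter, hmemAllCh]
      refine ⟨⟨Finset.singleton_nonempty _, ?_, ?_⟩, ?_⟩
      · intro Q hQ R hR
        rw [Finset.mem_singleton] at hQ hR
        rw [hQ, hR]; exact Or.inl le_rfl
      · intro Q hQ
        rw [Finset.mem_singleton] at hQ
        rw [hQ]
        refine ⟨?_, hxp⟩
        rw [Ne, Subgroup.zpowers_eq_bot]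
        exact hx1
      · rw [stab_singleton]
        exact Subgroup.le_normalizer (Subgroup.mem_zpowers x)
    rw [← Finset.sum_filter_add_sum_filter_not (AllCh.filter (fun s => x ∈ stab s))
      (fun s => s = {Subgroup.zpowers x})]
    have e1 : (AllCh.filter (fun s => x ∈ stab s)).filter (fun s => s = {Subgroup.zpowers x}) =
        {{Subgroup.zpowers x}} := by
      rw [Finset.filter_eq', if_pos heAllCh]
    have e2 : ∑ s ∈ (AllCh.filter (fun s => x ∈ stab s)).filter
        (fun s => ¬ s = {Subgroup.zpowers x}),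
        (-1 : ℤ) ^ s.card * Φ (stab s ⊓ Subgroup.centralizer ({x} : Set G)) = 0 := by
      apply sum_fixed_eq_zero (p := p) Φ hx1 hxp
      intro s
      rw [Finset.mem_filter, Finset.mem_filter, hmemAllCh]
      tauto
    rw [e1, e2, add_zero, Finset.sum_singleton, Finset.card_singleton, stab_singleton,
      inf_eq_right.mpr (centralizer_singleton_le_normalizer_zpowers x)]
    ring
  rw [Finset.sum_congr rfl h3, Finset.sum_neg_distrib, neg_neg]

end Chain

end Cfsg.Agent.Helper23.CS
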