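import Mathlib
import Cfsg.Prelude.Def_Blocks
import Cfsg.Prelude.Def_BlockRank
import Cfsg.Agent.Helper8.RankTrace
import Cfsg.Agent.Helper8.SectionSum
import Cfsg.Agent.Helper8.SectionCount
import Cfsg.Agent.Helper8.SectionCount2

/-!
# Brauer's count summed over all `p`-elements, and the rank of a union of blocks
-/

set_option autoImplicit false
set_option linter.unusedSectionVars false
set_option linter.unusedVariables false
set_option linter.unusedSimpArgs false
set_option linter.unnecessarySimpa false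
set_option linter.style.haveILetI false

namespace Cfsg.Agent.Helper23.CSB

open Cfsg Cfsg.Agent.Helper24 Cfsg.Agent.Helper5 Cfsg.Agent.Helper5.CC Cfsg.Agent.Helper5.Loc
open Cfsg.Agent.Helper8.SecCore Cfsg.Agent.Helper8.SecCount Cfsg.Agent.Helper8.RankTr
open Cfsg.Agent.Helper8.SecSum

variable {G : Type*} [Group G] [Fintype G] {M : Ideal AlgInt}

/-- The projection attached to a union of blocks fixes `ψ̃` for `ψ` in the union. -/
theorem projL_fix_union [Fintype (IrrCharacter G)] {p : ℕ} [hp : Fact p.Prime]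
    (hM : IsPModular p M) {U : Set (IrrCharacter G)} [DecidablePred (· ∈ U)]
    (hU : ∀ ψ ∈ U, ∃ β : Set (IrrCharacter G), IsPBlock M β ∧ ψ ∈ β ∧ β ⊆ U)
    (ψ' : IrrCharacter G) (hψ' : ψ' ∈ U) :
    projL p U (pRegularPart p (ψ' : G → ℂ)) = pRegularPart p (ψ' : G → ℂ) := by
  classical
  rw [projL_apply]
  obtain ⟨β, hβ, hψ'β, hβU⟩ := hU ψ' hψ'
  have hcf : IsClassFunction G (pRegularPart p (ψ' : G → ℂ)) := by
    rw [pRegularPart_fun]
    exact Cfsg.Agent.Helper8.PRegular.isClassFunction_pRegular p 1 (isClassFunction_irr ψ')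
  have h1 : ∀ ψ : IrrCharacter G,
      (if ψ ∈ U then classInner (pRegularPart p (ψ' : G → ℂ)) (ψ : G → ℂ) •
        pRegularPart p (ψ : G → ℂ) else 0) =
      truncL p (classInner (pRegularPart p (ψ' : G → ℂ)) (ψ : G → ℂ) • (ψ : G → ℂ)) := by
    intro ψ
    rw [map_smul, truncL_apply]
    by_cases hψ : ψ ∈ U
    · rw [if_pos hψ]
    · rw [if_neg hψ]
      have hψβ : ψ ∉ β := fun h => hψ (hβU h)
      have h0 := Cfsg.Agent.Helper8.BlockReg.classInner_pRegular_eq_zero hM hβ ψ' ψ hψ'β hψβ 1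
      rw [← pRegularPart_fun] at h0
      rw [h0, zero_smul]
  rw [Finset.sum_congr rfl (fun ψ _ => h1 ψ), ← map_sum, ← IsClassFunction.eq_sum_classInner hcf,
    truncL_apply, pRegularPart_idem]

/-- **The `p`-regular rank of a union of blocks as a trace.** -/
theorem blockRank_union_eq_sum [Fintype (IrrCharacter G)] {p : ℕ} [hp : Fact p.Prime]
    (hM : IsPModular p M) {U : Set (IrrCharacter G)} [DecidablePred (· ∈ U)]
    (hU : ∀ ψ ∈ U, ∃ β : Set (IrrCharacter G), IsPBlock M β ∧ ψ ∈ β ∧ β ⊆ U) :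
    (blockRank p U : ℂ) = ∑ ψ : IrrCharacter G, if ψ ∈ U then
      classInner (pRegularPart p (ψ : G → ℂ)) (ψ : G → ℂ) else 0 := by
  rw [← trace_projL]
  set W : Submodule ℂ (G → ℂ) :=
    Submodule.span ℂ ((fun χ : IrrCharacter G => pRegularPart p (χ : G → ℂ)) '' U) with hW
  have hproj : LinearMap.IsProj W (projL p U) := by
    refine ⟨?_, ?_⟩
    · intro f
      rw [projL_apply]
      refine Submodule.sum_mem _ fun ψ _ => ?_
      split_ifs with hψ
      · exact Submodule.smul_mem _ _ (Submodule.subset_span ⟨ψ, hψ, rfl⟩)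
      · exact Submodule.zero_mem _
    · intro f hf
      have : Set.EqOn (projL p U) (LinearMap.id : (G → ℂ) →ₗ[ℂ] (G → ℂ)) (W : Set (G → ℂ)) := by
        rw [hW]
        apply LinearMap.eqOn_span
        rintro _ ⟨ψ', hψ', rfl⟩
        rw [LinearMap.id_apply]
        exact projL_fix_union hM hU ψ' hψ'
      exact this hf
  rw [hproj.trace]
  rfl

/-- **Brauer's count, summed over all nontrivial `p`-elements.** -/
theorem allcount {p : ℕ} [hp : Fact p.Prime] (hM : IsPModular p M)
    (B : Set (IrrCharacter G)) (hB : IsPBlock M B)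
    (P : Finset G) (hP : ∀ x, x ∈ P ↔ x ≠ 1 ∧ ∃ k : ℕ, orderOf x = p ^ k) :
    (Nat.card G : ℤ) * ((Nat.card B : ℤ) - (blockRank p B : ℤ)) =
      ∑ x ∈ P, (Nat.card (Subgroup.centralizer ({x} : Set G)) : ℤ) *
        ((∑ᶠ β ∈ {β : Set (IrrCharacter ↥(Subgroup.centralizer ({x} : Set G))) |
          IsInducedBlock M (Subgroup.centralizer ({x} : Set G)) β B}, blockRank p β : ℕ) : ℤ) := by
  classical
  haveI : Fintype (IrrCharacter G) := Fintype.ofFinite _
  have hG0 : (Nat.card G : ℂ) ≠ 0 := by exact_mod_cast (Nat.card_pos (α := G)).ne'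
  have h1P : (1 : G) ∉ P := fun h => ((hP 1).mp h).1 rfl
  have hPmem : ∀ x ∈ insert (1 : G) P, ∃ k : ℕ, orderOf x = p ^ k := by
    intro x hx
    rcases Finset.mem_insert.mp hx with rfl | h
    · exact ⟨0, by simp⟩
    · exact ((hP x).mp h).2
  -- the left-hand side as a sum of squares
  have hL : (Nat.card G : ℂ) * (Nat.card B : ℂ) = ∑ g : G, FB B g := by
    rw [Cfsg.Agent.Helper8.BF.natCard_eq_sum B]
    push_cast
    simp only [FB]
    rw [Finset.sum_comm, Finset.mul_sum]
    refine Finset.sum_congr rfl fun χ _ => ?_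
    by_cases hχ : χ ∈ B
    · simp only [if_pos hχ]
      have := classInner_irr_self χ
      rw [classInner] at this
      rw [mul_one]
      have h2 : ∑ g : G, (χ : G → ℂ) g * (starRingEnd ℂ) ((χ : G → ℂ) g) =
          (Nat.card G : ℂ) * ((Nat.card G : ℂ)⁻¹ *
            ∑ g : G, (χ : G → ℂ) g * (starRingEnd ℂ) ((χ : G → ℂ) g)) := by
        rw [← mul_assoc, mul_inv_cancel₀ hG0, one_mul]
      rw [h2, this, mul_one]
    · simp only [if_neg hχ, Finset.sum_const_zero, mul_zero]
  -- split by `p`-parts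
  have hS : ∑ g : G, FB B g = ∑ x ∈ insert (1 : G) P,
      ∑ y : G, (if (x * y = y * x ∧ ¬ p ∣ orderOf y) then FB B (x * y) else 0) := by
    have e1 : ∀ g : G, FB B g = ∑ x ∈ insert (1 : G) P, if pp p g = x then FB B g else 0 := by
      intro g
      rw [Finset.sum_ite_eq (insert (1 : G) P) (pp p g) (fun _ => FB B g), if_pos]
      by_cases h1 : pp p g = 1
      · rw [h1]; exact Finset.mem_insert_self _ _
      · exact Finset.mem_insert_of_mem ((hP _).mpr ⟨h1, pp_isPElement p g⟩)
    rw [Finset.sum_congr rfl (fun g _ => e1 g), Finset.sum_comm]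
    refine Finset.sum_congr rfl fun x hx => ?_
    symm
    refine Fintype.sum_equiv (Equiv.mulLeft x) _ _ fun y => ?_
    show _ = if pp p (x * y) = x then FB B (x * y) else 0
    by_cases h : x * y = y * x ∧ ¬ p ∣ orderOf y
    · rw [if_pos h, if_pos ((pp_mul_iff (hPmem x hx) y).mpr h)]
    · rw [if_neg h, if_neg (fun h' => h ((pp_mul_iff (hPmem x hx) y).mp h'))]
  have hT : ∑ g : G, FB B g = ∑ x ∈ insert (1 : G) P,
      (Nat.card (Subgroup.centralizer ({x} : Set G)) : ℂ) *
      ((∑ᶠ b ∈ {b : Set (IrrCharacter ↥(Subgroup.centralizer ({x} : Set G))) |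
        IsInducedBlock M (Subgroup.centralizer ({x} : Set G)) b B}, blockRank p b : ℕ) : ℂ) := by
    rw [hS]
    refine Finset.sum_congr rfl fun x hx => ?_
    exact term_eq hM B hB x (hPmem x hx)
  rw [Finset.sum_insert h1P, term_one hM B hB] at hT
  have hc : Nat.card (Subgroup.centralizer ({(1 : G)} : Set G)) = Nat.card G := by
    have : Subgroup.centralizer ({(1 : G)} : Set G) = ⊤ := by
      ext g
      simp [Subgroup.mem_centralizer_iff]
    rw [this, Nat.card_congr Subgroup.topEquiv.toEquiv]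
  rw [hc, ← hL] at hT
  apply Int.cast_injective (α := ℂ)
  simp only [Int.cast_mul, Int.cast_sub, Int.cast_natCast, Int.cast_sum]
  linear_combination hT

end Cfsg.Agent.Helper23.CSB
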