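import Mathlib
import Cfsg.Prelude.Def_Blocks
import Cfsg.Prelude.Def_BlockRank
import Cfsg.Agent.Helper23.ChainSumA
import Cfsg.Agent.Helper23.ChainSumB
import Cfsg.Agent.Helper23.InducedCalc
import Cfsg.Agent.Helper23.KleinLocalB
import Cfsg.Agent.S0919

/-!
# The difference `k - l` of the blocks of a subgroup inducing a given block, by `p`-elements
-/

set_option autoImplicit false
set_option linter.unusedSectionVars false
set_option linter.unusedVariables false
set_option linter.unusedSimpArgs false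
set_option linter.unnecessarySimpa false
set_option linter.style.haveILetI false

namespace Cfsg.Agent.Helper23.CSC

open Cfsg Cfsg.Agent.Helper24 Cfsg.Agent.Helper5 Cfsg.Agent.Helper5.CC Cfsg.Agent.Helper5.Loc
open Cfsg.Agent.Helper8.SecCore Cfsg.Agent.Helper8.SecCount Cfsg.Agent.Helper8.RankTr
open Cfsg.Agent.Helper23.BT Cfsg.Agent.Helper23.IC Cfsg.Agent.Helper23.KLB
open Cfsg.Agent.Helper23.CSB

variable {G : Type*} [Group G] {M : Ideal AlgInt}

theorem finsum_mem_eq_sum_ite' {ι : Type*} [Fintype ι] (s : Set ι) [DecidablePred (· ∈ s)]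
    (f : ι → ℕ) : ∑ᶠ i ∈ s, f i = ∑ i : ι, if i ∈ s then f i else 0 := by
  rw [finsum_mem_eq_finite_toFinset_sum f (Set.toFinite s), ← Finset.sum_filter]
  congr 1
  ext i
  simp

section Fin

variable [Fintype G]

/-- The characters lying in blocks inducing `b` form the set `indSet`. -/
theorem setOf_eq_indSet (hMp : M.IsPrime) (H : Subgroup G) (b : Set (IrrCharacter G)) :
    {ψ : IrrCharacter H | ∃ β : Set (IrrCharacter H), ψ ∈ β ∧ IsInducedBlock M H β b} =
      indSet M H b := by
  ext ψ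
  constructor
  · rintro ⟨β, hψ, hind⟩
    show IsInducedBlock M H (blockOf M (ψ : H → ℂ)) b
    rw [← IsPBlock_eq_blockOf hMp hind.1 hψ]
    exact hind
  · intro h
    exact ⟨blockOf M (ψ : H → ℂ), mem_blockOf_self hMp ψ, h⟩

theorem indSet_union (hMp : M.IsPrime) (H : Subgroup G) (b : Set (IrrCharacter G)) :
    ∀ ψ ∈ indSet M H b, ∃ β : Set (IrrCharacter H), IsPBlock M β ∧ ψ ∈ β ∧ β ⊆ indSet M H b :=
  fun ψ hψ => ⟨blockOf M (ψ : H → ℂ), isPBlock_blockOf ψ, mem_blockOf_self hMp ψ,
    indSet_closed hMp H b ψ hψ⟩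

/-- The rank of the union of the blocks inducing `b`. -/
theorem blockRank_indSet {p : ℕ} [hp : Fact p.Prime] (hM : IsPModular p M)
    (H : Subgroup G) (b : Set (IrrCharacter G)) :
    blockRank p (indSet M H b) =
      ∑ᶠ β ∈ {β : Set (IrrCharacter H) | IsInducedBlock M H β b}, blockRank p β := by
  classical
  haveI : Fintype H := Fintype.ofFinite _
  haveI : Fintype (IrrCharacter H) := Fintype.ofFinite _
  have hMp := isPrime_of_isPModular hM
  apply Nat.cast_injective (R := ℂ)
  rw [sum_blockRank_eq hM H b, blockRank_union_eq_sum hM (indSet_union hMp H b)]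

/-- The number of characters in the union of the blocks inducing `b`. -/
theorem card_indSet (hMp : M.IsPrime) (H : Subgroup G) (b : Set (IrrCharacter G)) :
    Nat.card (indSet M H b) =
      ∑ᶠ β ∈ {β : Set (IrrCharacter H) | IsInducedBlock M H β b}, Nat.card β := by
  classical
  haveI : Fintype H := Fintype.ofFinite _
  haveI : Fintype (IrrCharacter H) := Fintype.ofFinite _
  have hfin : ({β : Set (IrrCharacter H) | IsInducedBlock M H β b}).Finite := Set.toFinite _
  rw [finsum_mem_eq_finite_toFinset_sum _ hfin]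
  have h1 : ∀ β ∈ hfin.toFinset, Nat.card β =
      ∑ ψ : IrrCharacter H, if ψ ∈ β then 1 else 0 := fun β _ =>
    Cfsg.Agent.Helper8.BF.natCard_eq_sum β
  rw [Finset.sum_congr rfl h1, Finset.sum_comm, Cfsg.Agent.Helper8.BF.natCard_eq_sum]
  refine Finset.sum_congr rfl fun ψ _ => ?_
  by_cases hψ : ψ ∈ indSet M H b
  · rw [if_pos hψ, Finset.sum_eq_single (blockOf M (ψ : H → ℂ))]
    · rw [if_pos (mem_blockOf_self hMp ψ)]
    · intro β hβ hne
      rw [if_neg]
      intro hψβ
      rw [Set.Finite.mem_toFinset] at hβ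
      exact hne (IsPBlock_eq_blockOf hMp hβ.1 hψβ)
    · intro h
      exfalso
      apply h
      rw [Set.Finite.mem_toFinset]
      exact hψ
  · rw [if_neg hψ]
    symm
    apply Finset.sum_eq_zero
    intro β hβ
    rw [if_neg]
    intro hψβ
    rw [Set.Finite.mem_toFinset] at hβ
    apply hψ
    show IsInducedBlock M H (blockOf M (ψ : H → ℂ)) b
    rw [← IsPBlock_eq_blockOf hMp hβ.1 hψβ]
    exact hβ

end Fin

/-- **Transitivity of block induction, both ways.** -/
theorem isInducedBlock_trans_iff [Fintype G] (hMp : M.IsPrime) (B : Subgroup G) [Fintype B]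
    (A : Subgroup B) [Fintype A]
    (A₂ : Subgroup G) [Fintype A₂] (φ : A ≃* A₂) (hφ : ∀ a : A, ((φ a : A₂) : G) = ((a : B) : G))
    {β : Set (IrrCharacter A)} {b : Set (IrrCharacter B)} {𝔅 : Set (IrrCharacter G)}
    (h1 : IsInducedBlock M A β b) (h𝔅 : IsPBlock M 𝔅) :
    IsInducedBlock M B b 𝔅 ↔ IsInducedBlock M A₂ (pullBlock φ.symm β) 𝔅 := by
  classical
  constructor
  · exact fun h2 => isInducedBlock_trans hMp B A A₂ φ hφ h1 h2
  · intro h
    refine ⟨h1.2.1, h𝔅, ?_⟩
    intro ψ hψ χ hχ g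
    obtain ⟨ξ, hξ⟩ := IsPBlock.nonempty hMp h1.1
    have hξ₂ : pullIrr φ.symm ξ ∈ pullBlock φ.symm β :=
      (pullIrr_mem_pullBlock_iff φ.symm β ξ).mpr hξ
    have a1 := h.2.2 _ hξ₂ χ hχ g
    have e1 : inducedCentralChar A₂ ((pullIrr φ.symm ξ : IrrCharacter A₂) : A₂ → ℂ) g =
        act (fun a : A => Cfsg.Agent.S0933.fusionIndicator B g (a : B)) ξ := by
      rw [Cfsg.Agent.S0933.inducedCentralChar_eq_act, act, act]
      rw [pullIrr_apply, map_one]
      congr 1
      rw [← Equiv.sum_comp φ.toEquiv]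
      refine Finset.sum_congr rfl fun a _ => ?_
      rw [pullIrr_apply]
      simp only [Cfsg.Agent.S0933.fusionIndicator]
      rw [show ((φ.toEquiv a : A₂) : G) = ((a : B) : G) from hφ a]
      simp
    have a2 := act_restrict_sub_act_of_induced hMp A h1 hξ hψ
      (Cfsg.Agent.S0933.isClassFunction_fusionIndicator B g)
      (fun t => memLocalRing_classIndicator hMp g _)
    rw [← e1, ← Cfsg.Agent.S0933.inducedCentralChar_eq_act] at a2
    have := li_sub hMp a1 a2
    convert this using 1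
    ring

/-- Transport of the set of blocks along an isomorphism, as an equivalence. -/
noncomputable def pullBlockEquiv {X Y : Type*} [Group X] [Group Y] (φ : X ≃* Y) :
    Set (IrrCharacter X) ≃ Set (IrrCharacter Y) where
  toFun β := pullBlock φ.symm β
  invFun β := pullBlock φ β
  left_inv β := by
    have := pullBlock_symm_pullBlock φ.symm β
    rwa [MulEquiv.symm_symm] at this
  right_inv β := pullBlock_symm_pullBlock φ β

/-- **Summing ranks over the two-step induction.** -/
theorem sum_blockRank_transport [Fintype G] {p : ℕ} [hp : Fact p.Prime] (hM : IsPModular p M)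
    (H : Subgroup G) [Fintype H] (A : Subgroup H) [Fintype A]
    (A₂ : Subgroup G) [Fintype A₂] (φ : A ≃* A₂) (hφ : ∀ a : A, ((φ a : A₂) : G) = ((a : H) : G))
    (hdef : ∀ β : Set (IrrCharacter A), IsPBlock M β → InducedBlockDefined M A β)
    (b : Set (IrrCharacter G)) (hb : IsPBlock M b)
    (𝔉 : Finset (Set (IrrCharacter H))) (h𝔉 : ∀ β', β' ∈ 𝔉 ↔ IsInducedBlock M H β' b) :
    ∑ β' ∈ 𝔉, (∑ᶠ β ∈ {β : Set (IrrCharacter A) | IsInducedBlock M A β β'}, blockRank p β) =
      ∑ᶠ β'' ∈ {β'' : Set (IrrCharacter A₂) | IsInducedBlock M A₂ β'' b}, blockRank p β'' := by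
  classical
  have hMp := isPrime_of_isPModular hM
  haveI : Fintype (IrrCharacter A) := Fintype.ofFinite _
  haveI : Fintype (IrrCharacter A₂) := Fintype.ofFinite _
  haveI : Fintype (Set (IrrCharacter A)) := Fintype.ofFinite _
  haveI : Fintype (Set (IrrCharacter A₂)) := Fintype.ofFinite _
  rw [finsum_mem_eq_sum_ite' {β'' : Set (IrrCharacter A₂) | IsInducedBlock M A₂ β'' b}]
  have e1 : ∀ β' ∈ 𝔉,
      (∑ᶠ β ∈ {β : Set (IrrCharacter A) | IsInducedBlock M A β β'}, blockRank p β) =
      ∑ β : Set (IrrCharacter A), if IsInducedBlock M A β β' then blockRank p β else 0 := by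
    intro β' _
    rw [finsum_mem_eq_sum_ite' {β : Set (IrrCharacter A) | IsInducedBlock M A β β'}]
    rfl
  rw [Finset.sum_congr rfl e1, Finset.sum_comm]
  rw [← Equiv.sum_comp (pullBlockEquiv φ)]
  refine Finset.sum_congr rfl fun β _ => ?_
  show _ = if pullBlock φ.symm β ∈ {β'' : Set (IrrCharacter A₂) | IsInducedBlock M A₂ β'' b} then
    blockRank p (pullBlock φ.symm β) else 0
  rw [blockRank_pullBlock]
  by_cases h : IsInducedBlock M A₂ (pullBlock φ.symm β) b
  · rw [if_pos (show pullBlock φ.symm β ∈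
      {β'' : Set (IrrCharacter A₂) | IsInducedBlock M A₂ β'' b} from h)]
    have hβ : IsPBlock M β := by
      have h2 := isPBlock_pullBlock φ h.1
      have h3 := pullBlock_symm_pullBlock φ.symm β
      rw [MulEquiv.symm_symm] at h3
      rwa [h3] at h2
    obtain ⟨β'₀, h₀⟩ := hdef β hβ
    have hmem : β'₀ ∈ 𝔉 :=
      (h𝔉 β'₀).mpr ((isInducedBlock_trans_iff hMp H A A₂ φ hφ h₀ hb).mpr h)
    rw [Finset.sum_eq_single β'₀]
    · rw [if_pos h₀]
    · intro β' _ hne
      rw [if_neg]
      intro hcon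
      exact hne (induced_unique hMp A hcon h₀)
    · intro hcon
      exact absurd hmem hcon
  · rw [if_neg (show ¬ pullBlock φ.symm β ∈
      {β'' : Set (IrrCharacter A₂) | IsInducedBlock M A₂ β'' b} from h)]
    apply Finset.sum_eq_zero
    intro β' hβ'
    rw [if_neg]
    intro hcon
    exact h ((isInducedBlock_trans_iff hMp H A A₂ φ hφ hcon hb).mp ((h𝔉 β').mp hβ'))

/-- The weight attached to a subgroup: its order times the sum of the ranks of its blocks
inducing `b`. -/
noncomputable def Phi (M : Ideal AlgInt) (p : ℕ) (b : Set (IrrCharacter G)) (K : Subgroup G) : ℤ :=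
  (Nat.card K : ℤ) *
    ((∑ᶠ β ∈ {β : Set (IrrCharacter K) | IsInducedBlock M K β b}, blockRank p β : ℕ) : ℤ)

/-- The isomorphism between a subgroup of a subgroup and its image. -/
noncomputable def liftEq (N : Subgroup G) (A : Subgroup N) (A₂ : Subgroup G)
    (hA : A.map N.subtype = A₂) : A ≃* A₂ :=
  (A.equivMapOfInjective N.subtype (Subgroup.subtype_injective N)).trans
    (MulEquiv.subgroupCongr hA)

theorem coe_liftEq (N : Subgroup G) (A : Subgroup N) (A₂ : Subgroup G)
    (hA : A.map N.subtype = A₂) (a : A) :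
    ((liftEq N A A₂ hA a : A₂) : G) = ((a : N) : G) := rfl

theorem map_centralizer_singleton (H : Subgroup G) (x : H) :
    (Subgroup.centralizer ({x} : Set H)).map H.subtype =
      H ⊓ Subgroup.centralizer ({(x : G)} : Set G) := by
  ext g
  rw [Subgroup.mem_map, Subgroup.mem_inf]
  constructor
  · rintro ⟨a, ha, rfl⟩
    refine ⟨a.2, ?_⟩
    rw [Subgroup.mem_centralizer_iff] at ha ⊢
    intro w hw
    rw [Set.mem_singleton_iff] at hw
    rw [hw]
    have := ha x (Set.mem_singleton x)
    exact congrArg (fun z : H => (z : G)) this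
  · rintro ⟨hgH, hg⟩
    refine ⟨⟨g, hgH⟩, ?_, rfl⟩
    rw [Subgroup.mem_centralizer_iff] at hg ⊢
    intro w hw
    rw [Set.mem_singleton_iff] at hw
    rw [hw]
    apply Subtype.ext
    exact hg (x : G) (Set.mem_singleton _)

/-- **The difference `k - l` over the blocks of `H` inducing `b`, as a sum over the nontrivial
`p`-elements of `H`.** -/
theorem partA [Fintype G] {p : ℕ} [hp : Fact p.Prime] (hM : IsPModular p M)
    (b : Set (IrrCharacter G)) (hb : IsPBlock M b) (H : Subgroup G) (PH : Finset G)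
    (hPH : ∀ x, x ∈ PH ↔ x ∈ H ∧ x ≠ 1 ∧ ∃ k : ℕ, orderOf x = p ^ k) :
    (Nat.card H : ℤ) *
      ((Nat.card {ψ : IrrCharacter H | ∃ β : Set (IrrCharacter H),
          ψ ∈ β ∧ IsInducedBlock M H β b} : ℤ) -
       (blockRank p {ψ : IrrCharacter H | ∃ β : Set (IrrCharacter H),
          ψ ∈ β ∧ IsInducedBlock M H β b} : ℤ)) =
      ∑ x ∈ PH, Phi M p b (H ⊓ Subgroup.centralizer ({x} : Set G)) := by
  classical
  have hMp := isPrime_of_isPModular hM
  haveI : Fintype H := Fintype.ofFinite _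
  haveI : Fintype (IrrCharacter H) := Fintype.ofFinite _
  rw [setOf_eq_indSet hMp H b, card_indSet hMp H b, blockRank_indSet hM H b]
  have hfin : ({β' : Set (IrrCharacter H) | IsInducedBlock M H β' b}).Finite := Set.toFinite _
  rw [finsum_mem_eq_finite_toFinset_sum _ hfin, finsum_mem_eq_finite_toFinset_sum _ hfin]
  have h𝔉 : ∀ β', β' ∈ hfin.toFinset ↔ IsInducedBlock M H β' b :=
    fun β' => Set.Finite.mem_toFinset hfin
  -- the nontrivial `p`-elements of `H`
  set PH' : Finset H :=
    Finset.univ.filter (fun x : H => x ≠ 1 ∧ ∃ k : ℕ, orderOf x = p ^ k) with hPH'def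
  have hPH' : ∀ x : H, x ∈ PH' ↔ x ≠ 1 ∧ ∃ k : ℕ, orderOf x = p ^ k := by
    intro x
    rw [hPH'def, Finset.mem_filter]
    exact ⟨fun h => h.2, fun h => ⟨Finset.mem_univ _, h⟩⟩
  have e1 : ∀ β' ∈ hfin.toFinset,
      (Nat.card H : ℤ) * ((Nat.card β' : ℤ) - (blockRank p β' : ℤ)) =
      ∑ x ∈ PH', (Nat.card (Subgroup.centralizer ({x} : Set H)) : ℤ) *
        ((∑ᶠ β ∈ {β : Set (IrrCharacter ↥(Subgroup.centralizer ({x} : Set H))) |
          IsInducedBlock M (Subgroup.centralizer ({x} : Set H)) β β'}, blockRank p β : ℕ) : ℤ) :=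
    fun β' hβ' => allcount hM β' ((h𝔉 β').mp hβ').1 PH' hPH'
  rw [Nat.cast_sum, Nat.cast_sum, ← Finset.sum_sub_distrib, Finset.mul_sum,
    Finset.sum_congr rfl e1, Finset.sum_comm]
  have hmap : PH = PH'.map (Function.Embedding.subtype (fun g : G => g ∈ H)) := by
    ext g
    rw [Finset.mem_map, hPH]
    constructor
    · rintro ⟨hgH, hg1, k, hk⟩
      refine ⟨⟨g, hgH⟩, (hPH' _).mpr ⟨?_, k, ?_⟩, rfl⟩
      · intro h
        apply hg1
        exact congrArg (fun z : H => (z : G)) h
      · rw [← hk]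
        exact (Subgroup.orderOf_coe (⟨g, hgH⟩ : H)).symm
    · rintro ⟨x, hx, rfl⟩
      obtain ⟨hx1, k, hk⟩ := (hPH' x).mp hx
      refine ⟨x.2, ?_, k, ?_⟩
      · intro h
        apply hx1
        exact Subtype.ext h
      · rw [← hk]
        exact Subgroup.orderOf_coe x
  rw [hmap, Finset.sum_map]
  refine Finset.sum_congr rfl fun x hx => ?_
  show _ = Phi M p b (H ⊓ Subgroup.centralizer ({(x : G)} : Set G))
  obtain ⟨hx1, k, hk⟩ := (hPH' x).mp hx
  rw [← Finset.mul_sum, ← Nat.cast_sum]
  have hA := map_centralizer_singleton H x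
  haveI : Fintype ↥(Subgroup.centralizer ({x} : Set H)) := Fintype.ofFinite _
  haveI : Fintype ↥(H ⊓ Subgroup.centralizer ({(x : G)} : Set G)) := Fintype.ofFinite _
  have hP : IsPGroup p (Subgroup.zpowers x) := by
    apply IsPGroup.of_card (n := k)
    rw [Nat.card_zpowers, hk]
  have hPle : Subgroup.zpowers x ≤ Subgroup.centralizer ({x} : Set H) := by
    rw [Subgroup.zpowers_le, Subgroup.mem_centralizer_iff]
    intro w hw
    rw [Set.mem_singleton_iff] at hw
    rw [hw]
  have hCH : Subgroup.centralizer ((Subgroup.zpowers x : Subgroup H) : Set H) ≤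
      Subgroup.centralizer ({x} : Set H) := by
    apply Subgroup.centralizer_le
    rw [Set.singleton_subset_iff]
    exact Subgroup.mem_zpowers x
  have hHN : Subgroup.centralizer ({x} : Set H) ≤
      Subgroup.normalizer ((Subgroup.zpowers x : Subgroup H) : Set H) :=
    Cfsg.Agent.Helper23.CS.centralizer_singleton_le_normalizer_zpowers x
  have hdef : ∀ β : Set (IrrCharacter ↥(Subgroup.centralizer ({x} : Set H))),
      IsPBlock M β → InducedBlockDefined M (Subgroup.centralizer ({x} : Set H)) β := fun β hβ =>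
    Cfsg.Agent.S0919.result p M hM (Subgroup.zpowers x) _ hP hPle hCH hHN β hβ
  rw [sum_blockRank_transport hM H (Subgroup.centralizer ({x} : Set H))
    (H ⊓ Subgroup.centralizer ({(x : G)} : Set G)) (liftEq H _ _ hA) (coe_liftEq H _ _ hA)
    hdef b hb hfin.toFinset h𝔉]
  unfold Phi
  rw [Nat.card_congr (liftEq H _ _ hA).toEquiv]

end Cfsg.Agent.Helper23.CSC
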