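import Mathlib
import Cfsg.Agent.Helper24.Classes

set_option autoImplicit false

namespace Cfsg.Agent.Helper23

/-- Weighted class counting: for a predicate `P` on conjugacy classes,
`∑_{x, P [x]} |C_H(x)| = |H| · #{C // P C}`. -/
theorem sum_card_centralizer_of_classPred {H : Type*} [Group H] [Fintype H]
    (P : ConjClasses H → Prop) [DecidablePred P] :
    ∑ x : H, (if P (ConjClasses.mk x) then Nat.card (Subgroup.centralizer ({x} : Set H)) else 0) =
      Nat.card H * Nat.card {C : ConjClasses H // P C} := by
  classical
  have : Fintype (ConjClasses H) := Fintype.ofFinite _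
  rw [← Finset.sum_fiberwise (s := Finset.univ) (g := (ConjClasses.mk : H → ConjClasses H))]
  have hfib : ∀ C : ConjClasses H,
      ∑ x ∈ Finset.univ.filter (fun x : H => ConjClasses.mk x = C),
        (if P (ConjClasses.mk x) then Nat.card (Subgroup.centralizer ({x} : Set H)) else 0) =
      if P C then Nat.card H else 0 := by
    intro C
    by_cases hC : P C
    · rw [if_pos hC]
      obtain ⟨x₀, rfl⟩ := ConjClasses.mk_surjective C
      have h1 : ∀ x ∈ Finset.univ.filter (fun x : H => ConjClasses.mk x = ConjClasses.mk x₀),
          (if P (ConjClasses.mk x) then Nat.card (Subgroup.centralizer ({x} : Set H)) else 0) =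
            Nat.card (Subgroup.centralizer ({x₀} : Set H)) := by
        intro x hx
        rw [Finset.mem_filter] at hx
        rw [hx.2, if_pos hC]
        exact Cfsg.Agent.Helper24.card_centralizer_eq_of_isConj
          (ConjClasses.mk_eq_mk_iff_isConj.mp hx.2)
      rw [Finset.sum_congr rfl h1, Finset.sum_const, smul_eq_mul,
        ← Cfsg.Agent.Helper24.card_conj_mul_card_centralizer x₀]
      congr 1
      rw [Nat.card_eq_fintype_card, Fintype.card_subtype]
      congr 1
      ext x
      simp only [Finset.mem_filter, Finset.mem_univ, true_and]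
      rw [ConjClasses.mk_eq_mk_iff_isConj]
      exact ⟨fun h => h.symm, fun h => h.symm⟩
    · rw [if_neg hC]
      apply Finset.sum_eq_zero
      intro x hx
      rw [Finset.mem_filter] at hx
      rw [hx.2, if_neg hC]
  rw [Finset.sum_congr rfl (fun C _ => hfib C), ← Finset.sum_filter, Finset.sum_const, smul_eq_mul,
    mul_comm]
  congr 1
  rw [Nat.card_eq_fintype_card, Fintype.card_subtype]

end Cfsg.Agent.Helper23
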