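import Mathlib
import Cfsg.Prelude.Def_Blocks
import Cfsg.Prelude.Def_BlockLocal
import Cfsg.Prelude.Def_BrauerPairs
import Cfsg.Agent.Helper23.MaxOfDefect

set_option autoImplicit false
set_option linter.unusedSectionVars false
set_option linter.unusedVariables false

/-!
# The inertial quotient of a block with cyclic defect group
-/

namespace Cfsg.Agent.Helper23.CD

open Cfsg Cfsg.Agent.Helper24 Cfsg.Agent.Helper5 Cfsg.Agent.Helper5.Loc Cfsg.Agent.Helper5.CC
open Cfsg.Agent.Helper14
open Cfsg.Agent.Helper23.BT Cfsg.Agent.Helper23.IC Cfsg.Agent.Helper23.TM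
open Cfsg.Agent.Helper23.SB Cfsg.Agent.Helper23.TMH Cfsg.Agent.Helper23.BP
open Cfsg.Agent.Helper23.SP Cfsg.Agent.Helper23.SU Cfsg.Agent.Helper23.PP
open Cfsg.Agent.Helper23.MP Cfsg.Agent.Helper23.PC Cfsg.Agent.Helper23.BC
open Cfsg.Agent.Helper23.MC Cfsg.Agent.Helper23.LD Cfsg.Agent.Helper23.ST
open Cfsg.Agent.Helper23.BF Cfsg.Agent.Helper23.RP Cfsg.Agent.Helper23.AD
open Cfsg.Agent.Helper23.NS Cfsg.Agent.Helper23.NPI Cfsg.Agent.Helper23.II
open Cfsg.Agent.Helper23.CS Cfsg.Agent.Helper23.DP Cfsg.Agent.Helper23.MOD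

/-- An automorphism of order prime to `p` of a cyclic `p`-group fixing a non-identity element is
trivial. -/
theorem mulAut_eq_one_of_fixed {p : ℕ} [hpf : Fact p.Prime] {P : Type*} [Group P] [Finite P]
    [IsCyclic P] (hP : IsPGroup p P) (α : MulAut P) (hα : ¬ p ∣ orderOf α) (x : P) (hx1 : x ≠ 1)
    (hx : α x = x) : α = 1 := by
  have hp : p.Prime := hpf.out
  obtain ⟨m, hm⟩ := MonoidHom.map_cyclic (α : P →* P)
  have hm' : ∀ g : P, α g = g ^ m := hm
  have hpow : ∀ (j : ℕ) (g : P), (α ^ j) g = g ^ (m ^ j) := by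
    intro j
    induction j with
    | zero => intro g; simp
    | succ j ih =>
      intro g
      rw [pow_succ, MulAut.mul_apply, hm', ih, ← zpow_mul, pow_succ, mul_comm]
  obtain ⟨n, hn⟩ := IsPGroup.iff_card.mp hP
  have hxm : x ^ (m - 1) = 1 := by
    rw [zpow_sub_one, ← hm', hx, mul_inv_cancel]
  obtain ⟨j, hj⟩ := (IsPGroup.iff_orderOf.mp hP) x
  have hj0 : j ≠ 0 := by
    rintro rfl
    rw [pow_zero, orderOf_eq_one_iff] at hj
    exact hx1 hj
  have hdvd : (p : ℤ) ∣ m - 1 := by
    have h1 : (orderOf x : ℤ) ∣ m - 1 := orderOf_dvd_iff_zpow_eq_one.mpr hxm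
    rw [hj] at h1
    refine dvd_trans ?_ h1
    push_cast
    exact dvd_pow_self _ hj0
  have hn0 : n ≠ 0 := by
    rintro rfl
    rw [pow_zero] at hn
    have : Subsingleton P := (Nat.card_eq_one_iff_unique.mp hn).1
    exact hx1 (Subsingleton.elim _ _)
  have h2 := dvd_sub_pow_of_dvd_sub (R := ℤ) (p := p) (a := m) (b := 1) hdvd (n - 1)
  rw [Nat.sub_add_cancel (Nat.pos_of_ne_zero hn0), one_pow] at h2
  have h3 : α ^ (p ^ (n - 1)) = 1 := by
    ext g
    rw [hpow, MulAut.one_apply]
    obtain ⟨t, ht⟩ := h2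
    have e : m ^ p ^ (n - 1) = 1 + (p : ℤ) ^ n * t := by linarith
    rw [e, zpow_add, zpow_one, zpow_mul]
    have : g ^ ((p : ℤ) ^ n) = 1 := by
      have h := pow_card_eq_one' (G := P) (x := g)
      rw [hn] at h
      exact_mod_cast h
    rw [this, one_zpow, mul_one]
  have h4 : orderOf α ∣ p ^ (n - 1) := orderOf_dvd_of_pow_eq_one h3
  obtain ⟨i, -, hi⟩ := (Nat.dvd_prime_pow hp).mp h4
  have hi0 : i = 0 := by
    by_contra hne
    exact hα (hi ▸ dvd_pow_self p hne)
  rw [hi0, pow_zero, orderOf_eq_one_iff] at hi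
  exact hi

variable {G : Type*} [Group G] [Fintype G] {M : Ideal AlgInt} {p : ℕ} [Fact p.Prime]

/-- **The inertial quotient of a block with cyclic defect group** (= S4633). -/
theorem inertial_quotient_cyclic (hM : IsPModular p M) (B : Set (IrrCharacter G))
    (P : Subgroup G) (hPD : IsDefectGroup p M B P) (hP1 : P ≠ ⊥) (hcyc : IsCyclic P)
    (c : Set (IrrCharacter (Subgroup.centralizer (P : Set G))))
    (hc : IsInducedBlock M (Subgroup.centralizer (P : Set G)) c B) (T : Subgroup G)
    (hT : ∀ g : G, g ∈ T ↔ (g ∈ Subgroup.normalizer (P : Set G) ∧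
      StabilizesBlock (Subgroup.centralizer (P : Set G)) c g))
    [hn : ((Subgroup.centralizer (P : Set G)).subgroupOf T).Normal] :
    IsCyclic (T ⧸ (Subgroup.centralizer (P : Set G)).subgroupOf T) ∧
      (Subgroup.centralizer (P : Set G)).relIndex T ∣ p - 1 ∧
      ∀ g ∈ T, ∀ x ∈ P, x ≠ 1 → g * x * g⁻¹ = x → g ∈ Subgroup.centralizer (P : Set G) := by
  classical
  have hp : p.Prime := Fact.out
  have : Fintype (IrrCharacter G) := Fintype.ofFinite _
  have hB := hc.2.1
  have hmax := isMaximalBrauerPair_of_defectGroup hM B P hPD c hc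
  have hPp : IsPGroup p P := hmax.1.1.1
  obtain ⟨-, hCT, hTN⟩ := stab_basic P c T hT
  have hab : ∀ x ∈ P, ∀ y ∈ P, x * y = y * x := by
    intro x hx y hy
    have := (isMulCommutative_iff.mp hcyc.isMulCommutative) (⟨x, hx⟩ : P) ⟨y, hy⟩
    exact congrArg Subtype.val this
  have hidx := not_dvd_inertial_index hM B P c hmax T hT
  have hPC : P.subgroupOf T ≤ (Subgroup.centralizer (P : Set G)).subgroupOf T :=
    Subgroup.comap_mono (le_centralizer_of_abelian hab le_rfl)
  rw [sup_eq_right.mpr hPC] at hidx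
  -- the action on `P`
  have hker : (P.normalizerMonoidHom.comp (Subgroup.inclusion hTN)).ker =
      (Subgroup.centralizer (P : Set G)).subgroupOf T := by
    ext t
    rw [MonoidHom.mem_ker, MonoidHom.comp_apply, ← MonoidHom.mem_ker,
      Subgroup.normalizerMonoidHom_ker, Subgroup.mem_subgroupOf, Subgroup.mem_subgroupOf]
    rfl
  have hcardq : Nat.card (T ⧸ (Subgroup.centralizer (P : Set G)).subgroupOf T) =
      Nat.card (P.normalizerMonoidHom.comp (Subgroup.inclusion hTN)).range :=
    Nat.card_congr ((QuotientGroup.quotientMulEquivOfEq hker.symm).trans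
      (QuotientGroup.quotientKerEquivRange _)).toEquiv
  obtain ⟨n, hn'⟩ := IsPGroup.iff_card.mp hPp
  have hn0 : n ≠ 0 := by
    rintro rfl
    rw [pow_zero] at hn'
    exact hP1 (Subgroup.card_eq_one.mp hn')
  have hcardA : Nat.card (MulAut P) = p ^ (n - 1) * (p - 1) := by
    rw [IsCyclic.card_mulAut, hn', Nat.totient_prime_pow hp (Nat.pos_of_ne_zero hn0)]
  have hrel : (Subgroup.centralizer (P : Set G)).relIndex T =
      Nat.card (P.normalizerMonoidHom.comp (Subgroup.inclusion hTN)).range := by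
    rw [← hcardq, Subgroup.relIndex, Subgroup.index_eq_card]
  have hdvd : (Subgroup.centralizer (P : Set G)).relIndex T ∣ p - 1 := by
    have h1 : (Subgroup.centralizer (P : Set G)).relIndex T ∣ p ^ (n - 1) * (p - 1) := by
      rw [hrel, ← hcardA]
      exact Subgroup.card_subgroup_dvd_card _
    have hcop : ((Subgroup.centralizer (P : Set G)).relIndex T).Coprime (p ^ (n - 1)) :=
      Nat.Coprime.pow_right _ ((Nat.Coprime.symm ((Nat.Prime.coprime_iff_not_dvd hp).mpr hidx)))
    exact hcop.dvd_of_dvd_mul_left h1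
  refine ⟨?_, hdvd, ?_⟩
  · by_cases hp2 : p = 2
    · rw [hp2] at hdvd
      have h1 : (Subgroup.centralizer (P : Set G)).relIndex T = 1 := Nat.dvd_one.mp hdvd
      rw [Subgroup.relIndex, Subgroup.index_eq_card] at h1
      have : Subsingleton (T ⧸ (Subgroup.centralizer (P : Set G)).subgroupOf T) :=
        (Nat.card_eq_one_iff_unique.mp h1).1
      exact isCyclic_of_subsingleton
    · have hZ : IsCyclic (ZMod (Nat.card P))ˣ := by
        rw [hn']
        exact ZMod.isCyclic_units_of_prime_pow p hp hp2 n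
      have hA : IsCyclic (MulAut P) :=
        isCyclic_of_surjective (IsCyclic.mulAutMulEquiv P).symm (MulEquiv.surjective _)
      have hR : IsCyclic (P.normalizerMonoidHom.comp (Subgroup.inclusion hTN)).range :=
        inferInstance
      exact isCyclic_of_surjective ((QuotientGroup.quotientMulEquivOfEq hker.symm).trans
        (QuotientGroup.quotientKerEquivRange _)).symm (MulEquiv.surjective _)
  · intro g hg x hx hx1 hgx
    have hα : ¬ p ∣ orderOf ((P.normalizerMonoidHom.comp (Subgroup.inclusion hTN)) ⟨g, hg⟩) := by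
      intro hd
      apply hidx
      change p ∣ (Subgroup.centralizer (P : Set G)).relIndex T
      rw [hrel]
      refine dvd_trans hd ?_
      have := orderOf_dvd_natCard (⟨_, MonoidHom.mem_range.mpr ⟨⟨g, hg⟩, rfl⟩⟩ :
        (P.normalizerMonoidHom.comp (Subgroup.inclusion hTN)).range)
      rwa [Subgroup.orderOf_mk] at this
    have hfix : ((P.normalizerMonoidHom.comp (Subgroup.inclusion hTN)) ⟨g, hg⟩)
        (⟨x, hx⟩ : P) = ⟨x, hx⟩ := by
      apply Subtype.ext
      exact hgx
    have hone := mulAut_eq_one_of_fixed hPp _ hα (⟨x, hx⟩ : P)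
      (fun h => hx1 (congrArg Subtype.val h)) hfix
    have hmem : (⟨g, hg⟩ : T) ∈ (P.normalizerMonoidHom.comp (Subgroup.inclusion hTN)).ker :=
      MonoidHom.mem_ker.mpr hone
    rw [hker, Subgroup.mem_subgroupOf] at hmem
    exact hmem

end Cfsg.Agent.Helper23.CD
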