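import Mathlib
import Cfsg.Agent.Helper8.D1Base
import Cfsg.Agent.Helper8.PConjAction
import Cfsg.Agent.Helper1.D1PA
import Cfsg.Agent.Helper29.D1QG

/-!
Piece (QT3) of the defect-one cluster (helper8, round 2): the units congruent to `1` modulo `d`
act transitively on the non-trivial `p`-linear functions of `C_G(P)`.
-/

set_option autoImplicit false

open Cfsg Cfsg.Agent.Helper8.D1

namespace Cfsg.Agent.Helper23.D1QT3

/-- `c ↦ μ (c ^ m)` is `p`-linear when `μ` is -/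
theorem isPLin_pow {p : ℕ} {X : Type*} [Group X] {μ : X → ℂ} (h : IsPLin p μ) (m : ℕ) :
    IsPLin p (fun c => μ (c ^ m)) where
  one := by
    show μ (1 ^ m) = 1
    rw [one_pow]; exact h.one
  mul a b := by
    show μ ((a * b) ^ m) = μ (a ^ m) * μ (b ^ m)
    rw [h.pow, h.pow, h.pow, h.mul, mul_pow]
  reg y hy := by
    show μ (y ^ m) = 1
    rw [h.pow, h.reg y hy, one_pow]

/-- a Sylow `p`-subgroup of order `p` in a group of order `p * d` forces `p ∤ d` -/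
theorem not_dvd_of_card {G : Type*} [Group G] [Finite G] {p : ℕ} [Fact p.Prime]
    (P : Sylow p G) (hP : Nat.card P = p) (d : ℕ) (hNd : Nat.card G = p * d) : ¬ p ∣ d := by
  have hp : p.Prime := Fact.out
  intro hpd
  obtain ⟨e, rfl⟩ := hpd
  have h2 : p ^ 2 ∣ Nat.card G := by
    rw [hNd, pow_two]
    exact ⟨e, (mul_assoc p p e).symm⟩
  have h3 := P.pow_dvd_card_of_pow_dvd_card h2
  rw [hP] at h3
  have h4 : p ^ 2 ≤ p := Nat.le_of_dvd hp.pos h3
  have h5 : p < p ^ 2 := by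
    have := hp.two_le
    nlinarith
  omega

/-- pure arithmetic: a unit modulo `p * d` congruent to `1` mod `d` and to `j` mod `p` -/
theorem exists_unit_crt {N p d j : ℕ} [NeZero N] (hp : p.Prime) (hN : N = p * d) (hd : d ∣ N)
    (hpd : ¬ p ∣ d) (hj : ¬ p ∣ j) :
    ∃ k ∈ Cfsg.Agent.Helper8.PConj.oneMod N d hd, (k : ZMod N).val % p = j % p := by
  have hcop : Nat.Coprime d p := ((Nat.Prime.coprime_iff_not_dvd hp).mpr hpd).symm
  obtain ⟨k0, hk1, hk2⟩ := Nat.chineseRemainder hcop 1 j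
  have hk0d : Nat.Coprime k0 d := by
    have : Nat.gcd k0 d = Nat.gcd 1 d := Nat.ModEq.gcd_eq hk1
    rw [Nat.Coprime, this, Nat.gcd_one_left]
  have hk0p : Nat.Coprime k0 p := by
    have : Nat.gcd k0 p = Nat.gcd j p := Nat.ModEq.gcd_eq hk2
    rw [Nat.Coprime, this]
    exact ((Nat.Prime.coprime_iff_not_dvd hp).mpr hj).symm
  have hk0N : Nat.Coprime k0 N := by
    rw [hN]
    exact Nat.Coprime.mul_right hk0p hk0d
  have hval : ((ZMod.unitOfCoprime k0 hk0N : (ZMod N)ˣ) : ZMod N).val = k0 % N := by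
    rw [ZMod.coe_unitOfCoprime, ZMod.val_natCast]
  refine ⟨ZMod.unitOfCoprime k0 hk0N, ?_, ?_⟩
  · rw [Cfsg.Agent.Helper8.PConj.mem_oneMod, hval, Nat.mod_mod_of_dvd _ hd]
    exact hk1
  · rw [hval, Nat.mod_mod_of_dvd _ ⟨d, hN⟩]
    exact hk2

theorem exists_oneMod_pow {G : Type*} [Group G] [Finite G] {p : ℕ} [Fact p.Prime]
    (P : Sylow p G) (hP : Nat.card P = p) (d : ℕ) (hNd : Nat.card G = p * d) (hd : d ∣ Nat.card G)
    (μ₀ μ₁ : Subgroup.centralizer ((P : Subgroup G) : Set G) → ℂ) (h₀ : IsPLin p μ₀)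
    (h₁ : IsPLin p μ₁) (h₀' : ∃ x, μ₀ x ≠ 1) (h₁' : ∃ x, μ₁ x ≠ 1) :
    ∃ k ∈ Cfsg.Agent.Helper8.PConj.oneMod (Nat.card G) d hd,
      μ₁ = fun c => μ₀ (c ^ (k : ZMod (Nat.card G)).val) := by
  have hp : p.Prime := Fact.out
  have hpd : ¬ p ∣ d := not_dvd_of_card P hP d hNd
  have : NeZero (Nat.card G) := ⟨Nat.card_pos.ne'⟩
  -- a non-identity element of `P`
  have hPnt : Nontrivial (P : Subgroup G) := by
    have : 1 < Nat.card (P : Subgroup G) := by rw [hP]; exact hp.one_lt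
    exact (Finite.one_lt_card_iff_nontrivial).mp this
  obtain ⟨⟨u, hu⟩, hu1⟩ := exists_ne (1 : (P : Subgroup G))
  have hu1' : u ≠ 1 := fun h => hu1 (Subtype.ext h)
  set uc : Subgroup.centralizer ((P : Subgroup G) : Set G) :=
    ⟨u, Cfsg.Agent.Helper1.D1PA.le_centralizer P hP hu⟩ with huc
  have huc1 : uc ≠ 1 := fun h => hu1' (congrArg Subtype.val h)
  have hupow : uc ^ p = 1 := by
    apply Subtype.ext
    rw [Subgroup.coe_pow, Subgroup.coe_one]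
    have h1 : (⟨u, hu⟩ : (P : Subgroup G)) ^ p = 1 := by
      have h0 : (⟨u, hu⟩ : (P : Subgroup G)) ^ Nat.card (P : Subgroup G) = 1 := pow_card_eq_one'
      rwa [hP] at h0
    have h2 := congrArg Subtype.val h1
    rwa [Subgroup.coe_pow, Subgroup.coe_one] at h2
  -- the two roots of unity
  have hz0p : μ₀ uc ^ p = 1 := by rw [← h₀.pow, hupow, h₀.one]
  have hz1p : μ₁ uc ^ p = 1 := by rw [← h₁.pow, hupow, h₁.one]
  have hz0 : μ₀ uc ≠ 1 := Cfsg.Agent.Helper29.D1QG.pLin_ne_one P hP h₀ h₀' uc hu huc1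
  have hz1 : μ₁ uc ≠ 1 := Cfsg.Agent.Helper29.D1QG.pLin_ne_one P hP h₁ h₁' uc hu huc1
  have hord : orderOf (μ₀ uc) = p := orderOf_eq_prime hz0p hz0
  have hprim : IsPrimitiveRoot (μ₀ uc) p := by
    rw [← hord]; exact IsPrimitiveRoot.orderOf _
  have : NeZero p := ⟨hp.ne_zero⟩
  obtain ⟨j, hjp, hj⟩ := hprim.eq_pow_of_pow_eq_one hz1p
  have hjnd : ¬ p ∣ j := by
    intro hdiv
    have : j = 0 := Nat.eq_zero_of_dvd_of_lt hdiv hjp
    rw [this, pow_zero] at hj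
    exact hz1 hj.symm
  obtain ⟨k, hk, hkj⟩ := exists_unit_crt (N := Nat.card G) hp hNd hd hpd hjnd
  refine ⟨k, hk, ?_⟩
  apply Cfsg.Agent.Helper29.D1QG.pLin_ext P hP h₁ (isPLin_pow h₀ _)
  intro v hv
  obtain ⟨i, hi⟩ := Cfsg.Agent.Helper1.D1PA.exists_zpow P hP hu hu1' hv
  have hvi : v = uc ^ i := Subtype.ext (by rw [Subgroup.coe_zpow, ← hi])
  have e1 : μ₁ (uc ^ i) = μ₁ uc ^ i := map_zpow h₁.hom uc i
  have e0 : μ₀ (uc ^ i) = μ₀ uc ^ i := map_zpow h₀.hom uc i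
  show μ₁ v = μ₀ (v ^ (k : ZMod (Nat.card G)).val)
  rw [h₀.pow, hvi, e1, e0, ← hj]
  have hkpow : μ₀ uc ^ (k : ZMod (Nat.card G)).val = μ₀ uc ^ j := by
    rw [pow_eq_pow_mod _ hz0p, hkj, ← pow_eq_pow_mod _ hz0p]
  rw [← hkpow, ← zpow_natCast, ← zpow_natCast, ← zpow_mul, ← zpow_mul, mul_comm]

end Cfsg.Agent.Helper23.D1QT3
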