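import Mathlib

set_option autoImplicit false
set_option linter.unusedSectionVars false
set_option linter.unusedVariables false
set_option linter.style.haveILetI false
set_option linter.unnecessarySimpa false

/-!
# Involutions inverting an element: a parity count

For an element `w` whose centralizer has even order, the number of solutions `t` of `t ^ 2 = 1`
that invert `w` is even.  Also: an element `y` of order `3` and an involution `a` with `y * a` of
order dividing `3` generate a four-group normalized by `y`.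
-/

namespace Cfsg.Agent.Helper23.DZ3

theorem even_card_of_involutive {α : Type*} [Finite α] (f : α → α) (hf : Function.Involutive f)
    (hne : ∀ a, f a ≠ a) : Even (Nat.card α) := by
  classical
  haveI : Fintype α := Fintype.ofFinite α
  have h2 : (hf.toPerm f) ^ 2 = 1 := by
    ext a
    simp [pow_two, hf a]
  have hs : (hf.toPerm f).support = Finset.univ := by
    ext a
    simp only [Equiv.Perm.mem_support, Function.Involutive.coe_toPerm, Finset.mem_univ, iff_true]
    exact hne a
  have := Equiv.Perm.two_dvd_card_support h2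
  rw [hs, Finset.card_univ] at this
  rw [Nat.card_eq_fintype_card]
  exact even_iff_two_dvd.mpr this

variable {G : Type*} [Group G]

/-- If the centralizer of `w` has even order, then the number of `t` with `t ^ 2 = 1` and
`(t⁻¹ * w) ^ 2 = 1` is even. -/
theorem even_card_sq_inverting [Finite G] (w : G)
    (hw : Even (Nat.card (Subgroup.centralizer ({w} : Set G)))) :
    Even (Nat.card {t : G // t ^ 2 = 1 ∧ (t⁻¹ * w) ^ 2 = 1}) := by
  classical
  haveI : Fact (Nat.Prime 2) := ⟨Nat.prime_two⟩
  obtain ⟨z', hz'⟩ := exists_prime_orderOf_dvd_card' 2 (even_iff_two_dvd.mp hw)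
  set z : G := (z' : G) with hz
  have hzo : orderOf z = 2 := by rw [hz, Subgroup.orderOf_coe]; exact hz'
  have hz2 : z * z = 1 := by
    have := pow_orderOf_eq_one z
    rwa [hzo, pow_two] at this
  have hz1 : z ≠ 1 := by
    intro h
    rw [h, orderOf_one] at hzo
    omega
  have hzi : z⁻¹ = z := inv_eq_of_mul_eq_one_left hz2
  have hzw : z * w = w * z := by
    have := Subgroup.mem_centralizer_singleton_iff.mp z'.2
    exact this
  have hcase1 : ∀ t : G, t ^ 2 = 1 ∧ (t⁻¹ * w) ^ 2 = 1 → t * z = z * t →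
      (t * z) ^ 2 = 1 ∧ ((t * z)⁻¹ * w) ^ 2 = 1 := by
    intro t ⟨h1, h2⟩ hc
    constructor
    · rw [pow_two]
      calc t * z * (t * z) = t * (z * t) * z := by group
        _ = t * (t * z) * z := by rw [hc]
        _ = (t * t) * (z * z) := by group
        _ = 1 := by rw [hz2, ← pow_two, h1, one_mul]
    · rw [pow_two] at h2 ⊢
      have hc' : t⁻¹ * z = z * t⁻¹ := (Commute.inv_left (show Commute t z from hc)).eq
      have e1 : (t * z)⁻¹ * w = z * (t⁻¹ * w) := by
        rw [mul_inv_rev, hzi, mul_assoc]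
      have e2 : (t⁻¹ * w) * z = z * (t⁻¹ * w) := by
        calc t⁻¹ * w * z = t⁻¹ * (w * z) := by group
          _ = t⁻¹ * (z * w) := by rw [hzw]
          _ = (t⁻¹ * z) * w := by group
          _ = (z * t⁻¹) * w := by rw [hc']
          _ = z * (t⁻¹ * w) := by group
      rw [e1]
      calc z * (t⁻¹ * w) * (z * (t⁻¹ * w)) = z * ((t⁻¹ * w) * z) * (t⁻¹ * w) := by group
        _ = z * (z * (t⁻¹ * w)) * (t⁻¹ * w) := by rw [e2]
        _ = (z * z) * ((t⁻¹ * w) * (t⁻¹ * w)) := by group
        _ = 1 := by rw [hz2, h2, one_mul]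
  have hcase2 : ∀ t : G, t ^ 2 = 1 ∧ (t⁻¹ * w) ^ 2 = 1 →
      (z * t * z⁻¹) ^ 2 = 1 ∧ ((z * t * z⁻¹)⁻¹ * w) ^ 2 = 1 := by
    intro t ⟨h1, h2⟩
    constructor
    · rw [conj_pow, h1]; group
    · have hw' : w = z * w * z⁻¹ := by rw [hzw]; group
      have : (z * t * z⁻¹)⁻¹ * w = z * (t⁻¹ * w) * z⁻¹ := by
        conv_lhs => rw [hw']
        group
      rw [this, conj_pow, h2]; group
  let f : {t : G // t ^ 2 = 1 ∧ (t⁻¹ * w) ^ 2 = 1} → {t : G // t ^ 2 = 1 ∧ (t⁻¹ * w) ^ 2 = 1} :=
    fun t => if hc : (t : G) * z = z * t then ⟨t * z, hcase1 t t.2 hc⟩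
      else ⟨z * t * z⁻¹, hcase2 t t.2⟩
  apply even_card_of_involutive f
  · intro t
    by_cases hc : (t : G) * z = z * t
    · have hft : f t = ⟨t * z, hcase1 t t.2 hc⟩ := dif_pos hc
      have hc2 : ((f t : G)) * z = z * (f t : G) := by
        rw [hft]
        show (t : G) * z * z = z * ((t : G) * z)
        rw [← mul_assoc, ← hc]
      have : f (f t) = ⟨(f t : G) * z, hcase1 _ (f t).2 hc2⟩ := dif_pos hc2
      rw [this]
      apply Subtype.ext
      show (f t : G) * z = t
      rw [hft]
      show (t : G) * z * z = t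
      rw [mul_assoc, hz2, mul_one]
    · have hft : f t = ⟨z * t * z⁻¹, hcase2 t t.2⟩ := dif_neg hc
      have hc2 : ¬ ((f t : G)) * z = z * (f t : G) := by
        rw [hft]
        show ¬ (z * (t : G) * z⁻¹ * z = z * (z * (t : G) * z⁻¹))
        intro h
        apply hc
        have h3 : z * (t : G) = z * z * (t : G) * z⁻¹ := by
          calc z * (t : G) = z * (t : G) * z⁻¹ * z := by group
            _ = z * (z * (t : G) * z⁻¹) := h
            _ = z * z * (t : G) * z⁻¹ := by group
        rw [hz2, one_mul] at h3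
        calc (t : G) * z = ((t : G) * z⁻¹) * z * z := by group
          _ = (z * (t : G)) * z * z := by rw [← h3]
          _ = z * (t : G) * (z * z) := by group
          _ = z * (t : G) := by rw [hz2, mul_one]
      have : f (f t) = ⟨z * (f t : G) * z⁻¹, hcase2 _ (f t).2⟩ := dif_neg hc2
      rw [this]
      apply Subtype.ext
      show z * (f t : G) * z⁻¹ = t
      rw [hft]
      show z * (z * (t : G) * z⁻¹) * z⁻¹ = t
      rw [hzi]
      calc z * (z * (t : G) * z) * z = (z * z) * (t : G) * (z * z) := by group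
        _ = t := by rw [hz2, one_mul, mul_one]
  · intro t
    by_cases hc : (t : G) * z = z * t
    · have hft : f t = ⟨t * z, hcase1 t t.2 hc⟩ := dif_pos hc
      rw [hft]
      intro h
      have : (t : G) * z = t := congrArg Subtype.val h
      exact hz1 (mul_eq_left.mp this)
    · have hft : f t = ⟨z * t * z⁻¹, hcase2 t t.2⟩ := dif_neg hc
      rw [hft]
      intro h
      have h' : z * (t : G) * z⁻¹ = t := congrArg Subtype.val h
      apply hc
      calc (t : G) * z = (z * (t : G) * z⁻¹) * z := by rw [h']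
        _ = z * t := by group

/-- The four-group on three involutions with the Klein relations. -/
def fourSubgroup (a b c : G) (haa : a * a = 1) (hbb : b * b = 1) (hcc : c * c = 1)
    (hab : a * b = c) (hba : b * a = c) (hac : a * c = b) (hca : c * a = b)
    (hbc : b * c = a) (hcb : c * b = a) : Subgroup G where
  carrier := {x | x = 1 ∨ x = a ∨ x = b ∨ x = c}
  mul_mem' := by
    intro x y hx hy
    simp only [Set.mem_ofPred_eq] at hx hy ⊢
    rcases hx with hx | hx | hx | hx <;> rcases hy with hy | hy | hy | hy <;> rw [hx, hy] <;>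
      simp [haa, hbb, hcc, hab, hba, hac, hca, hbc, hcb]
  one_mem' := Or.inl rfl
  inv_mem' := by
    intro x hx
    simp only [Set.mem_ofPred_eq] at hx ⊢
    rcases hx with hx | hx | hx | hx
    · left; rw [hx, inv_one]
    · right; left; rw [hx]; exact inv_eq_of_mul_eq_one_left haa
    · right; right; left; rw [hx]; exact inv_eq_of_mul_eq_one_left hbb
    · right; right; right; rw [hx]; exact inv_eq_of_mul_eq_one_left hcc

theorem mem_fourSubgroup (a b c : G) (haa : a * a = 1) (hbb : b * b = 1) (hcc : c * c = 1)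
    (hab : a * b = c) (hba : b * a = c) (hac : a * c = b) (hca : c * a = b)
    (hbc : b * c = a) (hcb : c * b = a) (x : G) :
    x ∈ fourSubgroup a b c haa hbb hcc hab hba hac hca hbc hcb ↔
      x = 1 ∨ x = a ∨ x = b ∨ x = c := Iff.rfl

/-- If `y ^ 3 = 1`, `a` is an involution and `(y * a) ^ 3 = 1`, then `y` normalizes a nontrivial
`2`-subgroup (a four-group). -/
theorem exists_two_subgroup_normalized (y a : G) (hy : y ^ 3 = 1) (ha : a ^ 2 = 1) (ha1 : a ≠ 1)
    (hya : (y * a) ^ 3 = 1) :
    ∃ Q : Subgroup G, IsPGroup 2 Q ∧ y ∈ Subgroup.normalizer (Q : Set G) ∧ Q ≠ ⊥ := by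
  have hy3 : y * y * y = 1 := by rw [← hy, pow_succ, pow_two]
  have hyy : y * y = y⁻¹ := by
    calc y * y = (y * y * y) * y⁻¹ := by group
      _ = y⁻¹ := by rw [hy3, one_mul]
  have hyiyi : y⁻¹ * y⁻¹ = y := by
    calc y⁻¹ * y⁻¹ = y⁻¹ * y⁻¹ * (y * y * y)⁻¹⁻¹ := by rw [hy3]; group
      _ = y := by group
  have haa : a * a = 1 := by rw [← pow_two]; exact ha
  set a1 : G := y * a * y⁻¹ with ha1d
  set a2 : G := y⁻¹ * a * y with ha2d
  have h11 : a1 * a1 = 1 := by
    calc a1 * a1 = y * (a * a) * y⁻¹ := by rw [ha1d]; group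
      _ = 1 := by rw [haa]; group
  have h22 : a2 * a2 = 1 := by
    calc a2 * a2 = y⁻¹ * (a * a) * y := by rw [ha2d]; group
      _ = 1 := by rw [haa]; group
  have hrel : a1 * a2 * a = 1 := by
    calc a1 * a2 * a = y * a * (y⁻¹ * y⁻¹) * a * y * a := by rw [ha1d, ha2d]; group
      _ = y * a * y * a * y * a := by rw [hyiyi]
      _ = (y * a) ^ 3 := by rw [pow_succ, pow_two]; group
      _ = 1 := hya
  have hai : a⁻¹ = a := inv_eq_of_mul_eq_one_left haa
  have h1i : a1⁻¹ = a1 := inv_eq_of_mul_eq_one_left h11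
  have h2i : a2⁻¹ = a2 := inv_eq_of_mul_eq_one_left h22
  have h12 : a1 * a2 = a := by
    have := eq_inv_of_mul_eq_one_left hrel
    rw [hai] at this
    exact this
  have h21 : a2 * a1 = a := by
    have := congrArg (fun x => x⁻¹) h12
    simp only [mul_inv_rev, h1i, h2i, hai] at this
    exact this
  -- conjugation by `y`
  have c0 : y * a * y⁻¹ = a1 := rfl
  have c1 : y * a1 * y⁻¹ = a2 := by
    calc y * a1 * y⁻¹ = (y * y) * a * (y⁻¹ * y⁻¹) := by rw [ha1d]; group
      _ = a2 := by rw [hyy, hyiyi]
  have c2 : y * a2 * y⁻¹ = a := by rw [ha2d]; group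
  have h20 : a2 * a = a1 := by
    calc a2 * a = (y * a1 * y⁻¹) * (y * a2 * y⁻¹) := by rw [c1, c2]
      _ = y * (a1 * a2) * y⁻¹ := by group
      _ = a1 := by rw [h12]
  have h02 : a * a2 = a1 := by
    have := congrArg (fun x => x⁻¹) h20
    simp only [mul_inv_rev, h1i, h2i, hai] at this
    exact this
  have h01 : a * a1 = a2 := by
    calc a * a1 = (y * a2 * y⁻¹) * (y * a * y⁻¹) := by rw [c2]
      _ = y * (a2 * a) * y⁻¹ := by group
      _ = a2 := by rw [h20, c1]
  have h10 : a1 * a = a2 := by
    have := congrArg (fun x => x⁻¹) h01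
    simp only [mul_inv_rev, h1i, h2i, hai] at this
    exact this
  refine ⟨fourSubgroup a a1 a2 haa h11 h22 h01 h10 h02 h20 h12 h21, ?_, ?_, ?_⟩
  · intro g
    refine ⟨1, ?_⟩
    apply Subtype.ext
    rw [pow_one, Subgroup.coe_pow, Subgroup.coe_one, pow_two]
    rcases (mem_fourSubgroup _ _ _ _ _ _ _ _ _ _ _ _ _).mp g.2 with h | h | h | h <;> rw [h]
    · exact one_mul 1
    · exact haa
    · exact h11
    · exact h22
  · rw [Subgroup.mem_normalizer_iff]
    intro h
    simp only [mem_fourSubgroup]
    constructor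
    · rintro (h | h | h | h)
      · left; rw [h]; group
      · right; right; left; rw [h]
      · right; right; right; rw [h, c1]
      · right; left; rw [h, c2]
    · have key : ∀ u v : G, y * h * y⁻¹ = u → y⁻¹ * u * y = v → h = v := by
        intro u v h1 h2
        rw [← h2, ← h1]; group
      rintro (h' | h' | h' | h')
      · left; exact key _ _ h' (by group)
      · right; right; right; exact key _ _ h' rfl
      · right; left
        apply key _ _ h'
        rw [ha1d]; group
      · right; right; left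
        apply key _ _ h'
        calc y⁻¹ * a2 * y = (y⁻¹ * y⁻¹) * a * (y * y) := by rw [ha2d]; group
          _ = a1 := by rw [hyy, hyiyi]
  · intro hbot
    have : a ∈ fourSubgroup a a1 a2 haa h11 h22 h01 h10 h02 h20 h12 h21 :=
      (mem_fourSubgroup _ _ _ _ _ _ _ _ _ _ _ _ _).mpr (Or.inr (Or.inl rfl))
    rw [hbot, Subgroup.mem_bot] at this
    exact ha1 this

end Cfsg.Agent.Helper23.DZ3
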