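import Mathlib
import Cfsg.Prelude.Def_Blocks
import Cfsg.Agent.Helper5.ClassMul
import Cfsg.Agent.Helper5.LocalRing
import Cfsg.Agent.Helper5.CentralDefect
import Cfsg.Agent.Helper24.DefectZero
import Cfsg.Agent.Helper24.SmallDegree
import Cfsg.Agent.Helper23.DZThreeA

set_option autoImplicit false
set_option linter.unusedSectionVars false
set_option linter.unusedVariables false
set_option linter.style.haveILetI false
set_option linter.unnecessarySimpa false

/-!
# The sum of the solutions of `g ^ 2 = 1` and characters of `2`-defect zero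

Let `Ω` be the set of solutions of `g ^ 2 = 1`.  The central element `Ω⁺` acts on an irreducible
character `χ` that is not of `2`-defect zero by a scalar in the maximal ideal (its square is the
scalar of `(Ω⁺)²`, whose coefficients are even off the classes of odd centralizer order).
-/

namespace Cfsg.Agent.Helper23.DZ3

open Cfsg Cfsg.Agent.Helper24 Cfsg.Agent.Helper5.Loc Cfsg.Agent.Helper5.CC
open Cfsg.Agent.Helper5.ClassMul

variable {G : Type*} [Group G]

/-- The indicator function of the solutions of `g ^ 2 = 1`. -/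
noncomputable def sqOne : G → ℂ :=
  fun g => @ite ℂ (g ^ 2 = 1) (Classical.propDecidable _) 1 0

theorem sqOne_of {g : G} (h : g ^ 2 = 1) : sqOne g = 1 := if_pos h

theorem sqOne_of_not {g : G} (h : ¬ g ^ 2 = 1) : sqOne g = 0 := if_neg h

theorem isClassFunction_sqOne : IsClassFunction G (sqOne (G := G)) := by
  intro g h
  have hiff : (h * g * h⁻¹) ^ 2 = 1 ↔ g ^ 2 = 1 := by
    rw [conj_pow, conj_eq_one_iff]
  by_cases hg : g ^ 2 = 1
  · rw [sqOne_of hg, sqOne_of (hiff.mpr hg)]
  · rw [sqOne_of_not hg, sqOne_of_not (fun h' => hg (hiff.mp h'))]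

variable [Fintype G]

/-- Convolution of two indicator functions counts factorizations. -/
theorem conv_indicator_apply (c d : G → ℂ) (P Q : G → Prop)
    (hc1 : ∀ t, P t → c t = 1) (hc0 : ∀ t, ¬ P t → c t = 0)
    (hd1 : ∀ t, Q t → d t = 1) (hd0 : ∀ t, ¬ Q t → d t = 0) (u : G) :
    conv c d u = (Nat.card {t : G // P t ∧ Q (t⁻¹ * u)} : ℂ) := by
  classical
  rw [conv]
  have h1 : ∀ t : G, c t * d (t⁻¹ * u) = if (P t ∧ Q (t⁻¹ * u)) then 1 else 0 := by
    intro t
    by_cases hx : P t
    · by_cases hy : Q (t⁻¹ * u)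
      · rw [hc1 t hx, hd1 _ hy, if_pos ⟨hx, hy⟩, one_mul]
      · rw [hd0 _ hy, mul_zero, if_neg (fun h => hy h.2)]
    · rw [hc0 t hx, zero_mul, if_neg (fun h => hx h.1)]
  simp_rw [h1]
  rw [Finset.sum_boole, Nat.card_eq_fintype_card, Fintype.card_subtype]

theorem conv_sqOne_sqOne (w : G) :
    conv sqOne sqOne w = (Nat.card {t : G // t ^ 2 = 1 ∧ (t⁻¹ * w) ^ 2 = 1} : ℂ) :=
  conv_indicator_apply sqOne sqOne (fun t => t ^ 2 = 1) (fun t => t ^ 2 = 1)
    (fun _ h => sqOne_of h) (fun _ h => sqOne_of_not h)
    (fun _ h => sqOne_of h) (fun _ h => sqOne_of_not h) w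

theorem conv_classIndicator_sqOne (x u : G) :
    conv (classIndicator x) sqOne u =
      (Nat.card {t : G // IsConj x t ∧ (t⁻¹ * u) ^ 2 = 1} : ℂ) :=
  conv_indicator_apply (classIndicator x) sqOne (fun t => IsConj x t) (fun t => t ^ 2 = 1)
    (fun _ h => classIndicator_of_isConj h) (fun _ h => classIndicator_of_not_isConj h)
    (fun _ h => sqOne_of h) (fun _ h => sqOne_of_not h) u

variable {M : Ideal AlgInt}

/-- The scalar of `Ω⁺` is an algebraic integer. -/
theorem isIntegral_act_sqOne (χ : IrrCharacter G) : IsIntegral ℤ (act sqOne χ) := by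
  classical
  haveI : Fintype (ConjClasses G) := Fintype.ofFinite _
  rw [act_eq_sum_centralChar isClassFunction_sqOne χ]
  apply IsIntegral.sum
  intro K _
  apply IsIntegral.mul _ (isIntegral_centralChar χ _)
  by_cases h : (rep K) ^ 2 = 1
  · rw [sqOne_of h]; exact isIntegral_one
  · rw [sqOne_of_not h]; exact isIntegral_zero

/-- For a character not of `2`-defect zero, the central character vanishes modulo `M` on the classes
with centralizer of odd order. -/
theorem li_centralChar_of_odd (hM : IsPModular 2 M) (χ : IrrCharacter G)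
    (hχ : (irrDeg χ).factorization 2 < (Nat.card G).factorization 2) (g : G)
    (hg : ¬ 2 ∣ Nat.card (Subgroup.centralizer ({g} : Set G))) :
    MemLocalIdeal M (centralChar (χ : G → ℂ) g) := by
  classical
  have hMp := isPrime_of_isPModular hM
  haveI : Finite G := Finite.of_fintype G
  set i := (Subgroup.centralizer ({g} : Set G)).index with hi
  set a := (Nat.card G).factorization 2 with ha
  set b := (irrDeg χ).factorization 2 with hb
  have hi0 : i ≠ 0 := Subgroup.index_ne_zero_of_finite
  have hiC : i * Nat.card (Subgroup.centralizer ({g} : Set G)) = Nat.card G :=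
    Subgroup.index_mul_card _
  have hC0 : Nat.card (Subgroup.centralizer ({g} : Set G)) ≠ 0 := Nat.card_pos.ne'
  have hia : i.factorization 2 = a := by
    have := Nat.factorization_mul hi0 hC0
    rw [hiC] at this
    have h2 := congrArg (fun f => f 2) this
    simp only [Finsupp.coe_add, Pi.add_apply] at h2
    rw [Nat.factorization_eq_zero_of_not_dvd hg, add_zero] at h2
    rw [ha, h2]
  set i' := i / 2 ^ a with hi'
  have hii' : 2 ^ a * i' = i := by
    rw [hi', ← hia]
    exact Nat.ordProj_mul_ordCompl_eq_self i 2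
  have hd0 : irrDeg χ ≠ 0 := (irrDeg_pos χ).ne'
  set d' := irrDeg χ / 2 ^ b with hd'
  have hdd' : 2 ^ b * d' = irrDeg χ := Nat.ordProj_mul_ordCompl_eq_self (irrDeg χ) 2
  have hd'2 : ¬ 2 ∣ d' := Nat.not_dvd_ordCompl Nat.prime_two hd0
  have hd'0 : (d' : ℂ) ≠ 0 := by
    have : d' ≠ 0 := by
      rintro h0
      exact hd'2 (h0 ▸ dvd_zero _)
    exact_mod_cast this
  have h20 : (2 : ℂ) ^ b ≠ 0 := pow_ne_zero _ two_ne_zero
  have hval : centralChar (χ : G → ℂ) g =
      ((2 ^ (a - b) : ℕ) : ℂ) * ((i' : ℂ) * (χ : G → ℂ) g * (d' : ℂ)⁻¹) := by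
    rw [centralChar_def, ← hi, irrDeg_spec, ← hii', ← hdd']
    have hab : a = b + (a - b) := by omega
    have : ((2 ^ a * i' : ℕ) : ℂ) = (2 : ℂ) ^ b * (2 : ℂ) ^ (a - b) * (i' : ℂ) := by
      push_cast
      rw [← pow_add, ← hab]
    rw [this]
    push_cast
    field_simp
  rw [hval]
  apply li_mul_right hMp
  · rw [memLocalIdeal_natCast_iff hM]
    exact dvd_pow_self 2 (by omega)
  · apply lr_mul hMp (lr_mul hMp (memLocalRing_natCast hMp i')
      (memLocalRing_of_isIntegral hMp (irr_isIntegral χ g)))
    exact memLocalRing_inv_natCast hM hd'2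

/-- **The scalar of `Ω⁺` on a character not of `2`-defect zero lies in the maximal ideal.** -/
theorem li_act_sqOne (hM : IsPModular 2 M) (χ : IrrCharacter G)
    (hχ : (irrDeg χ).factorization 2 < (Nat.card G).factorization 2) :
    MemLocalIdeal M (act sqOne χ) := by
  classical
  have hMp := isPrime_of_isPModular hM
  haveI : Finite G := Finite.of_fintype G
  haveI : Fintype (ConjClasses G) := Fintype.ofFinite _
  have hsq : act sqOne χ * act sqOne χ =
      ∑ K : ConjClasses G, conv sqOne sqOne (rep K) * centralChar (χ : G → ℂ) (rep K) := by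
    rw [← act_conv isClassFunction_sqOne χ,
      act_eq_sum_centralChar (isClassFunction_conv isClassFunction_sqOne isClassFunction_sqOne) χ]
  have hli : MemLocalIdeal M (act sqOne χ * act sqOne χ) := by
    rw [hsq]
    apply li_sum hMp
    intro K _
    rw [conv_sqOne_sqOne]
    by_cases hC : 2 ∣ Nat.card (Subgroup.centralizer ({rep K} : Set G))
    · apply li_mul_right hMp _ (memLocalRing_centralChar hMp χ _)
      rw [memLocalIdeal_natCast_iff hM]
      exact even_iff_two_dvd.mp (even_card_sq_inverting (rep K) (even_iff_two_dvd.mpr hC))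
    · exact li_mul_left hMp (memLocalRing_natCast hMp _) (li_centralChar_of_odd hM χ hχ _ hC)
  have hlr : MemLocalRing M (act sqOne χ) :=
    memLocalRing_of_isIntegral hMp (isIntegral_act_sqOne χ)
  rcases li_of_mul hMp hlr hlr hli with h | h <;> exact h

end Cfsg.Agent.Helper23.DZ3
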