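import Mathlib
import Cfsg.Prelude.Def_Blocks
import Cfsg.Agent.Helper23.DZThreeB

set_option autoImplicit false
set_option linter.unusedSectionVars false
set_option linter.unusedVariables false
set_option linter.style.haveILetI false
set_option linter.unnecessarySimpa false

/-!
# Elements of order `3` normalizing no nontrivial `2`-subgroup, and characters of `2`-defect zero

The number of conjugacy classes of elements of order `3` normalizing no nontrivial `2`-subgroup
is at most the number of irreducible characters of `2`-defect zero.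
-/

namespace Cfsg.Agent.Helper23.DZ3

open Cfsg Cfsg.Agent.Helper24 Cfsg.Agent.Helper5.Loc Cfsg.Agent.Helper5.CC
open Cfsg.Agent.Helper5.ClassMul

theorem card_le_of_mul_eq_diagonal {K : Type*} [Field K] {m n : Type*} [Fintype m] [Fintype n]
    [DecidableEq m] (A : Matrix m n K) (B : Matrix n m K) (w : m → K) (hw : ∀ i, w i ≠ 0)
    (h : A * B = Matrix.diagonal w) : Fintype.card m ≤ Fintype.card n := by
  classical
  have h1 : (Matrix.diagonal w).rank = Fintype.card m := by
    rw [Matrix.rank_diagonal]
    exact Fintype.card_congr (Equiv.subtypeUnivEquiv hw)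
  rw [← h1, ← h]
  exact (Matrix.rank_mul_le_left A B).trans (Matrix.rank_le_card_width A)

variable {G : Type*} [Group G]

/-- `g` normalizes no nontrivial `2`-subgroup. -/
def NormNone (g : G) : Prop :=
  ∀ Q : Subgroup G, IsPGroup 2 ↥Q → g ∈ Subgroup.normalizer (Q : Set G) → Q = ⊥

theorem odd_centralizer_of_normNone [Finite G] (g : G) (h : NormNone g) :
    ¬ 2 ∣ Nat.card (Subgroup.centralizer ({g} : Set G)) := by
  intro hdvd
  haveI : Fact (Nat.Prime 2) := ⟨Nat.prime_two⟩
  obtain ⟨z', hz'⟩ := exists_prime_orderOf_dvd_card' 2 hdvd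
  set z : G := (z' : G) with hz
  have hzo : orderOf z = 2 := by rw [hz, Subgroup.orderOf_coe]; exact hz'
  have hzg : z * g = g * z := Subgroup.mem_centralizer_singleton_iff.mp z'.2
  have hQ : IsPGroup 2 ↥(Subgroup.zpowers z) := by
    apply IsPGroup.of_card (n := 1)
    rw [Nat.card_zpowers, hzo, pow_one]
  have hgN : g ∈ Subgroup.normalizer ((Subgroup.zpowers z : Subgroup G) : Set G) := by
    apply Subgroup.centralizer_le_normalizer
    rw [Subgroup.mem_centralizer_iff]
    intro k hk
    obtain ⟨n, rfl⟩ := Subgroup.mem_zpowers_iff.mp hk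
    exact ((show Commute z g from hzg).zpow_left n).eq
  have := h _ hQ hgN
  have hz1 : z = 1 := by
    have hm : z ∈ Subgroup.zpowers z := Subgroup.mem_zpowers z
    rw [this, Subgroup.mem_bot] at hm
    exact hm
  rw [hz1, orderOf_one] at hzo
  omega

theorem eq_of_sq_eq_one (x y t : G) (hx : orderOf x = 3) (hy : orderOf y = 3) (hny : NormNone y)
    (hxt : IsConj x t) (ht : (t⁻¹ * y) ^ 2 = 1) : t = y := by
  by_contra hne
  set a : G := t⁻¹ * y with ha
  have ha1 : a ≠ 1 := by
    intro h
    apply hne
    have : t * a = y := by rw [ha]; group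
    rw [h, mul_one] at this
    exact this
  have haa : a * a = 1 := by rw [← pow_two]; exact ht
  have hai : a⁻¹ = a := inv_eq_of_mul_eq_one_left haa
  have hty : t = y * a := by
    have : t = y * a⁻¹ := by rw [ha]; group
    rw [hai] at this
    exact this
  have hx3 : x ^ 3 = 1 := by
    rw [← hx]
    exact pow_orderOf_eq_one x
  have ht3 : (y * a) ^ 3 = 1 := by
    rw [← hty]
    obtain ⟨c, hc⟩ := isConj_iff.mp hxt
    rw [← hc, conj_pow, hx3]
    group
  have hy3 : y ^ 3 = 1 := by
    rw [← hy]
    exact pow_orderOf_eq_one y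
  obtain ⟨Q, hQ, hyQ, hQne⟩ := exists_two_subgroup_normalized y a hy3 ht ha1 ht3
  exact hQne (hny Q hQ hyQ)

theorem card_factorizations [Finite G] (x y : G) (hx : orderOf x = 3) (hy : orderOf y = 3)
    (hny : NormNone y) [Decidable (IsConj x y)] :
    Nat.card {t : G // IsConj x t ∧ (t⁻¹ * y) ^ 2 = 1} = if IsConj x y then 1 else 0 := by
  have hall : ∀ t : {t : G // IsConj x t ∧ (t⁻¹ * y) ^ 2 = 1}, (t : G) = y :=
    fun t => eq_of_sq_eq_one x y t hx hy hny t.2.1 t.2.2
  by_cases hc : IsConj x y
  · rw [if_pos hc]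
    have hy' : IsConj x y ∧ (y⁻¹ * y) ^ 2 = 1 := ⟨hc, by rw [inv_mul_cancel, one_pow]⟩
    haveI : Unique {t : G // IsConj x t ∧ (t⁻¹ * y) ^ 2 = 1} :=
      { default := ⟨y, hy'⟩
        uniq := fun t => Subtype.ext (hall t) }
    exact Nat.card_unique
  · rw [if_neg hc]
    haveI : IsEmpty {t : G // IsConj x t ∧ (t⁻¹ * y) ^ 2 = 1} := by
      constructor
      intro t
      apply hc
      have := hall t
      rw [← this]
      exact t.2.1
    exact Nat.card_of_isEmpty

variable [Fintype G] [Fintype (IrrCharacter G)]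

/-- The weighted orthogonality relation. -/
theorem sum_irr_act_sqOne (x y : G) (hx : orderOf x = 3) (hy : orderOf y = 3)
    (hny : NormNone y) [Decidable (IsConj x y)] :
    ∑ χ : IrrCharacter G, (χ : G → ℂ) x * act sqOne χ * (starRingEnd ℂ) ((χ : G → ℂ) y) =
      if IsConj x y then (Nat.card (Subgroup.centralizer ({x} : Set G)) : ℂ) else 0 := by
  classical
  haveI : Finite G := Finite.of_fintype G
  have hcf : IsClassFunction G (conv (classIndicator x) sqOne) :=
    isClassFunction_conv (isClassFunction_classIndicator x) isClassFunction_sqOne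
  have h1 := coeff_act hcf y
  rw [conv_classIndicator_sqOne, card_factorizations x y hx hy hny] at h1
  have hterm : ∀ χ : IrrCharacter G,
      act (conv (classIndicator x) sqOne) χ *
        ((χ : G → ℂ) 1 * (starRingEnd ℂ) ((χ : G → ℂ) y)) =
      ((Subgroup.centralizer ({x} : Set G)).index : ℂ) *
        ((χ : G → ℂ) x * act sqOne χ * (starRingEnd ℂ) ((χ : G → ℂ) y)) := by
    intro χ
    have h0 := irr_one_ne_zero χ
    rw [act_conv (isClassFunction_classIndicator x), act_classIndicator, centralChar_def]
    field_simp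
  simp_rw [hterm] at h1
  rw [← Finset.mul_sum] at h1
  have hiC : ((Subgroup.centralizer ({x} : Set G)).index : ℂ) *
      (Nat.card (Subgroup.centralizer ({x} : Set G)) : ℂ) = (Nat.card G : ℂ) := by
    exact_mod_cast Subgroup.index_mul_card (Subgroup.centralizer ({x} : Set G))
  have hG0 : (Nat.card G : ℂ) ≠ 0 := card_ne_zero_complex
  have hi0 : ((Subgroup.centralizer ({x} : Set G)).index : ℂ) ≠ 0 := by
    rw [← hiC] at hG0
    exact left_ne_zero_of_mul hG0
  have hC0 : (Nat.card (Subgroup.centralizer ({x} : Set G)) : ℂ) ≠ 0 := by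
    rw [← hiC] at hG0
    exact right_ne_zero_of_mul hG0
  rw [← hiC] at h1
  by_cases hc : IsConj x y
  · rw [if_pos hc] at h1 ⊢
    push_cast at h1
    field_simp at h1
    linear_combination h1
  · rw [if_neg hc] at h1 ⊢
    push_cast at h1
    field_simp at h1
    linear_combination h1

end Cfsg.Agent.Helper23.DZ3
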