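import Mathlib
import Cfsg.Prelude.Def_Blocks
import Cfsg.Agent.Helper23.DZThreeC

set_option autoImplicit false
set_option linter.unusedSectionVars false
set_option linter.unusedVariables false
set_option linter.style.haveILetI false
set_option linter.unnecessarySimpa false

/-!
# The count: classes of elements of order `3` normalizing no nontrivial `2`-subgroup
-/

namespace Cfsg.Agent.Helper23.DZ3

open Cfsg Cfsg.Agent.Helper24 Cfsg.Agent.Helper5.Loc Cfsg.Agent.Helper5.CC
open Cfsg.Agent.Helper5.ClassMul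

variable {G : Type*} [Group G]

theorem card_classes_le_card_defectZero [Finite G] :
    Nat.card {C : ConjClasses G // ∃ g ∈ C.carrier, orderOf g = 3 ∧ NormNone g} ≤
      Nat.card {χ : IrrCharacter G //
        (irrDeg χ).factorization 2 = (Nat.card G).factorization 2} := by
  classical
  haveI : Fintype G := Fintype.ofFinite G
  haveI : Fintype (IrrCharacter G) := Fintype.ofFinite _
  haveI : Fintype (ConjClasses G) := Fintype.ofFinite _
  obtain ⟨M, hM⟩ := exists_isPModular 2 Nat.prime_two
  have hMp := isPrime_of_isPModular hM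
  haveI : M.IsMaximal := hM.2.1
  letI : Field (AlgInt ⧸ M) := Ideal.Quotient.field M
  have hex : ∀ C : {C : ConjClasses G // ∃ g ∈ C.carrier, orderOf g = 3 ∧ NormNone g},
      ∃ g : G, g ∈ C.1.carrier ∧ orderOf g = 3 ∧ NormNone g := fun C => by
    obtain ⟨g, hg, h⟩ := C.2
    exact ⟨g, hg, h⟩
  choose x hxC hx3 hxN using hex
  have hconj : ∀ C C' : {C : ConjClasses G // ∃ g ∈ C.carrier, orderOf g = 3 ∧ NormNone g},
      IsConj (x C) (x C') ↔ C = C' := by
    intro C C'
    rw [← ConjClasses.mk_eq_mk_iff_isConj, ConjClasses.mem_carrier_iff_mk_eq.mp (hxC C),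
      ConjClasses.mem_carrier_iff_mk_eq.mp (hxC C'), Subtype.ext_iff]
  -- algebraic integers
  let aI : IrrCharacter G → G → AlgInt := fun χ g => ⟨(χ : G → ℂ) g, irr_isIntegral χ g⟩
  let sI : IrrCharacter G → AlgInt := fun χ => ⟨act sqOne χ, isIntegral_act_sqOne χ⟩
  let cI : IrrCharacter G → G → AlgInt := fun χ g =>
    ⟨(starRingEnd ℂ) ((χ : G → ℂ) g), by
      rw [← Cfsg.Agent.Helper24.irr_inv]
      exact irr_isIntegral χ g⁻¹⟩
  have hsum : ∀ C C' : {C : ConjClasses G // ∃ g ∈ C.carrier, orderOf g = 3 ∧ NormNone g},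
      ∑ χ : IrrCharacter G, aI χ (x C) * sI χ * cI χ (x C') =
        if C = C' then (Nat.card (Subgroup.centralizer ({x C} : Set G)) : AlgInt) else 0 := by
    intro C C'
    apply Subtype.ext
    have h := sum_irr_act_sqOne (x C) (x C') (hx3 C) (hx3 C') (hxN C')
    rw [AddSubmonoidClass.coe_finsetSum]
    by_cases hCC : C = C'
    · rw [if_pos hCC]
      rw [if_pos ((hconj C C').mpr hCC)] at h
      have hc : (((Nat.card (Subgroup.centralizer ({x C} : Set G)) : ℕ) : AlgInt) : ℂ) =
          ((Nat.card (Subgroup.centralizer ({x C} : Set G)) : ℕ) : ℂ) := by simp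
      rw [hc, ← h]
      rfl
    · rw [if_neg hCC]
      rw [if_neg (fun hc => hCC ((hconj C C').mp hc))] at h
      show _ = (0 : ℂ)
      rw [← h]
      rfl
  -- characters not of defect zero
  have hnz : ∀ χ : IrrCharacter G,
      ¬ (irrDeg χ).factorization 2 = (Nat.card G).factorization 2 → sI χ ∈ M := by
    intro χ hχ
    have hle : (irrDeg χ).factorization 2 ≤ (Nat.card G).factorization 2 :=
      (Nat.factorization_le_iff_dvd (irrDeg_pos χ).ne' Nat.card_pos.ne').mpr
        (irrDeg_dvd_card χ) 2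
    have hlt : (irrDeg χ).factorization 2 < (Nat.card G).factorization 2 :=
      lt_of_le_of_ne hle hχ
    exact (memLocalIdeal_algInt_iff hMp (sI χ)).mp (li_act_sqOne hM χ hlt)
  -- the matrices
  let A : Matrix {C : ConjClasses G // ∃ g ∈ C.carrier, orderOf g = 3 ∧ NormNone g}
      {χ : IrrCharacter G // (irrDeg χ).factorization 2 = (Nat.card G).factorization 2}
      (AlgInt ⧸ M) := fun C χ => Ideal.Quotient.mk M (aI χ.1 (x C))
  let B : Matrix {χ : IrrCharacter G // (irrDeg χ).factorization 2 = (Nat.card G).factorization 2}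
      {C : ConjClasses G // ∃ g ∈ C.carrier, orderOf g = 3 ∧ NormNone g}
      (AlgInt ⧸ M) := fun χ C' => Ideal.Quotient.mk M (sI χ.1 * cI χ.1 (x C'))
  let w : {C : ConjClasses G // ∃ g ∈ C.carrier, orderOf g = 3 ∧ NormNone g} → (AlgInt ⧸ M) :=
    fun C => Ideal.Quotient.mk M (Nat.card (Subgroup.centralizer ({x C} : Set G)) : AlgInt)
  have hw : ∀ C, w C ≠ 0 := by
    intro C h
    have h1 : (Nat.card (Subgroup.centralizer ({x C} : Set G)) : AlgInt) ∈ M :=
      Ideal.Quotient.eq_zero_iff_mem.mp h
    exact natCast_not_mem hM (odd_centralizer_of_normNone (x C) (hxN C)) h1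
  have hAB : A * B = Matrix.diagonal w := by
    ext C C'
    rw [Matrix.mul_apply]
    have h1 : ∑ χ : {χ : IrrCharacter G //
        (irrDeg χ).factorization 2 = (Nat.card G).factorization 2}, A C χ * B χ C' =
        Ideal.Quotient.mk M (∑ χ : {χ : IrrCharacter G //
          (irrDeg χ).factorization 2 = (Nat.card G).factorization 2},
            aI χ.1 (x C) * sI χ.1 * cI χ.1 (x C')) := by
      rw [map_sum]
      refine Finset.sum_congr rfl fun χ _ => ?_
      show Ideal.Quotient.mk M (aI χ.1 (x C)) * Ideal.Quotient.mk M (sI χ.1 * cI χ.1 (x C')) = _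
      rw [← map_mul, mul_assoc]
    rw [h1]
    have h2 := Fintype.sum_subtype_add_sum_subtype
      (fun χ : IrrCharacter G => (irrDeg χ).factorization 2 = (Nat.card G).factorization 2)
      (fun χ => aI χ (x C) * sI χ * cI χ (x C'))
    have h3 : ∑ χ : {χ : IrrCharacter G //
        ¬ (irrDeg χ).factorization 2 = (Nat.card G).factorization 2},
          aI χ.1 (x C) * sI χ.1 * cI χ.1 (x C') ∈ M := by
      apply Ideal.sum_mem
      intro χ _
      apply Ideal.mul_mem_right
      apply Ideal.mul_mem_left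
      exact hnz χ.1 χ.2
    have h4 : Ideal.Quotient.mk M (∑ χ : {χ : IrrCharacter G //
          (irrDeg χ).factorization 2 = (Nat.card G).factorization 2},
            aI χ.1 (x C) * sI χ.1 * cI χ.1 (x C')) =
        Ideal.Quotient.mk M (∑ χ : IrrCharacter G, aI χ (x C) * sI χ * cI χ (x C')) := by
      rw [Ideal.Quotient.eq, ← h2]
      have : ∀ a b : AlgInt, a - (a + b) = -b := fun a b => by ring
      rw [this]
      exact M.neg_mem h3
    rw [h4, hsum C C']
    by_cases hCC : C = C'
    · subst hCC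
      rw [if_pos rfl, Matrix.diagonal_apply_eq]
    · rw [if_neg hCC, Matrix.diagonal_apply_ne _ hCC, map_zero]
  have := card_le_of_mul_eq_diagonal A B w hw hAB
  rw [Nat.card_eq_fintype_card, Nat.card_eq_fintype_card]
  exact this

end Cfsg.Agent.Helper23.DZ3
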