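import Mathlib
import Cfsg.Agent.Helper24.CharBasic

set_option autoImplicit false

/-!
# Eigenvalue multiplicities of `ρ(g)` via character values, and a determinant computation
-/

namespace Cfsg.Agent.Helper23.EM

open Module Representation Cfsg.Agent.Helper24
open scoped commutatorElement

universe u v

variable {G : Type u} [Group G] [Finite G]
variable {V : Type v} [AddCommGroup V] [Module ℂ V] [FiniteDimensional ℂ V]

omit [Finite G] [FiniteDimensional ℂ V] in
theorem rho_pow_apply_of_mem_eigenspace (ρ : Representation ℂ G V) (g : G) (j : ℕ) {μ : ℂ} {v : V}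
    (hv : v ∈ Module.End.eigenspace (ρ g) μ) : ρ (g ^ j) v = μ ^ j • v := by
  rw [Module.End.mem_eigenspace_iff] at hv
  induction j with
  | zero => simp
  | succ k ih =>
    rw [pow_succ', map_mul, Module.End.mul_apply, ih, map_smul, hv, smul_smul, pow_succ]

/-- `χ(g^j) = ∑ μ^j a_μ`. -/
theorem char_pow_eq_sum_eigen (ρ : Representation ℂ G V) (g : G) (j : ℕ) :
    ρ.character (g ^ j) =
      ∑ μ ∈ eigenFinset (ρ g), μ ^ j * (Module.finrank ℂ (Module.End.eigenspace (ρ g) μ) : ℂ) :=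
  trace_eq_sum_of_eigen (ρ g) (ρ (g ^ j)) (rho_iSup_eigenspace ρ g) (fun μ => μ ^ j)
    (fun _ _ hv => rho_pow_apply_of_mem_eigenspace ρ g j hv)

/-- Orthogonality of roots of unity. -/
theorem sum_pow_of_pow_eq_one {ζ : ℂ} {m : ℕ} (hζ : ζ ^ m = 1) :
    ∑ j ∈ Finset.range m, ζ ^ j = if ζ = 1 then (m : ℂ) else 0 := by
  by_cases h : ζ = 1
  · rw [if_pos h, h]
    simp
  · rw [if_neg h, geom_sum_eq h, hζ, sub_self, zero_div]

/-- The multiplicity formula: `m a_μ = ∑_{j<m} μ^{-j} χ(g^j)`. -/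
theorem orderOf_mul_finrank_eigenspace (ρ : Representation ℂ G V) (g : G) {μ : ℂ}
    (hμ : μ ∈ eigenFinset (ρ g)) :
    (orderOf g : ℂ) * (Module.finrank ℂ (Module.End.eigenspace (ρ g) μ) : ℂ) =
      ∑ j ∈ Finset.range (orderOf g), (μ⁻¹) ^ j * ρ.character (g ^ j) := by
  classical
  have hμne : Module.End.eigenspace (ρ g) μ ≠ ⊥ := mem_eigenFinset.mp hμ
  have hμm : μ ^ orderOf g = 1 := rho_eigenvalue_pow ρ g hμne
  have hμ0 : μ ≠ 0 := by
    intro h0
    rw [h0, zero_pow (orderOf_pos g).ne'] at hμm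
    exact zero_ne_one hμm
  simp_rw [char_pow_eq_sum_eigen ρ g, Finset.mul_sum]
  rw [Finset.sum_comm]
  have hterm : ∀ ν ∈ eigenFinset (ρ g),
      ∑ j ∈ Finset.range (orderOf g), (μ⁻¹) ^ j *
        (ν ^ j * (Module.finrank ℂ (Module.End.eigenspace (ρ g) ν) : ℂ)) =
      if ν = μ then (orderOf g : ℂ) * (Module.finrank ℂ (Module.End.eigenspace (ρ g) ν) : ℂ)
        else 0 := by
    intro ν hν
    have hνm : ν ^ orderOf g = 1 := rho_eigenvalue_pow ρ g (mem_eigenFinset.mp hν)
    have h1 : (ν * μ⁻¹) ^ orderOf g = 1 := by rw [mul_pow, inv_pow, hνm, hμm, inv_one, one_mul]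
    have h2 : ∑ j ∈ Finset.range (orderOf g), (μ⁻¹) ^ j *
        (ν ^ j * (Module.finrank ℂ (Module.End.eigenspace (ρ g) ν) : ℂ)) =
        (∑ j ∈ Finset.range (orderOf g), (ν * μ⁻¹) ^ j) *
          (Module.finrank ℂ (Module.End.eigenspace (ρ g) ν) : ℂ) := by
      rw [Finset.sum_mul]
      refine Finset.sum_congr rfl fun j _ => ?_
      rw [mul_pow]
      ring
    rw [h2, sum_pow_of_pow_eq_one h1]
    have hiff : ν * μ⁻¹ = 1 ↔ ν = μ := by
      rw [mul_inv_eq_one₀ hμ0]
    by_cases hνμ : ν = μ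
    · rw [if_pos (hiff.mpr hνμ), if_pos hνμ]
    · rw [if_neg (fun h => hνμ (hiff.mp h)), if_neg hνμ, zero_mul]
  rw [Finset.sum_congr rfl hterm, Finset.sum_ite_eq' (eigenFinset (ρ g)) μ, if_pos hμ]

/-- The determinant of an endomorphism with the two eigenvalues `1` and `μ`. -/
theorem det_of_isCompl_eigenspace (f : Module.End ℂ V) (μ : ℂ)
    (h : IsCompl (Module.End.eigenspace f 1) (Module.End.eigenspace f μ)) :
    LinearMap.det f = μ ^ Module.finrank ℂ (Module.End.eigenspace f μ) := by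
  set e := Submodule.prodEquivOfIsCompl _ _ h with he
  have hf : f = (e : _ →ₗ[ℂ] V) ∘ₗ
      (LinearMap.prodMap (LinearMap.id : Module.End.eigenspace f 1 →ₗ[ℂ] _)
        (μ • (LinearMap.id : Module.End.eigenspace f μ →ₗ[ℂ] _))) ∘ₗ
      (e.symm : V →ₗ[ℂ] _) := by
    apply LinearMap.ext
    intro v
    obtain ⟨⟨w1, w2⟩, rfl⟩ := e.surjective v
    simp only [LinearMap.coe_comp, LinearEquiv.coe_coe, Function.comp_apply,
      LinearEquiv.symm_apply_apply, LinearMap.prodMap_apply, LinearMap.id_coe, id_eq,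
      LinearMap.smul_apply]
    rw [he, Submodule.coe_prodEquivOfIsCompl', Submodule.coe_prodEquivOfIsCompl']
    simp only [map_add, Submodule.coe_smul]
    have h1 : f (w1 : V) = (w1 : V) := by
      have := Module.End.mem_eigenspace_iff.mp w1.2
      rw [this, one_smul]
    have h2 : f (w2 : V) = μ • (w2 : V) := Module.End.mem_eigenspace_iff.mp w2.2
    rw [h1, h2]
  conv_lhs => rw [hf]
  rw [LinearMap.det_conj, LinearMap.det_prodMap, LinearMap.det_id, LinearMap.det_smul,
    LinearMap.det_id, one_mul, mul_one]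

omit [Finite G] [FiniteDimensional ℂ V] in
/-- The determinant of a representation of a perfect group is trivial. -/
theorem det_rho_eq_one_of_perfect (hperf : commutator G = ⊤) (ρ : Representation ℂ G V) (g : G) :
    LinearMap.det (ρ g) = 1 := by
  let δ : G →* ℂ := (LinearMap.det : Module.End ℂ V →* ℂ).comp ρ
  have hδ : ∀ a : G, δ a * δ a⁻¹ = 1 := by
    intro a
    rw [← map_mul, mul_inv_cancel, map_one]
  have hcomm : ∀ a b : G, δ ⁅a, b⁆ = 1 := by
    intro a b
    rw [commutatorElement_def, map_mul, map_mul, map_mul]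
    calc δ a * δ b * δ a⁻¹ * δ b⁻¹ = (δ a * δ a⁻¹) * (δ b * δ b⁻¹) := by ring
      _ = 1 := by rw [hδ, hδ, one_mul]
  have hmem : g ∈ commutator G := by rw [hperf]; trivial
  rw [commutator_eq_closure] at hmem
  show δ g = 1
  induction hmem using Subgroup.closure_induction with
  | mem x hx =>
    obtain ⟨a, b, rfl⟩ := hx
    exact hcomm a b
  | one => exact map_one δ
  | mul x y _ _ hx hy => rw [map_mul, hx, hy, one_mul]
  | inv x _ hx =>
    have := hδ x
    rw [hx, one_mul] at this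
    exact this

end Cfsg.Agent.Helper23.EM
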