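import Mathlib

/-!
# Linear groups acting on the subgroups of a finite vector space (for S4025)

Orbit counting for a subgroup `M` of `GL(V)` which is transitive on the additive subgroups of `V`
of a given order.
-/

set_option autoImplicit false

open scoped Pointwise

namespace Cfsg.Agent.Helper23.EqOrdAct

variable {p : ℕ} {V : Type*} [AddCommGroup V] [Module (ZMod p) V]

theorem finite_linearEquiv [Finite V] : Finite (V ≃ₗ[ZMod p] V) :=
  Finite.of_injective (fun f => (f : V → V)) DFunLike.coe_injective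

theorem mem_smul_iff (g : V ≃ₗ[ZMod p] V) (W : AddSubgroup V) (v : V) :
    v ∈ g • W ↔ ∃ w ∈ W, g w = v := by
  rw [AddSubgroup.mem_smul_pointwise_iff_exists]
  rfl

theorem card_smul (g : V ≃ₗ[ZMod p] V) (W : AddSubgroup V) :
    Nat.card (g • W : AddSubgroup V) = Nat.card W := by
  symm
  refine Nat.card_congr (Equiv.ofBijective
    (fun w : W => (⟨g w, (mem_smul_iff g W _).2 ⟨w, w.2, rfl⟩⟩ : (g • W : AddSubgroup V))) ⟨?_, ?_⟩)
  · intro a b hab
    have : g a = g b := congrArg Subtype.val hab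
    exact Subtype.ext (g.injective this)
  · rintro ⟨v, hv⟩
    obtain ⟨w, hw, rfl⟩ := (mem_smul_iff g W v).1 hv
    exact ⟨⟨w, hw⟩, rfl⟩

theorem smul_eq_of_maps [Finite V] (g : V ≃ₗ[ZMod p] V) (L L' : AddSubgroup V)
    (hcard : Nat.card L = Nat.card L') (h : ∀ v ∈ L, g v ∈ L') : g • L = L' := by
  have hle : g • L ≤ L' := by
    intro v hv
    obtain ⟨w, hw, rfl⟩ := (mem_smul_iff g L v).1 hv
    exact h w hw
  have hc : Nat.card (g • L : AddSubgroup V) = Nat.card L' := by rw [card_smul, hcard]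
  have : ((g • L : AddSubgroup V) : Set V) = (L' : Set V) := by
    apply Set.eq_of_subset_of_ncard_le hle _ (Set.toFinite _)
    rw [← Nat.card_coe_set_eq, ← Nat.card_coe_set_eq]
    exact hc.ge
  exact SetLike.coe_injective this

theorem orbit_eq [Finite V] (M : Subgroup (V ≃ₗ[ZMod p] V)) (k : ℕ)
    (hk : ∀ L L' : AddSubgroup V, Nat.card L = k → Nat.card L' = k →
      ∃ g ∈ M, ∀ v ∈ L, g v ∈ L')
    (W₀ : AddSubgroup V) (hW₀ : Nat.card W₀ = k) :
    MulAction.orbit M W₀ = {W : AddSubgroup V | Nat.card W = k} := by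
  ext W
  constructor
  · rintro ⟨g, rfl⟩
    show Nat.card ((g : V ≃ₗ[ZMod p] V) • W₀ : AddSubgroup V) = k
    rw [card_smul, hW₀]
  · intro hW
    obtain ⟨g, hgM, hg⟩ := hk W₀ W hW₀ hW
    refine ⟨⟨g, hgM⟩, ?_⟩
    show g • W₀ = W
    exact smul_eq_of_maps g W₀ W (hW₀.trans hW.symm) hg

theorem card_mul_card_stabilizer [Finite V] (M : Subgroup (V ≃ₗ[ZMod p] V)) (k : ℕ)
    (hk : ∀ L L' : AddSubgroup V, Nat.card L = k → Nat.card L' = k →
      ∃ g ∈ M, ∀ v ∈ L, g v ∈ L')
    (W₀ : AddSubgroup V) (hW₀ : Nat.card W₀ = k) :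
    Nat.card {W : AddSubgroup V // Nat.card W = k} * Nat.card (MulAction.stabilizer M W₀) =
      Nat.card M := by
  have h1 := MulAction.index_stabilizer M W₀
  rw [orbit_eq M k hk W₀ hW₀] at h1
  have h2 := Subgroup.card_mul_index (MulAction.stabilizer M W₀)
  rw [h1] at h2
  rw [mul_comm, ← h2]
  congr 1

end Cfsg.Agent.Helper23.EqOrdAct
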