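import Mathlib
import Cfsg.Prelude.Def_Solvable
import Cfsg.Agent.Helper23.PSeries

/-!
# The Schur–Zassenhaus cocycle of a normal abelian Sylow subgroup (piece AFF of S4025)
-/

set_option autoImplicit false

namespace Cfsg.Agent.Helper23.EqOrdAff

variable {Γ : Type*} [Group Γ]

/-- uniqueness of the decomposition with respect to a complement -/
theorem equiv_eq_of_mul {E H : Subgroup Γ} (hc : Subgroup.IsComplement (E : Set Γ) (H : Set Γ))
    {x h : Γ} (hx : x ∈ E) (hh : h ∈ H) : hc.equiv (x * h) = (⟨x, hx⟩, ⟨h, hh⟩) := by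
  have : hc.equiv.symm (⟨x, hx⟩, ⟨h, hh⟩) = x * h := rfl
  rw [← this, Equiv.apply_symm_apply]

theorem exists_cocycle [Finite Γ] {p : ℕ} [Fact p.Prime]
    (E : Subgroup Γ) [hEn : E.Normal]
    (hab : ∀ x ∈ E, ∀ y ∈ E, x * y = y * x) (hE : IsPGroup p E) (hidx : ¬ p ∣ E.index) :
    ∃ c : Γ → E,
      (∀ x : E, c (x : Γ) = x) ∧
      (∀ g h : Γ, c (g * h) = c g * ⟨g * (c h : Γ) * g⁻¹, hEn.conj_mem _ (c h).2 g⟩) ∧
      (∀ g : Γ, g ∈ Cfsg.pPrimeCore p Γ ↔ (c g = 1 ∧ ∀ x ∈ E, g * x * g⁻¹ = x)) := by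
  have hp : p.Prime := Fact.out
  obtain ⟨k, hk⟩ := hE.exists_card_eq
  have hcop : (Nat.card E).Coprime E.index := by
    rw [hk]
    exact Nat.Coprime.pow_left _ ((Nat.Prime.coprime_iff_not_dvd hp).2 hidx)
  obtain ⟨H, hH⟩ := Subgroup.exists_right_complement'_of_coprime hcop
  have hc : Subgroup.IsComplement (E : Set Γ) (H : Set Γ) := hH
  have hHcard : Nat.card H = E.index := by
    have := hH.symm.index_eq_card
    exact this.symm
  have hHcop : (Nat.card H).Coprime p := by
    rw [hHcard, Nat.coprime_comm]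
    exact (Nat.Prime.coprime_iff_not_dvd hp).2 hidx
  -- the two components
  let c : Γ → E := fun g => ⟨((hc.equiv g).1 : Γ), (hc.equiv g).1.2⟩
  let t : Γ → Γ := fun g => ((hc.equiv g).2 : Γ)
  have ht : ∀ g, t g ∈ H := fun g => (hc.equiv g).2.2
  have hct : ∀ g, (c g : Γ) * t g = g := fun g => hc.equiv_fst_mul_equiv_snd g
  have huniq : ∀ (g x h : Γ) (hx : x ∈ E), h ∈ H → x * h = g → c g = ⟨x, hx⟩ := by
    intro g x h hx hh hg
    subst hg
    apply Subtype.ext
    show ((hc.equiv (x * h)).1 : Γ) = x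
    rw [equiv_eq_of_mul hc hx hh]
  have hc_one_iff : ∀ g, c g = 1 ↔ g ∈ H := by
    intro g
    constructor
    · intro h
      have := hct g
      rw [h, Subgroup.coe_one, one_mul] at this
      rw [← this]; exact ht g
    · intro h
      have := huniq g 1 g E.one_mem h (one_mul g)
      rw [this]; rfl
  have hconjE : ∀ (g : Γ) (x : Γ), x ∈ E → g * x * g⁻¹ ∈ E := fun g x hx => hEn.conj_mem x hx g
  -- conjugation by g and by its H-part agree on E
  have hconj_t : ∀ (g x : Γ), x ∈ E → g * x * g⁻¹ = t g * x * (t g)⁻¹ := by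
    intro g x hx
    have h1 : t g * x * (t g)⁻¹ ∈ E := hconjE _ _ hx
    have h2 := hab (c g) (c g).2 _ h1
    calc g * x * g⁻¹ = ((c g : Γ) * t g) * x * ((c g : Γ) * t g)⁻¹ := by rw [hct]
      _ = (c g : Γ) * (t g * x * (t g)⁻¹) * (c g : Γ)⁻¹ := by group
      _ = (t g * x * (t g)⁻¹) * (c g : Γ) * (c g : Γ)⁻¹ := by rw [h2]
      _ = t g * x * (t g)⁻¹ := by group
  refine ⟨c, ?_, ?_, ?_⟩
  · intro x
    have := huniq (x : Γ) x 1 x.2 H.one_mem (mul_one _)
    rw [this]
  · intro g h
    have hx : (c g : Γ) * (g * (c h : Γ) * g⁻¹) ∈ E := E.mul_mem (c g).2 (hconjE _ _ (c h).2)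
    have := huniq (g * h) ((c g : Γ) * (g * (c h : Γ) * g⁻¹)) (t g * t h) hx
      (H.mul_mem (ht g) (ht h)) (by
        rw [hconj_t g _ (c h).2]
        calc (c g : Γ) * (t g * (c h : Γ) * (t g)⁻¹) * (t g * t h)
            = ((c g : Γ) * t g) * ((c h : Γ) * t h) := by group
          _ = g * h := by rw [hct, hct])
    rw [this]
    rfl
  · -- the kernel
    have hKcop : (Nat.card (Cfsg.pPrimeCore p Γ)).Coprime p :=
      Cfsg.Agent.Helper23.pPrimeCore_card_coprime p Γ
    haveI hKn : (Cfsg.pPrimeCore p Γ).Normal := by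
      unfold Cfsg.pPrimeCore
      constructor
      intro n hn g
      have hnorm : ∀ N ∈ {N : Subgroup Γ | N.Normal ∧ (Nat.card N).Coprime p},
          N ≤ (sSup {N : Subgroup Γ | N.Normal ∧ (Nat.card N).Coprime p}) := fun N hN => le_sSup hN
      -- the sSup of normal subgroups is normal
      have : (sSup {N : Subgroup Γ | N.Normal ∧ (Nat.card N).Coprime p}).Normal := by
        rw [sSup_eq_iSup']
        haveI : ∀ i : {N : Subgroup Γ | N.Normal ∧ (Nat.card N).Coprime p},
            (i : Subgroup Γ).Normal := fun i => i.2.1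
        infer_instance
      exact this.conj_mem n hn g
    intro g
    constructor
    · intro hg
      -- g centralizes E
      have hcent : ∀ x ∈ E, g * x * g⁻¹ = x := by
        intro x hx
        have h1 : g * x * g⁻¹ * x⁻¹ ∈ Cfsg.pPrimeCore p Γ := by
          have : g * (x * g⁻¹ * x⁻¹) ∈ Cfsg.pPrimeCore p Γ :=
            (Cfsg.pPrimeCore p Γ).mul_mem hg (hKn.conj_mem _ ((Cfsg.pPrimeCore p Γ).inv_mem hg) x)
          convert this using 1
          group
        have h2 : g * x * g⁻¹ * x⁻¹ ∈ E := E.mul_mem (hconjE g x hx) (E.inv_mem hx)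
        have hbot : Cfsg.pPrimeCore p Γ ⊓ E = ⊥ := by
          apply Disjoint.eq_bot
          apply Subgroup.disjoint_of_coprime_natCard
          rw [hk]
          exact Nat.Coprime.pow_right _ hKcop
        have h3 : g * x * g⁻¹ * x⁻¹ ∈ Cfsg.pPrimeCore p Γ ⊓ E := ⟨h1, h2⟩
        rw [hbot, Subgroup.mem_bot] at h3
        exact mul_inv_eq_one.1 h3
      refine ⟨?_, hcent⟩
      -- c g = 1
      set x : Γ := (c g : Γ) with hxdef
      have hxE : x ∈ E := (c g).2
      have htcent : ∀ y ∈ E, t g * y * (t g)⁻¹ = y := by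
        intro y hy
        rw [← hconj_t g y hy]; exact hcent y hy
      have hcomm : Commute x (t g) := by
        have := htcent x hxE
        show x * t g = t g * x
        calc x * t g = (t g * x * (t g)⁻¹) * t g := by rw [this]
          _ = t g * x := by group
      set m := Nat.card (Cfsg.pPrimeCore p Γ) * Nat.card H with hm
      have hgm : g ^ m = 1 := by
        have : (⟨g, hg⟩ : Cfsg.pPrimeCore p Γ) ^ Nat.card (Cfsg.pPrimeCore p Γ) = 1 :=
          pow_card_eq_one'
        have h' : g ^ Nat.card (Cfsg.pPrimeCore p Γ) = 1 := congrArg Subtype.val this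
        rw [hm, pow_mul, h', one_pow]
      have htm : t g ^ m = 1 := by
        have : (⟨t g, ht g⟩ : H) ^ Nat.card H = 1 := pow_card_eq_one'
        have h' : t g ^ Nat.card H = 1 := congrArg Subtype.val this
        rw [hm, mul_comm, pow_mul, h', one_pow]
      have hxm : x ^ m = 1 := by
        have := hcomm.mul_pow m
        rw [hct g, hgm, htm, mul_one] at this
        exact this.symm
      have hord : orderOf x ∣ m := orderOf_dvd_of_pow_eq_one hxm
      obtain ⟨j, hj⟩ := (IsPGroup.iff_orderOf.1 hE) ⟨x, hxE⟩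
      have hj' : orderOf x = p ^ j := by
        rw [← hj]; exact (Subgroup.orderOf_mk x hxE).symm
      have hmcop : (p ^ j).Coprime m := by
        apply Nat.Coprime.pow_left
        rw [hm]
        exact Nat.Coprime.mul_right hKcop.symm hHcop.symm
      have h1 : orderOf x = 1 := by
        rw [hj'] at hord ⊢
        exact Nat.Coprime.eq_one_of_dvd hmcop hord
      have hx1 : x = 1 := orderOf_eq_one_iff.1 h1
      exact Subtype.ext hx1
    · rintro ⟨hcg, hcent⟩
      -- D = H ⊓ C(E) is a normal p'-subgroup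
      set D : Subgroup Γ := H ⊓ Subgroup.centralizer (E : Set Γ) with hD
      have hgD : g ∈ D := by
        have hgc : g ∈ Subgroup.centralizer (E : Set Γ) := by
          rw [Subgroup.mem_centralizer_iff]
          intro y hy
          have := hcent y hy
          calc y * g = (g * y * g⁻¹) * g := by rw [this]
            _ = g * y := by group
        exact Subgroup.mem_inf.2 ⟨(hc_one_iff g).1 hcg, hgc⟩
      have hDn : D.Normal := by
        constructor
        intro d hd γ
        -- γ d γ⁻¹ = t d t⁻¹ with t = t γ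
        have hd1 : d ∈ H := (Subgroup.mem_inf.1 hd).1
        have hd2 : d ∈ Subgroup.centralizer (E : Set Γ) := (Subgroup.mem_inf.1 hd).2
        have h1c : t γ * d * (t γ)⁻¹ ∈ Subgroup.centralizer (E : Set Γ) := by
          rw [Subgroup.mem_centralizer_iff]
          intro y hy
          have hy' : (t γ)⁻¹ * y * t γ ∈ E := by
            have := hconjE (t γ)⁻¹ y hy
            simpa using this
          have := (Subgroup.mem_centralizer_iff.1 hd2) _ hy'
          calc y * (t γ * d * (t γ)⁻¹) = t γ * (((t γ)⁻¹ * y * t γ) * d) * (t γ)⁻¹ := by group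
            _ = t γ * (d * ((t γ)⁻¹ * y * t γ)) * (t γ)⁻¹ := by rw [this]
            _ = t γ * d * (t γ)⁻¹ * y := by group
        have h1 : t γ * d * (t γ)⁻¹ ∈ D :=
          Subgroup.mem_inf.2 ⟨H.mul_mem (H.mul_mem (ht γ) hd1) (H.inv_mem (ht γ)), h1c⟩
        have h2 : γ * d * γ⁻¹ = t γ * d * (t γ)⁻¹ := by
          have hcomm' : (c γ : Γ) * (t γ * d * (t γ)⁻¹) = (t γ * d * (t γ)⁻¹) * (c γ : Γ) :=
            ((Subgroup.mem_centralizer_iff.1 h1c) _ (c γ).2)
          calc γ * d * γ⁻¹ = ((c γ : Γ) * t γ) * d * ((c γ : Γ) * t γ)⁻¹ := by rw [hct]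
            _ = ((c γ : Γ) * (t γ * d * (t γ)⁻¹)) * (c γ : Γ)⁻¹ := by group
            _ = ((t γ * d * (t γ)⁻¹) * (c γ : Γ)) * (c γ : Γ)⁻¹ := by rw [hcomm']
            _ = t γ * d * (t γ)⁻¹ := by group
        rw [h2]; exact h1
      have hDcop : (Nat.card D).Coprime p := by
        have : Nat.card D ∣ Nat.card H := Subgroup.card_dvd_of_le inf_le_left
        exact Nat.Coprime.coprime_dvd_left this hHcop
      have hDle : D ≤ Cfsg.pPrimeCore p Γ := le_sSup ⟨hDn, hDcop⟩
      exact hDle hgD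

end Cfsg.Agent.Helper23.EqOrdAff
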