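import Mathlib

/-!
# Counting the subgroups of order `p` and `p^2` of an elementary abelian `p`-group
(piece CNT of S4025)
-/

set_option autoImplicit false

namespace Cfsg.Agent.Helper23.EqOrdCnt

variable {p : ℕ} [Fact p.Prime] {V : Type*} [AddCommGroup V]

theorem card_zmultiples (hpV : ∀ v : V, p • v = 0) {v : V} (hv : v ≠ 0) :
    Nat.card (AddSubgroup.zmultiples v) = p := by
  rw [Nat.card_zmultiples]
  have h1 : addOrderOf v ∣ p := addOrderOf_dvd_of_nsmul_eq_zero (hpV v)
  rcases (Nat.dvd_prime (Fact.out : p.Prime)).1 h1 with h | h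
  · exact absurd (AddMonoid.addOrderOf_eq_one_iff.1 h) hv
  · exact h

theorem zmultiples_eq_of_mem [Finite V] (hpV : ∀ v : V, p • v = 0) {v : V} (hv : v ≠ 0)
    (L : AddSubgroup V) (hL : Nat.card L = p) (hvL : v ∈ L) : AddSubgroup.zmultiples v = L := by
  have hle : AddSubgroup.zmultiples v ≤ L := (AddSubgroup.zmultiples_le).2 hvL
  have : ((AddSubgroup.zmultiples v : AddSubgroup V) : Set V) = (L : Set V) := by
    apply Set.eq_of_subset_of_ncard_le hle _ (Set.toFinite _)
    rw [← Nat.card_coe_set_eq, ← Nat.card_coe_set_eq]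
    show Nat.card L ≤ Nat.card (AddSubgroup.zmultiples v)
    rw [hL, card_zmultiples hpV hv]
  exact SetLike.coe_injective this

/-- the number of nonzero elements -/
theorem card_ne_zero [Finite V] : Nat.card {v : V // v ≠ 0} = Nat.card V - 1 := by
  classical
  haveI : Fintype V := Fintype.ofFinite V
  rw [Nat.card_eq_fintype_card, Nat.card_eq_fintype_card, Fintype.card_subtype_compl,
    Fintype.card_subtype_eq]

theorem card_not_mem [Finite V] (L : AddSubgroup V) :
    Nat.card {v : V // v ∉ L} = Nat.card V - Nat.card L := by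
  classical
  haveI : Fintype V := Fintype.ofFinite V
  rw [Nat.card_eq_fintype_card, Nat.card_eq_fintype_card, Fintype.card_subtype_compl,
    Nat.card_eq_fintype_card]

theorem card_addSubgroup_prime [Finite V]
    (hpV : ∀ v : V, p • v = 0) {n : ℕ} (hV : Nat.card V = p ^ n) :
    Nat.card {L : AddSubgroup V // Nat.card L = p} * (p - 1) = p ^ n - 1 := by
  classical
  let f : {v : V // v ≠ 0} → {L : AddSubgroup V // Nat.card L = p} :=
    fun v => ⟨AddSubgroup.zmultiples v.1, card_zmultiples hpV v.2⟩
  have h1 := Nat.card_congr (Equiv.sigmaFiberEquiv f)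
  haveI : Fintype {L : AddSubgroup V // Nat.card L = p} := Fintype.ofFinite _
  rw [Nat.card_sigma, card_ne_zero, hV] at h1
  rw [← h1]
  have hfib : ∀ L : {L : AddSubgroup V // Nat.card L = p},
      Nat.card {v : {v : V // v ≠ 0} // f v = L} = p - 1 := by
    intro L
    have e : {v : {v : V // v ≠ 0} // f v = L} ≃ {u : L.1 // u ≠ 0} :=
      { toFun := fun v => ⟨⟨v.1.1, by
            have := congrArg Subtype.val v.2
            simp only [f] at this
            rw [← this]; exact AddSubgroup.mem_zmultiples _⟩, by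
          intro h
          exact v.1.2 (congrArg Subtype.val h)⟩
        invFun := fun u => ⟨⟨u.1.1, fun h => u.2 (Subtype.ext h)⟩, by
          apply Subtype.ext
          exact zmultiples_eq_of_mem hpV (fun h => u.2 (Subtype.ext h)) L.1 L.2 u.1.2⟩
        left_inv := fun v => rfl
        right_inv := fun u => rfl }
    rw [Nat.card_congr e, card_ne_zero, L.2]
  simp only [hfib]
  rw [Finset.sum_const, Finset.card_univ, smul_eq_mul, Nat.card_eq_fintype_card]

end Cfsg.Agent.Helper23.EqOrdCnt

namespace Cfsg.Agent.Helper23.EqOrdCnt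

variable {p : ℕ} [Fact p.Prime] {V : Type*} [AddCommGroup V]

/-- pairs of "independent" elements -/
def Pairs (U : Type*) [AddCommGroup U] : Type _ :=
  {x : U × U // x.1 ≠ 0 ∧ x.2 ∉ AddSubgroup.zmultiples x.1}

instance {U : Type*} [AddCommGroup U] [Finite U] : Finite (Pairs U) := by
  unfold Pairs; infer_instance

theorem card_pairs {U : Type*} [AddCommGroup U] [Finite U] (hpU : ∀ u : U, p • u = 0) :
    Nat.card (Pairs U) = (Nat.card U - 1) * (Nat.card U - p) := by
  classical
  have e : Pairs U ≃ Σ v : {v : U // v ≠ 0}, {w : U // w ∉ AddSubgroup.zmultiples v.1} :=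
    { toFun := fun x => ⟨⟨x.1.1, x.2.1⟩, ⟨x.1.2, x.2.2⟩⟩
      invFun := fun y => ⟨(y.1.1, y.2.1), y.1.2, y.2.2⟩
      left_inv := fun x => rfl
      right_inv := fun y => rfl }
  haveI : Fintype {v : U // v ≠ 0} := Fintype.ofFinite _
  rw [Nat.card_congr e, Nat.card_sigma]
  have h : ∀ v : {v : U // v ≠ 0},
      Nat.card {w : U // w ∉ AddSubgroup.zmultiples v.1} = Nat.card U - p := by
    intro v
    rw [card_not_mem, card_zmultiples hpU v.2]
  simp only [h]
  rw [Finset.sum_const, Finset.card_univ, smul_eq_mul, ← Nat.card_eq_fintype_card, card_ne_zero]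

/-- the subgroup generated by two elements -/
def span2 (v w : V) : AddSubgroup V := AddSubgroup.closure {v, w}

theorem left_mem_span2 (v w : V) : v ∈ span2 v w :=
  AddSubgroup.subset_closure (by simp)

theorem right_mem_span2 (v w : V) : w ∈ span2 v w :=
  AddSubgroup.subset_closure (by simp)

theorem span2_le {v w : V} {W : AddSubgroup V} (hv : v ∈ W) (hw : w ∈ W) : span2 v w ≤ W := by
  apply (AddSubgroup.closure_le W).2
  rintro x (rfl | rfl)
  · exact hv
  · exact hw

theorem card_span2 (hpV : ∀ v : V, p • v = 0) {v w : V} (hv : v ≠ 0)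
    (hw : w ∉ AddSubgroup.zmultiples v) : Nat.card (span2 v w) = p ^ 2 := by
  letI : Module (ZMod p) V := AddCommGroup.zmodModule hpV
  let φ : ZMod p × ZMod p →+ V :=
    { toFun := fun x => x.1 • v + x.2 • w
      map_zero' := by simp
      map_add' := by
        intro x y
        simp only [Prod.fst_add, Prod.snd_add, add_smul]
        abel }
  have hφ : ∀ x, φ x = x.1 • v + x.2 • w := fun x => rfl
  have hsmul_mem : ∀ (a : ZMod p) (u : V), a • u ∈ AddSubgroup.zmultiples u := by
    intro a u
    have : a • u = (a.val : ℤ) • u := by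
      rw [natCast_zsmul, ← Nat.cast_smul_eq_nsmul (ZMod p), ZMod.natCast_zmod_val]
    rw [this]
    exact AddSubgroup.zsmul_mem_zmultiples u _
  have hinj : Function.Injective φ := by
    rw [injective_iff_map_eq_zero]
    rintro ⟨a, b⟩ h
    rw [hφ] at h
    simp only at h
    have hb : b = 0 := by
      by_contra hb
      apply hw
      have h1 : b • w = -(a • v) := eq_neg_of_add_eq_zero_right h
      have h2 : w = b⁻¹ • (-(a • v)) := by
        rw [← h1, smul_smul, inv_mul_cancel₀ hb, one_smul]
      rw [h2, smul_neg, smul_smul]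
      exact (AddSubgroup.zmultiples v).neg_mem (hsmul_mem _ v)
    subst hb
    rw [zero_smul, add_zero] at h
    have ha : a = 0 := by
      by_contra ha
      apply hv
      have : v = a⁻¹ • (a • v) := by rw [smul_smul, inv_mul_cancel₀ ha, one_smul]
      rw [this, h, smul_zero]
    rw [ha]
    rfl
  have hrange : φ.range = span2 v w := by
    apply le_antisymm
    · rintro _ ⟨x, rfl⟩
      rw [hφ]
      apply (span2 v w).add_mem
      · exact (AddSubgroup.zmultiples_le.2 (left_mem_span2 v w)) (hsmul_mem _ v)
      · exact (AddSubgroup.zmultiples_le.2 (right_mem_span2 v w)) (hsmul_mem _ w)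
    · apply span2_le
      · exact ⟨(1, 0), by rw [hφ]; simp⟩
      · exact ⟨(0, 1), by rw [hφ]; simp⟩
  rw [← hrange, ← Nat.card_congr (AddMonoidHom.ofInjective hinj).toEquiv, Nat.card_prod,
    Nat.card_eq_fintype_card, ZMod.card, sq]

theorem eq_of_le_of_card [Finite V] {A B : AddSubgroup V} (hle : A ≤ B)
    (hc : Nat.card B ≤ Nat.card A) : A = B := by
  have : (A : Set V) = (B : Set V) := by
    apply Set.eq_of_subset_of_ncard_le hle _ (Set.toFinite _)
    rw [← Nat.card_coe_set_eq, ← Nat.card_coe_set_eq]
    exact hc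
  exact SetLike.coe_injective this

theorem card_addSubgroup_prime_sq [Finite V]
    (hpV : ∀ v : V, p • v = 0) {n : ℕ} (hV : Nat.card V = p ^ n) :
    Nat.card {W : AddSubgroup V // Nat.card W = p ^ 2} * ((p ^ 2 - 1) * (p ^ 2 - p)) =
      (p ^ n - 1) * (p ^ n - p) := by
  classical
  let f : Pairs V → {W : AddSubgroup V // Nat.card W = p ^ 2} :=
    fun x => ⟨span2 x.1.1 x.1.2, card_span2 hpV x.2.1 x.2.2⟩
  have h1 := Nat.card_congr (Equiv.sigmaFiberEquiv f)
  haveI : Fintype {W : AddSubgroup V // Nat.card W = p ^ 2} := Fintype.ofFinite _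
  rw [Nat.card_sigma, card_pairs hpV, hV] at h1
  rw [← h1]
  have hfib : ∀ W : {W : AddSubgroup V // Nat.card W = p ^ 2},
      Nat.card {x : Pairs V // f x = W} = (p ^ 2 - 1) * (p ^ 2 - p) := by
    intro W
    have hmem : ∀ x : {x : Pairs V // f x = W}, x.1.1.1 ∈ W.1 ∧ x.1.1.2 ∈ W.1 := by
      intro x
      have := congrArg Subtype.val x.2
      simp only [f] at this
      rw [← this]
      exact ⟨left_mem_span2 _ _, right_mem_span2 _ _⟩
    have e : {x : Pairs V // f x = W} ≃ Pairs W.1 :=
      { toFun := fun x => ⟨(⟨x.1.1.1, (hmem x).1⟩, ⟨x.1.1.2, (hmem x).2⟩), by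
            constructor
            · intro h
              exact x.1.2.1 (congrArg Subtype.val h)
            · intro h
              apply x.1.2.2
              obtain ⟨k, hk⟩ := AddSubgroup.mem_zmultiples_iff.1 h
              have hk' := congrArg Subtype.val hk
              simp only [AddSubgroup.coe_zsmul] at hk'
              exact AddSubgroup.mem_zmultiples_iff.2 ⟨k, hk'⟩⟩
        invFun := fun y => ⟨⟨((y.1.1 : V), (y.1.2 : V)), by
            constructor
            · intro h
              exact y.2.1 (Subtype.ext h)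
            · intro h
              apply y.2.2
              obtain ⟨k, hk⟩ := AddSubgroup.mem_zmultiples_iff.1 h
              exact AddSubgroup.mem_zmultiples_iff.2 ⟨k, Subtype.ext (by simpa using hk)⟩⟩, by
          apply Subtype.ext
          apply eq_of_le_of_card (span2_le y.1.1.2 y.1.2.2)
          rw [W.2, card_span2 hpV]
          · intro h
            exact y.2.1 (Subtype.ext h)
          · intro h
            apply y.2.2
            obtain ⟨k, hk⟩ := AddSubgroup.mem_zmultiples_iff.1 h
            exact AddSubgroup.mem_zmultiples_iff.2 ⟨k, Subtype.ext (by simpa using hk)⟩⟩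
        left_inv := fun x => rfl
        right_inv := fun y => rfl }
    rw [Nat.card_congr e, card_pairs (p := p) (U := W.1), W.2]
    intro u
    apply Subtype.ext
    simpa using hpV u.1
  simp only [hfib]
  rw [Finset.sum_const, Finset.card_univ, smul_eq_mul, Nat.card_eq_fintype_card]

end Cfsg.Agent.Helper23.EqOrdCnt
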