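import Mathlib
import Cfsg.Prelude.Def_Solvable
import Cfsg.Agent.Helper23.EqOrdCnt
import Cfsg.Agent.Helper23.EqOrdAff
import Cfsg.Agent.Helper24.Gam
import Cfsg.Agent.Helper24.HupApply
import Cfsg.Agent.Lead.No81

/-!
# The pieces of S4025 under one namespace

`CNT`, `AFF` are mine (`EqOrdCnt`, `EqOrdAff`); `GAM`, `HUP` are helper24's; `N81` is lead's.
-/

set_option autoImplicit false

namespace Cfsg.Agent.Helper23.EqOrdPieces

theorem card_addSubgroup_prime {p : ℕ} [Fact p.Prime] {V : Type*} [AddCommGroup V] [Finite V]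
    (hpV : ∀ v : V, p • v = 0) {n : ℕ} (hV : Nat.card V = p ^ n) :
    Nat.card {L : AddSubgroup V // Nat.card L = p} * (p - 1) = p ^ n - 1 :=
  Cfsg.Agent.Helper23.EqOrdCnt.card_addSubgroup_prime hpV hV

theorem card_addSubgroup_prime_sq {p : ℕ} [Fact p.Prime] {V : Type*} [AddCommGroup V] [Finite V]
    (hpV : ∀ v : V, p • v = 0) {n : ℕ} (hV : Nat.card V = p ^ n) :
    Nat.card {W : AddSubgroup V // Nat.card W = p ^ 2} * ((p ^ 2 - 1) * (p ^ 2 - p)) =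
      (p ^ n - 1) * (p ^ n - p) :=
  Cfsg.Agent.Helper23.EqOrdCnt.card_addSubgroup_prime_sq hpV hV

/-- the semilinear maps of a field -/
abbrev gammaSet (F : Type*) [Field F] : Set (F → F) := Cfsg.Agent.Helper24.Gam.gammaSet F

theorem card_ringAut {p : ℕ} [Fact p.Prime] {F : Type*} [Field F] [Finite F] {n : ℕ}
    (hF : Nat.card F = p ^ n) : Nat.card (F ≃+* F) = n :=
  Cfsg.Agent.Helper24.Gam.card_ringAut hF

theorem card_gammaSet {p : ℕ} [Fact p.Prime] {F : Type*} [Field F] [Finite F] {n : ℕ}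
    (hF : Nat.card F = p ^ n) : Nat.card (gammaSet F) = (p ^ n - 1) * n :=
  Cfsg.Agent.Helper24.Gam.card_gammaSet hF

theorem no_81 {V : Type*} [AddCommGroup V] [Module (ZMod 3) V] [Finite V] (hV : Nat.card V = 81)
    {A : Type*} [Group A] [Finite A] (hsol : Group.IsSolvable A) (ρ : A →* (V ≃ₗ[ZMod 3] V))
    (h5 : 5 ∣ Nat.card ρ.range) (h13 : 13 ∣ Nat.card ρ.range) : False :=
  Cfsg.Agent.Lead.No81.no_81 hV hsol ρ h5 h13

theorem huppert_apply {p : ℕ} [Fact p.Prime] {V : Type*} [AddCommGroup V] [Module (ZMod p) V]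
    [Finite V] {n : ℕ} (hn : 3 ≤ n) (hV : Nat.card V = p ^ n)
    {A : Type*} [Group A] [Finite A] (hsol : Group.IsSolvable A) (ρ : A →* (V ≃ₗ[ZMod p] V))
    (h1 : ∀ L L' : AddSubgroup V, Nat.card L = p → Nat.card L' = p →
      ∃ g : A, ∀ v ∈ L, ρ g v ∈ L') :
    (∃ (F : Type) (_ : Field F) (_ : Fintype F) (e : V ≃+ F),
        ∀ g : A, ∃ (a : F) (σ : F ≃+* F), ∀ v : V, e (ρ g v) = a * σ (e v)) ∨
      (p = 3 ∧ n = 4) :=
  Cfsg.Agent.Helper24.HupApply.huppert_apply hn hV hsol ρ h1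

theorem exists_cocycle {Γ : Type*} [Group Γ] [Finite Γ] {p : ℕ} [Fact p.Prime]
    (E : Subgroup Γ) [hEn : E.Normal]
    (hab : ∀ x ∈ E, ∀ y ∈ E, x * y = y * x) (hE : IsPGroup p E) (hidx : ¬ p ∣ E.index) :
    ∃ c : Γ → E,
      (∀ x : E, c (x : Γ) = x) ∧
      (∀ g h : Γ, c (g * h) = c g * ⟨g * (c h : Γ) * g⁻¹, hEn.conj_mem _ (c h).2 g⟩) ∧
      (∀ g : Γ, g ∈ Cfsg.pPrimeCore p Γ ↔ (c g = 1 ∧ ∀ x ∈ E, g * x * g⁻¹ = x)) :=
  Cfsg.Agent.Helper23.EqOrdAff.exists_cocycle E hab hE hidx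

end Cfsg.Agent.Helper23.EqOrdPieces
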