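import Mathlib
import Cfsg.Agent.Helper23.EqOrdAct
import Cfsg.Agent.Helper23.EqOrdPieces

/-!
# The semilinear group `ΓL(1, F)` inside `GL(V)` for an identification `e : V ≃+ F` (for S4025)
-/

set_option autoImplicit false

open scoped Pointwise

namespace Cfsg.Agent.Helper23.EqOrdSemi

open Cfsg.Agent.Helper23.EqOrdPieces

variable {p : ℕ} [Fact p.Prime] {V : Type*} [AddCommGroup V] [Module (ZMod p) V]
  {F : Type*} [Field F]

/-- an additive automorphism of a `ZMod p`-module as a linear equivalence -/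
def toLin (f : V ≃+ V) : V ≃ₗ[ZMod p] V :=
  { f with map_smul' := fun c x => ZMod.map_smul f.toAddMonoidHom c x }

@[simp] theorem toLin_apply (f : V ≃+ V) (v : V) : toLin (p := p) f v = f v := rfl

theorem ne_zero_of_semi [Nontrivial V] (e : V ≃+ F) (T : V ≃ₗ[ZMod p] V) (a : F) (σ : F ≃+* F)
    (h : ∀ v, e (T v) = a * σ (e v)) : a ≠ 0 := by
  rintro rfl
  obtain ⟨v, hv⟩ := exists_ne (0 : V)
  have h1 : e (T (T.symm v)) = 0 := by rw [h]; simp
  rw [LinearEquiv.apply_symm_apply] at h1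
  exact hv (by simpa using h1)

/-- the semilinear group `ΓL(1,F)` transported to `V` along `e` -/
def semiGroup (e : V ≃+ F) : Subgroup (V ≃ₗ[ZMod p] V) where
  carrier := {T | ∃ (a : F) (σ : F ≃+* F), a ≠ 0 ∧ ∀ v, e (T v) = a * σ (e v)}
  one_mem' := ⟨1, RingEquiv.refl F, one_ne_zero, fun v => by simp⟩
  mul_mem' := by
    rintro T₁ T₂ ⟨a, σ, ha, h1⟩ ⟨b, τ, hb, h2⟩
    refine ⟨a * σ b, τ.trans σ, mul_ne_zero ha (by simpa using hb), fun v => ?_⟩
    rw [LinearEquiv.mul_apply, h1, h2, map_mul, RingEquiv.coe_trans, Function.comp_apply, mul_assoc]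
  inv_mem' := by
    rintro T ⟨a, σ, ha, h1⟩
    refine ⟨σ.symm a⁻¹, σ.symm, by simpa using ha, fun v => ?_⟩
    have h2 := h1 (T⁻¹ v)
    have h3 : T (T⁻¹ v) = v := by
      show T (T.symm v) = v
      exact T.apply_symm_apply v
    rw [h3] at h2
    rw [h2, map_mul, RingEquiv.symm_apply_apply, ← mul_assoc, ← map_mul, inv_mul_cancel₀ ha,
      map_one, one_mul]

theorem mem_semiGroup (e : V ≃+ F) (T : V ≃ₗ[ZMod p] V) :
    T ∈ semiGroup e ↔ ∃ (a : F) (σ : F ≃+* F), a ≠ 0 ∧ ∀ v, e (T v) = a * σ (e v) := Iff.rfl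

theorem mem_semiGroup_of [Nontrivial V] (e : V ≃+ F) (T : V ≃ₗ[ZMod p] V) (a : F) (σ : F ≃+* F)
    (h : ∀ v, e (T v) = a * σ (e v)) : T ∈ semiGroup e :=
  ⟨a, σ, ne_zero_of_semi e T a σ h, h⟩

/-- the element of `GL(V)` given by `x ↦ a σ(x)` -/
def ofPair (e : V ≃+ F) (a : F) (ha : a ≠ 0) (σ : F ≃+* F) : V ≃ₗ[ZMod p] V :=
  toLin ((e.trans ((σ : F ≃+ F).trans (AddAut.mulLeft (Units.mk0 a ha)))).trans e.symm)

theorem ofPair_apply (e : V ≃+ F) (a : F) (ha : a ≠ 0) (σ : F ≃+* F) (v : V) :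
    e (ofPair (p := p) e a ha σ v) = a * σ (e v) := by
  simp [ofPair, AddAut.mulLeft]

theorem ofPair_mem (e : V ≃+ F) (a : F) (ha : a ≠ 0) (σ : F ≃+* F) :
    ofPair (p := p) e a ha σ ∈ semiGroup e :=
  ⟨a, σ, ha, ofPair_apply e a ha σ⟩

theorem card_semiGroup (e : V ≃+ F) :
    Nat.card (semiGroup (p := p) e) = Nat.card (gammaSet F) := by
  refine Nat.card_congr (Equiv.ofBijective
    (fun T : semiGroup (p := p) e => (⟨fun x => e (T.1 (e.symm x)), ?_⟩ : gammaSet F)) ⟨?_, ?_⟩)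
  · obtain ⟨a, σ, ha, h⟩ := T.2
    exact ⟨a, σ, ha, fun x => by show e (T.1 (e.symm x)) = _; rw [h]; simp⟩
  · intro T₁ T₂ h
    apply Subtype.ext
    apply LinearEquiv.ext
    intro v
    have := congrFun (congrArg Subtype.val h) (e v)
    simpa using this
  · rintro ⟨f, a, σ, ha, hf⟩
    refine ⟨⟨ofPair e a ha σ, ofPair_mem e a ha σ⟩, ?_⟩
    apply Subtype.ext
    funext x
    show e (ofPair e a ha σ (e.symm x)) = f x
    rw [ofPair_apply, hf]; simp

/-- scalar multiplications -/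
def scalarHom : (ZMod p)ˣ →* (V ≃ₗ[ZMod p] V) := DistribMulAction.toModuleAut (ZMod p) V

theorem scalarHom_apply (c : (ZMod p)ˣ) (v : V) : scalarHom c v = (c : ZMod p) • v := rfl

theorem scalarHom_injective [Nontrivial V] :
    Function.Injective (scalarHom : (ZMod p)ˣ →* (V ≃ₗ[ZMod p] V)) := by
  rw [injective_iff_map_eq_one]
  intro c hc
  obtain ⟨v, hv⟩ := exists_ne (0 : V)
  have h1 : (c : ZMod p) • v = v := by
    have := congrArg (fun T : V ≃ₗ[ZMod p] V => T v) hc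
    simpa [scalarHom_apply] using this
  have h2 : ((c : ZMod p) - 1) • v = 0 := by rw [sub_smul, h1, one_smul, sub_self]
  have h3 : (c : ZMod p) - 1 = 0 := by
    rcases smul_eq_zero.1 h2 with h | h
    · exact h
    · exact absurd h hv
  exact Units.ext (by simpa using sub_eq_zero.1 h3)

theorem card_range_scalarHom [Nontrivial V] :
    Nat.card (scalarHom : (ZMod p)ˣ →* (V ≃ₗ[ZMod p] V)).range = p - 1 := by
  rw [← Nat.card_congr (MonoidHom.ofInjective scalarHom_injective).toEquiv,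
    Nat.card_eq_fintype_card, ZMod.card_units_eq_totient, Nat.totient_prime Fact.out]

theorem scalarHom_smul (c : (ZMod p)ˣ) (W : AddSubgroup V) :
    (scalarHom c : V ≃ₗ[ZMod p] V) • W = W := by
  have hval : ∀ v : V, scalarHom c v = (c : ZMod p).val • v := by
    intro v
    rw [scalarHom_apply, ← Nat.cast_smul_eq_nsmul (ZMod p), ZMod.natCast_zmod_val]
  have hle : ∀ c : (ZMod p)ˣ, (scalarHom c : V ≃ₗ[ZMod p] V) • W ≤ W := by
    intro c v hv
    obtain ⟨w, hw, rfl⟩ := (EqOrdAct.mem_smul_iff _ W v).1 hv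
    have : scalarHom c w = (c : ZMod p).val • w := by
      rw [scalarHom_apply, ← Nat.cast_smul_eq_nsmul (ZMod p), ZMod.natCast_zmod_val]
    rw [this]
    exact W.nsmul_mem hw _
  apply le_antisymm (hle c)
  intro w hw
  rw [EqOrdAct.mem_smul_iff]
  refine ⟨scalarHom c⁻¹ w, ?_, ?_⟩
  · have : scalarHom c⁻¹ w ∈ (scalarHom c⁻¹ : V ≃ₗ[ZMod p] V) • W :=
      (EqOrdAct.mem_smul_iff _ W _).2 ⟨w, hw, rfl⟩
    exact hle c⁻¹ this
  · rw [← LinearEquiv.mul_apply, ← map_mul, mul_inv_cancel, map_one]; rfl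

end Cfsg.Agent.Helper23.EqOrdSemi
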