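import Mathlib
import Cfsg.Agent.Helper23.EqOrdAct
import Cfsg.Agent.Helper23.EqOrdSemi
import Cfsg.Agent.Helper23.EqOrdPieces

/-!
# Divisibility from transitivity on the subgroups of order `p^2` (for S4025)
-/

set_option autoImplicit false

open scoped Pointwise

namespace Cfsg.Agent.Helper23.EqOrdDiv

open Cfsg.Agent.Helper23.EqOrdPieces Cfsg.Agent.Helper23.EqOrdSemi

variable {p : ℕ} [Fact p.Prime] {V : Type*} [AddCommGroup V] [Module (ZMod p) V]
  {F : Type*} [Field F]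

theorem nsmul_p_eq_zero (v : V) : p • v = 0 := by
  rw [← Nat.cast_smul_eq_nsmul (ZMod p), ZMod.natCast_self, zero_smul]

theorem scalar_mem_semiGroup [Nontrivial V] (e : V ≃+ F) (c : (ZMod p)ˣ) :
    (scalarHom c : V ≃ₗ[ZMod p] V) ∈ semiGroup e := by
  refine mem_semiGroup_of e _ (((c : ZMod p).val : ℕ) : F) (RingEquiv.refl F) (fun v => ?_)
  have : scalarHom c v = (c : ZMod p).val • v := by
    rw [scalarHom_apply, ← Nat.cast_smul_eq_nsmul (ZMod p), ZMod.natCast_zmod_val]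
  rw [this, map_nsmul, nsmul_eq_mul]; rfl

/-- scalars as a homomorphism into the semilinear group -/
def scalarHom' [Nontrivial V] (e : V ≃+ F) : (ZMod p)ˣ →* semiGroup (p := p) e :=
  (scalarHom : (ZMod p)ˣ →* (V ≃ₗ[ZMod p] V)).codRestrict (semiGroup e) (scalar_mem_semiGroup e)

theorem pred_dvd_card_stabilizer [Nontrivial V] [Finite V] (e : V ≃+ F) (W : AddSubgroup V) :
    (p - 1) ∣ Nat.card (MulAction.stabilizer (semiGroup (p := p) e) W) := by
  haveI : Finite (V ≃ₗ[ZMod p] V) := EqOrdAct.finite_linearEquiv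
  have hinj : Function.Injective (scalarHom' (p := p) e) := by
    intro a b hab
    apply scalarHom_injective (V := V)
    exact congrArg Subtype.val hab
  have hcard : Nat.card (scalarHom' (p := p) e).range = p - 1 := by
    rw [← Nat.card_congr (MonoidHom.ofInjective hinj).toEquiv,
      Nat.card_eq_fintype_card, ZMod.card_units_eq_totient, Nat.totient_prime Fact.out]
  rw [← hcard]
  apply Subgroup.card_dvd_of_le
  rintro _ ⟨c, rfl⟩
  rw [MulAction.mem_stabilizer_iff]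
  show (scalarHom c : V ≃ₗ[ZMod p] V) • W = W
  exact scalarHom_smul c W

theorem arith {p n N s d : ℕ} (hp : 2 ≤ p) (hn : 2 ≤ n)
    (h1 : N * s = (p ^ n - 1) * n) (hs : s = (p - 1) * d)
    (h2 : N * ((p ^ 2 - 1) * (p ^ 2 - p)) = (p ^ n - 1) * (p ^ n - p)) :
    (p ^ (n - 1) - 1) ∣ n * (p ^ 2 - 1) := by
  refine ⟨d, ?_⟩
  have e1 : p ^ n - p = p * (p ^ (n - 1) - 1) := by
    obtain ⟨m, rfl⟩ : ∃ m, n = m + 1 := ⟨n - 1, by omega⟩
    rw [Nat.add_sub_cancel, Nat.mul_sub, mul_one, pow_succ, mul_comm]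
  have e2 : p ^ 2 - p = p * (p - 1) := by
    rw [Nat.mul_sub, mul_one, sq]
  have hpn : 0 < p ^ n - 1 := by
    have : 2 ^ n ≤ p ^ n := Nat.pow_le_pow_left hp n
    have : 2 ≤ 2 ^ n := by
      calc 2 = 2 ^ 1 := by norm_num
        _ ≤ 2 ^ n := Nat.pow_le_pow_right (by norm_num) (by omega)
    omega
  -- (p^n - 1) * (p * (p^(n-1) - 1)) * d = (p^n - 1) * (n * (p^2-1) * p)
  have key : (p ^ n - 1) * (p * ((p ^ (n - 1) - 1) * d)) = (p ^ n - 1) * (p * (n * (p ^ 2 - 1))) := by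
    calc (p ^ n - 1) * (p * ((p ^ (n - 1) - 1) * d))
        = ((p ^ n - 1) * (p ^ n - p)) * d := by rw [e1]; ring
      _ = (N * ((p ^ 2 - 1) * (p ^ 2 - p))) * d := by rw [h2]
      _ = (N * ((p - 1) * d)) * ((p ^ 2 - 1) * p) := by rw [e2]; ring
      _ = ((p ^ n - 1) * n) * ((p ^ 2 - 1) * p) := by rw [← hs, h1]
      _ = (p ^ n - 1) * (p * (n * (p ^ 2 - 1))) := by ring
  have k2 := Nat.eq_of_mul_eq_mul_left hpn key
  have k3 := Nat.eq_of_mul_eq_mul_left (by omega : 0 < p) k2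
  exact k3.symm

theorem card_field_of_equiv [Finite V] (e : V ≃+ F) {n : ℕ} (hV : Nat.card V = p ^ n) :
    Nat.card F = p ^ n := by
  rw [← hV]; exact (Nat.card_congr e.toEquiv).symm

theorem exists_addSubgroup_card_sq [Finite V] {n : ℕ} (hn : 2 ≤ n) (hV : Nat.card V = p ^ n) :
    ∃ W : AddSubgroup V, Nat.card W = p ^ 2 := by
  have hp : 2 ≤ p := (Fact.out : p.Prime).two_le
  have h := card_addSubgroup_prime_sq (p := p) (V := V) nsmul_p_eq_zero hV
  have hpos : 0 < (p ^ n - 1) * (p ^ n - p) := by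
    have h1 : p ^ 2 ≤ p ^ n := Nat.pow_le_pow_right (by omega) hn
    have h2 : p * 2 ≤ p ^ 2 := by nlinarith
    apply Nat.mul_pos <;> omega
  rw [← h] at hpos
  have : 0 < Nat.card {W : AddSubgroup V // Nat.card W = p ^ 2} := Nat.pos_of_mul_pos_right hpos
  obtain ⟨W⟩ := (Nat.card_pos_iff.1 this).1
  exact ⟨W.1, W.2⟩

theorem div_of_transitive [Finite V] [Finite F] (e : V ≃+ F) {n : ℕ} (hn : 2 ≤ n)
    (hV : Nat.card V = p ^ n)
    (h2 : ∀ L L' : AddSubgroup V, Nat.card L = p ^ 2 → Nat.card L' = p ^ 2 →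
      ∃ T ∈ semiGroup (p := p) e, ∀ v ∈ L, T v ∈ L') :
    (p ^ (n - 1) - 1) ∣ n * (p ^ 2 - 1) := by
  have hp : 2 ≤ p := (Fact.out : p.Prime).two_le
  haveI : Nontrivial V := by
    apply (Finite.one_lt_card_iff_nontrivial).1
    rw [hV]
    exact Nat.one_lt_pow (by omega) (by omega)
  obtain ⟨W₀, hW₀⟩ := exists_addSubgroup_card_sq (p := p) hn hV
  have h1 := EqOrdAct.card_mul_card_stabilizer (semiGroup (p := p) e) (p ^ 2) h2 W₀ hW₀
  rw [card_semiGroup, card_gammaSet (card_field_of_equiv e hV)] at h1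
  obtain ⟨d, hd⟩ := pred_dvd_card_stabilizer (p := p) e W₀
  exact arith hp hn h1 hd (card_addSubgroup_prime_sq (p := p) (V := V) nsmul_p_eq_zero hV)

end Cfsg.Agent.Helper23.EqOrdDiv
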