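import Mathlib

/-!
# Number theory for S4025

`(p^(n-1) - 1) ∣ n (p^2 - 1)`, `3 ≤ n`, `p` prime forces `n = 3` or `(n, p) = (5, 2)`.
-/

set_option autoImplicit false

namespace Cfsg.Agent.Helper23.EqOrdNT

theorem two_pow_ge (k : ℕ) (hk : 3 ≤ k) : k + 4 ≤ 2 ^ k := by
  induction k, hk using Nat.le_induction with
  | base => norm_num
  | succ k hk ih => rw [pow_succ]; omega

theorem big_case {p n : ℕ} (hp : 2 ≤ p) (hn : 6 ≤ n) : n * (p ^ 2 - 1) < p ^ (n - 1) - 1 := by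
  obtain ⟨k, rfl⟩ : ∃ k, n = k + 3 := ⟨n - 3, by omega⟩
  have hk : 3 ≤ k := by omega
  have h1 : k + 4 ≤ 2 ^ k := two_pow_ge k hk
  have h2 : 2 ^ k ≤ p ^ k := Nat.pow_le_pow_left hp k
  have h3 : p ^ (k + 3 - 1) = p ^ 2 * p ^ k := by
    rw [show k + 3 - 1 = 2 + k by omega, pow_add]
  rw [h3]
  have h4 : 4 ≤ p ^ 2 := by nlinarith
  have h5 : p ^ 2 * (k + 4) ≤ p ^ 2 * p ^ k := Nat.mul_le_mul_left _ (h1.trans h2)
  have h6 : (k + 3) * (p ^ 2 - 1) ≤ (k + 3) * p ^ 2 := Nat.mul_le_mul_left _ (Nat.sub_le _ _)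
  have h7 : (k + 3) * p ^ 2 + p ^ 2 = p ^ 2 * (k + 4) := by ring
  omega

theorem main {p n : ℕ} (hp : p.Prime) (hn : 3 ≤ n) (h : (p ^ (n - 1) - 1) ∣ n * (p ^ 2 - 1)) :
    n = 3 ∨ (n = 5 ∧ p = 2) := by
  have hp2 : 2 ≤ p := hp.two_le
  have hpp : 4 ≤ p ^ 2 := by nlinarith
  rcases Nat.lt_or_ge n 6 with hlt | hge
  · interval_cases n
    · left; rfl
    · -- n = 4
      exfalso
      have e1 : p ^ (4 - 1) - 1 = (p - 1) * (p ^ 2 + p + 1) := by
        obtain ⟨q, rfl⟩ : ∃ q, p = q + 1 := ⟨p - 1, by omega⟩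
        simp only [Nat.add_sub_cancel]
        have : (q + 1) ^ 3 = q * ((q + 1) ^ 2 + (q + 1) + 1) + 1 := by ring
        show (q + 1) ^ 3 - 1 = _
        omega
      have e2 : 4 * (p ^ 2 - 1) = (p - 1) * (4 * (p + 1)) := by
        obtain ⟨q, rfl⟩ : ∃ q, p = q + 1 := ⟨p - 1, by omega⟩
        simp only [Nat.add_sub_cancel]
        have : (q + 1) ^ 2 = q * (q + 1 + 1) + 1 := by ring
        rw [this, Nat.add_sub_cancel]; ring
      rw [e1, e2] at h
      have h' : (p ^ 2 + p + 1) ∣ 4 * (p + 1) :=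
        Nat.dvd_of_mul_dvd_mul_left (by omega) h
      have hc : Nat.Coprime (p ^ 2 + p + 1) (p + 1) := by
        have : p ^ 2 + p + 1 = p * (p + 1) + 1 := by ring
        rw [this]
        simp [Nat.coprime_mul_right_add_left]
      have h4 : (p ^ 2 + p + 1) ∣ 4 := (Nat.Coprime.dvd_mul_right hc).mp h'
      have := Nat.le_of_dvd (by norm_num) h4
      nlinarith
    · -- n = 5
      right
      refine ⟨rfl, ?_⟩
      have e1 : p ^ (5 - 1) - 1 = (p ^ 2 - 1) * (p ^ 2 + 1) := by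
        obtain ⟨q, hq⟩ : ∃ q, p ^ 2 = q + 1 := ⟨p ^ 2 - 1, by omega⟩
        have : p ^ 4 = (p ^ 2) ^ 2 := by ring
        show p ^ 4 - 1 = _
        rw [this, hq, Nat.add_sub_cancel]
        have : (q + 1) ^ 2 = q * (q + 1 + 1) + 1 := by ring
        omega
      rw [e1, mul_comm 5] at h
      have h' : (p ^ 2 + 1) ∣ 5 := Nat.dvd_of_mul_dvd_mul_left (by omega) h
      have := Nat.le_of_dvd (by norm_num) h'
      have : p < 3 := by nlinarith
      omega
  · exfalso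
    have h1 := big_case hp2 hge
    have h2 : 0 < n * (p ^ 2 - 1) := Nat.mul_pos (by omega) (by omega)
    exact absurd (Nat.le_of_dvd h2 h) (by omega)

end Cfsg.Agent.Helper23.EqOrdNT
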