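import Mathlib
import Cfsg.Agent.Helper23.EqOrdAct
import Cfsg.Agent.Helper23.EqOrdSemi
import Cfsg.Agent.Helper23.EqOrdDiv
import Cfsg.Agent.Helper23.EqOrdPieces

/-!
# The cases `p = 2`, `n ∈ {3, 5}` (for S4025): which subgroups of `ΓL(1, 2^n)` are transitive on
the subgroups of order 4
-/

set_option autoImplicit false

open scoped Pointwise

namespace Cfsg.Agent.Helper23.EqOrdTwo

open Cfsg.Agent.Helper23.EqOrdPieces Cfsg.Agent.Helper23.EqOrdSemi Cfsg.Agent.Helper23.EqOrdDiv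

variable {p : ℕ} [Fact p.Prime] {V : Type*} [AddCommGroup V] [Module (ZMod p) V]
  {F : Type*} [Field F]

/-- the multiplications `x ↦ a x` transported to `V` -/
def mulGroup (e : V ≃+ F) : Subgroup (V ≃ₗ[ZMod p] V) where
  carrier := {T | ∃ a : F, a ≠ 0 ∧ ∀ v, e (T v) = a * e v}
  one_mem' := ⟨1, one_ne_zero, fun v => by simp⟩
  mul_mem' := by
    rintro T₁ T₂ ⟨a, ha, h1⟩ ⟨b, hb, h2⟩
    refine ⟨a * b, mul_ne_zero ha hb, fun v => ?_⟩
    rw [LinearEquiv.mul_apply, h1, h2, mul_assoc]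
  inv_mem' := by
    rintro T ⟨a, ha, h1⟩
    refine ⟨a⁻¹, inv_ne_zero ha, fun v => ?_⟩
    have h2 := h1 (T⁻¹ v)
    have h3 : T (T⁻¹ v) = v := T.apply_symm_apply v
    rw [h3] at h2
    rw [h2, ← mul_assoc, inv_mul_cancel₀ ha, one_mul]

theorem mulGroup_le (e : V ≃+ F) : mulGroup (p := p) e ≤ semiGroup e := by
  rintro T ⟨a, ha, h⟩
  exact ⟨a, RingEquiv.refl F, ha, fun v => by simpa using h v⟩

theorem ofPair_refl_mem (e : V ≃+ F) (a : F) (ha : a ≠ 0) :
    ofPair (p := p) e a ha (RingEquiv.refl F) ∈ mulGroup e :=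
  ⟨a, ha, fun v => by rw [ofPair_apply]; simp⟩

theorem card_mulGroup [Finite F] (e : V ≃+ F) :
    Nat.card (mulGroup (p := p) e) = Nat.card F - 1 := by
  have h1 : Nat.card (mulGroup (p := p) e) = Nat.card {a : F // a ≠ 0} := by
    refine Nat.card_congr (Equiv.ofBijective
      (fun T : mulGroup (p := p) e => (⟨e (T.1 (e.symm 1)), ?_⟩ : {a : F // a ≠ 0})) ⟨?_, ?_⟩)
    · obtain ⟨a, ha, h⟩ := T.2
      rw [h]; simpa using ha
    · intro T₁ T₂ h
      obtain ⟨a, ha, h1⟩ := T₁.2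
      obtain ⟨b, hb, h2⟩ := T₂.2
      have hab : a = b := by
        have := congrArg Subtype.val h
        simp only [h1, h2, AddEquiv.apply_symm_apply, mul_one] at this
        exact this
      apply Subtype.ext
      apply LinearEquiv.ext
      intro v
      apply e.injective
      rw [h1, h2, hab]
    · rintro ⟨a, ha⟩
      refine ⟨⟨ofPair e a ha (RingEquiv.refl F), ofPair_refl_mem e a ha⟩, ?_⟩
      apply Subtype.ext
      show e (ofPair e a ha (RingEquiv.refl F) (e.symm 1)) = a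
      rw [ofPair_apply]; simp
  rw [h1]
  haveI : Fintype F := Fintype.ofFinite F
  classical
  rw [Nat.card_eq_fintype_card, Nat.card_eq_fintype_card, Fintype.card_subtype_compl,
    Fintype.card_subtype_eq]

/-- conjugating a multiplication by a semilinear map gives a multiplication -/
theorem conj_mem_mulGroup (e : V ≃+ F) (T S : V ≃ₗ[ZMod p] V) (hT : T ∈ semiGroup e)
    (hS : S ∈ mulGroup e) : T * S * T⁻¹ ∈ mulGroup e := by
  obtain ⟨a, σ, ha, h1⟩ := hT
  obtain ⟨b, hb, h2⟩ := hS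
  refine ⟨σ b, by simpa using hb, fun v => ?_⟩
  have h3 : T (T⁻¹ v) = v := T.apply_symm_apply v
  rw [LinearEquiv.mul_apply, LinearEquiv.mul_apply, h1, h2, map_mul]
  have h4 := h1 (T⁻¹ v)
  rw [h3] at h4
  rw [h4]; ring

/-- a subgroup of order 7 of a group of order 21 lies in any normal subgroup of order 7 -/
theorem le_of_card_seven {M : Type*} [Group M] [Finite M] (hM : Nat.card M = 21)
    (N B : Subgroup M) [N.Normal] (hN : Nat.card N = 7) (hB : Nat.card B = 7) : B ≤ N := by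
  intro x hx
  have h7 : x ^ 7 = 1 := by
    have := pow_card_eq_one' (G := B) (x := ⟨x, hx⟩)
    rw [hB] at this
    exact congrArg Subtype.val this
  have hq : Nat.card (M ⧸ N) = 3 := by
    have := Subgroup.card_eq_card_quotient_mul_card_subgroup N
    rw [hM, hN] at this
    omega
  have h3 : (QuotientGroup.mk x : M ⧸ N) ^ 3 = 1 := by
    rw [← hq]; exact pow_card_eq_one'
  have h7' : (QuotientGroup.mk x : M ⧸ N) ^ 7 = 1 := by
    rw [← QuotientGroup.mk_pow, h7]; rfl
  have h1 : (QuotientGroup.mk x : M ⧸ N) = 1 := by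
    have : (QuotientGroup.mk x : M ⧸ N) ^ 7 = (QuotientGroup.mk x : M ⧸ N) ^ 3 *
        (QuotientGroup.mk x : M ⧸ N) ^ 3 * (QuotientGroup.mk x : M ⧸ N) := by group
    rw [h7', h3, one_mul, one_mul] at this
    exact this.symm
  exact (QuotientGroup.eq_one_iff x).1 h1

end Cfsg.Agent.Helper23.EqOrdTwo
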