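import Mathlib
import Cfsg.Agent.Helper23.EqOrdAct
import Cfsg.Agent.Helper23.EqOrdSemi
import Cfsg.Agent.Helper23.EqOrdDiv
import Cfsg.Agent.Helper23.EqOrdTwo
import Cfsg.Agent.Helper23.EqOrdNT
import Cfsg.Agent.Helper23.EqOrdPieces

/-!
# The linear core of S4025
-/

set_option autoImplicit false

open scoped Pointwise

namespace Cfsg.Agent.Helper23.EqOrdCore

open Cfsg.Agent.Helper23.EqOrdPieces Cfsg.Agent.Helper23.EqOrdSemi Cfsg.Agent.Helper23.EqOrdDiv
  Cfsg.Agent.Helper23.EqOrdTwo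

variable {p : ℕ} [Fact p.Prime] {V : Type*} [AddCommGroup V] [Module (ZMod p) V]
  {F : Type*} [Field F]

theorem range_le_semiGroup [Nontrivial V] (e : V ≃+ F) {A : Type*} [Group A]
    (ρ : A →* (V ≃ₗ[ZMod p] V))
    (hsemi : ∀ g : A, ∃ (a : F) (σ : F ≃+* F), ∀ v : V, e (ρ g v) = a * σ (e v)) :
    ρ.range ≤ semiGroup e := by
  rintro _ ⟨g, rfl⟩
  obtain ⟨a, σ, h⟩ := hsemi g
  exact mem_semiGroup_of e _ a σ h

/-- the full-image consequence -/
theorem exists_of_range_eq (e : V ≃+ F) {A : Type*} [Group A]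
    (ρ : A →* (V ≃ₗ[ZMod p] V)) (h : ρ.range = semiGroup e)
    (a : F) (σ : F ≃+* F) (ha : a ≠ 0) : ∃ g : A, ∀ v : V, e (ρ g v) = a * σ (e v) := by
  have : ofPair (p := p) e a ha σ ∈ ρ.range := by rw [h]; exact ofPair_mem e a ha σ
  obtain ⟨g, hg⟩ := this
  exact ⟨g, fun v => by rw [hg, ofPair_apply]⟩

theorem core_field [Finite V] [Finite F] (e : V ≃+ F) {n : ℕ} (hn : 3 ≤ n)
    (hV : Nat.card V = p ^ n) {A : Type*} [Group A] [Finite A]
    (ρ : A →* (V ≃ₗ[ZMod p] V))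
    (hsemi : ∀ g : A, ∃ (a : F) (σ : F ≃+* F), ∀ v : V, e (ρ g v) = a * σ (e v))
    (h2 : ∀ L L' : AddSubgroup V, Nat.card L = p ^ 2 → Nat.card L' = p ^ 2 →
      ∃ g : A, ∀ v ∈ L, ρ g v ∈ L') :
    (n = 3 ∨ (n = 5 ∧ p = 2)) ∧
    (p = 2 → n = 5 → ∀ (a : F) (σ : F ≃+* F), a ≠ 0 →
      ∃ g : A, ∀ v : V, e (ρ g v) = a * σ (e v)) ∧
    (p = 2 → n = 3 →
      (∀ (a : F) (σ : F ≃+* F), a ≠ 0 → ∃ g : A, ∀ v : V, e (ρ g v) = a * σ (e v)) ∨
      ((∀ g : A, ∃ a : F, ∀ v : V, e (ρ g v) = a * e v) ∧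
        ∀ a : F, a ≠ 0 → ∃ g : A, ∀ v : V, e (ρ g v) = a * e v)) := by
  have hp : 2 ≤ p := (Fact.out : p.Prime).two_le
  haveI : Nontrivial V := by
    apply (Finite.one_lt_card_iff_nontrivial).1
    rw [hV]
    exact Nat.one_lt_pow (by omega) (by omega)
  haveI : Finite (V ≃ₗ[ZMod p] V) := EqOrdAct.finite_linearEquiv
  have hle := range_le_semiGroup e ρ hsemi
  have h2B : ∀ L L' : AddSubgroup V, Nat.card L = p ^ 2 → Nat.card L' = p ^ 2 →
      ∃ T ∈ ρ.range, ∀ v ∈ L, T v ∈ L' := by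
    intro L L' hL hL'
    obtain ⟨g, hg⟩ := h2 L L' hL hL'
    exact ⟨ρ g, ⟨g, rfl⟩, hg⟩
  have h2M : ∀ L L' : AddSubgroup V, Nat.card L = p ^ 2 → Nat.card L' = p ^ 2 →
      ∃ T ∈ semiGroup (p := p) e, ∀ v ∈ L, T v ∈ L' := by
    intro L L' hL hL'
    obtain ⟨T, hT, h⟩ := h2B L L' hL hL'
    exact ⟨T, hle hT, h⟩
  have hdiv := div_of_transitive (p := p) e (by omega : 2 ≤ n) hV h2M
  have hcases := EqOrdNT.main (Fact.out : p.Prime) hn hdiv
  have hF := card_field_of_equiv (p := p) e hV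
  have hM : Nat.card (semiGroup (p := p) e) = (p ^ n - 1) * n := by
    rw [card_semiGroup, card_gammaSet hF]
  obtain ⟨W₀, hW₀⟩ := exists_addSubgroup_card_sq (p := p) (by omega : 2 ≤ n) hV
  have hB := EqOrdAct.card_mul_card_stabilizer ρ.range (p ^ 2) h2B W₀ hW₀
  have hCNT := card_addSubgroup_prime_sq (p := p) (V := V) nsmul_p_eq_zero hV
  have hBM : Nat.card ρ.range ∣ Nat.card (semiGroup (p := p) e) := Subgroup.card_dvd_of_le hle
  refine ⟨hcases, ?_, ?_⟩
  · rintro rfl rfl a σ ha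
    apply exists_of_range_eq e ρ _ a σ ha
    have e1 : ((2 : ℕ) ^ 2 - 1) * (2 ^ 2 - 2) = 6 := by norm_num
    have e2 : ((2 : ℕ) ^ 5 - 1) * (2 ^ 5 - 2) = 930 := by norm_num
    have e3 : ((2 : ℕ) ^ 5 - 1) * 5 = 155 := by norm_num
    rw [e1, e2] at hCNT
    rw [e3] at hM
    have hN : Nat.card {W : AddSubgroup V // Nat.card W = 2 ^ 2} = 155 := by omega
    rw [hN] at hB
    rw [hM] at hBM
    have h155 : Nat.card ρ.range = 155 := by
      have h1 : 155 ∣ Nat.card ρ.range := Dvd.intro _ hB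
      exact Nat.dvd_antisymm hBM h1
    apply Subgroup.eq_of_le_of_card_ge hle
    rw [hM, h155]
  · rintro rfl rfl
    have e1 : ((2 : ℕ) ^ 2 - 1) * (2 ^ 2 - 2) = 6 := by norm_num
    have e2 : ((2 : ℕ) ^ 3 - 1) * (2 ^ 3 - 2) = 42 := by norm_num
    have e3 : ((2 : ℕ) ^ 3 - 1) * 3 = 21 := by norm_num
    rw [e1, e2] at hCNT
    rw [e3] at hM
    have hN : Nat.card {W : AddSubgroup V // Nat.card W = 2 ^ 2} = 7 := by omega
    rw [hN] at hB
    rw [hM] at hBM
    have h7 : 7 ∣ Nat.card ρ.range := Dvd.intro _ hB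
    have hc : Nat.card ρ.range = 7 ∨ Nat.card ρ.range = 21 := by
      obtain ⟨k, hk⟩ := h7
      obtain ⟨l, hl⟩ := hBM
      have : k * l = 3 := by
        have : 21 = 7 * (k * l) := by rw [hl, hk]; ring
        omega
      have hk3 : k ∣ 3 := Dvd.intro _ this
      have : k = 1 ∨ k = 3 := by
        have := (Nat.dvd_prime (by norm_num : Nat.Prime 3)).1 hk3
        exact this
      rcases this with rfl | rfl
      · left; omega
      · right; omega
    rcases hc with hc | hc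
    · right
      -- the image is the multiplication group
      have hF8 : Nat.card F = 8 := by rw [hF]; norm_num
      have hmul7 : Nat.card (mulGroup (p := 2) e) = 7 := by rw [card_mulGroup, hF8]
      -- work inside M = semiGroup e
      set M := semiGroup (p := 2) e with hMdef
      have hN7 : Nat.card ((mulGroup (p := 2) e).subgroupOf M) = 7 := by
        rw [Nat.card_congr (Subgroup.subgroupOfEquivOfLe (mulGroup_le e)).toEquiv, hmul7]
      have hB7 : Nat.card (ρ.range.subgroupOf M) = 7 := by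
        rw [Nat.card_congr (Subgroup.subgroupOfEquivOfLe hle).toEquiv, hc]
      haveI : ((mulGroup (p := 2) e).subgroupOf M).Normal := by
        constructor
        intro S hS T
        rw [Subgroup.mem_subgroupOf] at hS ⊢
        exact conj_mem_mulGroup e T.1 S.1 T.2 hS
      have hle' := le_of_card_seven (M := M) hM ((mulGroup (p := 2) e).subgroupOf M)
        (ρ.range.subgroupOf M) hN7 hB7
      have hBle : ρ.range ≤ mulGroup (p := 2) e := by
        intro T hT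
        have : (⟨T, hle hT⟩ : M) ∈ ρ.range.subgroupOf M := by
          rw [Subgroup.mem_subgroupOf]; exact hT
        have := hle' this
        rw [Subgroup.mem_subgroupOf] at this
        exact this
      have hBeq : ρ.range = mulGroup (p := 2) e := by
        apply Subgroup.eq_of_le_of_card_ge hBle
        rw [hmul7, hc]
      constructor
      · intro g
        have : ρ g ∈ mulGroup (p := 2) e := hBle ⟨g, rfl⟩
        obtain ⟨a, _, h⟩ := this
        exact ⟨a, h⟩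
      · intro a ha
        have : ofPair (p := 2) e a ha (RingEquiv.refl F) ∈ ρ.range := by
          rw [hBeq]; exact ofPair_refl_mem e a ha
        obtain ⟨g, hg⟩ := this
        exact ⟨g, fun v => by rw [hg, ofPair_apply]; simp⟩
    · left
      intro a σ ha
      apply exists_of_range_eq e ρ _ a σ ha
      apply Subgroup.eq_of_le_of_card_ge hle
      rw [hM, hc]

end Cfsg.Agent.Helper23.EqOrdCore

namespace Cfsg.Agent.Helper23.EqOrdCore

open Cfsg.Agent.Helper23.EqOrdPieces Cfsg.Agent.Helper23.EqOrdSemi Cfsg.Agent.Helper23.EqOrdDiv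
  Cfsg.Agent.Helper23.EqOrdTwo

variable {p : ℕ} [Fact p.Prime] {V : Type*} [AddCommGroup V] [Module (ZMod p) V]

theorem exists_addSubgroup_card_prime [Finite V] {n : ℕ} (hn : 1 ≤ n) (hV : Nat.card V = p ^ n) :
    ∃ W : AddSubgroup V, Nat.card W = p := by
  have hp : 2 ≤ p := (Fact.out : p.Prime).two_le
  have h := card_addSubgroup_prime (p := p) (V := V) nsmul_p_eq_zero hV
  have hpos : 0 < p ^ n - 1 := by
    have h1 : p ^ 1 ≤ p ^ n := Nat.pow_le_pow_right (by omega) hn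
    rw [pow_one] at h1
    omega
  rw [← h] at hpos
  have : 0 < Nat.card {W : AddSubgroup V // Nat.card W = p} := Nat.pos_of_mul_pos_right hpos
  obtain ⟨W⟩ := (Nat.card_pos_iff.1 this).1
  exact ⟨W.1, W.2⟩

/-- the exceptional case `3^4` of Huppert's theorem does not occur -/
theorem not_eighty_one {V : Type*} [AddCommGroup V] [Module (ZMod 3) V] [Finite V]
    (hV : Nat.card V = 3 ^ 4)
    {A : Type*} [Group A] [Finite A] (hsol : Group.IsSolvable A)
    (ρ : A →* (V ≃ₗ[ZMod 3] V))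
    (h1 : ∀ L L' : AddSubgroup V, Nat.card L = 3 → Nat.card L' = 3 →
      ∃ g : A, ∀ v ∈ L, ρ g v ∈ L')
    (h2 : ∀ L L' : AddSubgroup V, Nat.card L = 3 ^ 2 → Nat.card L' = 3 ^ 2 →
      ∃ g : A, ∀ v ∈ L, ρ g v ∈ L') : False := by
  haveI : Fact (Nat.Prime 3) := ⟨by norm_num⟩
  haveI : Finite (V ≃ₗ[ZMod 3] V) := EqOrdAct.finite_linearEquiv
  have h1B : ∀ L L' : AddSubgroup V, Nat.card L = 3 → Nat.card L' = 3 →
      ∃ T ∈ ρ.range, ∀ v ∈ L, T v ∈ L' := by
    intro L L' hL hL'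
    obtain ⟨g, hg⟩ := h1 L L' hL hL'
    exact ⟨ρ g, ⟨g, rfl⟩, hg⟩
  have h2B : ∀ L L' : AddSubgroup V, Nat.card L = 3 ^ 2 → Nat.card L' = 3 ^ 2 →
      ∃ T ∈ ρ.range, ∀ v ∈ L, T v ∈ L' := by
    intro L L' hL hL'
    obtain ⟨g, hg⟩ := h2 L L' hL hL'
    exact ⟨ρ g, ⟨g, rfl⟩, hg⟩
  obtain ⟨W₁, hW₁⟩ := exists_addSubgroup_card_prime (p := 3) (by norm_num : 1 ≤ 4) hV
  obtain ⟨W₂, hW₂⟩ := exists_addSubgroup_card_sq (p := 3) (by norm_num : 2 ≤ 4) hV
  have hB1 := EqOrdAct.card_mul_card_stabilizer ρ.range 3 h1B W₁ hW₁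
  have hB2 := EqOrdAct.card_mul_card_stabilizer ρ.range (3 ^ 2) h2B W₂ hW₂
  have hC1 := card_addSubgroup_prime (p := 3) (V := V) nsmul_p_eq_zero hV
  have hC2 := card_addSubgroup_prime_sq (p := 3) (V := V) nsmul_p_eq_zero hV
  have e1 : (3 : ℕ) ^ 4 - 1 = 80 := by norm_num
  have e2 : ((3 : ℕ) ^ 2 - 1) * (3 ^ 2 - 3) = 48 := by norm_num
  have e3 : ((3 : ℕ) ^ 4 - 1) * (3 ^ 4 - 3) = 6240 := by norm_num
  have e4 : (3 : ℕ) - 1 = 2 := by norm_num
  rw [e1, e4] at hC1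
  rw [e2, e3] at hC2
  have hN1 : Nat.card {L : AddSubgroup V // Nat.card L = 3} = 40 := by omega
  have hN2 : Nat.card {W : AddSubgroup V // Nat.card W = 3 ^ 2} = 130 := by omega
  rw [hN1] at hB1
  rw [hN2] at hB2
  have h5 : 5 ∣ Nat.card ρ.range := by
    rw [← hB1]; exact Dvd.dvd.mul_right (by norm_num) _
  have h13 : 13 ∣ Nat.card ρ.range := by
    rw [← hB2]; exact Dvd.dvd.mul_right (by norm_num) _
  exact no_81 (by rw [hV]; norm_num) hsol ρ h5 h13

theorem core [Finite V] {n : ℕ} (hn : 3 ≤ n) (hV : Nat.card V = p ^ n)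
    {A : Type*} [Group A] [Finite A] (hsol : Group.IsSolvable A)
    (ρ : A →* (V ≃ₗ[ZMod p] V))
    (h1 : ∀ L L' : AddSubgroup V, Nat.card L = p → Nat.card L' = p →
      ∃ g : A, ∀ v ∈ L, ρ g v ∈ L')
    (h2 : ∀ L L' : AddSubgroup V, Nat.card L = p ^ 2 → Nat.card L' = p ^ 2 →
      ∃ g : A, ∀ v ∈ L, ρ g v ∈ L') :
    (n = 3 ∨ (n = 5 ∧ p = 2)) ∧
    ∃ e : V ≃+ GaloisField p n,
      (∀ g : A, ∃ (a : GaloisField p n) (σ : GaloisField p n ≃+* GaloisField p n),
        ∀ v : V, e (ρ g v) = a * σ (e v)) ∧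
      (p = 2 → n = 5 → ∀ (a : GaloisField p n) (σ : GaloisField p n ≃+* GaloisField p n),
        a ≠ 0 → ∃ g : A, ∀ v : V, e (ρ g v) = a * σ (e v)) ∧
      (p = 2 → n = 3 →
        (∀ (a : GaloisField p n) (σ : GaloisField p n ≃+* GaloisField p n), a ≠ 0 →
          ∃ g : A, ∀ v : V, e (ρ g v) = a * σ (e v)) ∨
        ((∀ g : A, ∃ a : GaloisField p n, ∀ v : V, e (ρ g v) = a * e v) ∧
          ∀ a : GaloisField p n, a ≠ 0 → ∃ g : A, ∀ v : V, e (ρ g v) = a * e v)) := by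
  rcases huppert_apply hn hV hsol ρ h1 with ⟨F, instF, instFt, e, hsemi⟩ | ⟨hp3, hn4⟩
  · have hF : Nat.card F = p ^ n := card_field_of_equiv (p := p) e hV
    haveI : CharP F p := by
      apply charP_of_card_eq_prime_pow (f := n)
      rw [← Nat.card_eq_fintype_card]; exact hF
    letI : Algebra (ZMod p) F := ZMod.algebra F p
    let ψ : F ≃ₐ[ZMod p] GaloisField p n := GaloisField.algEquivGaloisField p n hF
    let e' : V ≃+ GaloisField p n := e.trans ψ.toRingEquiv.toAddEquiv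
    have he' : ∀ v, e' v = ψ (e v) := fun v => rfl
    have hsemi' : ∀ g : A, ∃ (a : GaloisField p n) (σ : GaloisField p n ≃+* GaloisField p n),
        ∀ v : V, e' (ρ g v) = a * σ (e' v) := by
      intro g
      obtain ⟨a, σ, h⟩ := hsemi g
      refine ⟨ψ a, (ψ.symm.toRingEquiv).trans (σ.trans ψ.toRingEquiv), fun v => ?_⟩
      rw [he', he', h, map_mul]
      simp
    obtain ⟨hc, h5, h3⟩ := core_field (p := p) e' hn hV ρ hsemi' h2
    exact ⟨hc, e', hsemi', h5, h3⟩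
  · exfalso
    subst hp3 hn4
    exact not_eighty_one hV hsol ρ h1 h2

end Cfsg.Agent.Helper23.EqOrdCore
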