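import Mathlib
import Cfsg.Prelude.Def_Solvable
import Cfsg.Prelude.Def_Perm
import Cfsg.Prelude.Def_CaseTheorems
import Cfsg.Agent.Helper23.EqOrdCore
import Cfsg.Agent.Helper23.EqOrdSemi
import Cfsg.Agent.Helper23.EqOrdPieces

/-!
# Assembly for S4025: the affine embedding of `Γ / O_{p'}(Γ)`
-/

set_option autoImplicit false

universe u

namespace Cfsg.Agent.Helper23.EqOrdAsm

open Cfsg.Agent.Helper23.EqOrdPieces

/-- linearisation of the conjugation action on an elementary abelian normal subgroup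
(after `Helper29.Sh3Idx.exists_linear_rep`, with an additive coordinate map). -/
theorem exists_linear_rep {Γ : Type u} [Group Γ] (E : Subgroup Γ) [hEn : E.Normal]
    (hab : ∀ a ∈ E, ∀ b ∈ E, a * b = b * a) {p : ℕ} [Fact p.Prime] (hexp : ∀ k ∈ E, k ^ p = 1) :
    ∃ (V : Type u) (_ : AddCommGroup V) (_ : Module (ZMod p) V) (ε : E ≃ V)
      (ρ : Γ →* (V ≃ₗ[ZMod p] V)), (∀ a b : E, ε (a * b) = ε a + ε b) ∧
      ∀ (g : Γ) (k : E), ρ g (ε k) = ε ⟨g * k * g⁻¹, hEn.conj_mem k k.2 g⟩ := by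
  letI : CommGroup E :=
    { (inferInstance : Group E) with
      mul_comm := fun a b => Subtype.ext (hab a a.2 b b.2) }
  have hpV : ∀ v : Additive E, p • v = 0 := by
    intro v
    have : (Additive.toMul v) ^ p = 1 := Subtype.ext (by simpa using hexp _ (Additive.toMul v).2)
    exact congrArg Additive.ofMul this
  obtain ⟨inst⟩ : Nonempty (Module (ZMod p) (Additive E)) := ⟨AddCommGroup.zmodModule hpV⟩
  let φ : Γ → (Additive E ≃ₗ[ZMod p] Additive E) := fun h =>
    { (MulEquiv.toAdditive (MulAut.conjNormal (H := E) h)) with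
      map_smul' := fun c x =>
        ZMod.map_smul (MulEquiv.toAdditive (MulAut.conjNormal (H := E) h)) c x }
  have hφ : ∀ (h : Γ) (v : Additive E), φ h v =
      Additive.ofMul (MulAut.conjNormal (H := E) h (Additive.toMul v)) := fun h v => rfl
  refine ⟨Additive E, inferInstance, inst, Additive.ofMul,
    { toFun := φ
      map_one' := ?_
      map_mul' := ?_ }, fun a b => rfl, ?_⟩
  · apply LinearEquiv.ext
    intro v
    rw [hφ]
    simp
  · intro a b
    apply LinearEquiv.ext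
    intro v
    rw [LinearEquiv.mul_apply, hφ, hφ, hφ]
    simp [map_mul]
  · intro h k
    show φ h (Additive.ofMul k) = _
    rw [hφ]
    congr 1

/-- a quotient by the kernel of a surjective homomorphism -/
theorem iso_of_ker_eq {Γ S : Type*} [Group Γ] [Group S] (K : Subgroup Γ) [K.Normal]
    (φ : Γ →* S) (hker : φ.ker = K) (hsurj : Function.Surjective φ) : Nonempty (Γ ⧸ K ≃* S) :=
  ⟨(QuotientGroup.quotientMulEquivOfEq hker.symm).trans
    (QuotientGroup.quotientKerEquivOfSurjective φ hsurj)⟩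

theorem inj_of_ker_eq {Γ S : Type*} [Group Γ] [Group S] (K : Subgroup Γ) [K.Normal]
    (φ : Γ →* S) (hker : φ.ker = K) : ∃ f : Γ ⧸ K →* S, Function.Injective f :=
  ⟨(QuotientGroup.kerLift φ).comp (QuotientGroup.quotientMulEquivOfEq hker.symm).toMonoidHom,
    (QuotientGroup.kerLift_injective φ).comp (QuotientGroup.quotientMulEquivOfEq hker.symm).injective⟩

end Cfsg.Agent.Helper23.EqOrdAsm

namespace Cfsg.Agent.Helper23.EqOrdAsm

/-- the affine action built from a linear representation and a cocycle -/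
theorem exists_affine_hom {Γ : Type*} [Group Γ] (E : Subgroup Γ) [hEn : E.Normal]
    {p : ℕ} {V : Type*} [AddCommGroup V] [Module (ZMod p) V] (ε : E ≃ V)
    (ρ : Γ →* (V ≃ₗ[ZMod p] V))
    (hε : ∀ a b : E, ε (a * b) = ε a + ε b)
    (hρ : ∀ (g : Γ) (k : E), ρ g (ε k) = ε ⟨g * k * g⁻¹, hEn.conj_mem k k.2 g⟩)
    (c : Γ → E) (hc1 : ∀ x : E, c (x : Γ) = x)
    (hcm : ∀ g h : Γ, c (g * h) = c g * ⟨g * (c h : Γ) * g⁻¹, hEn.conj_mem _ (c h).2 g⟩)
    {R : Type*} [AddCommGroup R] (e : V ≃+ R) :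
    ∃ φ : Γ →* Equiv.Perm R, ∀ g z, φ g z = e (ε (c g)) + e (ρ g (e.symm z)) := by
  have hε1 : ε 1 = 0 := by
    have := hε 1 1
    rw [mul_one] at this
    exact left_eq_add.mp this
  have hc_one : c 1 = 1 := by
    have := hc1 1
    simpa using this
  let aff : Γ → Equiv.Perm V := fun g => (ρ g).toEquiv.trans (Equiv.addLeft (ε (c g)))
  have haff : ∀ g v, aff g v = ε (c g) + ρ g v := fun g v => rfl
  let affHom : Γ →* Equiv.Perm V :=
    { toFun := aff
      map_one' := by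
        ext v
        rw [haff, hc_one, hε1, map_one]
        simp
      map_mul' := by
        intro g h
        ext v
        rw [Equiv.Perm.mul_apply, haff, haff, haff, hcm, hε, ← hρ, map_mul, map_add,
          LinearEquiv.mul_apply, add_assoc] }
  refine ⟨(e.toEquiv.permCongrHom).toMonoidHom.comp affHom, fun g z => ?_⟩
  show e (aff g (e.symm z)) = _
  rw [haff, map_add]

end Cfsg.Agent.Helper23.EqOrdAsm

namespace Cfsg.Agent.Helper23.EqOrdAsm

open Cfsg.Agent.Helper23.EqOrdPieces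

/-- the subgroup of `Γ` inside `E` corresponding to an additive subgroup of `V` -/
def pull {Γ : Type*} [Group Γ] (E : Subgroup Γ) {V : Type*} [AddCommGroup V] (ε : E ≃ V)
    (hε : ∀ a b : E, ε (a * b) = ε a + ε b) (L : AddSubgroup V) : Subgroup Γ where
  carrier := {x | ∃ hx : x ∈ E, ε ⟨x, hx⟩ ∈ L}
  one_mem' := by
    refine ⟨E.one_mem, ?_⟩
    have h1 : ε 1 = 0 := by
      have := hε 1 1
      rw [mul_one] at this
      exact left_eq_add.mp this
    have : (⟨1, E.one_mem⟩ : E) = 1 := rfl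
    rw [this, h1]
    exact L.zero_mem
  mul_mem' := by
    rintro a b ⟨ha, ha'⟩ ⟨hb, hb'⟩
    refine ⟨E.mul_mem ha hb, ?_⟩
    have : (⟨a * b, E.mul_mem ha hb⟩ : E) = ⟨a, ha⟩ * ⟨b, hb⟩ := rfl
    rw [this, hε]
    exact L.add_mem ha' hb'
  inv_mem' := by
    rintro a ⟨ha, ha'⟩
    refine ⟨E.inv_mem ha, ?_⟩
    have h1 : ε 1 = 0 := by
      have := hε 1 1
      rw [mul_one] at this
      exact left_eq_add.mp this
    have h2 : ε (⟨a, ha⟩⁻¹) = - ε ⟨a, ha⟩ := by
      have := hε ⟨a, ha⟩ (⟨a, ha⟩⁻¹)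
      rw [mul_inv_cancel, h1] at this
      exact (neg_eq_of_add_eq_zero_right this.symm).symm
    have : (⟨a⁻¹, E.inv_mem ha⟩ : E) = ⟨a, ha⟩⁻¹ := rfl
    rw [this, h2]
    exact L.neg_mem ha'

theorem pull_le {Γ : Type*} [Group Γ] (E : Subgroup Γ) {V : Type*} [AddCommGroup V] (ε : E ≃ V)
    (hε : ∀ a b : E, ε (a * b) = ε a + ε b) (L : AddSubgroup V) : pull E ε hε L ≤ E :=
  fun _ hx => hx.1

theorem card_pull {Γ : Type*} [Group Γ] (E : Subgroup Γ) {V : Type*} [AddCommGroup V] (ε : E ≃ V)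
    (hε : ∀ a b : E, ε (a * b) = ε a + ε b) (L : AddSubgroup V) :
    Nat.card (pull E ε hε L) = Nat.card L := by
  refine Nat.card_congr (Equiv.ofBijective
    (fun x : pull E ε hε L => (⟨ε ⟨x.1, x.2.1⟩, x.2.2⟩ : L)) ⟨?_, ?_⟩)
  · intro a b hab
    have h1 : ε ⟨a.1, a.2.1⟩ = ε ⟨b.1, b.2.1⟩ := congrArg Subtype.val hab
    have h2 := ε.injective h1
    have h3 : (a : Γ) = (b : Γ) := congrArg (fun t : E => (t : Γ)) h2
    exact Subtype.ext h3
  · rintro ⟨v, hv⟩
    refine ⟨⟨(ε.symm v : Γ), (ε.symm v).2, ?_⟩, ?_⟩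
    · simpa using hv
    · apply Subtype.ext
      simp

end Cfsg.Agent.Helper23.EqOrdAsm
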