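import Mathlib

/-!
# Burnside fusion in an abelian Sylow subgroup (for S4025)

If `p`-subgroups of equal order are conjugate in `G` and the Sylow `p`-subgroup `P` is abelian,
then subgroups of `P` of equal order are conjugate under the normalizer of `P`.
-/

set_option autoImplicit false

open scoped Pointwise

namespace Cfsg.Agent.Helper23.EqOrdFus

variable {G : Type*} [Group G]

theorem mem_smul_sylow {p : ℕ} (g : G) (P : Sylow p G) (y : G) :
    y ∈ ((g • P : Sylow p G) : Subgroup G) ↔ ∃ x ∈ (P : Subgroup G), y = g * x * g⁻¹ := by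
  rw [Sylow.coe_subgroup_smul, Subgroup.mem_pointwise_smul_iff_inv_smul_mem]
  constructor
  · intro h
    refine ⟨_, h, ?_⟩
    simp [MulAut.smul_def, mul_assoc]
  · rintro ⟨x, hx, rfl⟩
    simpa [MulAut.smul_def, MulAut.conj_apply, mul_assoc] using hx

theorem fusion [Finite G] {p : ℕ} [Fact p.Prime]
    (hC : ∀ H K : Subgroup G, IsPGroup p H → IsPGroup p K → Nat.card H = Nat.card K →
      ∃ g : G, K = H.map (MulAut.conj g).toMonoidHom)
    (P : Sylow p G) (hab : ∀ x ∈ (P : Subgroup G), ∀ y ∈ (P : Subgroup G), x * y = y * x)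
    (H K : Subgroup G) (hH : H ≤ P) (hK : K ≤ P) (hcard : Nat.card H = Nat.card K) :
    ∃ g ∈ Subgroup.normalizer ((P : Subgroup G) : Set G),
      K = H.map (MulAut.conj g).toMonoidHom := by
  obtain ⟨g, hg⟩ := hC H K (P.2.to_le hH) (P.2.to_le hK) hcard
  have hKmem : ∀ k, k ∈ K ↔ ∃ h ∈ H, k = g * h * g⁻¹ := by
    intro k
    rw [hg, Subgroup.mem_map]
    constructor
    · rintro ⟨h, hh, rfl⟩; exact ⟨h, hh, rfl⟩
    · rintro ⟨h, hh, rfl⟩; exact ⟨h, hh, rfl⟩
  -- P ≤ C
  have hPC : (P : Subgroup G) ≤ Subgroup.centralizer (K : Set G) := by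
    intro x hx
    rw [Subgroup.mem_centralizer_iff]
    intro k hk
    exact hab k (hK hk) x hx
  have hQC : ((g • P : Sylow p G) : Subgroup G) ≤ Subgroup.centralizer (K : Set G) := by
    intro y hy
    obtain ⟨x, hx, rfl⟩ := (mem_smul_sylow g P y).1 hy
    rw [Subgroup.mem_centralizer_iff]
    intro k hk
    obtain ⟨h, hh, rfl⟩ := (hKmem k).1 hk
    have := hab h (hH hh) x hx
    calc g * h * g⁻¹ * (g * x * g⁻¹) = g * (h * x) * g⁻¹ := by group
      _ = g * (x * h) * g⁻¹ := by rw [this]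
      _ = g * x * g⁻¹ * (g * h * g⁻¹) := by group
  -- Sylow conjugacy inside C
  obtain ⟨c, hc⟩ := MulAction.exists_smul_eq (↥(Subgroup.centralizer (K : Set G)))
    ((g • P).subtype hQC) (P.subtype hPC)
  simp_rw [Sylow.smul_subtype, Subgroup.smul_def, smul_smul] at hc
  have hnorm : (c : G) * g ∈ Subgroup.normalizer ((P : Subgroup G) : Set G) :=
    Sylow.smul_eq_iff_mem_normalizer.mp (Sylow.subtype_injective hc)
  have hcent : ∀ k ∈ K, (c : G) * k = k * c := by
    intro k hk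
    have := c.2
    rw [Subgroup.mem_centralizer_iff] at this
    exact (this k hk).symm
  have hconj : ∀ h ∈ H, (c : G) * g * h * ((c : G) * g)⁻¹ = g * h * g⁻¹ := by
    intro h hh
    have hk : g * h * g⁻¹ ∈ K := (hKmem _).2 ⟨h, hh, rfl⟩
    have hcy := hcent _ hk
    calc (c : G) * g * h * ((c : G) * g)⁻¹ = ((c : G) * (g * h * g⁻¹)) * (c : G)⁻¹ := by group
      _ = (g * h * g⁻¹ * c) * (c : G)⁻¹ := by rw [hcy]
      _ = g * h * g⁻¹ := by group
  refine ⟨(c : G) * g, hnorm, ?_⟩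
  ext y
  rw [Subgroup.mem_map, hKmem]
  constructor
  · rintro ⟨h, hh, rfl⟩
    refine ⟨h, hh, ?_⟩
    simp only [MulEquiv.coe_toMonoidHom, MulAut.conj_apply]
    exact hconj h hh
  · rintro ⟨h, hh, rfl⟩
    refine ⟨h, hh, ?_⟩
    simp only [MulEquiv.coe_toMonoidHom, MulAut.conj_apply]
    exact hconj h hh

end Cfsg.Agent.Helper23.EqOrdFus
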