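import Mathlib
import Cfsg.Prelude.Def_Solvable
import Cfsg.Prelude.Def_Perm
import Cfsg.Prelude.Def_CaseTheorems
import Cfsg.Agent.Helper23.EqOrdCore
import Cfsg.Agent.Helper23.EqOrdSemi
import Cfsg.Agent.Helper23.EqOrdAsm
import Cfsg.Agent.Helper23.EqOrdPieces

/-!
# Assembly for S4025 (abstract form): a finite group `Γ` with a normal elementary abelian Sylow
`p`-subgroup `E` of order `p^n`, `n ≥ 3`, transitive on the subgroups of `E` of each order, with
`Γ / O_{p'}(Γ)` solvable.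
-/

set_option autoImplicit false

universe u

namespace Cfsg.Agent.Helper23.EqOrdMain

open Cfsg.Agent.Helper23.EqOrdPieces Cfsg.Agent.Helper23.EqOrdAsm

theorem asm {Γ : Type u} [Group Γ] [Finite Γ] {p : ℕ} [Fact p.Prime] (E : Subgroup Γ)
    [hEn : E.Normal]
    (hab : ∀ x ∈ E, ∀ y ∈ E, x * y = y * x) (hexp : ∀ x ∈ E, x ^ p = 1)
    {n : ℕ} (hn : 3 ≤ n) (hcard : Nat.card E = p ^ n) (hidx : ¬ p ∣ E.index)
    (hsolv : Group.IsSolvable (Γ ⧸ Cfsg.pPrimeCore p Γ))
    (htr : ∀ k : ℕ, ∀ H K : Subgroup Γ, H ≤ E → K ≤ E → Nat.card H = p ^ k →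
      Nat.card K = p ^ k → ∃ g : Γ, ∀ x ∈ H, g * x * g⁻¹ ∈ K) :
    (n = 3 ∧ (∃ f : Γ ⧸ Cfsg.pPrimeCore p Γ →* Cfsg.semiaffineGroup (GaloisField p n),
        Function.Injective f) ∧
      (p = 2 → Nonempty (Γ ⧸ Cfsg.pPrimeCore p Γ ≃* Cfsg.semiaffineGroup (GaloisField p n)) ∨
               Nonempty (Γ ⧸ Cfsg.pPrimeCore p Γ ≃* Cfsg.affineGroup (GaloisField p n)))) ∨
    (n = 5 ∧ p = 2 ∧
      Nonempty (Γ ⧸ Cfsg.pPrimeCore p Γ ≃* Cfsg.semiaffineGroup (GaloisField p n))) := by
  have hEp : IsPGroup p E := IsPGroup.of_card hcard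
  obtain ⟨V, _, _, ε, ρ, hε, hρ⟩ := exists_linear_rep E hab hexp
  obtain ⟨c, hc1, hcm, hK⟩ := exists_cocycle E hab hEp hidx
  haveI : Finite V := Finite.of_equiv E ε
  have hV : Nat.card V = p ^ n := by rw [← hcard]; exact (Nat.card_congr ε).symm
  haveI : Nontrivial V := by
    apply (Finite.one_lt_card_iff_nontrivial).1
    rw [hV]
    exact Nat.one_lt_pow (by omega) (Fact.out : p.Prime).one_lt
  set K := Cfsg.pPrimeCore p Γ with hKdef
  -- K acts trivially
  have hKker : K ≤ ρ.ker := by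
    intro k hk
    rw [MonoidHom.mem_ker]
    apply LinearEquiv.ext
    intro v
    obtain ⟨x, rfl⟩ := ε.surjective v
    rw [hρ]
    have := ((hK k).1 hk).2 x x.2
    simp only [LinearEquiv.coe_one, id_eq]
    congr 1
    exact Subtype.ext this
  let ρbar : Γ ⧸ K →* (V ≃ₗ[ZMod p] V) := QuotientGroup.lift K ρ hKker
  have hρbar : ∀ g : Γ, ρbar (QuotientGroup.mk g) = ρ g := fun g => rfl
  -- transitivity
  have htrans : ∀ k : ℕ, ∀ L L' : AddSubgroup V, Nat.card L = p ^ k → Nat.card L' = p ^ k →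
      ∃ g : Γ ⧸ K, ∀ v ∈ L, ρbar g v ∈ L' := by
    intro k L L' hL hL'
    obtain ⟨g, hg⟩ := htr k (pull E ε hε L) (pull E ε hε L') (pull_le E ε hε L)
      (pull_le E ε hε L') (by rw [card_pull, hL]) (by rw [card_pull, hL'])
    refine ⟨QuotientGroup.mk g, fun v hv => ?_⟩
    obtain ⟨x, rfl⟩ := ε.surjective v
    rw [hρbar, hρ]
    have hx : (x : Γ) ∈ pull E ε hε L := ⟨x.2, hv⟩
    obtain ⟨_, h⟩ := hg x hx
    exact h
  have h1 := htrans 1
  rw [pow_one] at h1
  obtain ⟨hcases, e, hsemi, h52, h32⟩ :=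
    EqOrdCore.core (p := p) hn hV hsolv ρbar h1 (htrans 2)
  -- the affine homomorphism
  obtain ⟨φ, hφ⟩ := exists_affine_hom E ε ρ hε hρ c hc1 hcm e
  have hε1 : ε 1 = 0 := by
    have := hε 1 1
    rw [mul_one] at this
    exact left_eq_add.mp this
  -- kernel of φ
  have hker : φ.ker = K := by
    ext g
    rw [MonoidHom.mem_ker, hK]
    constructor
    · intro h
      have h0 := congrArg (fun τ : Equiv.Perm (GaloisField p n) => τ 0) h
      simp only [hφ, map_zero, add_zero, Equiv.Perm.coe_one, id_eq] at h0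
      have hcg : c g = 1 := by
        apply ε.injective
        rw [hε1]
        exact (AddEquiv.map_eq_zero_iff e).1 h0
      refine ⟨hcg, fun x hx => ?_⟩
      have hz := congrArg (fun τ : Equiv.Perm (GaloisField p n) => τ (e (ε ⟨x, hx⟩))) h
      simp only [hφ, hcg, hε1, map_zero, zero_add, AddEquiv.symm_apply_apply,
        Equiv.Perm.coe_one, id_eq] at hz
      have h2 := e.injective hz
      rw [hρ] at h2
      have h3 := ε.injective h2
      exact congrArg Subtype.val h3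
    · rintro ⟨hcg, hcent⟩
      ext z
      rw [hφ, hcg, hε1, map_zero, zero_add]
      obtain ⟨x, hx⟩ := ε.surjective (e.symm z)
      rw [← hx, hρ]
      have : (⟨g * x * g⁻¹, hEn.conj_mem x x.2 g⟩ : E) = x := Subtype.ext (hcent x x.2)
      rw [this, hx]
      simp
  -- the linear part of φ g
  have hlin : ∀ g : Γ, ∀ (a : GaloisField p n) (σ : GaloisField p n ≃+* GaloisField p n),
      (∀ v : V, e (ρ g v) = a * σ (e v)) → ∀ z, φ g z = a * σ z + e (ε (c g)) := by
    intro g a σ h z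
    rw [hφ, h, add_comm]
    simp
  -- translations
  have hρE : ∀ x : E, ρ (x : Γ) = 1 := by
    intro x
    apply LinearEquiv.ext
    intro v
    obtain ⟨y, rfl⟩ := ε.surjective v
    rw [hρ]
    simp only [LinearEquiv.coe_one, id_eq]
    congr 1
    apply Subtype.ext
    show (x : Γ) * y * (x : Γ)⁻¹ = y
    rw [hab x x.2 y y.2, mul_inv_cancel_right]
  have hcE : ∀ (x : E) (g : Γ), c ((x : Γ) * g) = x * c g := by
    intro x g
    rw [hcm, hc1]
    congr 1
    apply Subtype.ext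
    show (x : Γ) * (c g : Γ) * (x : Γ)⁻¹ = c g
    rw [hab x x.2 (c g) (c g).2, mul_inv_cancel_right]
  -- realise a prescribed semiaffine map with given linear part
  have hreal : ∀ (a : GaloisField p n) (σ : GaloisField p n ≃+* GaloisField p n)
      (b : GaloisField p n), (∃ g : Γ ⧸ K, ∀ v : V, e (ρbar g v) = a * σ (e v)) →
      ∃ g : Γ, ∀ z, φ g z = a * σ z + b := by
    rintro a σ b ⟨gbar, hg⟩
    obtain ⟨g, rfl⟩ := QuotientGroup.mk_surjective gbar
    have hg' : ∀ v : V, e (ρ g v) = a * σ (e v) := hg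
    let x : E := ε.symm (e.symm b - ε (c g))
    refine ⟨(x : Γ) * g, fun z => ?_⟩
    have hlin' : ∀ v : V, e (ρ ((x : Γ) * g) v) = a * σ (e v) := by
      intro v
      rw [map_mul, hρE, one_mul, hg']
    rw [hlin _ a σ hlin' z, hcE, hε]
    show a * σ z + e (ε (ε.symm (e.symm b - ε (c g))) + ε (c g)) = _
    rw [Equiv.apply_symm_apply, sub_add_cancel, AddEquiv.apply_symm_apply]
  -- φ maps into the semiaffine group
  have hmem : ∀ g : Γ, φ g ∈ Cfsg.semiaffineGroup (GaloisField p n) := by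
    intro g
    obtain ⟨a, σ, h⟩ := hsemi (QuotientGroup.mk g)
    have ha : a ≠ 0 := EqOrdSemi.ne_zero_of_semi e (ρ g) a σ h
    exact ⟨Units.mk0 a ha, e (ε (c g)), σ, fun z => hlin g a σ h z⟩
  let φ' : Γ →* Cfsg.semiaffineGroup (GaloisField p n) :=
    φ.codRestrict (Cfsg.semiaffineGroup (GaloisField p n)) hmem
  have hker' : φ'.ker = K := by
    rw [← hker]
    ext g
    rw [MonoidHom.mem_ker, MonoidHom.mem_ker]
    constructor
    · intro h; exact congrArg Subtype.val h
    · intro h; exact Subtype.ext h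
  -- surjectivity when the linear parts are everything
  have hsurj_of : (∀ (a : GaloisField p n) (σ : GaloisField p n ≃+* GaloisField p n), a ≠ 0 →
      ∃ g : Γ ⧸ K, ∀ v : V, e (ρbar g v) = a * σ (e v)) → Function.Surjective φ' := by
    intro hall
    rintro ⟨τ, a, b, σ, hτ⟩
    obtain ⟨g, hg⟩ := hreal (a : GaloisField p n) σ b (hall _ σ a.ne_zero)
    refine ⟨g, Subtype.ext (Equiv.ext fun z => ?_)⟩
    show φ g z = τ z
    rw [hg, hτ]
  rcases hcases with rfl | ⟨rfl, rfl⟩
  · left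
    refine ⟨rfl, inj_of_ker_eq K φ' hker', fun hp2 => ?_⟩
    rcases h32 hp2 rfl with hall | ⟨hsc, hall⟩
    · left
      exact iso_of_ker_eq K φ' hker' (hsurj_of hall)
    · right
      -- the image is the affine group
      have hmem2 : ∀ g : Γ, φ g ∈ Cfsg.affineGroup (GaloisField p 3) := by
        intro g
        obtain ⟨a, h⟩ := hsc (QuotientGroup.mk g)
        have h' : ∀ v : V, e (ρ g v) = a * (RingEquiv.refl _) (e v) := fun v => by
          rw [← hρbar, h]; rfl
        have ha : a ≠ 0 := EqOrdSemi.ne_zero_of_semi e (ρ g) a _ h'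
        exact ⟨Units.mk0 a ha, e (ε (c g)), fun z => by rw [hlin g a _ h' z]; rfl⟩
      let φ₂ : Γ →* Cfsg.affineGroup (GaloisField p 3) :=
        φ.codRestrict (Cfsg.affineGroup (GaloisField p 3)) hmem2
      have hker₂ : φ₂.ker = K := by
        rw [← hker]
        ext g
        rw [MonoidHom.mem_ker, MonoidHom.mem_ker]
        constructor
        · intro h; exact congrArg Subtype.val h
        · intro h; exact Subtype.ext h
      apply iso_of_ker_eq K φ₂ hker₂
      rintro ⟨τ, a, b, hτ⟩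
      obtain ⟨g, hg⟩ := hreal (a : GaloisField p 3) (RingEquiv.refl _) b (by
        obtain ⟨g, hg⟩ := hall _ a.ne_zero
        exact ⟨g, fun v => by rw [hg]; rfl⟩)
      refine ⟨g, Subtype.ext (Equiv.ext fun z => ?_)⟩
      show φ g z = τ z
      rw [hg, hτ]; rfl
  · right
    exact ⟨rfl, rfl, iso_of_ker_eq K φ' hker' (hsurj_of (h52 rfl rfl))⟩

end Cfsg.Agent.Helper23.EqOrdMain
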