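import Mathlib
import Cfsg.Agent.Helper29.EsnDefs
import Cfsg.Agent.Helper23.EsnF1

set_option autoImplicit false

/-! S5877 piece CASEA: if all twists of `g` are scalar then `r · dim E_c(g) ≤ n`. -/

namespace Cfsg.Agent.S5877P

open Matrix Module

variable {n : ℕ} {F : Type*} [Field F] {r : ℕ} {Q : Subgroup (GLn n F)} {ζ : Fˣ}

theorem caseA (hC : Cfg n F r Q ζ) (g : GLn n F) (hgZ : g ∉ Zs n F)
    (hA : ∀ a ∈ Q, tw g a ∈ Zs n F) (c : F) : r * finrank F (Eig g c) ≤ n := by
  rcases Nat.eq_zero_or_pos n with hn | hn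
  · have h1 : finrank F (Eig g c) ≤ finrank F (Fin n → F) := Submodule.finrank_le _
    rw [Module.finrank_fin_fun] at h1
    have h2 : finrank F (Eig g c) = 0 := by omega
    rw [h2, mul_zero]
    exact Nat.zero_le n
  have hex : ∃ a ∈ Q, g * a ≠ a * g := by
    by_contra hcon
    push Not at hcon
    exact hgZ (hC.centG g hcon)
  obtain ⟨a, ha, hne⟩ := hex
  obtain ⟨s, hs⟩ := (mem_Zs_iff _).mp (hA a ha)
  unfold tw at hs
  -- `g a g⁻¹ = a · sc s`
  have h1 : g * a * g⁻¹ = a * sc n s := by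
    rw [← hs, mul_inv_cancel_left]
  have hs1 : s ≠ 1 := by
    intro h
    rw [h, map_one, mul_one] at h1
    apply hne
    calc g * a = g * a * g⁻¹ * g := by group
      _ = a * g := by rw [h1]
  -- `s ^ r = 1`
  obtain ⟨z, hz⟩ := (mem_Zs_iff _).mp (hC.pow a ha)
  have hsr : s ^ r = 1 := by
    have h2 : (g * a * g⁻¹) ^ r = a ^ r := by
      rw [conj_pow, hz, ← sc_comm, mul_inv_cancel_right]
    have h3 : (a * sc n s) ^ r = a ^ r * sc n (s ^ r) := by
      rw [(Commute.mul_pow (sc_comm s a).symm r), map_pow]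
    rw [h1, h3] at h2
    have h4 : sc n (s ^ r) = (1 : GLn n F) := by
      have := congrArg (fun x => (a ^ r)⁻¹ * x) h2
      simpa using this
    rw [← map_one (sc n (F := F))] at h4
    exact sc_injective hn h4
  -- `a⁻¹ g a = sc s · g`
  have hconj : a⁻¹ * g * (a⁻¹)⁻¹ = sc n s * g := by
    rw [inv_inv]
    have h5 : g * a = a * sc n s * g := by
      calc g * a = g * a * g⁻¹ * g := by group
        _ = a * sc n s * g := by rw [h1]
    rw [mul_assoc, h5, mul_assoc, inv_mul_cancel_left]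
  exact F1.core hC.prime a⁻¹ g s hs1 hsr hconj c

end Cfsg.Agent.S5877P
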