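import Mathlib

/-!
Feit–Higman project (helper16, S1142), sub-piece of AB: the trace of an idempotent real matrix
is a natural number; scaled version for `E * E = c • E`.
-/

set_option autoImplicit false

namespace Cfsg.Agent.Helper23.FHAB4

/-- the trace of an idempotent real matrix is a natural number (its rank) -/
theorem trace_idem_nat {X : Type*} [Fintype X] [DecidableEq X] (E : Matrix X X ℝ)
    (h : E * E = E) : ∃ d : ℕ, Matrix.trace E = d := by
  have hf : IsIdempotentElem (Matrix.toLin' E) := by
    show Matrix.toLin' E * Matrix.toLin' E = Matrix.toLin' E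
    rw [Module.End.mul_eq_comp, ← Matrix.toLin'_mul, h]
  have hp := LinearMap.IsIdempotentElem.isProj_range _ hf
  refine ⟨Module.finrank ℝ (LinearMap.range (Matrix.toLin' E)), ?_⟩
  rw [← Matrix.trace_toLin'_eq]
  exact hp.trace

/-- if `E * E = c • E` with `c ≠ 0` then `trace E = c * d` for a natural number `d` -/
theorem trace_quasi_idem {X : Type*} [Fintype X] [DecidableEq X] (E : Matrix X X ℝ) (c : ℝ)
    (hc : c ≠ 0) (h : E * E = c • E) : ∃ d : ℕ, Matrix.trace E = c * d := by
  have h1 : (c⁻¹ • E) * (c⁻¹ • E) = c⁻¹ • E := by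
    rw [Matrix.smul_mul, Matrix.mul_smul, h, smul_smul, smul_smul]
    congr 1
    field_simp
  obtain ⟨d, hd⟩ := trace_idem_nat _ h1
  refine ⟨d, ?_⟩
  rw [Matrix.trace_smul, smul_eq_mul] at hd
  rw [← hd]
  field_simp

end Cfsg.Agent.Helper23.FHAB4
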