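import Mathlib
import Cfsg.Prelude.Def_Characters
import Cfsg.Agent.Helper24.PermReal
import Cfsg.Agent.Helper24.Span
import Cfsg.Agent.Helper24.MinNormalLinear

set_option autoImplicit false
set_option linter.unusedSectionVars false
set_option linter.unusedVariables false
set_option linter.style.haveILetI false
set_option linter.unnecessarySimpa false

/-!
# The Frobenius–Schur indicator of a Clifford-induced character

If `N ⊴ G`, `φ ∈ Irr(N)` is real-valued, `T` contains the stabilizer of `φ` and `θ ∈ Irr(T)`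
restricts to `φ` on `N`, then the Frobenius–Schur indicator of `θ^G` equals that of `θ`.
-/

namespace Cfsg.Agent.Helper23.FSClifford

open Cfsg Cfsg.Agent.Helper24

universe u

section Abstract

variable {T : Type u} [Group T] [Fintype T] (M : Subgroup T) [hM : M.Normal] [Fintype M]
  (θ : IrrCharacter T)

omit hM in
theorem sum_ite_mem_eq [DecidablePred (· ∈ M)] (f : T → ℂ) :
    ∑ g : T, (if g ∈ M then f g else 0) = ∑ m : M, f m := by
  rw [← Finset.sum_filter]
  exact Finset.sum_subtype (Finset.univ.filter (· ∈ M)) (by simp) f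

omit hM in
theorem sum_norm_eq_card (hφ : IsIrrCharacter M (fun m : M => (θ : T → ℂ) m))
    (hreal : ∀ m : M, (starRingEnd ℂ) ((θ : T → ℂ) m) = (θ : T → ℂ) m) :
    ∑ m : M, (θ : T → ℂ) m * (θ : T → ℂ) m = (Fintype.card M : ℂ) := by
  haveI : Fintype (IrrCharacter M) := Fintype.ofFinite _
  have h1 := (isIrrCharacter_iff_classInner_self.mp hφ).2
  unfold classInner at h1
  have hc : (Nat.card M : ℂ) ≠ 0 := by exact_mod_cast Nat.card_pos.ne'
  have h2 : ∑ m : M, (θ : T → ℂ) m * (starRingEnd ℂ) ((θ : T → ℂ) m) = (Nat.card M : ℂ) := by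
    field_simp at h1
    exact h1
  rw [← Nat.card_eq_fintype_card, ← h2]
  refine Finset.sum_congr rfl fun m _ => ?_
  rw [hreal m]

/-- Insertion of the central idempotent of `φ = θ_M`. -/
theorem insert_idem (hφ : IsIrrCharacter M (fun m : M => (θ : T → ℂ) m))
    (hreal : ∀ m : M, (starRingEnd ℂ) ((θ : T → ℂ) m) = (θ : T → ℂ) m) (w : T) :
    (θ : T → ℂ) 1 * ∑ m : M, (θ : T → ℂ) m * (θ : T → ℂ) ((m : T) * w) =
      (Fintype.card M : ℂ) * (θ : T → ℂ) w := by
  classical
  set A : T → ℂ := fun g => if g ∈ M then (θ : T → ℂ) g else 0 with hA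
  have hAcf : IsClassFunction T A := by
    intro g h
    simp only [hA]
    have hmem : h * g * h⁻¹ ∈ M ↔ g ∈ M := by
      constructor
      · intro hh
        have := hM.conj_mem _ hh h⁻¹
        simpa [mul_assoc] using this
      · intro hg
        exact hM.conj_mem g hg h
    by_cases hg : g ∈ M
    · rw [if_pos hg, if_pos (hmem.mpr hg)]
      exact isClassFunction_irr θ g h
    · rw [if_neg hg, if_neg (fun hh => hg (hmem.mp hh))]
  have key := irr_sum_mul_char_mul θ A hAcf w
  have h1 : ∑ g : T, A g * (θ : T → ℂ) (g * w) =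
      ∑ m : M, (θ : T → ℂ) m * (θ : T → ℂ) ((m : T) * w) := by
    rw [← sum_ite_mem_eq M (fun g => (θ : T → ℂ) g * (θ : T → ℂ) (g * w))]
    refine Finset.sum_congr rfl fun g _ => ?_
    simp only [hA]
    split_ifs <;> simp
  have h2 : ∑ g : T, A g * (θ : T → ℂ) g = (Fintype.card M : ℂ) := by
    rw [← sum_norm_eq_card M θ hφ hreal,
      ← sum_ite_mem_eq M (fun g => (θ : T → ℂ) g * (θ : T → ℂ) g)]
    refine Finset.sum_congr rfl fun g _ => ?_
    simp only [hA]
    split_ifs <;> simp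
  rw [h1, h2] at key
  rw [key, mul_comm]

/-- The key vanishing: a twisted sum over `M` against a non-invariant twist vanishes. -/
theorem sum_twisted_eq_zero (hφ : IsIrrCharacter M (fun m : M => (θ : T → ℂ) m))
    (hreal : ∀ m : M, (starRingEnd ℂ) ((θ : T → ℂ) m) = (θ : T → ℂ) m)
    (σ : M ≃* M) (hφ' : IsIrrCharacter M (fun m : M => (θ : T → ℂ) (σ m)))
    (hne : (fun m : M => (θ : T → ℂ) (σ m)) ≠ (fun m : M => (θ : T → ℂ) m))
    (a : T) : ∑ n : M, (θ : T → ℂ) (a * (σ n : T) * (n : T)) = 0 := by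
  classical
  have hK0 : (Fintype.card M : ℂ) ≠ 0 := by
    exact_mod_cast Fintype.card_ne_zero
  have hcf := isClassFunction_irr θ
  have hcomm : ∀ u v : T, (θ : T → ℂ) (u * v) = (θ : T → ℂ) (v * u) := by
    intro u v
    have := hcf (u * v) v
    rw [← this]
    group
  have hφcf : IsClassFunction M (fun m : M => (θ : T → ℂ) m) :=
    IsCharacter.isClassFunction (IsIrrCharacter.isCharacter hφ)
  have hφ'cf : IsClassFunction M (fun m : M => (θ : T → ℂ) (σ m)) :=
    IsCharacter.isClassFunction (IsIrrCharacter.isCharacter hφ')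
  -- the inner sum vanishes
  have hinner : ∀ m' k' : M, ∑ n : M, (θ : T → ℂ) ((m' * n⁻¹ : M) : T) *
      (θ : T → ℂ) ((k' * (σ n)⁻¹ : M) : T) = 0 := by
    intro m' k'
    set χ' : IrrCharacter M := ⟨fun m : M => (θ : T → ℂ) (σ m), hφ'⟩ with hχ'
    set x : M := σ.symm k' * m'⁻¹ with hx
    have key := irr_sum_mul_char_mul χ' (fun m : M => (θ : T → ℂ) m) hφcf x
    have hz : ∑ g : M, (fun m : M => (θ : T → ℂ) m) g * (χ' : M → ℂ) g = 0 := by
      have h1 := classInner_of_isIrrCharacter hφ' hφ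
      rw [if_neg hne] at h1
      unfold classInner at h1
      have hc : (Nat.card M : ℂ) ≠ 0 := by exact_mod_cast Nat.card_pos.ne'
      rcases mul_eq_zero.mp h1 with h2 | h2
      · exact absurd (inv_eq_zero.mp h2) hc
      · rw [← h2]
        refine Finset.sum_congr rfl fun g _ => ?_
        show (θ : T → ℂ) g * (θ : T → ℂ) (σ g) = _
        rw [hreal g, mul_comm]
    rw [hz, mul_zero] at key
    have h3 : ∑ g : M, (fun m : M => (θ : T → ℂ) m) g * (χ' : M → ℂ) (g * x) = 0 := by
      rcases mul_eq_zero.mp key with h | h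
      · exact absurd h (irr_one_ne_zero χ')
      · exact h
    rw [← h3]
    refine Fintype.sum_equiv ((Equiv.inv M).trans (Equiv.mulLeft m')) _ _ ?_
    intro n
    show (θ : T → ℂ) ((m' * n⁻¹ : M) : T) * (θ : T → ℂ) ((k' * (σ n)⁻¹ : M) : T) =
      (θ : T → ℂ) ((m' * n⁻¹ : M) : T) * (θ : T → ℂ) (σ ((m' * n⁻¹) * x))
    congr 1
    have h4 : (θ : T → ℂ) (σ ((m' * n⁻¹) * x)) = (θ : T → ℂ) (σ (x * (m' * n⁻¹))) := by
      have := hφ'cf (x * (m' * n⁻¹)) (m' * n⁻¹)
      simp only at this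
      rw [← this]
      group
    rw [h4, hx]
    rw [map_mul, map_mul, MulEquiv.apply_symm_apply, map_mul, map_inv, map_inv]
    group
  -- first insertion
  have h1 : ∀ n : M, (Fintype.card M : ℂ) * (θ : T → ℂ) (a * (σ n : T) * (n : T)) =
      (θ : T → ℂ) 1 * ∑ m' : M, (θ : T → ℂ) ((m' * n⁻¹ : M) : T) *
        (θ : T → ℂ) ((m' : T) * a * (σ n : T)) := by
    intro n
    rw [hcomm (a * (σ n : T)) (n : T), ← insert_idem M θ hφ hreal ((n : T) * (a * (σ n : T)))]
    congr 1
    refine Fintype.sum_equiv (Equiv.mulRight n) _ _ ?_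
    intro m
    show (θ : T → ℂ) m * (θ : T → ℂ) ((m : T) * ((n : T) * (a * (σ n : T)))) =
      (θ : T → ℂ) (((m * n) * n⁻¹ : M) : T) * (θ : T → ℂ) (((m * n : M) : T) * a * (σ n : T))
    rw [mul_inv_cancel_right, Subgroup.coe_mul]
    congr 2
    group
  -- second insertion
  have h2 : ∀ n m' : M, (Fintype.card M : ℂ) * (θ : T → ℂ) ((m' : T) * a * (σ n : T)) =
      (θ : T → ℂ) 1 * ∑ k' : M, (θ : T → ℂ) ((k' * (σ n)⁻¹ : M) : T) *
        (θ : T → ℂ) ((k' : T) * (m' : T) * a) := by
    intro n m'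
    rw [hcomm ((m' : T) * a) (σ n : T),
      ← insert_idem M θ hφ hreal ((σ n : T) * ((m' : T) * a))]
    congr 1
    refine Fintype.sum_equiv (Equiv.mulRight (σ n)) _ _ ?_
    intro k
    show (θ : T → ℂ) k * (θ : T → ℂ) ((k : T) * ((σ n : T) * ((m' : T) * a))) =
      (θ : T → ℂ) (((k * σ n) * (σ n)⁻¹ : M) : T) *
        (θ : T → ℂ) (((k * σ n : M) : T) * (m' : T) * a)
    rw [mul_inv_cancel_right, Subgroup.coe_mul]
    congr 2
    group
  -- combine
  have hfinal : (Fintype.card M : ℂ) * ((Fintype.card M : ℂ) *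
      ∑ n : M, (θ : T → ℂ) (a * (σ n : T) * (n : T))) = 0 := by
    rw [Finset.mul_sum, Finset.mul_sum]
    have e1 : ∀ n : M, (Fintype.card M : ℂ) * ((Fintype.card M : ℂ) *
        (θ : T → ℂ) (a * (σ n : T) * (n : T))) =
        ∑ m' : M, ∑ k' : M, (θ : T → ℂ) 1 * (θ : T → ℂ) 1 *
          (θ : T → ℂ) ((k' : T) * (m' : T) * a) *
          ((θ : T → ℂ) ((m' * n⁻¹ : M) : T) * (θ : T → ℂ) ((k' * (σ n)⁻¹ : M) : T)) := by
      intro n
      rw [h1 n, Finset.mul_sum, Finset.mul_sum]
      refine Finset.sum_congr rfl fun m' _ => ?_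
      rw [show (Fintype.card M : ℂ) * ((θ : T → ℂ) 1 * ((θ : T → ℂ) ((m' * n⁻¹ : M) : T) *
          (θ : T → ℂ) ((m' : T) * a * (σ n : T)))) =
          (θ : T → ℂ) 1 * (θ : T → ℂ) ((m' * n⁻¹ : M) : T) *
          ((Fintype.card M : ℂ) * (θ : T → ℂ) ((m' : T) * a * (σ n : T))) by ring,
        h2 n m', Finset.mul_sum, Finset.mul_sum]
      refine Finset.sum_congr rfl fun k' _ => ?_
      ring
    simp_rw [e1]
    rw [Finset.sum_comm]
    refine Finset.sum_eq_zero fun m' _ => ?_
    rw [Finset.sum_comm]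
    refine Finset.sum_eq_zero fun k' _ => ?_
    rw [← Finset.mul_sum, hinner m' k', mul_zero]
  rcases mul_eq_zero.mp hfinal with h | h
  · exact absurd h hK0
  · rcases mul_eq_zero.mp h with h' | h'
    · exact absurd h' hK0
    · exact h'

end Abstract

section GLevel

variable {G : Type u} [Group G] [Fintype G] (N : Subgroup G) [hN : N.Normal] (I : Subgroup G)
  [Fintype I] (hNI : N ≤ I)

/-- Conjugation by `x⁻¹` on `N`, viewed inside `I`. -/
noncomputable def conjM (x : G) : N.subgroupOf I ≃* N.subgroupOf I where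
  toFun m := ⟨⟨x⁻¹ * ((m : I) : G) * x, hNI (by
      have := hN.conj_mem _ (Subgroup.mem_subgroupOf.mp m.2) x⁻¹
      simpa using this)⟩, by
      rw [Subgroup.mem_subgroupOf]
      have := hN.conj_mem _ (Subgroup.mem_subgroupOf.mp m.2) x⁻¹
      simpa using this⟩
  invFun m := ⟨⟨x * ((m : I) : G) * x⁻¹, hNI
      (hN.conj_mem _ (Subgroup.mem_subgroupOf.mp m.2) x)⟩, by
      rw [Subgroup.mem_subgroupOf]
      exact hN.conj_mem _ (Subgroup.mem_subgroupOf.mp m.2) x⟩
  left_inv m := by
    apply Subtype.ext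
    apply Subtype.ext
    simp only
    group
  right_inv m := by
    apply Subtype.ext
    apply Subtype.ext
    simp only
    group
  map_mul' m m' := by
    apply Subtype.ext
    apply Subtype.ext
    simp only [Subgroup.coe_mul]
    group

theorem conjM_coe (x : G) (m : N.subgroupOf I) :
    (((conjM N I hNI x m : N.subgroupOf I) : I) : G) = x⁻¹ * ((m : I) : G) * x := rfl

variable (θ : IrrCharacter I) (φ : IrrCharacter N)

/-- The vanishing of coset sums of `θ(g²)` off the inertia group. -/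
theorem sum_coset_sq_eq_zero
    (hT : ∀ g : G, (∀ h : N, (φ : N → ℂ) ⟨g * h * g⁻¹, hN.conj_mem h h.2 g⟩ = (φ : N → ℂ) h) →
      g ∈ I)
    (hθφ : ∀ n : N, (θ : I → ℂ) (Subgroup.inclusion hNI n) = (φ : N → ℂ) n)
    (hreal : ∀ n : N, (starRingEnd ℂ) ((φ : N → ℂ) n) = (φ : N → ℂ) n)
    (x : G) (hx : x ∉ I) [Fintype N] :
    ∑ n : N, extendByZero I (θ : I → ℂ) ((x * (n : G)) * (x * (n : G))) = 0 := by
  classical
  haveI : Fintype (N.subgroupOf I) := Fintype.ofFinite _
  have hdecomp : ∀ n : G, (x * n) * (x * n) = (x * x) * (x⁻¹ * n * x) * n := by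
    intro n
    group
  by_cases hxx : x * x ∈ I
  · -- the main case
    set M := N.subgroupOf I with hMdef
    set e : M ≃* N := Subgroup.subgroupOfEquivOfLe hNI with he
    have hθM : ∀ m : M, (θ : I → ℂ) (m : I) = (φ : N → ℂ) (e m) := by
      intro m
      rw [← hθφ (e m)]
      congr 1
    have hφM : IsIrrCharacter M (fun m : M => (θ : I → ℂ) m) := by
      have h1 : IsIrrCharacter M (fun m : M => (φ : N → ℂ) (e m)) :=
        Helper8.isIrrCharacter_comp_surjective e.toMonoidHom e.surjective φ.2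
      have h2 : (fun m : M => (θ : I → ℂ) m) = (fun m : M => (φ : N → ℂ) (e m)) :=
        funext hθM
      rw [h2]
      exact h1
    have hrealM : ∀ m : M, (starRingEnd ℂ) ((θ : I → ℂ) m) = (θ : I → ℂ) m := by
      intro m
      rw [hθM m]
      exact hreal _
    set σ : M ≃* M := conjM N I hNI x with hσ
    have hφ' : IsIrrCharacter M (fun m : M => (θ : I → ℂ) (σ m)) :=
      Helper8.isIrrCharacter_comp_surjective σ.toMonoidHom σ.surjective hφM
    have hne : (fun m : M => (θ : I → ℂ) (σ m)) ≠ (fun m : M => (θ : I → ℂ) m) := by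
      intro heq
      apply hx
      have hxinv : x⁻¹ ∈ I := by
        apply hT
        intro h
        have h1 := congrFun heq (e.symm h)
        rw [hθM, hθM, MulEquiv.apply_symm_apply] at h1
        rw [← h1]
        refine congrArg (φ : N → ℂ) (Subtype.ext ?_)
        show x⁻¹ * (h : G) * x⁻¹⁻¹ = ((e (σ (e.symm h)) : N) : G)
        rw [inv_inv]
        have h2 : ((e (σ (e.symm h)) : N) : G) = (((σ (e.symm h) : M) : I) : G) := rfl
        rw [h2, hσ, conjM_coe]
        have h3 : (((e.symm h : M) : I) : G) = (h : G) := by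
          have := congrArg (fun z : N => (z : G)) (e.apply_symm_apply h)
          exact this
        rw [h3]
      have := I.inv_mem hxinv
      rwa [inv_inv] at this
    have key := sum_twisted_eq_zero M θ hφM hrealM σ hφ' hne ⟨x * x, hxx⟩
    rw [← key]
    refine (Fintype.sum_equiv e.toEquiv _ _ ?_).symm
    intro m
    have h4 : (x * ((e.toEquiv m : N) : G)) * (x * ((e.toEquiv m : N) : G)) =
        (((⟨x * x, hxx⟩ : I) * ((σ m : M) : I) * ((m : M) : I) : I) : G) := by
      have h5 : ((e.toEquiv m : N) : G) = ((m : I) : G) := rfl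
      rw [h5, hdecomp, Subgroup.coe_mul, Subgroup.coe_mul, hσ, conjM_coe]
    rw [h4, Helper8.ebz_coe]
  · refine Finset.sum_eq_zero fun n _ => ?_
    apply Helper8.ebz_not_mem
    intro hmem
    apply hxx
    rw [hdecomp] at hmem
    have h1 : x⁻¹ * (n : G) * x ∈ I := hNI (by
      have := hN.conj_mem _ n.2 x⁻¹
      simpa using this)
    have h2 : (n : G) ∈ I := hNI n.2
    have h3 := I.mul_mem (I.mul_mem hmem (I.inv_mem h2)) (I.inv_mem h1)
    have h4 : x * x * (x⁻¹ * (n : G) * x) * (n : G) * (n : G)⁻¹ * (x⁻¹ * (n : G) * x)⁻¹ = x * x := by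
      group
    rwa [h4] at h3

/-- The sum of `θ(g²)` over the complement of the inertia group vanishes. -/
theorem sum_compl_sq_eq_zero
    (hT : ∀ g : G, (∀ h : N, (φ : N → ℂ) ⟨g * h * g⁻¹, hN.conj_mem h h.2 g⟩ = (φ : N → ℂ) h) →
      g ∈ I)
    (hθφ : ∀ n : N, (θ : I → ℂ) (Subgroup.inclusion hNI n) = (φ : N → ℂ) n)
    (hreal : ∀ n : N, (starRingEnd ℂ) ((φ : N → ℂ) n) = (φ : N → ℂ) n)
    [DecidablePred (· ∈ I)] :
    ∑ x ∈ Finset.univ.filter (fun x : G => ¬ x ∈ I), extendByZero I (θ : I → ℂ) (x * x) = 0 := by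
  classical
  haveI : Fintype N := Fintype.ofFinite _
  set S := Finset.univ.filter (fun x : G => ¬ x ∈ I) with hS
  have hshift : ∀ n : N, ∑ x ∈ S, extendByZero I (θ : I → ℂ) ((x * (n : G)) * (x * (n : G))) =
      ∑ x ∈ S, extendByZero I (θ : I → ℂ) (x * x) := by
    intro n
    refine Finset.sum_equiv (Equiv.mulRight (n : G)) ?_ ?_
    · intro x
      simp only [hS, Finset.mem_filter, Finset.mem_univ, true_and, Equiv.coe_mulRight]
      constructor
      · intro hx hxn
        apply hx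
        have := I.mul_mem hxn (I.inv_mem (hNI n.2))
        rwa [mul_inv_cancel_right] at this
      · intro hxn hx
        exact hxn (I.mul_mem hx (hNI n.2))
    · intro x _
      rfl
  have hK0 : (Fintype.card N : ℂ) ≠ 0 := by
    exact_mod_cast Fintype.card_ne_zero
  have htot : (Fintype.card N : ℂ) * ∑ x ∈ S, extendByZero I (θ : I → ℂ) (x * x) = 0 := by
    have h1 : (Fintype.card N : ℂ) * ∑ x ∈ S, extendByZero I (θ : I → ℂ) (x * x) =
        ∑ n : N, ∑ x ∈ S, extendByZero I (θ : I → ℂ) ((x * (n : G)) * (x * (n : G))) := by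
      simp_rw [hshift]
      rw [Finset.sum_const, Finset.card_univ, nsmul_eq_mul]
    rw [h1, Finset.sum_comm]
    refine Finset.sum_eq_zero fun x hx => ?_
    have hxI : x ∉ I := by
      simpa [hS] using hx
    exact sum_coset_sq_eq_zero N I hNI θ φ hT hθφ hreal x hxI
  rcases mul_eq_zero.mp htot with h | h
  · exact absurd h hK0
  · exact h

/-- The Frobenius–Schur indicator is preserved by Clifford induction over a real-valued
character of a normal subgroup. -/
theorem fsInd_indFun_clifford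
    (hT : ∀ g : G, (∀ h : N, (φ : N → ℂ) ⟨g * h * g⁻¹, hN.conj_mem h h.2 g⟩ = (φ : N → ℂ) h) →
      g ∈ I)
    (hθφ : ∀ n : N, (θ : I → ℂ) (Subgroup.inclusion hNI n) = (φ : N → ℂ) n)
    (hreal : ∀ n : N, (starRingEnd ℂ) ((φ : N → ℂ) n) = (φ : N → ℂ) n) :
    fsInd (indFun I (θ : I → ℂ)) = fsInd (θ : I → ℂ) := by
  classical
  unfold fsInd
  simp_rw [Helper8.indFun_def]
  rw [← Finset.mul_sum, Finset.sum_comm]
  have h1 : ∀ y : G, ∑ x : G, extendByZero I (θ : I → ℂ) (y⁻¹ * (x * x) * y) =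
      ∑ t : I, (θ : I → ℂ) (t * t) := by
    intro y
    rw [← Equiv.sum_comp (MulAut.conj y).toEquiv]
    have h2 : ∀ x : G, extendByZero I (θ : I → ℂ)
        (y⁻¹ * ((MulAut.conj y).toEquiv x * (MulAut.conj y).toEquiv x) * y) =
        extendByZero I (θ : I → ℂ) (x * x) := by
      intro x
      congr 1
      simp only [MulEquiv.toEquiv_eq_coe, EquivLike.coe_coe, MulAut.conj_apply]
      group
    simp_rw [h2]
    rw [← Finset.sum_filter_add_sum_filter_not Finset.univ (fun x : G => x ∈ I),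
      sum_compl_sq_eq_zero N I hNI θ φ hT hθφ hreal, add_zero,
      Finset.sum_subtype (Finset.univ.filter (fun x : G => x ∈ I)) (p := fun x => x ∈ I)
        (fun x => by simp)]
    refine Finset.sum_congr rfl ?_
    intro t _
    exact Helper8.ebz_mem I _ (I.mul_mem t.2 t.2)
  simp_rw [h1]
  rw [Finset.sum_const, Finset.card_univ, nsmul_eq_mul, ← Nat.card_eq_fintype_card]
  have hG : (Nat.card G : ℂ) ≠ 0 := by exact_mod_cast Nat.card_pos.ne'
  have hIc : (Nat.card I : ℂ) ≠ 0 := by exact_mod_cast Nat.card_pos.ne'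
  field_simp

end GLevel

section Main

variable {G : Type u} [Group G] [Fintype G] (N : Subgroup G) [hN : N.Normal]
  (φ : IrrCharacter N) (I : Subgroup G) [Fintype I] (hNI : N ≤ I) (ψ : IrrCharacter I)

/-- A complex number with zero imaginary part and norm one squares to one. -/
theorem mul_self_eq_one_of_real_of_norm {z : ℂ} (him : z.im = 0) (hnorm : ‖z‖ = 1) :
    z * z = 1 := by
  have h1 : z = (z.re : ℂ) := by
    apply Complex.ext
    · simp
    · simp [him]
  have h2 : ‖z‖ = |z.re| := by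
    rw [h1, Complex.norm_real]
    simp
  rw [h2] at hnorm
  have h3 : z.re * z.re = 1 := by
    rcases abs_eq (by norm_num : (0 : ℝ) ≤ 1) |>.mp hnorm with h | h <;> rw [h] <;> norm_num
  rw [h1, ← Complex.ofReal_mul, h3, Complex.ofReal_one]

omit hN in
/-- Twisting by a real linear character does not change the indicator. -/
theorem fsInd_twistExt (ν : G →* ℂˣ) (hν : ∀ g : G, ν (g * g) = 1) :
    fsInd (twistExt I ψ ν : I → ℂ) = fsInd (ψ : I → ℂ) := by
  unfold fsInd
  congr 1
  refine Finset.sum_congr rfl fun x _ => ?_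
  rw [twistExt_apply]
  have : ν ((x * x : I) : G) = 1 := by
    rw [Subgroup.coe_mul]
    exact hν x
  rw [this, Units.val_one, one_mul]

/-- Statement S4912, `Fintype`/`fsInd` version. -/
theorem card_strongly_real_linear_le
    (hmin : ∀ M : Subgroup G, M.Normal → M ≤ N → M = ⊥ ∨ M = N)
    (hna : ¬ IsMulCommutative ↥N)
    (hI : ∀ g : G, g ∈ I ↔ ∀ n n' : ↥N, (n' : G) = g * (n : G) * g⁻¹ →
      (φ : ↥N → ℂ) n' = (φ : ↥N → ℂ) n)
    (hψ : ∀ n : N, (ψ : I → ℂ) (Subgroup.inclusion hNI n) = (φ : N → ℂ) n)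
    (hψfs : fsInd (ψ : I → ℂ) = 1) :
    Nat.card {χ : IrrCharacter G // charDegree (χ : G → ℂ) = 1 ∧ fsInd (χ : G → ℂ) = 1} ≤
      I.index * Nat.card {χ : IrrCharacter G //
        charDegree (χ : G → ℂ) = charDegree (φ : ↥N → ℂ) * I.index ∧
          fsInd (χ : G → ℂ) = 1} := by
  classical
  haveI : Finite G := Finite.of_fintype G
  haveI : Fintype N := Fintype.ofFinite _
  haveI : Fintype (IrrCharacter G) := Fintype.ofFinite _
  haveI : Fintype (IrrCharacter I) := Fintype.ofFinite _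
  have hT : ∀ g : G, g ∈ I ↔ ∀ h : N,
      (φ : N → ℂ) ⟨g * h * g⁻¹, hN.conj_mem h h.2 g⟩ = (φ : N → ℂ) h := by
    intro g
    rw [hI g]
    constructor
    · intro H h
      exact H h ⟨g * h * g⁻¹, hN.conj_mem h h.2 g⟩ rfl
    · intro H n n' hn'
      have : n' = ⟨g * n * g⁻¹, hN.conj_mem n n.2 g⟩ := Subtype.ext hn'
      rw [this]
      exact H n
  -- `ψ`, hence `φ`, is real valued
  have hψreal : ∀ x : I, ((ψ : I → ℂ) x).im = 0 :=
    (fsInd_irr ψ).2 (by rw [hψfs]; exact one_ne_zero)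
  have hφreal : ∀ n : N, (starRingEnd ℂ) ((φ : N → ℂ) n) = (φ : N → ℂ) n := by
    intro n
    rw [← hψ n]
    exact Complex.conj_eq_iff_im.mpr (hψreal _)
  -- the type of strongly real linear characters
  let A := {χ : IrrCharacter G // charDegree (χ : G → ℂ) = 1 ∧ fsInd (χ : G → ℂ) = 1}
  let toLin : A → {χ : IrrCharacter G // charDegree (χ : G → ℂ) = 1} := fun χ => ⟨χ.1, χ.2.1⟩
  have hker : ∀ (χ : A) (n : G), n ∈ N → linHom (toLin χ) n = 1 :=
    fun χ => hom_eq_one_of_mem_minNormal N hmin hna (linHom (toLin χ))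
  have hsq : ∀ (χ : A) (g : G), linHom (toLin χ) (g * g) = 1 := by
    intro χ g
    apply Units.ext
    rw [map_mul, Units.val_mul, Units.val_one]
    apply mul_self_eq_one_of_real_of_norm
    · rw [linHom_apply]
      exact (fsInd_irr χ.1).2 (by rw [χ.2.2]; exact one_ne_zero) g
    · exact norm_monoidHom_eq_one ((Units.coeHom ℂ).comp (linHom (toLin χ))) g
  have hS : ∀ χ μ : A,
      IsIrrCharacter G (indFun I (twistExt I ψ (linHom (toLin χ)) : I → ℂ)) ∧
      (indFun I (twistExt I ψ (linHom (toLin χ)) : I → ℂ) =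
        indFun I (twistExt I ψ (linHom (toLin μ)) : I → ℂ) →
        (twistExt I ψ (linHom (toLin χ)) : I → ℂ) =
          (twistExt I ψ (linHom (toLin μ)) : I → ℂ)) := fun χ μ =>
    Cfsg.Agent.S1489.result N I (φ : N → ℂ) φ.2 hT hNI _ _ (twistExt I ψ (linHom (toLin χ))).2
      (twistExt I ψ (linHom (toLin μ))).2 (twistExt_over N φ I hNI ψ hψ _ (hker χ))
      (twistExt_over N φ I hNI ψ hψ _ (hker μ))
  have hfs : ∀ χ : A, fsInd (indFun I (twistExt I ψ (linHom (toLin χ)) : I → ℂ)) = 1 := by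
    intro χ
    rw [fsInd_indFun_clifford N I hNI (twistExt I ψ (linHom (toLin χ))) φ
      (fun g hg => (hT g).mpr hg) ?_ hφreal, fsInd_twistExt I ψ _ (hsq χ), hψfs]
    intro n
    rw [twistExt_apply]
    have : linHom (toLin χ) ((Subgroup.inclusion hNI n : I) : G) = 1 := hker χ _ n.2
    rw [this, Units.val_one, one_mul, hψ n]
  obtain ⟨Φ, hΦ⟩ : ∃ Φ : A →
      {χ : IrrCharacter G // charDegree (χ : G → ℂ) = charDegree (φ : ↥N → ℂ) * I.index ∧
        fsInd (χ : G → ℂ) = 1},
      ∀ χ, ((Φ χ).1 : G → ℂ) = indFun I (twistExt I ψ (linHom (toLin χ)) : I → ℂ) :=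
    ⟨fun χ => ⟨⟨indFun I (twistExt I ψ (linHom (toLin χ)) : I → ℂ), (hS χ χ).1⟩,
      charDegree_indFun_twistExt N φ I hNI ψ hψ _, hfs χ⟩, fun _ => rfl⟩
  -- the fibers
  have hfiber : ∀ b ∈ (Finset.univ : Finset A).image Φ,
      (Finset.univ.filter (fun χ => Φ χ = b)).card ≤ I.index := by
    intro b hb
    obtain ⟨χ₀, _, rfl⟩ := Finset.mem_image.mp hb
    obtain ⟨π, hπdef⟩ : ∃ π : G → ℂ,
        π = indFun I (fun x : I => ((linHom (toLin χ₀) x : ℂˣ) : ℂ)) := ⟨_, rfl⟩
    have hlamI : IsIrrCharacter I (fun x : I => ((linHom (toLin χ₀) x : ℂˣ) : ℂ)) :=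
      isIrrCharacter_of_monoidHom ((Units.coeHom ℂ).comp ((linHom (toLin χ₀)).comp I.subtype))
    have hπ : IsCharacter G π := by
      rw [hπdef]
      exact isCharacter_indFun I (IsIrrCharacter.isCharacter hlamI)
    have hπ1 : π 1 = (I.index : ℂ) := by
      rw [hπdef, Helper5.indFun_apply_one, OneMemClass.coe_one, map_one, Units.val_one, mul_one]
    have hbound := card_constituents_le hπ I.index hπ1
    refine le_trans ?_ hbound
    rw [← Fintype.card_subtype, ← Nat.card_eq_fintype_card]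
    have hmem : ∀ μ : {μ : A // Φ μ = Φ χ₀}, classInner π (μ.1.1 : G → ℂ) ≠ 0 := by
      rintro ⟨μ, hμ⟩
      have h1 : indFun I (twistExt I ψ (linHom (toLin μ)) : I → ℂ) =
          indFun I (twistExt I ψ (linHom (toLin χ₀)) : I → ℂ) := by
        rw [← hΦ μ, ← hΦ χ₀, hμ]
      have h2 := (hS μ χ₀).2 h1
      have h3 : ∀ x : I, (linHom (toLin μ) / linHom (toLin χ₀)) (x : G) = 1 := by
        intro x
        refine hom_eq_one_of_mul_eq (Subgroup.inclusion hNI) ψ ?_
          ((linHom (toLin μ) / linHom (toLin χ₀)).comp I.subtype) ?_ ?_ x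
        · have : (fun m : N => (ψ : I → ℂ) (Subgroup.inclusion hNI m)) = (φ : N → ℂ) :=
            funext hψ
          rw [this]
          exact φ.2
        · intro m
          show (linHom (toLin μ) / linHom (toLin χ₀)) (m : G) = 1
          rw [MonoidHom.div_apply, hker μ _ m.2, hker χ₀ _ m.2, div_one]
        · intro y
          show (((linHom (toLin μ) / linHom (toLin χ₀)) (y : G) : ℂˣ) : ℂ) * (ψ : I → ℂ) y =
            (ψ : I → ℂ) y
          have h4 := congrFun h2 y
          rw [twistExt_apply, twistExt_apply] at h4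
          rw [MonoidHom.div_apply, Units.val_div_eq_div_val, div_mul_eq_mul_div, h4,
            mul_div_assoc]
          exact mul_div_cancel₀ _ (Units.ne_zero _)
      have h5 : (fun x : I => (μ.1 : G → ℂ) x) =
          fun x : I => ((linHom (toLin χ₀) x : ℂˣ) : ℂ) := by
        funext x
        have h6 := h3 x
        rw [MonoidHom.div_apply, div_eq_one] at h6
        rw [← linHom_apply (toLin μ), h6]
      rw [hπdef, Helper8.frobenius_reciprocity I _ _ (isClassFunction_irr μ.1), h5,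
        (isIrrCharacter_iff_classInner_self.mp hlamI).2]
      exact one_ne_zero
    refine Nat.card_le_card_of_injective
      (fun μ : {μ : A // Φ μ = Φ χ₀} =>
        (⟨μ.1.1, hmem μ⟩ : {χ : IrrCharacter G // classInner π (χ : G → ℂ) ≠ 0})) ?_
    intro μ μ' h
    have := congrArg Subtype.val h
    exact Subtype.ext (Subtype.ext this)
  have hmain := Finset.card_le_mul_card_image (f := Φ) Finset.univ I.index hfiber
  rw [Nat.card_eq_fintype_card, Nat.card_eq_fintype_card]
  calc Fintype.card A = (Finset.univ : Finset A).card := Finset.card_univ.symm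
    _ ≤ I.index * ((Finset.univ : Finset _).image Φ).card := hmain
    _ ≤ I.index * Fintype.card {χ : IrrCharacter G //
        charDegree (χ : G → ℂ) = charDegree (φ : ↥N → ℂ) * I.index ∧
          fsInd (χ : G → ℂ) = 1} :=
        Nat.mul_le_mul_left _ (Finset.card_le_univ _)

end Main

end Cfsg.Agent.Helper23.FSClifford
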