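import Mathlib

set_option autoImplicit false
set_option linter.unusedSectionVars false
set_option linter.unusedVariables false

namespace Cfsg.Agent.Helper23.FrobNorm

open Subgroup

/-- **Norm form of the Frobenius action lemma.**  A group `B` acts on a finite abelian group `V`;
`K`, `Y` are subgroups of `B` with `Y` normalizing `K` and acting fixed-point-freely on it
(so `K Y` is a Frobenius group), `|K|` prime to `|V|`.  If the `K`-norm and the `Y`-norm both
vanish identically on `V`, then `V = 1`.  No coprimeness between `|Y|` and `|V|` is needed. -/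
theorem eq_one_of_norms_trivial {B V : Type*} [Group B] [CommGroup V] [Finite V]
    (φ : B →* Monoid.End V) (K Y : Subgroup B) [Fintype K] [Fintype Y]
    (hYK : ∀ a ∈ Y, ∀ n ∈ K, a * n * a⁻¹ ∈ K)
    (hfpf : ∀ a ∈ Y, a ≠ 1 → ∀ n ∈ K, a * n = n * a → n = 1)
    (hK : ∀ u : V, ∏ n : K, φ (n : B) u = 1)
    (hY : ∀ u : V, ∏ a : Y, φ (a : B) u = 1)
    (hcop : (Nat.card K).Coprime (Nat.card V)) (v : V) : v = 1 := by
  classical
  have hD1 : ∏ n : K, ∏ a : Y, φ ((n : B) * a * (n : B)⁻¹) v = 1 := by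
    apply Finset.prod_eq_one
    intro n _
    have h1 : ∀ a : Y, φ ((n : B) * a * (n : B)⁻¹) v
        = φ (n : B) (φ (a : B) (φ ((n : B)⁻¹) v)) := by
      intro a
      rw [map_mul, map_mul]; rfl
    simp_rw [h1]
    rw [← map_prod, hY, map_one]
  have hD2 : ∏ a : Y, ∏ n : K, φ ((n : B) * a * (n : B)⁻¹) v = v ^ Nat.card K := by
    rw [Fintype.prod_eq_single (1 : Y)]
    · have h1 : ∀ n : K, φ ((n : B) * ((1 : Y) : B) * (n : B)⁻¹) v = v := by
        intro n
        rw [Subgroup.coe_one, mul_one, mul_inv_cancel, map_one]; rfl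
      simp_rw [h1]
      rw [Finset.prod_const, Finset.card_univ, Nat.card_eq_fintype_card]
    · intro a ha
      have ha1 : (a : B) ≠ 1 := fun h => ha (Subtype.ext h)
      have hmem : ∀ n : K, (n : B) * a * (n : B)⁻¹ * (a : B)⁻¹ ∈ K := by
        intro n
        have h1 := hYK a a.2 (n : B)⁻¹ (K.inv_mem n.2)
        have e : (n : B) * a * (n : B)⁻¹ * (a : B)⁻¹ = n * ((a : B) * (n : B)⁻¹ * (a : B)⁻¹) := by
          group
        rw [e]; exact K.mul_mem n.2 h1
      let ψ : K → K := fun n => ⟨(n : B) * a * (n : B)⁻¹ * (a : B)⁻¹, hmem n⟩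
      have hψinj : Function.Injective ψ := by
        intro n m hnm
        have h1 : (n : B) * a * (n : B)⁻¹ * (a : B)⁻¹ = (m : B) * a * (m : B)⁻¹ * (a : B)⁻¹ :=
          congrArg Subtype.val hnm
        have h2 : (a : B) * ((m : B)⁻¹ * n) = ((m : B)⁻¹ * n) * a := by
          have h3 : (n : B) * a * (n : B)⁻¹ = (m : B) * a * (m : B)⁻¹ := mul_right_cancel h1
          calc (a : B) * ((m : B)⁻¹ * n) = (m : B)⁻¹ * ((m : B) * a * (m : B)⁻¹) * n := by group
            _ = (m : B)⁻¹ * ((n : B) * a * (n : B)⁻¹) * n := by rw [h3]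
            _ = ((m : B)⁻¹ * n) * a := by group
        have h4 := hfpf a a.2 ha1 _ (K.mul_mem (K.inv_mem m.2) n.2) h2
        apply Subtype.ext
        have : (n : B) = m * ((m : B)⁻¹ * n) := by group
        rw [this, h4, mul_one]
      have hψ : Function.Bijective ψ := Finite.injective_iff_bijective.mp hψinj
      have h5 : ∀ n : K, φ ((n : B) * a * (n : B)⁻¹) v = φ ((ψ n : K) : B) (φ (a : B) v) := by
        intro n
        show _ = φ ((n : B) * a * (n : B)⁻¹ * (a : B)⁻¹) (φ (a : B) v)
        have e : (n : B) * a * (n : B)⁻¹ = ((n : B) * a * (n : B)⁻¹ * (a : B)⁻¹) * (a : B) := by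
          group
        conv_lhs => rw [e, map_mul]
        rfl
      rw [Fintype.prod_bijective ψ hψ _ (fun m : K => φ (m : B) (φ (a : B) v)) h5]
      exact hK _
  rw [Finset.prod_comm, hD2] at hD1
  have h1 : orderOf v ∣ Nat.card K := orderOf_dvd_of_pow_eq_one hD1
  have h2 : orderOf v ∣ Nat.card V := orderOf_dvd_natCard v
  have h3 : orderOf v = 1 := Nat.eq_one_of_dvd_coprimes hcop h1 h2
  exact orderOf_eq_one_iff.mp h3

end Cfsg.Agent.Helper23.FrobNorm
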