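import Mathlib
import Cfsg.Agent.Helper23.FrobeniusNorm

set_option autoImplicit false
set_option linter.unusedSectionVars false
set_option linter.unusedVariables false
set_option linter.style.haveILetI false
set_option linter.unnecessarySimpa false

namespace Cfsg.Agent.Helper23.FrobNorm

open Subgroup

variable {G : Type*} [Group G]

/-- conjugation by a normalizing element, as an endomorphism of `P`. -/
def conjHom (P : Subgroup G) (a : normalizer (P : Set G)) : P →* P where
  toFun x := ⟨(a : G) * x * (a : G)⁻¹, (mem_normalizer_iff.mp a.2 x).mp x.2⟩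
  map_one' := by ext; simp
  map_mul' x y := by ext; simp

theorem conjHom_coe (P : Subgroup G) (a : normalizer (P : Set G)) (x : P) :
    ((conjHom P a x : P) : G) = (a : G) * x * (a : G)⁻¹ := rfl

/-- the action of `N_G(P)` on the abelianization of `P`. -/
def abEnd (P : Subgroup G) : normalizer (P : Set G) →* Monoid.End (Abelianization P) where
  toFun a := Abelianization.map (conjHom P a)
  map_one' := by
    apply Abelianization.hom_ext
    ext x
    simp only [MonoidHom.comp_apply, Abelianization.map_of]
    congr 1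
    ext
    simp [conjHom_coe]
  map_mul' a b := by
    apply Abelianization.hom_ext
    ext x
    simp only [MonoidHom.comp_apply, Abelianization.map_of]
    show _ = Abelianization.map (conjHom P a) (Abelianization.map (conjHom P b) (Abelianization.of x))
    rw [Abelianization.map_of, Abelianization.map_of]
    congr 1
    ext
    simp [conjHom_coe, mul_assoc]

theorem abEnd_of (P : Subgroup G) (a : normalizer (P : Set G)) (x : P) :
    abEnd P a (Abelianization.of x) = Abelianization.of (conjHom P a x) :=
  Abelianization.map_of _ _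

/-- `(x c)^n = (∏_{j<n} c^j x c^{-j}) c^n`, in recursive form. -/
def normSeq (P : Subgroup G) (c' : normalizer (P : Set G)) (x : P) : ℕ → P
  | 0 => 1
  | n + 1 => normSeq P c' x n * conjHom P (c' ^ n) x

theorem normSeq_coe (P : Subgroup G) (c' : normalizer (P : Set G)) (x : P) (n : ℕ) :
    ((normSeq P c' x n : P) : G) * (c' : G) ^ n = ((x : G) * (c' : G)) ^ n := by
  induction n with
  | zero => simp [normSeq]
  | succ n ih =>
    rw [normSeq, Subgroup.coe_mul, conjHom_coe, pow_succ ((x : G) * (c' : G)), ← ih]
    simp only [Subgroup.coe_pow, pow_succ]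
    group

theorem of_normSeq (P : Subgroup G) (c' : normalizer (P : Set G)) (x : P) (n : ℕ) :
    Abelianization.of (normSeq P c' x n)
      = ∏ j ∈ Finset.range n, abEnd P (c' ^ j) (Abelianization.of x) := by
  induction n with
  | zero => simp [normSeq]
  | succ n ih =>
    rw [normSeq, map_mul, ih, Finset.prod_range_succ, abEnd_of]

theorem le_commutator_of_norms_trivial [Finite G] (P K : Subgroup G) (c : G)
    (hKP : K ≤ normalizer (P : Set G)) (hcP : c ∈ normalizer (P : Set G))
    (hcK : c ∈ normalizer (K : Set G))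
    (hfpf : ∀ a ∈ zpowers c, a ≠ 1 → ∀ k ∈ K, a * k = k * a → k = 1)
    (hcop : (Nat.card K).Coprime (Nat.card P))
    (hPK : P ≤ ⁅P, K⁆)
    (hnorm : ∀ x ∈ P, (x * c) ^ orderOf c = 1) :
    P ≤ ⁅P, P⁆ := by
  classical
  let c' : normalizer (P : Set G) := ⟨c, hcP⟩
  let K' : Subgroup (normalizer (P : Set G)) := K.subgroupOf (normalizer (P : Set G))
  let Y' : Subgroup (normalizer (P : Set G)) := zpowers c'
  haveI : Fintype K' := Fintype.ofFinite _
  haveI : Fintype Y' := Fintype.ofFinite _
  have hYc : ∀ a ∈ Y', ((a : normalizer (P : Set G)) : G) ∈ zpowers c := by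
    intro a ha
    obtain ⟨k, rfl⟩ := mem_zpowers_iff.mp ha
    exact mem_zpowers_iff.mpr ⟨k, by simp [c']⟩
  have hzK : zpowers c ≤ normalizer (K : Set G) := zpowers_le.mpr hcK
  have hYK : ∀ a ∈ Y', ∀ n ∈ K', a * n * a⁻¹ ∈ K' := by
    intro a ha n hn
    have h1 := hzK (hYc a ha)
    have h2 : ((n : normalizer (P : Set G)) : G) ∈ K := hn
    have h3 := (mem_normalizer_iff.mp h1 _).mp h2
    show ((a * n * a⁻¹ : normalizer (P : Set G)) : G) ∈ K
    simpa using h3
  have hfpf' : ∀ a ∈ Y', a ≠ 1 → ∀ n ∈ K', a * n = n * a → n = 1 := by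
    intro a ha ha1 n hn hcomm
    have h1 : ((a : normalizer (P : Set G)) : G) ≠ 1 := fun h => ha1 (Subtype.ext h)
    have h2 : ((a : normalizer (P : Set G)) : G) * (n : G) = (n : G) * (a : G) := by
      have := congrArg Subtype.val hcomm
      simpa using this
    exact Subtype.ext (hfpf _ (hYc a ha) h1 _ hn h2)
  have hcardK : Nat.card K' = Nat.card K :=
    Nat.card_congr (subgroupOfEquivOfLe hKP).toEquiv
  have hcop' : (Nat.card K').Coprime (Nat.card (Abelianization P)) := by
    rw [hcardK]
    exact Nat.Coprime.coprime_dvd_right (card_quotient_dvd_card _) hcop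
  -- the K-norm
  have hK' : ∀ u : Abelianization P, ∏ n : K', abEnd P (n : normalizer (P : Set G)) u = 1 := by
    let τ : Abelianization P →* Abelianization P :=
      ∏ n : K', (abEnd P (n : normalizer (P : Set G)) : Abelianization P →* Abelianization P)
    have hτ : ∀ u, τ u = ∏ n : K', abEnd P (n : normalizer (P : Set G)) u := by
      intro u
      exact MonoidHom.finsetProd_apply _ _ _
    have hτinv : ∀ (k : K') (u : Abelianization P),
        τ (abEnd P (k : normalizer (P : Set G)) u) = τ u := by
      intro k u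
      rw [hτ, hτ]
      refine Fintype.prod_equiv (Equiv.mulRight k) _ _ (fun n => ?_)
      simp only [Equiv.coe_mulRight, Subgroup.coe_mul, map_mul]
      rfl
    let S : Subgroup G := (MonoidHom.ker (τ.comp Abelianization.of)).map P.subtype
    have hS : ⁅P, K⁆ ≤ S := by
      rw [commutator_le]
      intro p hp k hk
      have hk' : k ∈ normalizer (P : Set G) := hKP hk
      have hmem : k * p⁻¹ * k⁻¹ ∈ P := (mem_normalizer_iff.mp hk' _).mp (P.inv_mem hp)
      let k' : K' := ⟨⟨k, hk'⟩, hk⟩
      refine ⟨(⟨p, hp⟩ : P) * (conjHom P ⟨k, hk'⟩ ⟨p, hp⟩)⁻¹, ?_, ?_⟩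
      · show _ ∈ MonoidHom.ker (τ.comp Abelianization.of)
        rw [MonoidHom.mem_ker, MonoidHom.comp_apply, map_mul, map_mul, map_inv, map_inv,
          ← abEnd_of]
        have := hτinv k' (Abelianization.of ⟨p, hp⟩)
        rw [show ((k' : normalizer (P : Set G))) = ⟨k, hk'⟩ from rfl] at this
        rw [this, mul_inv_cancel]
      · simp only [Subgroup.subtype_apply, Subgroup.coe_mul, Subgroup.coe_inv, conjHom_coe,
          commutatorElement_def]
        group
    intro u
    rw [← hτ]
    obtain ⟨x, rfl⟩ := QuotientGroup.mk_surjective u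
    obtain ⟨y, hy, hyx⟩ := hS (hPK x.2)
    have : y = x := Subtype.ext hyx
    have hy' : y ∈ MonoidHom.ker (τ.comp Abelianization.of) := hy
    rw [this, MonoidHom.mem_ker] at hy'
    exact hy'
  -- the Y-norm
  have hY' : ∀ u : Abelianization P, ∏ a : Y', abEnd P (a : normalizer (P : Set G)) u = 1 := by
    intro u
    obtain ⟨x, rfl⟩ := QuotientGroup.mk_surjective u
    have hfin : IsOfFinOrder c' := isOfFinOrder_of_finite c'
    have hord : orderOf c' = orderOf c := by
      have := Subgroup.orderOf_coe c'
      simpa [c'] using this.symm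
    have h1 : ∏ a : Y', abEnd P (a : normalizer (P : Set G)) (Abelianization.of x)
        = ∏ j : Fin (orderOf c'), abEnd P (c' ^ (j : ℕ)) (Abelianization.of x) := by
      symm
      refine Fintype.prod_equiv (finEquivZPowers hfin) _ _ (fun j => ?_)
      rw [finEquivZPowers_apply]
    show ∏ a : Y', abEnd P (a : normalizer (P : Set G)) (Abelianization.of x) = 1
    rw [h1, Fin.prod_univ_eq_prod_range
      (fun j => abEnd P (c' ^ j) (Abelianization.of x)) (orderOf c'), ← of_normSeq]
    have h2 := normSeq_coe P c' x (orderOf c')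
    have h3 : ((c' : normalizer (P : Set G)) : G) = c := rfl
    rw [h3, hord, pow_orderOf_eq_one, mul_one, hnorm _ x.2] at h2
    have h4 : normSeq P c' x (orderOf c) = 1 := Subtype.ext h2
    rw [hord, h4, map_one]
  have key := eq_one_of_norms_trivial (abEnd P) K' Y' hYK hfpf' hK' hY' hcop'
  intro x hx
  have h1 : Abelianization.of (⟨x, hx⟩ : P) = 1 := key _
  have h2 : (⟨x, hx⟩ : P) ∈ commutator P := (QuotientGroup.eq_one_iff _).mp h1
  rw [← map_subtype_commutator]
  exact ⟨_, h2, rfl⟩

end Cfsg.Agent.Helper23.FrobNorm
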