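import Mathlib
import Cfsg.Prelude.Def_Characters
import Cfsg.Prelude.Def_CharExt
import Cfsg.Agent.Helper8.GaloisChar
import Cfsg.Agent.Helper24.DetChar
import Cfsg.Agent.Helper24.Gallagher
import Cfsg.Agent.Helper24.PResidualCount
import Cfsg.Agent.Helper24.Abelian
import Cfsg.Agent.Helper23.ClassProduct

set_option autoImplicit false
set_option linter.unusedSectionVars false
set_option linter.unusedVariables false

/-!
# Galois-fixed extensions over a normal subgroup with cyclic `p`-quotient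
-/

namespace Cfsg.Agent.Helper23.GC

open Cfsg Cfsg.Agent.Helper24 Cfsg.Agent.Helper8

universe u

variable {G : Type u} [Group G] [Finite G]

/-- The determinantal character of the Galois conjugate `g ↦ χ (g ^ k)`. -/
theorem detChar_pow_coprime (k : ℕ) (hk : k.Coprime (Nat.card G)) {χ : G → ℂ}
    (hχ : IsIrrCharacter G χ) :
    ∃ τ : ℂ ≃+* ℂ, ∀ g : G, detChar (fun g => χ (g ^ k)) g = τ (detChar χ g) := by
  obtain ⟨τ, -, hτ⟩ := exists_complex_aut_char G k hk
  refine ⟨τ, ?_⟩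
  have hirr' := isIrrCharacter_pow_of_coprime k hk hχ
  obtain ⟨n, ρ, hρ, rfl⟩ := hχ
  have h' : IsIrrCharacter G ρ.character := ⟨n, ρ, hρ, rfl⟩
  have hchar : (repMapRingHom (τ : ℂ →+* ℂ) ρ).character = fun g => ρ.character (g ^ k) := by
    funext g
    rw [repMapRingHom_character]
    exact hτ _ (IsIrrCharacter.isCharacter h') g
  intro g
  rw [← hchar] at hirr' ⊢
  rw [detChar_eq_det _ hirr' g, detChar_eq_det ρ h' g]
  show LinearMap.det (Matrix.toLin' ((LinearMap.toMatrix' (ρ g)).map (τ : ℂ →+* ℂ))) = _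
  rw [LinearMap.det_toLin', ← LinearMap.det_toMatrix' (ρ g)]
  exact ((τ : ℂ →+* ℂ).map_det _).symm

theorem detOrder_pow_dvd (k : ℕ) (hk : k.Coprime (Nat.card G)) {χ : G → ℂ}
    (hχ : IsIrrCharacter G χ) :
    detOrder (fun g => χ (g ^ k)) ∣ detOrder χ := by
  obtain ⟨τ, hτ⟩ := detChar_pow_coprime k hk hχ
  unfold detOrder
  apply orderOf_dvd_of_pow_eq_one
  funext g
  rw [Pi.pow_apply, hτ g, ← map_pow]
  have h1 := congrFun (pow_orderOf_eq_one (detChar χ)) g
  rw [Pi.pow_apply] at h1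
  rw [h1, Pi.one_apply, map_one]

/-- In a nontrivial cyclic `p`-group exactly `p` irreducible characters have order dividing `p`. -/
theorem card_irr_pow_eq_one {A : Type u} [Group A] [Finite A] [hc : IsCyclic A] (p a : ℕ)
    [hp : Fact p.Prime] (ha : Nat.card A = p ^ a) (ha0 : a ≠ 0) :
    Nat.card {β : IrrCharacter A // ∀ x : A, (β : A → ℂ) x ^ p = 1} = p := by
  classical
  let _ : CommGroup A := IsCyclic.commGroup
  have : NeZero ((Monoid.exponent A : ℕ) : ℂ) :=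
    ⟨by exact_mod_cast Monoid.exponent_ne_zero_of_finite⟩
  obtain ⟨e⟩ := CommGroup.monoidHom_mulEquiv_of_hasEnoughRootsOfUnity A ℂ
  have : Finite (A →* ℂˣ) := Finite.of_equiv A e.symm.toEquiv
  have : IsCyclic (A →* ℂˣ) := isCyclic_of_surjective e.symm e.symm.surjective
  have hcard : Nat.card (A →* ℂˣ) = p ^ a := by
    rw [Nat.card_congr e.toEquiv, ha]
  have hker := IsCyclic.card_powMonoidHom_ker (A →* ℂˣ) p
  rw [hcard] at hker
  have hgcd : (p ^ a).gcd p = p := by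
    apply Nat.gcd_eq_right
    exact dvd_pow_self p ha0
  rw [hgcd] at hker
  refine Eq.trans ?_ hker
  have hlin : ∀ β : IrrCharacter A, (β : A → ℂ) 1 = 1 :=
    (comm_iff_forall_irr_one (G := A)).mp (fun x y => mul_comm x y)
  let f : (powMonoidHom p : (A →* ℂˣ) →* (A →* ℂˣ)).ker →
      {β : IrrCharacter A // ∀ x : A, (β : A → ℂ) x ^ p = 1} := fun φ =>
    ⟨⟨fun x => (((Units.coeHom ℂ).comp φ.1) x : ℂ),
      isIrrCharacter_of_monoidHom ((Units.coeHom ℂ).comp φ.1)⟩, by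
      intro x
      have h1 : φ.1 ^ p = 1 := by
        have := φ.2
        rw [MonoidHom.mem_ker, powMonoidHom_apply] at this
        exact this
      have h2 := congrArg (fun ψ : A →* ℂˣ => ((ψ x : ℂˣ) : ℂ)) h1
      simpa using h2⟩
  symm
  apply Nat.card_congr
  refine Equiv.ofBijective f ⟨?_, ?_⟩
  · intro φ φ' h
    apply Subtype.ext
    apply MonoidHom.ext
    intro x
    apply Units.ext
    have := congrFun (congrArg (fun β : {β : IrrCharacter A // ∀ x : A, (β : A → ℂ) x ^ p = 1} =>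
      ((β : IrrCharacter A) : A → ℂ)) h) x
    exact this
  · rintro ⟨β, hβ⟩
    obtain ⟨ψ, hψ⟩ := exists_monoidHom_of_irr_one_eq_one β (hlin β)
    have hmem : ψ.toHomUnits ∈ (powMonoidHom p : (A →* ℂˣ) →* (A →* ℂˣ)).ker := by
      rw [MonoidHom.mem_ker, powMonoidHom_apply]
      apply MonoidHom.ext
      intro x
      apply Units.ext
      rw [MonoidHom.pow_apply, Units.val_pow_eq_pow_val, MonoidHom.coe_toHomUnits,
        MonoidHom.one_apply, Units.val_one, ← hψ]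
      exact hβ x
    refine ⟨⟨ψ.toHomUnits, hmem⟩, ?_⟩
    apply Subtype.ext
    apply Subtype.ext
    funext x
    show ((ψ.toHomUnits x : ℂˣ) : ℂ) = _
    rw [MonoidHom.coe_toHomUnits, ← hψ]

/-- **Counting Galois-fixed extensions.**  Let `N` be normal in `G` with `G ⧸ N` a nontrivial cyclic
`p`-group and all linear characters of `N` of `p'`-order.  Let `k` be an exponent prime to `|G|`
acting as `1 + p` on `G ⧸ N`.  For a `G`-invariant irreducible character `θ` of `N` of degree prime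
to `p` fixed by the power map `k`, exactly `p` extensions of `θ` to `G` are fixed by the power map
`k`. -/
theorem card_fixed_extensions (N : Subgroup G) [hN : N.Normal] (p a : ℕ) [hp : Fact p.Prime]
    (hKa : N.index = p ^ a) (ha0 : a ≠ 0) [hcyc : IsCyclic (G ⧸ N)]
    (hLP : ∀ lam : N → ℂ, IsCharacter N lam → lam 1 = 1 → ¬ p ∣ orderOf lam)
    (k : ℕ) (hk : k.Coprime (Nat.card G))
    (hkq : ∀ x : G ⧸ N, x ^ k = x ^ (1 + p))
    (θ : IrrCharacter N)
    (hinv : ∀ (g : G) (n : N),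
      (θ : N → ℂ) ⟨g * n * g⁻¹, hN.conj_mem (n : G) n.2 g⟩ = (θ : N → ℂ) n)
    (hpθ : ¬ p ∣ irrDeg θ)
    (hθk : ∀ n : N, (θ : N → ℂ) (n ^ k) = (θ : N → ℂ) n) :
    Nat.card {χ : IrrCharacter G // (∀ n : N, (χ : G → ℂ) n = (θ : N → ℂ) n) ∧
      ∀ g : G, (χ : G → ℂ) (g ^ k) = (χ : G → ℂ) g} = p := by
  classical
  have : Fintype G := Fintype.ofFinite G
  have : Fintype N := Fintype.ofFinite N
  obtain ⟨χ₀f, ⟨hχ₀irr, hχ₀N, hχ₀o⟩, huniq⟩ := exists_ext_pprime N p hp.out a hKa hLP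
    (θ : N → ℂ) θ.2 hinv (irrDeg θ) (irrDeg_spec θ) hpθ
  set χ₀ : IrrCharacter G := ⟨χ₀f, hχ₀irr⟩ with hχ₀def
  have hres : (fun n : N => (χ₀ : G → ℂ) n) = (θ : N → ℂ) := funext hχ₀N
  have hχN : IsIrrCharacter N (fun n : N => (χ₀ : G → ℂ) n) := by rw [hres]; exact θ.2
  -- the canonical extension is fixed
  have hχ₀k : ∀ g : G, χ₀f (g ^ k) = χ₀f g := by
    have h1 := huniq (fun g => χ₀f (g ^ k)) (isIrrCharacter_pow_of_coprime k hk hχ₀irr)
      (fun n => by
        show χ₀f ((n : G) ^ k) = (θ : N → ℂ) n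
        rw [← Subgroup.coe_pow, hχ₀N, hθk])
      (fun h => hχ₀o (dvd_trans h (detOrder_pow_dvd k hk hχ₀irr)))
    intro g
    exact congrFun h1 g
  -- characters of the quotient are linear
  have hcomm : ∀ x y : G ⧸ N, x * y = y * x := by
    intro x y
    obtain ⟨g, hg⟩ := hcyc.exists_generator
    obtain ⟨m, rfl⟩ := Subgroup.mem_zpowers_iff.mp (hg x)
    obtain ⟨n, rfl⟩ := Subgroup.mem_zpowers_iff.mp (hg y)
    rw [← zpow_add, ← zpow_add, add_comm]
  have hlin : ∀ β : IrrCharacter (G ⧸ N), (β : G ⧸ N → ℂ) 1 = 1 :=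
    (comm_iff_forall_irr_one (G := G ⧸ N)).mp hcomm
  have hcardA : Nat.card (G ⧸ N) = p ^ a := by
    rw [← Subgroup.index_eq_card]; exact hKa
  rw [← card_irr_pow_eq_one (A := G ⧸ N) p a hcardA ha0]
  symm
  apply Nat.card_congr
  -- multiplicativity of β
  have hmul : ∀ (β : IrrCharacter (G ⧸ N)) (x : G ⧸ N) (m : ℕ),
      (β : G ⧸ N → ℂ) (x ^ m) = (β : G ⧸ N → ℂ) x ^ m := by
    intro β x m
    obtain ⟨ψ, hψ⟩ := exists_monoidHom_of_irr_one_eq_one β (hlin β)
    rw [hψ, hψ, map_pow]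
  have hne0 : ∀ (β : IrrCharacter (G ⧸ N)) (x : G ⧸ N), (β : G ⧸ N → ℂ) x ≠ 0 := by
    intro β x
    obtain ⟨ψ, hψ⟩ := exists_monoidHom_of_irr_one_eq_one β (hlin β)
    intro h0
    have h1 : ψ (x * x⁻¹) = 1 := by rw [mul_inv_cancel, map_one]
    rw [map_mul, ← hψ, h0, zero_mul] at h1
    exact zero_ne_one h1
  let f : {β : IrrCharacter (G ⧸ N) // ∀ x : G ⧸ N, (β : G ⧸ N → ℂ) x ^ p = 1} →
      {χ : IrrCharacter G // (∀ n : N, (χ : G → ℂ) n = (θ : N → ℂ) n) ∧
        ∀ g : G, (χ : G → ℂ) (g ^ k) = (χ : G → ℂ) g} := fun β =>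
    ⟨⟨gallagherTwist N χ₀ β.1, isIrrCharacter_gallagherTwist N χ₀ hχN β.1⟩, by
      constructor
      · intro n
        show (β.1 : G ⧸ N → ℂ) ((n : G) : G ⧸ N) * χ₀f n = _
        have : (((n : G) : G ⧸ N)) = 1 := (QuotientGroup.eq_one_iff _).mpr n.2
        rw [this, hlin, one_mul, hχ₀N]
      · intro g
        show (β.1 : G ⧸ N → ℂ) ((g ^ k : G) : G ⧸ N) * χ₀f (g ^ k) =
          (β.1 : G ⧸ N → ℂ) ((g : G) : G ⧸ N) * χ₀f g
        rw [hχ₀k, QuotientGroup.mk_pow, hkq, hmul, pow_add, pow_one, β.2, mul_one]⟩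
  refine Equiv.ofBijective f ⟨?_, ?_⟩
  · intro β β' h
    apply Subtype.ext
    apply gallagherTwist_injective N χ₀ hχN
    exact congrArg (fun χ : {χ : IrrCharacter G // (∀ n : N, (χ : G → ℂ) n = (θ : N → ℂ) n) ∧
        ∀ g : G, (χ : G → ℂ) (g ^ k) = (χ : G → ℂ) g} => ((χ : IrrCharacter G) : G → ℂ)) h
  · rintro ⟨χ, hχN', hχk⟩
    have hover : classInner (fun n : N => (χ : G → ℂ) n) (fun n : N => (χ₀ : G → ℂ) n) ≠ 0 := by
      rw [hres, funext hχN', classInner_irr_self]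
      exact one_ne_zero
    obtain ⟨β, hβ⟩ := exists_gallagherTwist_eq N χ₀ hχN χ hover
    -- `β ^ (1 + p)` as an irreducible character
    obtain ⟨ψ, hψ⟩ := exists_monoidHom_of_irr_one_eq_one β (hlin β)
    set β' : IrrCharacter (G ⧸ N) := ⟨fun x => (ψ ^ (1 + p)) x,
      isIrrCharacter_of_monoidHom (ψ ^ (1 + p))⟩ with hβ'
    have htw : gallagherTwist N χ₀ β' = gallagherTwist N χ₀ β := by
      funext g
      have h1 := hχk g
      rw [hβ] at h1
      show (ψ ^ (1 + p)) ((g : G) : G ⧸ N) * χ₀f g = (β : G ⧸ N → ℂ) ((g : G) : G ⧸ N) * χ₀f g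
      have h2 : gallagherTwist N χ₀ β (g ^ k) =
          (β : G ⧸ N → ℂ) ((g : G) : G ⧸ N) ^ (1 + p) * χ₀f g := by
        show (β : G ⧸ N → ℂ) ((g ^ k : G) : G ⧸ N) * χ₀f (g ^ k) = _
        rw [hχ₀k, QuotientGroup.mk_pow, hkq, hmul]
      rw [h2] at h1
      rw [MonoidHom.pow_apply, ← hψ]
      exact h1
    have heq := gallagherTwist_injective N χ₀ hχN β' β htw
    have hβp : ∀ x : G ⧸ N, (β : G ⧸ N → ℂ) x ^ p = 1 := by
      intro x
      have h1 := congrFun (congrArg (fun γ : IrrCharacter (G ⧸ N) => (γ : G ⧸ N → ℂ)) heq) x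
      have h2 : (β' : G ⧸ N → ℂ) x = (β : G ⧸ N → ℂ) x ^ (1 + p) := by
        show (ψ ^ (1 + p)) x = _
        rw [MonoidHom.pow_apply, ← hψ]
      rw [h2, pow_add, pow_one] at h1
      have h3 := hne0 β x
      have h4 : (β : G ⧸ N → ℂ) x * (β : G ⧸ N → ℂ) x ^ p = (β : G ⧸ N → ℂ) x * 1 := by
        rw [mul_one]; exact h1
      exact mul_left_cancel₀ h3 h4
    refine ⟨⟨β, hβp⟩, ?_⟩
    apply Subtype.ext
    apply Subtype.ext
    exact hβ.symm

end Cfsg.Agent.Helper23.GC
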