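import Mathlib

/-!
# S3795 (Gross, `p = 2`), step (f): commutators `[b, x]` act trivially on `Q / Z`

`comm_trivial_mod`: the module plumbing that applies `abelian_group'` to the section `Q / Z`.
-/

set_option autoImplicit false
set_option linter.unusedSectionVars false
set_option linter.style.haveILetI false
set_option linter.unusedVariables false

namespace Cfsg.Agent.Helper23.GrossQZ

open Subgroup

universe u

/-- The statement of `(U1')` (`abelian_group'`), for groups and modules in the universe `u`. -/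
def U1Stmt : Prop :=
  ∀ {Γ : Type u} [Group Γ] [Finite Γ] {V : Type u} [CommGroup V] [Finite V]
    {p q r n : ℕ} (_hp : p.Prime) (_hq : q.Prime) (_hr : r.Prime) (_hrp : r ≠ p) (_hrq : r ≠ q)
    (_hn : 0 < n) (_hV : ∀ v : V, v ^ r = 1) (A : Subgroup Γ) (_hA : IsPGroup q A)
    (φ : Γ →* MulAut V) (_hab : ∀ a ∈ A, ∀ b ∈ A, φ (a * b) = φ (b * a)) (s : Γ)
    (_hsA : s ∈ Subgroup.normalizer (A : Set Γ)) (_hs : s ^ (p ^ n) = 1)
    (_hfpfV : ∀ v : V, φ s v = v → v = 1),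
    ∀ g ∈ A, φ (s ^ (p ^ (n - 1)) * g * (s ^ (p ^ (n - 1)))⁻¹) = φ g

/-- The case where `Q` and `Z` are normal in the ambient group. -/
theorem core (hU : U1Stmt.{u}) {L : Type u} [Group L] [Finite L] {s0 q n : ℕ} (hs0 : s0.Prime)
    (hq : q.Prime)
    (hq2 : q ≠ 2) (hqs0 : q ≠ s0) (hn : 0 < n) (S Q Z : Subgroup L) [Q.Normal] [Z.Normal]
    (hS : IsPGroup s0 S) (s : L) (hs : s ^ (2 ^ n) = 1)
    (hsS : s ∈ normalizer (S : Set L))
    (hcomm : ∀ g ∈ Q, ∀ h ∈ Q, g * h * g⁻¹ * h⁻¹ ∈ Z) (hexp : ∀ g ∈ Q, g ^ q ∈ Z)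
    (hfpf : ∀ g ∈ Q, s * g * s⁻¹ * g⁻¹ ∈ Z → g ∈ Z)
    (hab : ∀ x ∈ S, ∀ y ∈ S, ∀ g ∈ Q,
      (x * y * x⁻¹ * y⁻¹) * g * (x * y * x⁻¹ * y⁻¹)⁻¹ * g⁻¹ ∈ Z) :
    ∀ x ∈ S, ∀ g ∈ Q, (s ^ (2 ^ (n - 1)) * x * (s ^ (2 ^ (n - 1)))⁻¹ * x⁻¹) * g *
      (s ^ (2 ^ (n - 1)) * x * (s ^ (2 ^ (n - 1)))⁻¹ * x⁻¹)⁻¹ * g⁻¹ ∈ Z := by
  classical
  let π : L →* L ⧸ Z := QuotientGroup.mk' Z
  have hπ1 : ∀ y : L, π y = 1 ↔ y ∈ Z := fun y => QuotientGroup.eq_one_iff y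
  have hπeq : ∀ y y' : L, y * y'⁻¹ ∈ Z → π y = π y' := by
    intro y y' h
    have := (hπ1 _).mpr h
    rw [map_mul, map_inv, mul_inv_eq_one] at this
    exact this
  let Vs : Subgroup (L ⧸ Z) := Q.map π
  haveI hVn : Vs.Normal := Subgroup.Normal.map inferInstance π (QuotientGroup.mk'_surjective Z)
  letI instV : CommGroup Vs :=
    { (inferInstance : Group Vs) with
      mul_comm := by
        rintro ⟨_, g, hg, rfl⟩ ⟨_, h, hh, rfl⟩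
        apply Subtype.ext
        show π g * π h = π h * π g
        rw [← map_mul, ← map_mul]
        apply hπeq
        have := hcomm g hg h hh
        have e : g * h * (h * g)⁻¹ = g * h * g⁻¹ * h⁻¹ := by group
        rw [e]; exact this }
  let φ : L →* MulAut Vs := (MulAut.conjNormal).comp π
  have hφ : ∀ (y : L) (v : Vs), ((φ y v : Vs) : L ⧸ Z) = π y * v * (π y)⁻¹ := by
    intro y v
    rfl
  have hV : ∀ v : Vs, v ^ q = 1 := by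
    rintro ⟨_, g, hg, rfl⟩
    apply Subtype.ext
    show (π g) ^ q = 1
    rw [← map_pow]
    exact (hπ1 _).mpr (hexp g hg)
  have habφ : ∀ a ∈ S, ∀ b ∈ S, φ (a * b) = φ (b * a) := by
    intro a ha b hb
    ext v
    obtain ⟨_, g, hg, rfl⟩ := v
    rw [hφ, hφ]
    show π (a * b) * π g * (π (a * b))⁻¹ = π (b * a) * π g * (π (b * a))⁻¹
    rw [← map_inv, ← map_inv, ← map_mul, ← map_mul, ← map_mul, ← map_mul]
    apply hπeq
    have hg' : (b * a) * g * (b * a)⁻¹ ∈ Q := (inferInstance : Q.Normal).conj_mem g hg (b * a)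
    have := hab a ha b hb _ hg'
    have e : a * b * g * (a * b)⁻¹ * (b * a * g * (b * a)⁻¹)⁻¹ =
        (a * b * a⁻¹ * b⁻¹) * ((b * a) * g * (b * a)⁻¹) * (a * b * a⁻¹ * b⁻¹)⁻¹ *
          ((b * a) * g * (b * a)⁻¹)⁻¹ := by group
    rw [e]; exact this
  have hfpfV : ∀ v : Vs, φ s v = v → v = 1 := by
    rintro ⟨_, g, hg, rfl⟩ h
    have h' := congrArg (Subtype.val) h
    rw [hφ] at h'
    apply Subtype.ext
    show π g = 1
    rw [hπ1]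
    apply hfpf g hg
    rw [← hπ1, map_mul, map_inv, map_mul, map_mul, map_inv]
    exact mul_inv_eq_one.mpr h'
  have key := hU (Γ := L) (V := Vs) (p := 2) (q := s0)
    (r := q) (n := n) Nat.prime_two hs0 hq hq2 hqs0 hn hV S hS φ habφ s hsS hs hfpfV
  intro x hx g hg
  have h1 := key x hx
  have hg' : x⁻¹ * g * x ∈ Q := by
    have := (inferInstance : Q.Normal).conj_mem g hg x⁻¹
    simpa using this
  have h2 := congrArg (fun ψ : MulAut Vs => ((ψ ⟨π (x⁻¹ * g * x), ⟨_, hg', rfl⟩⟩ : Vs) : L ⧸ Z)) h1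
  simp only [hφ] at h2
  rw [← hπ1]
  rw [← map_inv, ← map_inv, ← map_mul, ← map_mul, ← map_mul, ← map_mul] at h2
  have e : (s ^ (2 ^ (n - 1)) * x * (s ^ (2 ^ (n - 1)))⁻¹ * x⁻¹) * g *
      (s ^ (2 ^ (n - 1)) * x * (s ^ (2 ^ (n - 1)))⁻¹ * x⁻¹)⁻¹ * g⁻¹ =
      (s ^ (2 ^ (n - 1)) * x * (s ^ (2 ^ (n - 1)))⁻¹ * (x⁻¹ * g * x) *
        (s ^ (2 ^ (n - 1)) * x * (s ^ (2 ^ (n - 1)))⁻¹)⁻¹) * (x * (x⁻¹ * g * x) * x⁻¹)⁻¹ := by
    group
  rw [e, map_mul, map_inv, h2, mul_inv_cancel]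

/-- Step (f), relative to `(U1')`: `[b, x]` acts trivially on `Q / Z` for all `x ∈ S` (`b = s ^ (2 ^ (n - 1))`). -/
theorem comm_trivial_mod_of (hU : U1Stmt.{u}) {Γ : Type u} [Group Γ] [Finite Γ] {s0 q n : ℕ}
    (hs0 : s0.Prime)
    (hq : q.Prime) (hq2 : q ≠ 2) (hqs0 : q ≠ s0) (hn : 0 < n) (S Q Z : Subgroup Γ)
    (hS : IsPGroup s0 S) (hZQ : Z ≤ Q) (s : Γ) (hs : s ^ (2 ^ n) = 1)
    (hsS : s ∈ normalizer (S : Set Γ)) (hsQ : s ∈ normalizer (Q : Set Γ))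
    (hsZ : s ∈ normalizer (Z : Set Γ)) (hSQ : S ≤ normalizer (Q : Set Γ))
    (hSZ : S ≤ normalizer (Z : Set Γ)) (hQZ : Q ≤ normalizer (Z : Set Γ))
    (hcomm : ∀ g ∈ Q, ∀ h ∈ Q, g * h * g⁻¹ * h⁻¹ ∈ Z) (hexp : ∀ g ∈ Q, g ^ q ∈ Z)
    (hfpf : ∀ g ∈ Q, s * g * s⁻¹ * g⁻¹ ∈ Z → g ∈ Z)
    (hab : ∀ x ∈ S, ∀ y ∈ S, ∀ g ∈ Q,
      (x * y * x⁻¹ * y⁻¹) * g * (x * y * x⁻¹ * y⁻¹)⁻¹ * g⁻¹ ∈ Z) :
    ∀ x ∈ S, ∀ g ∈ Q, (s ^ (2 ^ (n - 1)) * x * (s ^ (2 ^ (n - 1)))⁻¹ * x⁻¹) * g *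
      (s ^ (2 ^ (n - 1)) * x * (s ^ (2 ^ (n - 1)))⁻¹ * x⁻¹)⁻¹ * g⁻¹ ∈ Z := by
  classical
  let L : Subgroup Γ := normalizer (Q : Set Γ) ⊓ normalizer (Z : Set Γ)
  have hLQ : L ≤ normalizer (Q : Set Γ) := inf_le_left
  have hLZ : L ≤ normalizer (Z : Set Γ) := inf_le_right
  have hsL : s ∈ L := ⟨hsQ, hsZ⟩
  have hSL : S ≤ L := le_inf hSQ hSZ
  have hQL : Q ≤ L := le_inf le_normalizer hQZ
  haveI : (Q.subgroupOf L).Normal := normal_subgroupOf_of_le_normalizer hLQ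
  haveI : (Z.subgroupOf L).Normal := normal_subgroupOf_of_le_normalizer hLZ
  have hS' : IsPGroup s0 (S.subgroupOf L) := hS.comap_of_injective L.subtype L.subtype_injective
  have hs' : (⟨s, hsL⟩ : L) ^ (2 ^ n) = 1 := by
    apply Subtype.ext
    rw [SubgroupClass.coe_pow]
    exact hs
  have hsS' : (⟨s, hsL⟩ : L) ∈ normalizer ((S.subgroupOf L : Subgroup L) : Set L) := by
    rw [mem_normalizer_iff]
    intro h
    rw [mem_subgroupOf, mem_subgroupOf]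
    exact (mem_normalizer_iff.mp hsS) h
  have hcore := core hU (L := L) hs0 hq hq2 hqs0 hn (S.subgroupOf L) (Q.subgroupOf L)
    (Z.subgroupOf L) hS' ⟨s, hsL⟩ hs' hsS'
    (by
      intro g hg h hh
      rw [mem_subgroupOf] at hg hh ⊢
      exact hcomm _ hg _ hh)
    (by
      intro g hg
      rw [mem_subgroupOf] at hg ⊢
      rw [SubgroupClass.coe_pow]
      exact hexp _ hg)
    (by
      intro g hg h
      rw [mem_subgroupOf] at hg h ⊢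
      exact hfpf _ hg h)
    (by
      intro x hx y hy g hg
      rw [mem_subgroupOf] at hx hy hg ⊢
      exact hab _ hx _ hy _ hg)
  intro x hx g hg
  have h := hcore ⟨x, hSL hx⟩ (by rw [mem_subgroupOf]; exact hx) ⟨g, hQL hg⟩
    (by rw [mem_subgroupOf]; exact hg)
  rw [mem_subgroupOf] at h
  simpa using h

end Cfsg.Agent.Helper23.GrossQZ
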