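import Mathlib
import Cfsg.Agent.Helper8.GrossBC
import Cfsg.Agent.Helper23.GrossQZ

/-!
# S3795 (Gross, `p = 2`), step (f): absolute form of `comm_trivial_mod`
-/

set_option autoImplicit false
set_option linter.unusedVariables false

namespace Cfsg.Agent.Helper23.GrossQZ

open Subgroup

/-- Step (f): `[b, x]` acts trivially on `Q / Z` for all `x ∈ S` (`b = s ^ (2 ^ (n - 1))`). -/
theorem comm_trivial_mod {Γ : Type*} [Group Γ] [Finite Γ] {s0 q n : ℕ} (hs0 : s0.Prime)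
    (hq : q.Prime) (hq2 : q ≠ 2) (hqs0 : q ≠ s0) (hn : 0 < n) (S Q Z : Subgroup Γ)
    (hS : IsPGroup s0 S) (hZQ : Z ≤ Q) (s : Γ) (hs : s ^ (2 ^ n) = 1)
    (hsS : s ∈ normalizer (S : Set Γ)) (hsQ : s ∈ normalizer (Q : Set Γ))
    (hsZ : s ∈ normalizer (Z : Set Γ)) (hSQ : S ≤ normalizer (Q : Set Γ))
    (hSZ : S ≤ normalizer (Z : Set Γ)) (hQZ : Q ≤ normalizer (Z : Set Γ))
    (hcomm : ∀ g ∈ Q, ∀ h ∈ Q, g * h * g⁻¹ * h⁻¹ ∈ Z) (hexp : ∀ g ∈ Q, g ^ q ∈ Z)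
    (hfpf : ∀ g ∈ Q, s * g * s⁻¹ * g⁻¹ ∈ Z → g ∈ Z)
    (hab : ∀ x ∈ S, ∀ y ∈ S, ∀ g ∈ Q,
      (x * y * x⁻¹ * y⁻¹) * g * (x * y * x⁻¹ * y⁻¹)⁻¹ * g⁻¹ ∈ Z) :
    ∀ x ∈ S, ∀ g ∈ Q, (s ^ (2 ^ (n - 1)) * x * (s ^ (2 ^ (n - 1)))⁻¹ * x⁻¹) * g *
      (s ^ (2 ^ (n - 1)) * x * (s ^ (2 ^ (n - 1)))⁻¹ * x⁻¹)⁻¹ * g⁻¹ ∈ Z :=
  comm_trivial_mod_of
    (fun hp hq hr hrp hrq hn hV A hA φ hab s hsA hs hfpfV =>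
      Cfsg.Agent.Helper8.GrossBC.abelian_group' hp hq hr hrp hrq hn hV A hA φ hab s hsA hs hfpfV)
    hs0 hq hq2 hqs0 hn S Q Z hS hZQ s hs hsS hsQ hsZ hSQ hSZ hQZ hcomm hexp hfpf hab

end Cfsg.Agent.Helper23.GrossQZ
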