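import Mathlib
import Cfsg.Prelude.Def_Blocks
import Cfsg.Agent.Helper5.ConvAlg
import Cfsg.Agent.Helper5.AugIdeal

set_option autoImplicit false
set_option linter.unusedSectionVars false
set_option linter.unusedVariables false
set_option linter.style.haveILetI false
set_option linter.unnecessarySimpa false

/-!
# Coset components of a function on a group and words in them

For a normal subgroup `N` of `G` a function `a` on `G` splits as the sum of its restrictions
`comp N a q` to the cosets `q ∈ G ⧸ N`.  Words are convolution products of components.  A long word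
contains a loop (a subword whose degrees multiply to `1`), and loops, being `N`-central and
supported on `N`, can be moved to the front of a word.
-/

namespace Cfsg.Agent.Helper23.KN

open Cfsg Cfsg.Agent.Helper24 Cfsg.Agent.Helper5 Cfsg.Agent.Helper5.Loc Cfsg.Agent.Helper5.CC

variable {G : Type*} [Group G] (N : Subgroup G) [hN : N.Normal]

/-- The component of `a` on the coset `q`. -/
noncomputable def comp (a : G → ℂ) (q : G ⧸ N) : G → ℂ :=
  fun x => @ite ℂ ((x : G ⧸ N) = q) (Classical.propDecidable _) (a x) 0

theorem comp_of_eq (a : G → ℂ) {q : G ⧸ N} {x : G} (h : (x : G ⧸ N) = q) : comp N a q x = a x :=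
  if_pos h

theorem comp_of_ne (a : G → ℂ) {q : G ⧸ N} {x : G} (h : (x : G ⧸ N) ≠ q) : comp N a q x = 0 :=
  if_neg h

/-- `a` is supported on the coset `q`. -/
def SuppOn (a : G → ℂ) (q : G ⧸ N) : Prop := ∀ x, a x ≠ 0 → (x : G ⧸ N) = q

theorem suppOn_comp (a : G → ℂ) (q : G ⧸ N) : SuppOn N (comp N a q) q := by
  intro x hx
  by_contra h
  exact hx (comp_of_ne N a h)

theorem suppOn_deltaOne : SuppOn N (deltaOne : G → ℂ) 1 := by
  intro x hx
  by_cases h : x = 1
  · rw [h]; rfl
  · exact absurd (deltaOne_apply_ne h) hx

theorem sum_comp [Fintype (G ⧸ N)] (a : G → ℂ) : ∑ q : G ⧸ N, comp N a q = a := by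
  classical
  funext x
  rw [Finset.sum_apply, Finset.sum_eq_single (x : G ⧸ N)]
  · exact comp_of_eq N a rfl
  · intro q _ hq
    exact comp_of_ne N a (Ne.symm hq)
  · intro h; exact absurd (Finset.mem_univ _) h

theorem comp_conj_invariant {a : G → ℂ} (ha : IsClassFunction G a) (q : G ⧸ N) {n : G}
    (hn : n ∈ N) (t : G) : comp N a q (n * t * n⁻¹) = comp N a q t := by
  have h1 : ((n * t * n⁻¹ : G) : G ⧸ N) = (t : G ⧸ N) := by
    have hn1 : (n : G ⧸ N) = 1 := (QuotientGroup.eq_one_iff n).mpr hn
    rw [QuotientGroup.mk_mul, QuotientGroup.mk_mul, QuotientGroup.mk_inv, hn1]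
    simp
  by_cases h : (t : G ⧸ N) = q
  · rw [comp_of_eq N a h, comp_of_eq N a (h1.trans h)]
    exact ha t n
  · rw [comp_of_ne N a h, comp_of_ne N a (fun h' => h (h1.symm.trans h'))]

theorem lr_comp {M : Ideal AlgInt} (hM : M.IsPrime) {a : G → ℂ} (ha : ∀ t, MemLocalRing M (a t))
    (q : G ⧸ N) (t : G) : MemLocalRing M (comp N a q t) := by
  by_cases h : (t : G ⧸ N) = q
  · rw [comp_of_eq N a h]; exact ha t
  · rw [comp_of_ne N a h]; exact memLocalRing_zero hM

variable [Fintype G]

theorem suppOn_conv {a a' : G → ℂ} {q q' : G ⧸ N} (ha : SuppOn N a q) (ha' : SuppOn N a' q') :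
    SuppOn N (conv a a') (q * q') := by
  intro u hu
  simp only [conv] at hu
  obtain ⟨t, -, ht⟩ := Finset.exists_ne_zero_of_sum_ne_zero hu
  have h1 := ha t (left_ne_zero_of_mul ht)
  have h2 := ha' _ (right_ne_zero_of_mul ht)
  rw [← h1, ← h2, ← QuotientGroup.mk_mul]
  congr 1
  group

/-- Words in the components of `a`. -/
noncomputable def word (a : G → ℂ) : List (G ⧸ N) → (G → ℂ)
  | [] => deltaOne
  | q :: l => conv (comp N a q) (word a l)

theorem word_nil (a : G → ℂ) : word N a [] = deltaOne := rfl

theorem word_cons (a : G → ℂ) (q : G ⧸ N) (l : List (G ⧸ N)) :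
    word N a (q :: l) = conv (comp N a q) (word N a l) := rfl

theorem suppOn_word (a : G → ℂ) (l : List (G ⧸ N)) : SuppOn N (word N a l) l.prod := by
  induction l with
  | nil =>
    rw [word_nil, List.prod_nil]
    exact suppOn_deltaOne N
  | cons q l ih =>
    rw [word_cons, List.prod_cons]
    exact suppOn_conv N (suppOn_comp N a q) ih

theorem word_append (a : G → ℂ) (l₁ l₂ : List (G ⧸ N)) :
    word N a (l₁ ++ l₂) = conv (word N a l₁) (word N a l₂) := by
  induction l₁ with
  | nil => rw [List.nil_append, word_nil, conv_deltaOne_left]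
  | cons q l ih => rw [List.cons_append, word_cons, word_cons, ih, conv_assoc]

theorem word_conj_invariant {a : G → ℂ} (ha : IsClassFunction G a) (l : List (G ⧸ N)) {n : G}
    (hn : n ∈ N) (t : G) : word N a l (n * t * n⁻¹) = word N a l t := by
  induction l generalizing t with
  | nil => exact deltaOne_conj_invariant n t
  | cons q l ih =>
    rw [word_cons]
    exact conv_conj_invariant n (fun t => comp_conj_invariant N ha q hn t) ih t

theorem lr_word {M : Ideal AlgInt} (hM : M.IsPrime) {a : G → ℂ} (ha : ∀ t, MemLocalRing M (a t))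
    (l : List (G ⧸ N)) (t : G) : MemLocalRing M (word N a l t) := by
  induction l generalizing t with
  | nil => exact memLocalRing_classIndicator hM 1 t
  | cons q l ih => exact lr_conv hM (lr_comp N hM ha q) ih t

/-! ### Expansion of an idempotent into words -/

theorem conv_eq_sum_word [Fintype (G ⧸ N)] (a : G → ℂ) (l : List (G ⧸ N)) :
    conv a (word N a l) = ∑ q : G ⧸ N, word N a (q :: l) := by
  have h := conv_sum_left Finset.univ (fun q : G ⧸ N => comp N a q) (word N a l)
  rw [sum_comp] at h
  exact h

/-- An idempotent is a sum of words of any given positive length: any additive property shared by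
all words of length `m + 1` holds for the idempotent. -/
theorem idem_induction [Fintype (G ⧸ N)] {a : G → ℂ} (hidem : conv a a = a) (P : (G → ℂ) → Prop)
    (h0 : P 0) (hadd : ∀ x y, P x → P y → P (x + y)) (m : ℕ)
    (hw : ∀ l : List (G ⧸ N), l.length = m + 1 → P (word N a l)) : P a := by
  classical
  -- the additive closure of the words of length `k`
  have key : ∀ k : ℕ, a ∈ AddSubmonoid.closure
      {x : G → ℂ | ∃ l : List (G ⧸ N), l.length = k + 1 ∧ x = word N a l} := by
    intro k
    induction k with
    | zero =>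
      have hsum : (∑ q : G ⧸ N, comp N a q) ∈ AddSubmonoid.closure
          {x : G → ℂ | ∃ l : List (G ⧸ N), l.length = 0 + 1 ∧ x = word N a l} := by
        apply AddSubmonoid.sum_mem
        intro q _
        apply AddSubmonoid.subset_closure
        refine ⟨[q], rfl, ?_⟩
        rw [word_cons, word_nil, conv_deltaOne_right]
      rwa [sum_comp] at hsum
    | succ k ih =>
      have step : ∀ x ∈ AddSubmonoid.closure
          {x : G → ℂ | ∃ l : List (G ⧸ N), l.length = k + 1 ∧ x = word N a l},
          conv a x ∈ AddSubmonoid.closure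
            {x : G → ℂ | ∃ l : List (G ⧸ N), l.length = k + 1 + 1 ∧ x = word N a l} := by
        intro x hx
        induction hx using AddSubmonoid.closure_induction with
        | mem x hx =>
          obtain ⟨l, hl, rfl⟩ := hx
          rw [conv_eq_sum_word]
          apply AddSubmonoid.sum_mem
          intro q _
          apply AddSubmonoid.subset_closure
          exact ⟨q :: l, by simp [hl], rfl⟩
        | zero =>
          rw [conv_zero_right]
          exact AddSubmonoid.zero_mem _
        | add x y _ _ hx hy =>
          rw [conv_add_right]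
          exact AddSubmonoid.add_mem _ hx hy
      have := step a ih
      rwa [hidem] at this
  have hP : ∀ x ∈ AddSubmonoid.closure
      {x : G → ℂ | ∃ l : List (G ⧸ N), l.length = m + 1 ∧ x = word N a l}, P x := by
    intro x hx
    induction hx using AddSubmonoid.closure_induction with
    | mem x hx =>
      obtain ⟨l, hl, rfl⟩ := hx
      exact hw l hl
    | zero => exact h0
    | add x y _ _ hx hy => exact hadd x y hx hy
  exact hP a (key m)

/-! ### Loops in long words -/

/-- A list of elements of a finite group at least as long as the order of the group contains a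
nonempty segment of length at most the order with product `1`. -/
theorem exists_loop {Γ : Type*} [Group Γ] [Fintype Γ] (l : List Γ)
    (hl : Fintype.card Γ ≤ l.length) :
    ∃ l₁ l₂ l₃ : List Γ, l = l₁ ++ l₂ ++ l₃ ∧ l₂ ≠ [] ∧ l₂.prod = 1 ∧
      l₂.length ≤ Fintype.card Γ := by
  classical
  set o := Fintype.card Γ with ho
  -- partial products at positions `0..o`
  let f : Fin (o + 1) → Γ := fun i => (l.take i).prod
  have hcard : Fintype.card Γ < Fintype.card (Fin (o + 1)) := by
    rw [Fintype.card_fin]; omega
  obtain ⟨i, j, hij, hf⟩ := Fintype.exists_ne_map_eq_of_card_lt f hcard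
  -- WLOG `i < j`
  wlog hlt : i < j generalizing i j
  · exact this j i hij.symm hf.symm (lt_of_le_of_ne (not_lt.mp hlt) hij.symm)
  have hi : (i : ℕ) ≤ j := le_of_lt hlt
  have hj : (j : ℕ) ≤ l.length := le_trans (Nat.lt_succ_iff.mp j.2) hl
  refine ⟨l.take i, (l.take j).drop i, l.drop j, ?_, ?_, ?_, ?_⟩
  · have h1 : l.take i ++ (l.take j).drop i = l.take j := by
      have : l.take i = (l.take j).take i := by
        rw [List.take_take, min_eq_left hi]
      rw [this, List.take_append_drop]
    rw [h1, List.take_append_drop]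
  · intro h
    have hlen := congrArg List.length h
    rw [List.length_drop, List.length_take, min_eq_left hj, List.length_nil] at hlen
    have : (i : ℕ) < j := hlt
    omega
  · have h1 : (l.take j).prod = (l.take i).prod * ((l.take j).drop i).prod := by
      have : l.take i = (l.take j).take i := by
        rw [List.take_take, min_eq_left hi]
      rw [this, List.prod_take_mul_prod_drop]
    have hf' : (l.take i).prod = (l.take j).prod := hf
    rw [← hf'] at h1
    exact (mul_eq_left.mp h1.symm)
  · rw [List.length_drop, List.length_take, min_eq_left hj]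
    have := Nat.lt_succ_iff.mp j.2
    omega

/-! ### Moving `N`-central functions supported on `N` across homogeneous functions -/

/-- Conjugate of a function by `g`. -/
def cjF (g : G) (z : G → ℂ) : G → ℂ := fun x => z (g⁻¹ * x * g)

omit [Fintype G] in
theorem cjF_apply (g : G) (z : G → ℂ) (x : G) : cjF g z x = z (g⁻¹ * x * g) := rfl

/-- If `A` is supported on the coset of `g` and `z` is supported on `N` and invariant under
conjugation by `N`, then `A * z = (g z g⁻¹) * A`. -/
theorem conv_comm_of_suppOn {A z : G → ℂ} (g : G) (hA : SuppOn N A (g : G ⧸ N))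
    (hz : SuppOn N z 1) (hzinv : ∀ n ∈ N, ∀ t, z (n * t * n⁻¹) = z t) :
    conv A z = conv (cjF g z) A := by
  funext u
  simp only [conv]
  refine Fintype.sum_equiv ((Equiv.inv G).trans (Equiv.mulLeft u)) _ _ fun t => ?_
  simp only [Equiv.trans_apply, Equiv.inv_apply, Equiv.coe_mulLeft]
  have e1 : (u * t⁻¹)⁻¹ * u = t := by group
  rw [e1, cjF_apply, mul_comm (z (g⁻¹ * (u * t⁻¹) * g))]
  by_cases hAt : A t = 0
  · rw [hAt, zero_mul, zero_mul]
  congr 1
  have ht : (t : G ⧸ N) = (g : G ⧸ N) := hA t hAt
  -- both arguments of `z` are conjugate under `N` when they lie in `N`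
  by_cases hs : t⁻¹ * u ∈ N
  · -- `g⁻¹ (u t⁻¹) g = (g⁻¹ t) (t⁻¹ u) (g⁻¹ t)⁻¹`
    have hn : g⁻¹ * t ∈ N := by
      have := QuotientGroup.eq.mp ht.symm
      exact this
    have := hzinv (g⁻¹ * t) hn (t⁻¹ * u)
    rw [← this]
    congr 1
    group
  · have h1 : z (t⁻¹ * u) = 0 := by
      by_contra hne
      apply hs
      have := hz _ hne
      exact (QuotientGroup.eq_one_iff _).mp this
    have h2 : z (g⁻¹ * (u * t⁻¹) * g) = 0 := by
      by_contra hne
      apply hs
      have h3 := (QuotientGroup.eq_one_iff _).mp (hz _ hne)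
      have hn : g⁻¹ * t ∈ N := QuotientGroup.eq.mp ht.symm
      -- `t⁻¹ u = (g⁻¹ t)⁻¹ (g⁻¹ u t⁻¹ g) (g⁻¹ t)`
      have h4 := hN.conj_mem _ h3 (g⁻¹ * t)⁻¹
      convert h4 using 1
      group
    rw [h1, h2]

/-! ### Extracting loops from long words -/

/-- Convolution product of a list of functions. -/
noncomputable def cprod : List (G → ℂ) → (G → ℂ)
  | [] => deltaOne
  | z :: zs => conv z (cprod zs)

theorem cprod_nil : cprod ([] : List (G → ℂ)) = deltaOne := rfl

theorem cprod_cons (z : G → ℂ) (zs : List (G → ℂ)) : cprod (z :: zs) = conv z (cprod zs) := rfl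

/-- A conjugated loop: a conjugate of a word of degree `1`. -/
def IsCLoop (a : G → ℂ) (z : G → ℂ) : Prop :=
  ∃ (g : G) (l : List (G ⧸ N)), l ≠ [] ∧ l.prod = 1 ∧ z = cjF g (word N a l)

/-- A word of length at least `k · |G/N|` is a product of `k` conjugated loops times a word. -/
theorem word_eq_cprod [Fintype (G ⧸ N)] {a : G → ℂ} (ha : IsClassFunction G a) (k : ℕ) :
    ∀ l : List (G ⧸ N), k * Fintype.card (G ⧸ N) ≤ l.length →
      ∃ zs : List (G → ℂ), zs.length = k ∧ (∀ z ∈ zs, IsCLoop N a z) ∧
        ∃ l' : List (G ⧸ N), word N a l = conv (cprod zs) (word N a l') := by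
  induction k with
  | zero =>
    intro l _
    exact ⟨[], rfl, fun z hz => absurd hz (List.not_mem_nil), l, by
      rw [cprod_nil, conv_deltaOne_left]⟩
  | succ k ih =>
    intro l hl
    have ho : Fintype.card (G ⧸ N) ≤ l.length := by
      have : Fintype.card (G ⧸ N) ≤ (k + 1) * Fintype.card (G ⧸ N) := by
        nlinarith [Nat.zero_le (k * Fintype.card (G ⧸ N))]
      omega
    obtain ⟨l₁, l₂, l₃, rfl, hne, hprod, hlen⟩ := exists_loop l ho
    obtain ⟨g, hg⟩ := QuotientGroup.mk_surjective (s := N) l₁.prod
    have hlen' : k * Fintype.card (G ⧸ N) ≤ (l₁ ++ l₃).length := by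
      simp only [List.length_append] at hl ⊢
      have : (k + 1) * Fintype.card (G ⧸ N) = k * Fintype.card (G ⧸ N) + Fintype.card (G ⧸ N) := by
        ring
      omega
    obtain ⟨zs, hzs, hz, l', hl'⟩ := ih (l₁ ++ l₃) hlen'
    refine ⟨cjF g (word N a l₂) :: zs, by simp [hzs], ?_, l', ?_⟩
    · intro z hz'
      rcases List.mem_cons.mp hz' with rfl | hz'
      · exact ⟨g, l₂, hne, hprod, rfl⟩
      · exact hz z hz'
    · have hsupp : SuppOn N (word N a l₁) (g : G ⧸ N) := by
        rw [hg]; exact suppOn_word N a l₁
      have hsupp2 : SuppOn N (word N a l₂) 1 := by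
        rw [← hprod]; exact suppOn_word N a l₂
      have hcomm := conv_comm_of_suppOn N g hsupp hsupp2
        (fun n hn t => word_conj_invariant N ha l₂ hn t)
      rw [word_append, word_append, hcomm, conv_assoc, ← word_append, hl', cprod_cons, conv_assoc]

end Cfsg.Agent.Helper23.KN
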