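import Mathlib
import Cfsg.Prelude.Def_Blocks
import Cfsg.Agent.Helper23.KnorrA
import Cfsg.Agent.Helper23.NormalSupport
import Cfsg.Agent.Helper5.BrauerMap2
import Cfsg.Agent.Helper5.Passman

set_option autoImplicit false
set_option linter.unusedSectionVars false
set_option linter.unusedVariables false
set_option linter.style.haveILetI false
set_option linter.unnecessarySimpa false

/-!
# Nilpotency of the radical of a block of a normal subgroup and the key lemma

If `B` covers the `G`-stable block `b` of `N ⊴ G` then some loop (a product of coset components of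
the idempotent of `B` whose degrees multiply to `1`) acts as a unit of the local ring on every
member of `b`.
-/

namespace Cfsg.Agent.Helper23.KN

open Cfsg Cfsg.Agent.Helper24 Cfsg.Agent.Helper5 Cfsg.Agent.Helper5.Loc Cfsg.Agent.Helper5.CC
open Cfsg.Agent.Helper23.NS

section Families

variable {H : Type*} [Group H] [Fintype H] {M : Ideal AlgInt}

theorem isRep_listProd (hM : M.IsPrime) (vs : List (IrrCharacter H → ℂ))
    (h : ∀ v ∈ vs, IsRep M v) : IsRep M (fun ψ => (vs.map (fun v => v ψ)).prod) := by
  induction vs with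
  | nil => simpa using isRep_one (G := H) hM
  | cons v vs ih =>
    have h1 := isRep_mul hM (h v (List.mem_cons_self)) (ih fun w hw => h w (List.mem_cons_of_mem _ hw))
    simpa [List.map_cons, List.prod_cons] using h1

theorem multi_key (hM : M.IsPrime) {ind : IrrCharacter H → ℂ} (hind : IsRep M ind) :
    ∀ (vs : List (IrrCharacter H → ℂ)) (ths : List (IrrCharacter H)), vs.length = ths.length →
      (∀ v ∈ vs, IsRep M v) → (∀ p ∈ vs.zip ths, MemLocalIdeal M (p.1 p.2)) →
      ∃ q : IrrCharacter H → ℂ, IsRepI M q ∧ ∀ ψ,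
        ((vs.zip ths).map (fun p => p.1 ψ - p.1 p.2 * ind ψ)).prod =
          (vs.map (fun v => v ψ)).prod + q ψ := by
  intro vs
  induction vs with
  | nil =>
    intro ths _ _ _
    exact ⟨fun _ => 0, isRepI_zero hM, fun ψ => by simp⟩
  | cons v vs ih =>
    intro ths hlen hrep hli
    cases ths with
    | nil => simp at hlen
    | cons θ ths =>
      have hlen' : vs.length = ths.length := by simpa using hlen
      obtain ⟨q, hq, hqe⟩ := ih ths hlen' (fun w hw => hrep w (List.mem_cons_of_mem _ hw))
        (fun p hp => hli p (by rw [List.zip_cons_cons]; exact List.mem_cons_of_mem _ hp))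
      have hv : IsRep M v := hrep v List.mem_cons_self
      have hc : MemLocalIdeal M (v θ) := hli (v, θ) (by rw [List.zip_cons_cons]; exact List.mem_cons_self)
      have hP : IsRep M (fun ψ => (vs.map (fun w => w ψ)).prod) :=
        isRep_listProd hM vs (fun w hw => hrep w (List.mem_cons_of_mem _ hw))
      refine ⟨fun ψ => v ψ * q ψ - (v θ * (ind ψ * (vs.map (fun w => w ψ)).prod) +
        v θ * (ind ψ * q ψ)), ?_, fun ψ => ?_⟩
      · apply isRepI_sub hM (isRepI_mul_left hM hv hq)
        apply isRepI_add hM (isRepI_smul_of_li hM hc (isRep_mul hM hind hP))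
        exact isRepI_smul_of_li hM hc (isRep_mul hM hind hq.isRep)
      · rw [List.zip_cons_cons, List.map_cons, List.prod_cons, hqe ψ, List.map_cons, List.prod_cons]
        ring

theorem exists_mem_zip {α β : Type*} (l₁ : List α) (l₂ : List β) (h : l₁.length = l₂.length)
    {y : β} (hy : y ∈ l₂) : ∃ x, (x, y) ∈ l₁.zip l₂ := by
  obtain ⟨i, hi, rfl⟩ := List.mem_iff_getElem.mp hy
  have hi' : i < l₁.length := by omega
  refine ⟨l₁[i], ?_⟩
  rw [List.mem_iff_getElem]
  refine ⟨i, by simp [hi, hi'], ?_⟩
  simp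

/-- A product of `|b|` representable families with values in the local ideal on `b` and zero off
`b` is represented by a function with values in the local ideal. -/
theorem isRepI_listProd (hM : M.IsPrime) (b : Finset (IrrCharacter H)) (hbne : b.Nonempty)
    {ind : IrrCharacter H → ℂ} (hind : IsRep M ind) (hind1 : ∀ ψ ∈ b, ind ψ = 1)
    (hind0 : ∀ ψ, ψ ∉ b → ind ψ = 0)
    (vs : List (IrrCharacter H → ℂ)) (hlen : vs.length = b.card) (hrep : ∀ v ∈ vs, IsRep M v)
    (hli : ∀ v ∈ vs, ∀ ψ ∈ b, MemLocalIdeal M (v ψ)) (h0 : ∀ v ∈ vs, ∀ ψ, ψ ∉ b → v ψ = 0) :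
    IsRepI M (fun ψ => (vs.map (fun v => v ψ)).prod) := by
  classical
  have hlen' : vs.length = b.toList.length := by rw [Finset.length_toList, hlen]
  obtain ⟨q, hq, hqe⟩ := multi_key hM hind vs b.toList hlen' hrep (by
    intro p hp
    obtain ⟨h1, h2⟩ := List.of_mem_zip hp
    exact hli p.1 h1 p.2 (Finset.mem_toList.mp h2))
  have hzero : ∀ ψ, ((vs.zip b.toList).map (fun p => p.1 ψ - p.1 p.2 * ind ψ)).prod = 0 := by
    intro ψ
    apply List.prod_eq_zero
    rw [List.mem_map]
    by_cases hψ : ψ ∈ b
    · obtain ⟨v, hv⟩ := exists_mem_zip vs b.toList hlen' (Finset.mem_toList.mpr hψ)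
      refine ⟨(v, ψ), hv, ?_⟩
      show v ψ - v ψ * ind ψ = 0
      rw [hind1 ψ hψ, mul_one, sub_self]
    · obtain ⟨θ, hθ⟩ := hbne
      obtain ⟨v, hv⟩ := exists_mem_zip vs b.toList hlen' (Finset.mem_toList.mpr hθ)
      refine ⟨(v, θ), hv, ?_⟩
      show v ψ - v θ * ind ψ = 0
      rw [hind0 ψ hψ, h0 v (List.of_mem_zip hv).1 ψ hψ, mul_zero, sub_self]
  have h1 : ∀ ψ, (vs.map (fun v => v ψ)).prod = 0 - q ψ := by
    intro ψ
    have := hqe ψ
    rw [hzero ψ] at this
    linear_combination -this
  exact isRepI_congr (fun ψ => (h1 ψ).symm) (isRepI_sub hM (isRepI_zero hM) hq)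

end Families

variable {G : Type*} [Group G] [Fintype G] (N : Subgroup G) [hN : N.Normal] {M : Ideal AlgInt}

/-- Restriction of a function on `G` to `N`. -/
def resN (z : G → ℂ) : N → ℂ := fun n => z n

/-- `z` is supported on `N`, invariant under conjugation by `N`, with local-integer values. -/
structure IsNCentral (M : Ideal AlgInt) (z : G → ℂ) : Prop where
  supp : SuppOn N z 1
  inv : ∀ n ∈ N, ∀ t, z (n * t * n⁻¹) = z t
  lr : ∀ t, MemLocalRing M (z t)

omit [Fintype G] in
theorem IsNCentral.isClassFunction {z : G → ℂ} (hz : IsNCentral N M z) :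
    IsClassFunction N (resN N z) := by
  intro g h
  show z ((h * g * h⁻¹ : N) : G) = z g
  have := hz.inv h h.2 g
  simpa using this

omit [Fintype G] in
theorem IsNCentral.eq_zero {z : G → ℂ} (hz : IsNCentral N M z) {x : G} (hx : x ∉ N) : z x = 0 := by
  by_contra h
  exact hx ((QuotientGroup.eq_one_iff x).mp (hz.supp x h))

theorem isNCentral_deltaOne (hM : M.IsPrime) : IsNCentral N M (deltaOne : G → ℂ) :=
  ⟨suppOn_deltaOne N, fun n _ t => deltaOne_conj_invariant n t,
    fun t => memLocalRing_classIndicator hM 1 t⟩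

theorem IsNCentral.conv (hM : M.IsPrime) {z z' : G → ℂ} (hz : IsNCentral N M z)
    (hz' : IsNCentral N M z') : IsNCentral N M (conv z z') := by
  refine ⟨?_, fun n hn t => conv_conj_invariant n (hz.inv n hn) (hz'.inv n hn) t,
    fun t => lr_conv hM hz.lr hz'.lr t⟩
  have := suppOn_conv N hz.supp hz'.supp
  rwa [mul_one] at this

theorem isNCentral_cprod (hM : M.IsPrime) (zs : List (G → ℂ)) (h : ∀ z ∈ zs, IsNCentral N M z) :
    IsNCentral N M (cprod zs) := by
  induction zs with
  | nil => exact isNCentral_deltaOne N hM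
  | cons z zs ih =>
    rw [cprod_cons]
    exact (h z List.mem_cons_self).conv N hM (ih fun w hw => h w (List.mem_cons_of_mem _ hw))

variable [Fintype N]

theorem resN_conv {z z' : G → ℂ} (hz : SuppOn N z 1) :
    resN N (conv z z') = conv (resN N z) (resN N z') := by
  funext n
  show conv z z' (n : G) = _
  simp only [conv, resN]
  rw [← sum_subgroup_eq_sum N (fun t => z t * z' (t⁻¹ * (n : G)))]
  · rfl
  · intro t ht
    have : z t = 0 := by
      by_contra h
      exact ht ((QuotientGroup.eq_one_iff t).mp (hz t h))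
    rw [this, zero_mul]

omit [Fintype G] hN in
theorem resN_deltaOne : resN N (deltaOne : G → ℂ) = (deltaOne : N → ℂ) := by
  funext n
  by_cases h : n = 1
  · rw [h]
    show (deltaOne : G → ℂ) ((1 : N) : G) = _
    rw [Subgroup.coe_one, deltaOne_apply_one, deltaOne_apply_one]
  · have h' : (n : G) ≠ 1 := fun h' => h (Subtype.ext h')
    show (deltaOne : G → ℂ) (n : G) = _
    rw [deltaOne_apply_ne h', deltaOne_apply_ne h]

theorem act_resN_cprod (hM : M.IsPrime) (zs : List (G → ℂ)) (h : ∀ z ∈ zs, IsNCentral N M z)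
    (θ : IrrCharacter N) :
    act (resN N (cprod zs)) θ = (zs.map (fun z => act (resN N z) θ)).prod := by
  induction zs with
  | nil =>
    rw [cprod_nil, resN_deltaOne, act_deltaOne]
    rfl
  | cons z zs ih =>
    have hz := h z List.mem_cons_self
    rw [cprod_cons, resN_conv N hz.supp, act_conv (hz.isClassFunction N),
      ih fun w hw => h w (List.mem_cons_of_mem _ hw), List.map_cons, List.prod_cons]

/-! ### Components of a product with a function supported on `N` -/

omit [Fintype N] in
theorem comp_conv_left {c : G → ℂ} (hc : SuppOn N c 1) (a : G → ℂ) (q : G ⧸ N) :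
    comp N (conv c a) q = conv c (comp N a q) := by
  funext u
  have key : ∀ t : G, c t ≠ 0 → ((t⁻¹ * u : G) : G ⧸ N) = (u : G ⧸ N) := by
    intro t ht
    have h1 := hc t ht
    rw [QuotientGroup.mk_mul, QuotientGroup.mk_inv, h1]
    simp
  by_cases hu : (u : G ⧸ N) = q
  · rw [comp_of_eq N _ hu]
    simp only [conv]
    refine Finset.sum_congr rfl fun t _ => ?_
    by_cases ht : c t = 0
    · rw [ht, zero_mul, zero_mul]
    · rw [comp_of_eq N a ((key t ht).trans hu)]
  · rw [comp_of_ne N _ hu]
    simp only [conv]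
    symm
    apply Finset.sum_eq_zero
    intro t _
    by_cases ht : c t = 0
    · rw [ht, zero_mul]
    · rw [comp_of_ne N a (fun h => hu ((key t ht).symm.trans h)), mul_zero]

/-! ### Conjugated functions -/

omit [Fintype G] [Fintype N] in
theorem isNCentral_cjF (g : G) {z : G → ℂ} (hz : IsNCentral N M z) : IsNCentral N M (cjF g z) := by
  refine ⟨?_, ?_, fun t => hz.lr _⟩
  · intro x hx
    have h1 := (QuotientGroup.eq_one_iff _).mp (hz.supp _ hx)
    rw [QuotientGroup.eq_one_iff]
    have := hN.conj_mem _ h1 g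
    convert this using 1
    group
  · intro n hn t
    rw [cjF_apply, cjF_apply]
    have hn' : g⁻¹ * n * g ∈ N := by
      have := hN.conj_mem n hn g⁻¹
      simpa using this
    have := hz.inv _ hn' (g⁻¹ * t * g)
    rw [← this]
    congr 1
    group

theorem act_resN_cjF (g : G) (z : G → ℂ) (θ : IrrCharacter N) :
    act (resN N (cjF g z)) θ = act (resN N z) (conjIrr N g θ) := by
  have h1 : ((conjIrr N g θ : IrrCharacter N) : N → ℂ) 1 = (θ : N → ℂ) 1 := by
    show conjFun N (θ : N → ℂ) g 1 = _
    rw [conjFun_apply]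
    exact congrArg (θ : N → ℂ) (Subtype.ext (by simp))
  rw [act, act, h1]
  congr 1
  refine (Fintype.sum_equiv (MulAut.conjNormal g : N ≃* N).toEquiv _ _ fun m => ?_).symm
  show resN N z m * (conjIrr N g θ : N → ℂ) m =
    resN N (cjF g z) ((MulAut.conjNormal g : N ≃* N) m) * (θ : N → ℂ) ((MulAut.conjNormal g : N ≃* N) m)
  have e1 : resN N (cjF g z) ((MulAut.conjNormal g : N ≃* N) m) = resN N z m := by
    show z (g⁻¹ * (((MulAut.conjNormal g : N ≃* N) m : N) : G) * g) = z m
    rw [MulAut.conjNormal_apply]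
    congr 1
    group
  have e2 : (θ : N → ℂ) ((MulAut.conjNormal g : N ≃* N) m) = (conjIrr N g θ : N → ℂ) m := by
    show _ = conjFun N (θ : N → ℂ) g m
    rw [conjFun_apply]
    congr 1
  rw [e1, e2]

end Cfsg.Agent.Helper23.KN
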