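import Mathlib
import Cfsg.Prelude.Def_Blocks
import Cfsg.Agent.Helper23.KnorrB

set_option autoImplicit false
set_option linter.unusedSectionVars false
set_option linter.unusedVariables false
set_option linter.style.haveILetI false
set_option linter.unnecessarySimpa false

/-!
# The key lemma: a loop acting as a unit on a covered stable block
-/

namespace Cfsg.Agent.Helper23.KN

open Cfsg Cfsg.Agent.Helper24 Cfsg.Agent.Helper5 Cfsg.Agent.Helper5.Loc Cfsg.Agent.Helper5.CC
open Cfsg.Agent.Helper23.NS

variable {G : Type*} [Group G] [Fintype G] (N : Subgroup G) [hN : N.Normal] [Fintype N]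
  {M : Ideal AlgInt}

/-- **Key lemma, general form.** Let `b` be a `G`-stable set of irreducible characters of `N ⊴ G`
whose idempotent has local-integer coefficients, and `B` a block of `G` whose idempotent is fixed by
multiplication with that of `b`.  Then some loop in the coset components of the idempotent of `B`
acts on some member of `b` by a unit of the local ring. -/
theorem exists_unit_loop_gen {p : ℕ} [Fact p.Prime] (hM : IsPModular p M)
    (b : Set (IrrCharacter N)) (hne : ∃ θ, θ ∈ b) (hst : IsStable N b)
    (hR : ∀ n, MemLocalRing M (blockCoeff b n))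
    (B : Set (IrrCharacter G)) (hB : IsPBlock M B)
    (hcov : conv (blockCoeff B) (cutCoeff N b) = blockCoeff B) :
    ∃ l : List (G ⧸ N), l ≠ [] ∧ l.prod = 1 ∧
      ∃ θ ∈ b, ¬ MemLocalIdeal M (act (resN N (word N (blockCoeff B) l)) θ) := by
  classical
  have hMp := isPrime_of_isPModular hM
  haveI : Fintype (IrrCharacter G) := Fintype.ofFinite _
  haveI : Fintype (IrrCharacter N) := Fintype.ofFinite _
  haveI : Fintype (G ⧸ N) := Fintype.ofFinite _
  have ha : IsClassFunction G (blockCoeff B) := isClassFunction_blockCoeff B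
  have haM : ∀ t, MemLocalRing M (blockCoeff B t) := osima hMp B hB
  have hidem : conv (blockCoeff B) (blockCoeff B) = blockCoeff B := conv_blockCoeff_self B
  have hcutC : IsClassFunction G (cutCoeff N b) := isClassFunction_cutCoeff N hst
  have hcutS : SuppOn N (cutCoeff N b) 1 := by
    intro x hx
    rw [QuotientGroup.eq_one_iff]
    by_contra h
    exact hx (cutCoeff_of_not_mem N b h)
  have hres_cut : resN N (cutCoeff N b) = blockCoeff b := by
    funext n
    exact cutCoeff_of_mem N b n.2
  have hcov' : conv (cutCoeff N b) (blockCoeff B) = blockCoeff B := by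
    rw [← conv_comm_of_isClassFunction (blockCoeff B) hcutC]
    exact hcov
  -- components and nonempty words absorb the idempotent of `b`
  have hcomp : ∀ q : G ⧸ N, comp N (blockCoeff B) q =
      conv (cutCoeff N b) (comp N (blockCoeff B) q) := by
    intro q
    rw [← comp_conv_left N hcutS, hcov']
  have hwordA : ∀ l : List (G ⧸ N), l ≠ [] →
      word N (blockCoeff B) l = conv (cutCoeff N b) (word N (blockCoeff B) l) := by
    intro l hl
    cases l with
    | nil => exact absurd rfl hl
    | cons q l => rw [word_cons, ← conv_assoc, ← hcomp q]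
  have hwordN : ∀ l : List (G ⧸ N), l.prod = 1 → IsNCentral N M (word N (blockCoeff B) l) :=
    fun l hl => ⟨hl ▸ suppOn_word N (blockCoeff B) l,
      fun n hn t => word_conj_invariant N ha l hn t, lr_word N hMp haM l⟩
  have hzero : ∀ l : List (G ⧸ N), l ≠ [] → l.prod = 1 → ∀ θ : IrrCharacter N, θ ∉ b →
      act (resN N (word N (blockCoeff B) l)) θ = 0 := by
    intro l hl hp θ hθ
    have h1 : resN N (word N (blockCoeff B) l) =
        conv (blockCoeff b) (resN N (word N (blockCoeff B) l)) := by
      conv_lhs => rw [hwordA l hl]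
      rw [resN_conv N hcutS, hres_cut]
    rw [h1, act_conv (isClassFunction_blockCoeff b), act_blockCoeff, if_neg hθ, zero_mul]
  by_contra hcon
  push Not at hcon
  have hli : ∀ l : List (G ⧸ N), l ≠ [] → l.prod = 1 → ∀ θ ∈ b,
      MemLocalIdeal M (act (resN N (word N (blockCoeff B) l)) θ) := hcon
  -- conjugated loops
  have hCL : ∀ z, IsCLoop N (blockCoeff B) z → IsNCentral N M z ∧
      (∀ θ ∈ b, MemLocalIdeal M (act (resN N z) θ)) ∧
      ∀ θ : IrrCharacter N, θ ∉ b → act (resN N z) θ = 0 := by
    rintro z ⟨g, l, hl, hp, rfl⟩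
    refine ⟨isNCentral_cjF N g (hwordN l hp), fun θ hθ => ?_, fun θ hθ => ?_⟩
    · rw [act_resN_cjF]
      exact hli l hl hp _ (hst θ hθ g)
    · rw [act_resN_cjF]
      apply hzero l hl hp
      intro h
      have h1 := hst _ h g⁻¹
      rw [conjIrr_conjIrr, mul_inv_cancel, conjIrr_one] at h1
      exact hθ h1
  -- the finite set `b`
  set bF : Finset (IrrCharacter N) := Finset.univ.filter (fun θ => θ ∈ b) with hbF
  have hmem : ∀ θ, θ ∈ bF ↔ θ ∈ b := fun θ => by simp [hbF]
  have hbne : bF.Nonempty := by
    obtain ⟨θ, hθ⟩ := hne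
    exact ⟨θ, (hmem θ).mpr hθ⟩
  set n := bF.card with hn
  have hnpos : 0 < n := Finset.card_pos.mpr hbne
  set o := Fintype.card (G ⧸ N) with ho
  have hopos : 0 < o := Fintype.card_pos
  have hind : IsRep M (fun θ : IrrCharacter N => act (blockCoeff b) θ) :=
    ⟨blockCoeff b, isClassFunction_blockCoeff b, hR, fun _ => rfl⟩
  -- every word of length `n * o` has values in the local ideal
  have hword : ∀ l : List (G ⧸ N), l.length = (n * o - 1) + 1 →
      ∀ t, MemLocalIdeal M (word N (blockCoeff B) l t) := by
    intro l hl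
    have hlen : n * o ≤ l.length := by
      have : 0 < n * o := Nat.mul_pos hnpos hopos
      omega
    obtain ⟨zs, hzs, hz, l', hl'⟩ := word_eq_cprod N ha n l hlen
    have hzN : ∀ z ∈ zs, IsNCentral N M z := fun z hz' => (hCL z (hz z hz')).1
    have hcp := isNCentral_cprod N hMp zs hzN
    -- the product of the loops has values in the local ideal
    have hrepI : IsRepI M (fun θ : IrrCharacter N => act (resN N (cprod zs)) θ) := by
      have h1 := isRepI_listProd hMp bF hbne hind
        (fun ψ hψ => by
          show act (blockCoeff b) ψ = 1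
          rw [act_blockCoeff, if_pos ((hmem ψ).mp hψ)])
        (fun ψ hψ => by
          show act (blockCoeff b) ψ = 0
          rw [act_blockCoeff, if_neg (fun h => hψ ((hmem ψ).mpr h))])
        (zs.map (fun z => fun θ : IrrCharacter N => act (resN N z) θ))
        (by rw [List.length_map, hzs])
        (by
          intro v hv
          obtain ⟨z, hz', rfl⟩ := List.mem_map.mp hv
          exact ⟨resN N z, (hzN z hz').isClassFunction N, fun t => (hzN z hz').lr _, fun _ => rfl⟩)
        (by
          intro v hv ψ hψ
          obtain ⟨z, hz', rfl⟩ := List.mem_map.mp hv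
          exact (hCL z (hz z hz')).2.1 ψ ((hmem ψ).mp hψ))
        (by
          intro v hv ψ hψ
          obtain ⟨z, hz', rfl⟩ := List.mem_map.mp hv
          exact (hCL z (hz z hz')).2.2 ψ (fun h => hψ ((hmem ψ).mpr h)))
      refine isRepI_congr (fun θ => ?_) h1
      rw [act_resN_cprod N hMp zs hzN θ, List.map_map]
      rfl
    have hval := IsRepI.values (hcp.isClassFunction N) hrepI
    have hcpM : ∀ t, MemLocalIdeal M (cprod zs t) := by
      intro t
      by_cases ht : t ∈ N
      · exact hval ⟨t, ht⟩
      · rw [hcp.eq_zero N ht]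
        exact memLocalIdeal_zero hMp
    intro t
    rw [hl']
    exact li_conv_left hMp hcpM (lr_word N hMp haM l') t
  -- hence so has the idempotent itself
  have hall : ∀ t, MemLocalIdeal M (blockCoeff B t) :=
    idem_induction N hidem (fun x => ∀ t, MemLocalIdeal M (x t))
      (fun t => memLocalIdeal_zero hMp) (fun x y hx hy t => li_add hMp (hx t) (hy t))
      (n * o - 1) hword
  obtain ⟨χ, hχ⟩ := IsPBlock.nonempty hMp hB
  have h1 := act_li hMp ha hall χ
  rw [act_blockCoeff, if_pos hχ] at h1
  exact not_memLocalIdeal_one hMp h1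

/-- **Key lemma.** Let `b` be a `G`-stable block of `N ⊴ G` and `B` a block of `G` whose
idempotent is fixed by multiplication with that of `b` (i.e. `B` covers `b`).  Then some loop in
the coset components of the idempotent of `B` acts on every member of `b` by a unit of the local
ring. -/
theorem exists_unit_loop {p : ℕ} [Fact p.Prime] (hM : IsPModular p M)
    (b : Set (IrrCharacter N)) (hb : IsPBlock M b) (hst : IsStable N b)
    (B : Set (IrrCharacter G)) (hB : IsPBlock M B)
    (hcov : conv (blockCoeff B) (cutCoeff N b) = blockCoeff B) :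
    ∃ l : List (G ⧸ N), l ≠ [] ∧ l.prod = 1 ∧
      ∀ θ ∈ b, ¬ MemLocalIdeal M (act (resN N (word N (blockCoeff B) l)) θ) := by
  classical
  have hMp := isPrime_of_isPModular hM
  haveI : Fintype (IrrCharacter G) := Fintype.ofFinite _
  haveI : Fintype (IrrCharacter N) := Fintype.ofFinite _
  obtain ⟨l, hl, hp, θ₀, hθ₀, h0⟩ := exists_unit_loop_gen N hM b (IsPBlock.nonempty hMp hb) hst
    (osima hMp b hb) B hB hcov
  refine ⟨l, hl, hp, fun θ hθ hcon => h0 ?_⟩
  have hw : IsNCentral N M (word N (blockCoeff B) l) :=
    ⟨hp ▸ suppOn_word N (blockCoeff B) l,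
      fun n hn t => word_conj_invariant N (isClassFunction_blockCoeff B) l hn t,
      lr_word N hMp (osima hMp B hB) l⟩
  have hsb := sameBlock_of_mem hMp hb hθ₀ hθ
  have h1 := act_sub_act_memLocalIdeal hMp (hw.isClassFunction N) (fun t => hw.lr _) hsb
  have h2 := li_add hMp h1 hcon
  simpa using h2

end Cfsg.Agent.Helper23.KN
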