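import Mathlib
import Cfsg.Prelude.Def_Blocks
import Cfsg.Agent.Helper5.BlockSupport
import Cfsg.Agent.Helper5.PElementCongr
import Cfsg.Agent.Helper5.CharFacts
import Cfsg.Agent.Helper5.DefectOrder
import Cfsg.Agent.Helper5.PPrimeNormal
import Cfsg.Agent.Helper23.NormalSupport

/-!
# Characters of a block lying over a character of a normal subgroup

For a `p`-block `B` of `G`, a normal subgroup `N`, `θ ∈ Irr(N)` and a `p`-element `x ∉ N`:
`∑_{χ ∈ B over θ} χ(1) χ(x⁻¹) = 0` (the idempotent of `B ∩ Irr(G | θ)` is the product of the block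
idempotent, supported on `p`-regular elements, and of the idempotent of the orbit of `θ`, supported
on `N`).  Consequently `p ∣ ∑_{χ ∈ B over θ} χ(1)²`, and the number of characters of degree prime
to `p` in `B` over `θ` is not `1`, and divisible by `p` when `p ≤ 3`.
-/

set_option autoImplicit false
set_option linter.unusedSectionVars false
set_option linter.unusedVariables false

namespace Cfsg.Agent.Helper23.OT

open Cfsg Cfsg.Agent.Helper24 Cfsg.Agent.Helper5 Cfsg.Agent.Helper5.Loc Cfsg.Agent.Helper5.CC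
open Cfsg.Agent.Helper23.NS

variable {G : Type*} [Group G] [Fintype G] {M : Ideal AlgInt}

theorem isStable_orbitSet (N : Subgroup G) [hN : N.Normal] (θ : IrrCharacter N) :
    IsStable N (orbitSet N θ) :=
  fun η hη x => (bijOn_conjIrr N θ x).1 hη

/-- The idempotent of the orbit of `θ` acts as `1` on the characters over `θ` and as `0` on the
others. -/
theorem act_cutCoeff_orbitSet (N : Subgroup G) [hN : N.Normal] [Fintype N] (θ : IrrCharacter N)
    (χ : IrrCharacter G) [Decidable (classInner (fun n : N => (χ : G → ℂ) n) (θ : N → ℂ) ≠ 0)] :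
    act (cutCoeff N (orbitSet N θ)) χ =
      if classInner (fun n : N => (χ : G → ℂ) n) (θ : N → ℂ) ≠ 0 then 1 else 0 := by
  by_cases h : classInner (fun n : N => (χ : G → ℂ) n) (θ : N → ℂ) ≠ 0
  · rw [if_pos h]
    apply act_cutCoeff_of_subset
    intro θ' hθ'
    by_contra hnot
    apply hθ'
    apply classInner_restrict_eq_zero_of_not_conj N χ.2 θ.2 h θ'.2
    intro g hg
    exact hnot ⟨g, hg⟩
  · rw [if_neg h]
    apply act_cutCoeff_of_disjoint
    rintro η ⟨x, hx⟩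
    rw [hx, classInner_restrict_conjFun N (isClassFunction_irr χ)]
    exact not_not.mp h

/-- The idempotent of `B ∩ Irr(G | θ)` vanishes at `x` when every `t ∈ xN` is `p`-singular. -/
theorem sum_over_eq_zero [Fintype (IrrCharacter G)] {p : ℕ} [hp : Fact p.Prime]
    (hM : IsPModular p M) {B : Set (IrrCharacter G)} (hB : IsPBlock M B)
    (N : Subgroup G) [hN : N.Normal] [Fintype N] (θ : IrrCharacter N) (x : G)
    (hx : ∀ t : G, t⁻¹ * x ∈ N → p ∣ orderOf t)
    [DecidablePred (fun χ : IrrCharacter G => χ ∈ B ∧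
      classInner (fun n : N => (χ : G → ℂ) n) (θ : N → ℂ) ≠ 0)] :
    ∑ χ : IrrCharacter G,
      (if χ ∈ B ∧ classInner (fun n : N => (χ : G → ℂ) n) (θ : N → ℂ) ≠ 0 then
        (χ : G → ℂ) 1 * (starRingEnd ℂ) ((χ : G → ℂ) x) else 0) = 0 := by
  classical
  set c : G → ℂ := conv (blockCoeff B) (cutCoeff N (orbitSet N θ)) with hc
  have hccf : IsClassFunction G c :=
    isClassFunction_conv (isClassFunction_blockCoeff B)
      (isClassFunction_cutCoeff N (isStable_orbitSet N θ))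
  have hcx : c x = 0 := by
    rw [hc]
    show ∑ t : G, blockCoeff B t * cutCoeff N (orbitSet N θ) (t⁻¹ * x) = 0
    apply Finset.sum_eq_zero
    intro t _
    by_cases ht : t⁻¹ * x ∈ N
    · rw [blockCoeff_eq_zero_of_singular hM hB t (hx t ht), zero_mul]
    · rw [cutCoeff_of_not_mem N _ ht, mul_zero]
  have h1 := coeff_act hccf x
  rw [hcx] at h1
  have hne : (Nat.card G : ℂ)⁻¹ ≠ 0 := by
    apply inv_ne_zero
    exact_mod_cast (Nat.card_pos (α := G)).ne'
  have h2 := (mul_eq_zero.mp h1).resolve_left hne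
  refine Eq.trans ?_ h2
  refine Finset.sum_congr rfl fun χ _ => ?_
  rw [hc, act_conv (isClassFunction_blockCoeff B), act_blockCoeff, act_cutCoeff_orbitSet]
  by_cases hχB : χ ∈ B
  · by_cases hχθ : classInner (fun n : N => (χ : G → ℂ) n) (θ : N → ℂ) ≠ 0
    · rw [if_pos ⟨hχB, hχθ⟩, if_pos hχB, if_pos hχθ, one_mul, one_mul]
    · rw [if_neg (fun h => hχθ h.2), if_neg hχθ, mul_zero, zero_mul]
  · rw [if_neg (fun h => hχB h.1), if_neg hχB, zero_mul, zero_mul]

/-- Elements of the coset of a `p`-element outside `N` are `p`-singular. -/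
theorem dvd_orderOf_of_coset {p : ℕ} [hp : Fact p.Prime] (N : Subgroup G) [hN : N.Normal]
    (x : G) (k : ℕ) (hxk : x ^ p ^ k = 1) (hxN : x ∉ N) (t : G) (ht : t⁻¹ * x ∈ N) :
    p ∣ orderOf t := by
  have heq : (t : G ⧸ N) = (x : G ⧸ N) := by
    rw [QuotientGroup.eq]
    exact ht
  have h1 : orderOf (x : G ⧸ N) ∣ p ^ k := by
    apply orderOf_dvd_of_pow_eq_one
    rw [← QuotientGroup.mk_pow, hxk, QuotientGroup.mk_one]
  obtain ⟨j, -, hj⟩ := (Nat.dvd_prime_pow hp.out).mp h1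
  have hj0 : j ≠ 0 := by
    rintro rfl
    rw [pow_zero, orderOf_eq_one_iff, QuotientGroup.eq_one_iff] at hj
    exact hxN hj
  have h2 : orderOf (t : G ⧸ N) ∣ orderOf t :=
    orderOf_dvd_of_pow_eq_one (by
      rw [← QuotientGroup.mk_pow, pow_orderOf_eq_one, QuotientGroup.mk_one])
  rw [heq, hj] at h2
  exact dvd_trans (dvd_pow_self p hj0) h2

/-- `p` divides the sum of the squares of the degrees of the characters of `B` over `θ`. -/
theorem dvd_sum_sq_over [Fintype (IrrCharacter G)] {p : ℕ} [hp : Fact p.Prime]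
    (hM : IsPModular p M) {B : Set (IrrCharacter G)} (hB : IsPBlock M B)
    (N : Subgroup G) [hN : N.Normal] [Fintype N] (θ : IrrCharacter N) (x : G)
    (k : ℕ) (hxk : x ^ p ^ k = 1) (hxN : x ∉ N)
    [DecidablePred (fun χ : IrrCharacter G => χ ∈ B ∧
      classInner (fun n : N => (χ : G → ℂ) n) (θ : N → ℂ) ≠ 0)] :
    p ∣ ∑ χ ∈ Finset.univ.filter (fun χ : IrrCharacter G => χ ∈ B ∧
      classInner (fun n : N => (χ : G → ℂ) n) (θ : N → ℂ) ≠ 0), (irrDeg χ) ^ 2 := by
  classical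
  have hMp := isPrime_of_isPModular hM
  have hxk' : x⁻¹ ^ p ^ k = 1 := by rw [inv_pow, hxk, inv_one]
  have hxN' : x⁻¹ ∉ N := fun h => hxN (by simpa using N.inv_mem h)
  have h0 := sum_over_eq_zero hM hB N θ x⁻¹ (dvd_orderOf_of_coset N x⁻¹ k hxk' hxN')
  rw [← Finset.sum_filter] at h0
  rw [← memLocalIdeal_natCast_iff hM]
  push_cast
  generalize Finset.univ.filter (fun χ : IrrCharacter G => χ ∈ B ∧
      classInner (fun n : N => (χ : G → ℂ) n) (θ : N → ℂ) ≠ 0) = S at h0 ⊢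
  have h2 : ∑ χ ∈ S, (irrDeg χ : ℂ) * (χ : G → ℂ) (x * 1) = 0 := by
    refine Eq.trans ?_ h0
    refine Finset.sum_congr rfl fun χ _ => ?_
    rw [irrDeg_spec, mul_one, ← Helper5.irr_inv, inv_inv]
  have h1 : ∑ χ ∈ S, ((irrDeg χ : ℂ)) ^ 2 =
      ∑ χ ∈ S, (-((irrDeg χ : ℂ) * ((χ : G → ℂ) (x * 1) - (χ : G → ℂ) 1))) := by
    have h3 : ∑ χ ∈ S, ((irrDeg χ : ℂ)) ^ 2 =
        ∑ χ ∈ S, ((irrDeg χ : ℂ)) ^ 2 - ∑ χ ∈ S, (irrDeg χ : ℂ) * (χ : G → ℂ) (x * 1) := by
      rw [h2, sub_zero]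
    rw [h3, ← Finset.sum_sub_distrib]
    refine Finset.sum_congr rfl fun χ _ => ?_
    rw [irrDeg_spec]
    ring
  rw [h1]
  apply li_sum hMp
  intro χ _
  apply li_neg
  apply li_mul_left hMp (memLocalRing_natCast hMp _)
  exact char_mul_sub_char_memLocalIdeal hM (IsIrrCharacter.isCharacter χ.2) x 1
    (Commute.one_right x) k hxk

/-- `p` divides the sum of the squares of the degrees of the `p'`-degree characters of `B`
over `θ`. -/
theorem dvd_sum_sq_over_pprime [Fintype (IrrCharacter G)] {p : ℕ} [hp : Fact p.Prime]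
    (hM : IsPModular p M) {B : Set (IrrCharacter G)} (hB : IsPBlock M B)
    (N : Subgroup G) [hN : N.Normal] [Fintype N] (θ : IrrCharacter N) (x : G)
    (k : ℕ) (hxk : x ^ p ^ k = 1) (hxN : x ∉ N)
    [DecidablePred (fun χ : IrrCharacter G => χ ∈ B ∧ ¬ p ∣ charDegree (χ : G → ℂ) ∧
      classInner (fun n : N => (χ : G → ℂ) n) (θ : N → ℂ) ≠ 0)] :
    p ∣ ∑ χ ∈ Finset.univ.filter (fun χ : IrrCharacter G => χ ∈ B ∧
      ¬ p ∣ charDegree (χ : G → ℂ) ∧
      classInner (fun n : N => (χ : G → ℂ) n) (θ : N → ℂ) ≠ 0), (irrDeg χ) ^ 2 := by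
  classical
  have h := dvd_sum_sq_over hM hB N θ x k hxk hxN
  rw [← Finset.sum_filter_add_sum_filter_not _ (fun χ : IrrCharacter G =>
    ¬ p ∣ charDegree (χ : G → ℂ))] at h
  have h2 : p ∣ ∑ χ ∈ (Finset.univ.filter (fun χ : IrrCharacter G => χ ∈ B ∧
      classInner (fun n : N => (χ : G → ℂ) n) (θ : N → ℂ) ≠ 0)).filter
      (fun χ : IrrCharacter G => ¬ ¬ p ∣ charDegree (χ : G → ℂ)), (irrDeg χ) ^ 2 := by
    apply Finset.dvd_sum
    intro χ hχ
    have := (Finset.mem_filter.mp hχ).2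
    rw [not_not, charDegree_eq_irrDeg] at this
    exact dvd_pow this (by norm_num)
  have h3 := (Nat.dvd_add_left h2).mp h
  convert h3 using 2
  ext χ
  simp only [Finset.mem_filter, Finset.mem_univ, true_and]
  tauto

theorem zmod_two_sq : ∀ a : ZMod 2, a ≠ 0 → a ^ 2 = 1 := by decide

theorem zmod_three_sq : ∀ a : ZMod 3, a ≠ 0 → a ^ 2 = 1 := by decide

/-- **Counting the `p'`-degree characters of a block over `θ`.** -/
theorem count_over [Fintype (IrrCharacter G)] {p : ℕ} [hp : Fact p.Prime]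
    (hM : IsPModular p M) {B : Set (IrrCharacter G)} (hB : IsPBlock M B)
    (N : Subgroup G) [hN : N.Normal] [Fintype N] (θ : IrrCharacter N) (x : G)
    (k : ℕ) (hxk : x ^ p ^ k = 1) (hxN : x ∉ N) :
    (Nat.card {χ : IrrCharacter G // χ ∈ B ∧ ¬ p ∣ charDegree (χ : G → ℂ) ∧
        classInner (fun n : N => (χ : G → ℂ) n) (θ : N → ℂ) ≠ 0} = 0 ∨
      2 ≤ Nat.card {χ : IrrCharacter G // χ ∈ B ∧ ¬ p ∣ charDegree (χ : G → ℂ) ∧
        classInner (fun n : N => (χ : G → ℂ) n) (θ : N → ℂ) ≠ 0}) ∧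
    (p ≤ 3 → p ∣ Nat.card {χ : IrrCharacter G // χ ∈ B ∧ ¬ p ∣ charDegree (χ : G → ℂ) ∧
        classInner (fun n : N => (χ : G → ℂ) n) (θ : N → ℂ) ≠ 0}) := by
  classical
  have hdvd := dvd_sum_sq_over_pprime hM hB N θ x k hxk hxN
  set T : Finset (IrrCharacter G) := Finset.univ.filter (fun χ : IrrCharacter G => χ ∈ B ∧
      ¬ p ∣ charDegree (χ : G → ℂ) ∧
      classInner (fun n : N => (χ : G → ℂ) n) (θ : N → ℂ) ≠ 0) with hT
  have hcard : Nat.card {χ : IrrCharacter G // χ ∈ B ∧ ¬ p ∣ charDegree (χ : G → ℂ) ∧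
        classInner (fun n : N => (χ : G → ℂ) n) (θ : N → ℂ) ≠ 0} = T.card := by
    rw [Nat.card_eq_fintype_card, Fintype.card_subtype]
  rw [hcard]
  have hTdeg : ∀ χ ∈ T, ¬ p ∣ irrDeg χ := by
    intro χ hχ
    have := (Finset.mem_filter.mp hχ).2.2.1
    rwa [charDegree_eq_irrDeg] at this
  constructor
  · by_contra hcon
    push Not at hcon
    have h1 : T.card = 1 := by omega
    obtain ⟨χ₀, hχ₀⟩ := Finset.card_eq_one.mp h1
    rw [hχ₀, Finset.sum_singleton] at hdvd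
    have := (Fact.out : p.Prime).dvd_of_dvd_pow hdvd
    exact hTdeg χ₀ (by rw [hχ₀]; exact Finset.mem_singleton_self _) this
  · intro hp3
    have hp2 := (Fact.out : p.Prime).two_le
    have hzm : ∀ χ ∈ T, ((irrDeg χ : ℕ) : ZMod p) ^ 2 = 1 := by
      intro χ hχ
      have hne : ((irrDeg χ : ℕ) : ZMod p) ≠ 0 := by
        rw [Ne, ZMod.natCast_eq_zero_iff]
        exact hTdeg χ hχ
      have hp23 : p = 2 ∨ p = 3 := by omega
      rcases hp23 with rfl | rfl
      · exact zmod_two_sq _ hne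
      · exact zmod_three_sq _ hne
    rw [← ZMod.natCast_eq_zero_iff] at hdvd ⊢
    rw [Nat.cast_sum] at hdvd
    rw [Finset.sum_congr rfl (fun χ hχ => by rw [Nat.cast_pow, hzm χ hχ])] at hdvd
    rw [Finset.sum_const, nsmul_eq_mul, mul_one] at hdvd
    exact hdvd

end Cfsg.Agent.Helper23.OT
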