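import Mathlib
import Cfsg.Prelude.Def_Blocks
import Cfsg.Agent.Helper23.KnorrC
import Cfsg.Agent.Helper23.OverTheta

set_option autoImplicit false
set_option linter.unusedSectionVars false
set_option linter.unusedVariables false
set_option linter.style.haveILetI false
set_option linter.unnecessarySimpa false

/-!
# Consequences of the key lemma: characters of a covered block lie under the covering block
-/

namespace Cfsg.Agent.Helper23.KN

open Cfsg Cfsg.Agent.Helper24 Cfsg.Agent.Helper5 Cfsg.Agent.Helper5.Loc Cfsg.Agent.Helper5.CC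
open Cfsg.Agent.Helper23.NS Cfsg.Agent.Helper23

variable {G : Type*} [Group G] [Fintype G] (N : Subgroup G) [hN : N.Normal] [Fintype N]
  {M : Ideal AlgInt}

omit [Fintype G] [Fintype N] in
theorem suppOn_cutCoeff (Θ : Set (IrrCharacter N)) : SuppOn N (cutCoeff N Θ) 1 := by
  intro x hx
  rw [QuotientGroup.eq_one_iff]
  by_contra h
  exact hx (cutCoeff_of_not_mem N Θ h)

omit [Fintype G] [Fintype N] hN in
theorem resN_cutCoeff (Θ : Set (IrrCharacter N)) : resN N (cutCoeff N Θ) = blockCoeff Θ := by
  funext n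
  exact cutCoeff_of_mem N Θ n.2

/-- Covering criterion: if some member of the block `B` has a constituent in the stable set `b`
(whose idempotent has local-integer coefficients), then the idempotent of `B` is fixed by
multiplication with that of `b`. -/
theorem conv_cutCoeff_of_cover (hM : M.IsPrime) (b : Set (IrrCharacter N)) (hst : IsStable N b)
    (hR : ∀ n, MemLocalRing M (blockCoeff b n)) (B : Set (IrrCharacter G)) (hB : IsPBlock M B)
    (χ₀ : IrrCharacter G) (hχ₀ : χ₀ ∈ B) (θ₀ : IrrCharacter N) (hθ₀ : θ₀ ∈ b)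
    (h0 : classInner (fun n : N => (χ₀ : G → ℂ) n) (θ₀ : N → ℂ) ≠ 0) :
    conv (blockCoeff B) (cutCoeff N b) = blockCoeff B := by
  classical
  haveI : Fintype (IrrCharacter G) := Fintype.ofFinite _
  have ha := isClassFunction_blockCoeff B
  have hcutC : IsClassFunction G (cutCoeff N b) := isClassFunction_cutCoeff N hst
  have hcutM : ∀ t, MemLocalRing M (cutCoeff N b t) := by
    intro t
    by_cases ht : t ∈ N
    · rw [cutCoeff_of_mem N b ht]; exact hR _
    · rw [cutCoeff_of_not_mem N b ht]; exact memLocalRing_zero hM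
  -- a character with a constituent in `b` has all its constituents in `b`
  have hall : ∀ χ : IrrCharacter G, ∀ θ ∈ b,
      classInner (fun n : N => (χ : G → ℂ) n) (θ : N → ℂ) ≠ 0 → act (cutCoeff N b) χ = 1 := by
    intro χ θ hθ hne
    apply act_cutCoeff_of_subset
    intro θ' hθ'
    by_contra hnot
    apply hθ'
    apply classInner_restrict_eq_zero_of_not_conj N χ.2 θ.2 hne θ'.2
    intro g hg
    apply hnot
    have : θ' = conjIrr N g θ := Subtype.ext hg
    rw [this]
    exact hst θ hθ g
  have h1 : ∀ χ ∈ B, act (cutCoeff N b) χ = 1 := by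
    intro χ hχ
    by_cases hex : ∃ θ ∈ b, classInner (fun n : N => (χ : G → ℂ) n) (θ : N → ℂ) ≠ 0
    · obtain ⟨θ, hθ, hne⟩ := hex
      exact hall χ θ hθ hne
    · push Not at hex
      have hz := act_cutCoeff_of_disjoint N b χ hex
      have hsb := sameBlock_of_mem hM hB hχ₀ hχ
      have h2 := act_sub_act_memLocalIdeal hM hcutC hcutM hsb
      rw [hall χ₀ θ₀ hθ₀ h0, hz, sub_zero] at h2
      exact absurd h2 (not_memLocalIdeal_one hM)
  apply NS.eq_of_act_eq (isClassFunction_conv ha hcutC) ha
  intro χ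
  rw [act_conv ha, act_blockCoeff]
  by_cases hχ : χ ∈ B
  · rw [if_pos hχ, h1 χ hχ, mul_one]
  · rw [if_neg hχ, zero_mul]

/-- If a nonempty loop in the components of the idempotent of a set `B` of characters acts
nontrivially on `θ ∈ Irr(N)`, then some member of `B` lies over `θ`. -/
theorem exists_over_of_act_ne_zero (B : Set (IrrCharacter G)) (q : G ⧸ N) (l : List (G ⧸ N))
    (hp : (q :: l).prod = 1) (θ : IrrCharacter N)
    (hne : act (resN N (word N (blockCoeff B) (q :: l))) θ ≠ 0) :
    ∃ χ ∈ B, classInner (fun n : N => (χ : G → ℂ) n) (θ : N → ℂ) ≠ 0 := by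
  classical
  haveI : Fintype (IrrCharacter G) := Fintype.ofFinite _
  haveI : Fintype (IrrCharacter N) := Fintype.ofFinite _
  by_contra hcon
  push Not at hcon
  apply hne
  have ha := isClassFunction_blockCoeff B
  set tl := cutCoeff N (orbitSet N θ) with htl
  have htlC : IsClassFunction G tl := isClassFunction_cutCoeff N (Cfsg.Agent.Helper23.OT.isStable_orbitSet N θ)
  have htlS : SuppOn N tl 1 := suppOn_cutCoeff N _
  have h1 : conv (blockCoeff B) tl = 0 := by
    apply NS.eq_of_act_eq (isClassFunction_conv ha htlC) isClassFunction_zero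
    intro χ
    rw [act_conv ha, act_blockCoeff, Cfsg.Agent.Helper23.OT.act_cutCoeff_orbitSet, act_zero]
    by_cases hχ : χ ∈ B
    · rw [if_neg (not_not.mpr (hcon χ hχ)), mul_zero]
    · rw [if_neg hχ, zero_mul]
  have h2 : conv tl (blockCoeff B) = 0 := by
    rw [← conv_comm_of_isClassFunction (blockCoeff B) htlC]; exact h1
  have h3 : conv (comp N (blockCoeff B) q) tl = 0 := by
    rw [conv_comm_of_isClassFunction _ htlC, ← comp_conv_left N htlS, h2]
    funext x
    by_cases hx : (x : G ⧸ N) = q
    · rw [comp_of_eq N _ hx]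
    · rw [comp_of_ne N _ hx]; rfl
  have h4 : conv (word N (blockCoeff B) (q :: l)) tl = 0 := by
    rw [word_cons, conv_assoc, conv_comm_of_isClassFunction _ htlC, ← conv_assoc, h3,
      conv_zero_left]
  have hS : SuppOn N (word N (blockCoeff B) (q :: l)) 1 := by
    rw [← hp]; exact suppOn_word N _ _
  have h5 := resN_conv N (z' := tl) hS
  rw [h4, resN_cutCoeff] at h5
  have hwC : IsClassFunction N (resN N (word N (blockCoeff B) (q :: l))) := by
    intro g h
    show word N (blockCoeff B) (q :: l) ((h * g * h⁻¹ : N) : G) = word N (blockCoeff B) (q :: l) g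
    have := word_conj_invariant N ha (q :: l) h.2 (g : G)
    simpa using this
  have h6 := act_conv (d := blockCoeff (orbitSet N θ)) hwC θ
  rw [← h5, act_blockCoeff, if_pos ⟨1, by rw [conjFun_one']⟩, mul_one] at h6
  rw [← h6]
  exact act_zero θ

/-- **Every member of a covered block lies under the covering block.** -/
theorem exists_over {p : ℕ} [Fact p.Prime] (hM : IsPModular p M)
    (B : Set (IrrCharacter G)) (hB : IsPBlock M B) (b : Set (IrrCharacter N)) (hb : IsPBlock M b)
    (hcov : ∃ χ ∈ B, ∃ θ ∈ b, classInner (fun n : N => (χ : G → ℂ) n) (θ : N → ℂ) ≠ 0)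
    (θ : IrrCharacter N) (hθ : θ ∈ b) :
    ∃ χ ∈ B, classInner (fun n : N => (χ : G → ℂ) n) (θ : N → ℂ) ≠ 0 := by
  classical
  have hMp := isPrime_of_isPModular hM
  haveI : Fintype (IrrCharacter G) := Fintype.ofFinite _
  haveI : Fintype (IrrCharacter N) := Fintype.ofFinite _
  obtain ⟨χ₀, hχ₀, θ₀, hθ₀, h0⟩ := hcov
  have hst : IsStable N (conjUnion N b) := fun η hη x => (bijOn_conjIrr_conjUnion N b x).1 hη
  have hR : ∀ n, MemLocalRing M (blockCoeff (conjUnion N b) n) :=
    lr_blockCoeff_of_union hMp _ (fun η hη => blockOf_subset_conjUnion N hMp hb hη)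
  have hcov' := conv_cutCoeff_of_cover N hMp (conjUnion N b) hst hR B hB χ₀ hχ₀ θ₀
    (subset_conjUnion N b hθ₀) h0
  obtain ⟨l, hl, hp, θ₁, hθ₁, h1⟩ := exists_unit_loop_gen N hM (conjUnion N b)
    ⟨θ₀, subset_conjUnion N b hθ₀⟩ hst hR B hB hcov'
  obtain ⟨x, θ₂, hθ₂, rfl⟩ := hθ₁
  -- move to the conjugate of `θ` in the same block as `θ₁`
  have hw : IsNCentral N M (word N (blockCoeff B) l) :=
    ⟨hp ▸ suppOn_word N (blockCoeff B) l,
      fun n hn t => word_conj_invariant N (isClassFunction_blockCoeff B) l hn t,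
      lr_word N hMp (osima hMp B hB) l⟩
  have hsb : SameBlock M (conjIrr N x θ₂ : N → ℂ) (conjIrr N x θ : N → ℂ) :=
    sameBlock_conjIrr N x (sameBlock_of_mem hMp hb hθ₂ hθ)
  have h2 : ¬ MemLocalIdeal M (act (resN N (word N (blockCoeff B) l)) (conjIrr N x θ)) := by
    intro hcon
    apply h1
    have h3 := act_sub_act_memLocalIdeal hMp (hw.isClassFunction N) (fun t => hw.lr _) hsb
    have h4 := li_add hMp h3 hcon
    simpa using h4
  have h3 : act (resN N (word N (blockCoeff B) l)) (conjIrr N x θ) ≠ 0 := by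
    intro h
    rw [h] at h2
    exact h2 (memLocalIdeal_zero hMp)
  cases l with
  | nil => exact absurd rfl hl
  | cons q l =>
    obtain ⟨χ, hχ, hne⟩ := exists_over_of_act_ne_zero N B q l hp (conjIrr N x θ) h3
    refine ⟨χ, hχ, ?_⟩
    have := classInner_restrict_conjFun N (isClassFunction_irr χ) (θ : N → ℂ) x
    rw [← this]
    exact hne

end Cfsg.Agent.Helper23.KN
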