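import Mathlib
import Cfsg.Prelude.Def_Blocks
import Cfsg.Agent.Helper23.KnorrD
import Cfsg.Agent.Helper23.MaxPairs
import Cfsg.Agent.Helper23.BrauerCorr
import Cfsg.Agent.Helper5.DefectGroups2
import Cfsg.Agent.Helper5.DefectOrder
import Cfsg.Agent.S0906

set_option autoImplicit false
set_option linter.unusedSectionVars false
set_option linter.unusedVariables false
set_option linter.style.haveILetI false
set_option linter.unnecessarySimpa false

/-!
# Knörr's theorem: lower and upper bounds for `P ∩ N`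
-/

namespace Cfsg.Agent.Helper23.KN

open Cfsg Cfsg.Agent.Helper24 Cfsg.Agent.Helper5 Cfsg.Agent.Helper5.Loc Cfsg.Agent.Helper5.CC
open Cfsg.Agent.Helper23.NS Cfsg.Agent.Helper23 Cfsg.Agent.Helper14 Cfsg.Agent.Helper23.BT
open Cfsg.Agent.Helper23.SB Cfsg.Agent.Helper23.MP

section General

variable {H : Type*} [Group H] [Fintype H] {M : Ideal AlgInt} {p : ℕ} [Fact p.Prime]

/-- A local-integral class function acting as a unit on a block has a unit coefficient at some
element centralizing a given defect group. -/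
theorem exists_coeff_of_unit (hM : IsPModular p M) (β : Set (IrrCharacter H)) (hβ : IsPBlock M β)
    (D : Subgroup H) (hD : IsDefectGroup p M β D) {c : H → ℂ} (hc : IsClassFunction H c)
    (hcM : ∀ t, MemLocalRing M (c t)) (θ : IrrCharacter H) (hθ : θ ∈ β)
    (hunit : ¬ MemLocalIdeal M (act c θ)) :
    ∃ h ∈ Subgroup.centralizer (D : Set H), ¬ MemLocalIdeal M (c h) := by
  classical
  have hMp := isPrime_of_isPModular hM
  haveI : Fintype (IrrCharacter H) := Fintype.ofFinite _
  haveI : Fintype (ConjClasses H) := Fintype.ofFinite _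
  by_contra hcon
  push Not at hcon
  apply hunit
  rw [act_eq_sum_centralChar hc]
  apply li_sum hMp
  intro K _
  by_cases hK : MemLocalIdeal M (centralChar (θ : H → ℂ) (rep K))
  · exact li_mul_left hMp (hcM _) hK
  · have hall := not_memLocalIdeal_centralChar_of_mem hMp hβ ⟨θ, hθ, hK⟩
    obtain ⟨g, hg, hS⟩ := isDefectGroup_iff.mp hD
    obtain ⟨t, htc, ht⟩ := exists_conj_mem_centralizer hM β hβ (rep K) g hall hg.2.1 D hS.2.1 hS.1
    obtain ⟨y, rfl⟩ := isConj_iff.mp htc
    have h1 : c (rep K) = c (y * rep K * y⁻¹) := (hc (rep K) y).symm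
    rw [h1]
    exact li_mul_right hMp (hcon _ ht) (memLocalRing_centralChar hMp θ _)

/-- A `p`-subgroup centralizing an element at which the block idempotent has a unit coefficient
lies in a defect group. -/
theorem exists_defectGroup_ge_of_coeff (hM : IsPModular p M) (B : Set (IrrCharacter H))
    (hB : IsPBlock M B) (D : Subgroup H) (hD : IsPGroup p D) (x : H)
    (hx : x ∈ Subgroup.centralizer (D : Set H)) (hne : ¬ MemLocalIdeal M (blockCoeff B x)) :
    ∃ P : Subgroup H, IsDefectGroup p M B P ∧ D ≤ P := by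
  classical
  haveI : Fintype (IrrCharacter H) := Fintype.ofFinite _
  obtain ⟨u, hu⟩ := Cfsg.Agent.S0906.result p M hM B hB
  have hDx : D ≤ Subgroup.centralizer ({x} : Set H) := by
    intro d hd
    rw [mem_centralizer_singleton_iff']
    rw [Subgroup.mem_centralizer_iff] at hx
    exact (hx d hd).symm
  obtain ⟨t, htc, ht⟩ := exists_conj_mem_centralizer hM B hB u x hu.2.2 hne D hD hDx
  obtain ⟨y, rfl⟩ := isConj_iff.mp htc
  have hDt : D ≤ Subgroup.centralizer ({y * u * y⁻¹} : Set H) := by
    intro d hd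
    rw [mem_centralizer_singleton_iff']
    rw [Subgroup.mem_centralizer_iff] at ht
    exact (ht d hd).symm
  obtain ⟨S, hS, hDS⟩ := exists_isSylowIn_ge hDt hD
  exact ⟨S, isDefectGroup_iff.mpr ⟨y * u * y⁻¹, isDefectClass_conj hu y, hS⟩, hDS⟩

/-- Brauer map: if `c` has values in the local ideal on `C_G(D)` then so has `c * d`, for
`D`-invariant local-integral `c`, `d`. -/
theorem li_conv_of_li_centralizer (hM : IsPModular p M) (D : Subgroup H) (hD : IsPGroup p D)
    {c d : H → ℂ} (hc : ∀ x ∈ D, ∀ g, c (x * g * x⁻¹) = c g)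
    (hd : ∀ x ∈ D, ∀ g, d (x * g * x⁻¹) = d g)
    (hcM : ∀ t, MemLocalRing M (c t)) (hdM : ∀ t, MemLocalRing M (d t))
    (hli : ∀ y ∈ Subgroup.centralizer (D : Set H), MemLocalIdeal M (c y))
    (x : H) (hx : x ∈ Subgroup.centralizer (D : Set H)) : MemLocalIdeal M (conv c d x) := by
  classical
  have hMp := isPrime_of_isPModular hM
  haveI : Fintype (Subgroup.centralizer (D : Set H)) := Fintype.ofFinite _
  have h1 := brRes_conv_of_invariant hM D (Subgroup.centralizer (D : Set H)) hD le_rfl hc hd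
    hcM hdM ⟨x, hx⟩
  have e1 : brRes D (Subgroup.centralizer (D : Set H)) (conv c d) ⟨x, hx⟩ = conv c d x := by
    rw [brRes, cut_of_mem _ hx]
  rw [e1] at h1
  have h2 : MemLocalIdeal M (conv (brRes D (Subgroup.centralizer (D : Set H)) c)
      (brRes D (Subgroup.centralizer (D : Set H)) d) ⟨x, hx⟩) := by
    apply li_conv_left hMp
    · intro t
      rw [brRes, cut_of_mem _ t.2]
      exact hli _ t.2
    · exact lr_brRes hMp hdM
  have := li_add hMp h1 h2
  simpa using this

omit [Fintype H] in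
theorem exists_isDefectGroup [Finite H] (hM : IsPModular p M) (β : Set (IrrCharacter H))
    (hβ : IsPBlock M β) : ∃ D : Subgroup H, IsDefectGroup p M β D := by
  obtain ⟨y, hy⟩ := Cfsg.Agent.S0906.result p M hM β hβ
  obtain ⟨S, hS⟩ := exists_isSylowIn (p := p) (Subgroup.centralizer ({y} : Set H))
  exact ⟨S, isDefectGroup_iff.mpr ⟨y, hy, hS⟩⟩

theorem isPGroup_of_isDefectGroup {β : Set (IrrCharacter H)} {D : Subgroup H}
    (hD : IsDefectGroup p M β D) : IsPGroup p D := by
  obtain ⟨g, hg, hS⟩ := isDefectGroup_iff.mp hD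
  exact hS.2.1

end General

variable {G : Type*} [Group G] [Fintype G] (N : Subgroup G) [hN : N.Normal] [Fintype N]
  {M : Ideal AlgInt} {p : ℕ} [Fact p.Prime]

/-- Conjugation by `x` as an automorphism of the normal subgroup `N`. -/
noncomputable abbrev cjN (x : G) : N ≃* N := MulAut.conjNormal x

omit [Fintype G] [Fintype N] in
theorem conjIrr_eq_pullIrr (x : G) (θ : IrrCharacter N) : conjIrr N x θ = pullIrr (cjN N x) θ := by
  apply Subtype.ext
  funext n
  show conjFun N (θ : N → ℂ) x n = (θ : N → ℂ) (cjN N x n)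
  rw [conjFun_apply]
  congr 1

/-- Data attached to a covering: the stable union of conjugates of `b` and the absorption of its
idempotent by the idempotent of `B`. -/
theorem cover_data (hM : IsPModular p M) (b : Set (IrrCharacter N)) (hb : IsPBlock M b)
    (B : Set (IrrCharacter G)) (hB : IsPBlock M B)
    (hcov : ∃ χ ∈ B, ∃ θ ∈ b, classInner (fun n : N => (χ : G → ℂ) n) (θ : N → ℂ) ≠ 0) :
    IsStable N (conjUnion N b) ∧ (∀ n, MemLocalRing M (blockCoeff (conjUnion N b) n)) ∧
      conv (blockCoeff B) (cutCoeff N (conjUnion N b)) = blockCoeff B := by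
  classical
  have hMp := isPrime_of_isPModular hM
  haveI : Fintype (IrrCharacter N) := Fintype.ofFinite _
  obtain ⟨χ₀, hχ₀, θ₀, hθ₀, h0⟩ := hcov
  have hst : IsStable N (conjUnion N b) := fun η hη x => (bijOn_conjIrr_conjUnion N b x).1 hη
  have hR : ∀ n, MemLocalRing M (blockCoeff (conjUnion N b) n) :=
    lr_blockCoeff_of_union hMp _ (fun η hη => blockOf_subset_conjUnion N hMp hb hη)
  exact ⟨hst, hR, conv_cutCoeff_of_cover N hMp (conjUnion N b) hst hR B hB χ₀ hχ₀ θ₀
    (subset_conjUnion N b hθ₀) h0⟩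

/-- **Lower bound.** If `B` covers `b` then some defect group of `B` contains a defect group of
some `G`-conjugate of `b`. -/
theorem knorr_lower (hM : IsPModular p M) (b : Set (IrrCharacter N)) (hb : IsPBlock M b)
    (B : Set (IrrCharacter G)) (hB : IsPBlock M B)
    (hcov : ∃ χ ∈ B, ∃ θ ∈ b, classInner (fun n : N => (χ : G → ℂ) n) (θ : N → ℂ) ≠ 0) :
    ∃ (x : G) (D : Subgroup N) (P : Subgroup G), IsDefectGroup p M (pullBlock (cjN N x) b) D ∧
      IsDefectGroup p M B P ∧ D.map N.subtype ≤ P := by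
  classical
  have hMp := isPrime_of_isPModular hM
  haveI : Fintype (IrrCharacter G) := Fintype.ofFinite _
  haveI : Fintype (IrrCharacter N) := Fintype.ofFinite _
  obtain ⟨hst, hR, hcov'⟩ := cover_data N hM b hb B hB hcov
  obtain ⟨χ₀, hχ₀, θ₀, hθ₀, h0⟩ := hcov
  obtain ⟨l, hl, hp, θ₁, hθ₁, h1⟩ := exists_unit_loop_gen N hM (conjUnion N b)
    ⟨θ₀, subset_conjUnion N b hθ₀⟩ hst hR B hB hcov'
  obtain ⟨x, θ₂, hθ₂, rfl⟩ := hθ₁
  have ha := isClassFunction_blockCoeff B
  have haM : ∀ t, MemLocalRing M (blockCoeff B t) := osima hMp B hB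
  have hw : IsNCentral N M (word N (blockCoeff B) l) :=
    ⟨hp ▸ suppOn_word N (blockCoeff B) l, fun n hn t => word_conj_invariant N ha l hn t,
      lr_word N hMp haM l⟩
  -- the conjugate block
  have hb' : IsPBlock M (pullBlock (cjN N x) b) := isPBlock_pullBlock _ hb
  have hθ' : conjIrr N x θ₂ ∈ pullBlock (cjN N x) b := by
    rw [conjIrr_eq_pullIrr, pullIrr_mem_pullBlock_iff]; exact hθ₂
  obtain ⟨D, hD⟩ := exists_isDefectGroup hM (pullBlock (cjN N x) b) hb'
  obtain ⟨n, hn, hne⟩ := exists_coeff_of_unit hM _ hb' D hD (hw.isClassFunction N)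
    (fun t => hw.lr _) _ hθ' h1
  have hDp : IsPGroup p (D.map N.subtype) := (isPGroup_of_isDefectGroup hD).map _
  have hnD : (n : G) ∈ Subgroup.centralizer ((D.map N.subtype : Subgroup G) : Set G) := by
    rw [Subgroup.mem_centralizer_iff]
    rintro _ ⟨d, hd, rfl⟩
    rw [Subgroup.mem_centralizer_iff] at hn
    exact congrArg Subtype.val (hn d hd)
  have hDN : ∀ y ∈ D.map N.subtype, y ∈ N := by
    rintro _ ⟨d, -, rfl⟩; exact d.2
  -- the idempotent of `B` has a unit coefficient on `C_G(D)`
  have hex : ∃ y ∈ Subgroup.centralizer ((D.map N.subtype : Subgroup G) : Set G),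
      ¬ MemLocalIdeal M (blockCoeff B y) := by
    by_contra hcon
    push Not at hcon
    apply hne
    cases l with
    | nil => exact absurd rfl hl
    | cons q l =>
      show MemLocalIdeal M (word N (blockCoeff B) (q :: l) (n : G))
      rw [word_cons]
      apply li_conv_of_li_centralizer hM (D.map N.subtype) hDp
        (fun y hy g => comp_conj_invariant N ha q (hDN y hy) g)
        (fun y hy g => word_conj_invariant N ha l (hDN y hy) g)
        (lr_comp N hMp haM q) (lr_word N hMp haM l) _ _ hnD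
      intro y hy
      by_cases hyq : (y : G ⧸ N) = q
      · rw [comp_of_eq N _ hyq]; exact hcon y hy
      · rw [comp_of_ne N _ hyq]; exact memLocalIdeal_zero hMp
  obtain ⟨y, hy, hney⟩ := hex
  obtain ⟨P, hP, hDP⟩ := exists_defectGroup_ge_of_coeff hM B hB _ hDp y hy hney
  exact ⟨x, D, P, hD, hP, hDP⟩

/-- **Upper bound.** If `B` covers `b` and `P` is a defect group of `B`, then `P ∩ N` lies in a
defect group of some `G`-conjugate of `b`. -/
theorem knorr_upper (hM : IsPModular p M) (b : Set (IrrCharacter N)) (hb : IsPBlock M b)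
    (B : Set (IrrCharacter G)) (hB : IsPBlock M B)
    (hcov : ∃ χ ∈ B, ∃ θ ∈ b, classInner (fun n : N => (χ : G → ℂ) n) (θ : N → ℂ) ≠ 0)
    (P : Subgroup G) (hP : IsDefectGroup p M B P) :
    ∃ (x : G) (D : Subgroup N), IsDefectGroup p M (pullBlock (cjN N x) b) D ∧
      (P ⊓ N).subgroupOf N ≤ D := by
  classical
  have hMp := isPrime_of_isPModular hM
  haveI : Fintype (IrrCharacter G) := Fintype.ofFinite _
  haveI : Fintype (IrrCharacter N) := Fintype.ofFinite _
  haveI : Fintype (Set (IrrCharacter N)) := Fintype.ofFinite _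
  obtain ⟨hst, hR, hcov'⟩ := cover_data N hM b hb B hB hcov
  have ha := isClassFunction_blockCoeff B
  have haM : ∀ t, MemLocalRing M (blockCoeff B t) := osima hMp B hB
  have hcutC : IsClassFunction G (cutCoeff N (conjUnion N b)) := isClassFunction_cutCoeff N hst
  have hcutM : ∀ t, MemLocalRing M (cutCoeff N (conjUnion N b) t) := by
    intro t
    by_cases ht : t ∈ N
    · rw [cutCoeff_of_mem N _ ht]; exact hR _
    · rw [cutCoeff_of_not_mem N _ ht]; exact memLocalRing_zero hMp
  have hcov'' : conv (cutCoeff N (conjUnion N b)) (blockCoeff B) = blockCoeff B := by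
    rw [← conv_comm_of_isClassFunction (blockCoeff B) hcutC]; exact hcov'
  obtain ⟨g, hg, hS⟩ := isDefectGroup_iff.mp hP
  have hPp : IsPGroup p P := hS.2.1
  have hQp : IsPGroup p (P ⊓ N : Subgroup G) := hPp.to_le inf_le_left
  have hgQ : g ∈ Subgroup.centralizer ((P ⊓ N : Subgroup G) : Set G) := by
    rw [Subgroup.mem_centralizer_iff]
    intro d hd
    have := hS.1 hd.1
    rw [mem_centralizer_singleton_iff'] at this
    exact this.symm
  -- the idempotent of the union has a unit coefficient on `C_N(P ∩ N)`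
  have hex : ∃ y ∈ Subgroup.centralizer ((P ⊓ N : Subgroup G) : Set G),
      ¬ MemLocalIdeal M (cutCoeff N (conjUnion N b) y) := by
    by_contra hcon
    push Not at hcon
    apply hg.2.1
    rw [← hcov'']
    exact li_conv_of_li_centralizer hM (P ⊓ N) hQp (fun y _ t => hcutC t y) (fun y _ t => ha t y)
      hcutM haM hcon g hgQ
  obtain ⟨y, hy, hney⟩ := hex
  have hyN : y ∈ N := by
    by_contra h
    rw [cutCoeff_of_not_mem N _ h] at hney
    exact hney (memLocalIdeal_zero hMp)
  rw [cutCoeff_of_mem N _ hyN] at hney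
  -- some block inside the union has a unit coefficient there
  have hsum := blockCoeff_eq_sum_blocks hMp (conjUnion N b)
    (fun η hη => blockOf_subset_conjUnion N hMp hb hη)
  have hex2 : ∃ b' : Set (IrrCharacter N), IsPBlock M b' ∧ b' ⊆ conjUnion N b ∧
      ¬ MemLocalIdeal M (blockCoeff b' ⟨y, hyN⟩) := by
    by_contra hcon
    push Not at hcon
    apply hney
    rw [← hsum, Finset.sum_apply]
    apply li_sum hMp
    intro b' _
    split_ifs with h
    · exact hcon b' h.1 h.2
    · exact memLocalIdeal_zero hMp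
  obtain ⟨b', hb', hsub, hne'⟩ := hex2
  obtain ⟨θ', hθ'⟩ := IsPBlock.nonempty hMp hb'
  obtain ⟨x, θ₂, hθ₂, hx⟩ := hsub hθ'
  have hb'eq : b' = pullBlock (cjN N x) b := by
    rw [IsPBlock_eq_blockOf hMp hb' hθ', IsPBlock_eq_blockOf hMp hb hθ₂, pullBlock_blockOf, hx,
      conjIrr_eq_pullIrr]
  have hyc : (⟨y, hyN⟩ : N) ∈ Subgroup.centralizer (((P ⊓ N).subgroupOf N : Subgroup N) : Set N) := by
    rw [Subgroup.mem_centralizer_iff]
    intro d hd
    rw [Subgroup.mem_centralizer_iff] at hy
    exact Subtype.ext (hy (d : G) (Subgroup.mem_subgroupOf.mp hd))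
  obtain ⟨D, hD, hle⟩ := exists_defectGroup_ge_of_coeff hM b' hb' ((P ⊓ N).subgroupOf N)
    hQp.comap_subtype ⟨y, hyN⟩ hyc hne'
  rw [hb'eq] at hD
  exact ⟨x, D, hD, hle⟩

end Cfsg.Agent.Helper23.KN
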