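import Mathlib
import Cfsg.Prelude.Def_Blocks
import Cfsg.Agent.Helper23.KnorrE

set_option autoImplicit false
set_option linter.unusedSectionVars false
set_option linter.unusedVariables false
set_option linter.style.haveILetI false
set_option linter.unnecessarySimpa false

/-!
# Knörr's theorem: `P ∩ N` is a defect group of a covered block
-/

namespace Cfsg.Agent.Helper23.KN

open Cfsg Cfsg.Agent.Helper24 Cfsg.Agent.Helper5 Cfsg.Agent.Helper5.Loc Cfsg.Agent.Helper5.CC
open Cfsg.Agent.Helper23.NS Cfsg.Agent.Helper23 Cfsg.Agent.Helper14 Cfsg.Agent.Helper23.BT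
open Cfsg.Agent.Helper23.SB Cfsg.Agent.Helper23.MP Cfsg.Agent.Helper23.BC

section General

variable {H : Type*} [Group H] [Fintype H] {M : Ideal AlgInt} {p : ℕ} [Fact p.Prime]

theorem card_defectGroup_eq (hM : IsPModular p M) {β : Set (IrrCharacter H)} (hβ : IsPBlock M β)
    {D E : Subgroup H} (hD : IsDefectGroup p M β D) (hE : IsDefectGroup p M β E) :
    Nat.card D = Nat.card E := by
  haveI : Fintype (IrrCharacter H) := Fintype.ofFinite _
  rw [card_defectGroup hM hβ hD, card_defectGroup hM hβ hE]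

theorem card_defectGroup_pullBlock {K : Type*} [Group K] [Fintype K] (hM : IsPModular p M)
    (φ : K ≃* H) {β : Set (IrrCharacter H)} (hβ : IsPBlock M β)
    {D : Subgroup H} (hD : IsDefectGroup p M β D) {E : Subgroup K}
    (hE : IsDefectGroup p M (pullBlock φ β) E) : Nat.card E = Nat.card D := by
  have h1 := isDefectGroup_pullBlock φ hD
  rw [card_defectGroup_eq hM (isPBlock_pullBlock φ hβ) hE h1]
  have : D.comap φ.toMonoidHom = D.map φ.symm.toMonoidHom := Subgroup.comap_equiv_eq_map_symm φ D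
  rw [this]
  exact Subgroup.card_map_of_injective φ.symm.injective

end General

variable {G : Type*} [Group G] [Fintype G] (N : Subgroup G) [hN : N.Normal] [Fintype N]
  {M : Ideal AlgInt} {p : ℕ} [Fact p.Prime]

omit [Fintype G] in
theorem cover_pullBlock (b : Set (IrrCharacter N)) (B : Set (IrrCharacter G))
    (hcov : ∃ χ ∈ B, ∃ θ ∈ b, classInner (fun n : N => (χ : G → ℂ) n) (θ : N → ℂ) ≠ 0) (x : G) :
    ∃ χ ∈ B, ∃ θ ∈ pullBlock (cjN N x) b,
      classInner (fun n : N => (χ : G → ℂ) n) (θ : N → ℂ) ≠ 0 := by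
  obtain ⟨χ, hχ, θ, hθ, h⟩ := hcov
  refine ⟨χ, hχ, conjIrr N x θ, ?_, ?_⟩
  · rw [conjIrr_eq_pullIrr, pullIrr_mem_pullBlock_iff]; exact hθ
  · show classInner (fun n : N => (χ : G → ℂ) n) (conjFun N (θ : N → ℂ) x) ≠ 0
    rw [classInner_restrict_conjFun N (isClassFunction_irr χ)]
    exact h

omit [Fintype G] [Fintype N] in
theorem map_cj_inf_normal (P : Subgroup G) (g : G) :
    (P.map (cj g)) ⊓ N = (P ⊓ N).map (cj g) := by
  rw [Subgroup.map_inf P N (cj g) (cj_injective g)]
  congr 1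
  ext y
  constructor
  · intro hy
    refine ⟨g⁻¹ * y * g, ?_, ?_⟩
    · have := hN.conj_mem y hy g⁻¹
      simpa using this
    · simp [cj_apply, mul_assoc]
  · rintro ⟨z, hz, rfl⟩
    exact hN.conj_mem z hz g

theorem card_inf_defectGroup (hM : IsPModular p M) (B : Set (IrrCharacter G)) (hB : IsPBlock M B)
    {P P' : Subgroup G} (hP : IsDefectGroup p M B P) (hP' : IsDefectGroup p M B P') :
    Nat.card (P ⊓ N : Subgroup G) = Nat.card (P' ⊓ N : Subgroup G) := by
  haveI : Fintype (IrrCharacter G) := Fintype.ofFinite _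
  obtain ⟨g, rfl⟩ := defectGroup_conj hM B hB P P' hP hP'
  rw [map_cj_inf_normal]
  exact (Subgroup.card_map_of_injective (cj_injective g)).symm

/-- If `B` covers `b`, the defect groups of `b` have the order of `P ∩ N`, for any defect group
`P` of `B`. -/
theorem knorr_card (hM : IsPModular p M) (b : Set (IrrCharacter N)) (hb : IsPBlock M b)
    (B : Set (IrrCharacter G)) (hB : IsPBlock M B)
    (hcov : ∃ χ ∈ B, ∃ θ ∈ b, classInner (fun n : N => (χ : G → ℂ) n) (θ : N → ℂ) ≠ 0)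
    {D : Subgroup N} (hD : IsDefectGroup p M b D) {P : Subgroup G} (hP : IsDefectGroup p M B P) :
    Nat.card D = Nat.card (P ⊓ N : Subgroup G) := by
  classical
  apply le_antisymm
  · obtain ⟨x, D', P', hD', hP', hle⟩ := knorr_lower N hM b hb B hB hcov
    rw [← card_defectGroup_pullBlock hM (cjN N x) hb hD hD',
      card_inf_defectGroup N hM B hB hP hP',
      ← Subgroup.card_map_of_injective (K := D') N.subtype_injective]
    apply Nat.card_mono (Set.toFinite _)
    intro y hy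
    refine ⟨hle hy, ?_⟩
    obtain ⟨d, -, rfl⟩ := hy
    exact d.2
  · obtain ⟨x, D', hD', hle⟩ := knorr_upper N hM b hb B hB hcov P hP
    rw [← card_defectGroup_pullBlock hM (cjN N x) hb hD hD']
    have h1 : Nat.card ((P ⊓ N).subgroupOf N) = Nat.card (P ⊓ N : Subgroup G) := by
      rw [← Subgroup.card_map_of_injective (K := (P ⊓ N).subgroupOf N) N.subtype_injective,
        Subgroup.map_subgroupOf_eq_of_le inf_le_right]
    rw [← h1]
    exact Nat.card_mono (Set.toFinite _) hle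

/-- **Knörr's theorem.** If `B` covers `b` and `P` is a defect group of `B`, then `P ∩ N` is a
defect group of some `G`-conjugate of `b`. -/
theorem knorr_main (hM : IsPModular p M) (b : Set (IrrCharacter N)) (hb : IsPBlock M b)
    (B : Set (IrrCharacter G)) (hB : IsPBlock M B)
    (hcov : ∃ χ ∈ B, ∃ θ ∈ b, classInner (fun n : N => (χ : G → ℂ) n) (θ : N → ℂ) ≠ 0)
    (P : Subgroup G) (hP : IsDefectGroup p M B P) :
    ∃ x : G, IsDefectGroup p M (pullBlock (cjN N x) b) ((P ⊓ N).subgroupOf N) := by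
  classical
  obtain ⟨x, D', hD', hle⟩ := knorr_upper N hM b hb B hB hcov P hP
  refine ⟨x, ?_⟩
  have hc := knorr_card N hM (pullBlock (cjN N x) b) (isPBlock_pullBlock _ hb) B hB
    (cover_pullBlock N b B hcov x) hD' hP
  have h1 : Nat.card ((P ⊓ N).subgroupOf N) = Nat.card (P ⊓ N : Subgroup G) := by
    rw [← Subgroup.card_map_of_injective (K := (P ⊓ N).subgroupOf N) N.subtype_injective,
      Subgroup.map_subgroupOf_eq_of_le inf_le_right]
  have heq : (P ⊓ N).subgroupOf N = D' := by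
    apply SetLike.coe_injective
    apply Set.eq_of_subset_of_ncard_le hle _ (Set.toFinite _)
    show Nat.card D' ≤ Nat.card ((P ⊓ N).subgroupOf N)
    rw [hc, h1]
  rw [heq]
  exact hD'

omit [Fintype G] [Fintype N] in
theorem comap_cjN_symm (P : Subgroup G) (x : G) :
    ((P ⊓ N).subgroupOf N).comap ((cjN N x).symm).toMonoidHom
      = ((P.map (cj x)) ⊓ N).subgroupOf N := by
  ext n
  rw [Subgroup.mem_comap, Subgroup.mem_subgroupOf, Subgroup.mem_subgroupOf]
  have h1 : (((cjN N x).symm n : N) : G) = x⁻¹ * n * x := MulAut.conjNormal_symm_apply x n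
  show (((cjN N x).symm n : N) : G) ∈ P ⊓ N ↔ _
  rw [h1]
  constructor
  · rintro ⟨h2, h3⟩
    refine ⟨⟨x⁻¹ * n * x, h2, ?_⟩, n.2⟩
    simp [cj_apply, mul_assoc]
  · rintro ⟨⟨y, hy, hyn⟩, h3⟩
    have : x⁻¹ * (n : G) * x = y := by
      rw [← hyn]; simp [cj_apply, mul_assoc]
    rw [this]
    refine ⟨hy, ?_⟩
    rw [← this]
    have := hN.conj_mem n n.2 x⁻¹
    simpa using this

/-- Knörr, second form: if `B` covers `b`, some defect group `P` of `B` has `P ∩ N` a defect
group of `b`. -/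
theorem knorr_exists (hM : IsPModular p M) (b : Set (IrrCharacter N)) (hb : IsPBlock M b)
    (B : Set (IrrCharacter G)) (hB : IsPBlock M B)
    (hcov : ∃ χ ∈ B, ∃ θ ∈ b, classInner (fun n : N => (χ : G → ℂ) n) (θ : N → ℂ) ≠ 0) :
    ∃ P : Subgroup G, IsDefectGroup p M B P ∧ IsDefectGroup p M b ((P ⊓ N).subgroupOf N) := by
  classical
  haveI : Fintype (IrrCharacter G) := Fintype.ofFinite _
  obtain ⟨P₀, hP₀⟩ := exists_isDefectGroup hM B hB
  obtain ⟨x, hx⟩ := knorr_main N hM b hb B hB hcov P₀ hP₀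
  refine ⟨P₀.map (cj x), isDefectGroup_map_cj hP₀ x, ?_⟩
  have h1 := isDefectGroup_pullBlock (cjN N x).symm hx
  rw [pullBlock_symm_pullBlock, comap_cjN_symm] at h1
  exact h1

/-- **S4438.** -/
theorem knorr_given (hM : IsPModular p M) (b : Set (IrrCharacter N)) (hb : IsPBlock M b)
    (Q : Subgroup G) (hQN : Q ≤ N) (hQ : IsDefectGroup p M b (Q.subgroupOf N))
    (B : Set (IrrCharacter G)) (hB : IsPBlock M B)
    (hcov : ∃ χ ∈ B, ∃ θ ∈ b, classInner (fun n : N => (χ : G → ℂ) n) (θ : N → ℂ) ≠ 0) :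
    ∃ P : Subgroup G, IsDefectGroup p M B P ∧ P ⊓ N = Q := by
  classical
  haveI : Fintype (IrrCharacter G) := Fintype.ofFinite _
  haveI : Fintype (IrrCharacter N) := Fintype.ofFinite _
  obtain ⟨P₁, hP₁, hD₁⟩ := knorr_exists N hM b hb B hB hcov
  obtain ⟨n, hn⟩ := defectGroup_conj hM b hb _ _ hD₁ hQ
  refine ⟨P₁.map (cj (n : G)), isDefectGroup_map_cj hP₁ _, ?_⟩
  rw [map_cj_inf_normal]
  have h2 : Q = (Q.subgroupOf N).map N.subtype := (Subgroup.map_subgroupOf_eq_of_le hQN).symm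
  rw [h2, hn]
  ext y
  constructor
  · rintro ⟨z, hz, rfl⟩
    refine ⟨cj n ⟨z, hz.2⟩, ⟨⟨z, hz.2⟩, ?_, rfl⟩, ?_⟩
    · exact Subgroup.mem_subgroupOf.mpr hz
    · simp [cj_apply]
  · rintro ⟨_, ⟨z, hz, rfl⟩, rfl⟩
    refine ⟨(z : G), Subgroup.mem_subgroupOf.mp hz, ?_⟩
    simp [cj_apply]

end Cfsg.Agent.Helper23.KN
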