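import Mathlib
import Cfsg.Prelude.Def_Blocks
import Cfsg.Prelude.Def_BlockLocal
import Cfsg.Agent.Helper23.KnorrF
import Cfsg.Agent.Helper23.RelPairs
import Cfsg.Agent.Helper5.BlockSupport

set_option autoImplicit false
set_option linter.unusedSectionVars false
set_option linter.unusedVariables false
set_option linter.style.haveILetI false
set_option linter.unnecessarySimpa false
set_option linter.unusedSimpArgs false

/-!
# Knörr's theorem, stable form: a `P`-stable covered block with defect group `P ∩ N`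
-/

namespace Cfsg.Agent.Helper23.KN

open Cfsg Cfsg.Agent.Helper24 Cfsg.Agent.Helper5 Cfsg.Agent.Helper5.Loc Cfsg.Agent.Helper5.CC
open Cfsg.Agent.Helper23.NS Cfsg.Agent.Helper23 Cfsg.Agent.Helper14 Cfsg.Agent.Helper23.BT
open Cfsg.Agent.Helper23.SB Cfsg.Agent.Helper23.MP Cfsg.Agent.Helper23.BC
open Cfsg.Agent.Helper23.TM

variable {G : Type*} [Group G] [Fintype G] (N : Subgroup G) [hN : N.Normal] [Fintype N]
  {M : Ideal AlgInt} {p : ℕ} [Fact p.Prime]

omit [Fintype G] [Fintype N] in
theorem pullIrr_conjEquiv_symm (u : G) (hu : u ∈ Subgroup.normalizer (N : Set G))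
    (ξ : IrrCharacter N) : pullIrr (conjEquiv N u hu).symm ξ = conjIrr N u ξ := by
  apply Subtype.ext
  funext n
  show (ξ : N → ℂ) ((conjEquiv N u hu).symm n) = conjFun N (ξ : N → ℂ) u n
  rw [conjFun_apply]
  congr 1

omit [Fintype G] [Fintype N] in
theorem isStableSet_of_isStable (P : Subgroup G) (hPN : P ≤ Subgroup.normalizer (N : Set G))
    (Θ : Set (IrrCharacter N)) (hst : IsStable N Θ) : IsStableSet N P hPN Θ := by
  intro u
  ext ξ
  rw [mem_pullBlock_iff, pullIrr_conjEquiv_symm]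
  constructor
  · intro h
    have := hst _ h (u : G)⁻¹
    rwa [conjIrr_conjIrr, mul_inv_cancel, conjIrr_one] at this
  · intro h
    exact hst _ h u

/-- **S4671.** A defect group `P` of `B` stabilizes a block `c` of `N` covered by `B` with
defect group `P ∩ N`. -/
theorem knorr_stable (hM : IsPModular p M) (B : Set (IrrCharacter G)) (hB : IsPBlock M B)
    (P : Subgroup G) (hP : IsDefectGroup p M B P) :
    ∃ c : Set (IrrCharacter N), IsPBlock M c ∧ (∀ x ∈ P, StabilizesBlock N c x) ∧
      (∃ χ ∈ B, ∃ θ ∈ c, classInner (fun n : N => (χ : G → ℂ) n) (θ : N → ℂ) ≠ 0) ∧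
      IsDefectGroup p M c ((P ⊓ N).subgroupOf N) := by
  classical
  have hMp := isPrime_of_isPModular hM
  haveI : Fintype (IrrCharacter G) := Fintype.ofFinite _
  haveI : Fintype (IrrCharacter N) := Fintype.ofFinite _
  haveI : Fintype (Set (IrrCharacter N)) := Fintype.ofFinite _
  obtain ⟨χ, hχ⟩ := IsPBlock.nonempty hMp hB
  obtain ⟨θ, hθ⟩ := exists_constituent_restrict N χ
  set b : Set (IrrCharacter N) := blockOf M (θ : N → ℂ) with hbdef
  have hb : IsPBlock M b := isPBlock_blockOf θ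
  have hcov : ∃ χ ∈ B, ∃ θ ∈ b, classInner (fun n : N => (χ : G → ℂ) n) (θ : N → ℂ) ≠ 0 :=
    ⟨χ, hχ, θ, mem_blockOf_self hMp θ, hθ⟩
  obtain ⟨hst, hR, hcov'⟩ := cover_data N hM b hb B hB hcov
  have ha := isClassFunction_blockCoeff B
  have haM : ∀ t, MemLocalRing M (blockCoeff B t) := osima hMp B hB
  have hcutC : IsClassFunction G (cutCoeff N (conjUnion N b)) := isClassFunction_cutCoeff N hst
  have hcutM : ∀ t, MemLocalRing M (cutCoeff N (conjUnion N b) t) := by
    intro t
    by_cases ht : t ∈ N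
    · rw [cutCoeff_of_mem N _ ht]; exact hR _
    · rw [cutCoeff_of_not_mem N _ ht]; exact memLocalRing_zero hMp
  have hcov'' : conv (cutCoeff N (conjUnion N b)) (blockCoeff B) = blockCoeff B := by
    rw [← conv_comm_of_isClassFunction (blockCoeff B) hcutC]; exact hcov'
  obtain ⟨g, hg, hS⟩ := isDefectGroup_iff.mp hP
  have hPp : IsPGroup p P := hS.2.1
  have hQp : IsPGroup p (P ⊓ N : Subgroup G) := hPp.to_le inf_le_left
  have hgP : g ∈ Subgroup.centralizer ((P : Subgroup G) : Set G) := by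
    rw [Subgroup.mem_centralizer_iff]
    intro d hd
    have := hS.1 hd
    rw [mem_centralizer_singleton_iff'] at this
    exact this.symm
  have hPN : P ≤ Subgroup.normalizer (N : Set G) := by
    rw [Subgroup.normalizer_eq_top]; exact le_top
  -- the idempotent of the union has a unit coefficient on `C_N(P)`
  have hex : ∃ y ∈ Subgroup.centralizer ((P : Subgroup G) : Set G),
      ¬ MemLocalIdeal M (cutCoeff N (conjUnion N b) y) := by
    by_contra hcon
    push Not at hcon
    apply hg.2.1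
    rw [← hcov'']
    exact li_conv_of_li_centralizer hM P hPp (fun y _ t => hcutC t y) (fun y _ t => ha t y)
      hcutM haM hcon g hgP
  obtain ⟨y, hy, hney⟩ := hex
  have hyN : y ∈ N := by
    by_contra h
    rw [cutCoeff_of_not_mem N _ h] at hney
    exact hney (memLocalIdeal_zero hMp)
  rw [cutCoeff_of_mem N _ hyN] at hney
  obtain ⟨c, hc, hsub, hcs, hne'⟩ := exists_stable_block_of_coeff hM N P hPp hPN (conjUnion N b)
    (fun η hη => blockOf_subset_conjUnion N hMp hb hη)
    (isStableSet_of_isStable N P hPN _ hst) ⟨y, hyN⟩ hy hney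
  obtain ⟨θ', hθ'⟩ := IsPBlock.nonempty hMp hc
  obtain ⟨x, θ₂, hθ₂, hx⟩ := hsub hθ'
  have hceq : c = pullBlock (cjN N x) b := by
    rw [IsPBlock_eq_blockOf hMp hc hθ', IsPBlock_eq_blockOf hMp hb hθ₂, pullBlock_blockOf, hx,
      conjIrr_eq_pullIrr]
  have hcovc : ∃ χ ∈ B, ∃ θ ∈ c, classInner (fun n : N => (χ : G → ℂ) n) (θ : N → ℂ) ≠ 0 := by
    rw [hceq]; exact cover_pullBlock N b B hcov x
  have hyc : (⟨y, hyN⟩ : N) ∈
      Subgroup.centralizer (((P ⊓ N).subgroupOf N : Subgroup N) : Set N) := by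
    rw [Subgroup.mem_centralizer_iff]
    intro d hd
    rw [Subgroup.mem_centralizer_iff] at hy
    exact Subtype.ext (hy (d : G) (Subgroup.mem_subgroupOf.mp hd).1)
  obtain ⟨D, hD, hle⟩ := exists_defectGroup_ge_of_coeff hM c hc ((P ⊓ N).subgroupOf N)
    hQp.comap_subtype ⟨y, hyN⟩ hyc hne'
  have hcard := knorr_card N hM c hc B hB hcovc hD hP
  have h1 : Nat.card ((P ⊓ N).subgroupOf N) = Nat.card (P ⊓ N : Subgroup G) := by
    rw [← Subgroup.card_map_of_injective (K := (P ⊓ N).subgroupOf N) N.subtype_injective,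
      Subgroup.map_subgroupOf_eq_of_le inf_le_right]
  have heq : (P ⊓ N).subgroupOf N = D := by
    apply SetLike.coe_injective
    apply Set.eq_of_subset_of_ncard_le hle _ (Set.toFinite _)
    show Nat.card D ≤ Nat.card ((P ⊓ N).subgroupOf N)
    rw [hcard, h1]
  refine ⟨c, hc, ?_, hcovc, heq ▸ hD⟩
  intro u hu
  exact Cfsg.Agent.Helper23.RP.stabilizesBlock_of_pullBlock_eq (hPN hu) (hcs ⟨u, hu⟩)

end Cfsg.Agent.Helper23.KN
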