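import Mathlib
import Cfsg.Prelude.Def_Blocks
import Cfsg.Prelude.Def_BlockLocal
import Cfsg.Agent.Helper23.KnorrG
import Cfsg.Agent.Helper23.InducedIn
import Cfsg.Agent.Helper5.RestrictScalar
import Cfsg.Agent.Helper5.BrauerMap
import Cfsg.Agent.S0965
import Cfsg.Agent.S0919
import Cfsg.Agent.S0920

set_option autoImplicit false
set_option linter.unusedSectionVars false
set_option linter.unusedVariables false
set_option linter.style.haveILetI false
set_option linter.unnecessarySimpa false
set_option linter.unusedSimpArgs false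

/-!
# Harris–Knörr, part A: set-up and the forward direction
-/

namespace Cfsg.Agent.Helper23.HK

open Cfsg Cfsg.Agent.Helper24 Cfsg.Agent.Helper5 Cfsg.Agent.Helper5.Loc Cfsg.Agent.Helper5.CC
open Cfsg.Agent.Helper23.NS Cfsg.Agent.Helper23 Cfsg.Agent.Helper14 Cfsg.Agent.Helper23.BT
open Cfsg.Agent.Helper23.SB Cfsg.Agent.Helper23.MP Cfsg.Agent.Helper23.BC
open Cfsg.Agent.Helper23.IC Cfsg.Agent.Helper23.KN

variable {G : Type*} [Group G] (N : Subgroup G) (Q : Subgroup G)

/-- `N ∩ N_G(Q)` as a subgroup of `N_G(Q)`. -/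
abbrev LH : Subgroup (Subgroup.normalizer (Q : Set G)) :=
  N.subgroupOf (Subgroup.normalizer (Q : Set G))

/-- `N_N(Q)` as a subgroup of `N`. -/
abbrev NN : Subgroup N := Subgroup.normalizer ((Q.subgroupOf N : Subgroup N) : Set N)

/-- `LH ≃ N_G(Q) ∩ N`. -/
noncomputable def iH : LH N Q ≃* (Subgroup.normalizer (Q : Set G) ⊓ N : Subgroup G) where
  toFun x := ⟨((x : Subgroup.normalizer (Q : Set G)) : G),
    ⟨(x : Subgroup.normalizer (Q : Set G)).2, Subgroup.mem_subgroupOf.mp x.2⟩⟩
  invFun y := ⟨⟨(y : G), y.2.1⟩, Subgroup.mem_subgroupOf.mpr y.2.2⟩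
  left_inv x := rfl
  right_inv y := rfl
  map_mul' x y := rfl

theorem coe_iH (x : LH N Q) :
    ((iH N Q x : (Subgroup.normalizer (Q : Set G) ⊓ N : Subgroup G)) : G) =
      ((x : Subgroup.normalizer (Q : Set G)) : G) := rfl

theorem mem_normalizer_of_mem_NN (hQN : Q ≤ N) (x : N) (hx : x ∈ NN N Q) :
    (x : G) ∈ Subgroup.normalizer (Q : Set G) := by
  rw [Subgroup.mem_normalizer_iff] at hx ⊢
  intro g
  constructor
  · intro hg
    have := (hx ⟨g, hQN hg⟩).mp (Subgroup.mem_subgroupOf.mpr hg)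
    exact Subgroup.mem_subgroupOf.mp this
  · intro hg
    have hgN : g ∈ N := by
      have h1 : (x : G)⁻¹ * ((x : G) * g * (x : G)⁻¹) * (x : G) ∈ N :=
        N.mul_mem (N.mul_mem (N.inv_mem x.2) (hQN hg)) x.2
      simpa [mul_assoc] using h1
    have := (hx ⟨g, hgN⟩).mpr (Subgroup.mem_subgroupOf.mpr hg)
    exact Subgroup.mem_subgroupOf.mp this

theorem mem_NN_of_mem_normalizer (x : N)
    (hx : (x : G) ∈ Subgroup.normalizer (Q : Set G)) : x ∈ NN N Q := by
  rw [Subgroup.mem_normalizer_iff] at hx ⊢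
  intro m
  rw [Subgroup.mem_subgroupOf, Subgroup.mem_subgroupOf]
  exact hx (m : G)

/-- `N_N(Q) ≃ N_G(Q) ∩ N`. -/
noncomputable def iN (hQN : Q ≤ N) :
    NN N Q ≃* (Subgroup.normalizer (Q : Set G) ⊓ N : Subgroup G) where
  toFun x := ⟨((x : N) : G), ⟨mem_normalizer_of_mem_NN N Q hQN x x.2, (x : N).2⟩⟩
  invFun y := ⟨⟨(y : G), y.2.2⟩, mem_NN_of_mem_normalizer N Q _ y.2.1⟩
  left_inv x := rfl
  right_inv y := rfl
  map_mul' x y := rfl

theorem coe_iN (hQN : Q ≤ N) (x : NN N Q) :
    ((iN N Q hQN x : (Subgroup.normalizer (Q : Set G) ⊓ N : Subgroup G)) : G) = ((x : N) : G) :=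
  rfl

/-- `LH ≃ N_N(Q)`. -/
noncomputable def kap (hQN : Q ≤ N) : LH N Q ≃* NN N Q := (iH N Q).trans (iN N Q hQN).symm

theorem coe_kap (hQN : Q ≤ N) (x : LH N Q) :
    (((kap N Q hQN x : NN N Q) : N) : G) = ((x : Subgroup.normalizer (Q : Set G)) : G) := rfl

theorem coe_kap_symm (hQN : Q ≤ N) (x : NN N Q) :
    ((((kap N Q hQN).symm x : LH N Q) : Subgroup.normalizer (Q : Set G)) : G) = ((x : N) : G) :=
  rfl


section A

variable [Fintype G] [hN : N.Normal] [Fintype N] {M : Ideal AlgInt} {p : ℕ} [Fact p.Prime]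
  [Fintype (Subgroup.normalizer (Q : Set G))] [Fintype (LH N Q)] [Fintype (NN N Q)]

/-- **Forward direction.** If `c` (a block of `N_G(Q)`) covers `eH`, `eH` induces `d` inside `N`,
and `c` induces `B`, then `B` covers `d`. -/
theorem cover_of_cover (hM : IsPModular p M) (hQ : IsPGroup p Q) (hQN : Q ≤ N)
    (c : Set (IrrCharacter (Subgroup.normalizer (Q : Set G)))) (hc : IsPBlock M c)
    (eH : Set (IrrCharacter (LH N Q)))
    (hcov : ∃ ψ ∈ c, ∃ ξ ∈ eH, classInner (fun l : LH N Q =>
      (ψ : Subgroup.normalizer (Q : Set G) → ℂ) l) (ξ : LH N Q → ℂ) ≠ 0)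
    (d : Set (IrrCharacter N))
    (hrel : IsInducedBlock M (NN N Q) (pullBlock (kap N Q hQN).symm eH) d)
    (B : Set (IrrCharacter G))
    (hind : IsInducedBlock M (Subgroup.normalizer (Q : Set G)) c B) :
    ∃ χ ∈ B, ∃ θ ∈ d, classInner (fun n : N => (χ : G → ℂ) n) (θ : N → ℂ) ≠ 0 := by
  classical
  have hMp := isPrime_of_isPModular hM
  haveI : Fintype (IrrCharacter G) := Fintype.ofFinite _
  haveI : Fintype (IrrCharacter N) := Fintype.ofFinite _
  obtain ⟨ψ, hψ, ξ, hξ, hne⟩ := hcov
  -- the pairing in `G`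
  have hCH : Subgroup.centralizer (Q : Set G) ≤ Subgroup.normalizer (Q : Set G) :=
    Subgroup.centralizer_le_normalizer _
  obtain ⟨χ, hχ⟩ := exists_irr_brauer hM Q (Subgroup.normalizer (Q : Set G)) hQ hCH le_rfl ψ
  have hind1 := isInducedBlock_of_brauer hM Q (Subgroup.normalizer (Q : Set G)) hQ
    Subgroup.le_normalizer le_rfl ψ χ hχ
  have hBχ : B = blockOf M (χ : G → ℂ) := by
    have h1 := hind
    rw [IsPBlock_eq_blockOf hMp hc hψ] at h1
    exact induced_unique hMp _ h1 hind1
  have hχB : χ ∈ B := by rw [hBχ]; exact mem_blockOf_self hMp χ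
  -- the pairing in `N`
  set η : IrrCharacter (NN N Q) := pullIrr (kap N Q hQN).symm ξ with hη
  have hηe : η ∈ pullBlock (kap N Q hQN).symm eH :=
    (pullIrr_mem_pullBlock_iff _ _ _).mpr hξ
  have hQ' : IsPGroup p (Q.subgroupOf N) := hQ.comap_subtype
  obtain ⟨θ, hθ⟩ := exists_irr_brauer hM (Q.subgroupOf N) (NN N Q) hQ'
    (Subgroup.centralizer_le_normalizer _) le_rfl η
  have hind2 := isInducedBlock_of_brauer hM (Q.subgroupOf N) (NN N Q) hQ'
    Subgroup.le_normalizer le_rfl η θ hθ
  have hdθ : d = blockOf M (θ : N → ℂ) := by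
    have h1 := hrel
    rw [IsPBlock_eq_blockOf hMp hrel.1 hηe] at h1
    exact induced_unique hMp _ h1 hind2
  have hθd : θ ∈ d := by rw [hdθ]; exact mem_blockOf_self hMp θ
  -- Passman's criterion
  rw [Cfsg.Agent.S0965.result p M hM N B hind.2.1 d hrel.2.1]
  intro χ' hχ' θ' hθ' n
  have key : MemLocalIdeal M (centralChar (χ : G → ℂ) (n : G) -
      inducedCentralChar N (θ : N → ℂ) (n : G)) := by
    have a1 := hχ (classIndicator (n : G)) (isClassFunction_classIndicator _)
      (fun t => memLocalRing_classIndicator hMp _ _)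
    rw [act_classIndicator] at a1
    have a2 := hθ (Cfsg.Agent.S0933.fusionIndicator N (n : G))
      (Cfsg.Agent.S0933.isClassFunction_fusionIndicator N _)
      (fun t => memLocalRing_classIndicator hMp _ _)
    rw [← Cfsg.Agent.S0933.inducedCentralChar_eq_act] at a2
    have e : act (brRes Q (Subgroup.normalizer (Q : Set G)) (classIndicator (n : G))) ψ =
        act (brRes (Q.subgroupOf N) (NN N Q) (Cfsg.Agent.S0933.fusionIndicator N (n : G))) η := by
      set w := brRes Q (Subgroup.normalizer (Q : Set G)) (classIndicator (n : G)) with hw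
      have hwc : IsClassFunction (Subgroup.normalizer (Q : Set G)) w :=
        isClassFunction_brRes le_rfl (isClassFunction_classIndicator _)
      have hsupp : ∀ t : Subgroup.normalizer (Q : Set G), t ∉ LH N Q → w t = 0 := by
        intro t ht
        rw [hw, brRes, cut]
        split_ifs with h1
        · apply classIndicator_of_not_isConj
          intro hcj
          apply ht
          rw [Subgroup.mem_subgroupOf]
          obtain ⟨y, hy⟩ := isConj_iff.mp hcj
          rw [← hy]
          exact hN.conj_mem _ n.2 y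
        · rfl
      have h1 := Cfsg.Agent.Helper5.RS.restrict_scalar_eq (LH N Q) ψ ξ hne w hwc
      have h2 := Cfsg.Agent.Helper5.RS.sum_subgroup_eq_sum' (LH N Q)
        (fun t => w t * (ψ : Subgroup.normalizer (Q : Set G) → ℂ) t)
        (fun t ht => by rw [hsupp t ht, zero_mul])
      rw [act, ← h2, ← h1, act]
      have e4 : (η : NN N Q → ℂ) 1 = (ξ : LH N Q → ℂ) 1 := by
        rw [hη, pullIrr_apply, map_one]
      rw [e4]
      congr 1
      rw [← Equiv.sum_comp (kap N Q hQN).toEquiv]
      refine Finset.sum_congr rfl fun l _ => ?_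
      have e5 : (η : NN N Q → ℂ) ((kap N Q hQN).toEquiv l) = (ξ : LH N Q → ℂ) l := by
        rw [hη, pullIrr_apply]
        exact congrArg _ ((kap N Q hQN).symm_apply_apply l)
      rw [e5]
      congr 1
      rw [hw, brRes, brRes, cut, cut]
      have hiff : (((l : Subgroup.normalizer (Q : Set G)) : G) ∈
          Subgroup.centralizer (Q : Set G)) ↔
          ((((kap N Q hQN).toEquiv l : NN N Q) : N) ∈
            Subgroup.centralizer ((Q.subgroupOf N : Subgroup N) : Set N)) := by
        constructor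
        · intro h
          exact mem_centralizer_subgroupOf_of_mem_centralizer h
        · intro h
          exact mem_centralizer_of_mem_centralizer_subgroupOf hQN h
      by_cases hl : ((l : Subgroup.normalizer (Q : Set G)) : G) ∈
          Subgroup.centralizer (Q : Set G)
      · rw [if_pos hl, if_pos (hiff.mp hl)]
        rfl
      · rw [if_neg hl, if_neg (fun h => hl (hiff.mpr h))]
    rw [e] at a1
    have := li_sub hMp a2 a1
    convert this using 1
    ring
  have b1 : MemLocalIdeal M (centralChar (χ' : G → ℂ) (n : G) - centralChar (χ : G → ℂ) (n : G)) :=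
    sameBlock_of_mem hMp hind.2.1 hχ' hχB (n : G)
  have b2 : MemLocalIdeal M (inducedCentralChar N (θ : N → ℂ) (n : G) -
      inducedCentralChar N (θ' : N → ℂ) (n : G)) := by
    rw [Cfsg.Agent.S0933.inducedCentralChar_eq_act, Cfsg.Agent.S0933.inducedCentralChar_eq_act]
    exact act_sub_act_memLocalIdeal hMp (Cfsg.Agent.S0933.isClassFunction_fusionIndicator N _)
      (fun t => memLocalRing_classIndicator hMp _ _) (sameBlock_of_mem hMp hrel.2.1 hθd hθ')
  have := li_add hMp (li_add hMp b1 key) b2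
  convert this using 1
  ring

end A

end Cfsg.Agent.Helper23.HK
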