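import Mathlib
import Cfsg.Prelude.Def_Blocks
import Cfsg.Agent.Helper23.BrauerCorr
import Cfsg.Agent.Helper23.InducedCalc
import Cfsg.Agent.S0920

set_option autoImplicit false
set_option linter.unusedSectionVars false
set_option linter.unusedVariables false
set_option linter.style.haveILetI false
set_option linter.unnecessarySimpa false
set_option linter.unusedSimpArgs false

/-!
# Brauer correspondence over a subgroup containing the normalizer, in terms of block induction
-/

namespace Cfsg.Agent.Helper23.HK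

open Cfsg Cfsg.Agent.Helper24 Cfsg.Agent.Helper5 Cfsg.Agent.Helper5.Loc Cfsg.Agent.Helper5.CC
open Cfsg.Agent.Helper23 Cfsg.Agent.Helper14 Cfsg.Agent.Helper23.BT
open Cfsg.Agent.Helper23.BC Cfsg.Agent.Helper23.IC

variable {G : Type*} [Group G] [Fintype G] {M : Ideal AlgInt} {p : ℕ} [Fact p.Prime]

/-- A block `B` with defect group `P` is induced by a block of `H ⊇ N_G(P)` with defect group
`P`, provided blocks of `H` induce blocks of `G`. -/
theorem exists_corr_over (hM : IsPModular p M) (P H : Subgroup G) [Fintype H]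
    (hP : IsPGroup p P) (hH : Subgroup.normalizer (P : Set G) ≤ H)
    (hdef : ∀ c : Set (IrrCharacter H), IsPBlock M c → ∃ 𝔅, IsInducedBlock M H c 𝔅)
    (B : Set (IrrCharacter G)) (hB : IsPBlock M B) (hBD : IsDefectGroup p M B P) :
    ∃ c : Set (IrrCharacter H), IsPBlock M c ∧ IsDefectGroup p M c (P.subgroupOf H) ∧
      IsInducedBlock M H c B := by
  classical
  have hMp := isPrime_of_isPModular hM
  haveI : Fintype (Subgroup.normalizer (P : Set G)) := Fintype.ofFinite _
  haveI : Fintype (Subgroup.normalizer ((P.subgroupOf H : Subgroup H) : Set H)) :=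
    Fintype.ofFinite _
  have hP' : IsPGroup p (P.subgroupOf H) := hP.comap_subtype
  obtain ⟨b, ⟨hb, hbD, hind⟩, -⟩ := (Cfsg.Agent.S0920.result p M hM P hP).2 B hB hBD
  have hb' : IsPBlock M (pullBlock (normEquiv P H hH) b) := isPBlock_pullBlock _ hb
  have hb'D := isDefectGroup_pullBlock (normEquiv P H hH) hbD
  rw [comap_normEquiv] at hb'D
  obtain ⟨c, hc, hcD, hind'⟩ :=
    (Cfsg.Agent.S0920.result p M hM (P.subgroupOf H) hP').1 _ hb' hb'D
  obtain ⟨𝔅, h𝔅⟩ := hdef c hc
  have ht := isInducedBlock_trans hMp H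
    (Subgroup.normalizer ((P.subgroupOf H : Subgroup H) : Set H))
    (Subgroup.normalizer (P : Set G)) (normEquiv P H hH) (coe_normEquiv P H hH) hind' h𝔅
  rw [pullBlock_symm_pullBlock] at ht
  have h𝔅B : 𝔅 = B := induced_unique hMp _ ht hind
  rw [h𝔅B] at h𝔅
  exact ⟨c, hc, hcD, h𝔅⟩

/-- A block of `G` induced by a block of `H ⊇ N_G(P)` with defect group `P` has defect group
`P`. -/
theorem defect_of_induced_over (hM : IsPModular p M) (P H : Subgroup G) [Fintype H]
    (hP : IsPGroup p P) (hH : Subgroup.normalizer (P : Set G) ≤ H)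
    (c : Set (IrrCharacter H)) (hc : IsPBlock M c) (hcD : IsDefectGroup p M c (P.subgroupOf H))
    (B : Set (IrrCharacter G)) (hind : IsInducedBlock M H c B) : IsDefectGroup p M B P := by
  classical
  have hMp := isPrime_of_isPModular hM
  haveI : Fintype (Subgroup.normalizer (P : Set G)) := Fintype.ofFinite _
  haveI : Fintype (Subgroup.normalizer ((P.subgroupOf H : Subgroup H) : Set H)) :=
    Fintype.ofFinite _
  have hP' : IsPGroup p (P.subgroupOf H) := hP.comap_subtype
  obtain ⟨b', ⟨hb', hb'D, hind'⟩, -⟩ :=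
    (Cfsg.Agent.S0920.result p M hM (P.subgroupOf H) hP').2 c hc hcD
  have hb : IsPBlock M (pullBlock (normEquiv P H hH).symm b') := isPBlock_pullBlock _ hb'
  have hbD := isDefectGroup_pullBlock (normEquiv P H hH).symm hb'D
  rw [comap_normEquiv_symm] at hbD
  obtain ⟨B', hB', hB'D, hindB'⟩ := (Cfsg.Agent.S0920.result p M hM P hP).1 _ hb hbD
  have ht := isInducedBlock_trans hMp H
    (Subgroup.normalizer ((P.subgroupOf H : Subgroup H) : Set H))
    (Subgroup.normalizer (P : Set G)) (normEquiv P H hH) (coe_normEquiv P H hH) hind' hind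
  have : B' = B := induced_unique hMp _ hindB' ht
  rw [← this]
  exact hB'D

/-- Two blocks of `H ⊇ N_G(P)` with defect group `P` inducing the same block of `G` coincide. -/
theorem unique_corr_over (hM : IsPModular p M) (P H : Subgroup G) [Fintype H]
    (hP : IsPGroup p P) (hH : Subgroup.normalizer (P : Set G) ≤ H)
    (c₁ c₂ : Set (IrrCharacter H)) (hc₁ : IsPBlock M c₁) (hc₂ : IsPBlock M c₂)
    (hD₁ : IsDefectGroup p M c₁ (P.subgroupOf H)) (hD₂ : IsDefectGroup p M c₂ (P.subgroupOf H))
    (B : Set (IrrCharacter G)) (hind₁ : IsInducedBlock M H c₁ B)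
    (hind₂ : IsInducedBlock M H c₂ B) : c₁ = c₂ := by
  classical
  have hMp := isPrime_of_isPModular hM
  haveI : Fintype (Subgroup.normalizer (P : Set G)) := Fintype.ofFinite _
  haveI : Fintype (IrrCharacter (Subgroup.normalizer (P : Set G))) := Fintype.ofFinite _
  haveI : Fintype (Subgroup.normalizer ((P.subgroupOf H : Subgroup H) : Set H)) :=
    Fintype.ofFinite _
  have hP' : IsPGroup p (P.subgroupOf H) := hP.comap_subtype
  obtain ⟨b₁, ⟨hb₁, hb₁D, hi₁⟩, -⟩ :=
    (Cfsg.Agent.S0920.result p M hM (P.subgroupOf H) hP').2 c₁ hc₁ hD₁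
  obtain ⟨b₂, ⟨hb₂, hb₂D, hi₂⟩, -⟩ :=
    (Cfsg.Agent.S0920.result p M hM (P.subgroupOf H) hP').2 c₂ hc₂ hD₂
  have t₁ := isInducedBlock_trans hMp H
    (Subgroup.normalizer ((P.subgroupOf H : Subgroup H) : Set H))
    (Subgroup.normalizer (P : Set G)) (normEquiv P H hH) (coe_normEquiv P H hH) hi₁ hind₁
  have t₂ := isInducedBlock_trans hMp H
    (Subgroup.normalizer ((P.subgroupOf H : Subgroup H) : Set H))
    (Subgroup.normalizer (P : Set G)) (normEquiv P H hH) (coe_normEquiv P H hH) hi₂ hind₂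
  have hbD := isDefectGroup_pullBlock (normEquiv P H hH).symm hb₁D
  rw [comap_normEquiv_symm] at hbD
  have heq := block_eq_of_induced_eq hM P hP t₁.1 t₂.1 hbD t₁ t₂
  have hbb : b₁ = b₂ := pullBlock_injective _ heq
  subst hbb
  exact induced_unique hMp _ hi₁ hi₂

end Cfsg.Agent.Helper23.HK
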