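import Mathlib
import Cfsg.Prelude.Def_Blocks
import Cfsg.Prelude.Def_BlockLocal
import Cfsg.Agent.Helper23.HKA
import Cfsg.Agent.Helper23.HKB
import Cfsg.Agent.S0964

set_option autoImplicit false
set_option linter.unusedSectionVars false
set_option linter.unusedVariables false
set_option linter.style.haveILetI false
set_option linter.unnecessarySimpa false
set_option linter.unusedSimpArgs false

/-!
# Harris–Knörr, part C: conjugation bookkeeping
-/

namespace Cfsg.Agent.Helper23.HK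

open Cfsg Cfsg.Agent.Helper24 Cfsg.Agent.Helper5 Cfsg.Agent.Helper5.Loc Cfsg.Agent.Helper5.CC
open Cfsg.Agent.Helper23.NS Cfsg.Agent.Helper23 Cfsg.Agent.Helper14 Cfsg.Agent.Helper23.BT
open Cfsg.Agent.Helper23.SB Cfsg.Agent.Helper23.MP Cfsg.Agent.Helper23.BC
open Cfsg.Agent.Helper23.IC Cfsg.Agent.Helper23.KN

section General

variable {X : Type*} [Group X] {M : Ideal AlgInt}

theorem inducedCentralChar_comp_aut (K : Subgroup X) (σ : X ≃* X) (τ : K ≃* K)
    (hτ : ∀ k : K, ((τ k : K) : X) = σ (k : X)) (ξ : K → ℂ) (g : X) :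
    inducedCentralChar K (fun k => ξ (τ k)) g = inducedCentralChar K ξ (σ g) := by
  rw [inducedCentralChar, inducedCentralChar]
  apply finsum_mem_eq_of_bijOn (fun k : K => τ k)
  · refine ⟨?_, fun a _ b _ hab => τ.injective hab, ?_⟩
    · intro k hk
      show IsConj (σ g) ((τ k : K) : X)
      rw [hτ]
      exact σ.toMonoidHom.map_isConj hk
    · intro k hk
      refine ⟨τ.symm k, ?_, τ.apply_symm_apply k⟩
      show IsConj g ((τ.symm k : K) : X)
      have h1 : σ ((τ.symm k : K) : X) = (k : X) := by rw [← hτ, τ.apply_symm_apply]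
      have h2 : IsConj (σ.symm (σ g)) (σ.symm (k : X)) := σ.symm.toMonoidHom.map_isConj hk
      rw [σ.symm_apply_apply, ← h1, σ.symm_apply_apply] at h2
      exact h2
  · intro k _
    simp only [map_one]

/-- Block induction is compatible with automorphisms of the ambient group preserving the
subgroup. -/
theorem isInducedBlock_pullBlock_aut (K : Subgroup X) (σ : X ≃* X) (τ : K ≃* K)
    (hτ : ∀ k : K, ((τ k : K) : X) = σ (k : X)) {b : Set (IrrCharacter K)}
    {B : Set (IrrCharacter X)} (h : IsInducedBlock M K b B) :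
    IsInducedBlock M K (pullBlock τ b) (pullBlock σ B) := by
  refine ⟨isPBlock_pullBlock τ h.1, isPBlock_pullBlock σ h.2.1, ?_⟩
  intro ξ' hξ' χ' hχ' g
  rw [mem_pullBlock_iff] at hξ' hχ'
  have h0 := h.2.2 _ hξ' _ hχ' (σ g)
  have e1 : inducedCentralChar K (ξ' : K → ℂ) g =
      inducedCentralChar K ((pullIrr τ.symm ξ' : IrrCharacter K) : K → ℂ) (σ g) := by
    rw [← inducedCentralChar_comp_aut K σ τ hτ]
    congr 1
    funext k
    rw [pullIrr_apply, τ.symm_apply_apply]
  have e2 : centralChar (χ' : X → ℂ) g =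
      centralChar ((pullIrr σ.symm χ' : IrrCharacter X) : X → ℂ) (σ g) := by
    rw [← centralChar_comp_mulEquiv σ]
    congr 1
    funext x
    rw [pullIrr_apply, σ.symm_apply_apply]
  rw [e1, e2]
  exact h0

end General


section Cover

variable {G : Type*} [Group G] (N : Subgroup G) [hN : N.Normal] [Fintype N]

/-- If `B` covers a conjugate of `b`, it covers `b`. -/
theorem cover_of_cover_pullBlock (b : Set (IrrCharacter N)) (B : Set (IrrCharacter G)) (x : G)
    (h : ∃ χ ∈ B, ∃ θ ∈ pullBlock (cjN N x) b,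
      classInner (fun n : N => (χ : G → ℂ) n) (θ : N → ℂ) ≠ 0) :
    ∃ χ ∈ B, ∃ θ ∈ b, classInner (fun n : N => (χ : G → ℂ) n) (θ : N → ℂ) ≠ 0 := by
  obtain ⟨χ, hχ, θ', hθ', h⟩ := h
  rw [mem_pullBlock_iff] at hθ'
  refine ⟨χ, hχ, pullIrr (cjN N x).symm θ', hθ', ?_⟩
  have e : θ' = conjIrr N x (pullIrr (cjN N x).symm θ') := by
    rw [conjIrr_eq_pullIrr, pullIrr_pullIrr_symm]
  rw [e] at h
  have h2 := classInner_restrict_conjFun N (isClassFunction_irr χ)
    ((pullIrr (cjN N x).symm θ' : IrrCharacter N) : N → ℂ) x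
  rw [← h2]
  exact h

end Cover

section HK

variable {G : Type*} [Group G] [Fintype G] (N : Subgroup G) [hN : N.Normal] [Fintype N]
  {M : Ideal AlgInt} {p : ℕ} [Fact p.Prime] (Q : Subgroup G)

omit [Fintype G] [Fintype N] in
theorem conjIrr_of_mem (n : N) (η : IrrCharacter N) : conjIrr N (n : G) η = η := by
  apply Subtype.ext
  funext m
  show conjFun N (η : N → ℂ) (n : G) m = (η : N → ℂ) m
  rw [conjFun_apply]
  have : (⟨(n : G) * m * (n : G)⁻¹, hN.conj_mem m m.2 n⟩ : N) = n * m * n⁻¹ := rfl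
  rw [this]
  exact isClassFunction_irr η m n

/-- Two blocks of `N` with defect group `Q` covered by the same block of `G` are conjugate under
`N_G(Q)`. -/
theorem exists_conj_in_normalizer (hM : IsPModular p M) (hQN : Q ≤ N)
    (B : Set (IrrCharacter G)) (hB : IsPBlock M B) (d d' : Set (IrrCharacter N))
    (hd : IsPBlock M d) (hd' : IsPBlock M d')
    (hdQ : IsDefectGroup p M d (Q.subgroupOf N)) (hd'Q : IsDefectGroup p M d' (Q.subgroupOf N))
    (hcov : ∃ χ ∈ B, ∃ θ ∈ d, classInner (fun n : N => (χ : G → ℂ) n) (θ : N → ℂ) ≠ 0)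
    (hcov' : ∃ χ ∈ B, ∃ θ ∈ d', classInner (fun n : N => (χ : G → ℂ) n) (θ : N → ℂ) ≠ 0) :
    ∃ h ∈ Subgroup.normalizer (Q : Set G), d' = pullBlock (cjN N h) d := by
  classical
  have hMp := isPrime_of_isPModular hM
  haveI : Fintype (IrrCharacter N) := Fintype.ofFinite _
  obtain ⟨χ₀, hχ₀, θ₀, hθ₀, h0⟩ := hcov
  obtain ⟨χ', hχ', θ', hθ', h'⟩ := hcov'
  obtain ⟨g, θ, hθ, hg⟩ := Cfsg.Agent.S0964.result p M hM N B hB d hd χ₀ hχ₀ θ₀ hθ₀ h0 χ' hχ' θ' h'
  have hθ'eq : θ' = conjIrr N g θ := by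
    apply Subtype.ext
    funext n
    exact hg n
  have hd'eq : d' = pullBlock (cjN N g) d := by
    rw [IsPBlock_eq_blockOf hMp hd' hθ', IsPBlock_eq_blockOf hMp hd hθ, pullBlock_blockOf, hθ'eq,
      conjIrr_eq_pullIrr]
  have hD2 := isDefectGroup_pullBlock (cjN N g) hdQ
  rw [← hd'eq] at hD2
  obtain ⟨n, hn⟩ := defectGroup_conj hM d' hd' _ _ hd'Q hD2
  -- `hn : comap = (Q.subgroupOf N).map (cj n)`
  have hmem : ∀ m : N, (g * (m : G) * g⁻¹ ∈ Q) ↔ ∃ q : N, (q : G) ∈ Q ∧ n * q * n⁻¹ = m := by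
    intro m
    have h1 : m ∈ (Q.subgroupOf N).comap (cjN N g).toMonoidHom ↔ g * (m : G) * g⁻¹ ∈ Q := by
      rw [Subgroup.mem_comap, Subgroup.mem_subgroupOf]
      rfl
    rw [← h1, hn, Subgroup.mem_map]
    constructor
    · rintro ⟨q, hq, rfl⟩
      exact ⟨q, Subgroup.mem_subgroupOf.mp hq, rfl⟩
    · rintro ⟨q, hq, rfl⟩
      exact ⟨q, Subgroup.mem_subgroupOf.mpr hq, rfl⟩
  refine ⟨g * (n : G), ?_, ?_⟩
  · rw [Subgroup.mem_normalizer_iff]
    intro q
    have e1 : g * (n : G) * q * (g * (n : G))⁻¹ = g * ((n : G) * q * (n : G)⁻¹) * g⁻¹ := by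
      simp [mul_assoc]
    rw [e1]
    constructor
    · intro hq
      have hqN : q ∈ N := hQN hq
      have := (hmem (n * ⟨q, hqN⟩ * n⁻¹)).mpr ⟨⟨q, hqN⟩, hq, rfl⟩
      exact this
    · intro hq
      have h2 : (n : G) * q * (n : G)⁻¹ ∈ N := by
        have h3 := hN.conj_mem _ (hQN hq) g⁻¹
        simpa [mul_assoc] using h3
      have hqN : q ∈ N := by
        have h3 := hN.conj_mem _ h2 (n : G)⁻¹
        simpa [mul_assoc] using h3
      obtain ⟨q', hq', hq'eq⟩ := (hmem ⟨(n : G) * q * (n : G)⁻¹, h2⟩).mp hq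
      have h4 : (q' : G) = q := by
        have h5 := congrArg (fun z : N => (z : G)) hq'eq
        simp only [Subgroup.coe_mul, Subgroup.coe_inv] at h5
        have h6 : (n : G) * (q' : G) = (n : G) * q := mul_right_cancel h5
        exact mul_left_cancel h6
      rw [← h4]
      exact hq'
  · have e2 : θ' = conjIrr N (g * (n : G)) θ := by
      rw [← conjIrr_conjIrr, ← hθ'eq, conjIrr_of_mem]
    rw [IsPBlock_eq_blockOf hMp hd' hθ', IsPBlock_eq_blockOf hMp hd hθ, pullBlock_blockOf, e2,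
      conjIrr_eq_pullIrr]


section Transport

variable [Fintype (Subgroup.normalizer (Q : Set G))]
  [Fintype (Subgroup.normalizer (Q : Set G) ⊓ N : Subgroup G)] [Fintype (LH N Q)]
  [Fintype (NN N Q)]

omit [Fintype G] [Fintype N] hN in
theorem isDefectGroup_pull_iH
    {e : Set (IrrCharacter (Subgroup.normalizer (Q : Set G) ⊓ N : Subgroup G))}
    (heQ : IsDefectGroup p M e (Q.subgroupOf (Subgroup.normalizer (Q : Set G) ⊓ N))) :
    IsDefectGroup p M (pullBlock (iH N Q) e)
      ((Q.subgroupOf (Subgroup.normalizer (Q : Set G))).subgroupOf (LH N Q)) := by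
  have h := isDefectGroup_pullBlock (iH N Q) heQ
  convert h using 1
  ext x
  rw [Subgroup.mem_comap, Subgroup.mem_subgroupOf, Subgroup.mem_subgroupOf,
    Subgroup.mem_subgroupOf]
  rfl

omit [Fintype G] [Fintype N] hN in
theorem isDefectGroup_pull_kap_symm (hQN : Q ≤ N) {eH : Set (IrrCharacter (LH N Q))}
    (h : IsDefectGroup p M eH
      ((Q.subgroupOf (Subgroup.normalizer (Q : Set G))).subgroupOf (LH N Q))) :
    IsDefectGroup p M (pullBlock (kap N Q hQN).symm eH)
      ((Q.subgroupOf N).subgroupOf (NN N Q)) := by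
  have h' := isDefectGroup_pullBlock (kap N Q hQN).symm h
  convert h' using 1
  ext x
  rw [Subgroup.mem_comap, Subgroup.mem_subgroupOf, Subgroup.mem_subgroupOf,
    Subgroup.mem_subgroupOf, Subgroup.mem_subgroupOf]
  rfl

/-- Conjugation by `h ∈ N_G(Q)` on `N_N(Q)`. -/
noncomputable def tauH (hQN : Q ≤ N) (h : Subgroup.normalizer (Q : Set G)) : NN N Q ≃* NN N Q :=
  (kap N Q hQN).symm.trans ((cjN (LH N Q) h).trans (kap N Q hQN))

omit [Fintype G] [Fintype N] in
theorem coe_tauH (hQN : Q ≤ N) (h : Subgroup.normalizer (Q : Set G)) (k : NN N Q) :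
    ((tauH N Q hQN h k : NN N Q) : N) = cjN N (h : G) (k : N) := by
  apply Subtype.ext
  show (((kap N Q hQN (cjN (LH N Q) h ((kap N Q hQN).symm k)) : NN N Q) : N) : G) = _
  rw [coe_kap]
  have h1 : ((cjN (LH N Q) h ((kap N Q hQN).symm k) : LH N Q) :
      Subgroup.normalizer (Q : Set G)) = h * ((kap N Q hQN).symm k : LH N Q) * h⁻¹ :=
    MulAut.conjNormal_apply h _
  rw [h1]
  have h2 : ((cjN N (h : G) (k : N) : N) : G) = (h : G) * (k : N) * (h : G)⁻¹ :=
    MulAut.conjNormal_apply (h : G) _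
  rw [h2]
  simp only [Subgroup.coe_mul, Subgroup.coe_inv]
  rw [coe_kap_symm]

omit [Fintype G] [Fintype N] in
/-- **Equivariance** of the correspondence `eH ↦ d` under `N_G(Q)`. -/
theorem rel_conj (hQN : Q ≤ N) (h : Subgroup.normalizer (Q : Set G))
    {e₁ : Set (IrrCharacter (LH N Q))} {d₁ : Set (IrrCharacter N)}
    (hrel : IsInducedBlock M (NN N Q) (pullBlock (kap N Q hQN).symm e₁) d₁) :
    IsInducedBlock M (NN N Q) (pullBlock (kap N Q hQN).symm (pullBlock (cjN (LH N Q) h) e₁))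
      (pullBlock (cjN N (h : G)) d₁) := by
  have h1 := isInducedBlock_pullBlock_aut (NN N Q) (cjN N (h : G)) (tauH N Q hQN h)
    (coe_tauH N Q hQN h) hrel
  have e : pullBlock (tauH N Q hQN h) (pullBlock (kap N Q hQN).symm e₁) =
      pullBlock (kap N Q hQN).symm (pullBlock (cjN (LH N Q) h) e₁) := by
    rw [pullBlock_trans, pullBlock_trans]
    congr 1
  rw [e] at h1
  exact h1

/-- **Uniqueness**: a block of `N` with defect group `Q` has at most one correspondent. -/
theorem rel_unique (hM : IsPModular p M) (hQ : IsPGroup p Q) (hQN : Q ≤ N)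
    {e₁ e₂ : Set (IrrCharacter (LH N Q))} {d' : Set (IrrCharacter N)}
    (hD₁ : IsDefectGroup p M e₁
      ((Q.subgroupOf (Subgroup.normalizer (Q : Set G))).subgroupOf (LH N Q)))
    (h₁ : IsInducedBlock M (NN N Q) (pullBlock (kap N Q hQN).symm e₁) d')
    (h₂ : IsInducedBlock M (NN N Q) (pullBlock (kap N Q hQN).symm e₂) d') : e₁ = e₂ := by
  classical
  haveI : Fintype (IrrCharacter (NN N Q)) := Fintype.ofFinite _
  have hQ' : IsPGroup p (Q.subgroupOf N) := hQ.comap_subtype
  have hD := isDefectGroup_pull_kap_symm N Q hQN hD₁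
  have := block_eq_of_induced_eq hM (Q.subgroupOf N) hQ' h₁.1 h₂.1 hD h₁ h₂
  exact pullBlock_injective _ this

end Transport

end HK

end Cfsg.Agent.Helper23.HK
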