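import Mathlib
import Cfsg.Prelude.Def_Blocks
import Cfsg.Prelude.Def_BlockLocal
import Cfsg.Agent.Helper23.HKC

set_option autoImplicit false
set_option linter.unusedSectionVars false
set_option linter.unusedVariables false
set_option linter.style.haveILetI false
set_option linter.unnecessarySimpa false
set_option linter.unusedSimpArgs false

/-!
# Harris–Knörr, part D: existence, uniqueness and the main theorem
-/

namespace Cfsg.Agent.Helper23.HK

open Cfsg Cfsg.Agent.Helper24 Cfsg.Agent.Helper5 Cfsg.Agent.Helper5.Loc Cfsg.Agent.Helper5.CC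
open Cfsg.Agent.Helper23.NS Cfsg.Agent.Helper23 Cfsg.Agent.Helper14 Cfsg.Agent.Helper23.BT
open Cfsg.Agent.Helper23.SB Cfsg.Agent.Helper23.MP Cfsg.Agent.Helper23.BC
open Cfsg.Agent.Helper23.IC Cfsg.Agent.Helper23.KN

variable {G : Type*} [Group G] [Fintype G] (N : Subgroup G) [hN : N.Normal] [Fintype N]
  {M : Ideal AlgInt} {p : ℕ} [Fact p.Prime] (Q : Subgroup G)

omit [Fintype G] [Fintype N] in
theorem normalizer_le_of_inf_eq {P : Subgroup G} (hPN : P ⊓ N = Q) :
    Subgroup.normalizer (P : Set G) ≤ Subgroup.normalizer (Q : Set G) := by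
  intro x hx
  rw [Subgroup.mem_normalizer_iff] at hx ⊢
  intro g
  rw [← hPN, Subgroup.mem_inf, Subgroup.mem_inf, ← hx g]
  have : g ∈ N ↔ x * g * x⁻¹ ∈ N := by
    constructor
    · intro h; exact hN.conj_mem g h x
    · intro h
      have := hN.conj_mem _ h x⁻¹
      simpa [mul_assoc] using this
  rw [this]

omit [Fintype G] [Fintype N] hN in
theorem map_subtype_inf_eq (hQN : Q ≤ N) (P' : Subgroup (Subgroup.normalizer (Q : Set G)))
    (hP' : P' ⊓ LH N Q = Q.subgroupOf (Subgroup.normalizer (Q : Set G))) :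
    P'.map (Subgroup.normalizer (Q : Set G)).subtype ⊓ N = Q := by
  ext x
  rw [Subgroup.mem_inf]
  constructor
  · rintro ⟨⟨y, hy, rfl⟩, hxN⟩
    have : y ∈ P' ⊓ LH N Q := ⟨hy, Subgroup.mem_subgroupOf.mpr hxN⟩
    rw [hP'] at this
    exact Subgroup.mem_subgroupOf.mp this
  · intro hx
    have hxH : x ∈ Subgroup.normalizer (Q : Set G) := Subgroup.le_normalizer hx
    have : (⟨x, hxH⟩ : Subgroup.normalizer (Q : Set G)) ∈ P' ⊓ LH N Q := by
      rw [hP']
      exact Subgroup.mem_subgroupOf.mpr hx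
    exact ⟨⟨⟨x, hxH⟩, this.1, rfl⟩, hQN hx⟩

section Main

variable [Fintype (Subgroup.normalizer (Q : Set G))] [Fintype (LH N Q)] [Fintype (NN N Q)]

/-- **Existence**: a block of `G` covering `d` is induced from a block of `N_G(Q)` covering the
correspondent of `d`. -/
theorem exists_cover_induced (hM : IsPModular p M) (hQ : IsPGroup p Q) (hQN : Q ≤ N)
    (d : Set (IrrCharacter N)) (hd : IsPBlock M d)
    (hdQ : IsDefectGroup p M d (Q.subgroupOf N))
    (eH : Set (IrrCharacter (LH N Q)))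
    (hrel : IsInducedBlock M (NN N Q) (pullBlock (kap N Q hQN).symm eH) d)
    (B : Set (IrrCharacter G)) (hB : IsPBlock M B)
    (hcov : ∃ χ ∈ B, ∃ θ ∈ d, classInner (fun n : N => (χ : G → ℂ) n) (θ : N → ℂ) ≠ 0) :
    ∃ c : Set (IrrCharacter (Subgroup.normalizer (Q : Set G))), IsPBlock M c ∧
      (∃ ψ ∈ c, ∃ ξ ∈ eH, classInner (fun l : LH N Q =>
        (ψ : Subgroup.normalizer (Q : Set G) → ℂ) l) (ξ : LH N Q → ℂ) ≠ 0) ∧
      IsInducedBlock M (Subgroup.normalizer (Q : Set G)) c B := by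
  classical
  have hMp := isPrime_of_isPModular hM
  obtain ⟨P, hPD, hPN⟩ := knorr_given N hM d hd Q hQN hdQ B hB hcov
  have hPp : IsPGroup p P := isPGroup_of_isDefectGroup hPD
  have hH : Subgroup.normalizer (P : Set G) ≤ Subgroup.normalizer (Q : Set G) :=
    normalizer_le_of_inf_eq N Q hPN
  have hdef : ∀ c : Set (IrrCharacter (Subgroup.normalizer (Q : Set G))), IsPBlock M c →
      ∃ 𝔅, IsInducedBlock M (Subgroup.normalizer (Q : Set G)) c 𝔅 := fun c hc =>
    Cfsg.Agent.S0919.result p M hM Q (Subgroup.normalizer (Q : Set G)) hQ Subgroup.le_normalizer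
      (Subgroup.centralizer_le_normalizer _) le_rfl c hc
  obtain ⟨c₀, hc₀, hc₀D, hind₀⟩ := exists_corr_over hM P (Subgroup.normalizer (Q : Set G)) hPp hH
    hdef B hB hPD
  obtain ⟨e', he', -, hcov', he'D⟩ := knorr_stable (LH N Q) hM c₀ hc₀
    (P.subgroupOf (Subgroup.normalizer (Q : Set G))) hc₀D
  have hinf : P.subgroupOf (Subgroup.normalizer (Q : Set G)) ⊓ LH N Q =
      Q.subgroupOf (Subgroup.normalizer (Q : Set G)) := by
    ext x
    rw [Subgroup.mem_inf, Subgroup.mem_subgroupOf, Subgroup.mem_subgroupOf,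
      Subgroup.mem_subgroupOf]
    have h1 : (x : G) ∈ P ⊓ N ↔ (x : G) ∈ Q := by rw [hPN]
    rw [← h1, Subgroup.mem_inf]
  rw [hinf] at he'D
  have hD' := isDefectGroup_pull_kap_symm N Q hQN he'D
  have hQ' : IsPGroup p (Q.subgroupOf N) := hQ.comap_subtype
  obtain ⟨d', hd', hd'D, hrel'⟩ := (Cfsg.Agent.S0920.result p M hM (Q.subgroupOf N) hQ').1 _
    (isPBlock_pullBlock _ he') hD'
  have hcovd' := cover_of_cover N Q hM hQ hQN c₀ hc₀ e' hcov' d' hrel' B hind₀
  obtain ⟨h, hh, hd'eq⟩ := exists_conj_in_normalizer N Q hM hQN B hB d d' hd hd' hdQ hd'D hcov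
    hcovd'
  have hrel2 := rel_conj N Q hQN ⟨h, hh⟩ hrel
  have hrel3 : IsInducedBlock M (NN N Q)
      (pullBlock (kap N Q hQN).symm (pullBlock (cjN (LH N Q) ⟨h, hh⟩) eH)) d' := by
    rw [hd'eq]
    exact hrel2
  have heq : e' = pullBlock (cjN (LH N Q) ⟨h, hh⟩) eH :=
    rel_unique N Q hM hQ hQN he'D hrel' hrel3
  rw [heq] at hcov'
  exact ⟨c₀, hc₀, cover_of_cover_pullBlock (LH N Q) eH c₀ ⟨h, hh⟩ hcov', hind₀⟩


/-- **Uniqueness**: two blocks of `N_G(Q)` covering `eH` and inducing the same block of `G`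
coincide. -/
theorem unique_cover_induced (hM : IsPModular p M) (hQ : IsPGroup p Q) (hQN : Q ≤ N)
    (eH : Set (IrrCharacter (LH N Q))) (heH : IsPBlock M eH)
    (heHD : IsDefectGroup p M eH
      ((Q.subgroupOf (Subgroup.normalizer (Q : Set G))).subgroupOf (LH N Q)))
    (B : Set (IrrCharacter G))
    (c₁ c₂ : Set (IrrCharacter (Subgroup.normalizer (Q : Set G))))
    (hc₁ : IsPBlock M c₁) (hc₂ : IsPBlock M c₂)
    (hcov₁ : ∃ ψ ∈ c₁, ∃ ξ ∈ eH, classInner (fun l : LH N Q =>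
        (ψ : Subgroup.normalizer (Q : Set G) → ℂ) l) (ξ : LH N Q → ℂ) ≠ 0)
    (hcov₂ : ∃ ψ ∈ c₂, ∃ ξ ∈ eH, classInner (fun l : LH N Q =>
        (ψ : Subgroup.normalizer (Q : Set G) → ℂ) l) (ξ : LH N Q → ℂ) ≠ 0)
    (hind₁ : IsInducedBlock M (Subgroup.normalizer (Q : Set G)) c₁ B)
    (hind₂ : IsInducedBlock M (Subgroup.normalizer (Q : Set G)) c₂ B) : c₁ = c₂ := by
  classical
  have hMp := isPrime_of_isPModular hM
  haveI : Fintype (IrrCharacter G) := Fintype.ofFinite _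
  haveI : Fintype (IrrCharacter (Subgroup.normalizer (Q : Set G))) := Fintype.ofFinite _
  have hB : IsPBlock M B := hind₁.2.1
  have hQH : Q.subgroupOf (Subgroup.normalizer (Q : Set G)) ≤ LH N Q := fun x hx =>
    Subgroup.mem_subgroupOf.mpr (hQN (Subgroup.mem_subgroupOf.mp hx))
  obtain ⟨P₁', hD₁, hP₁⟩ := knorr_given (LH N Q) hM eH heH
    (Q.subgroupOf (Subgroup.normalizer (Q : Set G))) hQH heHD c₁ hc₁ hcov₁
  obtain ⟨P₂', hD₂, hP₂⟩ := knorr_given (LH N Q) hM eH heH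
    (Q.subgroupOf (Subgroup.normalizer (Q : Set G))) hQH heHD c₂ hc₂ hcov₂
  obtain ⟨P₁, hP₁def⟩ : ∃ P₁ : Subgroup G,
      P₁ = P₁'.map (Subgroup.normalizer (Q : Set G)).subtype := ⟨_, rfl⟩
  obtain ⟨P₂, hP₂def⟩ : ∃ P₂ : Subgroup G,
      P₂ = P₂'.map (Subgroup.normalizer (Q : Set G)).subtype := ⟨_, rfl⟩
  have e₁ : P₁.subgroupOf (Subgroup.normalizer (Q : Set G)) = P₁' := by
    rw [hP₁def]
    exact Subgroup.comap_map_eq_self_of_injective
      (Subgroup.normalizer (Q : Set G)).subtype_injective P₁'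
  have e₂ : P₂.subgroupOf (Subgroup.normalizer (Q : Set G)) = P₂' := by
    rw [hP₂def]
    exact Subgroup.comap_map_eq_self_of_injective
      (Subgroup.normalizer (Q : Set G)).subtype_injective P₂'
  have hP₁N : P₁ ⊓ N = Q := by rw [hP₁def]; exact map_subtype_inf_eq N Q hQN P₁' hP₁
  have hP₂N : P₂ ⊓ N = Q := by rw [hP₂def]; exact map_subtype_inf_eq N Q hQN P₂' hP₂
  have hp₁ : IsPGroup p P₁ := by rw [hP₁def]; exact (isPGroup_of_isDefectGroup hD₁).map _
  have hp₂ : IsPGroup p P₂ := by rw [hP₂def]; exact (isPGroup_of_isDefectGroup hD₂).map _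
  have hH₁ : Subgroup.normalizer (P₁ : Set G) ≤ Subgroup.normalizer (Q : Set G) :=
    normalizer_le_of_inf_eq N Q hP₁N
  have hH₂ : Subgroup.normalizer (P₂ : Set G) ≤ Subgroup.normalizer (Q : Set G) :=
    normalizer_le_of_inf_eq N Q hP₂N
  have hD₁' : IsDefectGroup p M c₁ (P₁.subgroupOf (Subgroup.normalizer (Q : Set G))) := by
    rw [e₁]; exact hD₁
  have hD₂' : IsDefectGroup p M c₂ (P₂.subgroupOf (Subgroup.normalizer (Q : Set G))) := by
    rw [e₂]; exact hD₂
  have hB₁ : IsDefectGroup p M B P₁ :=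
    defect_of_induced_over hM P₁ _ hp₁ hH₁ c₁ hc₁ hD₁' B hind₁
  have hB₂ : IsDefectGroup p M B P₂ :=
    defect_of_induced_over hM P₂ _ hp₂ hH₂ c₂ hc₂ hD₂' B hind₂
  obtain ⟨g, hg⟩ := defectGroup_conj hM B hB P₁ P₂ hB₁ hB₂
  have hQg : Q = Q.map (cj g) := by
    conv_lhs => rw [← hP₂N, hg, map_cj_inf_normal, hP₁N]
  have hgH : g ∈ Subgroup.normalizer (Q : Set G) := by
    rw [Subgroup.mem_normalizer_iff]
    intro q
    constructor
    · intro hq
      rw [hQg]
      exact ⟨q, hq, rfl⟩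
    · intro hq
      rw [hQg] at hq
      obtain ⟨q', hq', hqq⟩ := hq
      have : q' = q := by
        have h1 : g * q' * g⁻¹ = g * q * g⁻¹ := hqq
        exact mul_left_cancel (mul_right_cancel h1)
      rw [← this]
      exact hq'
  -- `c₂` has defect group `P₁` as well
  have hD₂'' : IsDefectGroup p M c₂ (P₁.subgroupOf (Subgroup.normalizer (Q : Set G))) := by
    have h3 := isDefectGroup_map_cj hD₂ (⟨g, hgH⟩⁻¹ : Subgroup.normalizer (Q : Set G))
    convert h3 using 1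
    ext z
    rw [Subgroup.mem_subgroupOf, Subgroup.mem_map]
    constructor
    · intro hz
      have hw : ((⟨g, hgH⟩ : Subgroup.normalizer (Q : Set G)) * z * (⟨g, hgH⟩)⁻¹ :
          Subgroup.normalizer (Q : Set G)) ∈ P₂' := by
        rw [← e₂, Subgroup.mem_subgroupOf, hg]
        exact ⟨(z : G), hz, rfl⟩
      refine ⟨_, hw, ?_⟩
      simp [cj_apply, mul_assoc]
    · rintro ⟨w, hw, rfl⟩
      rw [← e₂, Subgroup.mem_subgroupOf, hg] at hw
      obtain ⟨u, hu, huw⟩ := hw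
      have h4 : g * u * g⁻¹ = (w : G) := huw
      have : (((cj (⟨g, hgH⟩⁻¹ : Subgroup.normalizer (Q : Set G))) w :
          Subgroup.normalizer (Q : Set G)) : G) = u := by
        simp only [cj_apply, Subgroup.coe_mul, Subgroup.coe_inv, inv_inv]
        rw [← h4]
        simp [mul_assoc]
      rw [this]
      exact hu
  exact unique_corr_over hM P₁ _ hp₁ hH₁ c₁ c₂ hc₁ hc₂ hD₁' hD₂'' B hind₁ hind₂


omit [Fintype G] [Fintype N] hN [Fintype (NN N Q)] in
/-- The covering relation, read on `LH`. -/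
theorem cov_iff [Fintype (Subgroup.normalizer (Q : Set G) ⊓ N : Subgroup G)]
    (c : Set (IrrCharacter (Subgroup.normalizer (Q : Set G))))
    (e : Set (IrrCharacter (Subgroup.normalizer (Q : Set G) ⊓ N : Subgroup G))) :
    (∃ ψ ∈ c, ∃ ξ ∈ e, classInner
      (fun l : (Subgroup.normalizer (Q : Set G) ⊓ N : Subgroup G) =>
        (ψ : Subgroup.normalizer (Q : Set G) → ℂ) (Subgroup.inclusion inf_le_left l))
      (ξ : (Subgroup.normalizer (Q : Set G) ⊓ N : Subgroup G) → ℂ) ≠ 0) ↔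
    (∃ ψ ∈ c, ∃ ξ ∈ pullBlock (iH N Q) e, classInner (fun l : LH N Q =>
        (ψ : Subgroup.normalizer (Q : Set G) → ℂ) l) (ξ : LH N Q → ℂ) ≠ 0) := by
  have key : ∀ (ψ : IrrCharacter (Subgroup.normalizer (Q : Set G)))
      (ξ : IrrCharacter (Subgroup.normalizer (Q : Set G) ⊓ N : Subgroup G)),
      classInner (fun l : LH N Q => (ψ : Subgroup.normalizer (Q : Set G) → ℂ) l)
        ((pullIrr (iH N Q) ξ : IrrCharacter (LH N Q)) : LH N Q → ℂ) =
      classInner (fun l : (Subgroup.normalizer (Q : Set G) ⊓ N : Subgroup G) =>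
        (ψ : Subgroup.normalizer (Q : Set G) → ℂ) (Subgroup.inclusion inf_le_left l))
        (ξ : (Subgroup.normalizer (Q : Set G) ⊓ N : Subgroup G) → ℂ) := by
    intro ψ ξ
    rw [← classInner_comp_mulEquiv (iH N Q)]
    rfl
  constructor
  · rintro ⟨ψ, hψ, ξ, hξ, h⟩
    refine ⟨ψ, hψ, pullIrr (iH N Q) ξ, (pullIrr_mem_pullBlock_iff _ _ _).mpr hξ, ?_⟩
    rw [key]
    exact h
  · rintro ⟨ψ, hψ, ξ', hξ', h⟩
    rw [mem_pullBlock_iff] at hξ'
    refine ⟨ψ, hψ, pullIrr (iH N Q).symm ξ', hξ', ?_⟩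
    rw [← key, pullIrr_pullIrr_symm]
    exact h

end Main

/-- **Harris–Knörr.** -/
theorem harris_knorr (hM : IsPModular p M) (hQ : IsPGroup p Q) (hQN : Q ≤ N)
    [Fintype (Subgroup.normalizer (Q : Set G) ⊓ N : Subgroup G)]
    (d : Set (IrrCharacter N)) (hd : IsPBlock M d)
    (hdQ : IsDefectGroup p M d (Q.subgroupOf N))
    (e : Set (IrrCharacter (Subgroup.normalizer (Q : Set G) ⊓ N : Subgroup G)))
    (he : IsPBlock M e)
    (heQ : IsDefectGroup p M e (Q.subgroupOf (Subgroup.normalizer (Q : Set G) ⊓ N)))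
    (hed : IsInducedBlockIn M N (Subgroup.normalizer (Q : Set G) ⊓ N) e d) :
    (∀ c : Set (IrrCharacter (Subgroup.normalizer (Q : Set G))), IsPBlock M c →
      (∃ ψ ∈ c, ∃ ξ ∈ e, classInner
        (fun l : (Subgroup.normalizer (Q : Set G) ⊓ N : Subgroup G) =>
          (ψ : Subgroup.normalizer (Q : Set G) → ℂ) (Subgroup.inclusion inf_le_left l))
        (ξ : (Subgroup.normalizer (Q : Set G) ⊓ N : Subgroup G) → ℂ) ≠ 0) →
      ∃! B : Set (IrrCharacter G), IsInducedBlock M (Subgroup.normalizer (Q : Set G)) c B ∧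
        (∃ χ ∈ B, ∃ θ ∈ d, classInner (fun n : N => (χ : G → ℂ) n) (θ : N → ℂ) ≠ 0)) ∧
    (∀ B : Set (IrrCharacter G), IsPBlock M B →
      (∃ χ ∈ B, ∃ θ ∈ d, classInner (fun n : N => (χ : G → ℂ) n) (θ : N → ℂ) ≠ 0) →
      ∃! c : Set (IrrCharacter (Subgroup.normalizer (Q : Set G))),
        (IsPBlock M c ∧ ∃ ψ ∈ c, ∃ ξ ∈ e, classInner
          (fun l : (Subgroup.normalizer (Q : Set G) ⊓ N : Subgroup G) =>
            (ψ : Subgroup.normalizer (Q : Set G) → ℂ) (Subgroup.inclusion inf_le_left l))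
          (ξ : (Subgroup.normalizer (Q : Set G) ⊓ N : Subgroup G) → ℂ) ≠ 0) ∧
        IsInducedBlock M (Subgroup.normalizer (Q : Set G)) c B) := by
  classical
  have hMp := isPrime_of_isPModular hM
  haveI : Fintype (Subgroup.normalizer (Q : Set G)) := Fintype.ofFinite _
  haveI : Fintype (LH N Q) := Fintype.ofFinite _
  haveI : Fintype (NN N Q) := Fintype.ofFinite _
  have hrel0 := (Cfsg.Agent.Helper23.IIn.isInducedBlockIn_iff (M := M) N
    (Subgroup.normalizer (Q : Set G) ⊓ N) (NN N Q) (iN N Q hQN) (coe_iN N Q hQN) e d).mp hed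
  have hrel : IsInducedBlock M (NN N Q)
      (pullBlock (kap N Q hQN).symm (pullBlock (iH N Q) e)) d := by
    have e1 : pullBlock (kap N Q hQN).symm (pullBlock (iH N Q) e) = pullBlock (iN N Q hQN) e := by
      rw [pullBlock_trans]
      congr 1
    rw [e1]
    exact hrel0
  constructor
  · intro c hc hcovS
    have hcovH := (cov_iff N Q c e).mp hcovS
    obtain ⟨B, hindB⟩ := Cfsg.Agent.S0919.result p M hM Q (Subgroup.normalizer (Q : Set G)) hQ
      Subgroup.le_normalizer (Subgroup.centralizer_le_normalizer _) le_rfl c hc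
    have hcovB := cover_of_cover N Q hM hQ hQN c hc (pullBlock (iH N Q) e) hcovH d hrel B hindB
    refine ⟨B, ⟨hindB, hcovB⟩, ?_⟩
    rintro B' ⟨hind', -⟩
    exact induced_unique hMp _ hind' hindB
  · intro B hB hcov
    obtain ⟨c, hc, hcovH, hind⟩ := exists_cover_induced N Q hM hQ hQN d hd hdQ
      (pullBlock (iH N Q) e) hrel B hB hcov
    refine ⟨c, ⟨⟨hc, (cov_iff N Q c e).mpr hcovH⟩, hind⟩, ?_⟩
    rintro c' ⟨⟨hc', hcov'S⟩, hind'⟩
    exact unique_cover_induced N Q hM hQ hQN (pullBlock (iH N Q) e) (isPBlock_pullBlock _ he)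
      (isDefectGroup_pull_iH N Q heQ) B c' c hc' hc ((cov_iff N Q c' e).mp hcov'S) hcovH hind' hind


end Cfsg.Agent.Helper23.HK
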