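import Mathlib
import Cfsg.Prelude.Def_Blocks
import Cfsg.Prelude.Def_BlockRank
import Cfsg.Agent.Helper23.MajorBound
import Cfsg.Agent.Helper23.KleinCount
import Cfsg.Agent.Helper8.SectionCount

/-!
# The diagonal contributions of all subsections sum to one
-/

set_option autoImplicit false
set_option linter.unusedSectionVars false
set_option linter.unusedVariables false
set_option linter.unusedSimpArgs false
set_option linter.unnecessarySimpa false
set_option linter.style.haveILetI false

namespace Cfsg.Agent.Helper23.HB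

open Cfsg Cfsg.Agent.Helper24 Cfsg.Agent.Helper5.CC Cfsg.Agent.Helper5.Loc
open Cfsg.Agent.Helper8.SecCore Cfsg.Agent.Helper23.SubTr Cfsg.Agent.Helper8.HZI
open Cfsg.Agent.Helper8.IndHt Cfsg.Agent.Helper23.CM Cfsg.Agent.Helper23.KCt

variable {G : Type*} [Group G] [Fintype G] {M : Ideal AlgInt}

/-- The contribution with classical decidability. -/
noncomputable def contribC (p : ℕ) (x : G) (C : Subgroup G) [Fintype C] [Fintype (IrrCharacter C)]
    (e : Set (IrrCharacter C)) (χ χ' : IrrCharacter G) : ℂ :=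
  haveI : DecidablePred (· ∈ e) := Classical.decPred _
  contrib p x C e χ χ'

theorem contribC_eq (p : ℕ) (x : G) (C : Subgroup G) [Fintype C] [Fintype (IrrCharacter C)]
    (e : Set (IrrCharacter C)) [DecidablePred (· ∈ e)] (χ χ' : IrrCharacter G) :
    contribC p x C e χ χ' = contrib p x C e χ χ' := by
  unfold contribC contrib
  refine Finset.sum_congr rfl fun ψ _ => ?_
  by_cases h : ψ ∈ e
  · rw [if_pos h, if_pos h]
  · rw [if_neg h, if_neg h]

/-- The blocks of a group, as a finite set. -/
noncomputable def blocksFin (M : Ideal AlgInt) (H : Type*) [Group H] [Fintype H]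
    [Fintype (IrrCharacter H)] : Finset (Set (IrrCharacter H)) :=
  haveI : DecidableEq (Set (IrrCharacter H)) := Classical.decEq _
  Finset.univ.image (fun θ : IrrCharacter H => blockOf M (θ : H → ℂ))

theorem mem_blocksFin {H : Type*} [Group H] [Fintype H] [Fintype (IrrCharacter H)]
    (hMp : M.IsPrime) (e : Set (IrrCharacter H)) : e ∈ blocksFin M H ↔ IsPBlock M e := by
  classical
  unfold blocksFin
  rw [Finset.mem_image]
  constructor
  · rintro ⟨θ, -, rfl⟩
    exact isPBlock_blockOf θ
  · intro he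
    obtain ⟨θ, hθ⟩ := IsPBlock.nonempty hMp he
    exact ⟨θ, Finset.mem_univ _, (IsPBlock_eq_blockOf hMp he hθ).symm⟩

/-- Summing a function over the members of all blocks. -/
theorem sum_blocksFin {H : Type*} [Group H] [Fintype H] [Fintype (IrrCharacter H)]
    (hMp : M.IsPrime) (t : IrrCharacter H → ℂ) :
    ∑ e ∈ blocksFin M H, ∑ θ : IrrCharacter H,
      (haveI : Decidable (θ ∈ e) := Classical.dec _; if θ ∈ e then t θ else 0) =
      ∑ θ : IrrCharacter H, t θ := by
  classical
  rw [Finset.sum_comm]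
  refine Finset.sum_congr rfl fun θ _ => ?_
  rw [Finset.sum_eq_single (blockOf M (θ : H → ℂ))]
  · rw [if_pos (mem_blockOf_self hMp θ)]
  · intro e he hne
    rw [mem_blocksFin hMp] at he
    by_cases h : θ ∈ e
    · exact absurd (IsPBlock_eq_blockOf hMp he h) hne
    · rw [if_neg h]
  · intro h
    exact absurd ((mem_blocksFin hMp _).mpr (isPBlock_blockOf θ)) h

/-- **The contributions of all blocks of `C` to `χ` add up to the norm of `χ` on the section.** -/
theorem sum_blocks_contrib [Fintype (IrrCharacter G)] {p : ℕ} [hp : Fact p.Prime]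
    (hM : IsPModular p M) (x : G) (C : Subgroup G) [Fintype C] [Fintype (IrrCharacter C)]
    (hcomm : ∀ c : C, x * (c : G) = (c : G) * x) (χ : IrrCharacter G) :
    ∑ e ∈ blocksFin M C, contribC p x C e χ χ =
      (Nat.card C : ℂ)⁻¹ * ∑ c : C, rr p c *
        ((χ : G → ℂ) (x * (c : G)) * (starRingEnd ℂ) ((χ : G → ℂ) (x * (c : G)))) := by
  classical
  haveI : Finite G := Finite.of_fintype G
  haveI : Finite C := Finite.of_fintype C
  have hMp := isPrime_of_isPModular hM
  have h1 : ∀ e ∈ blocksFin M C, contribC p x C e χ χ = ∑ θ : IrrCharacter C,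
      if θ ∈ e then acoef x C χ θ * (starRingEnd ℂ) (dnum p x C χ θ) else 0 := by
    intro e he
    rw [contribC_eq, contrib_eq_sum_acoef hM x C hcomm e ((mem_blocksFin hMp e).mp he)]
  rw [Finset.sum_congr rfl h1]
  have h2 := sum_blocksFin (M := M) (H := C) hMp
    (fun θ => acoef x C χ θ * (starRingEnd ℂ) (dnum p x C χ θ))
  have h3 : ∑ e ∈ blocksFin M C, ∑ θ : IrrCharacter C,
      (if θ ∈ e then acoef x C χ θ * (starRingEnd ℂ) (dnum p x C χ θ) else 0) =
      ∑ θ : IrrCharacter C, acoef x C χ θ * (starRingEnd ℂ) (dnum p x C χ θ) := by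
    rw [← h2]
  rw [h3]
  have hsh : IsClassFunction C (shift x C χ) := isClassFunction_shift x C hcomm χ
  have hsh2 : IsClassFunction C (fun c => rr p c * shift x C χ c) :=
    isClassFunction_rr_mul p hsh
  have h4 := classInner_eq_sum hsh hsh2
  have h5 : ∀ θ : IrrCharacter C, acoef x C χ θ * (starRingEnd ℂ) (dnum p x C χ θ) =
      classInner (shift x C χ) (θ : C → ℂ) *
        (starRingEnd ℂ) (classInner (fun c => rr p c * shift x C χ c) (θ : C → ℂ)) := by
    intro θ
    rw [dnum_eq_classInner, acoef]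
  rw [Finset.sum_congr rfl (fun θ _ => h5 θ), ← h4, classInner]
  congr 1
  refine Finset.sum_congr rfl fun c _ => ?_
  rw [map_mul, rr_conj]
  simp only [Cfsg.Agent.Helper23.CM.shift]
  ring

/-- **The diagonal contributions of all subsections add up to one.** -/
theorem sum_sections_contrib [Fintype (IrrCharacter G)] [DecidableEq G] {p : ℕ}
    [hp : Fact p.Prime] (hM : IsPModular p M) (X : Finset G)
    (hX : ∀ x ∈ X, ∃ k : ℕ, orderOf x = p ^ k)
    (hXrep : ∀ g : G, (∃ k : ℕ, orderOf g = p ^ k) → ∃! x, x ∈ X ∧ IsConj g x)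
    [∀ x : G, Fintype (Subgroup.centralizer ((Subgroup.zpowers x : Subgroup G) : Set G))]
    [∀ x : G, Fintype (IrrCharacter
      (Subgroup.centralizer ((Subgroup.zpowers x : Subgroup G) : Set G)))]
    (χ : IrrCharacter G) :
    ∑ x ∈ X, ∑ e ∈ blocksFin M (Subgroup.centralizer
      ((Subgroup.zpowers x : Subgroup G) : Set G)),
        contribC p x (Subgroup.centralizer ((Subgroup.zpowers x : Subgroup G) : Set G)) e χ χ =
      1 := by
  classical
  haveI : Finite G := Finite.of_fintype G
  have hG0 : (Nat.card G : ℂ) ≠ 0 := by exact_mod_cast (Nat.card_pos (α := G)).ne'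
  set F : G → ℂ := fun g => (χ : G → ℂ) g * (starRingEnd ℂ) ((χ : G → ℂ) g) with hF
  have hFc : ∀ g t : G, F (t * g * t⁻¹) = F g := by
    intro g t
    simp only [hF]
    rw [isClassFunction_irr χ g t]
  have hL : (1 : ℂ) = (Nat.card G : ℂ)⁻¹ * ∑ g : G, F g := by
    have := classInner_irr_self χ
    rw [classInner] at this
    exact this.symm
  rw [hL, Cfsg.Agent.Helper8.SecSum.sum_eq_sum_sections X hX hXrep F hFc, Finset.mul_sum]
  refine Finset.sum_congr rfl fun x hxX => ?_
  set C : Subgroup G := Subgroup.centralizer ((Subgroup.zpowers x : Subgroup G) : Set G) with hC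
  have hCeq : Subgroup.centralizer ({x} : Set G) = C := centralizer_singleton_eq x
  have hC0 : (Nat.card C : ℂ) ≠ 0 := by exact_mod_cast (Nat.card_pos (α := C)).ne'
  have hmem : ∀ y : G, y ∈ C ↔ x * y = y * x := by
    intro y
    rw [← hCeq, Subgroup.mem_centralizer_iff]
    constructor
    · intro h; exact h x (Set.mem_singleton x)
    · intro h w hw
      rw [Set.mem_singleton_iff] at hw
      rw [hw]; exact h
  have hcomm : ∀ c : C, x * (c : G) = (c : G) * x := fun c => (hmem c).mp c.2
  have e1 : ∑ y : G, (if (x * y = y * x ∧ ¬ p ∣ orderOf y) then F (x * y) else 0) =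
      ∑ y : C, rr p y * F (x * (y : G)) := by
    have e1' : ∑ y : C, (if p ∣ orderOf (y : G) then (0 : ℂ) else F (x * (y : G))) =
        ∑ y : C, rr p y * F (x * (y : G)) := by
      refine Finset.sum_congr rfl fun y _ => ?_
      rw [Subgroup.orderOf_coe]
      by_cases hy : p ∣ orderOf y
      · rw [if_pos hy, rr_of_dvd hy, zero_mul]
      · rw [if_neg hy, rr_of_not_dvd hy, one_mul]
    rw [← e1']
    refine Eq.trans ?_
      (Cfsg.Agent.Helper8.SecCount.sum_subgroup_eq C
        (fun y : G => if p ∣ orderOf y then (0 : ℂ) else F (x * y)))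
    refine Finset.sum_congr rfl fun y _ => ?_
    by_cases hy : y ∈ C
    · rw [if_pos hy]
      by_cases hpy : p ∣ orderOf y
      · rw [if_pos hpy, if_neg (fun h => h.2 hpy)]
      · rw [if_neg hpy, if_pos ⟨(hmem y).mp hy, hpy⟩]
    · rw [if_neg hy, if_neg (fun h => hy ((hmem y).mpr h.1))]
  rw [e1, sum_blocks_contrib hM x C hcomm χ, hCeq]
  have e2 : ∑ y : C, rr p y * F (x * (y : G)) = ∑ c : C, rr p c *
      ((χ : G → ℂ) (x * (c : G)) * (starRingEnd ℂ) ((χ : G → ℂ) (x * (c : G)))) := rfl
  rw [e2]
  field_simp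

end Cfsg.Agent.Helper23.HB
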