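import Mathlib
import Cfsg.Prelude.Def_Blocks
import Cfsg.Prelude.Def_BlockRank
import Cfsg.Agent.Helper23.HeightBoundA

/-!
# Galois averages of diagonal contributions and heights
-/

set_option autoImplicit false
set_option linter.unusedSectionVars false
set_option linter.unusedVariables false
set_option linter.unusedSimpArgs false
set_option linter.unnecessarySimpa false
set_option linter.style.haveILetI false

namespace Cfsg.Agent.Helper23.HB

open Cfsg Cfsg.Agent.Helper24 Cfsg.Agent.Helper5.CC Cfsg.Agent.Helper5.Loc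
open Cfsg.Agent.Helper8.SecCore Cfsg.Agent.Helper23.SubTr Cfsg.Agent.Helper8.HZI
open Cfsg.Agent.Helper8.IndHt Cfsg.Agent.Helper23.CM Cfsg.Agent.Helper23.KCt

/-- AM-GM in the form: `c^n ≤ ∏ a_i` implies `n c ≤ ∑ a_i`. -/
theorem card_mul_le_sum_of_pow_le_prod {ι : Type*} [Fintype ι] (a : ι → ℝ) (ha : ∀ i, 0 ≤ a i)
    (c : ℝ) (hc : 0 ≤ c) (h : c ^ Fintype.card ι ≤ ∏ i, a i) :
    (Fintype.card ι : ℝ) * c ≤ ∑ i, a i := by
  classical
  set E := Fintype.card ι with hE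
  by_cases hE0 : E = 0
  · rw [hE0]; simp only [Nat.cast_zero, zero_mul]
    exact Finset.sum_nonneg (fun i _ => ha i)
  have hEpos : (0 : ℝ) < E := by exact_mod_cast Nat.pos_of_ne_zero hE0
  have key := Real.geom_mean_le_arith_mean_weighted Finset.univ
    (fun _ : ι => (E : ℝ)⁻¹) a
    (fun _ _ => by positivity)
    (by rw [Finset.sum_const, Finset.card_univ, nsmul_eq_mul, ← hE]; field_simp)
    (fun i _ => ha i)
  rw [Real.finsetProd_rpow _ _ (fun i _ => ha i), ← Finset.mul_sum] at key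
  have h5 : c ≤ (∏ i, a i) ^ (E : ℝ)⁻¹ := by
    have h6 : c = (c ^ E) ^ (E : ℝ)⁻¹ := by
      rw [← Real.rpow_natCast, ← Real.rpow_mul hc, mul_inv_cancel₀ hEpos.ne', Real.rpow_one]
    rw [h6]
    exact Real.rpow_le_rpow (pow_nonneg hc _) h (by positivity)
  have h6 : c ≤ (E : ℝ)⁻¹ * ∑ i, a i := h5.trans key
  calc (E : ℝ) * c ≤ E * ((E : ℝ)⁻¹ * ∑ i, a i) := mul_le_mul_of_nonneg_left h6 hEpos.le
    _ = ∑ i, a i := by field_simp

variable {G : Type*} [Group G] [Fintype G] {M : Ideal AlgInt}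

/-- An integer which, up to a `p'`-factor, is `p^j` times a local integer is divisible by
`p^j`. -/
theorem pow_dvd_of_lr {p : ℕ} [hp : Fact p.Prime] (hM : IsPModular p M) (g' : ℕ)
    (hg' : ¬ p ∣ g') :
    ∀ (j : ℕ) (m : ℤ) (R : ℂ), MemLocalRing M R →
      (g' : ℂ) * (m : ℂ) = (p : ℂ) ^ j * R → (p : ℤ) ^ j ∣ m := by
  have hMp := isPrime_of_isPModular hM
  have hp0 : (p : ℂ) ≠ 0 := by exact_mod_cast hp.out.pos.ne'
  intro j
  induction j with
  | zero => intro m R _ _; simp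
  | succ j ih =>
    intro m R hR h
    have hpli : MemLocalIdeal M ((p : ℕ) : ℂ) := (memLocalIdeal_natCast_iff hM p).mpr dvd_rfl
    have h1 : MemLocalIdeal M (((g' : ℤ) * m : ℤ) : ℂ) := by
      have e : (((g' : ℤ) * m : ℤ) : ℂ) = (p : ℂ) * ((p : ℂ) ^ j * R) := by
        push_cast
        rw [h, pow_succ]; ring
      rw [e]
      exact li_mul_right hMp hpli (lr_mul hMp (lr_pow hMp (memLocalRing_natCast hMp p) j) hR)
    have h2 : (p : ℤ) ∣ (g' : ℤ) * m :=
      (Cfsg.Agent.Helper5.BG.memLocalIdeal_intCast_iff hM _).mp h1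
    have hpp : Prime (p : ℤ) := Nat.prime_iff_prime_int.mp hp.out
    have h3 : (p : ℤ) ∣ m := by
      rcases hpp.dvd_or_dvd h2 with h | h
      · exact absurd (Int.natCast_dvd_natCast.mp h) hg'
      · exact h
    obtain ⟨m', rfl⟩ := h3
    have h4 : (g' : ℂ) * (m' : ℂ) = (p : ℂ) ^ j * R := by
      have e : (p : ℂ) * ((g' : ℂ) * (m' : ℂ)) = (p : ℂ) * ((p : ℂ) ^ j * R) := by
        have := h
        push_cast at this
        rw [pow_succ] at this
        linear_combination this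
      exact mul_left_cancel₀ hp0 e
    obtain ⟨q, hq⟩ := ih m' R hR h4
    exact ⟨q, by rw [hq, pow_succ]; ring⟩

/-- **The Galois average of the diagonal contribution of a major subsection at a character of
height `h` is at least `p^{h - d}`.** -/
theorem card_mul_pow_height_le [Fintype (IrrCharacter G)] {p : ℕ} [hp : Fact p.Prime]
    (hM : IsPModular p M) (x : G) (hx : ∃ k : ℕ, orderOf x = p ^ k)
    (C : Subgroup G) [Fintype C] [Fintype (IrrCharacter C)] (hxC : x ∈ C)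
    (hcomm : ∀ c : C, x * (c : G) = (c : G) * x)
    (hcent : Subgroup.centralizer ({x} : Set G) ≤ C)
    {e : Set (IrrCharacter C)} [DecidablePred (· ∈ e)] {B : Set (IrrCharacter G)}
    (hind : IsInducedBlock M C e B) (hdef : blockDefect p e = blockDefect p B)
    (χ : IrrCharacter G) (hχ : χ ∈ B) (h : ℕ)
    (hh : (irrDeg χ).factorization p = minVal p B + h)
    (hN : 0 < Nat.card G) [FiniteDimensional ℚ (cyclo (Nat.card G))] :
    (Fintype.card (cyclo (Nat.card G) →ₐ[ℚ] ℂ) : ℝ) * (p : ℝ) ^ h ≤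
      ∑ σ : cyclo (Nat.card G) →ₐ[ℚ] ℂ,
        ‖(p : ℂ) ^ blockDefect p e * contrib p (x ^ kexp (Nat.card G) hN σ) C e χ χ‖ := by
  classical
  haveI : Finite G := Finite.of_fintype G
  have hMp := isPrime_of_isPModular hM
  have he : IsPBlock M e := hind.1
  have hB : IsPBlock M B := hind.2.1
  set N := Nat.card G with hNdef
  set E := Fintype.card (cyclo N →ₐ[ℚ] ℂ) with hE
  set d := blockDefect p e with hd
  have hp0 : (p : ℂ) ≠ 0 := by exact_mod_cast hp.out.pos.ne'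
  -- a character of minimal degree valuation
  obtain ⟨ψ₀, hψ₀B, hψ₀v⟩ := exists_minVal p (IsPBlock.nonempty hMp hB)
  have hψ₀min : ∀ ξ ∈ B, (irrDeg ψ₀).factorization p ≤ (irrDeg ξ).factorization p := by
    intro ξ hξ
    rw [hψ₀v]
    exact minVal_le p hξ
  -- the elements
  have hrel : ∀ (σ : cyclo N →ₐ[ℚ] ℂ),
      Rel σ ((p : ℂ) ^ d * contrib p x C e χ χ)
        ((p : ℂ) ^ d * contrib p (x ^ kexp N hN σ) C e χ χ) :=
    fun σ => Rel.mul (Rel.pow (Rel.natCast σ p) d)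
      (rel_contrib p x C hcomm e σ (kexp N hN σ) (kexp_coprime N hN σ) (kexp_spec N hN σ) χ χ)
  have hmem : (p : ℂ) ^ d * contrib p x C e χ χ ∈ cyclo N := (hrel (cyclo N).val).1
  let z : cyclo N := ⟨_, hmem⟩
  have hσz : ∀ (σ : cyclo N →ₐ[ℚ] ℂ),
      σ z = (p : ℂ) ^ d * contrib p (x ^ kexp N hN σ) C e χ χ := by
    intro σ
    obtain ⟨hu, h⟩ := hrel σ
    exact h
  have hz0 : z ≠ 0 := by
    intro h0
    have h2 : ((z : cyclo N) : ℂ) = 0 := by rw [h0]; rfl
    have h3 : (p : ℂ) ^ d * contrib p x C e χ χ = 0 := h2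
    rcases mul_eq_zero.mp h3 with h | h
    · exact pow_ne_zero _ hp0 h
    · rw [norm_contrib_diag hM x hx C hcomm hcent e he χ] at h
      have h4 : (∑ χ'' : IrrCharacter G, ‖contrib p x C e χ χ''‖ ^ 2 : ℝ) = 0 := by
        exact_mod_cast h
      have h5 := (Finset.sum_eq_zero_iff_of_nonneg (fun χ'' _ => by positivity)).mp h4 ψ₀
        (Finset.mem_univ _)
      have h6 : contrib p x C e χ ψ₀ = 0 := by
        have : ‖contrib p x C e χ ψ₀‖ = 0 := pow_eq_zero_iff (two_ne_zero) |>.mp h5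
        exact norm_eq_zero.mp this
      exact contrib_ne_zero_major hM x hx C hxC hcomm hcent hind hdef χ ψ₀ hχ hψ₀B hψ₀min h6
  have hzint : IsIntegral ℤ z := by
    have h2 : IsIntegral ℤ ((algebraMap (cyclo N) ℂ) z) :=
      isIntegral_pow_mul_contrib hM x C hxC hcomm e he χ χ
    exact (isIntegral_algebraMap_iff (algebraMap (cyclo N) ℂ).injective).mp h2
  -- the norm
  have hnorm_int : IsIntegral ℤ (Algebra.norm ℚ z) := Algebra.isIntegral_norm ℚ hzint
  obtain ⟨m, hm⟩ := (IsIntegrallyClosed.isIntegral_iff (R := ℤ) (K := ℚ)).mp hnorm_int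
  have hprod := Algebra.norm_eq_prod_embeddings ℚ ℂ z
  have hm0 : m ≠ 0 := by
    intro h0
    have : Algebra.norm ℚ z = 0 := by rw [← hm, h0]; simp
    exact hz0 (Algebra.norm_eq_zero_iff.mp this)
  have h1 : (m : ℂ) = ∏ σ : cyclo N →ₐ[ℚ] ℂ, σ z := by
    rw [← hprod, ← hm]; simp
  -- the arithmetic of the degree
  set a := (Nat.card G).factorization p with ha
  set mv := minVal p B with hmv
  have hmva : mv ≤ a := by
    rw [← hψ₀v]; exact factorization_irrDeg_le_card p ψ₀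
  have hdB : blockDefect p B = a - mv := blockDefect_eq p B
  set u : ℕ := irrDeg χ / p ^ (mv + h) with hu
  have hu_spec : irrDeg χ = p ^ (mv + h) * u := by
    have h1 : p ^ (mv + h) ∣ irrDeg χ := by
      rw [← hh]; exact Nat.ordProj_dvd (irrDeg χ) p
    rw [hu]; exact (Nat.mul_div_cancel' h1).symm
  have hu0 : u ≠ 0 := by
    intro h0
    have := irrDeg_pos χ
    rw [hu_spec, h0, mul_zero] at this
    exact lt_irrefl _ this
  have hNG : (Nat.card G : ℂ) = (p : ℂ) ^ a * (mm G p : ℂ) := by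
    have := Nat.ordProj_mul_ordCompl_eq_self (Nat.card G) p
    rw [← ha] at this
    have h2 : (Nat.card G : ℂ) = ((p ^ a * mm G p : ℕ) : ℂ) := by
      congr 1; exact this.symm
    rw [h2]; push_cast; ring
  have hχ1 : (χ : G → ℂ) 1 = (p : ℂ) ^ (mv + h) * (u : ℂ) := by
    rw [irrDeg_spec, hu_spec]; push_cast; ring
  have hu0' : (u : ℂ) ≠ 0 := by exact_mod_cast hu0
  have hpa : (p : ℂ) ^ a = (p : ℂ) ^ d * (p : ℂ) ^ mv := by
    rw [hdef, hdB, ← pow_add, Nat.sub_add_cancel hmva]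
  -- the local integrality
  have hloc : ∀ σ : cyclo N →ₐ[ℚ] ℂ, ∃ r : ℂ, MemLocalRing M r ∧
      (mm G p : ℂ) * σ z = (p : ℂ) ^ h * r := by
    intro σ
    obtain ⟨k, hk⟩ : ∃ k, k = kexp N hN σ := ⟨_, rfl⟩
    obtain ⟨hx', hcent'⟩ := pow_hyps x hx C hcent k (hk ▸ kexp_coprime N hN σ)
    have hcomm' := comm_pow hcomm k
    have hxC' : x ^ k ∈ C := C.pow_mem hxC k
    set c := thetaFun p (x ^ k) C e χ with hc
    have hcf : IsClassFunction G c := isClassFunction_thetaFun p (x ^ k) C e χ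
    have hlr : ∀ t, MemLocalRing M (c t) := fun t =>
      memLocalRing_of_isIntegral hMp
        (isIntegral_thetaFun hM (x ^ k) hx' C hxC' hcomm' hcent' e he χ t)
    refine ⟨(u : ℂ) * act c χ, lr_mul hMp (memLocalRing_natCast hMp u) (act_lr hMp hcf hlr χ), ?_⟩
    rw [hσz, ← hk, hc, act_thetaFun, hχ1, hNG, hpa]
    have hpmv : (p : ℂ) ^ mv ≠ 0 := pow_ne_zero _ hp0
    have hph : (p : ℂ) ^ h ≠ 0 := pow_ne_zero _ hp0
    rw [pow_add]
    field_simp
  choose r hr hrz using hloc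
  -- divisibility of the norm
  have hdiv : (p : ℤ) ^ (h * E) ∣ m := by
    apply pow_dvd_of_lr hM (mm G p ^ E)
      (fun hdv => not_dvd_mm (G := G) p (hp.out.dvd_of_dvd_pow hdv)) (h * E) m
      (∏ σ : cyclo N →ₐ[ℚ] ℂ, r σ) (lr_prod hMp _ _ (fun σ _ => hr σ))
    rw [h1]
    have e1 : ((mm G p ^ E : ℕ) : ℂ) * ∏ σ : cyclo N →ₐ[ℚ] ℂ, σ z =
        ∏ σ : cyclo N →ₐ[ℚ] ℂ, ((mm G p : ℂ) * σ z) := by
      rw [Finset.prod_mul_distrib, Finset.prod_const, Finset.card_univ, ← hE]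
      push_cast
      rfl
    rw [e1, Finset.prod_congr rfl (fun σ _ => hrz σ), Finset.prod_mul_distrib, Finset.prod_const,
      Finset.card_univ, ← hE, ← pow_mul]
  -- the product of the absolute values
  have hprodnorm : ((p : ℝ) ^ h) ^ E ≤ ∏ σ : cyclo N →ₐ[ℚ] ℂ, ‖σ z‖ := by
    rw [← norm_prod, ← h1]
    have h3 : ‖(m : ℂ)‖ = |(m : ℝ)| := by
      rw [show (m : ℂ) = ((m : ℝ) : ℂ) by push_cast; rfl, Complex.norm_real]
      rfl
    rw [h3, ← pow_mul]
    have h4 : (p : ℤ) ^ (h * E) ≤ |m| := by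
      apply Int.le_of_dvd (abs_pos.mpr hm0)
      exact (dvd_abs _ _).mpr hdiv
    have h5 : (((p : ℤ) ^ (h * E) : ℤ) : ℝ) ≤ ((|m| : ℤ) : ℝ) := by exact_mod_cast h4
    push_cast at h5
    exact h5
  have key := card_mul_le_sum_of_pow_le_prod (fun σ : cyclo N →ₐ[ℚ] ℂ => ‖σ z‖)
    (fun σ => norm_nonneg _) ((p : ℝ) ^ h) (by positivity) hprodnorm
  rw [← hE] at key
  calc (E : ℝ) * (p : ℝ) ^ h ≤ ∑ σ : cyclo N →ₐ[ℚ] ℂ, ‖σ z‖ := key
    _ = _ := Finset.sum_congr rfl fun σ _ => by rw [hσz]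

end Cfsg.Agent.Helper23.HB
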