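import Mathlib
import Cfsg.Prelude.Def_Blocks
import Cfsg.Prelude.Def_BlockRank
import Cfsg.Agent.Helper23.HeightBoundB

/-!
# Counting major subsections against heights

A family of `n` pairwise non-conjugate major subsections of `B` forces `n p^h ≤ p^d` for every
character of height `h` in `B`.
-/

set_option autoImplicit false
set_option linter.unusedSectionVars false
set_option linter.unusedVariables false
set_option linter.unusedSimpArgs false
set_option linter.unnecessarySimpa false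
set_option linter.style.haveILetI false

namespace Cfsg.Agent.Helper23.HB

open Cfsg Cfsg.Agent.Helper24 Cfsg.Agent.Helper5.CC Cfsg.Agent.Helper5.Loc
open Cfsg.Agent.Helper8.SecCore Cfsg.Agent.Helper23.SubTr Cfsg.Agent.Helper8.HZI
open Cfsg.Agent.Helper8.IndHt Cfsg.Agent.Helper23.CM Cfsg.Agent.Helper23.KCt

theorem rel_unique {N : ℕ} {σ : cyclo N →ₐ[ℚ] ℂ} {u v v' : ℂ} (h : Rel σ u v) (h' : Rel σ u v') :
    v = v' := by
  obtain ⟨hu, h1⟩ := h
  obtain ⟨hu', h2⟩ := h'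
  rw [← h1, ← h2]

variable {G : Type*} [Group G] [Fintype G] {M : Ideal AlgInt}

/-- The centralizer of the cyclic group generated by `x`. -/
abbrev cz (x : G) : Subgroup G :=
  Subgroup.centralizer ((Subgroup.zpowers x : Subgroup G) : Set G)

theorem cz_comm (x : G) : ∀ c : cz x, x * (c : G) = (c : G) * x := by
  intro c
  have := c.2
  rw [Subgroup.mem_centralizer_iff] at this
  exact this x (Subgroup.mem_zpowers x)

theorem cz_cent (x : G) : Subgroup.centralizer ({x} : Set G) ≤ cz x :=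
  le_of_eq (centralizer_singleton_eq x)

theorem mem_cz_self (x : G) : x ∈ cz x := by
  rw [Subgroup.mem_centralizer_iff]
  intro y hy
  obtain ⟨k, rfl⟩ := Subgroup.mem_zpowers_iff.mp hy
  exact ((Commute.refl x).zpow_left k).eq

/-- The diagonal contributions are nonnegative reals. -/
theorem contribC_diag_real [Fintype (IrrCharacter G)] {p : ℕ} [hp : Fact p.Prime]
    (hM : IsPModular p M) (x : G) (hx : ∃ k : ℕ, orderOf x = p ^ k)
    (C : Subgroup G) [Fintype C] [Fintype (IrrCharacter C)]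
    (hcomm : ∀ c : C, x * (c : G) = (c : G) * x)
    (hcent : Subgroup.centralizer ({x} : Set G) ≤ C)
    (e : Set (IrrCharacter C)) (he : IsPBlock M e) (χ : IrrCharacter G) :
    ∃ s : ℝ, 0 ≤ s ∧ contribC p x C e χ χ = (s : ℂ) := by
  classical
  rw [contribC_eq]
  exact ⟨_, Finset.sum_nonneg fun χ'' _ => by positivity,
    norm_contrib_diag hM x hx C hcomm hcent e he χ⟩

/-- The Galois conjugates of the identity `∑ m^{(x, e)}_{χχ} = 1`. -/
theorem sum_sections_contrib_pow [Fintype (IrrCharacter G)] [DecidableEq G] {p : ℕ}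
    [hp : Fact p.Prime] (hM : IsPModular p M) (X : Finset G)
    (hX : ∀ x ∈ X, ∃ k : ℕ, orderOf x = p ^ k)
    (hXrep : ∀ g : G, (∃ k : ℕ, orderOf g = p ^ k) → ∃! x, x ∈ X ∧ IsConj g x)
    [∀ x : G, Fintype (cz x)] [∀ x : G, Fintype (IrrCharacter (cz x))]
    (χ : IrrCharacter G) (hN : 0 < Nat.card G) (σ : cyclo (Nat.card G) →ₐ[ℚ] ℂ) :
    ∑ x ∈ X, ∑ e ∈ blocksFin M (cz x),
      contribC p (x ^ kexp (Nat.card G) hN σ) (cz x) e χ χ = 1 := by
  classical
  have h1 := sum_sections_contrib hM X hX hXrep χ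
  have hrel : Rel σ (∑ x ∈ X, ∑ e ∈ blocksFin M (cz x), contribC p x (cz x) e χ χ)
      (∑ x ∈ X, ∑ e ∈ blocksFin M (cz x),
        contribC p (x ^ kexp (Nat.card G) hN σ) (cz x) e χ χ) := by
    apply Rel.sum
    intro x _
    apply Rel.sum
    intro e _
    rw [contribC_eq, contribC_eq]
    exact rel_contrib p x (cz x) (cz_comm x) e σ _ (kexp_coprime _ hN σ) (kexp_spec _ hN σ) χ χ
  rw [h1] at hrel
  exact (rel_unique hrel (Rel.one σ))

/-- **Counting major subsections against heights.** -/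
theorem card_mul_pow_le [Fintype (IrrCharacter G)] [DecidableEq G] {p : ℕ}
    [hp : Fact p.Prime] (hM : IsPModular p M) (X : Finset G)
    (hX : ∀ x ∈ X, ∃ k : ℕ, orderOf x = p ^ k)
    (hXrep : ∀ g : G, (∃ k : ℕ, orderOf g = p ^ k) → ∃! x, x ∈ X ∧ IsConj g x)
    [∀ x : G, Fintype (cz x)] [∀ x : G, Fintype (IrrCharacter (cz x))]
    (B : Set (IrrCharacter G))
    (I : Finset (Σ x : G, Set (IrrCharacter (cz x))))
    (hI : ∀ ω ∈ I, ω.1 ∈ X ∧ IsInducedBlock M (cz ω.1) ω.2 B ∧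
      blockDefect p ω.2 = blockDefect p B)
    (χ : IrrCharacter G) (hχ : χ ∈ B) (h : ℕ)
    (hh : (irrDeg χ).factorization p = minVal p B + h) :
    I.card * p ^ h ≤ p ^ blockDefect p B := by
  classical
  haveI : Finite G := Finite.of_fintype G
  have hMp := isPrime_of_isPModular hM
  have hN : 0 < Nat.card G := Nat.card_pos
  haveI hfd : FiniteDimensional ℚ (cyclo (Nat.card G)) := finiteDimensional_cyclo _ hN
  set N := Nat.card G with hNdef
  set E := Fintype.card (cyclo N →ₐ[ℚ] ℂ) with hE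
  have hEpos : 0 < E := Fintype.card_pos_iff.mpr ⟨(cyclo N).val⟩
  set d := blockDefect p B with hd
  -- the real contributions
  have hreal : ∀ (σ : cyclo N →ₐ[ℚ] ℂ) (x : G) (hxX : x ∈ X) (e : Set (IrrCharacter (cz x)))
      (he : IsPBlock M e), ∃ s : ℝ, 0 ≤ s ∧
      contribC p (x ^ kexp N hN σ) (cz x) e χ χ = (s : ℂ) := by
    intro σ x hxX e he
    obtain ⟨hx', hcent'⟩ := pow_hyps x (hX x hxX) (cz x) (cz_cent x) _ (kexp_coprime N hN σ)
    exact contribC_diag_real hM _ hx' (cz x) (comm_pow (cz_comm x) _) hcent' e he χ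
  -- the real-valued function on all subsections
  let S : (cyclo N →ₐ[ℚ] ℂ) → (Σ x : G, Set (IrrCharacter (cz x))) → ℝ := fun σ ω =>
    ‖contribC p (ω.1 ^ kexp N hN σ) (cz ω.1) ω.2 χ χ‖
  let Ωall : Finset (Σ x : G, Set (IrrCharacter (cz x))) := X.sigma (fun x => blocksFin M (cz x))
  have hIsub : I ⊆ Ωall := by
    intro ω hω
    obtain ⟨h1, h2, -⟩ := hI ω hω
    exact Finset.mem_sigma.mpr ⟨h1, (mem_blocksFin hMp _).mpr h2.1⟩
  have hsum1 : ∀ σ : cyclo N →ₐ[ℚ] ℂ, ∑ ω ∈ Ωall, S σ ω = 1 := by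
    intro σ
    have h1 := sum_sections_contrib_pow hM X hX hXrep χ hN σ
    have h2 : ∀ ω ∈ Ωall, contribC p (ω.1 ^ kexp N hN σ) (cz ω.1) ω.2 χ χ = ((S σ ω : ℝ) : ℂ) := by
      intro ω hω
      obtain ⟨hx, he⟩ := Finset.mem_sigma.mp hω
      obtain ⟨s, hs0, hs⟩ := hreal σ ω.1 hx ω.2 ((mem_blocksFin hMp _).mp he)
      show _ = ((‖contribC p (ω.1 ^ kexp N hN σ) (cz ω.1) ω.2 χ χ‖ : ℝ) : ℂ)
      rw [hs, Complex.norm_real, Real.norm_eq_abs, abs_of_nonneg hs0]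
    have h3 : ∑ ω ∈ Ωall, contribC p (ω.1 ^ kexp N hN σ) (cz ω.1) ω.2 χ χ = 1 := by
      rw [Finset.sum_sigma]
      exact h1
    rw [Finset.sum_congr rfl h2, ← Complex.ofReal_sum] at h3
    exact_mod_cast h3
  have hsumI : ∀ σ : cyclo N →ₐ[ℚ] ℂ, ∑ ω ∈ I, S σ ω ≤ 1 := by
    intro σ
    rw [← hsum1 σ]
    exact Finset.sum_le_sum_of_subset_of_nonneg hIsub (fun ω _ _ => norm_nonneg _)
  -- the lower bounds
  have hlow : ∀ ω ∈ I, (E : ℝ) * (p : ℝ) ^ h ≤ (p : ℝ) ^ d * ∑ σ : cyclo N →ₐ[ℚ] ℂ, S σ ω := by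
    intro ω hω
    obtain ⟨hxX, hind, hdef⟩ := hI ω hω
    have key := card_mul_pow_height_le hM ω.1 (hX ω.1 hxX) (cz ω.1) (mem_cz_self ω.1)
      (cz_comm ω.1) (cz_cent ω.1) hind hdef χ hχ h hh hN
    rw [← hE] at key
    refine key.trans (le_of_eq ?_)
    rw [Finset.mul_sum]
    refine Finset.sum_congr rfl fun σ _ => ?_
    rw [norm_mul, norm_pow, Complex.norm_natCast, hdef]
    show _ = (p : ℝ) ^ d * ‖contribC p (ω.1 ^ kexp N hN σ) (cz ω.1) ω.2 χ χ‖
    rw [contribC_eq]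
  -- combine
  have h5 : (I.card : ℝ) * ((E : ℝ) * (p : ℝ) ^ h) ≤ (E : ℝ) * (p : ℝ) ^ d := by
    calc (I.card : ℝ) * ((E : ℝ) * (p : ℝ) ^ h) = ∑ ω ∈ I, (E : ℝ) * (p : ℝ) ^ h := by
          simp only [Finset.sum_const, nsmul_eq_mul]
      _ ≤ ∑ ω ∈ I, (p : ℝ) ^ d * ∑ σ : cyclo N →ₐ[ℚ] ℂ, S σ ω :=
          Finset.sum_le_sum hlow
      _ = (p : ℝ) ^ d * ∑ σ : cyclo N →ₐ[ℚ] ℂ, ∑ ω ∈ I, S σ ω := by
          rw [← Finset.mul_sum, Finset.sum_comm]
      _ ≤ (p : ℝ) ^ d * ∑ σ : cyclo N →ₐ[ℚ] ℂ, (1 : ℝ) := by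
          apply mul_le_mul_of_nonneg_left _ (by positivity)
          exact Finset.sum_le_sum fun σ _ => hsumI σ
      _ = (E : ℝ) * (p : ℝ) ^ d := by
          simp only [Finset.sum_const, Finset.card_univ, nsmul_eq_mul, mul_one, ← hE]
          ring
  have hEr : (0 : ℝ) < E := by exact_mod_cast hEpos
  have h6 : (E : ℝ) * ((I.card : ℝ) * (p : ℝ) ^ h) ≤ (E : ℝ) * (p : ℝ) ^ d := by
    calc (E : ℝ) * ((I.card : ℝ) * (p : ℝ) ^ h) = (I.card : ℝ) * ((E : ℝ) * (p : ℝ) ^ h) := by ring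
      _ ≤ _ := h5
  have h7 := le_of_mul_le_mul_left h6 hEr
  exact_mod_cast h7

end Cfsg.Agent.Helper23.HB
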