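import Mathlib
import Cfsg.Prelude.Def_Blocks
import Cfsg.Agent.Helper5.CentralChar
import Cfsg.Agent.Helper5.BlockBasic
import Cfsg.Agent.Helper5.CenterFunctional
import Cfsg.Agent.Helper5.MinMax
import Cfsg.Agent.Helper5.Osima
import Cfsg.Agent.Helper24.Vanish
import Cfsg.Agent.Helper24.CharBasic

set_option autoImplicit false
set_option linter.unusedSectionVars false
set_option linter.unusedVariables false
set_option linter.style.haveILetI false
set_option linter.unnecessarySimpa false

/-!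
# The idempotent of a normal `p'`-subgroup

For a subgroup `K` of the finite group `X`, `kerIdem K = |K|⁻¹ ∑_{k ∈ K} k`.  When `K` is normal it
is a central idempotent acting on `χ` as `1` if `K ≤ ker χ` and as `0` otherwise; when moreover
`p ∤ |K|` this value is constant on `p`-blocks.
-/

namespace Cfsg.Agent.Helper23.PK

open Cfsg Cfsg.Agent.Helper24 Cfsg.Agent.Helper5 Cfsg.Agent.Helper5.Loc Cfsg.Agent.Helper5.CC

variable {X : Type*} [Group X]

/-- The idempotent `|K|⁻¹ ∑_{k ∈ K} k`, as a function on the group. -/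
noncomputable def kerIdem (K : Subgroup X) : X → ℂ :=
  fun x => @ite ℂ (x ∈ K) (Classical.propDecidable _) ((Nat.card K : ℂ)⁻¹) 0

theorem kerIdem_of_mem (K : Subgroup X) {x : X} (h : x ∈ K) :
    kerIdem K x = (Nat.card K : ℂ)⁻¹ := if_pos h

theorem kerIdem_of_not_mem (K : Subgroup X) {x : X} (h : x ∉ K) : kerIdem K x = 0 := if_neg h

theorem isClassFunction_kerIdem (K : Subgroup X) [hN : K.Normal] :
    IsClassFunction X (kerIdem K) := by
  intro g x
  have hiff : x * g * x⁻¹ ∈ K ↔ g ∈ K := by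
    constructor
    · intro h
      have := hN.conj_mem _ h x⁻¹
      simpa [mul_assoc] using this
    · intro h
      exact hN.conj_mem _ h x
  by_cases hg : g ∈ K
  · rw [kerIdem_of_mem K hg, kerIdem_of_mem K (hiff.mpr hg)]
  · rw [kerIdem_of_not_mem K hg, kerIdem_of_not_mem K (fun h => hg (hiff.mp h))]

/-- `K` lies in the kernel of `χ`. -/
def LeKer (K : Subgroup X) (χ : X → ℂ) : Prop := ∀ k ∈ K, χ k = χ 1

variable [Fintype X]

theorem card_ne_zero (K : Subgroup X) : (Nat.card K : ℂ) ≠ 0 := by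
  have : 0 < Nat.card K := Nat.card_pos
  exact_mod_cast this.ne'

open Classical in
theorem sum_kerIdem_mul (K : Subgroup X) (f : X → ℂ) :
    ∑ t : X, kerIdem K t * f t =
      (Nat.card K : ℂ)⁻¹ * ∑ t ∈ Finset.univ.filter (fun t : X => t ∈ K), f t := by
  have h1 : ∀ t : X, kerIdem K t * f t = if t ∈ K then (Nat.card K : ℂ)⁻¹ * f t else 0 := by
    intro t
    by_cases ht : t ∈ K
    · rw [kerIdem_of_mem K ht, if_pos ht]
    · rw [kerIdem_of_not_mem K ht, if_neg ht, zero_mul]
  simp_rw [h1]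
  rw [← Finset.sum_filter, Finset.mul_sum]

open Classical in
theorem card_filter_mem (K : Subgroup X) :
    ((Finset.univ.filter (fun t : X => t ∈ K)).card : ℂ) = (Nat.card K : ℂ) := by
  rw [Nat.card_eq_fintype_card, Fintype.card_subtype]

theorem conv_kerIdem_self (K : Subgroup X) : conv (kerIdem K) (kerIdem K) = kerIdem K := by
  classical
  funext u
  rw [conv, sum_kerIdem_mul K (fun t => kerIdem K (t⁻¹ * u))]
  by_cases hu : u ∈ K
  · have h1 : ∀ t ∈ Finset.univ.filter (fun t : X => t ∈ K),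
        kerIdem K (t⁻¹ * u) = (Nat.card K : ℂ)⁻¹ := fun t ht =>
      kerIdem_of_mem K (K.mul_mem (K.inv_mem (Finset.mem_filter.mp ht).2) hu)
    rw [Finset.sum_congr rfl h1, Finset.sum_const, nsmul_eq_mul, card_filter_mem,
      kerIdem_of_mem K hu]
    have := card_ne_zero K
    field_simp
  · have h1 : ∀ t ∈ Finset.univ.filter (fun t : X => t ∈ K), kerIdem K (t⁻¹ * u) = 0 :=
      fun t ht => kerIdem_of_not_mem K (fun h => hu (by
        have := K.mul_mem (Finset.mem_filter.mp ht).2 h
        rwa [mul_inv_cancel_left] at this))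
    rw [Finset.sum_congr rfl h1, Finset.sum_const_zero, mul_zero, kerIdem_of_not_mem K hu]

theorem act_kerIdem_of_leKer (K : Subgroup X) (χ : IrrCharacter X)
    (h : LeKer K (χ : X → ℂ)) : act (kerIdem K) χ = 1 := by
  classical
  have h1 := irr_one_ne_zero χ
  rw [act, sum_kerIdem_mul]
  have : ∀ t ∈ Finset.univ.filter (fun t : X => t ∈ K), (χ : X → ℂ) t = (χ : X → ℂ) 1 :=
    fun t ht => h t (Finset.mem_filter.mp ht).2
  rw [Finset.sum_congr rfl this, Finset.sum_const, nsmul_eq_mul, card_filter_mem]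
  have := card_ne_zero K
  field_simp

theorem act_kerIdem_of_not_leKer (K : Subgroup X) [hN : K.Normal] (χ : IrrCharacter X)
    (h : ¬ LeKer K (χ : X → ℂ)) : act (kerIdem K) χ = 0 := by
  classical
  obtain ⟨n, ρ, hirr, hχ⟩ := χ.2
  haveI := hirr
  have hker : ∃ k ∈ K, ρ k ≠ LinearMap.id := by
    by_contra hcon
    push Not at hcon
    apply h
    intro k hk
    have h1 := (char_eq_finrank_iff ρ k).mpr (hcon k hk)
    rw [← hχ, h1, Representation.char_one]
  have h0 := sum_char_normal_eq_zero ρ K hker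
  rw [act]
  have h1 : ∑ t : X, kerIdem K t * (χ : X → ℂ) t =
      (Nat.card K : ℂ)⁻¹ * ∑ g : X, (if g ∈ K then (1 : ℂ) else 0) * ρ.character g := by
    rw [Finset.mul_sum]
    refine Finset.sum_congr rfl fun t _ => ?_
    by_cases ht : t ∈ K
    · rw [kerIdem_of_mem K ht, if_pos ht, one_mul, hχ]
    · rw [kerIdem_of_not_mem K ht, if_neg ht, zero_mul, zero_mul, mul_zero]
  rw [h1, h0, mul_zero, zero_div]

theorem leKer_of_act_kerIdem_ne_zero (K : Subgroup X) [hN : K.Normal] (χ : IrrCharacter X)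
    (h : act (kerIdem K) χ ≠ 0) : LeKer K (χ : X → ℂ) := by
  by_contra hcon
  exact h (act_kerIdem_of_not_leKer K χ hcon)

variable {M : Ideal AlgInt}

theorem lr_kerIdem {p : ℕ} (hM : IsPModular p M) (K : Subgroup X) (hK : ¬ p ∣ Nat.card K)
    (t : X) : MemLocalRing M (kerIdem K t) := by
  have hMp := isPrime_of_isPModular hM
  by_cases ht : t ∈ K
  · rw [kerIdem_of_mem K ht]
    exact memLocalRing_inv_natCast hM hK
  · rw [kerIdem_of_not_mem K ht]
    exact memLocalRing_zero hMp

/-- **The kernel of a block contains a normal `p'`-subgroup as soon as the kernel of one of its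
members does.** -/
theorem leKer_of_sameBlock {p : ℕ} (hM : IsPModular p M) (K : Subgroup X) [hN : K.Normal]
    (hK : ¬ p ∣ Nat.card K) {χ ψ : IrrCharacter X}
    (hsb : SameBlock M (χ : X → ℂ) (ψ : X → ℂ)) (h : LeKer K (χ : X → ℂ)) :
    LeKer K (ψ : X → ℂ) := by
  have hMp := isPrime_of_isPModular hM
  apply leKer_of_act_kerIdem_ne_zero K ψ
  intro h0
  have h1 := act_sub_act_memLocalIdeal hMp (isClassFunction_kerIdem K) (lr_kerIdem hM K hK) hsb
  rw [act_kerIdem_of_leKer K χ h, h0, sub_zero] at h1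
  exact not_memLocalIdeal_one hMp h1

theorem leKer_block {p : ℕ} (hM : IsPModular p M) (K : Subgroup X) [hN : K.Normal]
    (hK : ¬ p ∣ Nat.card K) {B : Set (IrrCharacter X)} (hB : IsPBlock M B)
    {χ : IrrCharacter X} (hχ : χ ∈ B) (h : LeKer K (χ : X → ℂ)) :
    ∀ ψ ∈ B, LeKer K (ψ : X → ℂ) := fun ψ hψ =>
  leKer_of_sameBlock hM K hK (sameBlock_of_mem (isPrime_of_isPModular hM) hB hχ hψ) h

/-- The product of a block idempotent with the idempotent of a normal `p'`-subgroup in the
kernel of the block. -/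
theorem conv_blockCoeff_kerIdem_of_leKer (K : Subgroup X) [hN : K.Normal]
    (B : Set (IrrCharacter X)) (h : ∀ ψ ∈ B, LeKer K (ψ : X → ℂ)) :
    conv (blockCoeff B) (kerIdem K) = blockCoeff B := by
  classical
  haveI : Fintype (IrrCharacter X) := Fintype.ofFinite _
  apply eq_of_act_eq (isClassFunction_conv (isClassFunction_blockCoeff B) (isClassFunction_kerIdem K))
    (isClassFunction_blockCoeff B)
  intro χ
  rw [act_conv (isClassFunction_blockCoeff B), act_blockCoeff]
  by_cases hχ : χ ∈ B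
  · rw [if_pos hχ, act_kerIdem_of_leKer K χ (h χ hχ), mul_one]
  · rw [if_neg hχ, zero_mul]

theorem conv_blockCoeff_kerIdem_of_not_leKer (K : Subgroup X) [hN : K.Normal]
    (B : Set (IrrCharacter X)) (h : ∀ ψ ∈ B, ¬ LeKer K (ψ : X → ℂ)) :
    conv (blockCoeff B) (kerIdem K) = 0 := by
  classical
  haveI : Fintype (IrrCharacter X) := Fintype.ofFinite _
  have h0 : IsClassFunction X (0 : X → ℂ) := fun _ _ => rfl
  apply eq_of_act_eq (isClassFunction_conv (isClassFunction_blockCoeff B) (isClassFunction_kerIdem K))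
    h0
  intro χ
  rw [act_conv (isClassFunction_blockCoeff B), act_blockCoeff]
  have hz : act (0 : X → ℂ) χ = 0 := by
    rw [act]
    simp
  rw [hz]
  by_cases hχ : χ ∈ B
  · rw [if_pos hχ, act_kerIdem_of_not_leKer K χ (h χ hχ), mul_zero]
  · rw [if_neg hχ, zero_mul]

/-- Dichotomy for a block. -/
theorem leKer_block_or {p : ℕ} (hM : IsPModular p M) (K : Subgroup X) [hN : K.Normal]
    (hK : ¬ p ∣ Nat.card K) {B : Set (IrrCharacter X)} (hB : IsPBlock M B) :
    (∀ ψ ∈ B, LeKer K (ψ : X → ℂ)) ∨ (∀ ψ ∈ B, ¬ LeKer K (ψ : X → ℂ)) := by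
  by_cases h : ∃ χ ∈ B, LeKer K (χ : X → ℂ)
  · obtain ⟨χ, hχ, hk⟩ := h
    exact Or.inl (leKer_block hM K hK hB hχ hk)
  · push Not at h
    exact Or.inr h

end Cfsg.Agent.Helper23.PK
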