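import Mathlib
import Cfsg.Prelude.Def_Blocks
import Cfsg.Prelude.Def_BrauerPairs
import Cfsg.Agent.Helper23.PiKerA
import Cfsg.Agent.Helper23.MaxPairs

set_option autoImplicit false
set_option linter.unusedSectionVars false
set_option linter.unusedVariables false
set_option linter.style.haveILetI false
set_option linter.unnecessarySimpa false

/-!
# The Brauer map and the idempotent of a `p'`-subgroup

For a `p`-subgroup `R` of `G` normalizing the `p'`-subgroup `K`, the Brauer map at `R` sends
`kerIdem K` to a unit multiple (congruent to `1`) of `kerIdem (C_K(R))`.  Together with the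
multiplicativity of the Brauer map on `R`-invariant functions this transports the condition
"`K` lies in the kernel" up and down along Brauer pairs.
-/

namespace Cfsg.Agent.Helper23.PK

open Cfsg Cfsg.Agent.Helper24 Cfsg.Agent.Helper5 Cfsg.Agent.Helper5.Loc Cfsg.Agent.Helper5.CC
open Cfsg.Agent.Helper23.BP Cfsg.Agent.Helper23.MP

variable {G : Type*} [Group G] {M : Ideal AlgInt}

/-- Invariance of a function under conjugation by the elements of a subgroup. -/
def InvUnder (H : Subgroup G) (β : G → ℂ) : Prop := ∀ x ∈ H, ∀ g, β (x * g * x⁻¹) = β g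

theorem invUnder_of_isClassFunction {β : G → ℂ} (h : IsClassFunction G β) (H : Subgroup G) :
    InvUnder H β := fun x _ g => h g x

theorem invUnder_kerIdem {H K : Subgroup G} (hHK : H ≤ Subgroup.normalizer (K : Set G)) :
    InvUnder H (kerIdem K) := by
  intro x hx g
  have hiff : x * g * x⁻¹ ∈ K ↔ g ∈ K := (Subgroup.mem_normalizer_iff.mp (hHK hx) g).symm
  by_cases hg : g ∈ K
  · rw [kerIdem_of_mem K hg, kerIdem_of_mem K (hiff.mpr hg)]
  · rw [kerIdem_of_not_mem K hg, kerIdem_of_not_mem K (fun h => hg (hiff.mp h))]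

variable [Fintype G]

theorem invUnder_conv {H : Subgroup G} {β κ : G → ℂ} (hβ : InvUnder H β) (hκ : InvUnder H κ) :
    InvUnder H (conv β κ) := by
  intro x hx g
  simp only [conv]
  rw [← Equiv.sum_comp (MulAut.conj x).toEquiv]
  refine Finset.sum_congr rfl fun t _ => ?_
  have h1 : β ((MulAut.conj x).toEquiv t) = β t := by
    simp only [MulEquiv.toEquiv_eq_coe, EquivLike.coe_coe, MulAut.conj_apply]
    exact hβ x hx t
  have h2 : κ (((MulAut.conj x).toEquiv t)⁻¹ * (x * g * x⁻¹)) = κ (t⁻¹ * g) := by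
    simp only [MulEquiv.toEquiv_eq_coe, EquivLike.coe_coe, MulAut.conj_apply]
    have : (x * t * x⁻¹)⁻¹ * (x * g * x⁻¹) = x * (t⁻¹ * g) * x⁻¹ := by group
    rw [this]
    exact hκ x hx _
  rw [h1, h2]

theorem brRes_centralizer (R : Subgroup G) (β : G → ℂ) :
    brRes R (Subgroup.centralizer (R : Set G)) β =
      fun c : Subgroup.centralizer (R : Set G) => β (c : G) := by
  funext c
  rw [brRes, cut_of_mem _ c.2]

theorem isClassFunction_brRes_of_invUnder (R : Subgroup G) {β : G → ℂ}
    (hβ : InvUnder (Subgroup.centralizer (R : Set G)) β) :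
    IsClassFunction (Subgroup.centralizer (R : Set G))
      (brRes R (Subgroup.centralizer (R : Set G)) β) := by
  rw [brRes_centralizer]
  intro g x
  exact hβ (x : G) x.2 (g : G)

/-- **Multiplicativity of the Brauer functional** on invariant functions. -/
theorem brauerOmega_conv {p : ℕ} [Fact p.Prime] (hM : IsPModular p M) (R : Subgroup G)
    (hR : IsPGroup p R) {β κ : G → ℂ} (hβR : InvUnder R β) (hκR : InvUnder R κ)
    (hβC : InvUnder (Subgroup.centralizer (R : Set G)) β)
    (hκC : InvUnder (Subgroup.centralizer (R : Set G)) κ)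
    (hβM : ∀ t, MemLocalRing M (β t)) (hκM : ∀ t, MemLocalRing M (κ t))
    (ξ : IrrCharacter (Subgroup.centralizer (R : Set G))) :
    MemLocalIdeal M (brauerOmega R (conv β κ) (ξ : Subgroup.centralizer (R : Set G) → ℂ) -
      brauerOmega R β (ξ : Subgroup.centralizer (R : Set G) → ℂ) *
        brauerOmega R κ (ξ : Subgroup.centralizer (R : Set G) → ℂ)) := by
  classical
  have hMp := isPrime_of_isPModular hM
  haveI : Fintype (Subgroup.centralizer (R : Set G)) := Fintype.ofFinite _
  rw [brauerOmega_eq_act, brauerOmega_eq_act, brauerOmega_eq_act]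
  have hcβ := isClassFunction_brRes_of_invUnder R hβC
  have hcκ := isClassFunction_brRes_of_invUnder R hκC
  have hcc := isClassFunction_brRes_of_invUnder R (invUnder_conv hβC hκC)
  rw [← act_conv hcβ, ← act_sub]
  apply act_li hMp (isClassFunction_sub hcc (isClassFunction_conv hcβ hcκ))
  intro t
  exact brRes_conv_of_invariant hM R (Subgroup.centralizer (R : Set G)) hR le_rfl hβR hκR hβM hκM t

/-- The subgroup `C_K(R)` inside `C_G(R)`. -/
def cK (R K : Subgroup G) : Subgroup (Subgroup.centralizer (R : Set G)) :=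
  (K ⊓ Subgroup.centralizer (R : Set G)).subgroupOf (Subgroup.centralizer (R : Set G))

theorem mem_cK {R K : Subgroup G} (c : Subgroup.centralizer (R : Set G)) :
    c ∈ cK R K ↔ (c : G) ∈ K := by
  rw [cK, Subgroup.mem_subgroupOf, Subgroup.mem_inf]
  exact ⟨fun h => h.1, fun h => ⟨h, c.2⟩⟩

theorem card_cK (R K : Subgroup G) :
    Nat.card (cK R K) = Nat.card (K ⊓ Subgroup.centralizer (R : Set G) : Subgroup G) :=
  Nat.card_congr (Subgroup.subgroupOfEquivOfLe inf_le_right).toEquiv

theorem cK_normal {R K : Subgroup G}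
    (hCK : Subgroup.centralizer (R : Set G) ≤ Subgroup.normalizer (K : Set G)) :
    (cK R K).Normal := by
  constructor
  intro n hn g
  rw [mem_cK] at hn ⊢
  exact (Subgroup.mem_normalizer_iff.mp (hCK g.2) (n : G)).mp hn

/-- The Brauer functional of `kerIdem K`. -/
theorem brauerOmega_kerIdem (R K : Subgroup G)
    [Fintype (Subgroup.centralizer (R : Set G))]
    (ξ : IrrCharacter (Subgroup.centralizer (R : Set G))) :
    brauerOmega R (kerIdem K) (ξ : Subgroup.centralizer (R : Set G) → ℂ) =
      ((Nat.card (cK R K) : ℂ) / (Nat.card K : ℂ)) * act (kerIdem (cK R K)) ξ := by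
  rw [brauerOmega_eq_act, brRes_centralizer, ← act_smul]
  congr 1
  funext c
  simp only [Pi.smul_apply, smul_eq_mul]
  by_cases hc : c ∈ cK R K
  · rw [kerIdem_of_mem _ hc, kerIdem_of_mem K ((mem_cK c).mp hc)]
    have := card_ne_zero (cK R K)
    field_simp
  · rw [kerIdem_of_not_mem _ hc, kerIdem_of_not_mem K (fun h => hc ((mem_cK c).mpr h)), mul_zero]

/-- `|K| ≡ |C_K(R)|` modulo the local ideal, for a `p`-group `R` normalizing `K`. -/
theorem card_sub_card_cK_li {p : ℕ} [Fact p.Prime] (hM : IsPModular p M) (R K : Subgroup G)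
    (hR : IsPGroup p R) (hRK : R ≤ Subgroup.normalizer (K : Set G)) :
    MemLocalIdeal M ((Nat.card K : ℂ) - (Nat.card (cK R K) : ℂ)) := by
  classical
  have hMp := isPrime_of_isPModular hM
  let _ := conjActAll R
  have hsmul : ∀ (x : R) (t : G), x • t = (x : G) * t * (x : G)⁻¹ := fun _ _ => rfl
  set f : G → ℂ := fun t => if t ∈ K then 1 else 0 with hf
  have hinv : ∀ (x : R) (t : G), f (x • t) = f t := by
    intro x t
    rw [hsmul]
    have hiff : (x : G) * t * (x : G)⁻¹ ∈ K ↔ t ∈ K :=
      (Subgroup.mem_normalizer_iff.mp (hRK x.2) t).symm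
    simp only [hf, hiff]
  have hfM : ∀ t, MemLocalRing M (f t) := by
    intro t
    simp only [hf]
    by_cases ht : t ∈ K
    · rw [if_pos ht]; exact memLocalRing_one hMp
    · rw [if_neg ht]; exact memLocalRing_zero hMp
  have hfix := sum_sub_sum_fixedPoints_memLocalIdeal hM (P := R) hR f hinv hfM
  have hfilter : Finset.univ.filter (fun t : G => t ∈ MulAction.fixedPoints R G) =
      Finset.univ.filter (fun t : G => t ∈ Subgroup.centralizer (R : Set G)) := by
    ext t
    simp only [Finset.mem_filter, Finset.mem_univ, true_and]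
    exact mem_fixedPoints_conjActAll_iff R t
  rw [hfilter] at hfix
  have e1 : ∑ t : G, f t = (Nat.card K : ℂ) := by
    simp only [hf]
    rw [Finset.sum_boole, Nat.card_eq_fintype_card, Fintype.card_subtype]
  have e2 : ∑ t ∈ Finset.univ.filter (fun t : G => t ∈ Subgroup.centralizer (R : Set G)), f t =
      (Nat.card (cK R K) : ℂ) := by
    simp only [hf]
    rw [Finset.sum_boole, card_cK, Nat.card_eq_fintype_card, Fintype.card_subtype]
    congr 2
    ext t
    simp only [Finset.mem_filter, Finset.mem_univ, true_and, Subgroup.mem_inf]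
    exact and_comm
  rw [e1, e2] at hfix
  exact hfix

/-- The Brauer functional of `kerIdem K` is congruent to the scalar of `kerIdem (C_K(R))`. -/
theorem brauerOmega_kerIdem_sub_li {p : ℕ} [Fact p.Prime] (hM : IsPModular p M) (R K : Subgroup G)
    (hR : IsPGroup p R) (hRK : R ≤ Subgroup.normalizer (K : Set G))
    (hCK : Subgroup.centralizer (R : Set G) ≤ Subgroup.normalizer (K : Set G))
    (hK : ¬ p ∣ Nat.card K)
    [Fintype (Subgroup.centralizer (R : Set G))]
    (ξ : IrrCharacter (Subgroup.centralizer (R : Set G))) :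
    MemLocalIdeal M (brauerOmega R (kerIdem K) (ξ : Subgroup.centralizer (R : Set G) → ℂ) -
      act (kerIdem (cK R K)) ξ) := by
  have hMp := isPrime_of_isPModular hM
  haveI := cK_normal hCK
  rw [brauerOmega_kerIdem]
  have hK0 := card_ne_zero K
  have e : ((Nat.card (cK R K) : ℂ) / (Nat.card K : ℂ)) * act (kerIdem (cK R K)) ξ -
      act (kerIdem (cK R K)) ξ =
      -(((Nat.card K : ℂ) - (Nat.card (cK R K) : ℂ)) *
        ((Nat.card K : ℂ)⁻¹ * act (kerIdem (cK R K)) ξ)) := by
    field_simp
    ring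
  rw [e]
  apply li_neg
  apply li_mul_right hMp (card_sub_card_cK_li hM R K hR hRK)
  apply lr_mul hMp (memLocalRing_inv_natCast hM hK)
  by_cases h : LeKer (cK R K) (ξ : Subgroup.centralizer (R : Set G) → ℂ)
  · rw [act_kerIdem_of_leKer _ ξ h]; exact memLocalRing_one hMp
  · rw [act_kerIdem_of_not_leKer _ ξ h]; exact memLocalRing_zero hMp

/-- **Going up**: if `β * kerIdem K = β` and the Brauer functional of `β` at `ξ` is `1`, then
`C_K(R)` lies in the kernel of `ξ`. -/
theorem leKer_cK_of_conv_eq {p : ℕ} [Fact p.Prime] (hM : IsPModular p M) (R K : Subgroup G)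
    (hR : IsPGroup p R) (hRK : R ≤ Subgroup.normalizer (K : Set G))
    (hCK : Subgroup.centralizer (R : Set G) ≤ Subgroup.normalizer (K : Set G))
    (hK : ¬ p ∣ Nat.card K) {β : G → ℂ} (hβR : InvUnder R β)
    (hβC : InvUnder (Subgroup.centralizer (R : Set G)) β) (hβM : ∀ t, MemLocalRing M (β t))
    (ξ : IrrCharacter (Subgroup.centralizer (R : Set G)))
    (hξ : MemLocalIdeal M (brauerOmega R β (ξ : Subgroup.centralizer (R : Set G) → ℂ) - 1))
    (hconv : conv β (kerIdem K) = β) :
    LeKer (cK R K) (ξ : Subgroup.centralizer (R : Set G) → ℂ) := by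
  classical
  have hMp := isPrime_of_isPModular hM
  haveI : Fintype (Subgroup.centralizer (R : Set G)) := Fintype.ofFinite _
  haveI := cK_normal hCK
  by_contra hcon
  have h0 := act_kerIdem_of_not_leKer _ ξ hcon
  have h1 := brauerOmega_conv hM R hR hβR (invUnder_kerIdem hRK) hβC (invUnder_kerIdem hCK) hβM
    (lr_kerIdem hM K hK) ξ
  have h2 := brauerOmega_kerIdem_sub_li hM R K hR hRK hCK hK ξ
  rw [h0, sub_zero] at h2
  rw [hconv] at h1
  have hb : MemLocalRing M (brauerOmega R β (ξ : Subgroup.centralizer (R : Set G) → ℂ)) := by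
    rw [brauerOmega_eq_act]
    exact act_lr hMp (isClassFunction_brRes_of_invUnder R hβC) (lr_brRes hMp hβM) ξ
  have h3 : MemLocalIdeal M (brauerOmega R β (ξ : Subgroup.centralizer (R : Set G) → ℂ)) := by
    have := li_add hMp h1 (li_mul_left hMp hb h2)
    convert this using 1
    ring
  have := li_sub hMp h3 hξ
  rw [sub_sub_cancel] at this
  exact not_memLocalIdeal_one hMp this

/-- **Going down**: if `β * kerIdem K = 0` and the Brauer functional of `β` at `ξ` is `1`, then
`C_K(R)` does not lie in the kernel of `ξ`. -/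
theorem not_leKer_cK_of_conv_eq_zero {p : ℕ} [Fact p.Prime] (hM : IsPModular p M)
    (R K : Subgroup G)
    (hR : IsPGroup p R) (hRK : R ≤ Subgroup.normalizer (K : Set G))
    (hCK : Subgroup.centralizer (R : Set G) ≤ Subgroup.normalizer (K : Set G))
    (hK : ¬ p ∣ Nat.card K) {β : G → ℂ} (hβR : InvUnder R β)
    (hβC : InvUnder (Subgroup.centralizer (R : Set G)) β) (hβM : ∀ t, MemLocalRing M (β t))
    (ξ : IrrCharacter (Subgroup.centralizer (R : Set G)))
    (hξ : MemLocalIdeal M (brauerOmega R β (ξ : Subgroup.centralizer (R : Set G) → ℂ) - 1))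
    (hconv : conv β (kerIdem K) = 0) :
    ¬ LeKer (cK R K) (ξ : Subgroup.centralizer (R : Set G) → ℂ) := by
  classical
  have hMp := isPrime_of_isPModular hM
  haveI : Fintype (Subgroup.centralizer (R : Set G)) := Fintype.ofFinite _
  haveI := cK_normal hCK
  intro hle
  have h0 := act_kerIdem_of_leKer _ ξ hle
  have h1 := brauerOmega_conv hM R hR hβR (invUnder_kerIdem hRK) hβC (invUnder_kerIdem hCK) hβM
    (lr_kerIdem hM K hK) ξ
  have h2 := brauerOmega_kerIdem_sub_li hM R K hR hRK hCK hK ξ
  rw [h0] at h2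
  rw [hconv] at h1
  have hz : brauerOmega R (0 : G → ℂ) (ξ : Subgroup.centralizer (R : Set G) → ℂ) = 0 := by
    rw [brauerOmega]
    simp
  rw [hz, zero_sub] at h1
  have hb : MemLocalRing M (brauerOmega R β (ξ : Subgroup.centralizer (R : Set G) → ℂ)) := by
    rw [brauerOmega_eq_act]
    exact act_lr hMp (isClassFunction_brRes_of_invUnder R hβC) (lr_brRes hMp hβM) ξ
  -- `b * k ∈ LI`, `k ≡ 1`, `b ≡ 1`
  have h3 : MemLocalIdeal M (brauerOmega R β (ξ : Subgroup.centralizer (R : Set G) → ℂ)) := by
    have h1' := li_neg h1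
    rw [neg_neg] at h1'
    have := li_sub hMp h1' (li_mul_left hMp hb h2)
    convert this using 1
    ring
  have := li_sub hMp h3 hξ
  rw [sub_sub_cancel] at this
  exact not_memLocalIdeal_one hMp this

end Cfsg.Agent.Helper23.PK
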