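import Mathlib
import Cfsg.Prelude.Def_Blocks
import Cfsg.Prelude.Def_BrauerPairs
import Cfsg.Prelude.Def_OddOrderLocal
import Cfsg.Agent.Helper23.PiKerB
import Cfsg.Agent.Helper19.Cores

set_option autoImplicit false
set_option linter.unusedSectionVars false
set_option linter.unusedVariables false
set_option linter.style.haveILetI false
set_option linter.unnecessarySimpa false

/-!
# `O_{π'}` of centralizers and kernels of Brauer pairs

The condition "`O_{π'}(C_G(Q))` lies in the kernel of `f`" moves down along inclusions of Brauer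
pairs, and moves up when moreover `O_{π'}(C_G(Q))` is a Hall subgroup of `C_G(Q)`.
-/

namespace Cfsg.Agent.Helper23.PK

open Cfsg Cfsg.Agent.Helper24 Cfsg.Agent.Helper5 Cfsg.Agent.Helper5.Loc Cfsg.Agent.Helper5.CC
open Cfsg.Agent.Helper23.BP Cfsg.Agent.Helper23.MP Cfsg.Agent.Helper23.SB Cfsg.Agent.Helper23.SP
open Cfsg.Agent.Helper23.TM Cfsg.Agent.Helper19

variable {G : Type*} [Group G]

/-! ### `O_π` of a subgroup -/

/-- `O_π(X)` as a subgroup of `G`. -/
noncomputable def coreOf (π : Set ℕ) (X : Subgroup G) : Subgroup G :=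
  (Cfsg.piCore π X).map X.subtype

theorem mem_coreOf {π : Set ℕ} {X : Subgroup G} {g : G} :
    g ∈ coreOf π X ↔ ∃ hg : g ∈ X, (⟨g, hg⟩ : X) ∈ Cfsg.piCore π X := by
  constructor
  · rintro ⟨x, hx, rfl⟩
    exact ⟨x.2, hx⟩
  · rintro ⟨hg, h⟩
    exact ⟨⟨g, hg⟩, h, rfl⟩

theorem coe_mem_coreOf {π : Set ℕ} {X : Subgroup G} (x : X) :
    (x : G) ∈ coreOf π X ↔ x ∈ Cfsg.piCore π X := by
  rw [mem_coreOf]
  exact ⟨fun ⟨_, h⟩ => h, fun h => ⟨x.2, h⟩⟩

theorem coreOf_le (π : Set ℕ) (X : Subgroup G) : coreOf π X ≤ X := Subgroup.map_subtype_le _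

theorem card_coreOf (π : Set ℕ) (X : Subgroup G) :
    Nat.card (coreOf π X) = Nat.card (Cfsg.piCore π X) :=
  (Nat.card_congr ((Cfsg.piCore π X).equivMapOfInjective X.subtype
    X.subtype_injective).toEquiv).symm

theorem isPiNum_coreOf [Finite G] (π : Set ℕ) (X : Subgroup G) :
    IsPiNum π (Nat.card (coreOf π X)) := by
  rw [card_coreOf]
  exact piCore_isPiNum π

theorem not_dvd_card_coreOf [Finite G] {π : Set ℕ} {p : ℕ} (hp : p.Prime) (hpπ : p ∈ π)
    (X : Subgroup G) : ¬ p ∣ Nat.card (coreOf {q | q ∉ π} X) := by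
  intro h
  exact isPiNum_coreOf {q | q ∉ π} X p hp h hpπ

/-- `N_G(X)` normalizes `O_π(X)`. -/
theorem normalizer_le_normalizer_coreOf (π : Set ℕ) (X : Subgroup G) :
    Subgroup.normalizer (X : Set G) ≤ Subgroup.normalizer ((coreOf π X : Subgroup G) : Set G) := by
  intro g hg
  have hchar := piCore_characteristic (G := X) π
  have key : ∀ (u : G) (hu : u ∈ Subgroup.normalizer (X : Set G)) (h : G),
      h ∈ coreOf π X → u⁻¹ * h * u ∈ coreOf π X := by
    intro u hu h hh
    obtain ⟨hx, hc⟩ := mem_coreOf.mp hh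
    have h1 := Subgroup.characteristic_iff_comap_eq.mp hchar (conjEquiv X u hu).symm
    have h2 : conjEquiv X u hu ⟨h, hx⟩ ∈ Cfsg.piCore π X := by
      rw [← h1, Subgroup.mem_comap]
      show (conjEquiv X u hu).symm (conjEquiv X u hu ⟨h, hx⟩) ∈ _
      rw [MulEquiv.symm_apply_apply]
      exact hc
    have := (coe_mem_coreOf (conjEquiv X u hu ⟨h, hx⟩)).mpr h2
    rwa [conjEquiv_apply] at this
  rw [Subgroup.mem_normalizer_iff]
  intro h
  constructor
  · intro hh
    have := key g⁻¹ (Subgroup.inv_mem _ hg) h hh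
    rwa [inv_inv] at this
  · intro hh
    have := key g hg _ hh
    have e : g⁻¹ * (g * h * g⁻¹) * g = h := by group
    rwa [e] at this

/-- A subgroup of `X` normalized by `X` with `π`-order lies in `O_π(X)`. -/
theorem le_coreOf_of_normal {π : Set ℕ} {X Y : Subgroup G} (hYX : Y ≤ X)
    (hXY : X ≤ Subgroup.normalizer (Y : Set G)) (hY : IsPiNum π (Nat.card Y)) :
    Y ≤ coreOf π X := by
  have hnormal : (Y.subgroupOf X).Normal := by
    refine ⟨fun y hy g => ?_⟩
    rw [Subgroup.mem_subgroupOf] at hy ⊢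
    have := (Subgroup.mem_normalizer_iff.mp (hXY g.2) (y : G)).mp hy
    simpa using this
  have hle : Y.subgroupOf X ≤ Cfsg.piCore π X := by
    apply le_piCore hnormal
    rw [Nat.card_congr (Subgroup.subgroupOfEquivOfLe hYX).toEquiv]
    exact hY
  intro x hx
  exact mem_coreOf.mpr ⟨hYX hx, hle (Subgroup.mem_subgroupOf.mpr hx)⟩

/-- Elements of `O_π(X)` are `π`-elements. -/
theorem orderOf_of_mem_coreOf [Finite G] {π : Set ℕ} {X : Subgroup G} {g : G}
    (hg : g ∈ coreOf π X) : ∀ q : ℕ, q.Prime → q ∣ orderOf g → q ∈ π := by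
  intro q hq hqg
  apply isPiNum_coreOf π X q hq
  have h1 : orderOf g = orderOf (⟨g, hg⟩ : coreOf π X) := (Subgroup.orderOf_mk g hg).symm
  rw [h1] at hqg
  exact hqg.trans (orderOf_dvd_natCard _)

/-! ### The kernel condition on Brauer pairs -/

/-- `O_{π'}(C_G(Q))` lies in the kernel of every member of `f`. -/
def PKer (π : Set ℕ) (Q : Subgroup G)
    (f : Set (IrrCharacter (Subgroup.centralizer (Q : Set G)))) : Prop :=
  ∀ x : Subgroup.centralizer (Q : Set G),
    x ∈ Cfsg.piCore {q | q ∉ π} (Subgroup.centralizer (Q : Set G)) →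
      ∀ ξ ∈ f, (ξ : Subgroup.centralizer (Q : Set G) → ℂ) x =
        (ξ : Subgroup.centralizer (Q : Set G) → ℂ) 1

/-- `O_{π'}(C_G(Q))` contains every `π'`-element of `C_G(Q)`. -/
def HallCond (π : Set ℕ) (Q : Subgroup G) : Prop :=
  ∀ x : Subgroup.centralizer (Q : Set G), (∀ q : ℕ, q.Prime → q ∣ orderOf x → q ∉ π) →
    x ∈ Cfsg.piCore {q | q ∉ π} (Subgroup.centralizer (Q : Set G))

section Fin

variable [Fintype G] {M : Ideal AlgInt}

/-- `kerIdem` of `O_π(X)` in `G` is the extension by zero of `kerIdem` of `O_π(X)` in `X`. -/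
theorem kerIdem_coreOf (π : Set ℕ) (X : Subgroup G) :
    kerIdem (coreOf π X) = ext0 X (kerIdem (Cfsg.piCore π X)) := by
  funext g
  by_cases hg : g ∈ X
  · rw [ext0_of_mem X _ hg]
    by_cases hc : (⟨g, hg⟩ : X) ∈ Cfsg.piCore π X
    · rw [kerIdem_of_mem _ hc, kerIdem_of_mem _ (mem_coreOf.mpr ⟨hg, hc⟩), card_coreOf]
    · rw [kerIdem_of_not_mem _ hc, kerIdem_of_not_mem]
      intro h
      obtain ⟨_, h'⟩ := mem_coreOf.mp h
      exact hc h'
  · rw [ext0_of_not_mem X _ hg, kerIdem_of_not_mem]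
    intro h
    exact hg (coreOf_le π X h)

/-- The common set-up for a normal subpair. -/
theorem normalSubpair_setup {p : ℕ} [Fact p.Prime] (hM : IsPModular p M) (π : Set ℕ)
    (hpπ : p ∈ π) (Q : Subgroup G) (f : Set (IrrCharacter (Subgroup.centralizer (Q : Set G))))
    (R : Subgroup G) (g : Set (IrrCharacter (Subgroup.centralizer (R : Set G))))
    (h : IsNormalSubpair p M Q f R g) :
    R ≤ Subgroup.normalizer ((coreOf {q | q ∉ π} (Subgroup.centralizer (Q : Set G)) :
      Subgroup G) : Set G) ∧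
    Subgroup.centralizer (R : Set G) ≤ Subgroup.normalizer
      ((coreOf {q | q ∉ π} (Subgroup.centralizer (Q : Set G)) : Subgroup G) : Set G) ∧
    InvUnder R (subgroupBlockCoeff (Subgroup.centralizer (Q : Set G)) f) ∧
    InvUnder (Subgroup.centralizer (R : Set G))
      (subgroupBlockCoeff (Subgroup.centralizer (Q : Set G)) f) ∧
    (∀ t, MemLocalRing M (subgroupBlockCoeff (Subgroup.centralizer (Q : Set G)) f t)) ∧
    ((∀ ψ ∈ f, LeKer (Cfsg.piCore {q | q ∉ π} (Subgroup.centralizer (Q : Set G)))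
        (ψ : Subgroup.centralizer (Q : Set G) → ℂ)) →
      conv (subgroupBlockCoeff (Subgroup.centralizer (Q : Set G)) f)
        (kerIdem (coreOf {q | q ∉ π} (Subgroup.centralizer (Q : Set G)))) =
        subgroupBlockCoeff (Subgroup.centralizer (Q : Set G)) f) ∧
    ((∀ ψ ∈ f, ¬ LeKer (Cfsg.piCore {q | q ∉ π} (Subgroup.centralizer (Q : Set G)))
        (ψ : Subgroup.centralizer (Q : Set G) → ℂ)) →
      conv (subgroupBlockCoeff (Subgroup.centralizer (Q : Set G)) f)
        (kerIdem (coreOf {q | q ∉ π} (Subgroup.centralizer (Q : Set G)))) = 0) ∧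
    cK R (coreOf {q | q ∉ π} (Subgroup.centralizer (Q : Set G))) ≤
      Cfsg.piCore {q | q ∉ π} (Subgroup.centralizer (R : Set G)) := by
  classical
  have hMp := isPrime_of_isPModular hM
  haveI : Fintype (Subgroup.centralizer (Q : Set G)) := Fintype.ofFinite _
  haveI : Fintype (IrrCharacter (Subgroup.centralizer (Q : Set G))) := Fintype.ofFinite _
  obtain ⟨hQf, hRg, hQR, hRN, hstab, hcond⟩ := h
  have hRNC := le_normalizer_centralizer hRN
  have hCRQ : Subgroup.centralizer (R : Set G) ≤ Subgroup.centralizer (Q : Set G) :=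
    Subgroup.centralizer_le hQR
  have h1 : R ≤ Subgroup.normalizer ((coreOf {q | q ∉ π} (Subgroup.centralizer (Q : Set G)) :
      Subgroup G) : Set G) := hRNC.trans (normalizer_le_normalizer_coreOf _ _)
  have h2 : Subgroup.centralizer (R : Set G) ≤ Subgroup.normalizer
      ((coreOf {q | q ∉ π} (Subgroup.centralizer (Q : Set G)) : Subgroup G) : Set G) :=
    (hCRQ.trans Subgroup.le_normalizer).trans (normalizer_le_normalizer_coreOf _ _)
  have hfs := isStableSet_of_stabilizesBlock hRNC hstab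
  have h3 : InvUnder R (subgroupBlockCoeff (Subgroup.centralizer (Q : Set G)) f) := by
    intro x hx t
    rw [subgroupBlockCoeff_eq_ext0]
    exact ext0_conj_of_stable hRNC (blockCoeff f) (blockCoeff_conjEquiv_of_isStableSet hfs) x hx t
  have h4 : InvUnder (Subgroup.centralizer (R : Set G))
      (subgroupBlockCoeff (Subgroup.centralizer (Q : Set G)) f) := by
    intro x hx t
    rw [subgroupBlockCoeff_eq_ext0]
    have hxQ := hCRQ hx
    by_cases ht : t ∈ Subgroup.centralizer (Q : Set G)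
    · have ht' : x * t * x⁻¹ ∈ Subgroup.centralizer (Q : Set G) :=
        Subgroup.mul_mem _ (Subgroup.mul_mem _ hxQ ht) (Subgroup.inv_mem _ hxQ)
      rw [ext0_of_mem _ _ ht', ext0_of_mem _ _ ht]
      exact isClassFunction_blockCoeff f ⟨t, ht⟩ ⟨x, hxQ⟩
    · have ht' : x * t * x⁻¹ ∉ Subgroup.centralizer (Q : Set G) := by
        intro h'
        apply ht
        have := Subgroup.mul_mem _ (Subgroup.mul_mem _ (Subgroup.inv_mem _ hxQ) h') hxQ
        have e : x⁻¹ * (x * t * x⁻¹) * x = t := by group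
        rwa [e] at this
      rw [ext0_of_not_mem _ _ ht', ext0_of_not_mem _ _ ht]
  have h5 : ∀ t, MemLocalRing M (subgroupBlockCoeff (Subgroup.centralizer (Q : Set G)) f t) := by
    intro t
    rw [subgroupBlockCoeff_eq_ext0]
    by_cases ht : t ∈ Subgroup.centralizer (Q : Set G)
    · rw [ext0_of_mem _ _ ht]
      exact osima hMp f hQf.2 _
    · rw [ext0_of_not_mem _ _ ht]
      exact memLocalRing_zero hMp
  have h6 : conv (subgroupBlockCoeff (Subgroup.centralizer (Q : Set G)) f)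
      (kerIdem (coreOf {q | q ∉ π} (Subgroup.centralizer (Q : Set G)))) =
      ext0 (Subgroup.centralizer (Q : Set G)) (conv (blockCoeff f)
        (kerIdem (Cfsg.piCore {q | q ∉ π} (Subgroup.centralizer (Q : Set G))))) := by
    rw [subgroupBlockCoeff_eq_ext0, kerIdem_coreOf, conv_ext0]
  have h6a : (∀ ψ ∈ f, LeKer (Cfsg.piCore {q | q ∉ π} (Subgroup.centralizer (Q : Set G)))
        (ψ : Subgroup.centralizer (Q : Set G) → ℂ)) →
      conv (subgroupBlockCoeff (Subgroup.centralizer (Q : Set G)) f)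
        (kerIdem (coreOf {q | q ∉ π} (Subgroup.centralizer (Q : Set G)))) =
        subgroupBlockCoeff (Subgroup.centralizer (Q : Set G)) f := by
    intro hall
    rw [h6, conv_blockCoeff_kerIdem_of_leKer _ f hall, subgroupBlockCoeff_eq_ext0]
  have h6b : (∀ ψ ∈ f, ¬ LeKer (Cfsg.piCore {q | q ∉ π} (Subgroup.centralizer (Q : Set G)))
        (ψ : Subgroup.centralizer (Q : Set G) → ℂ)) →
      conv (subgroupBlockCoeff (Subgroup.centralizer (Q : Set G)) f)
        (kerIdem (coreOf {q | q ∉ π} (Subgroup.centralizer (Q : Set G)))) = 0 := by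
    intro hnone
    rw [h6, conv_blockCoeff_kerIdem_of_not_leKer _ f hnone]
    funext t
    by_cases ht : t ∈ Subgroup.centralizer (Q : Set G)
    · rw [ext0_of_mem _ _ ht]; rfl
    · rw [ext0_of_not_mem _ _ ht]; rfl
  refine ⟨h1, h2, h3, h4, h5, h6a, h6b, ?_⟩
  -- `C_K(R)` is a normal `π'`-subgroup of `C_G(R)`
  haveI := cK_normal h2
  apply le_piCore inferInstance
  rw [card_cK]
  apply (isPiNum_coreOf {q | q ∉ π} (Subgroup.centralizer (Q : Set G))).of_dvd
  exact Subgroup.card_dvd_of_le inf_le_left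

/-- **Going down a normal inclusion.** -/
theorem pKer_of_normalSubpair {p : ℕ} [hp : Fact p.Prime] (hM : IsPModular p M) (π : Set ℕ)
    (hpπ : p ∈ π) (Q : Subgroup G) (f : Set (IrrCharacter (Subgroup.centralizer (Q : Set G))))
    (R : Subgroup G) (g : Set (IrrCharacter (Subgroup.centralizer (R : Set G))))
    (h : IsNormalSubpair p M Q f R g) (hRg : PKer π R g) : PKer π Q f := by
  classical
  have hMp := isPrime_of_isPModular hM
  haveI : Fintype (Subgroup.centralizer (Q : Set G)) := Fintype.ofFinite _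
  obtain ⟨h1, h2, h3, h4, h5, h6a, h6b, h7⟩ := normalSubpair_setup hM π hpπ Q f R g h
  have hK : ¬ p ∣ Nat.card (coreOf {q | q ∉ π} (Subgroup.centralizer (Q : Set G))) :=
    not_dvd_card_coreOf hp.out hpπ _
  have hK' : ¬ p ∣ Nat.card (Cfsg.piCore {q | q ∉ π} (Subgroup.centralizer (Q : Set G))) := by
    rw [← card_coreOf]; exact hK
  rcases leKer_block_or hM (Cfsg.piCore {q | q ∉ π} (Subgroup.centralizer (Q : Set G))) hK'
    h.1.2 with hall | hnone
  · intro x hx ξ hξ
    exact hall ξ hξ x hx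
  · exfalso
    have hconv' := h6b hnone
    obtain ⟨ξ, hξ⟩ := IsPBlock.nonempty hMp h.2.1.2
    have hno := not_leKer_cK_of_conv_eq_zero hM R _ h.2.1.1 h1 h2 hK h3 h4 h5 ξ
      (h.2.2.2.2.2 ξ hξ) hconv'
    apply hno
    intro c hc
    exact hRg c (h7 hc) ξ hξ

/-- **Going up a normal inclusion**, under the Hall condition. -/
theorem pKer_up_of_normalSubpair {p : ℕ} [hp : Fact p.Prime] (hM : IsPModular p M) (π : Set ℕ)
    (hpπ : p ∈ π) (Q : Subgroup G) (f : Set (IrrCharacter (Subgroup.centralizer (Q : Set G))))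
    (R : Subgroup G) (g : Set (IrrCharacter (Subgroup.centralizer (R : Set G))))
    (h : IsNormalSubpair p M Q f R g) (hQf : PKer π Q f) (hQ : HallCond π Q) :
    PKer π R g ∧ HallCond π R := by
  classical
  have hMp := isPrime_of_isPModular hM
  haveI : Finite G := Finite.of_fintype G
  haveI : Fintype (Subgroup.centralizer (Q : Set G)) := Fintype.ofFinite _
  obtain ⟨h1, h2, h3, h4, h5, h6a, h6b, h7⟩ := normalSubpair_setup hM π hpπ Q f R g h
  have hK : ¬ p ∣ Nat.card (coreOf {q | q ∉ π} (Subgroup.centralizer (Q : Set G))) :=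
    not_dvd_card_coreOf hp.out hpπ _
  have hCRQ : Subgroup.centralizer (R : Set G) ≤ Subgroup.centralizer (Q : Set G) :=
    Subgroup.centralizer_le h.2.2.1
  have hall : ∀ ψ ∈ f, LeKer (Cfsg.piCore {q | q ∉ π} (Subgroup.centralizer (Q : Set G)))
      (ψ : Subgroup.centralizer (Q : Set G) → ℂ) := fun ψ hψ x hx => hQf x hx ψ hψ
  have hconv' := h6a hall
  -- every `π'`-element of `C_G(R)` lies in `C_K(R)`
  have hmem : ∀ x : Subgroup.centralizer (R : Set G),
      (∀ q : ℕ, q.Prime → q ∣ orderOf x → q ∉ π) →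
      x ∈ cK R (coreOf {q | q ∉ π} (Subgroup.centralizer (Q : Set G))) := by
    intro x hx
    rw [mem_cK]
    have hxQ : (x : G) ∈ Subgroup.centralizer (Q : Set G) := hCRQ x.2
    have := hQ ⟨(x : G), hxQ⟩ (by
      intro q hq hqx
      apply hx q hq
      rw [Subgroup.orderOf_mk] at hqx
      rwa [Subgroup.orderOf_coe] at hqx)
    exact mem_coreOf.mpr ⟨hxQ, this⟩
  constructor
  · intro x hx ξ hξ
    have hle := leKer_cK_of_conv_eq hM R _ h.2.1.1 h1 h2 hK h3 h4 h5 ξ (h.2.2.2.2.2 ξ hξ) hconv'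
    apply hle x
    apply hmem
    intro q hq hqx
    have hx' : (x : G) ∈ coreOf {q | q ∉ π} (Subgroup.centralizer (R : Set G)) :=
      (coe_mem_coreOf x).mpr hx
    apply orderOf_of_mem_coreOf hx' q hq
    rwa [Subgroup.orderOf_coe]
  · intro x hx
    exact h7 (hmem x hx)

end Fin

end Cfsg.Agent.Helper23.PK
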