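import Mathlib
import Cfsg.Prelude.Def_Blocks
import Cfsg.Prelude.Def_BrauerPairs
import Cfsg.Prelude.Def_OddOrderLocal
import Cfsg.Agent.Helper23.PiKerC
import Cfsg.Agent.Helper23.PairConj
import Cfsg.Agent.Helper23.BlockTransport

set_option autoImplicit false
set_option linter.unusedSectionVars false
set_option linter.unusedVariables false
set_option linter.style.haveILetI false
set_option linter.unnecessarySimpa false

/-!
# The kernel condition along chains of Brauer pairs

The conditions `PKer` and `HallCond` are invariant under conjugation, `PKer` descends along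
inclusions of Brauer pairs, and `PKer ∧ HallCond` ascends.
-/

namespace Cfsg.Agent.Helper23.PK

open Cfsg Cfsg.Agent.Helper24 Cfsg.Agent.Helper5 Cfsg.Agent.Helper5.Loc Cfsg.Agent.Helper5.CC
open Cfsg.Agent.Helper23.BP Cfsg.Agent.Helper23.MP Cfsg.Agent.Helper23.SB Cfsg.Agent.Helper23.SP
open Cfsg.Agent.Helper23.TM Cfsg.Agent.Helper19 Cfsg.Agent.Helper23.BT Cfsg.Agent.Helper23.PC
open Cfsg.Agent.Helper23.PP

/-! ### Transport of `O_π` along isomorphisms -/

section Transport

variable {X Y : Type*} [Group X] [Group Y]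

theorem map_piCore_le [Finite X] (φ : X ≃* Y) (π : Set ℕ) :
    (Cfsg.piCore π X).map φ.toMonoidHom ≤ Cfsg.piCore π Y := by
  apply le_piCore
  · exact Subgroup.Normal.map inferInstance _ φ.surjective
  · rw [Subgroup.card_map_of_injective φ.injective]
    exact piCore_isPiNum π

theorem mem_piCore_mulEquiv [Finite X] [Finite Y] (φ : X ≃* Y) (π : Set ℕ) (x : X) :
    φ x ∈ Cfsg.piCore π Y ↔ x ∈ Cfsg.piCore π X := by
  constructor
  · intro h
    have := map_piCore_le φ.symm π (Subgroup.mem_map_of_mem _ h)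
    simpa using this
  · intro h
    exact map_piCore_le φ π (Subgroup.mem_map_of_mem _ h)

/-- `O_{π'}(X)` lies in the kernel of every member of `f`. -/
def KerCond (π : Set ℕ) (X : Type*) [Group X] (f : Set (IrrCharacter X)) : Prop :=
  ∀ x : X, x ∈ Cfsg.piCore {q | q ∉ π} X → ∀ ξ ∈ f, (ξ : X → ℂ) x = (ξ : X → ℂ) 1

/-- `O_{π'}(X)` contains every `π'`-element of `X`. -/
def HallC (π : Set ℕ) (X : Type*) [Group X] : Prop :=
  ∀ x : X, (∀ q : ℕ, q.Prime → q ∣ orderOf x → q ∉ π) → x ∈ Cfsg.piCore {q | q ∉ π} X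

theorem kerCond_pullBlock [Finite X] [Finite Y] (φ : X ≃* Y) (π : Set ℕ)
    (f : Set (IrrCharacter Y)) : KerCond π X (pullBlock φ f) ↔ KerCond π Y f := by
  constructor
  · intro h y hy ξ hξ
    have hx : φ.symm y ∈ Cfsg.piCore {q | q ∉ π} X := by
      rw [← mem_piCore_mulEquiv φ, MulEquiv.apply_symm_apply]
      exact hy
    have := h (φ.symm y) hx (pullIrr φ ξ) ((pullIrr_mem_pullBlock_iff φ f ξ).mpr hξ)
    rwa [pullIrr_apply, pullIrr_apply, MulEquiv.apply_symm_apply, map_one] at this
  · intro h x hx ξ hξ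
    rw [mem_pullBlock_iff] at hξ
    have := h (φ x) ((mem_piCore_mulEquiv φ _ x).mpr hx) _ hξ
    rwa [pullIrr_apply, pullIrr_apply, MulEquiv.symm_apply_apply, map_one] at this

theorem hallC_mulEquiv [Finite X] [Finite Y] (φ : X ≃* Y) (π : Set ℕ) (h : HallC π Y) :
    HallC π X := by
  intro x hx
  rw [← mem_piCore_mulEquiv φ]
  apply h
  intro q hq hqx
  apply hx q hq
  rwa [MulEquiv.orderOf_eq] at hqx

end Transport

variable {G : Type*} [Group G]

theorem pKer_iff_kerCond (π : Set ℕ) (Q : Subgroup G)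
    (f : Set (IrrCharacter (Subgroup.centralizer (Q : Set G)))) :
    PKer π Q f ↔ KerCond π (Subgroup.centralizer (Q : Set G)) f := Iff.rfl

theorem hallCond_iff_hallC (π : Set ℕ) (Q : Subgroup G) :
    HallCond π Q ↔ HallC π (Subgroup.centralizer (Q : Set G)) := Iff.rfl

/-! ### Conjugation -/

theorem pKer_conj_iff [Finite G] (π : Set ℕ) (Q : Subgroup G) (x : G)
    (f : Set (IrrCharacter (Subgroup.centralizer (Q : Set G)))) :
    PKer π (Q.map (MulAut.conj x).toMonoidHom) (conjBlock Q x f) ↔ PKer π Q f := by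
  rw [pKer_iff_kerCond, pKer_iff_kerCond, conjBlock_eq_pullBlock]
  exact kerCond_pullBlock _ π f

theorem hallCond_conj [Finite G] (π : Set ℕ) (Q : Subgroup G) (x : G) (h : HallCond π Q) :
    HallCond π (Q.map (MulAut.conj x).toMonoidHom) := by
  rw [hallCond_iff_hallC] at h ⊢
  exact hallC_mulEquiv (centralizerConjEquiv Q x) π h

/-! ### Chains -/

section Chains

variable [Fintype G] {M : Ideal AlgInt}

/-- **Descent along an inclusion of Brauer pairs.** -/
theorem pKer_of_reflTransGen {p : ℕ} [hp : Fact p.Prime] (hM : IsPModular p M) (π : Set ℕ)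
    (hpπ : p ∈ π) {a b : BrauerPairIdx G}
    (h : Relation.ReflTransGen (NormalSubpairRel p M) a b) (hb : PKer π b.1 b.2) :
    PKer π a.1 a.2 := by
  induction h using Relation.ReflTransGen.head_induction_on with
  | refl => exact hb
  | head hac hcb ih => exact pKer_of_normalSubpair hM π hpπ _ _ _ _ hac ih

/-- **Ascent along an inclusion of Brauer pairs**, under the Hall condition. -/
theorem pKer_up_of_reflTransGen {p : ℕ} [hp : Fact p.Prime] (hM : IsPModular p M) (π : Set ℕ)
    (hpπ : p ∈ π) {a b : BrauerPairIdx G}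
    (h : Relation.ReflTransGen (NormalSubpairRel p M) a b) (ha : PKer π a.1 a.2)
    (ha' : HallCond π a.1) : PKer π b.1 b.2 ∧ HallCond π b.1 := by
  induction h with
  | refl => exact ⟨ha, ha'⟩
  | tail hac hcb ih => exact pKer_up_of_normalSubpair hM π hpπ _ _ _ _ hcb ih.1 ih.2

end Chains

/-! ### The kernel of a block and the kernels of its Brauer pairs -/

section KL

variable {X : Type*} [Group X] [Fintype X] {M : Ideal AlgInt}

/-- For a normal `p'`-subgroup `K` and a Brauer pair `(R, g)` of the block `B`: `K` lies in the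
kernel of `B` iff `C_K(R)` lies in the kernel of `g`. -/
theorem leKer_block_iff_cK {p : ℕ} [hp : Fact p.Prime] (hM : IsPModular p M)
    (B : Set (IrrCharacter X)) (K : Subgroup X) [hKn : K.Normal] (hK : ¬ p ∣ Nat.card K)
    (R : Subgroup X) (g : Set (IrrCharacter (Subgroup.centralizer (R : Set X))))
    (hRg : IsBrauerPairOf p M B R g) :
    (∀ χ ∈ B, LeKer K (χ : X → ℂ)) ↔
      ∀ ξ ∈ g, LeKer (cK R K) (ξ : Subgroup.centralizer (R : Set X) → ℂ) := by
  classical
  have hMp := isPrime_of_isPModular hM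
  haveI : Fintype (IrrCharacter X) := Fintype.ofFinite _
  have hB := hRg.2.1
  have hnorm : Subgroup.normalizer (K : Set X) = ⊤ := Subgroup.normalizer_eq_top_iff.mpr hKn
  have hRK : R ≤ Subgroup.normalizer (K : Set X) := by rw [hnorm]; exact le_top
  have hCK : Subgroup.centralizer (R : Set X) ≤ Subgroup.normalizer (K : Set X) := by
    rw [hnorm]; exact le_top
  have hβ := isClassFunction_blockCoeff B
  have hβM : ∀ t, MemLocalRing M (blockCoeff B t) := osima hMp B hB
  constructor
  · intro hall ξ hξ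
    exact leKer_cK_of_conv_eq hM R K hRg.1.1 hRK hCK hK (invUnder_of_isClassFunction hβ _)
      (invUnder_of_isClassFunction hβ _) hβM ξ (hRg.2.2 ξ hξ)
      (conv_blockCoeff_kerIdem_of_leKer K B hall)
  · intro hg
    rcases leKer_block_or hM K hK hB with hall | hnone
    · exact hall
    · exfalso
      obtain ⟨ξ, hξ⟩ := IsPBlock.nonempty hMp hRg.1.2
      exact not_leKer_cK_of_conv_eq_zero hM R K hRg.1.1 hRK hCK hK
        (invUnder_of_isClassFunction hβ _) (invUnder_of_isClassFunction hβ _) hβM ξ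
        (hRg.2.2 ξ hξ) (conv_blockCoeff_kerIdem_of_not_leKer K B hnone) (hg ξ hξ)

end KL

end Cfsg.Agent.Helper23.PK
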