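import Mathlib
import Cfsg.Prelude.Def_Blocks
import Cfsg.Prelude.Def_BrauerPairs
import Cfsg.Prelude.Def_OddOrderLocal
import Cfsg.Agent.Helper23.PiKerD
import Cfsg.Agent.Helper23.InducedDefect

set_option autoImplicit false
set_option linter.unusedSectionVars false
set_option linter.unusedVariables false
set_option linter.style.haveILetI false
set_option linter.unnecessarySimpa false

/-!
# Brauer pairs in subgroups and the kernel condition at the top

* `isBrauerPairOf_up`: a Brauer pair `(Q, β)` of a block `b` of `H ⊇ Q C_G(Q)` is a Brauer pair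
  of the induced block `b^G`.
* `isBrauerPairOf_normalizer`: a Brauer pair `(D, e)` of `B` on a defect group gives a Brauer pair
  of the Brauer correspondent of `B` in `N_G(D)`.
-/

namespace Cfsg.Agent.Helper23.PK

open Cfsg Cfsg.Agent.Helper24 Cfsg.Agent.Helper5 Cfsg.Agent.Helper5.Loc Cfsg.Agent.Helper5.CC
open Cfsg.Agent.Helper14
open Cfsg.Agent.Helper23.BT Cfsg.Agent.Helper23.IC Cfsg.Agent.Helper23.TM
open Cfsg.Agent.Helper23.SB Cfsg.Agent.Helper23.TMH Cfsg.Agent.Helper23.BP
open Cfsg.Agent.Helper23.SP Cfsg.Agent.Helper23.SU Cfsg.Agent.Helper23.PP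
open Cfsg.Agent.Helper23.MP Cfsg.Agent.Helper23.PC Cfsg.Agent.Helper23.BC
open Cfsg.Agent.Helper23.MC Cfsg.Agent.Helper23.RP Cfsg.Agent.Helper23.DP
open Cfsg.Agent.Helper23.MOD Cfsg.Agent.Helper23.IDf Cfsg.Agent.Helper19

variable {G : Type*} [Group G] [Fintype G] {M : Ideal AlgInt} {p : ℕ} [Fact p.Prime]

/-- **A Brauer pair of a block `b` of `H ⊇ Q C_G(Q)` is a Brauer pair of `b^G`.** -/
theorem isBrauerPairOf_up (hM : IsPModular p M) (H : Subgroup G)
    (b : Set (IrrCharacter H)) (B : Set (IrrCharacter G)) (hind : IsInducedBlock M H b B)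
    (Q : Subgroup G) (hQH : Q ≤ H) (hCH : Subgroup.centralizer (Q : Set G) ≤ H)
    (β : Set (IrrCharacter (Subgroup.centralizer ((Q.subgroupOf H : Subgroup H) : Set H))))
    (hpair : IsBrauerPairOf p M b (Q.subgroupOf H) β) :
    IsBrauerPairOf p M B Q (pullBlock (centEquiv Q H hQH hCH).symm β) := by
  classical
  have hMp := isPrime_of_isPModular hM
  have : Fintype H := Fintype.ofFinite _
  have : Fintype (IrrCharacter H) := Fintype.ofFinite _
  have : Fintype (IrrCharacter G) := Fintype.ofFinite _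
  have : Fintype (Subgroup.centralizer (Q : Set G)) := Fintype.ofFinite _
  have : Fintype (IrrCharacter (Subgroup.centralizer (Q : Set G))) := Fintype.ofFinite _
  have : Fintype (Subgroup.centralizer ((Q.subgroupOf H : Subgroup H) : Set H)) :=
    Fintype.ofFinite _
  have hb := hind.1
  have hB := hind.2.1
  have hQ'p : IsPGroup p (Q.subgroupOf H) := hpair.1.1
  have hQp : IsPGroup p Q := hQ'p.of_equiv (Subgroup.subgroupOfEquivOfLe hQH)
  have hβ : IsPBlock M β := hpair.1.2
  refine ⟨⟨hQp, isPBlock_pullBlock _ hβ⟩, hB, ?_⟩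
  intro ξ hξ
  rw [mem_pullBlock_iff, MulEquiv.symm_symm] at hξ
  obtain ⟨ψ₀, hψ₀⟩ := exists_irr_brauer hM (Q.subgroupOf H)
    (Subgroup.centralizer ((Q.subgroupOf H : Subgroup H) : Set H)) hQ'p le_rfl
    (Subgroup.centralizer_le_normalizer _) (pullIrr (centEquiv Q H hQH hCH) ξ)
  have hψ₀b : ψ₀ ∈ b :=
    (isBrauerPairOf_iff hM _ β hpair.1 _ hξ ψ₀ hψ₀ b hb).mp hpair
  obtain ⟨χ, hχ⟩ := IsPBlock.nonempty hMp hB
  have hc := isClassFunction_blockCoeff B
  have hcM : ∀ t, MemLocalRing M (blockCoeff B t) := osima hMp B hB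
  have hcH : IsClassFunction H (fun h : H => blockCoeff B (h : G)) := fun h x => hc (h : G) (x : G)
  have a2 := hψ₀ _ hcH (fun t => hcM _)
  have a3 := act_restrict_sub_act_of_induced hMp _ hind hψ₀b hχ hc hcM
  rw [act_blockCoeff, if_pos hχ] at a3
  have e : act (brRes (Q.subgroupOf H)
      (Subgroup.centralizer ((Q.subgroupOf H : Subgroup H) : Set H))
      (fun h : H => blockCoeff B (h : G))) (pullIrr (centEquiv Q H hQH hCH) ξ) =
      act (brRes Q (Subgroup.centralizer (Q : Set G)) (blockCoeff B)) ξ := by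
    rw [← act_comp_equiv (centEquiv Q H hQH hCH)
      (brRes Q (Subgroup.centralizer (Q : Set G)) (blockCoeff B)) ξ]
    congr 1
    funext x
    rw [brRes, brRes, cut_of_mem _ x.2, cut_of_mem _ (centEquiv Q H hQH hCH x).2]
    rfl
  rw [e] at a2
  rw [brauerOmega_eq_act]
  have := li_add hMp a2 a3
  convert this using 1
  ring

/-- **A Brauer pair of `B` on a defect group `D` is a Brauer pair of the Brauer correspondent of
`B` in `N_G(D)`.** -/
theorem isBrauerPairOf_normalizer (hM : IsPModular p M) (B : Set (IrrCharacter G))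
    (D : Subgroup G) (B₁ : Set (IrrCharacter (Subgroup.normalizer (D : Set G))))
    (hB₁ : IsInducedBlock M (Subgroup.normalizer (D : Set G)) B₁ B)
    (hB₁D : IsDefectGroup p M B₁ (D.subgroupOf (Subgroup.normalizer (D : Set G))))
    (e : Set (IrrCharacter (Subgroup.centralizer (D : Set G))))
    (hDe : IsBrauerPairOf p M B D e) :
    IsBrauerPairOf p M B₁ (D.subgroupOf (Subgroup.normalizer (D : Set G)))
      (pullBlock (centEquiv D (Subgroup.normalizer (D : Set G)) Subgroup.le_normalizer
        (Subgroup.centralizer_le_normalizer _)) e) := by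
  classical
  have hMp := isPrime_of_isPModular hM
  have : Fintype (IrrCharacter G) := Fintype.ofFinite _
  have : Fintype (Subgroup.normalizer (D : Set G)) := Fintype.ofFinite _
  have : Fintype (IrrCharacter (Subgroup.normalizer (D : Set G))) := Fintype.ofFinite _
  have : Fintype (Subgroup.centralizer (D : Set G)) := Fintype.ofFinite _
  have hCN : Subgroup.centralizer (D : Set G) ≤ Subgroup.normalizer (D : Set G) :=
    Subgroup.centralizer_le_normalizer _
  apply isBrauerPairOf_down D _ Subgroup.le_normalizer hCN e hDe.1 B₁ hB₁.1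
    (ext0 (Subgroup.normalizer (D : Set G)) (blockCoeff B₁))
  · intro l
    rw [ext0_of_mem _ _ l.2]
  · intro ξ hξ
    have h1 := hDe.2.2 ξ hξ
    rw [brauerOmega_eq_act] at h1 ⊢
    have e1 : brRes D (Subgroup.centralizer (D : Set G))
        (ext0 (Subgroup.normalizer (D : Set G)) (blockCoeff B₁)) =
        fun c : Subgroup.centralizer (D : Set G) => blockCoeff B₁ ⟨(c : G), hCN c.2⟩ := by
      funext c
      rw [brRes, cut_of_mem _ c.2, ext0_of_mem _ _ (hCN c.2)]
    have e2 : brRes D (Subgroup.centralizer (D : Set G)) (blockCoeff B) =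
        fun c : Subgroup.centralizer (D : Set G) => blockCoeff B (c : G) := by
      funext c
      rw [brRes, cut_of_mem _ c.2]
    rw [e1]
    rw [e2] at h1
    have hδ : IsClassFunction (Subgroup.centralizer (D : Set G))
        ((fun c : Subgroup.centralizer (D : Set G) => blockCoeff B₁ ⟨(c : G), hCN c.2⟩) -
          (fun c : Subgroup.centralizer (D : Set G) => blockCoeff B (c : G))) := by
      intro c x
      simp only [Pi.sub_apply]
      have h2 := isClassFunction_blockCoeff B₁ ⟨(c : G), hCN c.2⟩ ⟨(x : G), hCN x.2⟩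
      have h3 := isClassFunction_blockCoeff B (c : G) (x : G)
      have h4 : blockCoeff B₁ ⟨((x * c * x⁻¹ : Subgroup.centralizer (D : Set G)) : G),
          hCN (x * c * x⁻¹).2⟩ = blockCoeff B₁ ⟨(c : G), hCN c.2⟩ := h2
      have h5 : blockCoeff B ((x * c * x⁻¹ : Subgroup.centralizer (D : Set G)) : G) =
          blockCoeff B (c : G) := h3
      rw [h4, h5]
    have hδM : ∀ c, MemLocalIdeal M
        (((fun c : Subgroup.centralizer (D : Set G) => blockCoeff B₁ ⟨(c : G), hCN c.2⟩) -
          (fun c : Subgroup.centralizer (D : Set G) => blockCoeff B (c : G))) c) := by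
      intro c
      simp only [Pi.sub_apply]
      have := li_neg (blockCoeff_sub_of_induced hM D hDe.1.1 hB₁D hB₁ ⟨(c : G), hCN c.2⟩ c.2)
      rwa [neg_sub] at this
    have h6 := act_li hMp hδ hδM ξ
    rw [act_sub] at h6
    have := li_add hMp h6 h1
    convert this using 1
    ring

/-! ### Cores of nested subgroups -/

omit [Fintype G] in
theorem coreOf_inf_le [Finite G] (π : Set ℕ) {X Z : Subgroup G} (hXZ : X ≤ Z) :
    coreOf π Z ⊓ X ≤ coreOf π X := by
  apply le_coreOf_of_normal inf_le_right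
  · intro x hx
    have h1 : x ∈ Subgroup.normalizer ((coreOf π Z : Subgroup G) : Set G) :=
      normalizer_le_normalizer_coreOf π Z (Subgroup.le_normalizer (hXZ hx))
    rw [Subgroup.mem_normalizer_iff] at h1 ⊢
    intro h
    rw [Subgroup.mem_inf, Subgroup.mem_inf, ← h1 h]
    constructor
    · rintro ⟨a, b⟩
      exact ⟨a, X.mul_mem (X.mul_mem hx b) (X.inv_mem hx)⟩
    · rintro ⟨a, b⟩
      refine ⟨a, ?_⟩
      have := X.mul_mem (X.mul_mem (X.inv_mem hx) b) hx
      have e : x⁻¹ * (x * h * x⁻¹) * x = h := by group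
      rwa [e] at this
  · exact (isPiNum_coreOf π Z).of_dvd (Subgroup.card_dvd_of_le inf_le_left)

omit [Fintype G] in
theorem coreOf_le_coreOf [Finite G] (π : Set ℕ) {X Z : Subgroup G} (hXZ : X ≤ Z)
    (hZX : Z ≤ Subgroup.normalizer (X : Set G)) : coreOf π X ≤ coreOf π Z :=
  le_coreOf_of_normal ((coreOf_le π X).trans hXZ)
    (hZX.trans (normalizer_le_normalizer_coreOf π X)) (isPiNum_coreOf π X)

/-! ### The kernel condition at the top -/

/-- **`O_{π'}(N_G(D))` lies in the kernel of the Brauer correspondent of `B` iff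
`O_{π'}(C_G(D))` lies in the kernel of a Brauer pair of `B` on `D`.** -/
theorem blockKer_normalizer_iff (hM : IsPModular p M) (π : Set ℕ) (hpπ : p ∈ π)
    (B : Set (IrrCharacter G))
    (D : Subgroup G) (B₁ : Set (IrrCharacter (Subgroup.normalizer (D : Set G))))
    (hB₁ : IsInducedBlock M (Subgroup.normalizer (D : Set G)) B₁ B)
    (hB₁D : IsDefectGroup p M B₁ (D.subgroupOf (Subgroup.normalizer (D : Set G))))
    (e : Set (IrrCharacter (Subgroup.centralizer (D : Set G))))
    (hDe : IsBrauerPairOf p M B D e) :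
    (∀ n : Subgroup.normalizer (D : Set G),
      n ∈ Cfsg.piCore {q | q ∉ π} (Subgroup.normalizer (D : Set G)) → n ∈ Cfsg.blockKer B₁) ↔
      PKer π D e := by
  classical
  have hp : Fact p.Prime := inferInstance
  have : Finite G := Finite.of_fintype G
  have : Fintype (Subgroup.normalizer (D : Set G)) := Fintype.ofFinite _
  have hCN : Subgroup.centralizer (D : Set G) ≤ Subgroup.normalizer (D : Set G) :=
    Subgroup.centralizer_le_normalizer _
  have hNC : Subgroup.normalizer (D : Set G) ≤
      Subgroup.normalizer ((Subgroup.centralizer (D : Set G) : Subgroup G) : Set G) :=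
    le_normalizer_centralizer le_rfl
  have hpair := isBrauerPairOf_normalizer hM B D B₁ hB₁ hB₁D e hDe
  have hK : ¬ p ∣ Nat.card (Cfsg.piCore {q | q ∉ π} (Subgroup.normalizer (D : Set G))) :=
    fun h => piCore_isPiNum {q | q ∉ π} p hp.out h hpπ
  have kl := leKer_block_iff_cK hM B₁
    (Cfsg.piCore {q | q ∉ π} (Subgroup.normalizer (D : Set G))) hK
    (D.subgroupOf (Subgroup.normalizer (D : Set G))) _ hpair
  set φ := centEquiv D (Subgroup.normalizer (D : Set G)) Subgroup.le_normalizer hCN with hφ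
  have hmem : ∀ c₁ : Subgroup.centralizer
      ((D.subgroupOf (Subgroup.normalizer (D : Set G)) :
        Subgroup (Subgroup.normalizer (D : Set G))) : Set (Subgroup.normalizer (D : Set G))),
      c₁ ∈ cK (D.subgroupOf (Subgroup.normalizer (D : Set G)))
        (Cfsg.piCore {q | q ∉ π} (Subgroup.normalizer (D : Set G))) ↔
      φ c₁ ∈ Cfsg.piCore {q | q ∉ π} (Subgroup.centralizer (D : Set G)) := by
    intro c₁
    rw [mem_cK, ← coe_mem_coreOf, ← coe_mem_coreOf, hφ, coe_centEquiv]
    have hc : ((c₁ : Subgroup.normalizer (D : Set G)) : G) ∈ Subgroup.centralizer (D : Set G) :=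
      (φ c₁).2
    constructor
    · intro h
      exact coreOf_inf_le _ hCN ⟨h, hc⟩
    · intro h
      exact coreOf_le_coreOf _ hCN hNC h
  constructor
  · intro h x hx ξ hξ
    have h1 : ∀ χ ∈ B₁, LeKer (Cfsg.piCore {q | q ∉ π} (Subgroup.normalizer (D : Set G)))
        (χ : Subgroup.normalizer (D : Set G) → ℂ) := fun χ hχ k hk => h k hk χ hχ
    have h2 := kl.mp h1 (pullIrr φ ξ) ((pullIrr_mem_pullBlock_iff φ e ξ).mpr hξ) (φ.symm x)
      ((hmem _).mpr (by rw [MulEquiv.apply_symm_apply]; exact hx))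
    rwa [pullIrr_apply, pullIrr_apply, MulEquiv.apply_symm_apply, map_one] at h2
  · intro h n hn χ hχ
    have h2 : ∀ ξ₁ ∈ pullBlock φ e,
        LeKer (cK (D.subgroupOf (Subgroup.normalizer (D : Set G)))
          (Cfsg.piCore {q | q ∉ π} (Subgroup.normalizer (D : Set G))))
          (ξ₁ : _ → ℂ) := by
      intro ξ₁ hξ₁ c₁ hc₁
      rw [mem_pullBlock_iff] at hξ₁
      have := h (φ c₁) ((hmem c₁).mp hc₁) _ hξ₁
      rwa [pullIrr_apply, pullIrr_apply, MulEquiv.symm_apply_apply, map_one] at this
    exact kl.mpr h2 χ hχ n hn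

end Cfsg.Agent.Helper23.PK
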