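import Mathlib
import Cfsg.Prelude.Def_Blocks
import Cfsg.Prelude.Def_BrauerPairs
import Cfsg.Prelude.Def_OddOrderLocal
import Cfsg.Agent.Helper23.PiKerE
import Cfsg.Agent.Helper23.MaxConj

set_option autoImplicit false
set_option linter.unusedSectionVars false
set_option linter.unusedVariables false
set_option linter.style.haveILetI false
set_option linter.unnecessarySimpa false

/-!
# `O_{π'}` in the kernel of the Brauer correspondent: descent to local blocks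
-/

namespace Cfsg.Agent.Helper23.PK

open Cfsg Cfsg.Agent.Helper24 Cfsg.Agent.Helper5 Cfsg.Agent.Helper5.Loc Cfsg.Agent.Helper5.CC
open Cfsg.Agent.Helper14
open Cfsg.Agent.Helper23.BT Cfsg.Agent.Helper23.IC Cfsg.Agent.Helper23.TM
open Cfsg.Agent.Helper23.SB Cfsg.Agent.Helper23.TMH Cfsg.Agent.Helper23.BP
open Cfsg.Agent.Helper23.SP Cfsg.Agent.Helper23.SU Cfsg.Agent.Helper23.PP
open Cfsg.Agent.Helper23.MP Cfsg.Agent.Helper23.PC Cfsg.Agent.Helper23.BC
open Cfsg.Agent.Helper23.MC Cfsg.Agent.Helper23.RP Cfsg.Agent.Helper23.DP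
open Cfsg.Agent.Helper23.MOD Cfsg.Agent.Helper23.IDf Cfsg.Agent.Helper19

variable {G : Type*} [Group G] [Fintype G] {M : Ideal AlgInt} {p : ℕ} [Fact p.Prime]

/-- **Descent to local blocks** (the statement of S4734). -/
theorem blockKer_of_local (hM : IsPModular p M) (π : Set ℕ) (hpπ : p ∈ π)
    (B : Set (IrrCharacter G)) (D : Subgroup G) (hBD : IsDefectGroup p M B D)
    (B₁ : Set (IrrCharacter (Subgroup.normalizer (D : Set G))))
    (hB₁ : IsInducedBlock M (Subgroup.normalizer (D : Set G)) B₁ B)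
    (hB₁D : IsDefectGroup p M B₁ (D.subgroupOf (Subgroup.normalizer (D : Set G))))
    (hker : ∀ n : Subgroup.normalizer (D : Set G),
      n ∈ Cfsg.piCore {q | q ∉ π} (Subgroup.normalizer (D : Set G)) → n ∈ Cfsg.blockKer B₁)
    (G₀ : Subgroup G) (B₀ : Set (IrrCharacter G₀)) (hB₀ : IsInducedBlock M G₀ B₀ B)
    (D₀ : Subgroup G₀) (hD₀ : IsDefectGroup p M B₀ D₀)
    (hC : Subgroup.centralizer ((D₀.map G₀.subtype : Subgroup G) : Set G) ≤ G₀) :
    ∀ x : G₀, x ∈ Cfsg.piCore {q | q ∉ π} G₀ → x ∈ Cfsg.blockKer B₀ := by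
  classical
  have hp : Fact p.Prime := inferInstance
  have hMp := isPrime_of_isPModular hM
  have : Finite G := Finite.of_fintype G
  have : Fintype G₀ := Fintype.ofFinite _
  have hB := hB₁.2.1
  obtain ⟨eD, hmaxD⟩ := exists_pair_at_defectGroup hM B hB D hBD
  have hPKD : PKer π D eD :=
    (blockKer_normalizer_iff hM π hpπ B D B₁ hB₁ hB₁D eD hmaxD.1).mp hker
  have hYG₀ : D₀.map G₀.subtype ≤ G₀ := Subgroup.map_subtype_le D₀
  have hD₀' : IsDefectGroup p M B₀ ((D₀.map G₀.subtype).subgroupOf G₀) := by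
    rw [Cfsg.Agent.Helper14.subgroupOf_map_subtype']; exact hD₀
  obtain ⟨β, hmax₀⟩ := exists_pair_at_defectGroup hM B₀ hB₀.1 _ hD₀'
  have hup := isBrauerPairOf_up hM G₀ B₀ B hB₀ (D₀.map G₀.subtype) hYG₀ hC β hmax₀.1
  obtain ⟨x, hx⟩ := exists_conj_subpairLE hM B D (D₀.map G₀.subtype) eD _ hmaxD hup
  have h8 := pKer_of_reflTransGen hM π hpπ
    (a := ⟨(D₀.map G₀.subtype).map (MulAut.conj x).toMonoidHom, conjBlock _ x _⟩)
    (b := ⟨D, eD⟩) hx hPKD
  have hPKY := (pKer_conj_iff π (D₀.map G₀.subtype) x _).mp h8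
  have hK : ¬ p ∣ Nat.card (Cfsg.piCore {q | q ∉ π} G₀) :=
    fun h => piCore_isPiNum {q | q ∉ π} p hp.out h hpπ
  have kl := leKer_block_iff_cK hM B₀ (Cfsg.piCore {q | q ∉ π} G₀) hK _ β hmax₀.1
  have hR : ∀ ξ ∈ β, LeKer (cK ((D₀.map G₀.subtype).subgroupOf G₀)
      (Cfsg.piCore {q | q ∉ π} G₀)) (ξ : _ → ℂ) := by
    intro ξ₀ hξ₀ c hc
    rw [mem_cK, ← coe_mem_coreOf] at hc
    set φ := centEquiv (D₀.map G₀.subtype) G₀ hYG₀ hC with hφ
    have h1 : φ c ∈ Cfsg.piCore {q | q ∉ π}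
        (Subgroup.centralizer ((D₀.map G₀.subtype : Subgroup G) : Set G)) := by
      rw [← coe_mem_coreOf, hφ, coe_centEquiv]
      exact coreOf_inf_le _ hC ⟨hc, (φ c).2⟩
    have h2 := hPKY (φ c) h1 (pullIrr φ.symm ξ₀) ((pullIrr_mem_pullBlock_iff φ.symm β ξ₀).mpr hξ₀)
    rwa [pullIrr_apply, pullIrr_apply, MulEquiv.symm_apply_apply, map_one] at h2
  intro y hy χ hχ
  exact kl.mpr hR χ hχ y hy

end Cfsg.Agent.Helper23.PK
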