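import Mathlib
import Cfsg.Prelude.Def_Blocks
import Cfsg.Prelude.Def_BrauerPairs
import Cfsg.Prelude.Def_OddOrderLocal
import Cfsg.Agent.Helper23.PiKerF
import Cfsg.Agent.Helper5.BlockSupport

set_option autoImplicit false
set_option linter.unusedSectionVars false
set_option linter.unusedVariables false
set_option linter.style.haveILetI false
set_option linter.unnecessarySimpa false

/-!
# A local kernel condition gives `O_{π'}(N_G(D)) ≤ ker B₁`
-/

namespace Cfsg.Agent.Helper23.PK

open Cfsg Cfsg.Agent.Helper24 Cfsg.Agent.Helper5 Cfsg.Agent.Helper5.Loc Cfsg.Agent.Helper5.CC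
open Cfsg.Agent.Helper14
open Cfsg.Agent.Helper23.BT Cfsg.Agent.Helper23.IC Cfsg.Agent.Helper23.TM
open Cfsg.Agent.Helper23.SB Cfsg.Agent.Helper23.TMH Cfsg.Agent.Helper23.BP
open Cfsg.Agent.Helper23.SP Cfsg.Agent.Helper23.SU Cfsg.Agent.Helper23.PP
open Cfsg.Agent.Helper23.MP Cfsg.Agent.Helper23.PC Cfsg.Agent.Helper23.BC
open Cfsg.Agent.Helper23.MC Cfsg.Agent.Helper23.RP Cfsg.Agent.Helper23.DP
open Cfsg.Agent.Helper23.MOD Cfsg.Agent.Helper23.IDf Cfsg.Agent.Helper19

variable {G : Type*} [Group G] [Fintype G] {M : Ideal AlgInt} {p : ℕ} [Fact p.Prime]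

/-- A block `b` of `H ⊇ Q C_G(Q)`, `H ≤ N_G(Q)`, inducing `B` gives a Brauer pair `(Q, f)` of `B`
with `f` the block of a constituent of a member of `b`; a normal `p'`-subgroup of `C_G(Q)`,
normalized by `H`, in the kernel of `b` lies in the kernel of `f`. -/
theorem exists_pair_of_induced (hM : IsPModular p M) (B : Set (IrrCharacter G))
    (Q H : Subgroup G) (hQ : IsPGroup p Q) (hQH : Q ≤ H)
    (hCH : Subgroup.centralizer (Q : Set G) ≤ H) (hHN : H ≤ Subgroup.normalizer (Q : Set G))
    (b : Set (IrrCharacter H)) (hb : IsInducedBlock M H b B)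
    (K : Subgroup (Subgroup.centralizer (Q : Set G))) [hKn : K.Normal]
    (hK : ¬ p ∣ Nat.card K)
    (hHK : H ≤ Subgroup.normalizer ((K.map (Subgroup.centralizer (Q : Set G)).subtype :
      Subgroup G) : Set G))
    (hkerb : ∀ x : Subgroup.centralizer (Q : Set G), x ∈ K → ∀ θ ∈ b,
      (θ : H → ℂ) ⟨(x : G), hCH x.2⟩ = (θ : H → ℂ) 1) :
    ∃ f : Set (IrrCharacter (Subgroup.centralizer (Q : Set G))),
      IsBrauerPairOf p M B Q f ∧
        ∀ ξ ∈ f, LeKer K (ξ : Subgroup.centralizer (Q : Set G) → ℂ) := by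
  classical
  have hMp := isPrime_of_isPModular hM
  have : Fintype H := Fintype.ofFinite _
  have : Fintype (IrrCharacter H) := Fintype.ofFinite _
  have : Fintype (IrrCharacter G) := Fintype.ofFinite _
  have : Fintype (Subgroup.centralizer (Q : Set G)) := Fintype.ofFinite _
  have : Fintype (IrrCharacter (Subgroup.centralizer (Q : Set G))) := Fintype.ofFinite _
  have : Fintype (Subgroup.centralizer ((Q.subgroupOf H : Subgroup H) : Set H)) :=
    Fintype.ofFinite _
  have hB := hb.2.1
  obtain ⟨θ, hθ⟩ := IsPBlock.nonempty hMp hb.1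
  -- a constituent of `θ` on `C_G(Q)`
  obtain ⟨θ', hθ'⟩ := exists_constituent_restrict
    (Subgroup.centralizer ((Q.subgroupOf H : Subgroup H) : Set H)) θ
  set ξ := pullIrr (centEquiv Q H hQH hCH).symm θ' with hξdef
  have hξ : classInner (fun c : Subgroup.centralizer (Q : Set G) => (θ : H → ℂ) ⟨c, hCH c.2⟩)
      (ξ : Subgroup.centralizer (Q : Set G) → ℂ) ≠ 0 := by
    rw [← classInner_centEquiv Q H hQH hCH, hξdef, pullIrr_pullIrr_symm]
    exact hθ'
  -- the Brauer correspondent of `θ`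
  obtain ⟨χ, hχ⟩ := exists_irr_brauer hM Q H hQ hCH hHN θ
  have hindθ := isInducedBlock_of_brauer hM Q H hQ hQH hHN θ χ hχ
  have hbθ : b = blockOf M (θ : H → ℂ) := IsPBlock_eq_blockOf hMp hb.1 hθ
  rw [← hbθ] at hindθ
  have hBχ : B = blockOf M (χ : G → ℂ) := induced_unique hMp H hb hindθ
  have hχB : χ ∈ B := by rw [hBχ]; exact mem_blockOf_self hMp χ
  refine ⟨blockOf M (ξ : Subgroup.centralizer (Q : Set G) → ℂ), ?_, ?_⟩
  · rw [isBrauerPairOf_iff hM Q _ ⟨hQ, isPBlock_blockOf ξ⟩ ξ (mem_blockOf_self hMp ξ) χ _ B hB]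
    · exact hχB
    · intro c hc hcM
      have hcH : IsClassFunction H (fun h : H => c (h : G)) := fun h x => hc (h : G) (x : G)
      have h1 := act_cut_eq_of_constituent Q H hQH hCH hHN θ ξ hξ (fun h : H => c (h : G)) hcH
      have h2 : brRes Q (Subgroup.centralizer (Q : Set G)) c =
          fun c' : Subgroup.centralizer (Q : Set G) => c (c' : G) := by
        funext c'
        rw [brRes, cut_of_mem _ c'.2]
      rw [h2]
      have h3 := hχ c hc hcM
      rw [brRes, h1] at h3
      exact h3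
  · -- the kernel
    have hKp : ∀ ψ ∈ blockOf M (ξ : Subgroup.centralizer (Q : Set G) → ℂ),
        LeKer K (ψ : Subgroup.centralizer (Q : Set G) → ℂ) := by
      apply leKer_block hM K hK (isPBlock_blockOf ξ) (mem_blockOf_self hMp ξ)
      apply leKer_of_act_kerIdem_ne_zero K ξ
      -- the subgroup `K` inside `H`
      set KH : Subgroup H :=
        (K.map (Subgroup.centralizer (Q : Set G)).subtype).subgroupOf H with hKH
      have hmemKH : ∀ h : H, h ∈ KH ↔ ∃ hc : (h : G) ∈ Subgroup.centralizer (Q : Set G),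
          (⟨(h : G), hc⟩ : Subgroup.centralizer (Q : Set G)) ∈ K := by
        intro h
        rw [hKH, Subgroup.mem_subgroupOf]
        constructor
        · rintro ⟨x, hx, hxh⟩
          have : (x : G) = (h : G) := hxh
          refine ⟨this ▸ x.2, ?_⟩
          have e : (⟨(h : G), this ▸ x.2⟩ : Subgroup.centralizer (Q : Set G)) = x :=
            Subtype.ext this.symm
          rw [e]
          exact hx
        · rintro ⟨hc, hk⟩
          exact ⟨⟨(h : G), hc⟩, hk, rfl⟩
      haveI hKHn : KH.Normal := by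
        constructor
        intro n hn g
        rw [hKH, Subgroup.mem_subgroupOf] at hn ⊢
        have := (Subgroup.mem_normalizer_iff.mp (hHK g.2) (n : G)).mp hn
        simpa using this
      have hcard : Nat.card KH = Nat.card K := by
        rw [hKH]
        have hle : K.map (Subgroup.centralizer (Q : Set G)).subtype ≤ H :=
          (Subgroup.map_subtype_le K).trans hCH
        rw [Nat.card_congr (Subgroup.subgroupOfEquivOfLe hle).toEquiv]
        exact (Nat.card_congr (K.equivMapOfInjective _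
          (Subgroup.subtype_injective _)).toEquiv).symm
      have hle : LeKer KH (θ : H → ℂ) := by
        intro k hk
        obtain ⟨hc, hkK⟩ := (hmemKH k).mp hk
        exact hkerb ⟨(k : G), hc⟩ hkK θ hθ
      have h1 := act_cut_eq_of_constituent Q H hQH hCH hHN θ ξ hξ (kerIdem KH)
        (isClassFunction_kerIdem KH)
      have h2 : cut Q H (kerIdem KH) = kerIdem KH := by
        funext h
        by_cases hh : (h : G) ∈ Subgroup.centralizer (Q : Set G)
        · rw [cut_of_mem _ hh]
        · rw [cut_of_not_mem _ hh, kerIdem_of_not_mem]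
          intro hk
          exact hh ((hmemKH h).mp hk).1
      have h3 : (fun c : Subgroup.centralizer (Q : Set G) => kerIdem KH ⟨c, hCH c.2⟩) =
          kerIdem K := by
        funext c
        by_cases hc : c ∈ K
        · rw [kerIdem_of_mem K hc, kerIdem_of_mem KH ((hmemKH _).mpr ⟨c.2, hc⟩), hcard]
        · rw [kerIdem_of_not_mem K hc, kerIdem_of_not_mem]
          intro hk
          exact hc ((hmemKH _).mp hk).2
      rw [h2, h3, act_kerIdem_of_leKer KH θ hle] at h1
      rw [← h1]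
      exact one_ne_zero
    exact hKp

/-- **A local kernel condition gives `O_{π'}(N_G(D)) ≤ ker B₁`** (the statement of S4728). -/
theorem blockKer_of_local_up (hM : IsPModular p M) (π : Set ℕ) (hpπ : p ∈ π)
    (B : Set (IrrCharacter G)) (D : Subgroup G) (hBD : IsDefectGroup p M B D)
    (B₁ : Set (IrrCharacter (Subgroup.normalizer (D : Set G))))
    (hB₁ : IsInducedBlock M (Subgroup.normalizer (D : Set G)) B₁ B)
    (hB₁D : IsDefectGroup p M B₁ (D.subgroupOf (Subgroup.normalizer (D : Set G))))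
    (D₀ : Subgroup G) (hD₀ : IsPGroup p D₀) (H₀ : Subgroup G)
    (hH₀ : H₀ = D₀ ⊔ Subgroup.centralizer (D₀ : Set G)) (b : Set (IrrCharacter H₀))
    (hb : IsInducedBlock M H₀ b B)
    (hcompl : ∀ x : Subgroup.centralizer (D₀ : Set G),
      (∀ q : ℕ, q.Prime → q ∣ orderOf x → q ∉ π) →
        x ∈ Cfsg.piCore {q | q ∉ π} (Subgroup.centralizer (D₀ : Set G)))
    (hkerb : ∀ x : Subgroup.centralizer (D₀ : Set G),
      x ∈ Cfsg.piCore {q | q ∉ π} (Subgroup.centralizer (D₀ : Set G)) →
        ∀ θ ∈ b, ∀ h : H₀, (h : G) = (x : G) → (θ : H₀ → ℂ) h = (θ : H₀ → ℂ) 1) :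
    ∀ n : Subgroup.normalizer (D : Set G),
      n ∈ Cfsg.piCore {q | q ∉ π} (Subgroup.normalizer (D : Set G)) → n ∈ Cfsg.blockKer B₁ := by
  classical
  have hp : Fact p.Prime := inferInstance
  have hMp := isPrime_of_isPModular hM
  have : Finite G := Finite.of_fintype G
  have : Fintype (IrrCharacter G) := Fintype.ofFinite _
  subst hH₀
  have hB := hB₁.2.1
  have hQH : D₀ ≤ D₀ ⊔ Subgroup.centralizer (D₀ : Set G) := le_sup_left
  have hCH : Subgroup.centralizer (D₀ : Set G) ≤ D₀ ⊔ Subgroup.centralizer (D₀ : Set G) :=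
    le_sup_right
  have hHN : D₀ ⊔ Subgroup.centralizer (D₀ : Set G) ≤ Subgroup.normalizer (D₀ : Set G) :=
    sup_le Subgroup.le_normalizer (Subgroup.centralizer_le_normalizer _)
  have hK : ¬ p ∣ Nat.card (Cfsg.piCore {q | q ∉ π} (Subgroup.centralizer (D₀ : Set G))) :=
    fun h => piCore_isPiNum {q | q ∉ π} p hp.out h hpπ
  have hHK : D₀ ⊔ Subgroup.centralizer (D₀ : Set G) ≤ Subgroup.normalizer
      (((Cfsg.piCore {q | q ∉ π} (Subgroup.centralizer (D₀ : Set G))).map
        (Subgroup.centralizer (D₀ : Set G)).subtype : Subgroup G) : Set G) :=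
    (hHN.trans (le_normalizer_centralizer le_rfl)).trans
      (normalizer_le_normalizer_coreOf {q | q ∉ π} (Subgroup.centralizer (D₀ : Set G)))
  obtain ⟨f, hpair, hfK⟩ := exists_pair_of_induced hM B D₀ _ hD₀ hQH hCH hHN b hb
    (Cfsg.piCore {q | q ∉ π} (Subgroup.centralizer (D₀ : Set G))) hK hHK
    (fun x hx θ hθ => hkerb x hx θ hθ ⟨x, hCH x.2⟩ rfl)
  have hPK : PKer π D₀ f := fun x hx ξ hξ => hfK ξ hξ x hx
  obtain ⟨c, hcmax, hle⟩ := exists_maximal_above (M := M) (p := p) B _
    (⟨D₀, f⟩ : BrauerPairIdx G) hpair rfl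
  obtain ⟨hPKc, hHc⟩ := pKer_up_of_reflTransGen hM π hpπ hle hPK hcompl
  have hcD := isDefectGroup_of_isMaximalBrauerPair hM B c.1 c.2 hcmax
  obtain ⟨z, hz⟩ := defectGroup_conj hM B hB c.1 D hcD hBD
  subst hz
  have hpair' := isBrauerPairOf_conj z hcmax.1
  have hPK' := (pKer_conj_iff π c.1 z c.2).mpr hPKc
  exact (blockKer_normalizer_iff hM π hpπ B _ B₁ hB₁ hB₁D _ hpair').mpr hPK'

end Cfsg.Agent.Helper23.PK
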