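import Mathlib
import Cfsg.Prelude.Def_Blocks
import Cfsg.Prelude.Def_BrauerPairs
import Cfsg.Agent.Helper23.PiKerG
import Cfsg.Agent.Helper23.CentricStab
import Cfsg.Agent.S0966

set_option autoImplicit false
set_option linter.unusedSectionVars false
set_option linter.unusedVariables false
set_option linter.style.haveILetI false
set_option linter.unnecessarySimpa false

/-!
# Blocks of `D C_G(D)` and blocks of `C_G(D)`

A block `b` of `H = D C_G(D)` inducing `B` covers blocks `c` of `C_G(D)` such that `(D, c)` is a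
Brauer pair of `B`; an element of `N_G(D)` stabilizing `c` stabilizes `b`.
-/

namespace Cfsg.Agent.Helper23.HB

open Cfsg Cfsg.Agent.Helper24 Cfsg.Agent.Helper5 Cfsg.Agent.Helper5.Loc Cfsg.Agent.Helper5.CC
open Cfsg.Agent.Helper14
open Cfsg.Agent.Helper23.BT Cfsg.Agent.Helper23.IC Cfsg.Agent.Helper23.TM
open Cfsg.Agent.Helper23.SB Cfsg.Agent.Helper23.TMH Cfsg.Agent.Helper23.BP
open Cfsg.Agent.Helper23.SP Cfsg.Agent.Helper23.SU Cfsg.Agent.Helper23.PP
open Cfsg.Agent.Helper23.MP Cfsg.Agent.Helper23.PC Cfsg.Agent.Helper23.BC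
open Cfsg.Agent.Helper23.MC Cfsg.Agent.Helper23.RP Cfsg.Agent.Helper23.DP
open Cfsg.Agent.Helper23.MOD Cfsg.Agent.Helper23.IDf Cfsg.Agent.Helper19

variable {G : Type*} [Group G] [Fintype G] {M : Ideal AlgInt} {p : ℕ} [Fact p.Prime]

/-- A block `b` of `H ⊇ Q C_G(Q)`, `H ≤ N_G(Q)`, inducing `B`: the block of any constituent on
`C_G(Q)` of a member of `b` gives a Brauer pair of `B`. -/
theorem pair_of_cover (hM : IsPModular p M) (B : Set (IrrCharacter G))
    (Q H : Subgroup G) (hQ : IsPGroup p Q) (hQH : Q ≤ H)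
    (hCH : Subgroup.centralizer (Q : Set G) ≤ H) (hHN : H ≤ Subgroup.normalizer (Q : Set G))
    (b : Set (IrrCharacter H)) (hb : IsInducedBlock M H b B)
    (θ : IrrCharacter H) (hθ : θ ∈ b) (ξ : IrrCharacter (Subgroup.centralizer (Q : Set G)))
    [Fintype (Subgroup.centralizer (Q : Set G))]
    (hξ : classInner (fun c : Subgroup.centralizer (Q : Set G) => (θ : H → ℂ) ⟨c, hCH c.2⟩)
      (ξ : Subgroup.centralizer (Q : Set G) → ℂ) ≠ 0) :
    IsBrauerPairOf p M B Q (blockOf M (ξ : Subgroup.centralizer (Q : Set G) → ℂ)) := by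
  classical
  have hMp := isPrime_of_isPModular hM
  have : Fintype H := Fintype.ofFinite _
  have : Fintype (IrrCharacter H) := Fintype.ofFinite _
  have : Fintype (IrrCharacter G) := Fintype.ofFinite _
  have : Fintype (IrrCharacter (Subgroup.centralizer (Q : Set G))) := Fintype.ofFinite _
  have hB := hb.2.1
  -- the Brauer correspondent of `θ`
  obtain ⟨χ, hχ⟩ := exists_irr_brauer hM Q H hQ hCH hHN θ
  have hindθ := isInducedBlock_of_brauer hM Q H hQ hQH hHN θ χ hχ
  have hbθ : b = blockOf M (θ : H → ℂ) := IsPBlock_eq_blockOf hMp hb.1 hθ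
  rw [← hbθ] at hindθ
  have hBχ : B = blockOf M (χ : G → ℂ) := induced_unique hMp H hb hindθ
  have hχB : χ ∈ B := by rw [hBχ]; exact mem_blockOf_self hMp χ
  rw [isBrauerPairOf_iff hM Q _ ⟨hQ, isPBlock_blockOf ξ⟩ ξ (mem_blockOf_self hMp ξ) χ _ B hB]
  · exact hχB
  · intro c hc hcM
    have hcH : IsClassFunction H (fun h : H => c (h : G)) := fun h x => hc (h : G) (x : G)
    have h1 := act_cut_eq_of_constituent Q H hQH hCH hHN θ ξ hξ (fun h : H => c (h : G)) hcH
    have h2 : brRes Q (Subgroup.centralizer (Q : Set G)) c =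
        fun c' : Subgroup.centralizer (Q : Set G) => c (c' : G) := by
      funext c'
      rw [brRes, cut_of_mem _ c'.2]
    rw [h2]
    have h3 := hχ c hc hcM
    rw [brRes, h1] at h3
    exact h3

/-- **An element of `N_G(Q)` stabilizing a block of `C_G(Q)` covered by the block `b` of `H`,
`C_G(Q)` of `p`-power index in `H ≤ N_G(Q)`, stabilizes `b`.** -/
theorem mem_of_stabilizes (hM : IsPModular p M)
    (Q H : Subgroup G) (hCH : Subgroup.centralizer (Q : Set G) ≤ H)
    (hHN : H ≤ Subgroup.normalizer (Q : Set G))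
    (hidx : ∃ k : ℕ, ((Subgroup.centralizer (Q : Set G)).subgroupOf H).index = p ^ k)
    (b : Set (IrrCharacter H)) (hb : IsPBlock M b)
    [Fintype (Subgroup.centralizer (Q : Set G))]
    (θ₀ : IrrCharacter H) (hθ₀ : θ₀ ∈ b) (ξ₀ : IrrCharacter (Subgroup.centralizer (Q : Set G)))
    (hξ₀ : classInner (fun c : Subgroup.centralizer (Q : Set G) => (θ₀ : H → ℂ) ⟨c, hCH c.2⟩)
      (ξ₀ : Subgroup.centralizer (Q : Set G) → ℂ) ≠ 0)
    (g : G) (hgN : g ∈ Subgroup.normalizer (Q : Set G))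
    (hgH : g ∈ Subgroup.normalizer (H : Set G))
    (hst : StabilizesBlock (Subgroup.centralizer (Q : Set G))
      (blockOf M (ξ₀ : Subgroup.centralizer (Q : Set G) → ℂ)) g)
    (θ : IrrCharacter H) (hθ : θ ∈ b) (θ' : IrrCharacter H)
    (hconj : IsConjCharOf H g (θ : H → ℂ) (θ' : H → ℂ)) : θ' ∈ b := by
  classical
  have hMp := isPrime_of_isPModular hM
  haveI : Fintype H := Fintype.ofFinite _
  haveI : Fintype ((Subgroup.centralizer (Q : Set G)).subgroupOf H) := Fintype.ofFinite _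
  haveI hNn : ((Subgroup.centralizer (Q : Set G)).subgroupOf H).Normal :=
    (Subgroup.normal_subgroupOf_iff_le_normalizer hCH).mpr (le_normalizer_centralizer hHN)
  have hgK : g ∈ Subgroup.normalizer ((Subgroup.centralizer (Q : Set G) : Subgroup G) : Set G) :=
    le_normalizer_centralizer (le_refl _) hgN
  have hθ' : θ' = pullIrr (conjEquiv H g hgH) θ := eq_pullIrr_of_isConjCharOf hgH hconj
  have hc : IsPBlock M (blockOf M (ξ₀ : Subgroup.centralizer (Q : Set G) → ℂ)) :=
    isPBlock_blockOf ξ₀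
  have hc' := isPBlock_pullBlock (M := M) (Subgroup.subgroupOfEquivOfLe hCH) hc
  obtain ⟨B₀, -, huniq⟩ := Cfsg.Agent.S0966.result p M hM
    ((Subgroup.centralizer (Q : Set G)).subgroupOf H) hidx _ hc'
  have hfix := pullBlock_eq_of_stabilizesBlock hgK hst
  have h1 : b = B₀ := by
    refine huniq b ⟨hb, θ₀, hθ₀, pullIrr (Subgroup.subgroupOfEquivOfLe hCH) ξ₀,
      (pullIrr_mem_pullBlock_iff _ _ ξ₀).mpr (mem_blockOf_self hMp ξ₀), ?_⟩
    have := classInner_comp_mulEquiv (Subgroup.subgroupOfEquivOfLe hCH)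
      (fun c : Subgroup.centralizer (Q : Set G) => (θ₀ : H → ℂ) ⟨c, hCH c.2⟩)
      (ξ₀ : Subgroup.centralizer (Q : Set G) → ℂ)
    rw [← this] at hξ₀
    exact hξ₀
  have h2 : pullBlock (conjEquiv H g hgH) b = B₀ := by
    refine huniq _ ⟨isPBlock_pullBlock _ hb, pullIrr (conjEquiv H g hgH) θ₀,
      (pullIrr_mem_pullBlock_iff _ b θ₀).mpr hθ₀,
      pullIrr (Subgroup.subgroupOfEquivOfLe hCH)
        (pullIrr (conjEquiv (Subgroup.centralizer (Q : Set G)) g hgK) ξ₀), ?_, ?_⟩
    · rw [pullIrr_mem_pullBlock_iff]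
      have : pullIrr (conjEquiv (Subgroup.centralizer (Q : Set G)) g hgK) ξ₀ ∈
          pullBlock (conjEquiv (Subgroup.centralizer (Q : Set G)) g hgK)
            (blockOf M (ξ₀ : Subgroup.centralizer (Q : Set G) → ℂ)) :=
        (pullIrr_mem_pullBlock_iff _ _ ξ₀).mpr (mem_blockOf_self hMp ξ₀)
      rw [hfix] at this
      exact this
    · have := classInner_comp_mulEquiv ((Subgroup.subgroupOfEquivOfLe hCH).trans
        (conjEquiv (Subgroup.centralizer (Q : Set G)) g hgK))
        (fun c : Subgroup.centralizer (Q : Set G) => (θ₀ : H → ℂ) ⟨c, hCH c.2⟩)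
        (ξ₀ : Subgroup.centralizer (Q : Set G) → ℂ)
      rw [← this] at hξ₀
      exact hξ₀
  rw [hθ', h1, ← h2]
  exact (pullIrr_mem_pullBlock_iff _ b θ).mpr hθ

end Cfsg.Agent.Helper23.HB
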