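import Mathlib
import Cfsg.Prelude.Def_Blocks
import Cfsg.Prelude.Def_BlockRank
import Cfsg.Prelude.Def_BrauerPairs
import Cfsg.Prelude.Def_BlockFusion
import Cfsg.Agent.Helper23.AbelianCount
import Cfsg.Agent.Helper23.Receptive
import Cfsg.Agent.Helper23.KleinLocalB
import Cfsg.Agent.Helper23.HeightBoundC

/-!
# Subsections at central elements of a defect group

For a maximal Brauer pair `(P, e)` of `B` and `u ∈ Z(P)`, the subpair at `⟨u⟩` is a major
subsection; fusion of such subsections is controlled by `N_G(P, e)`.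
-/

set_option autoImplicit false
set_option linter.unusedSectionVars false
set_option linter.unusedVariables false
set_option linter.unusedSimpArgs false
set_option linter.unnecessarySimpa false
set_option linter.style.haveILetI false

namespace Cfsg.Agent.Helper23.HB

open Cfsg Cfsg.Agent.Helper24 Cfsg.Agent.Helper5 Cfsg.Agent.Helper5.CC Cfsg.Agent.Helper5.Loc
open Cfsg.Agent.Helper23.BT Cfsg.Agent.Helper23.KLA Cfsg.Agent.Helper23.KLB
open Cfsg.Agent.Helper23.MC Cfsg.Agent.Helper23.AD Cfsg.Agent.Helper23.SU Cfsg.Agent.Helper23.PC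
open Cfsg.Agent.Helper23.PP Cfsg.Agent.Helper23.MOD Cfsg.Agent.Helper23.AL Cfsg.Agent.Helper23.SP
open Cfsg.Agent.Helper23.LD Cfsg.Agent.Helper23.II Cfsg.Agent.Helper23.NF Cfsg.Agent.Helper23.BFS
open Cfsg.Agent.Helper23.ST Cfsg.Agent.Helper23.KCt Cfsg.Agent.Helper23.BF
open Cfsg.Agent.Helper23.RC Cfsg.Agent.Helper23.BFA Cfsg.Agent.Helper23.ACt
open Cfsg.Agent.Helper23.MP

variable {G : Type*} [Group G] [Fintype G] {M : Ideal AlgInt} {p : ℕ} [hp : Fact p.Prime]

/-- **`P` is a defect group of every block `f` with `(Q, f) ≤ (P, e)` and `Q ≤ Z(P)`.** -/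
theorem isDefectGroup_of_central (hM : IsPModular p M) (B : Set (IrrCharacter G))
    (P : Subgroup G) (e : Set (IrrCharacter (Subgroup.centralizer (P : Set G))))
    (hmax : IsMaximalBrauerPair p M B P e)
    (Q : Subgroup G) (f : Set (IrrCharacter (Subgroup.centralizer (Q : Set G)))) (hQP : Q ≤ P)
    (hPC : P ≤ Subgroup.centralizer (Q : Set G))
    (hf : IsPBlock M f) (hle : SubpairLE p M Q f P e) :
    IsDefectGroup p M f (P.subgroupOf (Subgroup.centralizer (Q : Set G))) := by
  have hPe := hmax.1.1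
  have hcard : ∀ Q₁ : Subgroup G,
      Nat.card ((P ⊓ Subgroup.centralizer (Q₁ : Set G)).subgroupOf
        (Subgroup.centralizer (Q₁ : Set G))) =
      Nat.card ((P ⊓ Subgroup.centralizer (Q₁ : Set G) : Subgroup G)) := by
    intro Q₁
    exact Nat.card_congr (Subgroup.subgroupOfEquivOfLe inf_le_right).toEquiv
  obtain ⟨x, hxle, hxD⟩ := exists_conj_defectGroup hM B P Q e f hmax hQP hle
  obtain ⟨D, hD, hDge⟩ := exists_defectGroup_ge hM P Q e f hPe hQP hle
  have h2 := card_defectGroup_conjBlock hM Q x hf hD hxD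
  have h3 : (P ⊓ Subgroup.centralizer (Q : Set G)).subgroupOf
      (Subgroup.centralizer (Q : Set G)) = D := by
    apply Subgroup.eq_of_le_of_card_ge hDge
    rw [hcard Q, ← h2, hcard _, inf_eq_left.mpr hPC]
    exact Subgroup.card_le_of_le inf_le_left
  rw [inf_eq_left.mpr hPC] at h3
  rw [h3]
  exact hD

/-- The defect of the block of a pair index. -/
noncomputable def idxDefect (p : ℕ) (a : BrauerPairIdx G) : ℕ := blockDefect p a.2

theorem idxDefect_cjPair (p : ℕ) (g : G) (a : BrauerPairIdx G) :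
    idxDefect p (cjPair g a) = idxDefect p a := by
  classical
  obtain ⟨Q, f⟩ := a
  show blockDefect p (conjBlock Q g f) = blockDefect p f
  haveI : Fintype (Subgroup.centralizer
      ((Q.map (MulAut.conj g).toMonoidHom : Subgroup G) : Set G)) := Fintype.ofFinite _
  haveI : Fintype (IrrCharacter (Subgroup.centralizer
      ((Q.map (MulAut.conj g).toMonoidHom : Subgroup G) : Set G))) := Fintype.ofFinite _
  rw [conjBlock_eq_pullBlock, blockDefect_pullBlock]

/-- **Every central element of `P` gives a major subsection.** -/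
theorem exists_marked_central [DecidableEq G] (hM : IsPModular p M) (B : Set (IrrCharacter G))
    (P : Subgroup G) (c : Set (IrrCharacter (Subgroup.centralizer (P : Set G))))
    (hmax : IsMaximalBrauerPair p M B P c) (X : Finset G)
    (hXrep : ∀ g : G, (∃ k : ℕ, orderOf g = p ^ k) → ∃! x, x ∈ X ∧ IsConj g x)
    (u : G) (huP : u ∈ P) (huZ : ∀ y ∈ P, y * u = u * y) :
    ∃ (x : G) (b : Set (IrrCharacter (cz x))) (g : G) (a : BrauerPairIdx G),
      x ∈ X ∧ IsInducedBlock M (cz x) b B ∧ blockDefect p b = blockDefect p B ∧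
      g * u * g⁻¹ = x ∧ a.1 = Subgroup.zpowers u ∧
      Relation.ReflTransGen (NormalSubpairRel p M) a ⟨P, c⟩ ∧
      (⟨Subgroup.zpowers x, b⟩ : BrauerPairIdx G) = cjPair g a := by
  classical
  have hPe := hmax.1.1
  have hB := hmax.1.2.1
  obtain ⟨x, ⟨hxX, hconj⟩, -⟩ := hXrep u (exists_orderOf_of_mem hPe.1 huP)
  obtain ⟨g, hg⟩ := isConj_iff.mp hconj
  have hQP : Subgroup.zpowers u ≤ P := Subgroup.zpowers_le.mpr huP
  obtain ⟨f, hf, hle⟩ := exists_subpair hM _ P c (Subgroup.zpowers u) hPe hQP rfl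
  have hle' : Relation.ReflTransGen (NormalSubpairRel p M)
      (⟨Subgroup.zpowers u, f⟩ : BrauerPairIdx G) ⟨P, c⟩ := hle
  have hfst : (cjPair g (⟨Subgroup.zpowers u, f⟩ : BrauerPairIdx G)).1 = Subgroup.zpowers x := by
    show (Subgroup.zpowers u).map (MulAut.conj g).toMonoidHom = Subgroup.zpowers x
    rw [map_zpowers_conj, hg]
  obtain ⟨b, hb⟩ := exists_snd_eq _ _ hfst
  have hpa : IsBrauerPairOf p M B (Subgroup.zpowers u) f :=
    (isBrauerPairOf_iff_of_subpairLE hM B hB (⟨Subgroup.zpowers u, f⟩ : BrauerPairIdx G) ⟨P, c⟩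
      hle').mp hmax.1
  have hfB : IsPBlock M f := hpa.1.2
  have hPC : P ≤ Subgroup.centralizer ((Subgroup.zpowers u : Subgroup G) : Set G) := by
    intro y hy
    rw [Subgroup.mem_centralizer_iff]
    intro q hq
    obtain ⟨n, rfl⟩ := Subgroup.mem_zpowers_iff.mp hq
    have h1 : Commute y u := huZ y hy
    exact (h1.zpow_right n).eq.symm
  refine ⟨x, b, g, ⟨Subgroup.zpowers u, f⟩, hxX, ?_, ?_, hg, rfl, hle', hb⟩
  · have hpc := isBrauerPairOf_conj g hpa
    have hpb : IsBrauerPairOf p M B (⟨Subgroup.zpowers x, b⟩ : BrauerPairIdx G).1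
        (⟨Subgroup.zpowers x, b⟩ : BrauerPairIdx G).2 := by
      rw [hb]
      exact hpc
    exact isInducedBlock_of_pair_abelian hM (Subgroup.zpowers x) (zpowers_comm x) b B hpb
  · haveI : Fintype (IrrCharacter G) := Fintype.ofFinite _
    haveI : Fintype (IrrCharacter (Subgroup.centralizer
      ((Subgroup.zpowers u : Subgroup G) : Set G))) := Fintype.ofFinite _
    have hD := isDefectGroup_of_central hM B P c hmax (Subgroup.zpowers u) f hQP hPC hfB hle
    have h1 := card_defectGroup hM hfB hD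
    have h2 : Nat.card (P.subgroupOf
        (Subgroup.centralizer ((Subgroup.zpowers u : Subgroup G) : Set G))) = Nat.card P :=
      Nat.card_congr (Subgroup.subgroupOfEquivOfLe hPC).toEquiv
    have h3 := card_defectGroup hM hB (isDefectGroup_of_isMaximalBrauerPair hM B P c hmax)
    have h4 : blockDefect p f = blockDefect p B := by
      apply Nat.pow_right_injective hp.out.two_le
      show p ^ blockDefect p f = p ^ blockDefect p B
      rw [← h1, h2, h3]
    have h5 : idxDefect p (⟨Subgroup.zpowers x, b⟩ : BrauerPairIdx G) =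
        idxDefect p (⟨Subgroup.zpowers u, f⟩ : BrauerPairIdx G) := by
      rw [hb, idxDefect_cjPair]
    exact h5.trans h4

/-- **Fusion of central elements is controlled by the stabilizer of the maximal pair.** -/
theorem exists_stab_conj_of_central (hM : IsPModular p M) (B : Set (IrrCharacter G))
    (P : Subgroup G) (c : Set (IrrCharacter (Subgroup.centralizer (P : Set G))))
    (hmax : IsMaximalBrauerPair p M B P c)
    (u u' : G) (huP : u ∈ P) (hu'P : u' ∈ P)
    (huZ : ∀ y ∈ P, y * u = u * y) (hu'Z : ∀ y ∈ P, y * u' = u' * y)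
    (a a' : BrauerPairIdx G) (ha1 : a.1 = Subgroup.zpowers u) (ha'1 : a'.1 = Subgroup.zpowers u')
    (hale : Relation.ReflTransGen (NormalSubpairRel p M) a ⟨P, c⟩)
    (ha'le : Relation.ReflTransGen (NormalSubpairRel p M) a' ⟨P, c⟩)
    (k : G) (hk : cjPair k a = a') (hku : k * u * k⁻¹ = u') :
    ∃ t : G, t ∈ Subgroup.normalizer (P : Set G) ∧
      StabilizesBlock (Subgroup.centralizer (P : Set G)) c t ∧ t * u * t⁻¹ = u' := by
  classical
  have hPe := hmax.1.1
  obtain ⟨F, hF⟩ := exists_blockFusionSystem hM B P c hmax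
  obtain ⟨Q, f⟩ := a
  simp only at ha1
  subst ha1
  obtain ⟨Q', f'⟩ := a'
  simp only at ha'1
  subst ha'1
  have hfst : (Subgroup.zpowers u).map (MulAut.conj k).toMonoidHom = Subgroup.zpowers u' := by
    rw [map_zpowers_conj, hku]
  have hQP : Subgroup.zpowers u ≤ P := Subgroup.zpowers_le.mpr huP
  have hQ'P : Subgroup.zpowers u' ≤ P := Subgroup.zpowers_le.mpr hu'P
  have hφ : conjHom (Subgroup.zpowers u) k ∈ F.Hom (Subgroup.zpowers u) := by
    rw [hF.2]
    refine ⟨hQP, k, fun q => rfl, hfst ▸ hQ'P, f, hale, ?_⟩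
    have : Relation.ReflTransGen (NormalSubpairRel p M)
        (cjPair k (⟨Subgroup.zpowers u, f⟩ : BrauerPairIdx G)) ⟨P, c⟩ := by
      rw [hk]; exact ha'le
    exact this
  have hf' : IsPBlock M f' :=
    (isBrauerPair_of_reflTransGen (a := ⟨Subgroup.zpowers u', f'⟩) (c := ⟨P, c⟩) ha'le hPe).2
  have hPN' : P ≤ Subgroup.normalizer ((Subgroup.zpowers u' : Subgroup G) : Set G) := by
    intro y hy
    apply Subgroup.centralizer_le_normalizer
    rw [Subgroup.mem_centralizer_iff]
    intro q hq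
    obtain ⟨n, rfl⟩ := Subgroup.mem_zpowers_iff.mp hq
    have h1 : Commute y u' := hu'Z y hy
    exact (h1.zpow_right n).eq.symm
  have hfn : F.IsFullyNormalized (Subgroup.zpowers u') := by
    refine ⟨hQ'P, fun R _ => ?_⟩
    unfold FusionSystem.normalizerIn
    rw [inf_eq_left.mpr hPN']
    exact Subgroup.card_le_of_le inf_le_left
  have hrec := isReceptive_of_isFullyNormalized hM B P c hmax F hF (Subgroup.zpowers u') f' hQ'P
    hf' ha'le hfn
  have hrange : (conjHom (Subgroup.zpowers u) k).range = Subgroup.zpowers u' := by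
    rw [range_eq_map_conj (g := k) (fun q => rfl), hfst]
  obtain ⟨ψ, hψ, hext⟩ := hrec.2 (Subgroup.zpowers u) (conjHom (Subgroup.zpowers u) k) hφ hrange
  have hcomm : ∀ y ∈ P, ∀ q ∈ Subgroup.zpowers u, y * q * y⁻¹ = q := by
    intro y hy q hq
    obtain ⟨n, rfl⟩ := Subgroup.mem_zpowers_iff.mp hq
    have h1 : Commute y u := huZ y hy
    rw [(h1.zpow_right n).eq, mul_assoc, mul_inv_cancel, mul_one]
  have hN : FusionSystem.extender P (Subgroup.zpowers u) (conjHom (Subgroup.zpowers u) k) = P := by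
    apply le_antisymm
    · exact (Subgroup.closure_le _).mpr (fun g hg => hg.1)
    · intro y hy
      apply Subgroup.subset_closure
      refine ⟨hy, ?_, 1, P.one_mem, ?_⟩
      · apply Subgroup.centralizer_le_normalizer
        rw [Subgroup.mem_centralizer_iff]
        intro q hq
        have := hcomm y hy q hq
        calc q * y = (y * q * y⁻¹) * y := by rw [this]
          _ = y * q := by group
      · intro x hx
        have e1 : (⟨y * (x : G) * y⁻¹, hx⟩ : Subgroup.zpowers u) = x :=
          Subtype.ext (hcomm y hy x x.2)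
        rw [e1, one_mul, inv_one, mul_one]
  have key : ∀ (K : Subgroup G) (ψ : K →* G), K = P → ψ ∈ F.Hom K →
      (∀ (x : G) (hP : x ∈ Subgroup.zpowers u) (hN : x ∈ K),
        ψ ⟨x, hN⟩ = conjHom (Subgroup.zpowers u) k ⟨x, hP⟩) →
      ∃ t : G, t ∈ Subgroup.normalizer (P : Set G) ∧
        StabilizesBlock (Subgroup.centralizer (P : Set G)) c t ∧ t * u * t⁻¹ = u' := by
    intro K ψ₁ hK hψ₁ hext₁
    subst hK
    obtain ⟨-, t, hψt, htP, f₁, h1, h2⟩ := (hF.2 K ψ₁).mp hψ₁
    have e1 : (⟨K, f₁⟩ : BrauerPairIdx G) = ⟨K, c⟩ :=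
      eq_of_reflTransGen_of_fst_eq hM _ _ h1 rfl
    have hf₁ : f₁ = c := eq_of_heq (Sigma.mk.inj_iff.mp e1).2
    subst hf₁
    have hfstK : (cjPair t (⟨K, f₁⟩ : BrauerPairIdx G)).1 = K := by
      show K.map (MulAut.conj t).toMonoidHom = K
      exact Subgroup.eq_of_le_of_card_ge htP
        (le_of_eq (Subgroup.card_map_of_injective (MulAut.conj t).injective).symm)
    have h2' : Relation.ReflTransGen (NormalSubpairRel p M)
        (cjPair t (⟨K, f₁⟩ : BrauerPairIdx G)) ⟨K, f₁⟩ := h2
    have e2 : cjPair t (⟨K, f₁⟩ : BrauerPairIdx G) = ⟨K, f₁⟩ :=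
      eq_of_reflTransGen_of_fst_eq hM _ _ h2' hfstK
    have hst := (mem_stabSubgroup K f₁ t).mp (mem_stabSubgroup_of_cjPair_eq K f₁ t e2)
    refine ⟨t, hst.1, hst.2, ?_⟩
    have h3 := hext₁ u (Subgroup.mem_zpowers u) huP
    rw [hψt] at h3
    rw [← hku]
    exact h3
  exact key _ ψ hN hψ hext

end Cfsg.Agent.Helper23.HB
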