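import Mathlib
import Cfsg.Prelude.Def_Blocks
import Cfsg.Prelude.Def_BlockRank
import Cfsg.Prelude.Def_BrauerPairs
import Cfsg.Agent.Helper23.HeightBoundD
import Cfsg.Agent.Helper23.HeightBoundE

/-!
# Brauer's height bound: counting the central elements of a defect group
-/

set_option autoImplicit false
set_option linter.unusedSectionVars false
set_option linter.unusedVariables false
set_option linter.unusedSimpArgs false
set_option linter.unnecessarySimpa false
set_option linter.style.haveILetI false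

namespace Cfsg.Agent.Helper23.HB

open Cfsg Cfsg.Agent.Helper24 Cfsg.Agent.Helper5 Cfsg.Agent.Helper5.CC Cfsg.Agent.Helper5.Loc
open Cfsg.Agent.Helper23.BT Cfsg.Agent.Helper23.KLA Cfsg.Agent.Helper23.KLB
open Cfsg.Agent.Helper23.MC Cfsg.Agent.Helper23.AD Cfsg.Agent.Helper23.SU Cfsg.Agent.Helper23.PC
open Cfsg.Agent.Helper23.PP Cfsg.Agent.Helper23.MOD Cfsg.Agent.Helper23.AL Cfsg.Agent.Helper23.SP
open Cfsg.Agent.Helper23.LD Cfsg.Agent.Helper23.II Cfsg.Agent.Helper23.NF Cfsg.Agent.Helper23.BFS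
open Cfsg.Agent.Helper23.ST Cfsg.Agent.Helper23.KCt Cfsg.Agent.Helper23.BF
open Cfsg.Agent.Helper23.RC Cfsg.Agent.Helper23.BFA Cfsg.Agent.Helper23.ACt
open Cfsg.Agent.Helper23.MP Cfsg.Agent.Helper23.IDf Cfsg.Agent.Helper8.IndHt

variable {G : Type*} [Group G] [Fintype G] {M : Ideal AlgInt} {p : ℕ} [hp : Fact p.Prime]

/-- The orbit of an element centralized by `H` under conjugation by `T` has at most `|T : H|`
elements. -/
theorem card_le_relIndex_of_conj (H T : Subgroup G) (u₀ : G)
    (hHc : ∀ y ∈ H, y * u₀ = u₀ * y) (S : Finset G)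
    (hS : ∀ u ∈ S, ∃ t ∈ T, t * u₀ * t⁻¹ = u) : S.card ≤ H.relIndex T := by
  classical
  haveI : Fintype (T ⧸ H.subgroupOf T) := Fintype.ofFinite _
  let orb : T ⧸ H.subgroupOf T → G := fun q => Quotient.liftOn' q
    (fun t : T => (t : G) * u₀ * (t : G)⁻¹) (by
      intro t t' hrel
      rw [QuotientGroup.leftRel_apply, Subgroup.mem_subgroupOf] at hrel
      have h1 := hHc _ hrel
      simp only [Subgroup.coe_mul, Subgroup.coe_inv] at h1
      show (t : G) * u₀ * (t : G)⁻¹ = (t' : G) * u₀ * (t' : G)⁻¹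
      have h2 : (t' : G) = (t : G) * ((t : G)⁻¹ * (t' : G)) := by group
      rw [h2, mul_assoc (t : G) ((t : G)⁻¹ * (t' : G)) u₀, h1]
      group)
  have hsub : S ⊆ Finset.univ.image orb := by
    intro u hu
    obtain ⟨t, ht, rfl⟩ := hS u hu
    exact Finset.mem_image.mpr ⟨QuotientGroup.mk (⟨t, ht⟩ : T), Finset.mem_univ _, rfl⟩
  calc S.card ≤ (Finset.univ.image orb).card := Finset.card_le_card hsub
    _ ≤ (Finset.univ : Finset (T ⧸ H.subgroupOf T)).card := Finset.card_image_le
    _ = H.relIndex T := by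
      rw [Finset.card_univ, ← Nat.card_eq_fintype_card, ← Subgroup.index_eq_card]
      rfl

/-- **Brauer's height bound, multiplicative form**: `|Z(D)| p^h ≤ |T : D C_G(D)| p^d`. -/
theorem center_card_mul_pow_le (hM : IsPModular p M) (B : Set (IrrCharacter G))
    (hB : IsPBlock M B) (D : Subgroup G) (hBD : IsDefectGroup p M B D)
    (H : Subgroup G) (hH : H = D ⊔ Subgroup.centralizer (D : Set G))
    (b : Set (IrrCharacter H)) (hind : IsInducedBlock M H b B) (T : Subgroup G)
    (hT : ∀ g : G, g ∈ T ↔ (g ∈ Subgroup.normalizer (D : Set G) ∧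
      ∀ θ ∈ b, ∀ θ' : IrrCharacter H,
        IsConjCharOf H g (θ : H → ℂ) (θ' : H → ℂ) → θ' ∈ b))
    (χ : IrrCharacter G) (hχ : χ ∈ B) (h : ℕ)
    (hh : (irrDeg χ).factorization p = minVal p B + h) :
    Nat.card (Subgroup.center D) * p ^ h ≤ H.relIndex T * p ^ blockDefect p B := by
  classical
  haveI : Finite G := Finite.of_fintype G
  haveI : Fintype (IrrCharacter G) := Fintype.ofFinite _
  have hMp := isPrime_of_isPModular hM
  have hpp : p.Prime := hp.out
  have hDp : IsPGroup p D := IsPGroup.of_card (card_defectGroup hM hB hBD)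
  have hDH : D ≤ H := hH ▸ le_sup_left
  have hCH : Subgroup.centralizer (D : Set G) ≤ H := hH ▸ le_sup_right
  have hHN : H ≤ Subgroup.normalizer (D : Set G) :=
    hH ▸ sup_le Subgroup.le_normalizer (Subgroup.centralizer_le_normalizer _)
  haveI : Fintype H := Fintype.ofFinite _
  haveI : Fintype (IrrCharacter H) := Fintype.ofFinite _
  haveI : Fintype (Subgroup.centralizer (D : Set G)) := Fintype.ofFinite _
  haveI : Fintype (IrrCharacter (Subgroup.centralizer (D : Set G))) := Fintype.ofFinite _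
  haveI : Fintype ((Subgroup.centralizer (D : Set G)).subgroupOf H) := Fintype.ofFinite _
  haveI hNn : ((Subgroup.centralizer (D : Set G)).subgroupOf H).Normal :=
    (Subgroup.normal_subgroupOf_iff_le_normalizer hCH).mpr (le_normalizer_centralizer hHN)
  -- the index of `C_G(D)` in `H`
  have hsup : D.subgroupOf H ⊔ (Subgroup.centralizer (D : Set G)).subgroupOf H = ⊤ := by
    rw [← Subgroup.subgroupOf_sup hDH hCH, ← hH, Subgroup.subgroupOf_self]
  have hrelQ : ((Subgroup.centralizer (D : Set G)).subgroupOf H).relIndex (D.subgroupOf H) =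
      ((Subgroup.centralizer (D : Set G)).subgroupOf H).index := by
    rw [← Subgroup.relIndex_sup_right, hsup, Subgroup.relIndex_top_right]
  have hidx : ∃ k : ℕ, ((Subgroup.centralizer (D : Set G)).subgroupOf H).index = p ^ k := by
    have hQ'p : IsPGroup p (D.subgroupOf H) := hDp.comap_subtype
    obtain ⟨n, hn⟩ := IsPGroup.iff_card.mp hQ'p
    have hdvd := Subgroup.relIndex_dvd_card ((Subgroup.centralizer (D : Set G)).subgroupOf H)
      (D.subgroupOf H)
    rw [hrelQ, hn] at hdvd
    obtain ⟨k, -, hk⟩ := (Nat.dvd_prime_pow hpp).mp hdvd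
    exact ⟨k, hk⟩
  -- a covered block of `C_G(D)`
  obtain ⟨θ₀, hθ₀⟩ := IsPBlock.nonempty hMp hind.1
  obtain ⟨θ', hθ'⟩ := exists_constituent_restrict
    ((Subgroup.centralizer (D : Set G)).subgroupOf H) θ₀
  have hξ₀ : classInner (fun c : Subgroup.centralizer (D : Set G) => (θ₀ : H → ℂ) ⟨c, hCH c.2⟩)
      ((pullIrr (Subgroup.subgroupOfEquivOfLe hCH).symm θ' :
        IrrCharacter (Subgroup.centralizer (D : Set G))) :
        Subgroup.centralizer (D : Set G) → ℂ) ≠ 0 := by
    have := classInner_comp_mulEquiv (Subgroup.subgroupOfEquivOfLe hCH)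
      (fun c : Subgroup.centralizer (D : Set G) => (θ₀ : H → ℂ) ⟨c, hCH c.2⟩)
      ((pullIrr (Subgroup.subgroupOfEquivOfLe hCH).symm θ' :
        IrrCharacter (Subgroup.centralizer (D : Set G))) :
        Subgroup.centralizer (D : Set G) → ℂ)
    rw [← this]
    have e : (fun x : (Subgroup.centralizer (D : Set G)).subgroupOf H =>
        ((pullIrr (Subgroup.subgroupOfEquivOfLe hCH).symm θ' :
          IrrCharacter (Subgroup.centralizer (D : Set G))) :
          Subgroup.centralizer (D : Set G) → ℂ) (Subgroup.subgroupOfEquivOfLe hCH x)) =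
        (θ' : (Subgroup.centralizer (D : Set G)).subgroupOf H → ℂ) := by
      funext x
      rw [pullIrr_apply, MulEquiv.symm_apply_apply]
    rw [e]
    exact hθ'
  obtain ⟨ξ₀, hξdef⟩ : ∃ ξ₀ : IrrCharacter (Subgroup.centralizer (D : Set G)),
      ξ₀ = pullIrr (Subgroup.subgroupOfEquivOfLe hCH).symm θ' := ⟨_, rfl⟩
  rw [← hξdef] at hξ₀
  have hpair := pair_of_cover hM B D H hDp hDH hCH hHN b hind θ₀ hθ₀ ξ₀ hξ₀
  have hmax := isMaximalBrauerPair_of_pair hM B D hBD _ hpair
  -- the stabilizer of the pair lies in `T`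
  have hstabT : ∀ t : G, t ∈ Subgroup.normalizer (D : Set G) →
      StabilizesBlock (Subgroup.centralizer (D : Set G))
        (blockOf M (ξ₀ : Subgroup.centralizer (D : Set G) → ℂ)) t → t ∈ T := by
    intro t htN hst
    rw [hT]
    refine ⟨htN, fun θ hθ θ'' hconj => ?_⟩
    have htK := le_normalizer_centralizer (le_refl _) htN
    have htH : t ∈ Subgroup.normalizer (H : Set G) := by
      rw [Subgroup.mem_normalizer_iff_map_conj_eq] at htN htK ⊢
      rw [hH, Subgroup.map_sup, htN, htK]
    exact mem_of_stabilizes hM D H hCH hHN hidx b hind.1 θ₀ hθ₀ ξ₀ hξ₀ t htN htH hst θ hθ θ''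
      hconj
  -- representatives of the classes of `p`-elements
  obtain ⟨X, -, hX, hXrep⟩ := exists_reps (G := G) (p := p) (∅ : Finset G)
    (by intro x hx; exact absurd hx (Finset.notMem_empty x))
    (by intro x hx; exact absurd hx (Finset.notMem_empty x))
  haveI : ∀ x : G, Fintype (cz x) := fun x => Fintype.ofFinite _
  haveI : ∀ x : G, Fintype (IrrCharacter (cz x)) := fun x => Fintype.ofFinite _
  -- the centre of `D`, inside `G`
  have hZP : ∀ u ∈ (Subgroup.center D).map D.subtype, u ∈ D ∧ ∀ y ∈ D, y * u = u * y := by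
    rintro _ ⟨z, hz, rfl⟩
    refine ⟨z.2, fun y hy => ?_⟩
    have := Subgroup.mem_center_iff.mp hz ⟨y, hy⟩
    exact congrArg Subtype.val this
  have hZcard : Nat.card ((Subgroup.center D).map D.subtype) = Nat.card (Subgroup.center D) :=
    Subgroup.card_map_of_injective D.subtype_injective
  haveI : Fintype ((Subgroup.center D).map D.subtype) := Fintype.ofFinite _
  have hex : ∀ u : (Subgroup.center D).map D.subtype,
      ∃ (x : G) (b' : Set (IrrCharacter (cz x))) (g : G) (a : BrauerPairIdx G),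
      x ∈ X ∧ IsInducedBlock M (cz x) b' B ∧ blockDefect p b' = blockDefect p B ∧
      g * u.1 * g⁻¹ = x ∧ a.1 = Subgroup.zpowers u.1 ∧
      Relation.ReflTransGen (NormalSubpairRel p M) a
        ⟨D, blockOf M (ξ₀ : Subgroup.centralizer (D : Set G) → ℂ)⟩ ∧
      (⟨Subgroup.zpowers x, b'⟩ : BrauerPairIdx G) = cjPair g a :=
    fun u => exists_marked_central hM B D _ hmax X hXrep u.1 (hZP u.1 u.2).1 (hZP u.1 u.2).2
  choose xf bf gf af h1 h2 h2' h3 h4 h5 h6 using hex
  let F : (Subgroup.center D).map D.subtype → (Σ y : G, Set (IrrCharacter (cz y))) :=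
    fun u => ⟨xf u, bf u⟩
  have hI : ∀ ω ∈ Finset.univ.image F, ω.1 ∈ X ∧ IsInducedBlock M (cz ω.1) ω.2 B ∧
      blockDefect p ω.2 = blockDefect p B := by
    intro ω hω
    obtain ⟨u, -, rfl⟩ := Finset.mem_image.mp hω
    exact ⟨h1 u, h2 u, h2' u⟩
  have hcount := card_mul_pow_le hM X hX hXrep B (Finset.univ.image F) hI χ hχ h hh
  -- the fibres
  have hfib : ∀ ω ∈ Finset.univ.image F,
      ((Finset.univ : Finset ((Subgroup.center D).map D.subtype)).filter
        (fun u => F u = ω)).card ≤ H.relIndex T := by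
    intro ω hω
    obtain ⟨u₀, -, rfl⟩ := Finset.mem_image.mp hω
    have hHc : ∀ y ∈ H, y * u₀.1 = u₀.1 * y := by
      have hle : H ≤ Subgroup.centralizer ({u₀.1} : Set G) := by
        rw [hH]
        refine sup_le ?_ ?_
        · intro y hy
          rw [Subgroup.mem_centralizer_iff]
          intro q hq
          rw [Set.mem_singleton_iff.mp hq]
          exact ((hZP u₀.1 u₀.2).2 y hy).symm
        · intro y hy
          rw [Subgroup.mem_centralizer_iff] at hy ⊢
          intro q hq
          rw [Set.mem_singleton_iff.mp hq]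
          exact hy u₀.1 (hZP u₀.1 u₀.2).1
      intro y hy
      have := hle hy
      rw [Subgroup.mem_centralizer_iff] at this
      exact (this u₀.1 rfl).symm
    have hcardS : ((Finset.univ : Finset ((Subgroup.center D).map D.subtype)).filter
        (fun u => F u = F u₀)).card =
        (((Finset.univ : Finset ((Subgroup.center D).map D.subtype)).filter
          (fun u => F u = F u₀)).image
            (fun u : (Subgroup.center D).map D.subtype => (u : G))).card :=
      (Finset.card_image_of_injective _ Subtype.val_injective).symm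
    rw [hcardS]
    apply card_le_relIndex_of_conj H T u₀.1 hHc
    intro v hv
    obtain ⟨u, hu, rfl⟩ := Finset.mem_image.mp hv
    have hω : F u₀ = F u := ((Finset.mem_filter.mp hu).2).symm
    have key : ∀ (x x' : G) (b₁ : Set (IrrCharacter (cz x))) (b₁' : Set (IrrCharacter (cz x')))
        (g g' : G) (a a' : BrauerPairIdx G),
        g * u₀.1 * g⁻¹ = x → g' * u.1 * g'⁻¹ = x' →
        (⟨Subgroup.zpowers x, b₁⟩ : BrauerPairIdx G) = cjPair g a →
        (⟨Subgroup.zpowers x', b₁'⟩ : BrauerPairIdx G) = cjPair g' a' →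
        (⟨x, b₁⟩ : Σ y : G, Set (IrrCharacter (cz y))) = ⟨x', b₁'⟩ →
        cjPair (g'⁻¹ * g) a = a' ∧ (g'⁻¹ * g) * u₀.1 * (g'⁻¹ * g)⁻¹ = u.1 := by
      intro x x' b₁ b₁' g g' a a' hgx hgx' heq heq' hω
      have hxx : x = x' := congrArg Sigma.fst hω
      subst hxx
      have hbb : b₁ = b₁' := eq_of_heq (Sigma.mk.inj_iff.mp hω).2
      subst hbb
      have e1 : cjPair g a = cjPair g' a' := by rw [← heq, ← heq']
      refine ⟨?_, ?_⟩
      · rw [← cjPair_mul, e1, cjPair_mul, inv_mul_cancel, cjPair_one]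
      · have : (g'⁻¹ * g) * u₀.1 * (g'⁻¹ * g)⁻¹ = g'⁻¹ * (g * u₀.1 * g⁻¹) * g' := by group
        rw [this, hgx, ← hgx']
        group
    obtain ⟨e2, e3⟩ := key (xf u₀) (xf u) (bf u₀) (bf u) (gf u₀) (gf u) (af u₀) (af u)
      (h3 u₀) (h3 u) (h6 u₀) (h6 u) hω
    obtain ⟨t, htN, hst, htu⟩ := exists_stab_conj_of_central hM B D _ hmax u₀.1 u.1
      (hZP u₀.1 u₀.2).1 (hZP u.1 u.2).1 (hZP u₀.1 u₀.2).2 (hZP u.1 u.2).2 (af u₀) (af u)
      (h4 u₀) (h4 u) (h5 u₀) (h5 u) _ e2 e3
    exact ⟨t, hstabT t htN hst, htu⟩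
  have hle := Finset.card_le_mul_card_image (f := F)
    (Finset.univ : Finset ((Subgroup.center D).map D.subtype)) (H.relIndex T) hfib
  rw [Finset.card_univ, ← Nat.card_eq_fintype_card, hZcard] at hle
  calc Nat.card (Subgroup.center D) * p ^ h
      ≤ (H.relIndex T * (Finset.univ.image F).card) * p ^ h := Nat.mul_le_mul_right _ hle
    _ = H.relIndex T * ((Finset.univ.image F).card * p ^ h) := by ring
    _ ≤ H.relIndex T * p ^ blockDefect p B := Nat.mul_le_mul_left _ hcount

end Cfsg.Agent.Helper23.HB
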