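import Mathlib
import Cfsg.Prelude.Def_Blocks
import Cfsg.Prelude.Def_BlockLocal
import Cfsg.Prelude.Def_BrauerPairs
import Cfsg.Agent.Helper23.NormalPIndex
import Cfsg.Agent.Helper5.DefectOrder
import Cfsg.Agent.Helper24.DegreeRatio
import Cfsg.Agent.Helper24.Expansion
import Cfsg.Agent.Helper24.SmallDegree
import Cfsg.Agent.Helper8.CharComp
import Cfsg.Agent.S0931

set_option autoImplicit false
set_option linter.unusedSectionVars false
set_option linter.unusedVariables false

/-!
# Invariant characters of height zero in stable blocks of normal subgroups of `p`-power index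
-/

namespace Cfsg.Agent.Helper23.IHZ

open Cfsg Cfsg.Agent.Helper24 Cfsg.Agent.Helper5 Cfsg.Agent.Helper5.Loc Cfsg.Agent.Helper5.CC
open Cfsg.Agent.Helper14
open Cfsg.Agent.Helper23.NS Cfsg.Agent.Helper23.OC Cfsg.Agent.Helper23.SB
open Cfsg.Agent.Helper23.NPI

variable {G : Type*} [Group G] {M : Ideal AlgInt}

/-- The least `p`-exponent of a degree in a block. -/
noncomputable def minNu (p : ℕ) {X : Type*} [Group X] (B : Set (IrrCharacter X)) : ℕ :=
  sInf ((fun χ : IrrCharacter X => (charDegree (χ : X → ℂ)).factorization p) '' B)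

theorem minNu_le {p : ℕ} {X : Type*} [Group X] [Finite X] (B : Set (IrrCharacter X))
    (χ : IrrCharacter X) (hχ : χ ∈ B) : minNu p B ≤ (irrDeg χ).factorization p := by
  apply Nat.sInf_le
  refine ⟨χ, hχ, ?_⟩
  beta_reduce
  rw [charDegree_eq_irrDeg]

theorem exists_minNu {p : ℕ} {X : Type*} [Group X] [Finite X] (B : Set (IrrCharacter X))
    (hne : B.Nonempty) : ∃ χ ∈ B, (irrDeg χ).factorization p = minNu p B := by
  obtain ⟨χ₀, hχ₀⟩ := hne
  have hne' : ((fun χ : IrrCharacter X => (charDegree (χ : X → ℂ)).factorization p) '' B).Nonempty :=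
    ⟨_, χ₀, hχ₀, rfl⟩
  obtain ⟨χ, hχ, hχe⟩ := Nat.sInf_mem hne'
  refine ⟨χ, hχ, ?_⟩
  rw [minNu, ← hχe]
  beta_reduce
  rw [charDegree_eq_irrDeg]

theorem minNu_le_card {p : ℕ} [hp : Fact p.Prime] {X : Type*} [Group X] [Finite X]
    (B : Set (IrrCharacter X)) (hne : B.Nonempty) :
    minNu p B ≤ (Nat.card X).factorization p := by
  obtain ⟨χ, hχ, h⟩ := exists_minNu (p := p) B hne
  rw [← h]
  exact (Nat.factorization_le_iff_dvd (irrDeg_pos χ).ne' (Nat.card_pos (α := X)).ne').mpr
    (irrDeg_dvd_card χ) p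

/-- A character having the irreducible `θ` as a constituent and the same degree as `θ` is `θ`. -/
theorem eq_of_constituent_of_degree_eq {X : Type*} [Group X] [Fintype X] {χ : X → ℂ}
    (hχ : IsCharacter X χ) (θ : IrrCharacter X) (hcon : classInner χ (θ : X → ℂ) ≠ 0)
    (hdeg : χ 1 = (θ : X → ℂ) 1) : χ = (θ : X → ℂ) := by
  classical
  have : Fintype (IrrCharacter X) := Fintype.ofFinite _
  obtain ⟨n, hn⟩ := IsCharacter.exists_nat_coeff hχ
  have hnθ : classInner χ (θ : X → ℂ) = n θ := by
    rw [hn]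
    exact classInner_sum_irr _ θ
  have hnθ0 : n θ ≠ 0 := by
    intro h0
    apply hcon
    rw [hnθ, h0, Nat.cast_zero]
  have hsum : ∑ ψ : IrrCharacter X, n ψ * irrDeg ψ = irrDeg θ := by
    have h1 : χ 1 = ∑ ψ : IrrCharacter X, ((n ψ * irrDeg ψ : ℕ) : ℂ) := by
      conv_lhs => rw [hn]
      rw [Finset.sum_apply]
      refine Finset.sum_congr rfl (fun ψ _ => ?_)
      rw [Pi.smul_apply, irrDeg_spec, smul_eq_mul]
      push_cast
      rfl
    rw [hdeg, irrDeg_spec, ← Nat.cast_sum] at h1
    exact_mod_cast h1.symm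
  have hsplit : ∑ ψ : IrrCharacter X, n ψ * irrDeg ψ =
      n θ * irrDeg θ + ∑ ψ ∈ Finset.univ.erase θ, n ψ * irrDeg ψ :=
    (Finset.add_sum_erase _ _ (Finset.mem_univ θ)).symm
  have hθpos := irrDeg_pos θ
  have h1 : irrDeg θ ≤ n θ * irrDeg θ := Nat.le_mul_of_pos_left _ (Nat.pos_of_ne_zero hnθ0)
  have hrest : ∑ ψ ∈ Finset.univ.erase θ, n ψ * irrDeg ψ = 0 := by omega
  have hnθ1 : n θ = 1 := by
    have : n θ * irrDeg θ = 1 * irrDeg θ := by omega
    exact Nat.eq_of_mul_eq_mul_right hθpos this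
  have hzero : ∀ ψ : IrrCharacter X, ψ ≠ θ → n ψ = 0 := by
    intro ψ hψ
    have := (Finset.sum_eq_zero_iff.mp hrest) ψ (Finset.mem_erase.mpr ⟨hψ, Finset.mem_univ ψ⟩)
    rcases Nat.mul_eq_zero.mp this with h | h
    · exact h
    · exact absurd h (irrDeg_pos ψ).ne'
  rw [hn, Finset.sum_eq_single θ]
  · rw [hnθ1, Nat.cast_one, one_smul]
  · intro ψ _ hψ
    rw [hzero ψ hψ, Nat.cast_zero, zero_smul]
  · intro h
    exact absurd (Finset.mem_univ θ) h

/-- **A stable block of a normal subgroup of `p`-power index contains an invariant character of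
height zero.** -/
theorem exists_invariant_height_zero [Fintype G] {p : ℕ} [hp : Fact p.Prime]
    (hM : IsPModular p M) (N : Subgroup G) [hN : N.Normal] [Fintype N]
    (hidx : ∃ k : ℕ, N.index = p ^ k)
    (c : Set (IrrCharacter N)) (hc : IsPBlock M c) (hst : IsStable N c) :
    ∃ θ ∈ c, blockHeight p c (θ : N → ℂ) = 0 ∧
      ∀ (g : G) (n : N), (θ : N → ℂ) ⟨g * n * g⁻¹, hN.conj_mem n n.2 g⟩ = (θ : N → ℂ) n := by
  classical
  have hMp := isPrime_of_isPModular hM
  have : Fintype (IrrCharacter G) := Fintype.ofFinite _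
  have : Fintype (IrrCharacter N) := Fintype.ofFinite _
  obtain ⟨B, hB, hBc, hcon⟩ := exists_block_eq_cut hM N hidx c hc hst
  obtain ⟨D, hD⟩ := Cfsg.Agent.S0931.exists_defectGroup p M hM B hB
  obtain ⟨hsup, hD0⟩ := defect_of_stable_pindex hM N hidx c hc hst B hB hBc D hD
  have hcD := card_defectGroup hM hB hD
  have hcD0 := card_defectGroup hM hc hD0
  obtain ⟨k, hk⟩ := hidx
  have hBne : B.Nonempty := IsPBlock.nonempty hMp hB
  have hcne : c.Nonempty := IsPBlock.nonempty hMp hc
  -- cardinalities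
  have hGN : Nat.card G = Nat.card N * p ^ k := by
    rw [← hk]
    exact (Subgroup.card_mul_index N).symm
  have h5 : N.relIndex (D ⊔ N) = N.relIndex D := Subgroup.relIndex_sup_right D N
  have h6 : Nat.card ((D ⊓ N : Subgroup G)) * N.relIndex D = Nat.card D := by
    rw [Subgroup.relIndex, ← Subgroup.card_mul_index (N.subgroupOf D)]
    congr 1
    rw [← card_map_subtype (N.subgroupOf D), Subgroup.subgroupOf_map_subtype, inf_comm]
  have h7 : N.relIndex D = p ^ k := by
    rw [← h5, sup_comm, hsup, Subgroup.relIndex_top_right, hk]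
  have h8 : Nat.card ((D ⊓ N).subgroupOf N) = Nat.card ((D ⊓ N : Subgroup G)) := by
    rw [← card_map_subtype ((D ⊓ N).subgroupOf N), Subgroup.subgroupOf_map_subtype,
      inf_eq_left.mpr inf_le_right]
  have hdef : blockDefect p B = blockDefect p c + k := by
    have : p ^ blockDefect p B = p ^ (blockDefect p c + k) := by
      rw [pow_add, ← hcD, ← hcD0, h8, ← h6, h7]
    exact Nat.pow_right_injective hp.out.two_le this
  have hνG : (Nat.card G).factorization p = (Nat.card N).factorization p + k := by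
    rw [hGN, Nat.factorization_mul (Nat.card_pos (α := N)).ne' (pow_ne_zero _ hp.out.ne_zero),
      Finsupp.add_apply, Nat.Prime.factorization_pow hp.out]
    simp
  have hmB := minNu_le_card (p := p) B hBne
  have hmc := minNu_le_card (p := p) c hcne
  have hmin : minNu p B = minNu p c := by
    have e1 : blockDefect p B = (Nat.card G).factorization p - minNu p B := rfl
    have e2 : blockDefect p c = (Nat.card N).factorization p - minNu p c := rfl
    omega
  obtain ⟨χ, hχ, hχmin⟩ := exists_minNu (p := p) B hBne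
  obtain ⟨θ, hθ, hθcon⟩ := exists_constituent_of_cut N c B hBc χ hχ
  obtain ⟨e, he, hedvd⟩ := degree_ratio_dvd_index N (χ : G → ℂ) χ.2 (θ : N → ℂ) θ.2 hθcon
  have heq : irrDeg χ = e * irrDeg θ := by
    rw [irrDeg_spec, irrDeg_spec] at he
    exact_mod_cast he
  have he0 : e ≠ 0 := by
    rintro rfl
    rw [zero_mul] at heq
    exact (irrDeg_pos χ).ne' heq
  have hθmin := minNu_le (p := p) c θ hθ
  have hfac : (irrDeg χ).factorization p = e.factorization p + (irrDeg θ).factorization p := by
    rw [heq, Nat.factorization_mul he0 (irrDeg_pos θ).ne', Finsupp.add_apply]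
  have he1 : e = 1 := by
    rw [hk] at hedvd
    obtain ⟨j, hj, rfl⟩ := (Nat.dvd_prime_pow hp.out).mp hedvd
    have : (p ^ j).factorization p = j := by
      rw [Nat.Prime.factorization_pow hp.out]
      simp
    rw [this] at hfac
    have : j = 0 := by omega
    rw [this, pow_zero]
  have hθdeg : (irrDeg θ).factorization p = minNu p c := by
    rw [he1] at hfac
    simp at hfac
    omega
  refine ⟨θ, hθ, ?_, ?_⟩
  · rw [blockHeight, charDegree_eq_irrDeg, hθdeg]
    exact Nat.sub_self _
  · have hres : (fun n : N => (χ : G → ℂ) n) = (θ : N → ℂ) := by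
      apply eq_of_constituent_of_degree_eq
        (Cfsg.Agent.Helper8.isCharacter_restrict N (IsIrrCharacter.isCharacter χ.2)) θ hθcon
      show (χ : G → ℂ) ((1 : N) : G) = _
      rw [Subgroup.coe_one, he, he1, Nat.cast_one, one_mul]
    intro g n
    have hcf : IsClassFunction G (χ : G → ℂ) :=
      IsCharacter.isClassFunction (IsIrrCharacter.isCharacter χ.2)
    have h1 := congrFun hres ⟨g * n * g⁻¹, hN.conj_mem n n.2 g⟩
    have h2 := congrFun hres n
    rw [← h1, ← h2]
    exact hcf (n : G) g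

end Cfsg.Agent.Helper23.IHZ
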