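import Mathlib

/-!
# S3278 piece FUS: Burnside fusion for a Klein four Sylow 2-subgroup

If all involutions of `G` are conjugate and the Sylow 2-subgroup `P` is a Klein four-group then
`3 * |C(P)| ≤ |N(P)|`.
-/

set_option autoImplicit false

open scoped Pointwise

namespace Cfsg.Agent.Helper23.K4C

variable {G : Type*} [Group G] [Finite G]

omit [Finite G] in
theorem mem_smul_sylow' {p : ℕ} (g : G) (P : Sylow p G) (y : G) :
    y ∈ ((g • P : Sylow p G) : Subgroup G) ↔ ∃ x ∈ (P : Subgroup G), y = g * x * g⁻¹ := by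
  rw [Sylow.coe_subgroup_smul, Subgroup.mem_pointwise_smul_iff_inv_smul_mem]
  constructor
  · intro h
    refine ⟨_, h, ?_⟩
    simp [MulAut.smul_def, mul_assoc]
  · rintro ⟨x, hx, rfl⟩
    simpa [MulAut.smul_def, MulAut.conj_apply, mul_assoc] using hx

/-- Burnside's fusion lemma, element form: in an abelian Sylow subgroup `P`, two elements that are
conjugate in `G` are conjugate under the normalizer of `P`. -/
theorem burnside_fusion_elt {p : ℕ} [Fact p.Prime] (P : Sylow p G)
    (hab : ∀ x ∈ (P : Subgroup G), ∀ y ∈ (P : Subgroup G), x * y = y * x)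
    (a b : G) (ha : a ∈ (P : Subgroup G)) (hb : b ∈ (P : Subgroup G)) (g : G)
    (hg : b = g * a * g⁻¹) :
    ∃ n ∈ Subgroup.normalizer ((P : Subgroup G) : Set G), b = n * a * n⁻¹ := by
  have hPC : (P : Subgroup G) ≤ Subgroup.centralizer ({b} : Set G) := by
    intro x hx
    rw [Subgroup.mem_centralizer_iff]
    intro k hk
    rw [Set.mem_singleton_iff] at hk
    subst hk
    exact hab k hb x hx
  have hQC : ((g • P : Sylow p G) : Subgroup G) ≤ Subgroup.centralizer ({b} : Set G) := by
    intro y hy
    obtain ⟨x, hx, rfl⟩ := (mem_smul_sylow' g P y).1 hy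
    rw [Subgroup.mem_centralizer_iff]
    intro k hk
    rw [Set.mem_singleton_iff] at hk
    subst hk
    have := hab a ha x hx
    rw [hg]
    calc g * a * g⁻¹ * (g * x * g⁻¹) = g * (a * x) * g⁻¹ := by group
      _ = g * (x * a) * g⁻¹ := by rw [this]
      _ = g * x * g⁻¹ * (g * a * g⁻¹) := by group
  obtain ⟨c, hc⟩ := MulAction.exists_smul_eq (↥(Subgroup.centralizer ({b} : Set G)))
    ((g • P).subtype hQC) (P.subtype hPC)
  simp_rw [Sylow.smul_subtype, Subgroup.smul_def, smul_smul] at hc
  have hnorm : (c : G) * g ∈ Subgroup.normalizer ((P : Subgroup G) : Set G) :=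
    Sylow.smul_eq_iff_mem_normalizer.mp (Sylow.subtype_injective hc)
  have hcent : (c : G) * b = b * c := by
    have := c.2
    rw [Subgroup.mem_centralizer_iff] at this
    exact (this b rfl).symm
  refine ⟨(c : G) * g, hnorm, ?_⟩
  calc b = (b * (c : G)) * (c : G)⁻¹ := by group
    _ = ((c : G) * b) * (c : G)⁻¹ := by rw [hcent]
    _ = ((c : G) * (g * a * g⁻¹)) * (c : G)⁻¹ := by rw [← hg]
    _ = (c : G) * g * a * ((c : G) * g)⁻¹ := by group

theorem three_mul_card_centralizer_le (P : Sylow 2 G) (hK : IsKleinFour ↥(P : Subgroup G))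
    (hone : ∀ u v : G, orderOf u = 2 → orderOf v = 2 → IsConj u v) :
    3 * Nat.card (Subgroup.centralizer ((P : Subgroup G) : Set G)) ≤
      Nat.card (Subgroup.normalizer ((P : Subgroup G) : Set G)) := by
  classical
  have : Fact (Nat.Prime 2) := ⟨Nat.prime_two⟩
  have hCN : Subgroup.centralizer ((P : Subgroup G) : Set G) ≤
      Subgroup.normalizer ((P : Subgroup G) : Set G) := Subgroup.centralizer_le_normalizer _
  have hab : ∀ x ∈ (P : Subgroup G), ∀ y ∈ (P : Subgroup G), x * y = y * x := by
    intro x hx y hy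
    have := mul_comm_of_exponent_two hK.exponent_two (⟨x, hx⟩ : (P : Subgroup G)) ⟨y, hy⟩
    exact congrArg Subtype.val this
  have hord : ∀ s : (P : Subgroup G), s ≠ 1 → orderOf (s : G) = 2 := by
    intro s hs
    refine orderOf_eq_prime ?_ ?_
    · have := Monoid.pow_exponent_eq_one s
      rw [hK.exponent_two] at this
      exact_mod_cast congrArg Subtype.val this
    · intro h
      exact hs (Subtype.ext h)
  have hcard3 : Nat.card {s : (P : Subgroup G) // s ≠ 1} = 3 := by
    have : Fintype (P : Subgroup G) := Fintype.ofFinite _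
    have h4 : Fintype.card (P : Subgroup G) = 4 := by
      rw [← Nat.card_eq_fintype_card]; exact hK.card_four
    rw [Nat.card_eq_fintype_card, Fintype.card_subtype_compl, Fintype.card_subtype_eq, h4]
  have : Nonempty {s : (P : Subgroup G) // s ≠ 1} := by
    have : 0 < Nat.card {s : (P : Subgroup G) // s ≠ 1} := by omega
    exact (Nat.card_pos_iff.1 this).1
  obtain ⟨⟨a, ha⟩⟩ := this
  have hex : ∀ s : {s : (P : Subgroup G) // s ≠ 1},
      ∃ n ∈ Subgroup.normalizer ((P : Subgroup G) : Set G),
        ((s : (P : Subgroup G)) : G) = n * (a : G) * n⁻¹ := by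
    intro s
    have hc := hone (a : G) ((s : (P : Subgroup G)) : G) (hord a ha) (hord s.1 s.2)
    rw [isConj_iff] at hc
    obtain ⟨g, hg⟩ := hc
    exact burnside_fusion_elt P hab (a : G) _ a.2 s.1.2 g hg.symm
  choose n hnN hns using hex
  set C' := (Subgroup.centralizer ((P : Subgroup G) : Set G)).subgroupOf
    (Subgroup.normalizer ((P : Subgroup G) : Set G)) with hC'
  let f : {s : (P : Subgroup G) // s ≠ 1} →
      (↥(Subgroup.normalizer ((P : Subgroup G) : Set G)) ⧸ C') :=
    fun s => QuotientGroup.mk ⟨n s, hnN s⟩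
  have hf : Function.Injective f := by
    intro s t hst
    have h1 : (⟨n s, hnN s⟩ : ↥(Subgroup.normalizer ((P : Subgroup G) : Set G)))⁻¹ *
        ⟨n t, hnN t⟩ ∈ C' := QuotientGroup.eq.1 hst
    rw [hC', Subgroup.mem_subgroupOf] at h1
    have h2 : (n s)⁻¹ * n t ∈ Subgroup.centralizer ((P : Subgroup G) : Set G) := by
      simpa using h1
    rw [Subgroup.mem_centralizer_iff] at h2
    have h3 := h2 (a : G) a.2
    apply Subtype.ext
    apply Subtype.ext
    rw [hns s, hns t]
    calc n s * (a : G) * (n s)⁻¹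
        = n s * ((a : G) * ((n s)⁻¹ * n t)) * (n t)⁻¹ := by group
      _ = n s * (((n s)⁻¹ * n t) * (a : G)) * (n t)⁻¹ := by rw [h3]
      _ = n t * (a : G) * (n t)⁻¹ := by group
  have hidx : 3 ≤ C'.index := by
    rw [Subgroup.index, ← hcard3]
    exact Nat.card_le_card_of_injective f hf
  have hmul := Subgroup.card_mul_index C'
  have hcc : Nat.card C' = Nat.card (Subgroup.centralizer ((P : Subgroup G) : Set G)) :=
    Nat.card_congr (Subgroup.subgroupOfEquivOfLe hCN).toEquiv
  rw [hcc] at hmul
  calc 3 * Nat.card (Subgroup.centralizer ((P : Subgroup G) : Set G))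
      ≤ C'.index * Nat.card (Subgroup.centralizer ((P : Subgroup G) : Set G)) :=
        Nat.mul_le_mul_right _ hidx
    _ = Nat.card (Subgroup.normalizer ((P : Subgroup G) : Set G)) := by rw [← hmul, mul_comm]

end Cfsg.Agent.Helper23.K4C
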