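import Mathlib
import Cfsg.Prelude.Def_Blocks
import Cfsg.Prelude.Def_BlockLocal
import Cfsg.Prelude.Def_BrauerPairs
import Cfsg.Agent.Helper23.InertialIndex
import Cfsg.Agent.Helper23.MaxOfDefect
import Cfsg.Agent.Helper23.KleinLocalA

/-!
# The inertial quotient of a block with a Klein four defect group
-/

set_option autoImplicit false
set_option linter.unusedSectionVars false
set_option linter.unusedVariables false
set_option linter.unusedSimpArgs false
set_option linter.unnecessarySimpa false
set_option linter.style.haveILetI false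

namespace Cfsg.Agent.Helper23.KI

open Cfsg Cfsg.Agent.Helper24 Cfsg.Agent.Helper5 Cfsg.Agent.Helper5.CC Cfsg.Agent.Helper5.Loc
open Cfsg.Agent.Helper23.KLA Cfsg.Agent.Helper23.II Cfsg.Agent.Helper23.MOD
open Cfsg.Agent.Helper23.ST Cfsg.Agent.Helper23.AD

section Aut

variable {V : Type*} [Group V] [IsKleinFour V]

theorem klein_exists_third (u : V) : ∃ v : V, v ≠ 1 ∧ v ≠ u := by
  classical
  haveI : Finite V := Nat.finite_of_card_ne_zero (by rw [IsKleinFour.card_four]; norm_num)
  haveI : Fintype V := Fintype.ofFinite _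
  have hcard : Fintype.card V = 4 := IsKleinFour.card_four'
  by_contra hcon
  push Not at hcon
  have h1 : (Finset.univ : Finset V) ⊆ {1, u} := by
    intro y _
    rw [Finset.mem_insert, Finset.mem_singleton]
    by_cases hy : y = 1
    · exact Or.inl hy
    · exact Or.inr (hcon y hy)
  have h2 := Finset.card_le_card h1
  rw [Finset.card_univ, hcard] at h2
  have h3 : ({1, u} : Finset V).card ≤ 2 := Finset.card_le_two
  omega

/-- An automorphism of order dividing three of a Klein four group fixing an involution is
trivial. -/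
theorem klein_aut_fixed (α : MulAut V) (hα3 : α ^ 3 = 1) (u : V) (hu : u ≠ 1)
    (hfix : α u = u) : α = 1 := by
  obtain ⟨v, hv1, hvu⟩ := klein_exists_third u
  have hall : ∀ d : V, d = 1 ∨ d = u ∨ d = v ∨ d = u * v := by
    intro d
    by_cases h1 : d = 1
    · exact Or.inl h1
    by_cases h2 : d = u
    · exact Or.inr (Or.inl h2)
    by_cases h3 : d = v
    · exact Or.inr (Or.inr (Or.inl h3))
    exact Or.inr (Or.inr (Or.inr
      (IsKleinFour.eq_mul_of_ne_all hu hv1 (fun h => hvu h.symm) h1 h2 h3)))
  have huu : u * u = 1 := IsKleinFour.mul_self u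
  have hαv1 : α v ≠ 1 := by
    intro h
    apply hv1
    apply α.injective
    rw [h, map_one]
  have hαvu : α v ≠ u := by
    intro h
    apply hvu
    apply α.injective
    rw [h, hfix]
  have hcase : α v = v ∨ α v = u * v := by
    rcases hall (α v) with h | h | h | h
    · exact absurd h hαv1
    · exact absurd h hαvu
    · exact Or.inl h
    · exact Or.inr h
  rcases hcase with h | h
  · ext d
    rw [MulAut.one_apply]
    rcases hall d with rfl | rfl | rfl | rfl
    · exact map_one α
    · exact hfix
    · exact h
    · rw [map_mul, hfix, h]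
  · have hsq : α ^ 2 = 1 := by
      ext d
      rw [MulAut.one_apply, pow_two, MulAut.mul_apply]
      rcases hall d with rfl | rfl | rfl | rfl
      · rw [map_one, map_one]
      · rw [hfix, hfix]
      · rw [h, map_mul, hfix, h, ← mul_assoc, huu, one_mul]
      · rw [map_mul, hfix, h, ← mul_assoc, huu, one_mul, h]
    have : α ^ 3 = α ^ 2 * α := pow_succ α 2
    rw [hsq, one_mul] at this
    rw [← this, hα3]

/-- An automorphism of order three of a Klein four group permutes the involutions
transitively. -/
theorem klein_aut_transitive (α : MulAut V) (hα1 : α ≠ 1) (hα3 : α ^ 3 = 1) (u u' : V)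
    (hu : u ≠ 1) (hu' : u' ≠ 1) : u' = u ∨ u' = α u ∨ u' = (α ^ 2) u := by
  have h1 : α u ≠ u := fun h => hα1 (klein_aut_fixed α hα3 u hu h)
  have hcube : α (α (α u)) = u := by
    have : (α ^ 3) u = u := by rw [hα3, MulAut.one_apply]
    rw [pow_succ, pow_two, MulAut.mul_apply, MulAut.mul_apply] at this
    exact this
  have hsq : (α ^ 2) u = α (α u) := by rw [pow_two, MulAut.mul_apply]
  have h2 : α (α u) ≠ u := by
    intro h
    apply h1
    rw [h] at hcube
    exact hcube
  have h3 : α (α u) ≠ α u := by
    intro h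
    exact h1 (α.injective h)
  have hαu1 : α u ≠ 1 := by
    intro h
    apply hu
    apply α.injective
    rw [h, map_one]
  have hααu1 : α (α u) ≠ 1 := by
    intro h
    apply hαu1
    apply α.injective
    rw [h, map_one]
  rw [hsq]
  by_contra hcon
  push Not at hcon
  have e1 := IsKleinFour.eq_mul_of_ne_all hu hαu1 (fun h => h1 h.symm) hααu1 h2 h3
  have e2 := IsKleinFour.eq_mul_of_ne_all hu hαu1 (fun h => h1 h.symm) hu' hcon.1 hcon.2.1
  exact hcon.2.2 (e2.trans e1.symm)

end Aut


section Main

variable {G : Type*} [Group G] [Fintype G] {M : Ideal AlgInt}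

/-- **The inertial index of a block with a Klein four defect group is `1` or `3`**; in the first
case the stabilizer of the root is `C_G(P)`, in the second it permutes the involutions of `P`
transitively. -/
theorem inertial_klein (hM : IsPModular 2 M) (B : Set (IrrCharacter G))
    (P : Subgroup G) (c : Set (IrrCharacter (Subgroup.centralizer (P : Set G))))
    (hmax : IsMaximalBrauerPair 2 M B P c) (hV : IsKleinFour P) (T : Subgroup G)
    (hT : ∀ g : G, g ∈ T ↔ (g ∈ Subgroup.normalizer (P : Set G) ∧
      StabilizesBlock (Subgroup.centralizer (P : Set G)) c g)) :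
    ((Subgroup.centralizer (P : Set G)).relIndex T = 1 ∧
      ∀ t : G, t ∈ Subgroup.normalizer (P : Set G) →
        StabilizesBlock (Subgroup.centralizer (P : Set G)) c t →
        t ∈ Subgroup.centralizer (P : Set G)) ∨
    ((Subgroup.centralizer (P : Set G)).relIndex T = 3 ∧
      ∀ u ∈ P, u ≠ 1 → ∀ u' ∈ P, u' ≠ 1 → ∃ t ∈ T, t * u * t⁻¹ = u') := by
  classical
  haveI : Fact (Nat.Prime 2) := ⟨Nat.prime_two⟩
  haveI := hV
  haveI : Finite P := Nat.finite_of_card_ne_zero (by rw [IsKleinFour.card_four]; norm_num)
  haveI : Fintype P := Fintype.ofFinite _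
  obtain ⟨-, hCT, hTN⟩ := stab_basic P c T hT
  have hab := klein_comm P hV
  have hidx := not_dvd_inertial_index hM B P c hmax T hT
  have hPC : P.subgroupOf T ≤ (Subgroup.centralizer (P : Set G)).subgroupOf T :=
    Subgroup.comap_mono (le_centralizer_of_abelian hab le_rfl)
  rw [sup_eq_right.mpr hPC] at hidx
  set φ : T →* MulAut P := P.normalizerMonoidHom.comp (Subgroup.inclusion hTN) with hφ
  have hker : φ.ker = (Subgroup.centralizer (P : Set G)).subgroupOf T := by
    ext t
    rw [MonoidHom.mem_ker, hφ, MonoidHom.comp_apply, ← MonoidHom.mem_ker,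
      Subgroup.normalizerMonoidHom_ker, Subgroup.mem_subgroupOf, Subgroup.mem_subgroupOf]
    rfl
  have hCn : ((Subgroup.centralizer (P : Set G)).subgroupOf T).Normal := by
    rw [← hker]; infer_instance
  have hcardq : Nat.card (T ⧸ (Subgroup.centralizer (P : Set G)).subgroupOf T) =
      Nat.card φ.range :=
    Nat.card_congr ((QuotientGroup.quotientMulEquivOfEq hker.symm).trans
      (QuotientGroup.quotientKerEquivRange _)).toEquiv
  have hrel : (Subgroup.centralizer (P : Set G)).relIndex T = Nat.card φ.range := by
    rw [← hcardq, Subgroup.relIndex, Subgroup.index_eq_card]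
  have hodd : ¬ 2 ∣ (Subgroup.centralizer (P : Set G)).relIndex T := hidx
  -- the index divides `24`
  have hdvd : (Subgroup.centralizer (P : Set G)).relIndex T ∣ 24 := by
    rw [hrel]
    have h1 : Nat.card φ.range ∣ Nat.card (MulAut P) := Subgroup.card_subgroup_dvd_card _
    have h2 : Nat.card (MulAut P) ∣ Nat.card (Equiv.Perm P) :=
      Subgroup.card_dvd_of_injective (MulAut.toPerm P) (by
        intro a b hab'
        apply MulEquiv.ext
        intro x
        exact congrArg (fun f : Equiv.Perm P => (f x : P)) hab')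
    have h3 : Nat.card (Equiv.Perm P) = 24 := by
      rw [Nat.card_eq_fintype_card, Fintype.card_perm, IsKleinFour.card_four']
      rfl
    rw [h3] at h2
    exact h1.trans h2
  have hcases : (Subgroup.centralizer (P : Set G)).relIndex T = 1 ∨
      (Subgroup.centralizer (P : Set G)).relIndex T = 3 := by
    have hle : (Subgroup.centralizer (P : Set G)).relIndex T ≤ 24 :=
      Nat.le_of_dvd (by norm_num) hdvd
    generalize (Subgroup.centralizer (P : Set G)).relIndex T = e at hodd hdvd hle
    interval_cases e <;> omega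
  rcases hcases with h1 | h3
  · left
    refine ⟨h1, ?_⟩
    intro t htN hts
    have htT : t ∈ T := (hT t).mpr ⟨htN, hts⟩
    exact (Subgroup.relIndex_eq_one.mp h1) htT
  · right
    refine ⟨h3, ?_⟩
    -- an element of `T` outside `C_G(P)`
    have hnle : ¬ T ≤ Subgroup.centralizer (P : Set G) := by
      intro hle
      have := Subgroup.relIndex_eq_one.mpr hle
      omega
    obtain ⟨t₀, ht₀T, ht₀C⟩ := Set.not_subset.mp hnle
    set α : MulAut P := φ ⟨t₀, ht₀T⟩ with hα
    have hα1 : α ≠ 1 := by
      intro h
      apply ht₀C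
      have hmem : (⟨t₀, ht₀T⟩ : T) ∈ φ.ker := MonoidHom.mem_ker.mpr h
      rw [hker, Subgroup.mem_subgroupOf] at hmem
      exact hmem
    have hα3 : α ^ 3 = 1 := by
      have h4 : orderOf (⟨α, MonoidHom.mem_range.mpr ⟨⟨t₀, ht₀T⟩, rfl⟩⟩ : φ.range) ∣
          Nat.card φ.range := orderOf_dvd_natCard _
      rw [Subgroup.orderOf_mk, ← hrel, h3] at h4
      exact orderOf_dvd_iff_pow_eq_one.mp h4
    intro u hu hu1 u' hu' hu'1
    have hcoe : ∀ (t : T) (y : P), ((φ t y : P) : G) = (t : G) * (y : G) * (t : G)⁻¹ := by
      intro t y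
      rfl
    rcases klein_aut_transitive α hα1 hα3 (⟨u, hu⟩ : P) ⟨u', hu'⟩
      (fun h => hu1 (congrArg Subtype.val h)) (fun h => hu'1 (congrArg Subtype.val h)) with
      h | h | h
    · refine ⟨1, T.one_mem, ?_⟩
      have := congrArg Subtype.val h
      simp only at this
      rw [one_mul, inv_one, mul_one]
      exact this.symm
    · refine ⟨t₀, ht₀T, ?_⟩
      have := congrArg Subtype.val h
      rw [hα, hcoe] at this
      exact this.symm
    · refine ⟨t₀ * t₀, T.mul_mem ht₀T ht₀T, ?_⟩
      have := congrArg Subtype.val h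
      rw [pow_two, MulAut.mul_apply, hα, hcoe, hcoe] at this
      simp only at this
      rw [this]
      group

end Main

end Cfsg.Agent.Helper23.KI
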