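import Mathlib
import Cfsg.Prelude.Def_Blocks
import Cfsg.Prelude.Def_BlockRank
import Cfsg.Agent.Helper23.ContribF
import Cfsg.Agent.Helper12.CentralScalar
import Cfsg.Agent.Helper24.Linear

/-!
# Divisibility of class functions vanishing on the `p`-singular elements

A combination of irreducible characters with local-integer coefficients which vanishes on the
`p`-singular elements takes at `g` a value divisible, in the local ring, by `|C_G(g)|`.
Also: `p ^ d * θ(s) / |C(s)|` is a local integer for `θ` in a set of characters of defect `d`.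
-/

set_option autoImplicit false
set_option linter.unusedSectionVars false
set_option linter.unusedVariables false
set_option linter.unusedSimpArgs false
set_option linter.unnecessarySimpa false
set_option linter.style.haveILetI false

namespace Cfsg.Agent.Helper23.KPA

open Cfsg Cfsg.Agent.Helper24 Cfsg.Agent.Helper5.CC Cfsg.Agent.Helper5.Loc
open Cfsg.Agent.Helper23.CM Cfsg.Agent.Helper8.IndHt

variable {G : Type*} [Group G] [Fintype G] {M : Ideal AlgInt}

/-- The scalar by which a central element acts is a root of unity. -/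
theorem exists_central_root (θ : IrrCharacter G) (z : G) (hz : ∀ g : G, z * g = g * z) :
    ∃ ω : ℂ, IsIntegral ℤ ω ∧ ∀ g : G, (θ : G → ℂ) (z * g) = ω * (θ : G → ℂ) g := by
  obtain ⟨ω, hω⟩ := Cfsg.Agent.Helper12.exists_central_scalar θ.2 z hz
  refine ⟨ω, ?_, hω⟩
  have hpow : ∀ k : ℕ, ∀ g : G, (θ : G → ℂ) (z ^ k * g) = ω ^ k * (θ : G → ℂ) g := by
    intro k
    induction k with
    | zero => intro g; simp
    | succ k ih =>
      intro g
      rw [pow_succ', mul_assoc, hω, ih, pow_succ']
      ring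
  have h1 := hpow (orderOf z) 1
  rw [pow_orderOf_eq_one, mul_one] at h1
  have h2 : ω ^ orderOf z = 1 := by
    have h0 := irr_one_ne_zero θ
    have : (ω ^ orderOf z - 1) * (θ : G → ℂ) 1 = 0 := by rw [sub_mul, one_mul, ← h1, sub_self]
    rcases mul_eq_zero.mp this with h | h
    · exact sub_eq_zero.mp h
    · exact absurd h h0
  apply IsIntegral.of_pow (orderOf_pos z)
  rw [h2]
  exact isIntegral_one

/-- The average of an irreducible character over a coset `g Q`, `Q` a subgroup of a subgroup
`C` in which `g` is central, is an algebraic integer. -/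
theorem isIntegral_avg_coset (χ : IrrCharacter G) (g : G) (C : Subgroup G) [Fintype C]
    (hgC : g ∈ C) (hcomm : ∀ c : C, g * (c : G) = (c : G) * g)
    (Q : Subgroup C) [Fintype Q] :
    IsIntegral ℤ ((Nat.card Q : ℂ)⁻¹ * ∑ q : Q, (χ : G → ℂ) (g * ((q : C) : G))) := by
  classical
  haveI : Finite G := Finite.of_fintype G
  haveI : Finite C := Finite.of_fintype C
  haveI : Fintype (IrrCharacter C) := Fintype.ofFinite _
  set z : C := ⟨g, hgC⟩ with hz
  have hzc : ∀ c : C, z * c = c * z := by
    intro c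
    apply Subtype.ext
    exact hcomm c
  -- the restriction of `χ` to `C`
  have hcf : IsClassFunction C (fun c : C => (χ : G → ℂ) (c : G)) := by
    intro c h
    exact isClassFunction_irr χ (c : G) (h : G)
  have hres := IsClassFunction.eq_sum_classInner hcf
  choose m hm using fun θ : IrrCharacter C => rmult_nat C χ θ
  choose ω hωi hω using fun θ : IrrCharacter C => exists_central_root θ z hzc
  choose n hn using fun θ : IrrCharacter C => rmult_nat (G := C) Q θ (trivIrr Q)
  have hval : ∀ c : C, (χ : G → ℂ) (c : G) =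
      ∑ θ : IrrCharacter C, (m θ : ℂ) * (θ : C → ℂ) c := by
    intro c
    have := congrFun hres c
    simp only [Finset.sum_apply, Pi.smul_apply, smul_eq_mul] at this
    rw [this]
    refine Finset.sum_congr rfl fun θ _ => ?_
    rw [← hm θ]
    rfl
  have hQ0 : (Nat.card Q : ℂ) ≠ 0 := by exact_mod_cast (Nat.card_pos (α := Q)).ne'
  have hsumQ : ∀ θ : IrrCharacter C, ∑ q : Q, (θ : C → ℂ) (q : C) = (Nat.card Q : ℂ) * (n θ : ℂ) := by
    intro θ
    rw [← hn θ]
    simp only [rmult, classInner, trivIrr_apply, map_one, mul_one]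
    rw [mul_inv_cancel_left₀ hQ0]
  have key : ∑ q : Q, (χ : G → ℂ) (g * ((q : C) : G)) =
      (Nat.card Q : ℂ) * ∑ θ : IrrCharacter C, (m θ : ℂ) * ω θ * (n θ : ℂ) := by
    have h1 : ∀ q : Q, (χ : G → ℂ) (g * ((q : C) : G)) =
        ∑ θ : IrrCharacter C, (m θ : ℂ) * ω θ * (θ : C → ℂ) (q : C) := by
      intro q
      have : g * ((q : C) : G) = ((z * (q : C) : C) : G) := rfl
      rw [this, hval]
      refine Finset.sum_congr rfl fun θ _ => ?_
      rw [hω θ]
      ring
    rw [Finset.sum_congr rfl (fun q _ => h1 q), Finset.sum_comm, Finset.mul_sum]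
    refine Finset.sum_congr rfl fun θ _ => ?_
    rw [← Finset.mul_sum, hsumQ]
    ring
  rw [key, inv_mul_cancel_left₀ hQ0]
  refine IsIntegral.sum _ fun θ _ => ?_
  have hm' : IsIntegral ℤ ((m θ : ℂ)) := by
    have := isIntegral_algebraMap (R := ℤ) (A := ℂ) (x := (m θ : ℤ))
    simpa using this
  have hn' : IsIntegral ℤ ((n θ : ℂ)) := by
    have := isIntegral_algebraMap (R := ℤ) (A := ℂ) (x := (n θ : ℤ))
    simpa using this
  exact (hm'.mul (hωi θ)).mul hn'

/-- **Vanishing implies divisibility.** -/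
theorem lr_div_card_centralizer {p : ℕ} [hp : Fact p.Prime] (hM : IsPModular p M)
    {ι : Type*} (S : Finset ι) (a : ι → ℂ) (f : ι → IrrCharacter G)
    (ha : ∀ i ∈ S, MemLocalRing M (a i))
    (hvan : ∀ g : G, p ∣ orderOf g → ∑ i ∈ S, a i * (f i : G → ℂ) g = 0) (g : G) :
    MemLocalRing M ((∑ i ∈ S, a i * (f i : G → ℂ) g) /
      (Nat.card (Subgroup.centralizer ({g} : Set G)) : ℂ)) := by
  classical
  haveI : Finite G := Finite.of_fintype G
  have hMp := isPrime_of_isPModular hM
  by_cases hg : p ∣ orderOf g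
  · rw [hvan g hg, zero_div]
    exact memLocalRing_zero hMp
  set C := Subgroup.centralizer ({g} : Set G) with hC
  haveI : Fintype C := Fintype.ofFinite _
  have hgC : g ∈ C := by
    rw [hC, Subgroup.mem_centralizer_iff]
    intro y hy
    rw [Set.mem_singleton_iff] at hy
    rw [hy]
  have hcommC : ∀ c : C, g * (c : G) = (c : G) * g := by
    intro c
    exact (Subgroup.mem_centralizer_iff.mp c.2) g rfl
  obtain ⟨Q⟩ : Nonempty (Sylow p C) := inferInstance
  haveI : Fintype (Q : Subgroup C) := Fintype.ofFinite _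
  set Θ : G → ℂ := fun t => ∑ i ∈ S, a i * (f i : G → ℂ) t with hΘ
  -- the sum over the coset
  have hsing : ∀ q : (Q : Subgroup C), q ≠ 1 → p ∣ orderOf (g * ((q : C) : G)) := by
    intro q hq1
    have hcomm : Commute g ((q : C) : G) := hcommC (q : C)
    obtain ⟨k, hk⟩ := (IsPGroup.iff_orderOf.mp Q.isPGroup') q
    have hk' : orderOf ((q : C) : G) = p ^ k := by
      rw [Subgroup.orderOf_coe, Subgroup.orderOf_coe]; exact hk
    have hk0 : k ≠ 0 := by
      intro h0
      rw [h0, pow_zero, orderOf_eq_one_iff] at hk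
      exact hq1 hk
    have hcop : (orderOf g).Coprime (orderOf ((q : C) : G)) := by
      rw [hk']
      exact Nat.Coprime.pow_right k ((Nat.Prime.coprime_iff_not_dvd hp.out).mpr hg).symm
    rw [hcomm.orderOf_mul_eq_mul_orderOf_of_coprime hcop, hk']
    exact Dvd.dvd.mul_left (dvd_pow_self p hk0) _
  have hsum : ∑ q : (Q : Subgroup C), Θ (g * ((q : C) : G)) = Θ g := by
    rw [Finset.sum_eq_single (1 : (Q : Subgroup C))]
    · simp
    · intro q _ hq1
      exact hvan _ (hsing q hq1)
    · intro h; exact absurd (Finset.mem_univ _) h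
  have hQ0 : (Nat.card (Q : Subgroup C) : ℂ) ≠ 0 := by
    exact_mod_cast (Nat.card_pos (α := (Q : Subgroup C))).ne'
  have h1 : Θ g / (Nat.card (Q : Subgroup C) : ℂ) = ∑ i ∈ S, a i *
      ((Nat.card (Q : Subgroup C) : ℂ)⁻¹ * ∑ q : (Q : Subgroup C),
        (f i : G → ℂ) (g * ((q : C) : G))) := by
    rw [← hsum]
    simp only [hΘ]
    rw [Finset.sum_comm, div_eq_inv_mul, Finset.mul_sum]
    refine Finset.sum_congr rfl fun i _ => ?_
    rw [← Finset.mul_sum]
    ring
  have h2 : MemLocalRing M (Θ g / (Nat.card (Q : Subgroup C) : ℂ)) := by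
    rw [h1]
    refine lr_sum hMp _ _ fun i hi => ?_
    exact lr_mul hMp (ha i hi)
      (memLocalRing_of_isIntegral hMp (isIntegral_avg_coset (f i) g C hgC hcommC (Q : Subgroup C)))
  have hidx : ¬ p ∣ (Q : Subgroup C).index := Q.not_dvd_index
  have hcard : Nat.card C = Nat.card (Q : Subgroup C) * (Q : Subgroup C).index :=
    ((Q : Subgroup C).card_mul_index).symm
  have h3 : Θ g / (Nat.card C : ℂ) = Θ g / (Nat.card (Q : Subgroup C) : ℂ) *
      (((Q : Subgroup C).index : ℂ))⁻¹ := by
    rw [hcard]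
    push_cast
    rw [div_mul_eq_div_div, div_eq_mul_inv (Θ g / _)]
  show MemLocalRing M (Θ g / (Nat.card C : ℂ))
  rw [h3]
  exact lr_mul hMp h2 (memLocalRing_inv_natCast hM hidx)

/-- **Defect integrality**: `p ^ d * θ(s) / |C(s)|` is a local integer for `θ` in a set of
characters of defect `d`. -/
theorem lr_pow_defect_mul_div {p : ℕ} [hp : Fact p.Prime] (hM : IsPModular p M)
    (e : Set (IrrCharacter G)) (θ : IrrCharacter G) (hθ : θ ∈ e) (s : G) :
    MemLocalRing M ((p : ℂ) ^ blockDefect p e * (θ : G → ℂ) s /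
      (Nat.card (Subgroup.centralizer ({s} : Set G)) : ℂ)) := by
  classical
  haveI : Finite G := Finite.of_fintype G
  have hMp := isPrime_of_isPModular hM
  set a := (Nat.card G).factorization p with ha
  set mv := minVal p e with hmv
  have h1 : mv ≤ (irrDeg θ).factorization p := minVal_le p hθ
  have h2 : mv ≤ a := h1.trans (factorization_irrDeg_le_card p θ)
  have hd : blockDefect p e = a - mv := blockDefect_eq p e
  -- the degree
  have hdeg : p ^ mv ∣ irrDeg θ :=
    dvd_trans (pow_dvd_pow p h1) (Nat.ordProj_dvd (irrDeg θ) p)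
  obtain ⟨t, ht⟩ := hdeg
  -- the group order
  set m' := Nat.card G / p ^ a with hm'
  have hGm : Nat.card G = p ^ a * m' := by
    rw [hm', ha]; exact (Nat.ordProj_mul_ordCompl_eq_self (Nat.card G) p).symm
  have hm'p : ¬ p ∣ m' := by
    rw [hm', ha]
    exact Nat.not_dvd_ordCompl hp.out (Nat.card_pos (α := G)).ne'
  -- the class size
  set Cs := Subgroup.centralizer ({s} : Set G) with hCs
  have hidx : Nat.card Cs * Cs.index = Nat.card G := Cs.card_mul_index
  have hC0 : (Nat.card Cs : ℂ) ≠ 0 := by exact_mod_cast (Nat.card_pos (α := Cs)).ne'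
  have hG0 : (Nat.card G : ℂ) ≠ 0 := by exact_mod_cast (Nat.card_pos (α := G)).ne'
  have hθ1 : (θ : G → ℂ) 1 ≠ 0 := irr_one_ne_zero θ
  have hp0 : (p : ℂ) ≠ 0 := by exact_mod_cast hp.out.ne_zero
  have hm0 : (m' : ℂ) ≠ 0 := by
    intro h
    have : m' = 0 := by exact_mod_cast h
    exact hm'p (by rw [this]; exact dvd_zero p)
  have hkey : (p : ℂ) ^ blockDefect p e * (θ : G → ℂ) s / (Nat.card Cs : ℂ) =
      centralChar (θ : G → ℂ) s * ((t : ℂ) * ((m' : ℂ))⁻¹) := by
    unfold centralChar
    rw [← hCs, irrDeg_spec, hd]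
    have hidx' : (Cs.index : ℂ) = (Nat.card G : ℂ) / (Nat.card Cs : ℂ) := by
      rw [eq_div_iff hC0, mul_comm]
      exact_mod_cast hidx
    rw [hidx', hGm, ht]
    push_cast
    have hsplit : (p : ℂ) ^ a = (p : ℂ) ^ (a - mv) * (p : ℂ) ^ mv := by
      rw [← pow_add, Nat.sub_add_cancel h2]
    have hpm : (p : ℂ) ^ mv ≠ 0 := pow_ne_zero _ hp0
    have ht0 : (t : ℂ) ≠ 0 := by
      intro h
      have ht' : t = 0 := by exact_mod_cast h
      have := irrDeg_pos θ
      rw [ht, ht', mul_zero] at this
      exact absurd this (lt_irrefl 0)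
    rw [hsplit]
    field_simp
  rw [hkey]
  exact lr_mul hMp (memLocalRing_of_isIntegral hMp (isIntegral_centralChar θ s))
    (lr_mul hMp (memLocalRing_natCast hMp t) (memLocalRing_inv_natCast hM hm'p))

end Cfsg.Agent.Helper23.KPA
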