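import Mathlib
import Cfsg.Prelude.Def_Blocks
import Cfsg.Prelude.Def_BlockRank
import Cfsg.Prelude.Def_BlockLocal
import Cfsg.Agent.Helper23.KleinPerfA

/-!
# Perfect isometries from sign data: the abstract core

Two finite sets of irreducible characters (of two groups) whose values at the `2`-singular
elements are combinations of sign vectors orthogonal to the `2`-regular columns, and a signed
bijection compatible with the sign vectors, give a perfect two-variable function.
-/

set_option autoImplicit false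
set_option linter.unusedSectionVars false
set_option linter.unusedVariables false
set_option linter.unusedSimpArgs false
set_option linter.unnecessarySimpa false
set_option linter.style.haveILetI false

namespace Cfsg.Agent.Helper23.KPB

open Cfsg Cfsg.Agent.Helper24 Cfsg.Agent.Helper5.CC Cfsg.Agent.Helper5.Loc
open Cfsg.Agent.Helper23.KPA

variable {G : Type*} [Group G] [Fintype G] {H : Type*} [Group H] [Fintype H]
variable {M : Ideal AlgInt}

/-- A sign vector on `BF` orthogonal to the `2`-regular columns. -/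
def IsSignVec (BF : Finset (IrrCharacter G)) (d : IrrCharacter G → ℤ) : Prop :=
  (∀ χ ∈ BF, d χ = 1 ∨ d χ = -1) ∧
    ∀ s : G, ¬ 2 ∣ orderOf s → ∑ χ ∈ BF, (d χ : ℂ) * (χ : G → ℂ) s = 0

/-- The admissible vectors at `g`: local multiples `r d` of sign vectors with `4 r / |C(g)|` a
local integer. -/
def Adm (M : Ideal AlgInt) (BF : Finset (IrrCharacter G)) (g : G) :
    Set (IrrCharacter G → ℂ) :=
  {v | ∃ (d : IrrCharacter G → ℤ) (r : ℂ), IsSignVec BF d ∧ MemLocalRing M r ∧
    MemLocalRing M (4 * r / (Nat.card (Subgroup.centralizer ({g} : Set G)) : ℂ)) ∧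
    v = fun χ => r * (d χ : ℂ)}

/-- The values at every `2`-singular element are sums of admissible vectors. -/
def KleinData (M : Ideal AlgInt) (BF : Finset (IrrCharacter G)) : Prop :=
  ∀ g : G, 2 ∣ orderOf g → ∃ v ∈ AddSubmonoid.closure (Adm M BF g),
    ∀ χ ∈ BF, (χ : G → ℂ) g = v χ

/-- Compatibility of a signed map with the sign vectors of both sides. -/
structure Compat (BF : Finset (IrrCharacter G)) (cF : Finset (IrrCharacter H))
    (I : IrrCharacter H → IrrCharacter G) (ε : IrrCharacter H → ℤ) : Prop where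
  maps : ∀ η ∈ cF, I η ∈ BF
  c1 : ∀ d, IsSignVec BF d → ∀ y : H, ¬ 2 ∣ orderOf y →
    ∑ η ∈ cF, (ε η : ℂ) * (d (I η) : ℂ) * (η : H → ℂ) y = 0
  c2 : ∀ d', IsSignVec cF d' → ∀ x : G, ¬ 2 ∣ orderOf x →
    ∑ η ∈ cF, (ε η : ℂ) * (d' η : ℂ) * (I η : G → ℂ) x = 0
  c3 : ∀ d d', IsSignVec BF d → IsSignVec cF d' →
    ∃ m : ℤ, ∑ η ∈ cF, ε η * d (I η) * d' η = 4 * m

/-- The two-variable function of a signed map. -/
noncomputable def mu (cF : Finset (IrrCharacter H)) (I : IrrCharacter H → IrrCharacter G)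
    (ε : IrrCharacter H → ℤ) (x : G) (y : H) : ℂ :=
  ∑ η ∈ cF, (ε η : ℂ) * (I η : G → ℂ) x * (η : H → ℂ) y

section Core

variable (BF : Finset (IrrCharacter G)) (cF : Finset (IrrCharacter H))
  (I : IrrCharacter H → IrrCharacter G) (ε : IrrCharacter H → ℤ)

/-- Separation: singular on the left, regular on the right. -/
theorem mu_eq_zero_left (hdB : KleinData M BF) (hcompat : Compat BF cF I ε) (x : G) (y : H)
    (hx : 2 ∣ orderOf x) (hy : ¬ 2 ∣ orderOf y) : mu cF I ε x y = 0 := by
  obtain ⟨v, hv, hχ⟩ := hdB x hx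
  have h1 : mu cF I ε x y = ∑ η ∈ cF, (ε η : ℂ) * v (I η) * (η : H → ℂ) y := by
    unfold mu
    refine Finset.sum_congr rfl fun η hη => ?_
    rw [hχ (I η) (hcompat.maps η hη)]
  rw [h1]
  clear h1 hχ
  induction hv using AddSubmonoid.closure_induction with
  | mem v hv =>
    obtain ⟨d, r, hd, -, -, rfl⟩ := hv
    have := hcompat.c1 d hd y hy
    calc ∑ η ∈ cF, (ε η : ℂ) * (r * (d (I η) : ℂ)) * (η : H → ℂ) y
        = r * ∑ η ∈ cF, (ε η : ℂ) * (d (I η) : ℂ) * (η : H → ℂ) y := by
          rw [Finset.mul_sum]; refine Finset.sum_congr rfl fun η _ => ?_; ring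
      _ = 0 := by rw [this, mul_zero]
  | zero => simp
  | add v w _ _ ihv ihw =>
    calc ∑ η ∈ cF, (ε η : ℂ) * (v + w) (I η) * (η : H → ℂ) y
        = ∑ η ∈ cF, (ε η : ℂ) * v (I η) * (η : H → ℂ) y +
          ∑ η ∈ cF, (ε η : ℂ) * w (I η) * (η : H → ℂ) y := by
          rw [← Finset.sum_add_distrib]
          refine Finset.sum_congr rfl fun η _ => ?_
          rw [Pi.add_apply]; ring
      _ = 0 := by rw [ihv, ihw, add_zero]

/-- Separation: regular on the left, singular on the right. -/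
theorem mu_eq_zero_right (hdc : KleinData M cF) (hcompat : Compat BF cF I ε) (x : G) (y : H)
    (hx : ¬ 2 ∣ orderOf x) (hy : 2 ∣ orderOf y) : mu cF I ε x y = 0 := by
  obtain ⟨w, hw, hη⟩ := hdc y hy
  have h1 : mu cF I ε x y = ∑ η ∈ cF, (ε η : ℂ) * w η * (I η : G → ℂ) x := by
    unfold mu
    refine Finset.sum_congr rfl fun η hη' => ?_
    rw [hη η hη']
    ring
  rw [h1]
  clear h1 hη
  induction hw using AddSubmonoid.closure_induction with
  | mem w hw =>
    obtain ⟨d, r, hd, -, -, rfl⟩ := hw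
    have := hcompat.c2 d hd x hx
    calc ∑ η ∈ cF, (ε η : ℂ) * (r * (d η : ℂ)) * (I η : G → ℂ) x
        = r * ∑ η ∈ cF, (ε η : ℂ) * (d η : ℂ) * (I η : G → ℂ) x := by
          rw [Finset.mul_sum]; refine Finset.sum_congr rfl fun η _ => ?_; ring
      _ = 0 := by rw [this, mul_zero]
  | zero => simp
  | add v w _ _ ihv ihw =>
    calc ∑ η ∈ cF, (ε η : ℂ) * (v + w) η * (I η : G → ℂ) x
        = ∑ η ∈ cF, (ε η : ℂ) * v η * (I η : G → ℂ) x +
          ∑ η ∈ cF, (ε η : ℂ) * w η * (I η : G → ℂ) x := by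
          rw [← Finset.sum_add_distrib]
          refine Finset.sum_congr rfl fun η _ => ?_
          rw [Pi.add_apply]; ring
      _ = 0 := by rw [ihv, ihw, add_zero]

/-- Integrality when both arguments are singular. -/
theorem lr_mu_singular (hMp : M.IsPrime) (hcompat : Compat BF cF I ε) (x : G) (y : H)
    (v : IrrCharacter G → ℂ) (hv : v ∈ AddSubmonoid.closure (Adm M BF x))
    (w : IrrCharacter H → ℂ) (hw : w ∈ AddSubmonoid.closure (Adm M cF y)) :
    MemLocalRing M ((∑ η ∈ cF, (ε η : ℂ) * v (I η) * w η) /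
        (Nat.card (Subgroup.centralizer ({x} : Set G)) : ℂ)) ∧
      MemLocalRing M ((∑ η ∈ cF, (ε η : ℂ) * v (I η) * w η) /
        (Nat.card (Subgroup.centralizer ({y} : Set H)) : ℂ)) := by
  induction hv using AddSubmonoid.closure_induction with
  | mem v hv =>
    obtain ⟨d, r, hd, hr, hr4, rfl⟩ := hv
    induction hw using AddSubmonoid.closure_induction with
    | mem w hw =>
      obtain ⟨d', r', hd', hr', hr4', rfl⟩ := hw
      obtain ⟨m, hm⟩ := hcompat.c3 d d' hd hd'
      have hsum : ∑ η ∈ cF, (ε η : ℂ) * (r * (d (I η) : ℂ)) * (r' * (d' η : ℂ)) =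
          r * r' * (4 * (m : ℂ)) := by
        have h1 : ∑ η ∈ cF, (ε η : ℂ) * (r * (d (I η) : ℂ)) * (r' * (d' η : ℂ)) =
            r * r' * ((∑ η ∈ cF, ε η * d (I η) * d' η : ℤ) : ℂ) := by
          rw [Int.cast_sum, Finset.mul_sum]
          refine Finset.sum_congr rfl fun η _ => ?_
          push_cast
          ring
        rw [h1, hm]
        push_cast
        ring
      rw [hsum]
      constructor
      · have : r * r' * (4 * (m : ℂ)) / (Nat.card (Subgroup.centralizer ({x} : Set G)) : ℂ) =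
            (4 * r / (Nat.card (Subgroup.centralizer ({x} : Set G)) : ℂ)) * (r' * (m : ℂ)) := by
          ring
        rw [this]
        exact lr_mul hMp hr4 (lr_mul hMp hr' (memLocalRing_intCast hMp m))
      · have : r * r' * (4 * (m : ℂ)) / (Nat.card (Subgroup.centralizer ({y} : Set H)) : ℂ) =
            (4 * r' / (Nat.card (Subgroup.centralizer ({y} : Set H)) : ℂ)) * (r * (m : ℂ)) := by
          ring
        rw [this]
        exact lr_mul hMp hr4' (lr_mul hMp hr (memLocalRing_intCast hMp m))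
    | zero =>
      simp only [Pi.zero_apply, mul_zero, Finset.sum_const_zero, zero_div]
      exact ⟨memLocalRing_zero hMp, memLocalRing_zero hMp⟩
    | add w w' _ _ ihw ihw' =>
      have hsplit : ∑ η ∈ cF, (ε η : ℂ) * (r * (d (I η) : ℂ)) * (w + w') η =
          ∑ η ∈ cF, (ε η : ℂ) * (r * (d (I η) : ℂ)) * w η +
          ∑ η ∈ cF, (ε η : ℂ) * (r * (d (I η) : ℂ)) * w' η := by
        rw [← Finset.sum_add_distrib]
        refine Finset.sum_congr rfl fun η _ => ?_
        rw [Pi.add_apply]; ring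
      rw [hsplit, add_div, add_div]
      exact ⟨lr_add hMp ihw.1 ihw'.1, lr_add hMp ihw.2 ihw'.2⟩
  | zero =>
    simp only [Pi.zero_apply, mul_zero, zero_mul, Finset.sum_const_zero, zero_div]
    exact ⟨memLocalRing_zero hMp, memLocalRing_zero hMp⟩
  | add v v' _ _ ihv ihv' =>
    have hsplit : ∑ η ∈ cF, (ε η : ℂ) * (v + v') (I η) * w η =
        ∑ η ∈ cF, (ε η : ℂ) * v (I η) * w η + ∑ η ∈ cF, (ε η : ℂ) * v' (I η) * w η := by
      rw [← Finset.sum_add_distrib]
      refine Finset.sum_congr rfl fun η _ => ?_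
      rw [Pi.add_apply]; ring
    rw [hsplit, add_div, add_div]
    exact ⟨lr_add hMp ihv.1 ihv'.1, lr_add hMp ihv.2 ihv'.2⟩

/-- **The abstract core.** -/
theorem isPerfectFun_mu (hM : IsPModular 2 M) (hdB : KleinData M BF) (hdc : KleinData M cF)
    (hcompat : Compat BF cF I ε) : IsPerfectFun 2 M (mu cF I ε) := by
  classical
  haveI : Fact (Nat.Prime 2) := ⟨Nat.prime_two⟩
  have hMp := isPrime_of_isPModular hM
  intro x y
  by_cases hx : 2 ∣ orderOf x
  · by_cases hy : 2 ∣ orderOf y
    · -- both singular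
      obtain ⟨v, hv, hχ⟩ := hdB x hx
      obtain ⟨w, hw, hη⟩ := hdc y hy
      have h1 : mu cF I ε x y = ∑ η ∈ cF, (ε η : ℂ) * v (I η) * w η := by
        unfold mu
        refine Finset.sum_congr rfl fun η hη' => ?_
        rw [hχ (I η) (hcompat.maps η hη'), hη η hη']
      rw [h1]
      obtain ⟨h2, h3⟩ := lr_mu_singular BF cF I ε hMp hcompat x y v hv w hw
      refine ⟨h2, h3, Or.inl ?_⟩
      unfold IsPRegular
      exact ⟨fun h => absurd hx h, fun h => absurd hy h⟩
    · rw [mu_eq_zero_left BF cF I ε hdB hcompat x y hx hy, zero_div, zero_div]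
      exact ⟨memLocalRing_zero hMp, memLocalRing_zero hMp, Or.inr rfl⟩
  · by_cases hy : 2 ∣ orderOf y
    · rw [mu_eq_zero_right BF cF I ε hdc hcompat x y hx hy, zero_div, zero_div]
      exact ⟨memLocalRing_zero hMp, memLocalRing_zero hMp, Or.inr rfl⟩
    · -- both regular
      refine ⟨?_, ?_, Or.inl ?_⟩
      · have h1 := lr_div_card_centralizer (G := G) hM cF
          (fun η => (ε η : ℂ) * (η : H → ℂ) y) I
          (fun η _ => lr_mul hMp (memLocalRing_intCast hMp _)
            (memLocalRing_of_isIntegral hMp (irr_isIntegral η y)))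
          (fun g hg => by
            have := mu_eq_zero_left BF cF I ε hdB hcompat g y hg hy
            unfold mu at this
            rw [← this]
            refine Finset.sum_congr rfl fun η _ => ?_
            ring) x
        have h2 : mu cF I ε x y =
            ∑ η ∈ cF, (fun η => (ε η : ℂ) * (η : H → ℂ) y) η * (I η : G → ℂ) x := by
          unfold mu
          refine Finset.sum_congr rfl fun η _ => ?_
          ring
        rw [h2]
        exact h1
      · have h1 := lr_div_card_centralizer (G := H) hM cF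
          (fun η => (ε η : ℂ) * (I η : G → ℂ) x) (fun η => η)
          (fun η _ => lr_mul hMp (memLocalRing_intCast hMp _)
            (memLocalRing_of_isIntegral hMp (irr_isIntegral (I η) x)))
          (fun g hg => by
            have := mu_eq_zero_right BF cF I ε hdc hcompat x g hx hg
            unfold mu at this
            rw [← this]) y
        exact h1
      · unfold IsPRegular
        exact ⟨fun _ => hy, fun _ => hx⟩

end Core

/-! ### Constructing compatible signed bijections -/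

section Construct

variable (BF : Finset (IrrCharacter G)) (cF : Finset (IrrCharacter H))

/-- A bijection between two finite sets of the same positive cardinality, as a total map. -/
theorem exists_bijOn (hcard : cF.card = BF.card) (hpos : 0 < BF.card) :
    ∃ I : IrrCharacter H → IrrCharacter G, Set.BijOn I (cF : Set (IrrCharacter H))
      (BF : Set (IrrCharacter G)) := by
  classical
  obtain ⟨χ₀, hχ₀⟩ := Finset.card_pos.mp hpos
  set e : cF ≃ BF := Finset.equivOfCardEq hcard with he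
  refine ⟨fun η => if h : η ∈ cF then ((e ⟨η, h⟩ : BF) : IrrCharacter G) else χ₀, ?_, ?_, ?_⟩
  · intro η hη
    have hη' : η ∈ cF := hη
    simp only [dif_pos hη']
    exact (e ⟨η, hη'⟩).2
  · intro η hη η' hη' h
    have h1 : η ∈ cF := hη
    have h2 : η' ∈ cF := hη'
    simp only [dif_pos h1, dif_pos h2] at h
    have := e.injective (Subtype.ext h)
    exact congrArg Subtype.val this
  · intro χ hχ
    have hχ' : χ ∈ BF := hχ
    refine ⟨((e.symm ⟨χ, hχ'⟩ : cF) : IrrCharacter H), (e.symm ⟨χ, hχ'⟩).2, ?_⟩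
    have h1 : ((e.symm ⟨χ, hχ'⟩ : cF) : IrrCharacter H) ∈ cF := (e.symm ⟨χ, hχ'⟩).2
    simp only [dif_pos h1]
    simp

theorem sign_mul_self {BF : Finset (IrrCharacter G)} {d : IrrCharacter G → ℤ}
    (hd : IsSignVec BF d) {χ : IrrCharacter G} (hχ : χ ∈ BF) : d χ * d χ = 1 := by
  rcases hd.1 χ hχ with h | h <;> rw [h] <;> norm_num

/-- Reindexing along a bijection. -/
theorem sum_comp_bijOn {I : IrrCharacter H → IrrCharacter G}
    (hI : Set.BijOn I (cF : Set (IrrCharacter H)) (BF : Set (IrrCharacter G)))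
    {A : Type*} [AddCommMonoid A] (f : IrrCharacter G → A) :
    ∑ η ∈ cF, f (I η) = ∑ χ ∈ BF, f χ :=
  Finset.sum_nbij I (fun η hη => hI.1 hη) hI.2.1 hI.2.2 (fun _ _ => rfl)

/-- **The case of a unique sign vector on both sides.** -/
theorem exists_compat_of_unique (hcard : cF.card = BF.card) (hcard4 : cF.card = 4)
    (dB : IrrCharacter G → ℤ) (hdB : IsSignVec BF dB)
    (dc : IrrCharacter H → ℤ) (hdc : IsSignVec cF dc)
    (huB : ∀ d, IsSignVec BF d → (∀ χ ∈ BF, d χ = dB χ) ∨ (∀ χ ∈ BF, d χ = - dB χ))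
    (huc : ∀ d, IsSignVec cF d → (∀ η ∈ cF, d η = dc η) ∨ (∀ η ∈ cF, d η = - dc η)) :
    ∃ (I : IrrCharacter H → IrrCharacter G) (ε : IrrCharacter H → ℤ),
      Set.BijOn I (cF : Set (IrrCharacter H)) (BF : Set (IrrCharacter G)) ∧
      (∀ η ∈ cF, ε η = 1 ∨ ε η = -1) ∧ Compat BF cF I ε := by
  classical
  obtain ⟨I, hI⟩ := exists_bijOn BF cF hcard (by rw [← hcard, hcard4]; norm_num)
  have hmaps : ∀ η ∈ cF, I η ∈ BF := fun η hη => hI.1 hη
  refine ⟨I, fun η => dB (I η) * dc η, hI, ?_, ⟨hmaps, ?_, ?_, ?_⟩⟩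
  · intro η hη
    show dB (I η) * dc η = 1 ∨ dB (I η) * dc η = -1
    rcases hdB.1 (I η) (hmaps η hη) with h | h <;> rcases hdc.1 η hη with h' | h' <;>
      rw [h, h'] <;> norm_num
  · intro d hd y hy
    have h0 := hdc.2 y hy
    rcases huB d hd with h | h
    · rw [← h0]
      refine Finset.sum_congr rfl fun η hη => ?_
      rw [h (I η) (hmaps η hη)]
      have := sign_mul_self hdB (hmaps η hη)
      have hc : ((dB (I η) : ℤ) : ℂ) * ((dB (I η) : ℤ) : ℂ) = 1 := by exact_mod_cast this
      push_cast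
      linear_combination ((dc η : ℂ) * (η : H → ℂ) y) * hc
    · have : ∑ η ∈ cF, ((dB (I η) * dc η : ℤ) : ℂ) * (d (I η) : ℂ) * (η : H → ℂ) y =
          - ∑ η ∈ cF, (dc η : ℂ) * (η : H → ℂ) y := by
        rw [← Finset.sum_neg_distrib]
        refine Finset.sum_congr rfl fun η hη => ?_
        rw [h (I η) (hmaps η hη)]
        have := sign_mul_self hdB (hmaps η hη)
        have hc : ((dB (I η) : ℤ) : ℂ) * ((dB (I η) : ℤ) : ℂ) = 1 := by exact_mod_cast this
        push_cast
        linear_combination (-(dc η : ℂ) * (η : H → ℂ) y) * hc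
      rw [this, h0, neg_zero]
  · intro d' hd' x hx
    have h0 : ∑ η ∈ cF, (dB (I η) : ℂ) * (I η : G → ℂ) x = 0 := by
      rw [sum_comp_bijOn BF cF hI (fun χ => (dB χ : ℂ) * (χ : G → ℂ) x)]
      exact hdB.2 x hx
    rcases huc d' hd' with h | h
    · rw [← h0]
      refine Finset.sum_congr rfl fun η hη => ?_
      rw [h η hη]
      have := sign_mul_self hdc hη
      have hc : ((dc η : ℤ) : ℂ) * ((dc η : ℤ) : ℂ) = 1 := by exact_mod_cast this
      push_cast
      linear_combination ((dB (I η) : ℂ) * (I η : G → ℂ) x) * hc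
    · have : ∑ η ∈ cF, ((dB (I η) * dc η : ℤ) : ℂ) * (d' η : ℂ) * (I η : G → ℂ) x =
          - ∑ η ∈ cF, (dB (I η) : ℂ) * (I η : G → ℂ) x := by
        rw [← Finset.sum_neg_distrib]
        refine Finset.sum_congr rfl fun η hη => ?_
        rw [h η hη]
        have := sign_mul_self hdc hη
        have hc : ((dc η : ℤ) : ℂ) * ((dc η : ℤ) : ℂ) = 1 := by exact_mod_cast this
        push_cast
        linear_combination (-(dB (I η) : ℂ) * (I η : G → ℂ) x) * hc
      rw [this, h0, neg_zero]
  · intro d d' hd hd'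
    rcases huB d hd with h | h <;> rcases huc d' hd' with h' | h'
    · refine ⟨1, ?_⟩
      have : ∀ η ∈ cF, dB (I η) * dc η * d (I η) * d' η = 1 := by
        intro η hη
        rw [h _ (hmaps η hη), h' η hη]
        have h1 := sign_mul_self hdB (hmaps η hη)
        have h2 := sign_mul_self hdc hη
        linear_combination (dc η * dc η) * h1 + h2
      rw [Finset.sum_congr rfl this, Finset.sum_const, hcard4]
      norm_num
    · refine ⟨-1, ?_⟩
      have : ∀ η ∈ cF, dB (I η) * dc η * d (I η) * d' η = -1 := by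
        intro η hη
        rw [h _ (hmaps η hη), h' η hη]
        have h1 := sign_mul_self hdB (hmaps η hη)
        have h2 := sign_mul_self hdc hη
        linear_combination (-(dc η * dc η)) * h1 - h2
      rw [Finset.sum_congr rfl this, Finset.sum_const, hcard4]
      norm_num
    · refine ⟨-1, ?_⟩
      have : ∀ η ∈ cF, dB (I η) * dc η * d (I η) * d' η = -1 := by
        intro η hη
        rw [h _ (hmaps η hη), h' η hη]
        have h1 := sign_mul_self hdB (hmaps η hη)
        have h2 := sign_mul_self hdc hη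
        linear_combination (-(dc η * dc η)) * h1 - h2
      rw [Finset.sum_congr rfl this, Finset.sum_const, hcard4]
      norm_num
    · refine ⟨1, ?_⟩
      have : ∀ η ∈ cF, dB (I η) * dc η * d (I η) * d' η = 1 := by
        intro η hη
        rw [h _ (hmaps η hη), h' η hη]
        have h1 := sign_mul_self hdB (hmaps η hη)
        have h2 := sign_mul_self hdc hη
        linear_combination (dc η * dc η) * h1 + h2
      rw [Finset.sum_congr rfl this, Finset.sum_const, hcard4]
      norm_num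

/-- A sign vector has sum zero when all characters agree on the regular elements. -/
theorem sum_sign_eq_zero {BF : Finset (IrrCharacter G)}
    (hcB : ∀ χ ∈ BF, ∀ ψ ∈ BF, ∀ s : G, ¬ 2 ∣ orderOf s → (χ : G → ℂ) s = (ψ : G → ℂ) s)
    {d : IrrCharacter G → ℤ} (hd : IsSignVec BF d) : ∑ χ ∈ BF, d χ = 0 := by
  classical
  by_cases hne : BF.Nonempty
  swap
  · rw [Finset.not_nonempty_iff_eq_empty.mp hne, Finset.sum_empty]
  obtain ⟨χ₀, hχ₀⟩ := hne
  have h1reg : ¬ 2 ∣ orderOf (1 : G) := by rw [orderOf_one]; norm_num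
  have h0 := hd.2 1 h1reg
  have h1 : ∑ χ ∈ BF, (d χ : ℂ) * (χ : G → ℂ) 1 = (∑ χ ∈ BF, (d χ : ℂ)) * (χ₀ : G → ℂ) 1 := by
    rw [Finset.sum_mul]
    refine Finset.sum_congr rfl fun χ hχ => ?_
    rw [hcB χ hχ χ₀ hχ₀ 1 h1reg]
  rw [h1] at h0
  rcases mul_eq_zero.mp h0 with h | h
  · have : ((∑ χ ∈ BF, d χ : ℤ) : ℂ) = 0 := by rw [Int.cast_sum]; exact h
    exact_mod_cast this
  · exact absurd h (irr_one_ne_zero χ₀)

/-- **The case where all characters agree on the regular elements.** -/
theorem exists_compat_of_const (hcard : cF.card = BF.card) (hcard4 : cF.card = 4)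
    (hcB : ∀ χ ∈ BF, ∀ ψ ∈ BF, ∀ s : G, ¬ 2 ∣ orderOf s → (χ : G → ℂ) s = (ψ : G → ℂ) s)
    (hcc : ∀ χ ∈ cF, ∀ ψ ∈ cF, ∀ s : H, ¬ 2 ∣ orderOf s → (χ : H → ℂ) s = (ψ : H → ℂ) s) :
    ∃ (I : IrrCharacter H → IrrCharacter G) (ε : IrrCharacter H → ℤ),
      Set.BijOn I (cF : Set (IrrCharacter H)) (BF : Set (IrrCharacter G)) ∧
      (∀ η ∈ cF, ε η = 1 ∨ ε η = -1) ∧ Compat BF cF I ε := by
  classical
  obtain ⟨I, hI⟩ := exists_bijOn BF cF hcard (by rw [← hcard, hcard4]; norm_num)
  have hmaps : ∀ η ∈ cF, I η ∈ BF := fun η hη => hI.1 hη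
  have hcne : cF.Nonempty := Finset.card_pos.mp (by rw [hcard4]; norm_num)
  obtain ⟨η₀, hη₀⟩ := hcne
  refine ⟨I, fun _ => 1, hI, fun _ _ => Or.inl rfl, ⟨hmaps, ?_, ?_, ?_⟩⟩
  · intro d hd y hy
    have hs := sum_sign_eq_zero hcB hd
    have h1 : ∑ η ∈ cF, d (I η) = 0 := by
      rw [sum_comp_bijOn BF cF hI d]; exact hs
    have h2 : ∑ η ∈ cF, (((1 : ℤ) : ℂ)) * (d (I η) : ℂ) * (η : H → ℂ) y =
        ((∑ η ∈ cF, d (I η) : ℤ) : ℂ) * (η₀ : H → ℂ) y := by
      rw [Int.cast_sum, Finset.sum_mul]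
      refine Finset.sum_congr rfl fun η hη => ?_
      rw [hcc η hη η₀ hη₀ y hy]
      push_cast
      ring
    rw [h2, h1]
    simp
  · intro d' hd' x hx
    have hs := sum_sign_eq_zero hcc hd'
    have h2 : ∑ η ∈ cF, (((1 : ℤ) : ℂ)) * (d' η : ℂ) * (I η : G → ℂ) x =
        ((∑ η ∈ cF, d' η : ℤ) : ℂ) * (I η₀ : G → ℂ) x := by
      rw [Int.cast_sum, Finset.sum_mul]
      refine Finset.sum_congr rfl fun η hη => ?_
      rw [hcB (I η) (hmaps η hη) (I η₀) (hmaps η₀ hη₀) x hx]
      push_cast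
      ring
    rw [h2, hs]
    simp
  · intro d d' hd hd'
    have hs := sum_sign_eq_zero hcB hd
    have hs' := sum_sign_eq_zero hcc hd'
    have h1 : ∑ η ∈ cF, d (I η) = 0 := by
      rw [sum_comp_bijOn BF cF hI d]; exact hs
    have hdvd : (4 : ℤ) ∣ ∑ η ∈ cF, (1 + d (I η)) * (1 + d' η) := by
      apply Finset.dvd_sum
      intro η hη
      rcases hd.1 (I η) (hmaps η hη) with h | h <;> rcases hd'.1 η hη with h' | h' <;>
        rw [h, h'] <;> norm_num
    obtain ⟨k, hk⟩ := hdvd
    refine ⟨k - 1, ?_⟩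
    have hexp : ∑ η ∈ cF, (1 + d (I η)) * (1 + d' η) =
        (cF.card : ℤ) + ∑ η ∈ cF, d (I η) + ∑ η ∈ cF, d' η + ∑ η ∈ cF, 1 * d (I η) * d' η := by
      have : ∀ η ∈ cF, (1 + d (I η)) * (1 + d' η) = 1 + d (I η) + d' η + 1 * d (I η) * d' η := by
        intro η _; ring
      rw [Finset.sum_congr rfl this, Finset.sum_add_distrib, Finset.sum_add_distrib,
        Finset.sum_add_distrib, Finset.sum_const]
      simp
    rw [hexp, h1, hs', hcard4] at hk
    push_cast at hk
    linarith

end Construct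

end Cfsg.Agent.Helper23.KPB
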