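import Mathlib
import Cfsg.Prelude.Def_Blocks
import Cfsg.Prelude.Def_BlockRank
import Cfsg.Agent.Helper23.KleinPerfB
import Cfsg.Agent.Helper23.ContribF
import Cfsg.Agent.Helper5.BlockRankOne
import Cfsg.Agent.Helper8.RankTrace

/-!
# Sign vectors of a set of four characters of regular rank three or one
-/

set_option autoImplicit false
set_option linter.unusedSectionVars false
set_option linter.unusedVariables false
set_option linter.unusedSimpArgs false
set_option linter.unnecessarySimpa false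
set_option linter.style.haveILetI false

namespace Cfsg.Agent.Helper23.KPC

open Cfsg Cfsg.Agent.Helper24 Cfsg.Agent.Helper5.CC Cfsg.Agent.Helper5.Loc
open Cfsg.Agent.Helper23.KPB Cfsg.Agent.Helper23.CM

variable {G : Type*} [Group G] [Fintype G] {M : Ideal AlgInt}

/-- **Rank `k - 1`: the sign vector is unique up to sign.** -/
theorem sign_unique (BF : Finset (IrrCharacter G)) (B : Set (IrrCharacter G))
    (hBF : ∀ χ, χ ∈ BF ↔ χ ∈ B) (hrank : blockRank 2 B + 1 = BF.card)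
    (d₁ d₂ : IrrCharacter G → ℤ) (h₁ : IsSignVec BF d₁) (h₂ : IsSignVec BF d₂) :
    (∀ χ ∈ BF, d₂ χ = d₁ χ) ∨ (∀ χ ∈ BF, d₂ χ = - d₁ χ) := by
  classical
  set v : BF → (G → ℂ) := fun χ => pRegularPart 2 ((χ : IrrCharacter G) : G → ℂ) with hv
  set T : (BF → ℂ) →ₗ[ℂ] (G → ℂ) := Fintype.linearCombination ℂ v with hT
  have hrange : LinearMap.range T = Submodule.span ℂ
      ((fun χ : IrrCharacter G => pRegularPart 2 (χ : G → ℂ)) '' B) := by
    rw [hT, Fintype.range_linearCombination]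
    congr 1
    ext f
    constructor
    · rintro ⟨χ, rfl⟩
      exact ⟨χ, (hBF _).mp χ.2, rfl⟩
    · rintro ⟨χ, hχ, rfl⟩
      exact ⟨⟨χ, (hBF χ).mpr hχ⟩, rfl⟩
  have hfr : Module.finrank ℂ (LinearMap.range T) = blockRank 2 B := by
    rw [hrange]; rfl
  have hdom : Module.finrank ℂ (BF → ℂ) = BF.card := by
    rw [Module.finrank_fintype_fun_eq_card, Fintype.card_coe]
  have hker : Module.finrank ℂ (LinearMap.ker T) = 1 := by
    have := LinearMap.finrank_range_add_finrank_ker T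
    rw [hfr, hdom] at this
    omega
  -- the sign vectors lie in the kernel
  have hmem : ∀ d : IrrCharacter G → ℤ, IsSignVec BF d →
      (fun χ : BF => ((d (χ : IrrCharacter G) : ℤ) : ℂ)) ∈ LinearMap.ker T := by
    intro d hd
    rw [LinearMap.mem_ker, hT, Fintype.linearCombination_apply]
    funext s
    simp only [Finset.sum_apply, Pi.smul_apply, smul_eq_mul, Pi.zero_apply, hv]
    rw [Finset.sum_coe_sort BF (fun χ => (d χ : ℂ) * pRegularPart 2 (χ : G → ℂ) s)]
    by_cases hs : 2 ∣ orderOf s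
    · apply Finset.sum_eq_zero
      intro χ _
      unfold pRegularPart IsPRegular
      rw [if_neg (not_not.mpr hs), mul_zero]
    · rw [← hd.2 s hs]
      refine Finset.sum_congr rfl fun χ _ => ?_
      unfold pRegularPart IsPRegular
      rw [if_pos hs]
  have hne : BF.Nonempty := by
    apply Finset.card_pos.mp
    omega
  obtain ⟨χ₀, hχ₀⟩ := hne
  set u₁ : LinearMap.ker T := ⟨_, hmem d₁ h₁⟩ with hu₁
  set u₂ : LinearMap.ker T := ⟨_, hmem d₂ h₂⟩ with hu₂
  have hu₁0 : u₁ ≠ 0 := by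
    intro h0
    have h1 := congrArg Subtype.val h0
    have h2 := congrFun h1 ⟨χ₀, hχ₀⟩
    simp only [hu₁] at h2
    have h3 : ((d₁ χ₀ : ℤ) : ℂ) = 0 := h2
    have h4 : d₁ χ₀ = 0 := by exact_mod_cast h3
    rcases h₁.1 χ₀ hχ₀ with h | h <;> rw [h] at h4 <;> norm_num at h4
  obtain ⟨c, hc⟩ := (finrank_eq_one_iff_of_nonzero' u₁ hu₁0).mp hker u₂
  have hc' : ∀ χ ∈ BF, c * (d₁ χ : ℂ) = (d₂ χ : ℂ) := by
    intro χ hχ
    have h1 := congrArg Subtype.val hc
    have h2 := congrFun h1 ⟨χ, hχ⟩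
    exact h2
  have hcsq : c = 1 ∨ c = -1 := by
    have h1 := hc' χ₀ hχ₀
    rcases h₁.1 χ₀ hχ₀ with h | h <;> rcases h₂.1 χ₀ hχ₀ with h' | h' <;>
      rw [h, h'] at h1 <;> push_cast at h1
    · left; linear_combination h1
    · right; linear_combination h1
    · right; linear_combination -h1
    · left; linear_combination -h1
  rcases hcsq with h | h
  · left
    intro χ hχ
    have := hc' χ hχ
    rw [h, one_mul] at this
    exact_mod_cast this.symm
  · right
    intro χ hχ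
    have := hc' χ hχ
    rw [h] at this
    have h2 : ((d₂ χ : ℤ) : ℂ) = ((- d₁ χ : ℤ) : ℂ) := by
      push_cast
      rw [← this]; ring
    exact_mod_cast h2

/-- The real Gram diagonal. -/
theorem gram_self_eq_ofReal (ψ : IrrCharacter G) :
    gram 2 ψ ψ = (((Nat.card G : ℝ)⁻¹ * ∑ s : G,
      (if 2 ∣ orderOf s then (0 : ℝ) else Complex.normSq ((ψ : G → ℂ) s)) : ℝ) : ℂ) := by
  simp only [gram, classInner, rr]
  push_cast
  congr 1
  refine Finset.sum_congr rfl fun s _ => ?_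
  by_cases hs : 2 ∣ orderOf s
  · rw [if_pos hs, if_pos hs]; simp
  · rw [if_neg hs, if_neg hs, one_mul, Complex.mul_conj]

/-- **Rank one: all members agree on the regular elements.** -/
theorem const_of_rank_one (hM : IsPModular 2 M) (BF : Finset (IrrCharacter G))
    (B : Set (IrrCharacter G)) (hB : IsPBlock M B) (hBF : ∀ χ, χ ∈ BF ↔ χ ∈ B)
    (hcard : BF.card = 4) (hdef : blockDefect 2 B = 2) (hrank : blockRank 2 B = 1) :
    ∀ χ ∈ BF, ∀ ψ ∈ BF, ∀ s : G, ¬ 2 ∣ orderOf s → (χ : G → ℂ) s = (ψ : G → ℂ) s := by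
  classical
  haveI : Fact (Nat.Prime 2) := ⟨Nat.prime_two⟩
  haveI : Finite G := Finite.of_fintype G
  haveI : Fintype (IrrCharacter G) := Fintype.ofFinite _
  set γ : IrrCharacter G → ℝ := fun ψ => (Nat.card G : ℝ)⁻¹ * ∑ s : G,
      (if 2 ∣ orderOf s then (0 : ℝ) else Complex.normSq ((ψ : G → ℂ) s)) with hγ
  have hgram : ∀ ψ, gram 2 ψ ψ = ((γ ψ : ℝ) : ℂ) := fun ψ => gram_self_eq_ofReal ψ
  have hG0 : (0 : ℝ) < (Nat.card G : ℝ) := by exact_mod_cast Nat.card_pos (α := G)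
  have hγpos : ∀ ψ, 0 < γ ψ := by
    intro ψ
    simp only [hγ]
    apply mul_pos (inv_pos.mpr hG0)
    have h1 : (if 2 ∣ orderOf (1 : G) then (0 : ℝ) else Complex.normSq ((ψ : G → ℂ) 1)) ≤
        ∑ s : G, (if 2 ∣ orderOf s then (0 : ℝ) else Complex.normSq ((ψ : G → ℂ) s)) :=
      Finset.single_le_sum (f := fun s : G =>
        (if 2 ∣ orderOf s then (0 : ℝ) else Complex.normSq ((ψ : G → ℂ) s)))
        (fun s _ => by split_ifs <;> [exact le_refl _; exact Complex.normSq_nonneg _])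
        (Finset.mem_univ (1 : G))
    rw [if_neg (by rw [orderOf_one]; norm_num)] at h1
    exact lt_of_lt_of_le (Complex.normSq_pos.mpr (irr_one_ne_zero ψ)) h1
  -- integrality
  have hint : ∀ ψ ∈ BF, ∃ n : ℤ, (4 : ℝ) * γ ψ = n := by
    intro ψ hψ
    obtain ⟨n, hn⟩ := exists_int_pow_mul_gram 2 B ψ ψ ((hBF ψ).mp hψ)
    rw [hdef, hgram] at hn
    refine ⟨n, ?_⟩
    have : (((4 : ℝ) * γ ψ : ℝ) : ℂ) = ((n : ℝ) : ℂ) := by
      push_cast
      rw [← hn]
      norm_num
    exact Complex.ofReal_injective this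
  -- the trace
  have htrace : ∑ ψ ∈ BF, γ ψ = 1 := by
    have h1 := Cfsg.Agent.Helper8.RankTr.blockRank_eq_sum hM hB
    rw [hrank] at h1
    have h2 : ∀ ψ : IrrCharacter G, (if ψ ∈ B then
        classInner (pRegularPart 2 (ψ : G → ℂ)) (ψ : G → ℂ) else 0) =
        if ψ ∈ BF then ((γ ψ : ℝ) : ℂ) else 0 := by
      intro ψ
      by_cases hψ : ψ ∈ B
      · rw [if_pos hψ, if_pos ((hBF ψ).mpr hψ), ← hgram]
        simp only [gram]
        congr 1
        funext c
        unfold pRegularPart IsPRegular rr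
        by_cases hc : 2 ∣ orderOf c
        · rw [if_neg (not_not.mpr hc), if_pos hc, zero_mul]
        · rw [if_pos hc, if_neg hc, one_mul]
      · rw [if_neg hψ, if_neg (fun h => hψ ((hBF ψ).mp h))]
    rw [Finset.sum_congr rfl (fun ψ _ => h2 ψ), ← Finset.sum_filter] at h1
    have h3 : Finset.univ.filter (fun ψ : IrrCharacter G => ψ ∈ BF) = BF := by
      ext ψ; simp
    rw [h3] at h1
    have h4 : (((∑ ψ ∈ BF, γ ψ : ℝ)) : ℂ) = ((1 : ℝ) : ℂ) := by
      push_cast
      rw [← h1]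
      norm_num
    exact Complex.ofReal_injective h4
  -- all diagonal entries equal `1/4`
  have hquarter : ∀ ψ ∈ BF, γ ψ = 1 / 4 := by
    have hge : ∀ ψ ∈ BF, (1 : ℝ) / 4 ≤ γ ψ := by
      intro ψ hψ
      obtain ⟨n, hn⟩ := hint ψ hψ
      have hpos := hγpos ψ
      have hn0 : (0 : ℝ) < (n : ℝ) := by rw [← hn]; linarith
      have hn1 : (1 : ℤ) ≤ n := by
        have : (0 : ℤ) < n := by exact_mod_cast hn0
        omega
      have : (1 : ℝ) ≤ (n : ℝ) := by exact_mod_cast hn1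
      linarith
    have hsum0 : ∑ ψ ∈ BF, (γ ψ - 1 / 4) = 0 := by
      rw [Finset.sum_sub_distrib, htrace, Finset.sum_const, hcard]
      norm_num
    have hnn : ∀ ψ ∈ BF, (0 : ℝ) ≤ γ ψ - 1 / 4 := fun ψ hψ => by linarith [hge ψ hψ]
    have hall := (Finset.sum_eq_zero_iff_of_nonneg hnn).mp hsum0
    intro ψ hψ
    linarith [hall ψ hψ]
  -- proportionality
  intro χ hχ ψ hψ s hs
  have hprop := fun t ht => Cfsg.Agent.Helper5.BR1.regular_proportional hrank ψ χ
    ((hBF ψ).mp hψ) ((hBF χ).mp hχ) t ht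
  set a : ℝ := (irrDeg χ : ℝ) / (irrDeg ψ : ℝ) with ha
  have hac : (χ : G → ℂ) 1 / (ψ : G → ℂ) 1 = ((a : ℝ) : ℂ) := by
    rw [irrDeg_spec, irrDeg_spec, ha]
    push_cast
    rfl
  have hapos : 0 < a := by
    rw [ha]
    apply div_pos <;> exact_mod_cast irrDeg_pos _
  have hterm : ∀ t : G, (if 2 ∣ orderOf t then (0 : ℝ) else Complex.normSq ((χ : G → ℂ) t)) =
      a ^ 2 * (if 2 ∣ orderOf t then (0 : ℝ) else Complex.normSq ((ψ : G → ℂ) t)) := by
    intro t
    by_cases ht : 2 ∣ orderOf t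
    · rw [if_pos ht, if_pos ht, mul_zero]
    · rw [if_neg ht, if_neg ht, hprop t ht, hac, Complex.normSq_mul, Complex.normSq_ofReal]
      ring
  have hγrel : γ χ = a ^ 2 * γ ψ := by
    simp only [hγ]
    rw [Finset.sum_congr rfl (fun t _ => hterm t), ← Finset.mul_sum]
    ring
  rw [hquarter χ hχ, hquarter ψ hψ] at hγrel
  have ha1 : a = 1 := by
    have h1 : a ^ 2 = 1 := by linarith
    have h2 : (a - 1) * (a + 1) = 0 := by ring_nf; linarith
    rcases mul_eq_zero.mp h2 with h | h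
    · linarith
    · linarith
  rw [hprop s hs, hac, ha1]
  simp

end Cfsg.Agent.Helper23.KPC
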