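import Mathlib
import Cfsg.Prelude.Def_Blocks
import Cfsg.Prelude.Def_BlockRank
import Cfsg.Agent.Helper23.KleinCore
import Cfsg.Agent.Helper23.KleinPerfB
import Cfsg.Agent.Helper5.BlockOrth
import Cfsg.Agent.Helper5.CharFacts

/-!
# The sign vector of a subsection of a block with four characters

For a `2`-block `B` of defect two and a subsection `(x, e)`, `x` an involution, `e` of defect two
and rank one: the generalized decomposition numbers `d^x_{χ θ}`, `χ ∈ B`, are `± d^x_{ψ₀ θ}`, and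
the vector of signs is orthogonal to the `2`-regular columns of `B`.
-/

set_option autoImplicit false
set_option linter.unusedSectionVars false
set_option linter.unusedVariables false
set_option linter.unusedSimpArgs false
set_option linter.unnecessarySimpa false
set_option linter.style.haveILetI false

namespace Cfsg.Agent.Helper23.KPD

open Cfsg Cfsg.Agent.Helper24 Cfsg.Agent.Helper5.CC Cfsg.Agent.Helper5.Loc
open Cfsg.Agent.Helper8.SecCore Cfsg.Agent.Helper23.SubTr Cfsg.Agent.Helper8.HZI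
open Cfsg.Agent.Helper8.IndHt Cfsg.Agent.Helper23.CM Cfsg.Agent.Helper23.KC
open Cfsg.Agent.Helper23.KPB

variable {G : Type*} [Group G] [Fintype G] {M : Ideal AlgInt}

/-- The truncated decomposition numbers are orthogonal to the regular columns of the block. -/
theorem sum_dnum_mul_regular [Fintype (IrrCharacter G)] (hM : IsPModular 2 M) (x : G)
    (hx2 : orderOf x = 2) (C : Subgroup G) [Fintype C]
    (hcomm : ∀ c : C, x * (c : G) = (c : G) * x)
    {B : Set (IrrCharacter G)} (hB : IsPBlock M B) (BF : Finset (IrrCharacter G))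
    (hBF : ∀ χ, χ ∈ BF ↔ χ ∈ B) (θ : IrrCharacter C) (y : G) (hy : ¬ 2 ∣ orderOf y) :
    ∑ χ ∈ BF, dnum 2 x C χ θ * (χ : G → ℂ) y = 0 := by
  classical
  haveI : Fact (Nat.Prime 2) := ⟨Nat.prime_two⟩
  haveI : Finite G := Finite.of_fintype G
  have hkey : ∀ c : C, ¬ 2 ∣ orderOf c →
      ∑ χ ∈ BF, (χ : G → ℂ) (x * (c : G)) * (χ : G → ℂ) y = 0 := by
    intro c hc
    have hc' : ¬ 2 ∣ orderOf (c : G) := by rwa [Subgroup.orderOf_coe]
    have hsing : 2 ∣ orderOf (x * (c : G)) := by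
      have hcop : (orderOf x).Coprime (orderOf (c : G)) := by
        rw [hx2]
        exact (Nat.Prime.coprime_iff_not_dvd Nat.prime_two).mpr hc'
      rw [(show Commute x (c : G) from hcomm c).orderOf_mul_eq_mul_orderOf_of_coprime hcop, hx2]
      exact dvd_mul_right 2 _
    have hyinv : ¬ 2 ∣ orderOf y⁻¹ := by rwa [orderOf_inv]
    have h0 := block_orthogonality hM hB y⁻¹ (x * (c : G)) hyinv hsing
    have h1 := congrArg (starRingEnd ℂ) h0
    rw [map_zero, map_sum] at h1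
    rw [← h1]
    have hfil : Finset.univ.filter (fun χ : IrrCharacter G => χ ∈ B) = BF := by
      ext χ; simp [hBF]
    have h2 : ∀ χ : IrrCharacter G, (starRingEnd ℂ) ((if χ ∈ B then (1 : ℂ) else 0) *
        ((χ : G → ℂ) y⁻¹ * (starRingEnd ℂ) ((χ : G → ℂ) (x * (c : G))))) =
        if χ ∈ B then (χ : G → ℂ) (x * (c : G)) * (χ : G → ℂ) y else 0 := by
      intro χ
      by_cases hχ : χ ∈ B
      · rw [if_pos hχ, if_pos hχ, one_mul, map_mul, Complex.conj_conj,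
          Cfsg.Agent.Helper5.irr_inv χ y, Complex.conj_conj, mul_comm]
      · rw [if_neg hχ, if_neg hχ, zero_mul, map_zero]
    rw [Finset.sum_congr rfl (fun χ _ => h2 χ), ← Finset.sum_filter, hfil]
  simp only [dnum]
  have h3 : ∀ χ ∈ BF, (Nat.card C : ℂ)⁻¹ * (∑ c : C, (if 2 ∣ orderOf c then (0 : ℂ) else 1) *
      (χ : G → ℂ) (x * (c : G)) * (starRingEnd ℂ) ((θ : C → ℂ) c)) * (χ : G → ℂ) y =
      (Nat.card C : ℂ)⁻¹ * ∑ c : C, (if 2 ∣ orderOf c then (0 : ℂ) else 1) *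
        (starRingEnd ℂ) ((θ : C → ℂ) c) * ((χ : G → ℂ) (x * (c : G)) * (χ : G → ℂ) y) := by
    intro χ _
    rw [mul_assoc, Finset.sum_mul]
    congr 1
    refine Finset.sum_congr rfl fun c _ => ?_
    ring
  rw [Finset.sum_congr rfl h3, ← Finset.mul_sum, Finset.sum_comm]
  have h4 : ∀ c : C, ∑ χ ∈ BF, (if 2 ∣ orderOf c then (0 : ℂ) else 1) *
      (starRingEnd ℂ) ((θ : C → ℂ) c) * ((χ : G → ℂ) (x * (c : G)) * (χ : G → ℂ) y) = 0 := by
    intro c
    rw [← Finset.mul_sum]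
    by_cases hc : 2 ∣ orderOf c
    · rw [if_pos hc, zero_mul, zero_mul]
    · rw [hkey c hc, mul_zero]
  rw [Finset.sum_congr rfl (fun c _ => h4 c), Finset.sum_const_zero, mul_zero]

/-- **The sign vector of a subsection.** -/
theorem klein_signs [Fintype (IrrCharacter G)] (hM : IsPModular 2 M) (x : G) (hx2 : orderOf x = 2)
    (C : Subgroup G) [Fintype C] [Fintype (IrrCharacter C)] (hxC : x ∈ C)
    (hcomm : ∀ c : C, x * (c : G) = (c : G) * x)
    (hcent : Subgroup.centralizer ({x} : Set G) ≤ C)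
    {e : Set (IrrCharacter C)} {B : Set (IrrCharacter G)}
    (hind : IsInducedBlock M C e B) (hde : blockDefect 2 e = 2) (hdB : blockDefect 2 B = 2)
    (hrank : blockRank 2 e = 1) (BF : Finset (IrrCharacter G)) (hBF : ∀ χ, χ ∈ BF ↔ χ ∈ B) :
    ∃ (d : IrrCharacter G → ℤ) (ψ₀ : IrrCharacter G), ψ₀ ∈ B ∧ IsSignVec BF d ∧
      ∀ χ ∈ B, ∀ θ ∈ e, dnum 2 x C χ θ = (d χ : ℂ) * dnum 2 x C ψ₀ θ := by
  classical
  haveI : Fact (Nat.Prime 2) := ⟨Nat.prime_two⟩
  haveI : Finite G := Finite.of_fintype G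
  haveI : Finite C := Finite.of_fintype C
  have hMp := isPrime_of_isPModular hM
  have he : IsPBlock M e := hind.1
  have hB : IsPBlock M B := hind.2.1
  have hx : ∃ k : ℕ, orderOf x = 2 ^ k := ⟨1, by rw [hx2, pow_one]⟩
  have hxk : x ^ (2 ^ 1) = 1 := by rw [pow_one, ← hx2]; exact pow_orderOf_eq_one x
  -- integrality
  choose lam hlam1 hlamn hlam using fun θ => exists_acoef_pow x C hxC hcomm θ
  choose nf hnf using fun χ θ => rmult_nat C χ θ
  have hlam_int : ∀ θ, ∃ s : ℤ, lam θ = s := by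
    intro θ
    have h := hlam1 θ
    rw [hx2] at h
    have h0 : (lam θ - 1) * (lam θ + 1) = 0 := by
      have : (lam θ - 1) * (lam θ + 1) = lam θ ^ 2 - 1 := by ring
      rw [this, h, sub_self]
    rcases mul_eq_zero.mp h0 with h1 | h1
    · exact ⟨1, by rw [sub_eq_zero.mp h1]; simp⟩
    · exact ⟨-1, by rw [eq_neg_of_add_eq_zero_left h1]; simp⟩
  choose sg hsg using hlam_int
  have hacoef : ∀ χ θ, acoef x C χ θ = ((sg θ * nf χ θ : ℤ) : ℂ) := by
    intro χ θ
    have h := hlam θ χ 1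
    rw [pow_one, pow_one] at h
    rw [h, hsg θ, hnf χ θ]
    push_cast
    ring
  have hgex : ∀ θ θ' : IrrCharacter C, ∃ n : ℤ, θ' ∈ e → (4 : ℂ) * gram 2 θ θ' = n := by
    intro θ θ'
    by_cases hθ' : θ' ∈ e
    · obtain ⟨n, hn⟩ := exists_int_pow_mul_gram 2 e θ θ' hθ'
      rw [hde] at hn
      refine ⟨n, fun _ => ?_⟩
      rw [← hn]
      norm_num
    · exact ⟨0, fun h => absurd h hθ'⟩
  choose gi hgi using hgex
  set n : IrrCharacter G → IrrCharacter G → ℤ := fun χ ψ =>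
    ∑ θ : IrrCharacter C, ∑ θ' : IrrCharacter C,
      if θ ∈ e ∧ θ' ∈ e then sg θ * nf χ θ * (sg θ' * nf ψ θ') * gi θ θ' else 0 with hndef
  have hn : ∀ χ ψ, (n χ ψ : ℂ) = 4 * contrib 2 x C e χ ψ := by
    intro χ ψ
    rw [contrib_eq_sum_gram hM x C hcomm e he χ ψ]
    simp only [hndef]
    push_cast
    rw [Finset.mul_sum]
    refine Finset.sum_congr rfl fun θ _ => ?_
    rw [Finset.mul_sum]
    refine Finset.sum_congr rfl fun θ' _ => ?_
    by_cases h : θ ∈ e ∧ θ' ∈ e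
    · rw [if_pos h, if_pos h, hacoef, hacoef, map_intCast]
      have := hgi θ θ' h.2
      push_cast
      linear_combination (-(sg θ : ℂ) * (nf χ θ : ℂ) * ((sg θ' : ℂ) * (nf ψ θ' : ℂ))) * this
    · rw [if_neg h, if_neg h, mul_zero]
  have hcontrib : ∀ χ ψ, contrib 2 x C e χ ψ = (n χ ψ : ℂ) / 4 := by
    intro χ ψ
    rw [hn]; ring
  -- symmetry
  have hsymm : ∀ χ ψ, n χ ψ = n ψ χ := by
    intro χ ψ
    apply Int.cast_injective (α := ℂ)
    rw [hn ψ χ, ← contrib_conj, hcontrib χ ψ, map_div₀, map_intCast]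
    have : (starRingEnd ℂ) (4 : ℂ) = 4 := by
      rw [show (4 : ℂ) = ((4 : ℕ) : ℂ) by norm_num, Complex.conj_natCast]
    rw [this]
    ring
  have hreal : ∀ χ ψ, (starRingEnd ℂ) (contrib 2 x C e χ ψ) = contrib 2 x C e χ ψ := by
    intro χ ψ
    rw [contrib_conj, hcontrib, hcontrib, hsymm]
  -- idempotence
  have hidem : ∀ χ χ', ∑ χ'' : IrrCharacter G, n χ χ'' * n χ' χ'' = 4 * n χ χ' := by
    intro χ χ'
    apply Int.cast_injective (α := ℂ)
    push_cast
    have h1 := contrib_idem hM x hx C hcomm hcent e he χ χ'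
    simp_rw [hreal] at h1
    rw [hn χ χ', ← h1, Finset.mul_sum, Finset.mul_sum]
    refine Finset.sum_congr rfl fun χ'' _ => ?_
    rw [hn, hn]
    ring
  -- trace
  have htrace : ∑ χ : IrrCharacter G, n χ χ = 4 := by
    apply Int.cast_injective (α := ℂ)
    push_cast
    have h1 := contrib_trace hM x hx C hcomm hcent e he
    rw [hrank] at h1
    simp_rw [hn]
    rw [← Finset.mul_sum, h1]
    norm_num
  -- vanishing outside `B`
  have hzero : ∀ χ, χ ∉ B → n χ χ = 0 := by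
    intro χ hχ
    apply Int.cast_injective (α := ℂ)
    rw [hn, contrib_eq_zero_left hM x hx C hxC hcomm hcent B e hind χ χ hχ]
    simp
  -- rank one
  obtain ⟨θ₀, hθ₀⟩ := IsPBlock.nonempty hMp he
  set r : IrrCharacter C → ℂ := fun θ => (irrDeg θ : ℂ) / (irrDeg θ₀ : ℂ) with hr
  have hrc : ∀ θ, (starRingEnd ℂ) (r θ) = r θ := by
    intro θ
    simp only [hr]
    rw [map_div₀, Complex.conj_natCast, Complex.conj_natCast]
  set R : ℂ := ∑ θ : IrrCharacter C, if θ ∈ e then r θ * r θ else 0 with hR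
  have hform : ∀ χ ψ : IrrCharacter G, contrib 2 x C e χ ψ =
      R * (dnum 2 x C χ θ₀ * (starRingEnd ℂ) (dnum 2 x C ψ θ₀)) := by
    intro χ ψ
    simp only [contrib, hR]
    rw [Finset.sum_mul]
    refine Finset.sum_congr rfl fun θ _ => ?_
    by_cases hθ : θ ∈ e
    · rw [if_pos hθ, if_pos hθ, dnum_proportional x C hrank θ₀ θ hθ₀ hθ χ,
        dnum_proportional x C hrank θ₀ θ hθ₀ hθ ψ, map_mul]
      have := hrc θ
      simp only [hr] at this
      rw [this]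
      ring
    · rw [if_neg hθ, if_neg hθ, zero_mul]
  have hrk : ∀ χ ψ, n χ ψ * n χ ψ = n χ χ * n ψ ψ := by
    intro χ ψ
    have h1 : contrib 2 x C e χ ψ * contrib 2 x C e ψ χ =
        contrib 2 x C e χ χ * contrib 2 x C e ψ ψ := by
      rw [hform χ ψ, hform ψ χ, hform χ χ, hform ψ ψ]
      ring
    apply Int.cast_injective (α := ℂ)
    push_cast
    rw [hn χ ψ, hn χ χ, hn ψ ψ]
    have h2 : contrib 2 x C e ψ χ = contrib 2 x C e χ ψ := by
      rw [hcontrib, hcontrib, hsymm]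
    rw [h2] at h1
    linear_combination 16 * h1
  -- a height zero character
  obtain ⟨ψ₀, hψ₀, hψ₀v⟩ := exists_minVal 2 (IsPBlock.nonempty hMp hB)
  have hmin : ∀ ξ ∈ B, (irrDeg ψ₀).factorization 2 ≤ (irrDeg ξ).factorization 2 := by
    intro ξ hξ
    rw [hψ₀v]
    exact minVal_le 2 hξ
  have hodd : ¬ (2 : ℤ) ∣ n ψ₀ ψ₀ := by
    intro hdvd
    have h1 := pow_mul_contrib_not_li hM x 1 hxk C hxC hcomm hind ψ₀ ψ₀ hψ₀ hψ₀ hmin hmin
    apply h1
    rw [hde]
    have h2 : ((2 : ℕ) : ℂ) ^ 2 * contrib 2 x C e ψ₀ ψ₀ = ((n ψ₀ ψ₀ : ℤ) : ℂ) := by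
      rw [hn]; norm_num
    rw [h2]
    exact (Cfsg.Agent.Helper5.BG.memLocalIdeal_intCast_iff hM _).mpr (by exact_mod_cast hdvd)
  have hpos : ∀ χ ∈ B, 1 ≤ n χ χ := by
    intro χ hχ
    have h1 : contrib 2 x C e χ ψ₀ ≠ 0 :=
      contrib_ne_zero_major hM x hx C hxC hcomm hcent hind (by rw [hde, hdB]) χ ψ₀ hχ hψ₀ hmin
    have h2 : n χ ψ₀ ≠ 0 := by
      intro h0
      apply h1
      rw [hcontrib, h0]
      simp
    have h3 := hidem χ χ
    have h4 : n χ ψ₀ * n χ ψ₀ ≤ ∑ χ'' : IrrCharacter G, n χ χ'' * n χ χ'' :=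
      Finset.single_le_sum (f := fun χ'' => n χ χ'' * n χ χ'')
        (fun χ'' _ => mul_self_nonneg _) (Finset.mem_univ ψ₀)
    have h5 : 0 < n χ ψ₀ * n χ ψ₀ := mul_self_pos.mpr h2
    omega
  -- all diagonal entries on `B` are one
  have hcard4 : Nat.card B = 4 :=
    klein_core hM x hx2 C hxC hcomm hcent hind hde hdB hrank
  have hBFcard : BF.card = 4 := by
    rw [← hcard4, Nat.card_eq_fintype_card, Fintype.card_subtype]
    congr 1
    ext χ; simp [hBF]
  have hsumBF : ∑ χ ∈ BF, n χ χ = 4 := by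
    rw [← htrace]
    have hfil : Finset.univ.filter (fun χ : IrrCharacter G => χ ∈ B) = BF := by
      ext χ; simp [hBF]
    rw [← hfil, Finset.sum_filter]
    refine Finset.sum_congr rfl fun χ _ => ?_
    by_cases hχ : χ ∈ B
    · rw [if_pos hχ]
    · rw [if_neg hχ, hzero χ hχ]
  have hdiag : ∀ χ ∈ BF, n χ χ = 1 := by
    have hnn : ∀ χ ∈ BF, (0 : ℤ) ≤ n χ χ - 1 := fun χ hχ => by
      have := hpos χ ((hBF χ).mp hχ); omega
    have hsum0 : ∑ χ ∈ BF, (n χ χ - 1) = 0 := by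
      rw [Finset.sum_sub_distrib, hsumBF, Finset.sum_const, hBFcard]
      norm_num
    have hall := (Finset.sum_eq_zero_iff_of_nonneg hnn).mp hsum0
    intro χ hχ
    have := hall χ hχ
    omega
  have hψ₀BF : ψ₀ ∈ BF := (hBF ψ₀).mpr hψ₀
  have hsign : ∀ χ ∈ BF, n χ ψ₀ = 1 ∨ n χ ψ₀ = -1 := by
    intro χ hχ
    have h1 := hrk χ ψ₀
    rw [hdiag χ hχ, hdiag ψ₀ hψ₀BF, mul_one] at h1
    exact mul_self_eq_one_iff.mp h1
  -- the decomposition numbers
  have hD : ∀ χ ∈ BF, dnum 2 x C χ θ₀ = (n χ ψ₀ : ℂ) * dnum 2 x C ψ₀ θ₀ := by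
    intro χ hχ
    have h1 : (n χ ψ₀ : ℂ) = 4 * (R * (dnum 2 x C χ θ₀ * (starRingEnd ℂ) (dnum 2 x C ψ₀ θ₀))) := by
      rw [hn, hform]
    have h2 : (1 : ℂ) = 4 * (R * (dnum 2 x C ψ₀ θ₀ * (starRingEnd ℂ) (dnum 2 x C ψ₀ θ₀))) := by
      have := hn ψ₀ ψ₀
      rw [hdiag ψ₀ hψ₀BF, hform] at this
      rw [← this]
      norm_num
    rw [h1]
    linear_combination (dnum 2 x C χ θ₀) * h2
  refine ⟨fun χ => n χ ψ₀, ψ₀, hψ₀, ⟨hsign, ?_⟩, ?_⟩
  · -- orthogonality to the regular columns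
    intro y hy
    have h1 : ∀ χ ∈ BF, ((n χ ψ₀ : ℤ) : ℂ) * (χ : G → ℂ) y =
        4 * ∑ θ : IrrCharacter C, (if θ ∈ e then (starRingEnd ℂ) (dnum 2 x C ψ₀ θ) *
          (dnum 2 x C χ θ * (χ : G → ℂ) y) else 0) := by
      intro χ _
      rw [hn]
      simp only [contrib]
      rw [mul_assoc, Finset.sum_mul]
      congr 1
      refine Finset.sum_congr rfl fun θ _ => ?_
      by_cases hθ : θ ∈ e
      · rw [if_pos hθ, if_pos hθ]; ring
      · rw [if_neg hθ, if_neg hθ, zero_mul]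
    rw [Finset.sum_congr rfl h1, ← Finset.mul_sum, Finset.sum_comm]
    have h2 : ∀ θ : IrrCharacter C, ∑ χ ∈ BF, (if θ ∈ e then
        (starRingEnd ℂ) (dnum 2 x C ψ₀ θ) * (dnum 2 x C χ θ * (χ : G → ℂ) y) else 0) = 0 := by
      intro θ
      by_cases hθ : θ ∈ e
      · simp only [if_pos hθ]
        rw [← Finset.mul_sum, sum_dnum_mul_regular hM x hx2 C hcomm hB BF hBF θ y hy, mul_zero]
      · simp only [if_neg hθ]
        exact Finset.sum_const_zero
    rw [Finset.sum_congr rfl (fun θ _ => h2 θ), Finset.sum_const_zero, mul_zero]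
  · intro χ hχ θ hθ
    have hχBF := (hBF χ).mpr hχ
    rw [dnum_proportional x C hrank θ₀ θ hθ₀ hθ χ, dnum_proportional x C hrank θ₀ θ hθ₀ hθ ψ₀,
      hD χ hχBF]
    ring

end Cfsg.Agent.Helper23.KPD
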