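import Mathlib
import Cfsg.Prelude.Def_Blocks
import Cfsg.Prelude.Def_BlockRank
import Cfsg.Prelude.Def_BrauerPairs
import Cfsg.Agent.Helper23.KleinPerfD
import Cfsg.Agent.Helper23.KleinCount
import Cfsg.Agent.Helper23.HeightBoundA
import Cfsg.Agent.Helper23.ChainSumC
import Cfsg.Agent.Helper5.RelDefectZero
import Cfsg.Agent.S0919

/-!
# The sign data of a block with a Klein four defect group
-/

set_option autoImplicit false
set_option linter.unusedSectionVars false
set_option linter.unusedVariables false
set_option linter.unusedSimpArgs false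
set_option linter.unnecessarySimpa false
set_option linter.style.haveILetI false

namespace Cfsg.Agent.Helper23.KPE

open Cfsg Cfsg.Agent.Helper24 Cfsg.Agent.Helper5 Cfsg.Agent.Helper5.CC Cfsg.Agent.Helper5.Loc
open Cfsg.Agent.Helper23.SubTr Cfsg.Agent.Helper23.CM Cfsg.Agent.Helper23.KPA
open Cfsg.Agent.Helper23.KPB Cfsg.Agent.Helper23.KPD
open Cfsg.Agent.Helper23.KLA Cfsg.Agent.Helper23.KLB Cfsg.Agent.Helper23.KCt
open Cfsg.Agent.Helper23.MOD Cfsg.Agent.Helper23.HB

variable {X : Type*} [Group X] [Fintype X] {M : Ideal AlgInt}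

/-- The data of a nontrivial subsection of a block with a Klein four defect group. -/
theorem subsection_data (hM : IsPModular 2 M) (B : Set (IrrCharacter X)) (D : Subgroup X)
    (cD : Set (IrrCharacter (Subgroup.centralizer (D : Set X))))
    (hmax : IsMaximalBrauerPair 2 M B D cD) (hV : IsKleinFour D) (hdB : blockDefect 2 B = 2)
    (BF : Finset (IrrCharacter X)) (hBF : ∀ χ, χ ∈ BF ↔ χ ∈ B)
    (x : X) (hx : ∃ k : ℕ, orderOf x = 2 ^ k) (hx1 : x ≠ 1)
    (K : Subgroup X) [Fintype K] [Fintype (IrrCharacter K)]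
    (hK : K = Subgroup.centralizer ((Subgroup.zpowers x : Subgroup X) : Set X))
    (e : Set (IrrCharacter K)) (he : IsInducedBlock M K e B) :
    orderOf x = 2 ∧ blockDefect 2 e = 2 ∧
    ∃ (d : IrrCharacter X → ℤ) (ψ₀ : IrrCharacter X), ψ₀ ∈ B ∧ IsSignVec BF d ∧
      ∀ χ ∈ B, ∀ θ ∈ e, dnum 2 x K χ θ = (d χ : ℂ) * dnum 2 x K ψ₀ θ := by
  classical
  haveI : Fact (Nat.Prime 2) := ⟨Nat.prime_two⟩
  haveI : Finite X := Finite.of_fintype X
  haveI : Fintype (IrrCharacter X) := Fintype.ofFinite _
  subst hK
  obtain ⟨g, hgD, -⟩ := classify hM B D cD hmax x hx e he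
  have hx2 : orderOf x = 2 := by
    apply orderOf_eq_prime _ hx1
    have h := klein_mul_self D hV hgD
    rw [pow_two]
    have h2 : x * x = g⁻¹ * (g * x * g⁻¹ * (g * x * g⁻¹)) * g := by group
    rw [h2, h]
    group
  have hpair := isBrauerPairOf_of_induced hM (Subgroup.zpowers x) (isPGroup_zpowers hx) e B he
  obtain ⟨hrank, hdef⟩ := pair_rank_one hM B D cD hmax hV (Subgroup.zpowers x) e hpair
    (Subgroup.zpowers_ne_bot.mpr hx1)
  have hxC : x ∈ Subgroup.centralizer ((Subgroup.zpowers x : Subgroup X) : Set X) := by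
    rw [← centralizer_singleton_eq, Subgroup.mem_centralizer_iff]
    intro w hw
    rw [Set.mem_singleton_iff] at hw
    rw [hw]
  have hcomm : ∀ c : Subgroup.centralizer ((Subgroup.zpowers x : Subgroup X) : Set X),
      x * (c : X) = (c : X) * x := by
    intro c
    exact (Subgroup.mem_centralizer_iff.mp c.2) x (Subgroup.mem_zpowers x)
  exact ⟨hx2, hdef, klein_signs hM x hx2 _ hxC hcomm (centralizer_singleton_eq x).le he hdef hdB
    hrank BF hBF⟩

/-- The centralizer of `g = x s` is the centralizer of `s` in the centralizer of `x`. -/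
theorem card_centralizer_eq (x s g : X) (hxs : x * s = g) (hcs : Commute x s)
    (hxk : ∃ k : ℕ, orderOf x = 2 ^ k) (hs : ¬ 2 ∣ orderOf s)
    (K : Subgroup X) (hK : K = Subgroup.centralizer ((Subgroup.zpowers x : Subgroup X) : Set X))
    (s' : K) (hs' : (s' : X) = s) :
    Nat.card (Subgroup.centralizer ({s'} : Set K)) =
      Nat.card (Subgroup.centralizer ({g} : Set X)) := by
  haveI : Fact (Nat.Prime 2) := ⟨Nat.prime_two⟩
  rw [← Subgroup.card_subtype K (Subgroup.centralizer ({s'} : Set K)),
    Cfsg.Agent.Helper23.CSC.map_centralizer_singleton K s', hs']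
  congr 2
  ext h
  rw [Subgroup.mem_inf, hK, ← centralizer_singleton_eq, Subgroup.mem_centralizer_iff,
    Subgroup.mem_centralizer_iff, Subgroup.mem_centralizer_iff]
  constructor
  · rintro ⟨h1, h2⟩ w hw
    rw [Set.mem_singleton_iff] at hw
    rw [hw, ← hxs]
    have e1 := h1 x rfl
    have e2 := h2 s rfl
    calc x * s * h = x * (s * h) := by group
      _ = x * (h * s) := by rw [e2]
      _ = (x * h) * s := by group
      _ = (h * x) * s := by rw [e1]
      _ = h * (x * s) := by group
  · intro h1
    have e0 := h1 g rfl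
    have hpp : IsPPart 2 g x := ⟨s, hxs, hcs, hxk, hs⟩
    have hconj := Cfsg.Agent.Helper8.SecSum.IsPPart_conj hpp h
    have hgg : h * g * h⁻¹ = g := by
      rw [← e0]; group
    rw [hgg] at hconj
    have hx' : h * x * h⁻¹ = x := isPPart_unique hconj hpp
    have e1 : x * h = h * x := by
      calc x * h = h * x * h⁻¹ * h := by rw [hx']
        _ = h * x := by group
    refine ⟨?_, ?_⟩
    · intro w hw
      rw [Set.mem_singleton_iff] at hw
      rw [hw]; exact e1
    · intro w hw
      rw [Set.mem_singleton_iff] at hw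
      rw [hw]
      have hs2 : s = x⁻¹ * g := by rw [← hxs]; group
      have e1' : x⁻¹ * h = h * x⁻¹ := by
        calc x⁻¹ * h = x⁻¹ * (h * x) * x⁻¹ := by group
          _ = x⁻¹ * (x * h) * x⁻¹ := by rw [e1]
          _ = h * x⁻¹ := by group
      rw [hs2]
      calc x⁻¹ * g * h = x⁻¹ * (g * h) := by group
        _ = x⁻¹ * (h * g) := by rw [e0]
        _ = (x⁻¹ * h) * g := by group
        _ = (h * x⁻¹) * g := by rw [e1']
        _ = h * (x⁻¹ * g) := by group

/-- **The sign data of a block with a Klein four defect group.** -/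
theorem klein_data (hM : IsPModular 2 M) (B : Set (IrrCharacter X)) (hB : IsPBlock M B)
    (D : Subgroup X) (hD : IsDefectGroup 2 M B D) (hV : IsKleinFour D)
    (BF : Finset (IrrCharacter X)) (hBF : ∀ χ, χ ∈ BF ↔ χ ∈ B) :
    KleinData M BF ∧ ∃ d, IsSignVec BF d := by
  classical
  haveI : Fact (Nat.Prime 2) := ⟨Nat.prime_two⟩
  haveI : Finite X := Finite.of_fintype X
  haveI : Fintype (IrrCharacter X) := Fintype.ofFinite _
  have hMp := isPrime_of_isPModular hM
  have hab := klein_comm D hV
  obtain ⟨cD, hmax, hindD, -, -⟩ := exists_root_abelian hM B hB D hD hab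
  have hdB : blockDefect 2 B = 2 := by
    have h2 := card_defectGroup hM hB hD
    haveI := hV
    rw [IsKleinFour.card_four] at h2
    have h3 : 2 ^ 2 = 2 ^ blockDefect 2 B := by rw [← h2]; norm_num
    exact (Nat.pow_right_injective (le_refl 2) h3).symm
  constructor
  · -- the values at the singular elements
    intro g hg
    obtain ⟨x, s, hxs, hcs, hxk, hs⟩ := RDZ.exists_isPPart 2 g
    have hx1 : x ≠ 1 := by
      rintro rfl
      rw [one_mul] at hxs
      rw [← hxs] at hg
      exact hs hg
    set K := Subgroup.centralizer ((Subgroup.zpowers x : Subgroup X) : Set X) with hK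
    haveI : Fintype K := Fintype.ofFinite _
    haveI : Fintype (IrrCharacter K) := Fintype.ofFinite _
    have hxK : x ∈ K := by
      rw [hK, ← centralizer_singleton_eq, Subgroup.mem_centralizer_iff]
      intro w hw
      rw [Set.mem_singleton_iff] at hw
      rw [hw]
    have hcommK : ∀ c : K, x * (c : X) = (c : X) * x := by
      intro c
      exact (Subgroup.mem_centralizer_iff.mp c.2) x (Subgroup.mem_zpowers x)
    have hcent : Subgroup.centralizer ({x} : Set X) ≤ K := (centralizer_singleton_eq x).le
    have hsK : s ∈ K := by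
      apply hcent
      rw [Subgroup.mem_centralizer_iff]
      intro w hw
      rw [Set.mem_singleton_iff] at hw
      rw [hw]; exact hcs.eq
    set s' : K := ⟨s, hsK⟩ with hs'def
    have hs' : ¬ 2 ∣ orderOf s' := by
      rw [← Subgroup.orderOf_coe]; exact hs
    have hcardC : Nat.card (Subgroup.centralizer ({s'} : Set K)) =
        Nat.card (Subgroup.centralizer ({g} : Set X)) :=
      card_centralizer_eq x s g hxs hcs hxk hs K hK s' rfl
    have hPK : Subgroup.zpowers x ≤ K := by
      rw [Subgroup.zpowers_le]; exact hxK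
    -- the contribution of each block of `K`
    have hex : ∀ e : Set (IrrCharacter K), IsPBlock M e → ∃ v : IrrCharacter X → ℂ,
        v ∈ AddSubmonoid.closure (Adm M BF g) ∧ ∀ χ ∈ BF,
          blockPart e (fun c : K => (χ : X → ℂ) (x * (c : X))) s' = v χ := by
      intro e he
      obtain ⟨B', hB'⟩ := Cfsg.Agent.S0919.result 2 M hM (Subgroup.zpowers x) K
        (isPGroup_zpowers hxk) hPK le_rfl (Subgroup.centralizer_le_normalizer _) e he
      by_cases hBB : B' = B
      · subst hBB
        obtain ⟨hx2, hdef, d, ψ₀, hψ₀, hd, hrel⟩ := subsection_data hM B' D cD hmax hV hdB BF hBF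
          x hxk hx1 K rfl e hB'
        set r : ℂ := blockPart e (fun c : K => (ψ₀ : X → ℂ) (x * (c : X))) s' with hr
        have hrsum : r = ∑ θ : IrrCharacter K, if θ ∈ e then
            acoef x K ψ₀ θ * (θ : K → ℂ) s' else 0 := by
          rw [hr, blockPart_eq_sum]
          rfl
        refine ⟨fun χ => r * (d χ : ℂ), AddSubmonoid.subset_closure ⟨d, r, hd, ?_, ?_, rfl⟩, ?_⟩
        · rw [hrsum]
          refine lr_sum hMp _ _ fun θ _ => ?_
          by_cases hθ : θ ∈ e
          · rw [if_pos hθ]
            exact memLocalRing_of_isIntegral hMp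
              ((isIntegral_acoef x K hxK hcommK ψ₀ θ).mul (irr_isIntegral θ s'))
          · rw [if_neg hθ]; exact memLocalRing_zero hMp
        · have h1 : 4 * r / (Nat.card (Subgroup.centralizer ({g} : Set X)) : ℂ) =
              ∑ θ : IrrCharacter K, if θ ∈ e then acoef x K ψ₀ θ *
                (((2 : ℕ) : ℂ) ^ blockDefect 2 e * (θ : K → ℂ) s' /
                  (Nat.card (Subgroup.centralizer ({s'} : Set K)) : ℂ)) else 0 := by
            rw [hrsum, hcardC, hdef, Finset.mul_sum, Finset.sum_div]
            refine Finset.sum_congr rfl fun θ _ => ?_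
            by_cases hθ : θ ∈ e
            · rw [if_pos hθ, if_pos hθ]
              push_cast
              ring
            · rw [if_neg hθ, if_neg hθ, mul_zero, zero_div]
          rw [h1]
          refine lr_sum hMp _ _ fun θ _ => ?_
          by_cases hθ : θ ∈ e
          · rw [if_pos hθ]
            exact lr_mul hMp (memLocalRing_of_isIntegral hMp
              (isIntegral_acoef x K hxK hcommK ψ₀ θ)) (lr_pow_defect_mul_div hM e θ hθ s')
          · rw [if_neg hθ]; exact memLocalRing_zero hMp
        · intro χ hχ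
          have hχB := (hBF χ).mp hχ
          show blockPart e (fun c : K => (χ : X → ℂ) (x * (c : X))) s' = r * (d χ : ℂ)
          rw [blockPart_eq_sum_dnum hM x K e he χ s' hs', hr,
            blockPart_eq_sum_dnum hM x K e he ψ₀ s' hs', Finset.sum_mul]
          refine Finset.sum_congr rfl fun θ _ => ?_
          by_cases hθ : θ ∈ e
          · rw [if_pos hθ, if_pos hθ, hrel χ hχB θ hθ]
            ring
          · rw [if_neg hθ, if_neg hθ, zero_mul]
      · refine ⟨0, zero_mem _, ?_⟩
        intro χ hχ
        have hχB := (hBF χ).mp hχ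
        have hχB' : χ ∉ B' := by
          intro h
          apply hBB
          rw [IsPBlock_eq_blockOf hMp hB'.2.1 h, IsPBlock_eq_blockOf hMp hB hχB]
        rw [Pi.zero_apply]
        exact blockPart_eq_zero hM x hxk K hxK hcommK hcent B' e hB' χ hχB' s' hs'
    choose! v hv1 hv2 using hex
    refine ⟨∑ e ∈ blocksFin M K, v e,
      sum_mem (fun e he => hv1 e ((mem_blocksFin hMp e).mp he)), ?_⟩
    intro χ hχ
    rw [Finset.sum_apply]
    set f : K → ℂ := fun c : K => (χ : X → ℂ) (x * (c : X)) with hf
    have hcf : IsClassFunction K f := isClassFunction_shift x K hcommK χ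
    have h1 : ∑ e ∈ blocksFin M K, blockPart e f s' =
        ∑ θ : IrrCharacter K, classInner f (θ : K → ℂ) * (θ : K → ℂ) s' := by
      rw [← sum_blocksFin hMp (fun θ : IrrCharacter K =>
        classInner f (θ : K → ℂ) * (θ : K → ℂ) s')]
      refine Finset.sum_congr rfl fun e _ => ?_
      rw [blockPart_eq_sum]
    have h2 : f s' = ∑ θ : IrrCharacter K, classInner f (θ : K → ℂ) * (θ : K → ℂ) s' := by
      have := congrFun (IsClassFunction.eq_sum_classInner hcf) s'
      simp only [Finset.sum_apply, Pi.smul_apply, smul_eq_mul] at this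
      exact this
    have h3 : (χ : X → ℂ) g = f s' := by
      rw [← hxs]
    rw [h3, h2, ← h1]
    refine Finset.sum_congr rfl fun e he => ?_
    exact hv2 e ((mem_blocksFin hMp e).mp he) χ hχ
  · -- existence of a sign vector
    have hDbot : D ≠ ⊥ := by
      intro h
      haveI := hV
      have h4 : Nat.card D = 4 := IsKleinFour.card_four
      rw [h] at h4
      simp at h4
    obtain ⟨u', hu1'⟩ := (Subgroup.ne_bot_iff_exists_ne_one).mp hDbot
    have huD : (u' : X) ∈ D := u'.2
    have hu1 : (u' : X) ≠ 1 := fun h => hu1' (Subtype.ext h)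
    have hu2 : orderOf (u' : X) = 2 := klein_orderOf D hV huD hu1
    obtain ⟨Xr, -, hXr, hXrep⟩ := exists_reps (G := X) (p := 2) (∅ : Finset X)
      (by intro x hx; exact absurd hx (Finset.notMem_empty x))
      (by intro x hx; exact absurd hx (Finset.notMem_empty x))
    obtain ⟨x, b, g, a, hx, hb, hg, -, -, -⟩ :=
      exists_marked hM B D cD hmax hV Xr hXrep (u' : X) huD hu1
    obtain ⟨hx1, hxX⟩ := Finset.mem_erase.mp hx
    haveI : Fintype (Subgroup.centralizer ((Subgroup.zpowers x : Subgroup X) : Set X)) :=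
      Fintype.ofFinite _
    haveI : Fintype (IrrCharacter (Subgroup.centralizer
      ((Subgroup.zpowers x : Subgroup X) : Set X))) := Fintype.ofFinite _
    obtain ⟨-, -, d, -, -, hd, -⟩ := subsection_data hM B D cD hmax hV hdB BF hBF x (hXr x hxX) hx1
      _ rfl b hb
    exact ⟨d, hd⟩

end Cfsg.Agent.Helper23.KPE
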