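import Mathlib
import Cfsg.Prelude.Def_Blocks
import Cfsg.Prelude.Def_BlockRank
import Cfsg.Prelude.Def_BlockLocal
import Cfsg.Prelude.Def_BrauerPairs
import Cfsg.Agent.Helper23.KleinCount
import Cfsg.Agent.Helper23.ChainSumC
import Cfsg.Agent.Helper23.InducedCalc
import Cfsg.Agent.S4637

/-!
# A block with a Klein four defect group and its Brauer correspondent have the same invariants
-/

set_option autoImplicit false
set_option linter.unusedSectionVars false
set_option linter.unusedVariables false
set_option linter.unusedSimpArgs false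
set_option linter.unnecessarySimpa false
set_option linter.style.haveILetI false

namespace Cfsg.Agent.Helper23.KPF

open Cfsg Cfsg.Agent.Helper5.CC Cfsg.Agent.Helper5.Loc
open Cfsg.Agent.Helper23.BT Cfsg.Agent.Helper23.IC Cfsg.Agent.Helper23.KLA
open Cfsg.Agent.Helper23.KLB Cfsg.Agent.Helper23.II Cfsg.Agent.Helper23.CSC

variable {G : Type*} [Group G]

/-- Transport of the stabilizing condition along a subgroup of a subgroup and its image. -/
theorem stab_transport (N : Subgroup G) (A : Subgroup N) (A₂ : Subgroup G) (φ : A ≃* A₂)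
    (hφ : ∀ a : A, ((φ a : A₂) : G) = ((a : N) : G)) (c' : Set (IrrCharacter A)) (n : N) :
    (∀ χ ∈ c', ∃ χ' ∈ c', IsConjCharOf A n (χ : A → ℂ) (χ' : A → ℂ)) ↔
      (∀ ξ ∈ pullBlock φ.symm c', ∃ ξ' ∈ pullBlock φ.symm c',
        IsConjCharOf A₂ (n : G) (ξ : A₂ → ℂ) (ξ' : A₂ → ℂ)) := by
  have hφs : ∀ k : A₂, (((φ.symm k : A) : N) : G) = (k : G) := by
    intro k
    have := hφ (φ.symm k)
    rw [MulEquiv.apply_symm_apply] at this
    exact this.symm
  constructor
  · intro h ξ hξ
    rw [mem_pullBlock_iff, MulEquiv.symm_symm] at hξ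
    obtain ⟨χ', hχ', hconj⟩ := h (pullIrr φ ξ) hξ
    refine ⟨pullIrr φ.symm χ', ?_, ?_⟩
    · rw [mem_pullBlock_iff, MulEquiv.symm_symm, pullIrr_pullIrr_symm]
      exact hχ'
    · intro k k' hkk'
      have h1 := hconj (φ.symm k) (φ.symm k') (by
        apply Subtype.ext
        rw [Subgroup.coe_mul, Subgroup.coe_mul, Subgroup.coe_inv, hφs, hφs]
        exact hkk')
      rw [pullIrr_apply] at h1
      rw [pullIrr_apply, h1, MulEquiv.apply_symm_apply]
  · intro h χ hχ
    have hξ : pullIrr φ.symm χ ∈ pullBlock φ.symm c' := by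
      rw [mem_pullBlock_iff, MulEquiv.symm_symm, pullIrr_pullIrr_symm]
      exact hχ
    obtain ⟨ξ', hξ', hconj⟩ := h (pullIrr φ.symm χ) hξ
    rw [mem_pullBlock_iff, MulEquiv.symm_symm] at hξ'
    refine ⟨pullIrr φ ξ', hξ', ?_⟩
    intro k k' hkk'
    have h1 := hconj (φ k) (φ k') (by
      rw [hφ, hφ, hkk']
      rfl)
    rw [pullIrr_apply, MulEquiv.symm_apply_apply] at h1
    rw [pullIrr_apply, h1]

/-- The centralizer of `P.subgroupOf N` in `N` maps onto the centralizer of `P`. -/
theorem map_centralizer_subgroupOf (P N : Subgroup G) (hPN : P ≤ N)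
    (hCN : Subgroup.centralizer (P : Set G) ≤ N) :
    (Subgroup.centralizer ((P.subgroupOf N : Subgroup N) : Set N)).map N.subtype =
      Subgroup.centralizer (P : Set G) := by
  ext g
  rw [Subgroup.mem_map]
  constructor
  · rintro ⟨a, ha, rfl⟩
    rw [Subgroup.mem_centralizer_iff] at ha ⊢
    intro q hq
    have hqN : q ∈ N := hPN hq
    have := ha ⟨q, hqN⟩ (by
      show (⟨q, hqN⟩ : N) ∈ P.subgroupOf N
      rw [Subgroup.mem_subgroupOf]
      exact hq)
    exact congrArg Subtype.val this
  · intro hg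
    have hgN : g ∈ N := hCN hg
    refine ⟨⟨g, hgN⟩, ?_, rfl⟩
    rw [Subgroup.mem_centralizer_iff] at hg ⊢
    intro q hq
    have hq' : (q : G) ∈ P := Subgroup.mem_subgroupOf.mp hq
    apply Subtype.ext
    exact hg (q : G) hq'

/-- Auxiliary form with the normalizer as a variable. -/
theorem correspondent_invariants_aux [Finite G] (M : Ideal AlgInt) (hM : IsPModular 2 M)
    (B : Set (IrrCharacter G)) (hB : IsPBlock M B) (P : Subgroup G)
    (hPD : IsDefectGroup 2 M B P) (hV : IsKleinFour P)
    (N : Subgroup G) (hN : N = Subgroup.normalizer (P : Set G))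
    (c : Set (IrrCharacter N)) (hcD : IsDefectGroup 2 M c (P.subgroupOf N))
    (hc : IsInducedBlock M N c B) :
    Nat.card B = 4 ∧ Nat.card c = 4 ∧ blockRank 2 c = blockRank 2 B ∧
      (blockRank 2 B = 1 ∨ blockRank 2 B = 3) ∧ IsKleinFour (P.subgroupOf N) := by
  classical
  haveI : Fact (Nat.Prime 2) := ⟨Nat.prime_two⟩
  haveI : Fintype G := Fintype.ofFinite _
  have hMp := isPrime_of_isPModular hM
  haveI : Fintype N := Fintype.ofFinite _
  have hPN : P ≤ N := by rw [hN]; exact Subgroup.le_normalizer
  have hCN : Subgroup.centralizer (P : Set G) ≤ N := by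
    rw [hN]; exact Subgroup.centralizer_le_normalizer _
  -- `P'` is a Klein four group
  have hV' : IsKleinFour (P.subgroupOf N) := by
    apply isKleinFour_of_card_of_sq
    · rw [Nat.card_congr (Subgroup.subgroupOfEquivOfLe hPN).toEquiv]
      haveI := hV
      exact IsKleinFour.card_four
    · intro x
      apply Subtype.ext
      apply Subtype.ext
      have hx : ((x : N) : G) ∈ P := Subgroup.mem_subgroupOf.mp x.2
      exact klein_mul_self P hV hx
  have hab' : ∀ x ∈ P.subgroupOf N, ∀ y ∈ P.subgroupOf N, x * y = y * x :=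
    klein_comm (P.subgroupOf N) hV'
  -- a root of `c`
  obtain ⟨c', hmax', hind', -, -⟩ := exists_root_abelian hM c hc.1 (P.subgroupOf N) hcD hab'
  haveI : Fintype (Subgroup.centralizer ((P.subgroupOf N : Subgroup N) : Set N)) :=
    Fintype.ofFinite _
  haveI : Fintype (Subgroup.centralizer (P : Set G)) := Fintype.ofFinite _
  have hmap := map_centralizer_subgroupOf P N hPN hCN
  have hφ : ∀ a : Subgroup.centralizer ((P.subgroupOf N : Subgroup N) : Set N),
      ((liftEq N _ _ hmap a : Subgroup.centralizer (P : Set G)) : G) = ((a : N) : G) :=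
    fun a => coe_liftEq N _ _ hmap a
  have hindP : IsInducedBlock M (Subgroup.centralizer (P : Set G))
      (pullBlock (liftEq N _ _ hmap).symm c') B :=
    isInducedBlock_trans hMp N _ _ (liftEq N _ _ hmap) hφ hind' hc
  -- the two stabilizers
  have hPnormal : (P.subgroupOf N).Normal := by
    have h1 : (P.subgroupOf (Subgroup.normalizer (P : Set G))).Normal :=
      Subgroup.normal_in_normalizer
    have h2 : ∀ K : Subgroup G, K = Subgroup.normalizer (P : Set G) → (P.subgroupOf K).Normal := by
      rintro K rfl; exact h1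
    exact h2 N hN
  have hmem_norm' : ∀ n : N, n ∈ Subgroup.normalizer ((P.subgroupOf N : Subgroup N) : Set N) := by
    intro n
    rw [Subgroup.normalizer_eq_top (P.subgroupOf N)]
    exact Subgroup.mem_top n
  have hNnorm : ∀ n : N, (n : G) ∈ Subgroup.normalizer (P : Set G) := by
    intro n
    rw [← hN]; exact n.2
  have hTmap : (stabSubgroup (P.subgroupOf N) c').map N.subtype =
      stabSubgroup P (pullBlock (liftEq N _ _ hmap).symm c') := by
    ext g
    rw [Subgroup.mem_map]
    constructor
    · rintro ⟨n, hn, rfl⟩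
      rw [mem_stabSubgroup] at hn
      rw [mem_stabSubgroup]
      refine ⟨hNnorm n, ?_, ?_⟩
      · exact Cfsg.Agent.Helper23.SP.le_normalizer_centralizer (le_refl _) (hNnorm n)
      · exact (stab_transport N _ _ (liftEq N _ _ hmap) hφ c' n).mp hn.2.2
    · intro hg
      rw [mem_stabSubgroup] at hg
      have hgN : g ∈ N := by rw [hN]; exact hg.1
      refine ⟨⟨g, hgN⟩, ?_, rfl⟩
      rw [mem_stabSubgroup]
      refine ⟨hmem_norm' _, ?_, ?_⟩
      · exact Cfsg.Agent.Helper23.SP.le_normalizer_centralizer (le_refl _) (hmem_norm' _)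
      · exact (stab_transport N _ _ (liftEq N _ _ hmap) hφ c' ⟨g, hgN⟩).mpr hg.2.2
  have hrel : (Subgroup.centralizer (P : Set G)).relIndex
      (stabSubgroup P (pullBlock (liftEq N _ _ hmap).symm c')) =
      (Subgroup.centralizer ((P.subgroupOf N : Subgroup N) : Set N)).relIndex
        (stabSubgroup (P.subgroupOf N) c') := by
    rw [← hTmap]
    have := Subgroup.relIndex_map_map_of_injective
      (Subgroup.centralizer ((P.subgroupOf N : Subgroup N) : Set N))
      (stabSubgroup (P.subgroupOf N) c') N.subtype_injective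
    rw [hmap] at this
    exact this
  obtain ⟨hcase, hcardB, hrankB⟩ := Cfsg.Agent.S4637.result M hM B hB P hPD hV
    (pullBlock (liftEq N _ _ hmap).symm c') hindP _ (fun g => mem_stabSubgroup P _ g) _ rfl
  obtain ⟨-, hcardc, hrankc⟩ := Cfsg.Agent.S4637.result M hM c hc.1 (P.subgroupOf N) hcD hV'
    c' hind' _ (fun n => mem_stabSubgroup (P.subgroupOf N) _ n) _ rfl
  refine ⟨hcardB, hcardc, ?_, ?_, hV'⟩
  · rw [hrankc, hrankB, hrel]
  · rw [hrankB]; exact hcase

/-- **The Brauer correspondent of a block with a Klein four defect group has the same numbers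
of characters and of Brauer characters.** -/
theorem correspondent_invariants [Finite G] (M : Ideal AlgInt) (hM : IsPModular 2 M)
    (B : Set (IrrCharacter G)) (hB : IsPBlock M B) (P : Subgroup G)
    (hPD : IsDefectGroup 2 M B P) (hV : IsKleinFour P)
    (c : Set (IrrCharacter (Subgroup.normalizer (P : Set G))))
    (hcD : IsDefectGroup 2 M c (P.subgroupOf (Subgroup.normalizer (P : Set G))))
    (hc : IsInducedBlock M (Subgroup.normalizer (P : Set G)) c B) :
    Nat.card B = 4 ∧ Nat.card c = 4 ∧ blockRank 2 c = blockRank 2 B ∧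
      (blockRank 2 B = 1 ∨ blockRank 2 B = 3) ∧
      IsKleinFour (P.subgroupOf (Subgroup.normalizer (P : Set G))) :=
  correspondent_invariants_aux M hM B hB P hPD hV _ rfl c hcD hc

end Cfsg.Agent.Helper23.KPF
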