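import Mathlib
import Cfsg.Agent.Helper27.LChDefs

/-! S0406 piece Q5b (core): at most `2^7` lattice vectors with entries `±2` on a given 8-set and
`0` off it.  The sublattice statement Q2 is taken as a hypothesis here. -/

set_option autoImplicit false

namespace Cfsg.Agent.Helper23.LCh

open Cfsg Matrix Finset
open Cfsg.Agent.Helper27.LCh

variable {L : AddSubgroup (Fin 24 → ℤ)}

/-- the vectors `±2` on `O`, `0` off `O`. -/
def octSet (L : AddSubgroup (Fin 24 → ℤ)) (O : Finset (Fin 24)) : Set (Fin 24 → ℤ) :=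
  {v | v ∈ L ∧ ∀ i, (i ∈ O → v i = 2 ∨ v i = -2) ∧ (i ∉ O → v i = 0)}

/-- no vector `4 δ_i` in the lattice. -/
theorem single_four_not_mem (hL : Lat L) (i0 : Fin 24) : (Pi.single i0 4 : Fin 24 → ℤ) ∉ L := by
  intro h
  have hne : (Pi.single i0 4 : Fin 24 → ℤ) ≠ 0 := by
    intro h0
    have := congrFun h0 i0
    simp at this
  have h32 := hL.min32 _ h hne
  rw [single_dotProduct, Pi.single_eq_same] at h32
  omega

/-- the difference set of two vectors of `octSet` has even cardinality. -/
theorem even_diff (hL : Lat L)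
    (hQ2 : ∀ v : Fin 24 → ℤ, (∀ i, (4 : ℤ) ∣ v i) → (8 : ℤ) ∣ ∑ i, v i → v ∈ L)
    (O : Finset (Fin 24)) {v v0 : Fin 24 → ℤ} (hv : v ∈ octSet L O) (hv0 : v0 ∈ octSet L O) :
    Even (O.filter (fun i => v i ≠ v0 i)).card := by
  classical
  by_contra hodd
  rw [Nat.not_even_iff_odd] at hodd
  set D := O.filter (fun i => v i ≠ v0 i) with hD
  set d : Fin 24 → ℤ := v - v0 with hd
  have hdL : d ∈ L := L.sub_mem hv.1 hv0.1
  -- entries of d
  have hentry : ∀ i, (i ∈ D → d i = 4 ∨ d i = -4) ∧ (i ∉ D → d i = 0) := by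
    intro i
    by_cases hiO : i ∈ O
    · have h1 := (hv.2 i).1 hiO
      have h2 := (hv0.2 i).1 hiO
      constructor
      · intro hi
        have hne : v i ≠ v0 i := (Finset.mem_filter.mp hi).2
        simp only [hd, Pi.sub_apply]
        rcases h1 with h1 | h1 <;> rcases h2 with h2 | h2 <;> rw [h1, h2] at hne ⊢ <;> omega
      · intro hi
        have heq : v i = v0 i := by
          by_contra hne
          exact hi (Finset.mem_filter.mpr ⟨hiO, hne⟩)
        simp only [hd, Pi.sub_apply, heq, sub_self]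
    · constructor
      · intro hi
        exact absurd (Finset.mem_filter.mp hi).1 hiO
      · intro _
        simp only [hd, Pi.sub_apply, (hv.2 i).2 hiO, (hv0.2 i).2 hiO, sub_self]
  obtain ⟨i0, hi0⟩ : D.Nonempty := by
    rw [Finset.nonempty_iff_ne_empty]
    intro h
    rw [h] at hodd
    simp at hodd
  -- the sum of the entries of d
  have hsum : (8 : ℤ) ∣ (∑ i, d i) - 4 * (D.card : ℤ) := by
    have h1 : (∑ i, d i) - 4 * (D.card : ℤ) = ∑ i, (d i - if i ∈ D then 4 else 0) := by
      rw [Finset.sum_sub_distrib, Finset.sum_ite_mem, Finset.univ_inter, Finset.sum_const,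
        nsmul_eq_mul]
      ring
    rw [h1]
    apply Finset.dvd_sum
    intro i _
    by_cases hi : i ∈ D
    · rw [if_pos hi]
      rcases (hentry i).1 hi with h | h <;> rw [h] <;> norm_num
    · rw [if_neg hi, (hentry i).2 hi]
      norm_num
  set u : Fin 24 → ℤ := d - Pi.single i0 4 with hu
  have hu4 : ∀ i, (4 : ℤ) ∣ u i := by
    intro i
    have h1 : (4 : ℤ) ∣ d i := by
      by_cases hi : i ∈ D
      · rcases (hentry i).1 hi with h | h <;> rw [h] <;> norm_num
      · rw [(hentry i).2 hi]; norm_num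
    have h2 : (4 : ℤ) ∣ (Pi.single i0 4 : Fin 24 → ℤ) i := by
      by_cases h : i = i0
      · subst h; simp
      · rw [Pi.single_eq_of_ne h]; norm_num
    simp only [hu, Pi.sub_apply]
    exact dvd_sub h1 h2
  have hu8 : (8 : ℤ) ∣ ∑ i, u i := by
    have h1 : ∑ i, u i = (∑ i, d i) - 4 := by
      simp only [hu, Pi.sub_apply, Finset.sum_sub_distrib]
      congr 1
      simp
    rw [h1]
    obtain ⟨k, hk⟩ := hodd
    obtain ⟨m, hm⟩ := hsum
    refine ⟨m + k, ?_⟩
    have : ((D.card : ℕ) : ℤ) = 2 * k + 1 := by exact_mod_cast hk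
    linarith
  have huL : u ∈ L := hQ2 u hu4 hu8
  have : (Pi.single i0 4 : Fin 24 → ℤ) ∈ L := by
    have h := L.sub_mem hdL huL
    have e : d - u = Pi.single i0 4 := by rw [hu]; abel
    rwa [e] at h
  exact single_four_not_mem hL i0 this

theorem octad_vectors_le_of (hL : Lat L)
    (hQ2 : ∀ v : Fin 24 → ℤ, (∀ i, (4 : ℤ) ∣ v i) → (8 : ℤ) ∣ ∑ i, v i → v ∈ L)
    (O : Finset (Fin 24)) (hO : O.card = 8) : (octSet L O).ncard ≤ 128 := by
  classical
  rcases Set.eq_empty_or_nonempty (octSet L O) with hemp | ⟨v0, hv0⟩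
  · rw [hemp, Set.ncard_empty]; norm_num
  obtain ⟨i1, hi1⟩ : O.Nonempty := by
    rw [← Finset.card_pos, hO]; norm_num
  let Dset : (Fin 24 → ℤ) → Finset (Fin 24) := fun v => O.filter (fun i => v i ≠ v0 i)
  let g : (Fin 24 → ℤ) → Finset (Fin 24) := fun v => (Dset v).erase i1
  have hmaps : ∀ v ∈ octSet L O, g v ∈ ((O.erase i1).powerset : Set (Finset (Fin 24))) := by
    intro v _
    rw [Finset.mem_coe, Finset.mem_powerset]
    exact Finset.erase_subset_erase _ (Finset.filter_subset _ _)
  have hinj : Set.InjOn g (octSet L O) := by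
    intro v hv v' hv' hg
    have hev := even_diff hL hQ2 O hv hv0
    have hev' := even_diff hL hQ2 O hv' hv0
    have hD : Dset v = Dset v' := by
      have hi1iff : i1 ∈ Dset v ↔ i1 ∈ Dset v' := by
        have hc : ((Dset v).erase i1).card = ((Dset v').erase i1).card := congrArg Finset.card hg
        obtain ⟨k, hk⟩ := hev
        obtain ⟨k', hk'⟩ := hev'
        change (Dset v).card = k + k at hk
        change (Dset v').card = k' + k' at hk'
        by_cases h1 : i1 ∈ Dset v <;> by_cases h2 : i1 ∈ Dset v'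
        · exact ⟨fun _ => h2, fun _ => h1⟩
        · exfalso
          have e1 := Finset.card_erase_add_one h1
          rw [Finset.erase_eq_of_notMem h2] at hc
          omega
        · exfalso
          have e2 := Finset.card_erase_add_one h2
          rw [Finset.erase_eq_of_notMem h1] at hc
          omega
        · exact ⟨fun h => absurd h h1, fun h => absurd h h2⟩
      ext i
      by_cases hi : i = i1
      · subst hi; exact hi1iff
      · have h1 : i ∈ (Dset v).erase i1 ↔ i ∈ (Dset v').erase i1 := by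
          change i ∈ g v ↔ i ∈ g v'
          rw [hg]
        rw [Finset.mem_erase, Finset.mem_erase] at h1
        constructor
        · intro h; exact (h1.mp ⟨hi, h⟩).2
        · intro h; exact (h1.mpr ⟨hi, h⟩).2
    funext i
    by_cases hiO : i ∈ O
    · have h1 := (hv.2 i).1 hiO
      have h2 := (hv'.2 i).1 hiO
      have h0 := (hv0.2 i).1 hiO
      by_cases hi : i ∈ Dset v
      · have hi' : i ∈ Dset v' := hD ▸ hi
        have hne : v i ≠ v0 i := (Finset.mem_filter.mp hi).2
        have hne' : v' i ≠ v0 i := (Finset.mem_filter.mp hi').2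
        rcases h1 with h1 | h1 <;> rcases h2 with h2 | h2 <;> rcases h0 with h0 | h0 <;>
          rw [h1, h0] at hne <;> rw [h2, h0] at hne' <;> rw [h1, h2] <;> omega
      · have hi' : i ∉ Dset v' := hD ▸ hi
        have heq : v i = v0 i := by
          by_contra hne
          exact hi (Finset.mem_filter.mpr ⟨hiO, hne⟩)
        have heq' : v' i = v0 i := by
          by_contra hne
          exact hi' (Finset.mem_filter.mpr ⟨hiO, hne⟩)
        rw [heq, heq']
    · rw [(hv.2 i).2 hiO, (hv'.2 i).2 hiO]
  have hle := Set.ncard_le_ncard_of_injOn g hmaps hinj (Finset.finite_toSet _)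
  rw [Set.ncard_coe_finset, Finset.card_powerset, Finset.card_erase_of_mem hi1, hO] at hle
  exact hle

end Cfsg.Agent.Helper23.LCh
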