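import Mathlib

set_option autoImplicit false
set_option linter.unusedSectionVars false
set_option linter.unusedVariables false

/-!
# Landau's theorem: the order of a finite group is bounded in terms of its class number
-/

namespace Cfsg.Agent.Helper23.Landau

/-- The bound: `bound k A` bounds the entries of any multiset of `k` positive integers whose
reciprocals sum to a positive rational with denominator dividing `A`. -/
noncomputable def bound : ℕ → ℕ → ℕ
  | 0, _ => 0
  | (k + 1), A => max ((k + 1) * A)
      ((Finset.range ((k + 1) * A + 1)).sup (fun m => bound k (A * m)))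

theorem le_bound_succ_left (k A : ℕ) : (k + 1) * A ≤ bound (k + 1) A := by
  rw [bound]; exact le_max_left _ _

theorem bound_le_bound_succ (k A m : ℕ) (hm : m ≤ (k + 1) * A) :
    bound k (A * m) ≤ bound (k + 1) A := by
  rw [bound.eq_2]
  refine le_trans ?_ (le_max_right _ _)
  exact Finset.le_sup (f := fun m => bound k (A * m)) (Finset.mem_range.mpr (Nat.lt_succ_of_le hm))

/-- The arithmetic core of Landau's theorem. -/
theorem le_bound (k : ℕ) : ∀ (A : ℕ) (hA : 0 < A) (s : Multiset ℕ) (hs : Multiset.card s = k)
    (hpos : ∀ n ∈ s, 0 < n) (c : ℕ) (hc : 0 < c)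
    (hsum : (s.map (fun n : ℕ => (1 : ℚ) / n)).sum = (c : ℚ) / A), ∀ n ∈ s, n ≤ bound k A := by
  induction k with
  | zero =>
    intro A hA s hs hpos c hc hsum n hn
    rw [Multiset.card_eq_zero] at hs
    rw [hs] at hn
    exact absurd hn (Multiset.notMem_zero n)
  | succ k ih =>
    intro A hA s hs hpos c hc hsum n hn
    have hne : s.toFinset.Nonempty := ⟨n, Multiset.mem_toFinset.mpr hn⟩
    set m := s.toFinset.min' hne with hm
    have hms : m ∈ s := Multiset.mem_toFinset.mp (Finset.min'_mem _ hne)
    have hmin : ∀ x ∈ s, m ≤ x := fun x hx => Finset.min'_le _ x (Multiset.mem_toFinset.mpr hx)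
    have hm0 : 0 < m := hpos m hms
    have hAQ : (0 : ℚ) < A := by exact_mod_cast hA
    have hmQ : (0 : ℚ) < m := by exact_mod_cast hm0
    -- bound for `m`
    have hle : (s.map (fun n : ℕ => (1 : ℚ) / n)).sum ≤
        Multiset.card (s.map (fun n : ℕ => (1 : ℚ) / n)) • ((1 : ℚ) / m) := by
      apply Multiset.sum_le_card_nsmul
      intro x hx
      obtain ⟨y, hy, rfl⟩ := Multiset.mem_map.mp hx
      have hy0 : (0 : ℚ) < y := by exact_mod_cast hpos y hy
      have : (m : ℚ) ≤ y := by exact_mod_cast hmin y hy
      exact one_div_le_one_div_of_le hmQ this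
    rw [Multiset.card_map, hs, hsum, nsmul_eq_mul] at hle
    have hmle : m ≤ (k + 1) * A := by
      have h1 : (1 : ℚ) / A ≤ (c : ℚ) / A := by
        apply div_le_div_of_nonneg_right _ hAQ.le
        exact_mod_cast hc
      have h2 : (1 : ℚ) / A ≤ ((k + 1 : ℕ) : ℚ) * (1 / m) := le_trans h1 hle
      rw [div_le_iff₀ hAQ, mul_one_div, div_mul_eq_mul_div, le_div_iff₀ hmQ] at h2
      have : (m : ℚ) ≤ ((k + 1 : ℕ) : ℚ) * A := by linarith
      exact_mod_cast this
    by_cases hnm : n = m
    · rw [hnm]
      exact le_trans hmle (le_bound_succ_left k A)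
    · -- remove `m`
      have hst : s = m ::ₘ s.erase m := (Multiset.cons_erase hms).symm
      have hnt : n ∈ s.erase m := by
        rw [hst] at hn
        rcases Multiset.mem_cons.mp hn with h | h
        · exact absurd h hnm
        · exact h
      have hcard : Multiset.card (s.erase m) = k := by
        rw [Multiset.card_erase_of_mem hms, hs]
        rfl
      have hpos' : ∀ x ∈ s.erase m, 0 < x := fun x hx => hpos x (Multiset.mem_of_mem_erase hx)
      have hsum' : ((s.erase m).map (fun n : ℕ => (1 : ℚ) / n)).sum = (c : ℚ) / A - 1 / m := by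
        have := hsum
        rw [hst, Multiset.map_cons, Multiset.sum_cons] at this
        linarith
      -- the remaining sum is positive
      have hpos2 : (0 : ℚ) < ((s.erase m).map (fun n : ℕ => (1 : ℚ) / n)).sum := by
        have hn0 : (0 : ℚ) < n := by exact_mod_cast hpos' n hnt
        have h1 : (1 : ℚ) / n ≤ ((s.erase m).map (fun n : ℕ => (1 : ℚ) / n)).sum := by
          apply Multiset.single_le_sum
          · intro x hx
            obtain ⟨y, hy, rfl⟩ := Multiset.mem_map.mp hx
            have hy0 : (0 : ℚ) < y := by exact_mod_cast hpos' y hy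
            positivity
          · exact Multiset.mem_map.mpr ⟨n, hnt, rfl⟩
        have : (0 : ℚ) < 1 / n := by positivity
        linarith
      rw [hsum'] at hpos2
      have hcm : A < c * m := by
        have h1 : (1 : ℚ) / m < (c : ℚ) / A := by linarith
        rw [div_lt_div_iff₀ hmQ hAQ, one_mul] at h1
        exact_mod_cast h1
      have hsum'' : ((s.erase m).map (fun n : ℕ => (1 : ℚ) / n)).sum =
          ((c * m - A : ℕ) : ℚ) / ((A * m : ℕ) : ℚ) := by
        rw [hsum', Nat.cast_sub hcm.le]
        push_cast
        field_simp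
      have := ih (A * m) (Nat.mul_pos hA hm0) (s.erase m) hcard hpos' (c * m - A)
        (Nat.sub_pos_of_lt hcm) hsum'' n hnt
      exact le_trans this (bound_le_bound_succ k A m hmle)

/-- The size of a conjugacy class divides the group order. -/
theorem ncard_carrier_dvd {G : Type*} [Group G] [Finite G] (C : ConjClasses G) :
    C.carrier.ncard ∣ Nat.card G := by
  obtain ⟨g, rfl⟩ := ConjClasses.mk_surjective C
  rw [← ConjAct.orbit_eq_carrier_conjClasses, ← MulAction.index_stabilizer]
  have h1 : Nat.card (ConjAct G) = Nat.card G := Nat.card_congr ConjAct.ofConjAct.toEquiv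
  rw [← h1]
  exact Subgroup.index_dvd_card _

/-- **Landau's theorem** (quantitative form): the order of a finite group is bounded in terms of
its number of conjugacy classes. -/
theorem card_le_bound (G : Type*) [Group G] [Finite G] :
    Nat.card G ≤ bound (Nat.card (ConjClasses G)) 1 := by
  classical
  have : Fintype G := Fintype.ofFinite G
  have : Fintype (ConjClasses G) := Fintype.ofFinite _
  let f : ConjClasses G → ℕ := fun C => Nat.card G / C.carrier.ncard
  have hGpos : 0 < Nat.card G := Nat.card_pos
  have hCpos : ∀ C : ConjClasses G, 0 < C.carrier.ncard := by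
    intro C
    obtain ⟨g, rfl⟩ := ConjClasses.mk_surjective C
    exact (Set.ncard_pos (Set.toFinite _)).mpr ⟨g, ConjClasses.mem_carrier_mk⟩
  have hfpos : ∀ C, 0 < f C := fun C =>
    Nat.div_pos (Nat.le_of_dvd hGpos (ncard_carrier_dvd C)) (hCpos C)
  have hsum : (((Finset.univ : Finset (ConjClasses G)).val.map f).map
      (fun n : ℕ => (1 : ℚ) / n)).sum = ((1 : ℕ) : ℚ) / ((1 : ℕ) : ℚ) := by
    rw [Multiset.map_map]
    show (∑ C : ConjClasses G, (1 : ℚ) / ((Nat.card G / C.carrier.ncard : ℕ) : ℚ)) = _
    have e : ∀ C : ConjClasses G, (1 : ℚ) / ((Nat.card G / C.carrier.ncard : ℕ) : ℚ) =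
        (C.carrier.ncard : ℚ) / (Nat.card G : ℚ) := by
      intro C
      have hC : (C.carrier.ncard : ℚ) ≠ 0 := by exact_mod_cast (hCpos C).ne'
      have hG : (Nat.card G : ℚ) ≠ 0 := by exact_mod_cast hGpos.ne'
      rw [Nat.cast_div (ncard_carrier_dvd C) hC]
      field_simp
    rw [Finset.sum_congr rfl (fun C _ => e C), ← Finset.sum_div]
    have h2 := Group.sum_card_conj_classes_eq_card G
    rw [finsum_eq_sum_of_fintype] at h2
    have h3 : (∑ C : ConjClasses G, (C.carrier.ncard : ℚ)) = (Nat.card G : ℚ) := by
      exact_mod_cast h2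
    rw [h3]
    have hG : (Nat.card G : ℚ) ≠ 0 := by exact_mod_cast hGpos.ne'
    rw [div_self hG]
    simp
  have key := le_bound (Nat.card (ConjClasses G)) 1 one_pos
    ((Finset.univ : Finset (ConjClasses G)).val.map f)
    (by rw [Multiset.card_map, Nat.card_eq_fintype_card]; rfl)
    (by
      intro n hn
      obtain ⟨C, -, rfl⟩ := Multiset.mem_map.mp hn
      exact hfpos C)
    1 one_pos hsum
  have h1 : f (ConjClasses.mk (1 : G)) = Nat.card G := by
    show Nat.card G / (ConjClasses.mk (1 : G)).carrier.ncard = Nat.card G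
    have : (ConjClasses.mk (1 : G)).carrier = {1} := by
      ext x
      rw [ConjClasses.mem_carrier_iff_mk_eq, ConjClasses.mk_eq_mk_iff_isConj, Set.mem_singleton_iff]
      exact isConj_one_left
    rw [this, Set.ncard_singleton, Nat.div_one]
  rw [← h1]
  exact key _ (Multiset.mem_map.mpr ⟨_, Finset.mem_univ _, rfl⟩)

/-- A uniform bound for all groups with at most `K` classes. -/
noncomputable def bound' (K : ℕ) : ℕ := (Finset.range (K + 1)).sup (fun k => bound k 1)

theorem card_le_bound' (G : Type*) [Group G] [Finite G] (K : ℕ)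
    (h : Nat.card (ConjClasses G) ≤ K) : Nat.card G ≤ bound' K :=
  le_trans (card_le_bound G)
    (Finset.le_sup (f := fun k => bound k 1) (Finset.mem_range.mpr (Nat.lt_succ_of_le h)))

end Cfsg.Agent.Helper23.Landau
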