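import Mathlib
import Cfsg.Agent.S0261
import Cfsg.Agent.S0809
import Cfsg.Agent.Helper18.Dickson9
import Cfsg.Agent.Helper26.PSL2Syl
import Cfsg.Agent.Helper26.MSupDefs

/-!
# S5287 piece Q4: a subgroup of a Sylow 2-subgroup `P` of `SL₂(F)` (odd `q`) with more than two
elements that is closed under conjugation into `P` is all of `P`.
-/

set_option autoImplicit false

open Cfsg Cfsg.FusionSystem Subgroup Cfsg.Agent.Helper26.MSup

namespace Cfsg.Agent.Helper23.MSup

/-- Every element of `QuaternionGroup n` is an `xa i` or a product of two of them. -/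
theorem quaternion_a_eq (n : ℕ) (i : ZMod (2 * n)) :
    (QuaternionGroup.a i : QuaternionGroup n) =
      QuaternionGroup.xa 0 * QuaternionGroup.xa (i - (n : ZMod (2 * n))) := by
  rw [QuaternionGroup.xa_mul_xa]
  congr 1
  ring

theorem Q4 {F : Type*} [Field F] [Fintype F] (hF : Odd (Fintype.card F))
    (P : Sylow 2 (Matrix.SpecialLinearGroup (Fin 2) F))
    (C : Subgroup (Matrix.SpecialLinearGroup (Fin 2) F)) (hCP : C ≤ P)
    (hcl : ∀ c ∈ C, ∀ g : Matrix.SpecialLinearGroup (Fin 2) F,
      g * c * g⁻¹ ∈ (P : Subgroup (Matrix.SpecialLinearGroup (Fin 2) F)) → g * c * g⁻¹ ∈ C)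
    (hC : 2 < Nat.card C) : C = P := by
  classical
  have hodd : Fintype.card F % 2 = 1 := Nat.odd_iff.1 hF
  have h2F : (2 : F) ≠ 0 := Cfsg.Agent.Helper26.PSL2Syl.two_ne_zero' hodd
  obtain ⟨k, hk1, ⟨e⟩⟩ := Cfsg.Agent.S0261.result hF P
  have hne : NeZero (2 ^ k) := ⟨by positivity⟩
  -- Step A: an element of order 4 in C
  have hu : ∃ u ∈ C, orderOf u = 4 := by
    have hc : ∃ c ∈ C, c ≠ 1 ∧ c ≠ -1 := by
      by_contra h
      push Not at h
      have hsub : (C : Set (Matrix.SpecialLinearGroup (Fin 2) F)) ⊆ {1, -1} := by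
        intro c hc
        by_cases h1 : c = 1
        · simp [h1]
        · simp [h c hc h1]
      have h1 : Nat.card C ≤ 2 := by
        rw [show Nat.card C = (C : Set (Matrix.SpecialLinearGroup (Fin 2) F)).ncard from
          Nat.card_coe_set_eq _]
        calc (C : Set (Matrix.SpecialLinearGroup (Fin 2) F)).ncard
            ≤ ({1, -1} : Set (Matrix.SpecialLinearGroup (Fin 2) F)).ncard :=
              Set.ncard_le_ncard hsub (Set.toFinite _)
          _ ≤ 2 := by
              refine (Set.ncard_insert_le _ _).trans ?_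
              rw [Set.ncard_singleton]
      omega
    obtain ⟨c, hcC, hc1, hcm⟩ := hc
    obtain ⟨j, hj⟩ := IsPGroup.iff_orderOf.1 P.2 ⟨c, hCP hcC⟩
    rw [Subgroup.orderOf_mk] at hj
    have hj2 : 2 ≤ j := by
      by_contra hlt
      have : j = 0 ∨ j = 1 := by omega
      rcases this with rfl | rfl
      · rw [pow_zero, orderOf_eq_one_iff] at hj
        exact hc1 hj
      · rw [pow_one] at hj
        have hcc : c * c = 1 := by
          have h0 := pow_orderOf_eq_one c
          rw [hj, pow_two] at h0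
          exact h0
        exact hcm (Cfsg.Agent.Helper18.Dickson.eq_neg_one_of_sq h2F c hc1 hcc)
    refine ⟨c ^ (2 ^ (j - 2)), Subgroup.pow_mem _ hcC _, ?_⟩
    have hdvd : 2 ^ (j - 2) ∣ orderOf c := by
      rw [hj]; exact pow_dvd_pow 2 (by omega)
    rw [orderOf_pow_of_dvd (by positivity) hdvd, hj]
    have : 2 ^ j = 2 ^ (j - 2) * 4 := by
      rw [show (4 : ℕ) = 2 ^ 2 by norm_num, ← pow_add]
      congr 1
      omega
    rw [this, Nat.mul_div_cancel_left _ (by positivity)]
  obtain ⟨u, huC, hu4⟩ := hu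
  -- Step B: every element of order 4 of P lies in C
  have hB : ∀ v ∈ (P : Subgroup (Matrix.SpecialLinearGroup (Fin 2) F)), orderOf v = 4 → v ∈ C := by
    intro v hvP hv4
    have hcardu : Nat.card (Subgroup.zpowers u) = 4 := by rw [Nat.card_zpowers, hu4]
    have hcardv : Nat.card (Subgroup.zpowers v) = 4 := by rw [Nat.card_zpowers, hv4]
    obtain ⟨g, hg⟩ := (Cfsg.Agent.S0809.result rfl hF (Subgroup.zpowers u) hcardu).1
      (Subgroup.zpowers v) hcardv
    have h1 : g * u * g⁻¹ ∈ Subgroup.zpowers v := by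
      rw [hg]
      exact ⟨u, Subgroup.mem_zpowers u, rfl⟩
    have h2 : g * u * g⁻¹ ∈ (P : Subgroup (Matrix.SpecialLinearGroup (Fin 2) F)) :=
      (Subgroup.zpowers_le.2 hvP) h1
    have h3 : g * u * g⁻¹ ∈ C := hcl u huC g h2
    have h4 : orderOf (g * u * g⁻¹) = 4 := by
      rw [← hu4]
      exact (MulAut.conj g).orderOf_eq u
    have h5 : Subgroup.zpowers (g * u * g⁻¹) = Subgroup.zpowers v := by
      apply Subgroup.eq_of_le_of_card_ge (Subgroup.zpowers_le.2 h1)
      rw [Nat.card_zpowers, Nat.card_zpowers, h4, hv4]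
    have h6 : v ∈ Subgroup.zpowers (g * u * g⁻¹) := by
      rw [h5]; exact Subgroup.mem_zpowers v
    exact (Subgroup.zpowers_le.2 h3) h6
  -- Step C: P ≤ C
  have hxa : ∀ i : ZMod (2 * 2 ^ k),
      ((e.symm (QuaternionGroup.xa i) : (P : Subgroup (Matrix.SpecialLinearGroup (Fin 2) F))) :
        Matrix.SpecialLinearGroup (Fin 2) F) ∈ C := by
    intro i
    apply hB _ (e.symm (QuaternionGroup.xa i)).2
    rw [Subgroup.orderOf_coe, e.symm.orderOf_eq, QuaternionGroup.orderOf_xa]
  apply le_antisymm hCP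
  intro y hy
  have hy' : (⟨y, hy⟩ : (P : Subgroup (Matrix.SpecialLinearGroup (Fin 2) F))) =
      e.symm (e ⟨y, hy⟩) := (e.symm_apply_apply _).symm
  have key : ∀ w : QuaternionGroup (2 ^ k),
      ((e.symm w : (P : Subgroup (Matrix.SpecialLinearGroup (Fin 2) F))) :
        Matrix.SpecialLinearGroup (Fin 2) F) ∈ C := by
    intro w
    cases w with
    | a i =>
      rw [quaternion_a_eq, map_mul]
      exact C.mul_mem (hxa 0) (hxa _)
    | xa i => exact hxa i
  have := key (e ⟨y, hy⟩)
  rw [← hy'] at this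
  exact this

end Cfsg.Agent.Helper23.MSup
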