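import Mathlib
import Cfsg.Agent.S0261
import Cfsg.Agent.Helper26.MSupDefs
import Cfsg.Agent.Helper26.MSupSC
import Cfsg.Agent.Helper26.MSupQS

/-!
# S5287 piece SDS: some Sylow 2-subgroup of `GL₂(F)` (`|F|` odd) has no supersoluble chain
-/

set_option autoImplicit false

open Cfsg Cfsg.FusionSystem Subgroup Cfsg.Agent.Helper26.MSup

namespace Cfsg.Agent.Helper23.MSup

theorem SDS {F : Type*} [Field F] [Fintype F] (h3 : Fintype.card F % 4 = 3)
    (hQ4 : ∀ (P : Sylow 2 (Matrix.SpecialLinearGroup (Fin 2) F))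
      (C : Subgroup (Matrix.SpecialLinearGroup (Fin 2) F)), C ≤ P →
      (∀ c ∈ C, ∀ g : Matrix.SpecialLinearGroup (Fin 2) F,
        g * c * g⁻¹ ∈ (P : Subgroup (Matrix.SpecialLinearGroup (Fin 2) F)) → g * c * g⁻¹ ∈ C) →
      2 < Nat.card C → C = P) :
    ∃ P : Sylow 2 (GL (Fin 2) F), ¬ HasChain (groupFusionSystem (P : Subgroup (GL (Fin 2) F))) := by
  classical
  have hF : Odd (Fintype.card F) := by
    rw [Nat.odd_iff]; omega
  let τ : Matrix.SpecialLinearGroup (Fin 2) F →* GL (Fin 2) F := Matrix.SpecialLinearGroup.toGL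
  have hτ : Function.Injective τ := Matrix.SpecialLinearGroup.toGL_injective
  obtain ⟨Q₀⟩ : Nonempty (Sylow 2 (Matrix.SpecialLinearGroup (Fin 2) F)) := inferInstance
  obtain ⟨k, hk1, ⟨e⟩⟩ := Cfsg.Agent.S0261.result hF Q₀
  have hnc : ¬ ∀ a b : (Q₀ : Subgroup (Matrix.SpecialLinearGroup (Fin 2) F)), a * b = b * a := by
    intro h
    apply quaternion_not_comm (2 ^ k) (by
      calc 2 = 2 ^ 1 := by norm_num
        _ ≤ 2 ^ k := Nat.pow_le_pow_right (by norm_num) hk1)
    intro a b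
    have := h (e.symm a) (e.symm b)
    rw [← map_mul, ← map_mul] at this
    exact e.symm.injective this
  obtain ⟨P, hQP⟩ := IsPGroup.exists_le_sylow (Q₀.2.map τ)
  refine ⟨P, ?_⟩
  intro hch
  set Q : Subgroup (GL (Fin 2) F) :=
    (Q₀ : Subgroup (Matrix.SpecialLinearGroup (Fin 2) F)).map τ with hQdef
  have hQne : Q ≠ ⊥ := by
    intro hbot
    apply hnc
    intro a b
    have ha : τ (a : Matrix.SpecialLinearGroup (Fin 2) F) = 1 := by
      have : τ a ∈ Q := Subgroup.mem_map_of_mem τ a.2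
      rw [hbot] at this
      exact Subgroup.mem_bot.1 this
    have hb : τ (b : Matrix.SpecialLinearGroup (Fin 2) F) = 1 := by
      have : τ b ∈ Q := Subgroup.mem_map_of_mem τ b.2
      rw [hbot] at this
      exact Subgroup.mem_bot.1 this
    have ha' : (a : Matrix.SpecialLinearGroup (Fin 2) F) = 1 := hτ (by rw [ha, map_one])
    have hb' : (b : Matrix.SpecialLinearGroup (Fin 2) F) = 1 := hτ (by rw [hb, map_one])
    apply Subtype.ext
    simp [ha', hb']
  obtain ⟨C, x, hC, hxP, -, hnot, hle⟩ := chain_cut _ hch Q hQP hQne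
  -- the pulled back subgroup
  set C' : Subgroup (Matrix.SpecialLinearGroup (Fin 2) F) :=
    C.comap τ ⊓ (Q₀ : Subgroup (Matrix.SpecialLinearGroup (Fin 2) F)) with hC'def
  have hC'le : C' ≤ (Q₀ : Subgroup (Matrix.SpecialLinearGroup (Fin 2) F)) := inf_le_right
  have hC'cl : ∀ c ∈ C', ∀ g : Matrix.SpecialLinearGroup (Fin 2) F,
      g * c * g⁻¹ ∈ (Q₀ : Subgroup (Matrix.SpecialLinearGroup (Fin 2) F)) → g * c * g⁻¹ ∈ C' := by
    intro c hc g hg
    refine ⟨?_, hg⟩
    show τ (g * c * g⁻¹) ∈ C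
    rw [map_mul, map_mul, map_inv]
    apply closed_of_stronglyClosed hC (τ c) hc.1 (τ g)
    have : τ g * τ c * (τ g)⁻¹ = τ (g * c * g⁻¹) := by rw [map_mul, map_mul, map_inv]
    rw [this]
    exact hQP (Subgroup.mem_map_of_mem τ hg)
  have hC'ne : C' ≠ (Q₀ : Subgroup (Matrix.SpecialLinearGroup (Fin 2) F)) := by
    intro h
    apply hnot
    rintro y ⟨s, hs, rfl⟩
    have : s ∈ C' := by rw [h]; exact hs
    exact this.1
  have hcard : Nat.card C' ≤ 2 := by
    by_contra h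
    push Not at h
    exact hC'ne (hQ4 Q₀ C' hC'le hC'cl h)
  have hsub : Q ⊓ C ≤ C'.map τ := by
    rintro y ⟨⟨s, hs, rfl⟩, hyC⟩
    exact Subgroup.mem_map_of_mem τ ⟨hyC, hs⟩
  have hcard' : Nat.card (Q ⊓ C : Subgroup (GL (Fin 2) F)) ≤ 2 := by
    calc Nat.card (Q ⊓ C : Subgroup (GL (Fin 2) F)) ≤ Nat.card (C'.map τ) :=
          Subgroup.card_le_of_le hsub
      _ = Nat.card C' := Subgroup.card_map_of_injective hτ
      _ ≤ 2 := hcard
  have hxN := le_normalizer_of_stronglyClosed hC hxP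
  apply hnc
  intro a b
  have hab := comm_of_le_sup_zpowers C Q x hxN hle hcard' (τ a) (τ b)
    (Subgroup.mem_map_of_mem τ a.2) (Subgroup.mem_map_of_mem τ b.2)
  apply Subtype.ext
  apply hτ
  rw [Subgroup.coe_mul, Subgroup.coe_mul, map_mul, map_mul]
  exact hab

end Cfsg.Agent.Helper23.MSup
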