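import Mathlib
import Cfsg.Prelude.Def_Blocks
import Cfsg.Prelude.Def_BlockLocal
import Cfsg.Prelude.Def_BrauerPairs
import Cfsg.Agent.Helper23.BlockFusion
import Cfsg.Agent.Helper5.DefectOrder
import Cfsg.Agent.S0936
import Cfsg.Agent.S0917
import Cfsg.Agent.S0919

set_option autoImplicit false
set_option linter.unusedSectionVars false
set_option linter.unusedVariables false

/-!
# Major subsections: blocks of local subgroups inducing a given block with large defect
-/

namespace Cfsg.Agent.Helper23.MS

open Cfsg Cfsg.Agent.Helper24 Cfsg.Agent.Helper5 Cfsg.Agent.Helper5.Loc Cfsg.Agent.Helper5.CC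
open Cfsg.Agent.Helper14
open Cfsg.Agent.Helper23.BT Cfsg.Agent.Helper23.IC Cfsg.Agent.Helper23.TM
open Cfsg.Agent.Helper23.SB
open Cfsg.Agent.Helper23.SP Cfsg.Agent.Helper23.SU Cfsg.Agent.Helper23.PP
open Cfsg.Agent.Helper23.MP Cfsg.Agent.Helper23.PC Cfsg.Agent.Helper23.BC
open Cfsg.Agent.Helper23.MC Cfsg.Agent.Helper23.LD Cfsg.Agent.Helper23.ST

variable {G : Type*} [Group G] [Fintype G] {M : Ideal AlgInt} {p : ℕ} [Fact p.Prime]

/-- **If the idempotent of `B` has a unit coefficient at an element `g` centralizing the
`p`-subgroup `P`, then some block `b` of `H` (`P·C_G(P) ≤ H ≤ N_G(P)`) induces `B` and has a unit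
coefficient at `g`.** -/
theorem exists_induced_block_of_coeff (hM : IsPModular p M) (P H : Subgroup G)
    (hP : IsPGroup p P) (hPH : P ≤ H) (hCH : Subgroup.centralizer (P : Set G) ≤ H)
    (hHN : H ≤ Subgroup.normalizer (P : Set G)) (B : Set (IrrCharacter G)) (hB : IsPBlock M B)
    (g : G) (hg : g ∈ Subgroup.centralizer (P : Set G))
    (hne : ¬ MemLocalIdeal M (blockCoeff B g)) :
    ∃ b : Set (IrrCharacter H), IsInducedBlock M H b B ∧
      ¬ MemLocalIdeal M (blockCoeff b ⟨g, hCH hg⟩) := by
  classical
  have hMp := isPrime_of_isPModular hM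
  have : Fintype H := Fintype.ofFinite _
  have : Fintype (IrrCharacter H) := Fintype.ofFinite _
  have : Fintype (IrrCharacter G) := Fintype.ofFinite _
  have heB := isClassFunction_blockCoeff B
  have heBM : ∀ t, MemLocalRing M (blockCoeff B t) := osima hMp B hB
  set φ : H → ℂ := brRes P H (blockCoeff B) with hφ
  have hφc : IsClassFunction H φ := isClassFunction_brRes hHN heB
  have hφM : ∀ t, MemLocalRing M (φ t) := lr_brRes hMp heBM
  have hinv : ∀ x ∈ P, ∀ t, blockCoeff B (x * t * x⁻¹) = blockCoeff B t := fun x _ t =>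
    (heB t x).symm ▸ rfl
  have hidem : ∀ t, MemLocalIdeal M (conv φ φ t - φ t) := by
    intro t
    have := brRes_conv_of_invariant hM P H hP hCH hinv hinv heBM heBM t
    rw [conv_blockCoeff_self] at this
    have h2 := li_neg this
    rwa [neg_sub] at h2
  have hney : ¬ MemLocalIdeal M (φ ⟨g, hCH hg⟩) := by
    rw [hφ, brRes, cut_of_mem _ hg]
    exact hne
  obtain ⟨ξ, hξ1, hξ2⟩ := exists_block_of_idem hMp hφc hφM hidem ⟨g, hCH hg⟩ hney
  obtain ⟨χ, hχ⟩ := exists_irr_brauer hM P H hP hCH hHN ξ
  have h0 := hχ _ heB heBM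
  rw [act_blockCoeff] at h0
  have hχB : χ ∈ B := by
    by_contra hcon
    rw [if_neg hcon, sub_zero] at h0
    exact hξ1 h0
  have hind := isInducedBlock_of_brauer hM P H hP hPH hHN ξ χ hχ
  rw [← IsPBlock_eq_blockOf hMp hB hχB] at hind
  exact ⟨_, hind, hξ2⟩

/-- A defect class and a defect group centralizing it. -/
theorem exists_defectGroup_class (hM : IsPModular p M) {X : Type*} [Group X] [Finite X]
    (b : Set (IrrCharacter X)) (hb : IsPBlock M b) :
    ∃ (g : X) (D : Subgroup X), IsDefectClass M b g ∧ IsDefectGroup p M b D ∧ IsPGroup p D ∧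
      D ≤ Subgroup.centralizer ({g} : Set X) := by
  obtain ⟨y₀, hy₀⟩ := Cfsg.Agent.S0906.result p M hM b hb
  obtain ⟨S₀⟩ : Nonempty (Sylow p (Subgroup.centralizer ({y₀} : Set X))) := inferInstance
  refine ⟨y₀, (S₀ : Subgroup _).map (Subgroup.centralizer ({y₀} : Set X)).subtype, hy₀,
    ⟨y₀, hy₀, S₀, rfl⟩, S₀.2.map _, ?_⟩
  rintro _ ⟨s, _, rfl⟩
  exact s.2

omit [Fintype G] [Fact p.Prime] in
/-- The centralizer of a cyclic subgroup is the centralizer of its generator. -/
theorem centralizer_zpowers_eq (y : G) :
    Subgroup.centralizer ((Subgroup.zpowers y : Subgroup G) : Set G) =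
      Subgroup.centralizer ({y} : Set G) := by
  apply le_antisymm
  · intro c hc
    rw [Subgroup.mem_centralizer_iff] at hc ⊢
    intro h hh
    rw [Set.mem_singleton_iff] at hh
    subst hh
    exact hc h (Subgroup.mem_zpowers h)
  · rw [Subgroup.le_centralizer_iff, Subgroup.zpowers_le]
    rw [Subgroup.mem_centralizer_iff]
    intro h hh
    rw [SetLike.mem_coe, Subgroup.mem_centralizer_iff] at hh
    exact (hh y (Set.mem_singleton y)).symm

/-- **Deficiency classes pass to centralizers of `p`-elements, and back from centralizers of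
elements of order `p`.** -/
theorem deficiency_class (hM : IsPModular p M) (r : ℕ) :
    ((∀ B' : Set (IrrCharacter G), IsPBlock M B' → B' ≠ principalBlock M G →
        blockDefect p B' < r) →
      ∀ y : G, (∃ k : ℕ, orderOf y = p ^ k) →
        (∀ B' : Set (IrrCharacter ↥(Subgroup.centralizer ({y} : Set G))), IsPBlock M B' →
          B' ≠ principalBlock M ↥(Subgroup.centralizer ({y} : Set G)) →
          blockDefect p B' < r)) ∧
    (0 < r →
      (∀ y : G, orderOf y = p →
        (∀ B' : Set (IrrCharacter ↥(Subgroup.centralizer ({y} : Set G))), IsPBlock M B' →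
          B' ≠ principalBlock M ↥(Subgroup.centralizer ({y} : Set G)) →
          blockDefect p B' < r)) →
      (∀ B' : Set (IrrCharacter G), IsPBlock M B' → B' ≠ principalBlock M G →
        blockDefect p B' < r)) := by
  classical
  have hMp := isPrime_of_isPModular hM
  have hp : p.Prime := Fact.out
  have : Fintype (IrrCharacter G) := Fintype.ofFinite _
  constructor
  · intro hG y hy b hb hbne
    have : Fintype (Subgroup.centralizer ({y} : Set G)) := Fintype.ofFinite _
    have : Fintype (IrrCharacter (Subgroup.centralizer ({y} : Set G))) := Fintype.ofFinite _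
    have hP : IsPGroup p (Subgroup.zpowers y) := by
      obtain ⟨k, hk⟩ := hy
      exact IsPGroup.of_card (n := k) (by rw [Nat.card_zpowers, hk])
    have hPC : Subgroup.zpowers y ≤ Subgroup.centralizer ({y} : Set G) := by
      rw [Subgroup.zpowers_le, Subgroup.mem_centralizer_iff]
      intro h hh
      rw [Set.mem_singleton_iff] at hh
      rw [hh]
    have hCP : Subgroup.centralizer ((Subgroup.zpowers y : Subgroup G) : Set G) ≤
        Subgroup.centralizer ({y} : Set G) := le_of_eq (centralizer_zpowers_eq y)
    have hCN : Subgroup.centralizer ({y} : Set G) ≤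
        Subgroup.normalizer ((Subgroup.zpowers y : Subgroup G) : Set G) := by
      rw [← centralizer_zpowers_eq]
      exact Subgroup.centralizer_le_normalizer _
    obtain ⟨B, hind⟩ := Cfsg.Agent.S0919.result p M hM (Subgroup.zpowers y) _ hP hPC hCP hCN b hb
    have hBne : B ≠ principalBlock M G := by
      rintro rfl
      exact hbne ((Cfsg.Agent.S0936.result p M hM _ b ⟨_, hind⟩).mp hind)
    have hlt := hG B hind.2.1 hBne
    obtain ⟨g₀, D, -, hD, -, -⟩ := exists_defectGroup_class (p := p) hM b hb
    obtain ⟨E, hE, hDE⟩ := Cfsg.Agent.S0917.result p M hM _ b hb B hind.2.1 hind D hD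
    have c1 := card_defectGroup hM hb hD
    have c2 := card_defectGroup hM hind.2.1 hE
    have h3 : p ^ blockDefect p b ≤ p ^ blockDefect p B := by
      rw [← c1, ← c2, ← Subgroup.card_map_of_injective
        (Subgroup.subtype_injective (Subgroup.centralizer ({y} : Set G)))]
      exact Subgroup.card_le_of_le hDE
    have := (Nat.pow_le_pow_iff_right hp.one_lt).mp h3
    omega
  · intro hr hC B' hB' hB'ne
    by_contra hcon
    push Not at hcon
    obtain ⟨g, D, hg, hD, hDp, hDg⟩ := exists_defectGroup_class (p := p) hM B' hB'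
    have hcard := card_defectGroup hM hB' hD
    have hd1 : 1 ≤ blockDefect p B' := by omega
    have hnt : Nontrivial D := by
      rw [← Finite.one_lt_card_iff_nontrivial, hcard]
      exact Nat.one_lt_pow (by omega) hp.one_lt
    have hZnt : Nontrivial (Subgroup.center D) := hDp.center_nontrivial
    have hZp : IsPGroup p (Subgroup.center D) := hDp.to_subgroup _
    obtain ⟨n, hn⟩ := IsPGroup.iff_card.mp hZp
    have hn0 : n ≠ 0 := by
      rintro rfl
      rw [pow_zero] at hn
      have := Finite.one_lt_card_iff_nontrivial.mpr hZnt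
      omega
    have hdvd : p ∣ Nat.card (Subgroup.center D) := by
      rw [hn]
      exact dvd_pow_self p hn0
    obtain ⟨z, hz⟩ := exists_prime_orderOf_dvd_card' p hdvd
    set y : G := ((z : D) : G) with hy
    have hyo : orderOf y = p := by
      rw [hy, Subgroup.orderOf_coe, Subgroup.orderOf_coe]
      exact hz
    have hyD : ∀ d ∈ D, d * y = y * d := by
      intro d hd
      have := Subgroup.mem_center_iff.mp z.2 ⟨d, hd⟩
      exact congrArg Subtype.val this
    have : Fintype (Subgroup.centralizer ({y} : Set G)) := Fintype.ofFinite _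
    have : Fintype (IrrCharacter (Subgroup.centralizer ({y} : Set G))) := Fintype.ofFinite _
    have hDC : D ≤ Subgroup.centralizer ({y} : Set G) := by
      intro d hd
      rw [Subgroup.mem_centralizer_iff]
      intro h hh
      rw [Set.mem_singleton_iff] at hh
      subst hh
      exact (hyD d hd).symm
    have hgy : g * y = y * g := by
      have := hDg (z : D).2
      rw [Subgroup.mem_centralizer_iff] at this
      exact this g (Set.mem_singleton g)
    have hgC : g ∈ Subgroup.centralizer ((Subgroup.zpowers y : Subgroup G) : Set G) := by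
      rw [centralizer_zpowers_eq, Subgroup.mem_centralizer_iff]
      intro h hh
      rw [Set.mem_singleton_iff] at hh
      subst hh
      exact hgy.symm
    have hP : IsPGroup p (Subgroup.zpowers y) :=
      IsPGroup.of_card (n := 1) (by rw [Nat.card_zpowers, hyo, pow_one])
    have hPC : Subgroup.zpowers y ≤ Subgroup.centralizer ({y} : Set G) := by
      rw [Subgroup.zpowers_le, Subgroup.mem_centralizer_iff]
      intro h hh
      rw [Set.mem_singleton_iff] at hh
      rw [hh]
    have hCP : Subgroup.centralizer ((Subgroup.zpowers y : Subgroup G) : Set G) ≤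
        Subgroup.centralizer ({y} : Set G) := le_of_eq (centralizer_zpowers_eq y)
    have hCN : Subgroup.centralizer ({y} : Set G) ≤
        Subgroup.normalizer ((Subgroup.zpowers y : Subgroup G) : Set G) := by
      rw [← centralizer_zpowers_eq]
      exact Subgroup.centralizer_le_normalizer _
    obtain ⟨b, hind, hbne⟩ := exists_induced_block_of_coeff hM (Subgroup.zpowers y) _ hP hPC hCP
      hCN B' hB' g hgC hg.2.1
    have hb := hind.1
    have hbnp : b ≠ principalBlock M ↥(Subgroup.centralizer ({y} : Set G)) := by
      intro hbp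
      have h1 := (Cfsg.Agent.S0936.result p M hM _ b ⟨_, hind⟩).mpr hbp
      exact hB'ne (induced_unique hMp _ hind h1)
    have hlt := hC y hyo b hb hbnp
    obtain ⟨g₁, Db, -, hDb, -, -⟩ := exists_defectGroup_class (p := p) hM b hb
    have hD'p : IsPGroup p (D.subgroupOf (Subgroup.centralizer ({y} : Set G))) :=
      hDp.comap_subtype
    have hcent : (⟨g, hCP hgC⟩ : Subgroup.centralizer ({y} : Set G)) ∈ Subgroup.centralizer
        ((D.subgroupOf (Subgroup.centralizer ({y} : Set G)) : Subgroup _) : Set _) := by
      rw [Subgroup.mem_centralizer_iff]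
      intro q' hq'
      apply Subtype.ext
      rw [Subgroup.coe_mul, Subgroup.coe_mul]
      have := hDg (Subgroup.mem_subgroupOf.mp hq')
      rw [Subgroup.mem_centralizer_iff] at this
      exact (this g (Set.mem_singleton g)).symm
    obtain ⟨x, hx⟩ := (Cfsg.Agent.S0959.result p M hM b hb Db hDb _ hD'p).mp
      ⟨_, osima hMp b hb _, hbne, _, IsConj.refl _, hcent⟩
    have c1 := card_defectGroup hM hb hDb
    have c3 : Nat.card (D.subgroupOf (Subgroup.centralizer ({y} : Set G))) = Nat.card D :=
      Nat.card_congr (Subgroup.subgroupOfEquivOfLe hDC).toEquiv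
    have h3 : p ^ blockDefect p B' ≤ p ^ blockDefect p b := by
      rw [← c1, ← hcard, ← c3, ← Subgroup.card_map_of_injective
        (f := (MulAut.conj x).toMonoidHom) (MulAut.conj x).injective]
      exact Subgroup.card_le_of_le hx
    have := (Nat.pow_le_pow_iff_right hp.one_lt).mp h3
    omega

end Cfsg.Agent.Helper23.MS
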