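import Mathlib
import Cfsg.Prelude.Def_Blocks
import Cfsg.Prelude.Def_BlockLocal
import Cfsg.Prelude.Def_BrauerPairs
import Cfsg.Agent.Helper23.InducedDefect
import Cfsg.Agent.Helper23.InertialIndex
import Cfsg.Agent.Helper5.CentralDefect
import Cfsg.Agent.Helper5.CentralDefect2
import Cfsg.Agent.Helper5.DefectOrder
import Cfsg.Agent.Helper5.Green
import Cfsg.Agent.Helper8.PRegular

set_option autoImplicit false
set_option linter.unusedSectionVars false
set_option linter.unusedVariables false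

/-!
# A criterion for maximal Brauer pairs (S4828)
-/

namespace Cfsg.Agent.Helper23.MPC

open Cfsg Cfsg.Agent.Helper24 Cfsg.Agent.Helper5 Cfsg.Agent.Helper5.Loc Cfsg.Agent.Helper5.CC
open Cfsg.Agent.Helper14
open Cfsg.Agent.Helper23.BT Cfsg.Agent.Helper23.BP
open Cfsg.Agent.Helper23.SP Cfsg.Agent.Helper23.SU
open Cfsg.Agent.Helper23.MP Cfsg.Agent.Helper23.MC Cfsg.Agent.Helper23.LD
open Cfsg.Agent.Helper23.II Cfsg.Agent.Helper23.IDf
open scoped Pointwise

variable {G : Type*} [Group G] [Fintype G] {M : Ideal AlgInt} {p : ℕ} [Fact p.Prime]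

/-- `Z(Q)` inside `C_G(Q)`. -/
abbrev zOf (Q : Subgroup G) : Subgroup (Subgroup.centralizer (Q : Set G)) :=
  (Q ⊓ Subgroup.centralizer (Q : Set G)).subgroupOf (Subgroup.centralizer (Q : Set G))

theorem mem_zOf (Q : Subgroup G) (z : Subgroup.centralizer (Q : Set G)) :
    z ∈ zOf Q ↔ (z : G) ∈ Q := by
  show (z : G) ∈ Q ⊓ Subgroup.centralizer (Q : Set G) ↔ _
  exact ⟨fun h => h.1, fun h => ⟨h, z.2⟩⟩

theorem zOf_le_center (Q : Subgroup G) : zOf Q ≤ Subgroup.center _ := by
  intro z hz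
  rw [mem_zOf] at hz
  rw [Subgroup.mem_center_iff]
  intro c
  apply Subtype.ext
  exact (Subgroup.mem_centralizer_iff.mp c.2 (z : G) hz).symm

theorem isPGroup_zOf (Q : Subgroup G) (hQ : IsPGroup p Q) : IsPGroup p (zOf Q) := by
  have h1 : IsPGroup p ↥(Q ⊓ Subgroup.centralizer (Q : Set G)) := hQ.to_le inf_le_left
  exact h1.of_equiv (Subgroup.subgroupOfEquivOfLe inf_le_right).symm

theorem card_zOf (Q : Subgroup G) :
    Nat.card (zOf Q) = Nat.card ↥(Q ⊓ Subgroup.centralizer (Q : Set G)) :=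
  Nat.card_congr (Subgroup.subgroupOfEquivOfLe inf_le_right).toEquiv

/-- Degree condition reformulated with the index of `Z(Q)`. -/
theorem factorization_index_zOf (Q : Subgroup G) :
    (zOf Q).index.factorization p + (Nat.card ↥(Q ⊓ Subgroup.centralizer (Q : Set G))).factorization p
      = (Nat.card (Subgroup.centralizer (Q : Set G))).factorization p := by
  rw [← card_zOf, ← Subgroup.index_mul_card (zOf Q),
    Nat.factorization_mul (Subgroup.index_ne_zero_of_finite) (Nat.card_pos.ne')]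
  rfl

instance zOf_normal (Q : Subgroup G) : (zOf Q).Normal := by
  constructor
  intro n hn g
  have h := Subgroup.mem_center_iff.mp (zOf_le_center Q hn) g
  have : g * n * g⁻¹ = n := by rw [h, mul_inv_cancel_right]
  rw [this]
  exact hn

/-- Forward direction of S4828. -/
theorem forward (hM : IsPModular p M) (B : Set (IrrCharacter G)) (Q : Subgroup G)
    (e : Set (IrrCharacter (Subgroup.centralizer (Q : Set G))))
    (hmax : IsMaximalBrauerPair p M B Q e) :
    ∃ θ ∈ e, (∀ z : Subgroup.centralizer (Q : Set G), (z : G) ∈ Q →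
        (θ : Subgroup.centralizer (Q : Set G) → ℂ) z =
          (θ : Subgroup.centralizer (Q : Set G) → ℂ) 1) ∧
      (charDegree (θ : Subgroup.centralizer (Q : Set G) → ℂ)).factorization p +
        (Nat.card ↥(Q ⊓ Subgroup.centralizer (Q : Set G))).factorization p =
          (Nat.card (Subgroup.centralizer (Q : Set G))).factorization p ∧
      (∀ g : G, g ∈ Subgroup.normalizer (Q : Set G) →
        StabilizesBlock (Subgroup.centralizer (Q : Set G)) e g →
        (∃ k : ℕ, orderOf g = p ^ k) → g ∈ Q ⊔ Subgroup.centralizer (Q : Set G)) := by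
  classical
  have hMp := isPrime_of_isPModular hM
  have : Fintype (Subgroup.centralizer (Q : Set G)) := Fintype.ofFinite _
  have : Fintype (IrrCharacter (Subgroup.centralizer (Q : Set G))) := Fintype.ofFinite _
  have he : IsBrauerPair p M Q e := hmax.1.1
  have hZdef := isDefectGroup_center_of_maximal hM B Q e hmax
  obtain ⟨ψ, hψ⟩ := exists_infl_mem_of_normal_defect hM (zOf Q) he.2 hZdef
  refine ⟨infl (zOf Q) ψ, hψ, ?_, ?_, ?_⟩
  · intro z hz
    rw [infl_apply, infl_apply]
    refine congrArg _ ?_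
    rw [(QuotientGroup.eq_one_iff z).mpr ((mem_zOf Q z).mpr hz), QuotientGroup.mk_one]
  · have h1 := Cfsg.Agent.Helper5.CD.factorization_degree_of_central_defect hM he.2 hZdef (zOf_le_center Q) _ hψ
    rw [h1]
    exact factorization_index_zOf Q
  · intro g hgN hgS ⟨k, hk⟩
    have hgT : g ∈ stabSubgroup Q e := ⟨hgN, hgS⟩
    have hnd := not_dvd_inertial_index hM B Q e hmax (stabSubgroup Q e)
      (fun y => mem_stabSubgroup Q e y)
    have hTN : stabSubgroup Q e ≤ Subgroup.normalizer (Q : Set G) := fun y hy => hy.1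
    have n1 : (Q.subgroupOf (stabSubgroup Q e)).Normal :=
      Subgroup.normal_subgroupOf_of_le_normalizer hTN
    have n2 : ((Subgroup.centralizer (Q : Set G)).subgroupOf (stabSubgroup Q e)).Normal :=
      Subgroup.normal_subgroupOf_of_le_normalizer (le_normalizer_centralizer hTN)
    have hcop : ((Q.subgroupOf (stabSubgroup Q e) ⊔
        (Subgroup.centralizer (Q : Set G)).subgroupOf (stabSubgroup Q e)).index).Coprime
        (orderOf (⟨g, hgT⟩ : stabSubgroup Q e)) := by
      rw [Subgroup.orderOf_mk, hk]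
      apply Nat.Coprime.pow_right
      exact ((Nat.Prime.coprime_iff_not_dvd (Fact.out : p.Prime)).mpr hnd).symm
    have hgK := Cfsg.Agent.Helper8.PRegular.mem_of_coprime_index_orderOf _ _ hcop
    have hle : (Q.subgroupOf (stabSubgroup Q e) ⊔
        (Subgroup.centralizer (Q : Set G)).subgroupOf (stabSubgroup Q e)).map
          (stabSubgroup Q e).subtype ≤ Q ⊔ Subgroup.centralizer (Q : Set G) := by
      rw [Subgroup.map_sup]
      apply sup_le_sup
      · rw [Subgroup.subgroupOf_map_subtype]; exact inf_le_left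
      · rw [Subgroup.subgroupOf_map_subtype]; exact inf_le_left
    exact hle ⟨⟨g, hgT⟩, hgK, rfl⟩

/-- Backward direction of S4828. -/
theorem backward (hM : IsPModular p M) (Q : Subgroup G)
    (e : Set (IrrCharacter (Subgroup.centralizer (Q : Set G)))) (he : IsBrauerPair p M Q e)
    (θ : IrrCharacter (Subgroup.centralizer (Q : Set G))) (hθ : θ ∈ e)
    (hdeg : (charDegree (θ : Subgroup.centralizer (Q : Set G) → ℂ)).factorization p +
        (Nat.card ↥(Q ⊓ Subgroup.centralizer (Q : Set G))).factorization p =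
          (Nat.card (Subgroup.centralizer (Q : Set G))).factorization p)
    (hpel : ∀ g : G, g ∈ Subgroup.normalizer (Q : Set G) →
        StabilizesBlock (Subgroup.centralizer (Q : Set G)) e g →
        (∃ k : ℕ, orderOf g = p ^ k) → g ∈ Q ⊔ Subgroup.centralizer (Q : Set G)) :
    ∃ B : Set (IrrCharacter G), IsMaximalBrauerPair p M B Q e := by
  classical
  have hMp := isPrime_of_isPModular hM
  have : Fintype (Subgroup.centralizer (Q : Set G)) := Fintype.ofFinite _
  have : Fintype (IrrCharacter (Subgroup.centralizer (Q : Set G))) := Fintype.ofFinite _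
  -- `Z(Q)` is a defect group of `e`
  have hdeg' : (charDegree (θ : Subgroup.centralizer (Q : Set G) → ℂ)).factorization p =
      (zOf Q).index.factorization p := by
    have := factorization_index_zOf (p := p) Q
    omega
  have hZdef : IsDefectGroup p M e (zOf Q) := by
    have h1 := Cfsg.Agent.Helper5.CD.isDefectGroup_of_central hM (zOf Q) (isPGroup_zOf Q he.1) (zOf_le_center Q) θ hdeg'
    rwa [← IsPBlock_eq_blockOf hMp he.2 hθ] at h1
  obtain ⟨B, hB, -⟩ := existsUnique_isBrauerPairOf hM Q e he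
  refine ⟨B, hB, ?_⟩
  intro R g hRg hle
  have hQR : Q ≤ R := fst_le_of_reflTransGen (⟨Q, e⟩ : BrauerPairIdx G) ⟨R, g⟩ hle
  by_contra hne
  have hRp : IsPGroup p R := hRg.1.1
  obtain ⟨r, hrR, hrN, hrQ⟩ := exists_mem_normalizer_not_mem hRp hQR (Ne.symm hne)
  -- the pair on `R₁ = N_R(Q)`
  obtain ⟨g₁, hg₁, hle₁⟩ := exists_subpair hM _ R g (R ⊓ Subgroup.normalizer (Q : Set G))
    hRg.1 inf_le_left rfl
  have hQR₁ : Q ≤ R ⊓ Subgroup.normalizer (Q : Set G) := le_inf hQR Subgroup.le_normalizer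
  have hR₁g₁ : IsBrauerPair p M (R ⊓ Subgroup.normalizer (Q : Set G)) g₁ :=
    ⟨hRp.to_le inf_le_left, hg₁⟩
  have hleQ : SubpairLE p M Q e (R ⊓ Subgroup.normalizer (Q : Set G)) g₁ :=
    subpairLE_of_le_of_le hM (a := ⟨Q, e⟩) (b := ⟨R ⊓ Subgroup.normalizer (Q : Set G), g₁⟩)
      (c := ⟨R, g⟩) hle hle₁ hRg.1 hQR₁
  have hnorm := isNormalSubpair_of_subpairLE hM hleQ hR₁g₁ hQR₁ inf_le_right
  have hrS : StabilizesBlock (Subgroup.centralizer (Q : Set G)) e r :=
    hnorm.2.2.2.2.1 r ⟨hrR, hrN⟩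
  have hrp : ∃ k : ℕ, orderOf r = p ^ k := by
    obtain ⟨k, hk⟩ := IsPGroup.iff_orderOf.mp hRp ⟨r, hrR⟩
    exact ⟨k, by rw [← hk, Subgroup.orderOf_mk]⟩
  have hrQC := hpel r hrN hrS hrp
  -- `R₁ ∩ C_G(Q) ≤ Q`
  obtain ⟨D, hD, hge⟩ := exists_defectGroup_ge hM (R ⊓ Subgroup.normalizer (Q : Set G)) Q g₁ e
    hR₁g₁ hQR₁ hleQ
  obtain ⟨x, hx⟩ := defectGroup_conj hM e he.2 (zOf Q) D hZdef hD
  have hDZ : ∀ y : Subgroup.centralizer (Q : Set G), y ∈ D → (y : G) ∈ Q := by
    intro y hy
    rw [hx] at hy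
    obtain ⟨z, hz, rfl⟩ := hy
    have hzc := Subgroup.mem_center_iff.mp (zOf_le_center Q hz) x
    have : (cj x) z = z := by
      show x * z * x⁻¹ = z
      rw [hzc, mul_inv_cancel_right]
    rw [this]
    exact (mem_zOf Q z).mp hz
  -- decompose `r`
  have hset : ((Q ⊔ Subgroup.centralizer (Q : Set G) : Subgroup G) : Set G) =
      (Q : Set G) * (Subgroup.centralizer (Q : Set G) : Set G) :=
    Subgroup.coe_mul_of_right_le_normalizer_left Q _ (Subgroup.centralizer_le_normalizer _)
  have hr' : r ∈ ((Q ⊔ Subgroup.centralizer (Q : Set G) : Subgroup G) : Set G) := hrQC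
  rw [hset] at hr'
  obtain ⟨q, hq, c, hc, hqc⟩ := hr'
  have hcR : c ∈ R ⊓ Subgroup.normalizer (Q : Set G) := by
    have : c = q⁻¹ * r := by rw [← hqc]; group
    rw [this]
    exact Subgroup.mul_mem _ (Subgroup.inv_mem _ (hQR₁ hq)) ⟨hrR, hrN⟩
  have hcQ : c ∈ Q := by
    have h1 : (⟨c, hc⟩ : Subgroup.centralizer (Q : Set G)) ∈
        ((R ⊓ Subgroup.normalizer (Q : Set G)) ⊓ Subgroup.centralizer (Q : Set G)).subgroupOf
          (Subgroup.centralizer (Q : Set G)) := Subgroup.mem_subgroupOf.mpr ⟨hcR, hc⟩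
    exact hDZ _ (hge h1)
  apply hrQ
  rw [← hqc]
  exact Subgroup.mul_mem _ hq hcQ

end Cfsg.Agent.Helper23.MPC
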