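import Mathlib
import Cfsg.Prelude.Def_Solvable
import Cfsg.Agent.Helper23.FrobeniusNormGroup
import Cfsg.Agent.Helper1.FrobGroup
import Cfsg.Agent.Helper1.PrimeGraph
import Cfsg.Agent.Helper9.AbelianSylow
import Cfsg.Agent.Lead.PiClosed3
import Cfsg.Agent.Lead.CoprimeSylow2
import Cfsg.Agent.Lead.Coprime3

set_option autoImplicit false
set_option linter.unusedSectionVars false
set_option linter.unusedVariables false
set_option linter.style.haveILetI false
set_option linter.unnecessarySimpa false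

namespace Cfsg.Agent.Helper23.Mazurov

open Subgroup Cfsg
open scoped Pointwise

variable {G : Type*} [Group G]

/-- Early exit: an element `g` whose image mod `N` has order `h` but with `g ^ h ≠ 1` gives an element of
order `p * h` for some prime `p` dividing `|N|`. -/
theorem exists_order_of_pow_ne_one [Finite G] (N : Subgroup G) [N.Normal] (h : ℕ) (hh : 0 < h) (g : G)
    (hg : orderOf (QuotientGroup.mk' N g) = h) (hne : g ^ h ≠ 1) :
    ∃ p : ℕ, p.Prime ∧ p ∣ Nat.card N ∧ ∃ g' : G, orderOf g' = p * h := by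
  have hmem : g ^ h ∈ N := by
    rw [← QuotientGroup.eq_one_iff, ← QuotientGroup.mk'_apply, map_pow, ← hg, pow_orderOf_eq_one]
  set r := orderOf (g ^ h) with hr
  have hr1 : r ≠ 1 := fun h1 => hne (orderOf_eq_one_iff.mp h1)
  have hrN : r ∣ Nat.card N := by
    have h1 : orderOf (⟨g ^ h, hmem⟩ : N) ∣ Nat.card N := orderOf_dvd_natCard _
    rwa [← Subgroup.orderOf_coe] at h1
  have hdvd : h ∣ orderOf g := by
    rw [← hg]; exact orderOf_map_dvd _ g
  have hog : orderOf g = h * r := by
    have h1 : r = orderOf g / (orderOf g).gcd h := orderOf_pow g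
    rw [Nat.gcd_eq_right hdvd] at h1
    rw [h1, Nat.mul_div_cancel' hdvd]
  obtain ⟨p, hp, hpr⟩ := Nat.exists_prime_and_dvd hr1
  refine ⟨p, hp, hpr.trans hrN, g ^ (r / p), ?_⟩
  rw [orderOf_pow g, hog]
  have hrp : r / p ∣ h * r := (Nat.div_dvd_of_dvd hpr).trans (Nat.dvd_mul_left r h)
  rw [Nat.gcd_eq_right hrp]
  have hr0 : 0 < r := Nat.pos_of_ne_zero (by
    intro h0
    have : orderOf g = 0 := by rw [hog, h0, mul_zero]
    exact (orderOf_pos g).ne' this)
  obtain ⟨k, hk⟩ := hpr
  have hk0 : 0 < k := Nat.pos_of_ne_zero (by rintro rfl; simp at hk; omega)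
  rw [hk, Nat.mul_div_cancel_left k hp.pos]
  rw [show h * (p * k) = (p * h) * k by ring, Nat.mul_div_cancel _ hk0]

open Cfsg.Agent.Lead in
/-- Core: contradiction from a `c`- and `K`-invariant `r`-subgroup not centralized by `K`, when all
norms vanish. -/
theorem core [Finite G] (N : Subgroup G) (K P0 : Subgroup G) (c : G) (r : ℕ) [Fact r.Prime]
    (hP0N : P0 ≤ N) (hP0 : IsPGroup r P0)
    (hKP0 : K ≤ normalizer (P0 : Set G)) (hcP0 : c ∈ normalizer (P0 : Set G))
    (hcK : c ∈ normalizer (K : Set G))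
    (hKsolv : Group.IsSolvable K)
    (hcop : (Nat.card K).Coprime (Nat.card N))
    (hfpf : ∀ a ∈ zpowers c, a ≠ 1 → ∀ k ∈ K, a * k = k * a → k = 1)
    (hnc : ¬ K ≤ centralizer (P0 : Set G))
    (hnorm : ∀ x ∈ N, (x * c) ^ orderOf c = 1) : False := by
  set P1 : Subgroup G := ⁅P0, K⁆ with hP1
  have hP1P0 : P1 ≤ P0 := commutator_le_of_le_normalizer hKP0
  have hKP1 : K ≤ normalizer (P1 : Set G) := le_normalizer_commutator_right P0 K
  have hcP1 : c ∈ normalizer (P1 : Set G) := by
    rw [← conj_smul_eq_self_iff_mem_normalizer, hP1, conj_smul_eq_map, map_commutator,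
      ← conj_smul_eq_map, ← conj_smul_eq_map,
      (conj_smul_eq_self_iff_mem_normalizer c P0).mpr hcP0,
      (conj_smul_eq_self_iff_mem_normalizer c K).mpr hcK]
  have hcopP0 : (Nat.card K).Coprime (Nat.card P0) :=
    Nat.Coprime.coprime_dvd_right (card_dvd_of_le hP0N) hcop
  have hcopP1 : (Nat.card K).Coprime (Nat.card P1) :=
    Nat.Coprime.coprime_dvd_right (card_dvd_of_le hP1P0) hcopP0
  have hcc : ⁅P1, K⁆ = P1 := coprime_commutator_commutator K P0 hKP0 hcopP0 (Or.inl hKsolv)
  have hle := FrobNorm.le_commutator_of_norms_trivial P1 K c hKP1 hcP1 hcK hfpf hcopP1 hcc.ge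
    (fun x hx => hnorm x (hP0N (hP1P0 hx)))
  have hP1ne : P1 ≠ ⊥ := by
    intro h0
    apply hnc
    have h1 : P0 ≤ centralizer (K : Set G) := commutator_eq_bot_iff_le_centralizer.mp h0
    exact le_centralizer_iff.mp h1
  have hP1p : IsPGroup r P1 := hP0.to_le hP1P0
  haveI : Group.IsNilpotent P1 := hP1p.isNilpotent
  haveI : Nontrivial P1 := (nontrivial_iff_ne_bot P1).mpr hP1ne
  have hlt := Group.IsSolvable.commutator_lt_top_of_nontrivial P1
  apply hlt.ne
  rw [eq_top_iff]
  intro x _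
  have h1 : (x : G) ∈ ⁅P1, P1⁆ := hle x.2
  rw [← map_subtype_commutator] at h1
  obtain ⟨y, hy, hyx⟩ := h1
  have : y = x := Subtype.ext hyx
  rw [← this]; exact hy

theorem card_mul_relIndex [Finite G] {H K : Subgroup G} (h : H ≤ K) :
    Nat.card H * H.relIndex K = Nat.card K := by
  have := relIndex_mul_relIndex ⊥ H K bot_le h
  rwa [relIndex_bot_left, relIndex_bot_left] at this

open Cfsg.Agent.Lead Cfsg.Agent.Helper1 Cfsg.Agent.Helper9 in
/-- **Mazurov's lemma.** -/
theorem mazurov [Finite G] (N : Subgroup G) [N.Normal]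
    (Fb Hb : Subgroup (G ⧸ N)) [Fb.Normal] (hHb : IsFrobeniusComplement Hb)
    (hker : frobeniusKernel Hb = (Fb : Set (G ⧸ N)))
    (hcyc : IsCyclic Hb) (hcop : (Nat.card Fb).Coprime (Nat.card N))
    (hnot : ¬ Fb ≤ (centralizer (N : Set G)).map (QuotientGroup.mk' N)) :
    ∃ p : ℕ, p.Prime ∧ p ∣ Nat.card N ∧ ∃ g : G, orderOf g = p * Nat.card Hb := by
  classical
  by_contra hgoal
  set π : G →* G ⧸ N := QuotientGroup.mk' N with hπ
  have hπsurj : Function.Surjective π := QuotientGroup.mk'_surjective N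
  set h := Nat.card Hb with hh
  have hpos : 0 < h := Nat.card_pos
  have hstar : ∀ g : G, orderOf (π g) = h → g ^ h = 1 := by
    intro g hg
    by_contra hne
    exact hgoal (exists_order_of_pow_ne_one N h hpos g hg hne)
  have hmemN : ∀ x : G, π x = 1 ↔ x ∈ N := fun x => QuotientGroup.eq_one_iff x
  -- generator of `Hb`
  obtain ⟨gen, hgen⟩ := hcyc.exists_generator
  have hgen_ord : orderOf gen = h := orderOf_eq_card_of_forall_mem_zpowers hgen
  set cb : G ⧸ N := (gen : G ⧸ N) with hcb
  have hcb_ord : orderOf cb = h := by rw [← hgen_ord]; exact Subgroup.orderOf_coe gen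
  have hcbH : cb ∈ Hb := gen.2
  -- properties of lifts of `cb`
  have hlift_ord : ∀ c : G, π c = cb → orderOf c = h := by
    intro c hc
    apply Nat.dvd_antisymm
    · exact orderOf_dvd_of_pow_eq_one (hstar c (by rw [hc, hcb_ord]))
    · rw [← hcb_ord, ← hc]; exact orderOf_map_dvd π c
  have hlift_norm : ∀ c : G, π c = cb → ∀ x ∈ N, (x * c) ^ orderOf c = 1 := by
    intro c hc x hx
    rw [hlift_ord c hc]
    apply hstar
    rw [map_mul, (hmemN x).mpr hx, one_mul, hc, hcb_ord]
  -- the kernel and its complement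
  have hFbN : (Fb : Set (G ⧸ N)) = frobeniusKernel Hb := hker.symm
  set F : Subgroup G := Fb.comap π with hF
  have hNF : N ≤ F := by
    intro x hx
    rw [hF, mem_comap, (hmemN x).mpr hx]
    exact Fb.one_mem
  have hFn : F ≤ normalizer (N : Set G) := by rw [normalizer_eq_top]; exact le_top
  have hFcard : Nat.card F = Nat.card Fb * Nat.card N := PrimeGraph.card_comap_mk N Fb
  have hrel : N.relIndex F = Nat.card Fb := by
    have h1 := card_mul_relIndex hNF
    rw [hFcard, mul_comm] at h1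
    exact Nat.eq_of_mul_eq_mul_right Nat.card_pos h1
  obtain ⟨K, hKF, hKcard, hKN, hNK⟩ :=
    exists_relative_complement N F hNF hFn (by rw [hrel]; exact hcop.symm)
  rw [hrel] at hKcard
  have hKmap : K.map π = Fb := by
    have h1 : F.map π = Fb := map_comap_eq_self_of_surjective hπsurj Fb
    rw [← hNK, Subgroup.map_sup, QuotientGroup.map_mk'_self, bot_sup_eq] at h1
    exact h1
  have hKFb : ∀ k ∈ K, π k ∈ Fb := fun k hk => by rw [← hKmap]; exact mem_map_of_mem π hk
  have hKinj : ∀ k ∈ K, π k = 1 → k = 1 := by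
    intro k hk h1
    have : k ∈ K ⊓ N := ⟨hk, (hmemN k).mp h1⟩
    rw [hKN] at this
    exact mem_bot.mp this
  haveI hFbnil : Group.IsNilpotent Fb := FrobGroup.nilpotent hHb hFbN
  have hKsolv : Group.IsSolvable K := by
    let f : K →* Fb := (π.comp K.subtype).codRestrict Fb (fun k => hKFb k k.2)
    have hf : Function.Injective f := by
      rw [injective_iff_map_eq_one]
      intro k hk
      have h1 : π (k : G) = 1 := congrArg Subtype.val hk
      exact Subtype.ext (hKinj k k.2 h1)
    exact Group.isSolvable_of_isSolvable_injective hf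
  have hKnormN : K ≤ normalizer (N : Set G) := by rw [normalizer_eq_top]; exact le_top
  have hcopKN : (Nat.card K).Coprime (Nat.card N) := by rw [hKcard]; exact hcop
  have hKnc : ¬ K ≤ centralizer (N : Set G) := by
    intro hle
    apply hnot
    rw [← hKmap]
    exact map_mono hle
  -- fixed-point-free action of lifts
  have hfpf : ∀ c : G, π c = cb → ∀ a ∈ zpowers c, a ≠ 1 → ∀ k ∈ K, a * k = k * a → k = 1 := by
    intro c hc a ha ha1 k hk hcomm
    obtain ⟨j, rfl⟩ := mem_zpowers_iff.mp ha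
    have hπa : π (c ^ j) ∈ Hb := by
      rw [map_zpow, hc]; exact Hb.zpow_mem hcbH j
    have hπa1 : π (c ^ j) ≠ 1 := by
      intro h1
      apply ha1
      rw [map_zpow, hc, ← orderOf_dvd_iff_zpow_eq_one, hcb_ord] at h1
      rw [← orderOf_dvd_iff_zpow_eq_one, hlift_ord c hc]
      exact h1
    have h2 := frob_fpf hHb hFbN _ hπa hπa1
    have h3 : π k ∈ Fb ⊓ centralizer {π (c ^ j)} := by
      refine ⟨hKFb k hk, mem_centralizer_singleton_iff.mpr ?_⟩
      rw [← map_mul, ← map_mul, hcomm]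
    rw [h2, mem_bot] at h3
    exact hKinj k hk h3
  -- an invariant Sylow subgroup not centralized
  obtain ⟨r, hr, R, hRN, hRp, hKR, hKRc⟩ :=
    exists_invariant_sylow_not_centralized K N hKnormN hcopKN (Or.inl hKsolv) hKnc
  haveI : Fact r.Prime := ⟨hr⟩
  obtain ⟨P, hRP, hKP⟩ :=
    coprime_invariant_pgroup_le_sylow K N hKnormN hcopKN (Or.inl hKsolv) r R hRN hRp hKR
  set P0 : Subgroup G := (P : Subgroup N).map N.subtype with hP0
  have hP0N : P0 ≤ N := map_subtype_le _
  have hP0p : IsPGroup r P0 := P.isPGroup'.map _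
  have hKP0c : ¬ K ≤ centralizer (P0 : Set G) := fun hle =>
    hKRc (hle.trans (centralizer_le hRP))
  -- a lift normalizing `K`
  obtain ⟨c0, hc0⟩ := hπsurj cb
  have hK1F : MulAut.conj c0 • K ≤ N ⊔ K := by
    rw [hNK]
    intro x hx
    rw [Lead.mem_conj_smul_iff] at hx
    have h1 := hKF hx
    have hFnorm : F.Normal := Normal.comap inferInstance π
    have h2 := hFnorm.conj_mem _ h1 c0
    have e : c0 * (c0⁻¹ * x * c0) * c0⁻¹ = x := by group
    rwa [e] at h2
  obtain ⟨n, hn, hnK⟩ := sz_conj_rel (K := N) (A := K) (B := MulAut.conj c0 • K) hKnormN hcopKN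
    (Or.inl hKsolv) hK1F (card_conj_smul c0 K)
  set c1 : G := n⁻¹ * c0 with hc1
  have hc1K : c1 ∈ normalizer (K : Set G) := by
    rw [← conj_smul_eq_self_iff_mem_normalizer, hc1, map_mul, mul_smul, ← hnK, ← mul_smul,
      ← map_mul, inv_mul_cancel, map_one, one_smul]
  have hπc1 : π c1 = cb := by
    rw [hc1, map_mul, map_inv, (hmemN n).mpr hn, inv_one, one_mul, hc0]
  -- adjust to normalize `P0`
  have hc1N : c1 ∈ normalizer (N : Set G) := by rw [normalizer_eq_top]; exact mem_top _
  have hQ1 : MulAut.conj c1 • P0 ∈ sylowSet r N := sylowSet_conj_mem hc1N ⟨P, rfl⟩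
  obtain ⟨P', hP'⟩ := hQ1
  have hKP' : K ≤ normalizer (((P' : Subgroup N).map N.subtype : Subgroup G) : Set G) := by
    rw [← hP']
    intro k hk
    rw [← conj_smul_eq_self_iff_mem_normalizer, ← mul_smul, ← map_mul]
    have hk' : c1⁻¹ * k * c1 ∈ K := by
      have := (mem_normalizer_iff.mp ((normalizer (K : Set G)).inv_mem hc1K) k).mp hk
      simpa using this
    have e : k * c1 = c1 * (c1⁻¹ * k * c1) := by group
    rw [e, map_mul, mul_smul, (conj_smul_eq_self_iff_mem_normalizer _ P0).mpr (hKP hk')]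
  obtain ⟨m, hmK, hmP⟩ := coprime_invariant_sylow_conj K N hKnormN hcopKN (Or.inl hKsolv) r P' P
    hKP' hKP
  set c2 : G := (m : G) * c1 with hc2
  have hc2P0 : c2 ∈ normalizer (P0 : Set G) := by
    rw [← conj_smul_eq_self_iff_mem_normalizer, hc2, map_mul, mul_smul, hP']
    have h1 : ((MulAut.conj m • P' : Sylow r N) : Subgroup N) = (P : Subgroup N) := by rw [hmP]
    rw [Sylow.pointwise_smul_def] at h1
    have h2 := map_conj_smul N.subtype m (P' : Subgroup N)
    rw [h1] at h2
    rw [hP0, h2]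
    rfl
  have hc2K : c2 ∈ normalizer (K : Set G) := by
    rw [hc2]
    refine (normalizer (K : Set G)).mul_mem ?_ hc1K
    exact centralizer_le_normalizer (K : Set G) hmK
  have hπc2 : π c2 = cb := by
    rw [hc2, map_mul, (hmemN m).mpr m.2, one_mul, hπc1]
  exact core N K P0 c2 r hP0N hP0p hKP hc2P0 hc2K hKsolv hcopKN (hfpf c2 hπc2) hKP0c
    (hlift_norm c2 hπc2)

end Cfsg.Agent.Helper23.Mazurov
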