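import Mathlib
import Cfsg.Agent.Lead.CoprimeSylow
import Cfsg.Agent.Lead.Compl

/-!
Abstract weight counting for stabilizer systems: if two families of stabilizers have the same
fixed point counts for elements and for pairs (subgroup of order `p`, normalizing element), and
subgroups of order `p` are conjugate inside every subgroup, then the existence of a point with
`p'`-stabilizer in one family gives one in the other.
-/

set_option autoImplicit false
set_option linter.unusedSectionVars false
set_option linter.unusedVariables false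
set_option linter.unnecessarySimpa false
set_option linter.style.haveILetI false

namespace Cfsg.Agent.Helper23.NoPQ

open Pointwise

section Weight

variable {G : Type*} [Group G] [Finite G]

/-- conjugacy of the subgroups of order `p` inside every subgroup -/
def ConjP (p : ℕ) (G : Type*) [Group G] : Prop :=
  ∀ H Z1 Z2 : Subgroup G, Nat.card Z1 = p → Nat.card Z2 = p → Z1 ≤ H → Z2 ≤ H →
    ∃ h ∈ H, MulAut.conj h • Z1 = Z2

/-- the per-point identity -/
theorem sum_card_inf_normalizer (p : ℕ) (hconj : ConjP p G) (H : Subgroup G)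
    [Fintype (Subgroup G)]
    [DecidablePred fun Z : Subgroup G => Nat.card Z = p ∧ Z ≤ H]
    (hex : ∃ Z : Subgroup G, Nat.card Z = p ∧ Z ≤ H) :
    ∑ Z ∈ Finset.univ.filter (fun Z : Subgroup G => Nat.card Z = p ∧ Z ≤ H),
      Nat.card ↥(H ⊓ Subgroup.normalizer (Z : Set G)) = Nat.card H := by
  classical
  haveI : Fintype G := Fintype.ofFinite G
  obtain ⟨Z0, hZ0p, hZ0H⟩ := hex
  set 𝒞 := Finset.univ.filter (fun Z : Subgroup G => Nat.card Z = p ∧ Z ≤ H) with h𝒞
  let φ : H → Subgroup G := fun h => MulAut.conj (h : G) • Z0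
  have hφ : ∀ h ∈ (Finset.univ : Finset H), φ h ∈ 𝒞 := by
    intro h _
    rw [h𝒞, Finset.mem_filter]
    refine ⟨Finset.mem_univ _, ?_, ?_⟩
    · show Nat.card (MulAut.conj (h : G) • Z0 : Subgroup G) = p
      rw [Cfsg.Agent.Lead.card_conj_smul]; exact hZ0p
    · intro x hx
      rw [Cfsg.Agent.Lead.mem_conj_smul_iff] at hx
      have h1 : (h : G)⁻¹ * x * h ∈ H := hZ0H hx
      have h2 : x = (h : G) * ((h : G)⁻¹ * x * h) * (h : G)⁻¹ := by group
      rw [h2]
      exact H.mul_mem (H.mul_mem h.2 h1) (H.inv_mem h.2)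
  have h1 := Finset.card_eq_sum_card_fiberwise hφ
  rw [Finset.card_univ, ← Nat.card_eq_fintype_card] at h1
  rw [h1]
  apply Finset.sum_congr rfl
  intro Z hZ
  rw [h𝒞, Finset.mem_filter] at hZ
  obtain ⟨h0, hh0H, hh0⟩ := hconj H Z0 Z hZ0p hZ.2.1 hZ0H hZ.2.2
  -- the fibre over `Z` is a coset of `H ⊓ N(Z)`
  have hback : MulAut.conj h0⁻¹ • Z = Z0 := by
    rw [← hh0, ← mul_smul, ← map_mul, inv_mul_cancel, map_one, one_smul]
  have key : ∀ g : G, MulAut.conj g • Z0 = Z → g * h0⁻¹ ∈ Subgroup.normalizer (Z : Set G) := by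
    intro g hg
    rw [← Cfsg.Agent.Lead.conj_smul_eq_self_iff_mem_normalizer, map_mul, mul_smul, hback]
    exact hg
  rw [← Nat.card_eq_finsetCard]
  apply Nat.card_congr
  refine
    { toFun := fun n => ⟨⟨(n : G) * h0, H.mul_mem n.2.1 hh0H⟩, ?_⟩
      invFun := fun h => ⟨((h : H) : G) * h0⁻¹, ?_⟩
      left_inv := ?_
      right_inv := ?_ }
  · rw [Finset.mem_filter]
    refine ⟨Finset.mem_univ _, ?_⟩
    show MulAut.conj ((n : G) * h0) • Z0 = Z
    rw [map_mul, mul_smul, hh0]
    exact (Cfsg.Agent.Lead.conj_smul_eq_self_iff_mem_normalizer _ _).mpr n.2.2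
  · have hh := (Finset.mem_filter.mp h.2).2
    have hh' : MulAut.conj (((h : H) : G)) • Z0 = Z := hh
    refine ⟨H.mul_mem (h : H).2 (H.inv_mem hh0H), ?_⟩
    exact key _ hh'
  · intro n
    apply Subtype.ext
    simp
  · intro h
    apply Subtype.ext
    apply Subtype.ext
    simp

/-- `Good s p x`: no subgroup of order `p` in the stabilizer of `x` -/
def Good {X : Type*} (s : X → Subgroup G) (p : ℕ) (x : X) : Prop :=
  ∀ Z : Subgroup G, Nat.card Z = p → ¬ Z ≤ s x

theorem card_subtype_eq_sum {X : Type*} [Fintype X] (P : X → Prop) [DecidablePred P] :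
    Nat.card {x // P x} = ∑ x : X, if P x then 1 else 0 := by
  rw [Nat.card_eq_fintype_card, Fintype.card_subtype, Finset.card_filter]

theorem card_subgroup_eq_sum [Fintype G] (H : Subgroup G) [DecidablePred (· ∈ H)] :
    Nat.card H = ∑ g : G, if g ∈ H then 1 else 0 :=
  card_subtype_eq_sum (fun g => g ∈ H)

open Classical in
/-- the weight identity -/
theorem weight_identity {X : Type*} [Fintype X] [Fintype G] [Fintype (Subgroup G)] (p : ℕ)
    (hconj : ConjP p G) (s : X → Subgroup G) :
    ∑ g : G, Nat.card {x // g ∈ s x} =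
      (∑ Z : Subgroup G, ∑ n : G,
        if (Nat.card Z = p ∧ n ∈ Subgroup.normalizer (Z : Set G)) then
          Nat.card {x // Z ≤ s x ∧ n ∈ s x} else 0)
      + ∑ x : X, if Good s p x then Nat.card (s x) else 0 := by
  -- left side
  have hL : ∑ g : G, Nat.card {x // g ∈ s x} = ∑ x : X, Nat.card (s x) := by
    simp_rw [card_subtype_eq_sum]
    rw [Finset.sum_comm]
  -- first term on the right
  have hR : (∑ Z : Subgroup G, ∑ n : G,
        if (Nat.card Z = p ∧ n ∈ Subgroup.normalizer (Z : Set G)) then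
          Nat.card {x // Z ≤ s x ∧ n ∈ s x} else 0) =
      ∑ x : X, ∑ Z ∈ Finset.univ.filter (fun Z : Subgroup G => Nat.card Z = p ∧ Z ≤ s x),
        Nat.card ↥(s x ⊓ Subgroup.normalizer (Z : Set G)) := by
    have h1 : ∀ (Z : Subgroup G) (n : G),
        (if (Nat.card Z = p ∧ n ∈ Subgroup.normalizer (Z : Set G)) then
          Nat.card {x // Z ≤ s x ∧ n ∈ s x} else 0) =
        ∑ x : X, if (Nat.card Z = p ∧ Z ≤ s x) ∧ (n ∈ s x ⊓ Subgroup.normalizer (Z : Set G))
          then 1 else 0 := by
      intro Z n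
      split_ifs with h
      · rw [card_subtype_eq_sum]
        apply Finset.sum_congr rfl
        intro x _
        apply if_congr _ rfl rfl
        rw [Subgroup.mem_inf]
        tauto
      · symm
        apply Finset.sum_eq_zero
        intro x _
        rw [if_neg]
        rw [Subgroup.mem_inf]
        tauto
    simp_rw [h1]
    have h2 : ∀ Z : Subgroup G, (∑ n : G, ∑ x : X,
        if (Nat.card Z = p ∧ Z ≤ s x) ∧ (n ∈ s x ⊓ Subgroup.normalizer (Z : Set G))
          then 1 else 0) = ∑ x : X, ∑ n : G,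
        if (Nat.card Z = p ∧ Z ≤ s x) ∧ (n ∈ s x ⊓ Subgroup.normalizer (Z : Set G))
          then 1 else 0 := fun Z => Finset.sum_comm
    simp_rw [h2]
    rw [Finset.sum_comm]
    apply Finset.sum_congr rfl
    intro x _
    rw [Finset.sum_filter]
    apply Finset.sum_congr rfl
    intro Z _
    split_ifs with h
    · rw [card_subgroup_eq_sum (s x ⊓ Subgroup.normalizer (Z : Set G))]
      apply Finset.sum_congr rfl
      intro n _
      apply if_congr _ rfl rfl
      tauto
    · apply Finset.sum_eq_zero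
      intro n _
      rw [if_neg]
      tauto
  rw [hL, hR, ← Finset.sum_add_distrib]
  apply Finset.sum_congr rfl
  intro x _
  by_cases hg : Good s p x
  · rw [if_pos hg]
    have : Finset.univ.filter (fun Z : Subgroup G => Nat.card Z = p ∧ Z ≤ s x) = ∅ := by
      apply Finset.filter_eq_empty_iff.mpr
      intro Z _ hZ
      exact hg Z hZ.1 hZ.2
    rw [this, Finset.sum_empty, zero_add]
  · rw [if_neg hg, add_zero]
    unfold Good at hg
    push Not at hg
    obtain ⟨Z, hZ1, hZ2⟩ := hg
    exact (sum_card_inf_normalizer p hconj (s x) ⟨Z, hZ1, hZ2⟩).symm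

/-- **Transfer of good points** between two stabilizer systems with equal fixed point counts. -/
theorem exists_good_of_exists_good {X Y : Type*} [Finite X] [Finite Y] (p : ℕ)
    (hconj : ConjP p G) (sX : X → Subgroup G) (sY : Y → Subgroup G)
    (h1 : ∀ g : G, Nat.card {x // g ∈ sX x} = Nat.card {y // g ∈ sY y})
    (h2 : ∀ Z : Subgroup G, Nat.card Z = p → ∀ n ∈ Subgroup.normalizer (Z : Set G),
      Nat.card {x // Z ≤ sX x ∧ n ∈ sX x} = Nat.card {y // Z ≤ sY y ∧ n ∈ sY y})
    (h4 : ∃ y, Good sY p y) : ∃ x, Good sX p x := by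
  classical
  haveI : Fintype G := Fintype.ofFinite G
  haveI : Fintype X := Fintype.ofFinite X
  haveI : Fintype Y := Fintype.ofFinite Y
  haveI : Fintype (Subgroup G) := Fintype.ofFinite _
  have hX := weight_identity p hconj sX
  have hY := weight_identity p hconj sY
  have e1 : ∑ g : G, Nat.card {x // g ∈ sX x} = ∑ g : G, Nat.card {y // g ∈ sY y} :=
    Finset.sum_congr rfl (fun g _ => h1 g)
  have e2 : (∑ Z : Subgroup G, ∑ n : G,
        if (Nat.card Z = p ∧ n ∈ Subgroup.normalizer (Z : Set G)) then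
          Nat.card {x // Z ≤ sX x ∧ n ∈ sX x} else 0) =
      (∑ Z : Subgroup G, ∑ n : G,
        if (Nat.card Z = p ∧ n ∈ Subgroup.normalizer (Z : Set G)) then
          Nat.card {y // Z ≤ sY y ∧ n ∈ sY y} else 0) := by
    apply Finset.sum_congr rfl
    intro Z _
    apply Finset.sum_congr rfl
    intro n _
    split_ifs with h
    · exact h2 Z h.1 n h.2
    · rfl
  have e3 : (∑ x : X, if Good sX p x then Nat.card (sX x) else 0) =
      ∑ y : Y, if Good sY p y then Nat.card (sY y) else 0 := by
    omega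
  obtain ⟨y, hy⟩ := h4
  have hpos : 0 < ∑ y : Y, if Good sY p y then Nat.card (sY y) else 0 := by
    apply Finset.sum_pos'
    · intro y _; positivity
    · refine ⟨y, Finset.mem_univ _, ?_⟩
      rw [if_pos hy]
      exact Nat.card_pos
  rw [← e3] at hpos
  by_contra hcon
  push Not at hcon
  have : (∑ x : X, if Good sX p x then Nat.card (sX x) else 0) = 0 := by
    apply Finset.sum_eq_zero
    intro x _
    rw [if_neg (hcon x)]
  omega

end Weight

end Cfsg.Agent.Helper23.NoPQ
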