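import Mathlib
import Cfsg.Prelude.Def_Transfer
import Cfsg.Agent.Lead.CoprimeSylow
import Cfsg.Agent.Lead.Compl
import Cfsg.Agent.Lead.TT8
import Cfsg.Agent.Helper14.PolarFam1
import Cfsg.Agent.Helper23.NoPQA

/-!
Groups without elements of order `pq`: symmetry, quotients, and conjugacy of the subgroups of
order `p` in the presence of a normal `p'`-subgroup of order divisible by `q`.
-/

set_option autoImplicit false
set_option linter.unusedSectionVars false
set_option linter.unusedVariables false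
set_option linter.unnecessarySimpa false
set_option linter.style.haveILetI false
set_option linter.dupNamespace false

namespace Cfsg.Agent.Helper23.NoPQ

open Pointwise

/-- no nontrivial `p`-element has a centralizer of order divisible by `q` -/
def NoPQ (p q : ℕ) (G : Type*) [Group G] : Prop :=
  ∀ g : G, g ≠ 1 → (∃ k : ℕ, orderOf g = p ^ k) →
    ¬ q ∣ Nat.card ↥(Subgroup.centralizer ({g} : Set G))

section Basic

variable {G : Type*} [Group G] [Finite G]

theorem NoPQ.not_commute {p q : ℕ} (h : NoPQ p q G) {a b : G} (ha : a ≠ 1)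
    (hap : ∃ k : ℕ, orderOf a = p ^ k) (hb : q ∣ orderOf b) : ¬ Commute a b := by
  intro hab
  apply h a ha hap
  have hbC : b ∈ Subgroup.centralizer ({a} : Set G) := by
    rw [Subgroup.mem_centralizer_iff]
    intro x hx
    rw [Set.mem_singleton_iff] at hx
    subst hx
    exact hab.eq
  have h1 : orderOf b ∣ Nat.card ↥(Subgroup.centralizer ({a} : Set G)) := by
    have := orderOf_dvd_natCard (⟨b, hbC⟩ : ↥(Subgroup.centralizer ({a} : Set G)))
    rwa [Subgroup.orderOf_mk] at this
  exact hb.trans h1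

theorem NoPQ.symm {p q : ℕ} [hp : Fact p.Prime] [hq : Fact q.Prime] (h : NoPQ p q G) :
    NoPQ q p G := by
  intro g hg ⟨k, hk⟩ hdvd
  obtain ⟨a, ha⟩ := exists_prime_orderOf_dvd_card' p hdvd
  have ha' : orderOf (a : G) = p := by rw [Subgroup.orderOf_coe]; exact ha
  have hane : (a : G) ≠ 1 := by
    intro h1
    rw [h1, orderOf_one] at ha'
    exact hp.out.one_lt.ne ha'
  have hk0 : k ≠ 0 := by
    intro h0
    rw [h0, pow_zero, orderOf_eq_one_iff] at hk
    exact hg hk
  have hqg : q ∣ orderOf g := by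
    rw [hk]; exact dvd_pow_self q hk0
  apply h.not_commute hane ⟨1, by rw [ha', pow_one]⟩ hqg
  have hc : Commute g (a : G) := Subgroup.mem_centralizer_iff.mp a.2 g rfl
  exact hc.symm

end Basic

section Unique

variable {G : Type*} [Group G] [Finite G]

theorem exists_central_prime' {p : ℕ} [hp : Fact p.Prime] {T : Subgroup G} (hT : IsPGroup p T)
    (hT1 : T ≠ ⊥) : ∃ z ∈ T, orderOf z = p ∧ ∀ t ∈ T, t * z = z * t := by
  haveI : Nontrivial T := (Subgroup.nontrivial_iff_ne_bot T).2 hT1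
  haveI : Nontrivial (Subgroup.center T) := hT.center_nontrivial
  have hZ : IsPGroup p (Subgroup.center T) := hT.to_subgroup (Subgroup.center T)
  have hdvd : p ∣ Nat.card (Subgroup.center T) := by
    rcases hZ.card_eq_or_dvd with h | h
    · exfalso
      have : Subsingleton (Subgroup.center T) := (Nat.card_eq_one_iff_unique.1 h).1
      exact not_subsingleton _ this
    · exact h
  obtain ⟨z, hz⟩ := exists_prime_orderOf_dvd_card' p hdvd
  refine ⟨((z : T) : G), (z : T).2, ?_, ?_⟩
  · rw [Subgroup.orderOf_coe, Subgroup.orderOf_coe]; exact hz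
  · intro t ht
    have := Subgroup.mem_center_iff.1 z.2 ⟨t, ht⟩
    exact congrArg Subtype.val this

/-- a `p`-subgroup has at most one subgroup of order `p` -/
theorem unique_of_isPGroup {p q : ℕ} [hp : Fact p.Prime] [hq : Fact q.Prime]
    (h : NoPQ p q G) (K : Subgroup G) [hK : K.Normal] (hpK : ¬ p ∣ Nat.card K)
    (hqK : q ∣ Nat.card K) (S : Subgroup G) (hS : IsPGroup p S) (Z1 Z2 : Subgroup G)
    (h1 : Nat.card Z1 = p) (h2 : Nat.card Z2 = p) (h1S : Z1 ≤ S) (h2S : Z2 ≤ S) : Z1 = Z2 := by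
  by_contra hne
  have hS1 : S ≠ ⊥ := by
    intro hb
    rw [hb, le_bot_iff] at h1S
    rw [h1S, Subgroup.card_bot] at h1
    exact hp.out.one_lt.ne h1
  obtain ⟨z, hzS, hzo, hzc⟩ := exists_central_prime' hS hS1
  set Z0 := Subgroup.zpowers z with hZ0
  have hZ0c : Nat.card Z0 = p := by rw [hZ0, Nat.card_zpowers, hzo]
  have hZ0S : Z0 ≤ S := by rw [hZ0, Subgroup.zpowers_le]; exact hzS
  -- a second subgroup of order `p` in `S`, different from `Z0`
  obtain ⟨Z, hZc, hZS, hZne⟩ : ∃ Z : Subgroup G, Nat.card Z = p ∧ Z ≤ S ∧ Z0 ≠ Z := by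
    by_cases h01 : Z0 = Z1
    · refine ⟨Z2, h2, h2S, ?_⟩
      rw [h01]; exact hne
    · exact ⟨Z1, h1, h1S, h01⟩
  have hcm : Cfsg.Agent.Helper14.PolarFam.Cm Z0 Z := by
    intro a ha b hb
    rw [hZ0, Subgroup.mem_zpowers_iff] at ha
    obtain ⟨k, rfl⟩ := ha
    have : Commute b z := hzc b (hZS hb)
    exact (this.zpow_right k).eq.symm
  have hLn := Cfsg.Agent.Helper14.PolarFam.isLn_sup hp.out hZ0c hZc hZne hcm
  set E := Z0 ⊔ Z with hE
  have hEel : Cfsg.IsElementaryAbelian p E := by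
    refine ⟨⟨⟨fun a b => Subtype.ext (hLn.comm a a.2 b b.2)⟩⟩, hLn.exp⟩
  have hEcard : p ^ 2 ≤ Nat.card E := by rw [hLn.card]
  have hEK : E ≤ Subgroup.normalizer (K : Set G) := by
    rw [Subgroup.normalizer_eq_top]; exact le_top
  have hcopK : (Nat.card K).Coprime p := by
    rw [Nat.coprime_comm, Nat.Prime.coprime_iff_not_dvd hp.out]; exact hpK
  have hcop : (Nat.card E).Coprime (Nat.card K) := by
    rw [hLn.card]
    exact (hcopK.symm).pow_left 2
  have hsolv : Group.IsSolvable E := by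
    exact Group.isSolvable_of_comm (fun a b => Subtype.ext (hLn.comm a a.2 b b.2))
  obtain ⟨Q, hQ⟩ := Cfsg.Agent.Lead.coprime_exists_invariant_sylow E K hEK hcop (Or.inl hsolv) q
  set R := (Q : Subgroup K).map K.subtype with hR
  have hRcard : Nat.card R = Nat.card (Q : Subgroup K) :=
    Nat.card_congr
      (((Q : Subgroup K).equivMapOfInjective _ K.subtype_injective).symm.toEquiv)
  have hRq : IsPGroup q R := by
    have := Q.isPGroup'
    exact IsPGroup.of_equiv this ((Q : Subgroup K).equivMapOfInjective _ K.subtype_injective)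
  have hRne : R ≠ ⊥ := by
    intro hb
    rw [hb, Subgroup.card_bot] at hRcard
    have h3 := Q.card_eq_multiplicity
    rw [← hRcard] at h3
    have h4 : 0 < (Nat.card K).factorization q :=
      (hq.out.factorization_pos_of_dvd Nat.card_pos.ne' hqK)
    have h5 : 1 < q ^ (Nat.card K).factorization q := Nat.one_lt_pow h4.ne' hq.out.one_lt
    omega
  have hRcop : (Nat.card R).Coprime p := by
    apply Nat.Coprime.coprime_dvd_left _ hcopK
    rw [hRcard]
    exact Subgroup.card_subgroup_dvd_card _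
  obtain ⟨a, haE, hane, hCa⟩ :=
    Cfsg.Agent.Lead.TT.exists_centralizer_inf_ne_bot E hEel hEcard R hRcop hQ hRne
  have hap : a ^ p = 1 := hLn.exp a haE
  have hao : orderOf a = p := orderOf_eq_prime hap hane
  apply h a hane ⟨1, by rw [hao, pow_one]⟩
  -- `C(a) ⊓ R` is a nontrivial `q`-group inside `C(a)`
  have h6 : IsPGroup q ↥(Subgroup.centralizer ({a} : Set G) ⊓ R) := by
    have hle : Subgroup.centralizer ({a} : Set G) ⊓ R ≤ R := inf_le_right
    exact IsPGroup.of_injective hRq (Subgroup.inclusion hle) (Subgroup.inclusion_injective hle)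
  have h7 : q ∣ Nat.card ↥(Subgroup.centralizer ({a} : Set G) ⊓ R) := by
    obtain ⟨n, hn⟩ := IsPGroup.iff_card.mp h6
    rw [hn]
    have hn0 : n ≠ 0 := by
      intro h0
      rw [h0, pow_zero] at hn
      exact hCa (Subgroup.card_eq_one.mp hn)
    exact dvd_pow_self q hn0
  exact h7.trans (Subgroup.card_dvd_of_le inf_le_left)

/-- conjugacy of the subgroups of order `p` inside every subgroup -/
theorem conjP_of_noPQ {p q : ℕ} [hp : Fact p.Prime] [hq : Fact q.Prime]
    (h : NoPQ p q G) (K : Subgroup G) [hK : K.Normal] (hpK : ¬ p ∣ Nat.card K)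
    (hqK : q ∣ Nat.card K) : ConjP p G := by
  intro H Z1 Z2 h1 h2 h1H h2H
  have hZp : ∀ Z : Subgroup G, Nat.card Z = p → IsPGroup p Z := by
    intro Z hZ
    apply IsPGroup.of_card (n := 1)
    rw [hZ, pow_one]
  have hsub : ∀ Z : Subgroup G, Nat.card Z = p → Z ≤ H →
      ∃ Q ∈ Cfsg.Agent.Lead.sylowSet p H, Z ≤ Q := by
    intro Z hZ hZH
    have hp' : IsPGroup p (Z.subgroupOf H) :=
      IsPGroup.of_equiv (hZp Z hZ) (Subgroup.subgroupOfEquivOfLe hZH).symm
    obtain ⟨P, hP⟩ := hp'.exists_le_sylow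
    refine ⟨(P : Subgroup H).map H.subtype, ⟨P, rfl⟩, ?_⟩
    have := Subgroup.map_mono (f := H.subtype) hP
    rwa [Subgroup.map_subgroupOf_eq_of_le hZH] at this
  obtain ⟨Q1, hQ1, hZQ1⟩ := hsub Z1 h1 h1H
  obtain ⟨Q2, hQ2, hZQ2⟩ := hsub Z2 h2 h2H
  obtain ⟨k, hkH, hk⟩ := Cfsg.Agent.Lead.sylowSet_trans hQ1 hQ2
  refine ⟨k, hkH, ?_⟩
  have hQ2p : IsPGroup p Q2 := by
    obtain ⟨P, rfl⟩ := hQ2
    exact IsPGroup.of_equiv P.isPGroup'
      ((P : Subgroup H).equivMapOfInjective _ H.subtype_injective)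
  apply unique_of_isPGroup h K hpK hqK Q2 hQ2p _ _ _ h2 _ hZQ2
  · rw [Cfsg.Agent.Lead.card_conj_smul]; exact h1
  · rw [← hk]
    intro x hx
    rw [Cfsg.Agent.Lead.mem_conj_smul_iff] at hx ⊢
    exact hZQ1 hx

end Unique

end Cfsg.Agent.Helper23.NoPQ
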