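import Mathlib
import Cfsg.Agent.Helper24.GlaubSolv
import Cfsg.Agent.Helper24.GlaubClasses
import Cfsg.Agent.Helper24.BrauerPerm
import Cfsg.Agent.Helper23.NoPQA

/-!
Fixed point counts on irreducible characters and on classes of a normal subgroup `K` agree:
for single elements (Brauer's permutation lemma) and for pairs (`Z`, `n`) with `Z` acting coprimely
and `n` normalizing `Z` (equivariant Glauberman correspondence).
-/

set_option autoImplicit false
set_option linter.unusedSectionVars false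
set_option linter.unusedVariables false
set_option linter.unnecessarySimpa false
set_option linter.style.haveILetI false

namespace Cfsg.Agent.Helper23.NoPQ

open Cfsg Cfsg.Agent.Helper24

universe u

section Classes

variable {Γ : Type u} [Group Γ]

/-- stabilizer of a class of `K` under conjugation -/
def classStab (K : Subgroup Γ) (c : ConjClasses K) : Subgroup Γ := conjSetStab (classSet K c)

theorem conjClasses_map_injective {A : Type*} [Group A] (α : A ≃* A) :
    Function.Injective (ConjClasses.map α.toMonoidHom) := by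
  intro c c' h
  obtain ⟨x, rfl⟩ := ConjClasses.mk_surjective c
  obtain ⟨y, rfl⟩ := ConjClasses.mk_surjective c'
  have h1 : ConjClasses.mk (α x) = ConjClasses.mk (α y) := h
  rw [ConjClasses.mk_eq_mk_iff_isConj] at h1 ⊢
  obtain ⟨c, hc⟩ := isConj_iff.mp h1
  refine isConj_iff.mpr ⟨α.symm c, ?_⟩
  apply α.injective
  simp [hc]

theorem mem_classSet_mk (K : Subgroup Γ) (k : K) : (k : Γ) ∈ classSet K (ConjClasses.mk k) :=
  ⟨k.2, rfl⟩

theorem mem_classStab_iff (K : Subgroup Γ) (g : Γ) (hg : g ∈ Subgroup.normalizer (K : Set Γ))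
    (c : ConjClasses K) :
    g ∈ classStab K c ↔ ConjClasses.map (conjE K g hg).toMonoidHom c = c := by
  constructor
  · intro h
    obtain ⟨k, rfl⟩ := ConjClasses.mk_surjective c
    have h1 := (h (k : Γ)).mpr (mem_classSet_mk K k)
    obtain ⟨h2, h3⟩ := h1
    exact h3
  · intro h x
    constructor
    · rintro ⟨hx, hxc⟩
      have hxK : x ∈ K := by
        have := (Subgroup.mem_normalizer_iff.mp hg x).mpr hx
        exact this
      refine ⟨hxK, ?_⟩
      apply conjClasses_map_injective (conjE K g hg)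
      rw [h, ← hxc]
      rfl
    · rintro ⟨hx, hxc⟩
      refine ⟨(Subgroup.mem_normalizer_iff.mp hg x).mp hx, ?_⟩
      rw [← h, ← hxc]
      rfl

theorem mem_invStab_iff (K : Subgroup Γ) (g : Γ) (hg : g ∈ Subgroup.normalizer (K : Set Γ))
    (θ : IrrCharacter K) :
    g ∈ invStab K (θ : K → ℂ) ↔ (θ : K → ℂ) ∘ (conjE K g hg) = (θ : K → ℂ) := by
  rw [mem_invStab, invAt_iff_pullIrr K g hg θ]
  constructor
  · rintro ⟨-, h⟩
    have := congrArg Subtype.val h
    exact this
  · intro h
    exact ⟨hg, Subtype.ext h⟩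

theorem invAt_iff_comp (K : Subgroup Γ) (g : Γ) (hg : g ∈ Subgroup.normalizer (K : Set Γ))
    (θ : IrrCharacter K) :
    InvAt K (θ : K → ℂ) g ↔ (θ : K → ℂ) ∘ (conjE K g hg) = (θ : K → ℂ) := by
  rw [invAt_iff_pullIrr K g hg θ]
  constructor
  · intro h
    exact congrArg Subtype.val h
  · intro h
    exact Subtype.ext h

end Classes

section Counts

variable {Γ : Type u} [Group Γ] [Finite Γ]

/-- Brauer's permutation lemma in stabilizer form. -/
theorem card_fixed_single (K : Subgroup Γ) [hK : K.Normal] (g : Γ) :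
    Nat.card {θ : IrrCharacter K // g ∈ invStab K (θ : K → ℂ)} =
      Nat.card {c : ConjClasses K // g ∈ classStab K c} := by
  have hg : g ∈ Subgroup.normalizer (K : Set Γ) := by
    rw [Subgroup.normalizer_eq_top]; trivial
  rw [Nat.card_congr (Equiv.subtypeEquivRight (fun θ => mem_invStab_iff K g hg θ)),
    Nat.card_congr (Equiv.subtypeEquivRight (fun c => mem_classStab_iff K g hg c))]
  exact (card_fixed_conjClasses_eq_card_fixed_irr (conjE K g hg)).symm

/-- the normalizer of `Z` normalizes `K ⊓ C(Z)` -/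
theorem normalizer_le_normalizer_inf_centralizer (K Z : Subgroup Γ) [hK : K.Normal] :
    Subgroup.normalizer (Z : Set Γ) ≤
      Subgroup.normalizer ((K ⊓ Subgroup.centralizer (Z : Set Γ) : Subgroup Γ) : Set Γ) := by
  intro t ht
  have key : ∀ t ∈ Subgroup.normalizer (Z : Set Γ), ∀ x ∈ K ⊓ Subgroup.centralizer (Z : Set Γ),
      t * x * t⁻¹ ∈ K ⊓ Subgroup.centralizer (Z : Set Γ) := by
    intro t ht x hx
    refine ⟨hK.conj_mem x hx.1 t, ?_⟩
    show t * x * t⁻¹ ∈ Subgroup.centralizer (Z : Set Γ)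
    rw [Subgroup.mem_centralizer_iff]
    intro z hz
    have hz' : t⁻¹ * z * t ∈ Z := by
      have := (Subgroup.mem_normalizer_iff.mp (Subgroup.inv_mem _ ht) z).mp hz
      simpa using this
    have hc := Subgroup.mem_centralizer_iff.mp hx.2 _ hz'
    calc z * (t * x * t⁻¹) = t * ((t⁻¹ * z * t) * x) * t⁻¹ := by group
      _ = t * (x * (t⁻¹ * z * t)) * t⁻¹ := by rw [hc]
      _ = t * x * t⁻¹ * z := by group
  rw [Subgroup.mem_normalizer_iff]
  intro x
  constructor
  · exact key t ht x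
  · intro hx
    have := key t⁻¹ (Subgroup.inv_mem _ ht) _ hx
    have e : t⁻¹ * (t * x * t⁻¹) * t⁻¹⁻¹ = x := by group
    rwa [e] at this

/-- **Equivariant Glauberman counting**: characters versus classes fixed by `Z` and by an element
normalizing `Z`. -/
theorem card_fixed_pair (K : Subgroup Γ) [hK : K.Normal] (Z : Subgroup Γ)
    (hcop : (Nat.card K).Coprime (Nat.card Z)) (hsolv : Group.IsSolvable Z) (n : Γ)
    (hn : n ∈ Subgroup.normalizer (Z : Set Γ)) :
    Nat.card {θ : IrrCharacter K // Z ≤ invStab K (θ : K → ℂ) ∧ n ∈ invStab K (θ : K → ℂ)} =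
      Nat.card {c : ConjClasses K // Z ≤ classStab K c ∧ n ∈ classStab K c} := by
  classical
  have hN : ∀ g : Γ, g ∈ Subgroup.normalizer (K : Set Γ) := by
    intro g; rw [Subgroup.normalizer_eq_top]; trivial
  set C : Subgroup Γ := K ⊓ Subgroup.centralizer (Z : Set Γ) with hC
  set T : Subgroup Γ := Subgroup.normalizer (Z : Set Γ) with hT
  have hTG : T ≤ Subgroup.normalizer (K : Set Γ) := fun g _ => hN g
  have hTC : T ≤ Subgroup.normalizer (C : Set Γ) := normalizer_le_normalizer_inf_centralizer K Z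
  have hZN : Z ≤ Subgroup.normalizer (K : Set Γ) := fun g _ => hN g
  obtain ⟨R, hR⟩ := gcorr_solvable (Nat.card Z) K Z T C rfl hZN hsolv hcop hTG le_rfl hC hTC
  have hnC : n ∈ Subgroup.normalizer (C : Set Γ) := hTC hn
  -- Step A
  have hA : Nat.card {θ : IrrCharacter K //
        Z ≤ invStab K (θ : K → ℂ) ∧ n ∈ invStab K (θ : K → ℂ)} =
      Nat.card {β : IrrCharacter C // InvAt C (β : C → ℂ) n} := by
    have hdom : ∀ θ : IrrCharacter K, Z ≤ invStab K (θ : K → ℂ) ↔
        θ ∈ {χ : IrrCharacter K | ∀ s ∈ Z, InvAt K (χ : K → ℂ) s} := by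
      intro θ
      constructor
      · intro h s hs
        exact (mem_invStab.mp (h hs)).2
      · intro h s hs
        exact mem_invStab.mpr ⟨hN s, h s hs⟩
    have hex : ∀ θ : {θ : IrrCharacter K //
        Z ≤ invStab K (θ : K → ℂ) ∧ n ∈ invStab K (θ : K → ℂ)}, ∃ β, R θ.1 β :=
      fun θ => hR.tot θ.1 ((hdom θ.1).mp θ.2.1)
    choose f hf using hex
    apply Nat.card_congr
    refine Equiv.ofBijective (fun θ => ⟨f θ, ?_⟩) ⟨?_, ?_⟩
    · exact (gcorr_inv_iff hR (hf θ) hn).mp (mem_invStab.mp θ.2.2).2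
    · intro θ θ' h
      have h' : f θ = f θ' := congrArg Subtype.val h
      have h1 := hf θ
      have h2 := hf θ'
      rw [← h'] at h2
      exact Subtype.ext (hR.inj _ _ _ h1 h2)
    · rintro ⟨β, hβ⟩
      obtain ⟨θ, hθ⟩ := hR.surj β
      have hθdom := hR.dom θ β hθ
      have hθn : InvAt K (θ : K → ℂ) n := (gcorr_inv_iff hR hθ hn).mpr hβ
      refine ⟨⟨θ, (hdom θ).mpr hθdom, mem_invStab.mpr ⟨hN n, hθn⟩⟩, ?_⟩
      apply Subtype.ext
      exact hR.fn θ _ _ (hf ⟨θ, (hdom θ).mpr hθdom, mem_invStab.mpr ⟨hN n, hθn⟩⟩) hθ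
  -- Step B
  have hB : Nat.card {β : IrrCharacter C // InvAt C (β : C → ℂ) n} =
      Nat.card {d : ConjClasses C // ConjClasses.map (conjE C n hnC).toMonoidHom d = d} := by
    rw [Nat.card_congr (Equiv.subtypeEquivRight (fun β => invAt_iff_comp C n hnC β))]
    exact (card_fixed_conjClasses_eq_card_fixed_irr (conjE C n hnC)).symm
  -- Step C
  let ι : C →* K := Subgroup.inclusion inf_le_left
  have hequiv : ∀ d : ConjClasses C,
      ConjClasses.map (conjE K n (hN n)).toMonoidHom (ConjClasses.map ι d) =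
        ConjClasses.map ι (ConjClasses.map (conjE C n hnC).toMonoidHom d) := by
    intro d
    obtain ⟨x, rfl⟩ := ConjClasses.mk_surjective d
    rfl
  -- invariance in the form needed for Glauberman's lemma
  have hinvform : ∀ c : ConjClasses K, Z ≤ classStab K c →
      ∀ s ∈ Z, ∀ g g' : K, (g' : Γ) = s * g * s⁻¹ →
        ConjClasses.mk g = c → ConjClasses.mk g' = c := by
    intro c hc s hs g g' hgg' hg
    have h1 : (g : Γ) ∈ classSet K c := ⟨g.2, hg⟩
    have h2 := ((hc hs) (g : Γ)).mpr h1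
    obtain ⟨h3, h4⟩ := h2
    have : g' = ⟨s * g * s⁻¹, h3⟩ := Subtype.ext hgg'
    rw [this]; exact h4
  have hcopS : (Nat.card K).Coprime (Nat.card Z) := hcop
  have hfixD : ∀ d : C, ∀ a ∈ Z, a * (d : Γ) * a⁻¹ = (d : Γ) := by
    intro d a ha
    have hd : (d : Γ) ∈ Subgroup.centralizer (Z : Set Γ) := d.2.2
    rw [Subgroup.mem_centralizer_iff] at hd
    rw [hd a ha, mul_inv_cancel_right]
  have hfix_mem : ∀ x ∈ K, (∀ a ∈ Z, a * x * a⁻¹ = x) → x ∈ C := by
    intro x hx hfix
    refine ⟨hx, ?_⟩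
    show x ∈ Subgroup.centralizer (Z : Set Γ)
    rw [Subgroup.mem_centralizer_iff]
    intro a ha
    have := hfix a ha
    calc a * x = a * x * a⁻¹ * a := by group
      _ = x * a := by rw [this]
  -- images of classes of `C` are `Z`-invariant
  have hwell : ∀ d : ConjClasses C, Z ≤ classStab K (ConjClasses.map ι d) := by
    intro d s hs
    rw [mem_classStab_iff K s (hN s)]
    obtain ⟨x, rfl⟩ := ConjClasses.mk_surjective d
    show ConjClasses.mk (conjE K s (hN s) (ι x)) = ConjClasses.mk (ι x)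
    congr 1
    apply Subtype.ext
    show s * ((ι x : K) : Γ) * s⁻¹ = ((ι x : K) : Γ)
    exact hfixD x s hs
  have hinjf : ∀ d d' : ConjClasses C, ConjClasses.map ι d = ConjClasses.map ι d' → d = d' := by
    intro d d' hdd'
    obtain ⟨x, rfl⟩ := ConjClasses.mk_surjective d
    obtain ⟨y, rfl⟩ := ConjClasses.mk_surjective d'
    have h1 : ConjClasses.mk (ι x) = ConjClasses.mk (ι y) := hdd'
    have hK' := hinvform _ (hwell (ConjClasses.mk x))
    obtain ⟨c, hc, hcd⟩ := (glauberman_classSet K Z hZN hcopS (Or.inl hsolv) _ hK').2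
      (x : Γ) ⟨x.2.1, rfl⟩ (y : Γ) ⟨y.2.1, h1.symm⟩ (hfixD x) (hfixD y)
    rw [ConjClasses.mk_eq_mk_iff_isConj, isConj_iff]
    exact ⟨⟨c, hc⟩, Subtype.ext hcd⟩
  have hC' : Nat.card {d : ConjClasses C // ConjClasses.map (conjE C n hnC).toMonoidHom d = d} =
      Nat.card {c : ConjClasses K // Z ≤ classStab K c ∧ n ∈ classStab K c} := by
    apply Nat.card_congr
    refine Equiv.ofBijective (fun d => ⟨ConjClasses.map ι d.1, hwell d.1, ?_⟩) ⟨?_, ?_⟩
    · rw [mem_classStab_iff K n (hN n), hequiv, d.2]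
    · intro d d' h
      have h' : ConjClasses.map ι d.1 = ConjClasses.map ι d'.1 := congrArg Subtype.val h
      exact Subtype.ext (hinjf _ _ h')
    · rintro ⟨c, hcZ, hcn⟩
      obtain ⟨k₀, rfl⟩ := ConjClasses.mk_surjective c
      obtain ⟨x, ⟨hxK, hxc⟩, hfix⟩ :=
        (glauberman_classSet K Z hZN hcopS (Or.inl hsolv) _ (hinvform _ hcZ)).1
          ⟨(k₀ : Γ), k₀.2, rfl⟩
      have hfd : ConjClasses.map ι (ConjClasses.mk (⟨x, hfix_mem x hxK hfix⟩ : C)) =
          ConjClasses.mk k₀ := hxc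
      refine ⟨⟨ConjClasses.mk ⟨x, hfix_mem x hxK hfix⟩, ?_⟩, ?_⟩
      · apply hinjf
        rw [← hequiv, hfd]
        exact (mem_classStab_iff K n (hN n) _).mp hcn
      · apply Subtype.ext
        exact hfd
  rw [hA, hB, hC']

end Counts

end Cfsg.Agent.Helper23.NoPQ
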