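import Mathlib
import Cfsg.Prelude.Def_Characters
import Cfsg.Agent.Helper24.CliffordCorr
import Cfsg.Agent.Helper24.SmallDegree
import Cfsg.Agent.Helper24.Linear
import Cfsg.Agent.Helper24.ColumnOrth
import Cfsg.Agent.Helper5.IndFun
import Cfsg.Agent.Helper8.Inertia
import Cfsg.Agent.S0963
import Cfsg.Agent.Helper23.NoPQA
import Cfsg.Agent.Helper23.NoPQB
import Cfsg.Agent.Helper23.NoPQC

/-!
Defect zero characters in groups without elements of order `pq`, from normal `p`-subgroups and
from normal `p'`-subgroups of order divisible by `q`.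
-/

set_option autoImplicit false
set_option linter.unusedSectionVars false
set_option linter.unusedVariables false
set_option linter.unnecessarySimpa false
set_option linter.style.haveILetI false
set_option linter.dupNamespace false

namespace Cfsg.Agent.Helper23.NoPQ

open Cfsg Cfsg.Agent.Helper24

universe u

variable {G : Type u} [Group G] [Finite G]

/-- the degree of an irreducible character as `charDegree` -/
theorem charDegree_eq_irrDeg' (χ : IrrCharacter G) : charDegree (χ : G → ℂ) = irrDeg χ := by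
  unfold charDegree
  rw [irrDeg_spec]
  simp

/-- **Defect zero from a small inertia group.** -/
theorem exists_defect_zero_of_inertia (p : ℕ) [hp : Fact p.Prime] (N : Subgroup G) [hN : N.Normal]
    (θ : IrrCharacter N) (hT : ¬ p ∣ Nat.card (inertiaSubgroup N (θ : N → ℂ))) :
    ∃ χ : IrrCharacter G,
      (charDegree (χ : G → ℂ)).factorization p = (Nat.card G).factorization p := by
  classical
  haveI : Fintype G := Fintype.ofFinite G
  haveI : Fintype N := Fintype.ofFinite N
  haveI : Fintype (IrrCharacter G) := Fintype.ofFinite _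
  haveI : Fintype (inertiaSubgroup N (θ : N → ℂ)) := Fintype.ofFinite _
  obtain ⟨ψ, hψ⟩ := Cfsg.Agent.S0963.exists_irr_over N θ
  obtain ⟨ψ', hψ'irr, hψ'ind⟩ :=
    exists_irr_inertia_indFun_eq N (ψ : G → ℂ) ψ.2 (θ : N → ℂ) θ.2 hψ
  refine ⟨ψ, ?_⟩
  generalize inertiaSubgroup N (θ : N → ℂ) = T at *
  have h1 : irrDeg ψ = T.index * irrDeg ⟨ψ', hψ'irr⟩ := by
    have h2 : (ψ : G → ℂ) 1 = (T.index : ℂ) * ψ' 1 := by
      rw [← hψ'ind]
      exact Cfsg.Agent.Helper5.indFun_apply_one T ψ'
    rw [irrDeg_spec ψ] at h2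
    have h3 : ψ' 1 = (irrDeg ⟨ψ', hψ'irr⟩ : ℂ) := irrDeg_spec ⟨ψ', hψ'irr⟩
    rw [h3] at h2
    exact_mod_cast h2
  rw [charDegree_eq_irrDeg']
  have hdvd : irrDeg ψ ∣ Nat.card G := irrDeg_dvd_card ψ
  have hpos : irrDeg ψ ≠ 0 := (irrDeg_pos ψ).ne'
  have hle : (irrDeg ψ).factorization p ≤ (Nat.card G).factorization p :=
    (Nat.factorization_le_iff_dvd hpos Nat.card_pos.ne').mpr hdvd p
  have hidx : T.index ∣ irrDeg ψ := ⟨_, h1⟩
  have hidxpos : T.index ≠ 0 := by
    intro h0
    rw [h0] at hidx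
    exact hpos (zero_dvd_iff.mp hidx)
  have hge : T.index.factorization p ≤ (irrDeg ψ).factorization p :=
    (Nat.factorization_le_iff_dvd hidxpos hpos).mpr hidx p
  have hmul : Nat.card T * T.index = Nat.card G := T.card_mul_index
  have hfac : (Nat.card G).factorization p =
      (Nat.card T).factorization p + T.index.factorization p := by
    rw [← hmul, Nat.factorization_mul Nat.card_pos.ne' hidxpos]
    rfl
  have hT0 : (Nat.card T).factorization p = 0 := Nat.factorization_eq_zero_of_not_dvd hT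
  omega

/-- the trivial character is the only one fixed by a fixed-point-free coprime element -/
theorem eq_trivIrr_of_mem_inertia (N : Subgroup G) [hN : N.Normal] (x : G)
    (hcop : (orderOf x).Coprime (Nat.card N))
    (hfpf : N ⊓ Subgroup.centralizer ({x} : Set G) = ⊥) (θ : IrrCharacter N)
    (hx : x ∈ Cfsg.Agent.Helper8.inertia N (θ : N → ℂ)) : θ = trivIrr N := by
  have h1 := Cfsg.Agent.Helper8.card_fixed_irr_coprime N x hcop
  rw [hfpf] at h1
  have h2 : Nat.card (ConjClasses ↥(⊥ : Subgroup G)) = 1 := by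
    rw [Nat.card_eq_one_iff_unique]
    refine ⟨⟨?_⟩, ⟨ConjClasses.mk 1⟩⟩
    intro a b
    obtain ⟨a, rfl⟩ := ConjClasses.mk_surjective a
    obtain ⟨b, rfl⟩ := ConjClasses.mk_surjective b
    congr 1
    exact Subsingleton.elim a b
  rw [h2, Nat.card_eq_one_iff_unique] at h1
  obtain ⟨hsub, -⟩ := h1
  have htriv : x ∈ Cfsg.Agent.Helper8.inertia N (trivIrr N : N → ℂ) := by
    rw [Cfsg.Agent.Helper8.mem_inertia]
    intro h
    rfl
  have := hsub.elim ⟨θ, hx⟩ ⟨trivIrr N, htriv⟩
  exact congrArg Subtype.val this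

/-- **Step 1**: a nontrivial normal `p`-subgroup gives a character of `q`-defect zero. -/
theorem exists_defect_zero_of_normal_pgroup {p q : ℕ} [hp : Fact p.Prime] [hq : Fact q.Prime]
    (hpq : p ≠ q) (h : NoPQ p q G) (N : Subgroup G) [hN : N.Normal] (hNp : IsPGroup p N)
    (hN1 : N ≠ ⊥) :
    ∃ χ : IrrCharacter G,
      (charDegree (χ : G → ℂ)).factorization q = (Nat.card G).factorization q := by
  classical
  -- a nontrivial irreducible character of `N`
  obtain ⟨θ, hθ⟩ : ∃ θ : IrrCharacter N, θ ≠ trivIrr N := by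
    have h1 : 1 < Nat.card (ConjClasses N) := by
      obtain ⟨n, hn⟩ := (Subgroup.ne_bot_iff_exists_ne_one).mp hN1
      rw [Finite.one_lt_card_iff_nontrivial]
      refine ⟨ConjClasses.mk 1, ConjClasses.mk n, ?_⟩
      intro h2
      rw [ConjClasses.mk_eq_mk_iff_isConj, isConj_one_right] at h2
      exact hn h2
    rw [← card_irr_eq_card_conjClasses, Finite.one_lt_card_iff_nontrivial] at h1
    exact exists_ne (trivIrr N)
  apply exists_defect_zero_of_inertia q N θ
  intro hdvd
  obtain ⟨x, hx⟩ := exists_prime_orderOf_dvd_card' q hdvd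
  have hxo : orderOf (x : G) = q := by rw [Subgroup.orderOf_coe]; exact hx
  apply hθ
  apply eq_trivIrr_of_mem_inertia N (x : G)
  · rw [hxo]
    obtain ⟨k, hk⟩ := IsPGroup.iff_card.mp hNp
    rw [hk]
    apply Nat.Coprime.pow_right
    rw [Nat.coprime_primes hq.out hp.out]
    exact hpq.symm
  · rw [eq_bot_iff]
    intro n hn
    rw [Subgroup.mem_bot]
    by_contra hn1
    have hnN : n ∈ N := hn.1
    have hnC : n ∈ Subgroup.centralizer ({(x : G)} : Set G) := hn.2
    have hnp : ∃ k : ℕ, orderOf n = p ^ k := by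
      obtain ⟨k, hk⟩ := hNp ⟨n, hnN⟩
      have h3 : n ^ p ^ k = 1 := by
        have := congrArg Subtype.val hk
        simpa using this
      obtain ⟨j, -, hj⟩ := (Nat.dvd_prime_pow hp.out).mp (orderOf_dvd_of_pow_eq_one h3)
      exact ⟨j, hj⟩
    apply h.not_commute hn1 hnp (b := (x : G)) (by rw [hxo])
    exact (Subgroup.mem_centralizer_iff.mp hnC (x : G) rfl).symm
  · rw [Cfsg.Agent.Helper8.mem_inertia]
    exact (mem_inertiaSubgroup N _ _).mp x.2

/-- a class of `K` whose stabilizer contains no subgroup of order `p` -/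
theorem exists_good_class {p q : ℕ} [hp : Fact p.Prime] [hq : Fact q.Prime]
    (h : NoPQ p q G) (K : Subgroup G) [hK : K.Normal] (hpK : ¬ p ∣ Nat.card K)
    (hqK : q ∣ Nat.card K) :
    ∃ c : ConjClasses K, Good (fun c : ConjClasses K => classStab K c) p c := by
  obtain ⟨y, hy⟩ := exists_prime_orderOf_dvd_card' q hqK
  have hyo : orderOf (y : G) = q := by rw [Subgroup.orderOf_coe]; exact hy
  have hy1 : (y : G) ≠ 1 := by
    intro h1
    rw [h1, orderOf_one] at hyo
    exact hq.out.one_lt.ne hyo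
  refine ⟨ConjClasses.mk y, ?_⟩
  intro Z hZ hle
  -- an element of order `p` in `Z`
  have hZne : Z ≠ ⊥ := by
    intro hb
    rw [hb, Subgroup.card_bot] at hZ
    exact hp.out.one_lt.ne hZ
  obtain ⟨e, he1⟩ := (Subgroup.ne_bot_iff_exists_ne_one).mp hZne
  have hep : (e : G) ^ p = 1 := by
    have h1 : e ^ Nat.card Z = 1 := pow_card_eq_one'
    rw [hZ] at h1
    have := congrArg Subtype.val h1
    simpa using this
  have he1' : (e : G) ≠ 1 := fun h1 => he1 (Subtype.ext h1)
  have heo : orderOf (e : G) = p := orderOf_eq_prime hep he1'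
  have hes : (e : G) ∈ classStab K (ConjClasses.mk y) := hle e.2
  obtain ⟨h3, h4⟩ := (hes (y : G)).mpr (mem_classSet_mk K y)
  rw [ConjClasses.mk_eq_mk_iff_isConj, isConj_iff] at h4
  obtain ⟨k, hk⟩ := h4
  have hk' : (k : G) * ((e : G) * y * (e : G)⁻¹) * (k : G)⁻¹ = (y : G) := congrArg Subtype.val hk
  set w : G := (k : G) * (e : G) with hw
  have hwy : Commute (y : G) w := by
    have h5 : w * (y : G) * w⁻¹ = (y : G) := by
      calc w * (y : G) * w⁻¹ = (k : G) * ((e : G) * y * (e : G)⁻¹) * (k : G)⁻¹ := by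
            rw [hw]; group
        _ = (y : G) := hk'
    show (y : G) * w = w * (y : G)
    calc (y : G) * w = (w * (y : G) * w⁻¹) * w := by rw [h5]
      _ = w * (y : G) := by group
  have hpw : p ∣ orderOf w := by
    have h6 : QuotientGroup.mk' K w = QuotientGroup.mk' K (e : G) := by
      rw [hw, map_mul]
      have : QuotientGroup.mk' K (k : G) = 1 := (QuotientGroup.eq_one_iff _).mpr k.2
      rw [this, one_mul]
    have h7 : orderOf (QuotientGroup.mk' K (e : G)) = p := by
      apply orderOf_eq_prime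
      · rw [← map_pow, hep, map_one]
      · intro h8
        have heK : (e : G) ∈ K := (QuotientGroup.eq_one_iff _).mp h8
        apply hpK
        have := orderOf_dvd_natCard (⟨(e : G), heK⟩ : K)
        rwa [Subgroup.orderOf_mk, heo] at this
    have h9 := orderOf_map_dvd (QuotientGroup.mk' K) w
    rw [h6, h7] at h9
    exact h9
  exact (h.symm).not_commute hy1 ⟨1, by rw [hyo, pow_one]⟩ hpw hwy

/-- **Lemma X**: an irreducible character of `K` whose stabilizer contains no subgroup of order
`p`. -/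
theorem exists_good_irr {p q : ℕ} [hp : Fact p.Prime] [hq : Fact q.Prime]
    (h : NoPQ p q G) (K : Subgroup G) [hK : K.Normal] (hpK : ¬ p ∣ Nat.card K)
    (hqK : q ∣ Nat.card K) :
    ∃ θ : IrrCharacter K, Good (fun θ : IrrCharacter K => invStab K (θ : K → ℂ)) p θ := by
  apply exists_good_of_exists_good p (conjP_of_noPQ h K hpK hqK)
    (fun θ : IrrCharacter K => invStab K (θ : K → ℂ)) (fun c : ConjClasses K => classStab K c)
    (card_fixed_single K) _ (exists_good_class h K hpK hqK)
  intro Z hZ n hn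
  apply card_fixed_pair K Z _ _ n hn
  · rw [hZ, Nat.coprime_comm, Nat.Prime.coprime_iff_not_dvd hp.out]
    exact hpK
  · haveI : IsCyclic Z := isCyclic_of_prime_card hZ
    exact Group.isSolvable_of_comm (fun a b => IsCyclic.commGroup.mul_comm a b)

/-- **Step 2**: a normal `p'`-subgroup of order divisible by `q` gives a character of
`p`-defect zero. -/
theorem exists_defect_zero_of_normal_pprime {p q : ℕ} [hp : Fact p.Prime] [hq : Fact q.Prime]
    (h : NoPQ p q G) (K : Subgroup G) [hK : K.Normal] (hpK : ¬ p ∣ Nat.card K)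
    (hqK : q ∣ Nat.card K) :
    ∃ χ : IrrCharacter G,
      (charDegree (χ : G → ℂ)).factorization p = (Nat.card G).factorization p := by
  obtain ⟨θ, hθ⟩ := exists_good_irr h K hpK hqK
  apply exists_defect_zero_of_inertia p K θ
  intro hdvd
  obtain ⟨x, hx⟩ := exists_prime_orderOf_dvd_card' p hdvd
  have hxo : orderOf (x : G) = p := by rw [Subgroup.orderOf_coe]; exact hx
  apply hθ (Subgroup.zpowers (x : G)) (by rw [Nat.card_zpowers, hxo])
  rw [Subgroup.zpowers_le]
  refine mem_invStab.mpr ⟨by rw [Subgroup.normalizer_eq_top]; trivial, ?_⟩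
  intro g g' hgg'
  have h1 := (mem_inertiaSubgroup K _ _).mp x.2 g
  rw [← h1]
  have e : g' = ⟨(x : G) * g * (x : G)⁻¹, hK.conj_mem g g.2 x⟩ := by
    apply Subtype.ext
    exact hgg'
  rw [e]

end Cfsg.Agent.Helper23.NoPQ
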