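import Mathlib
import Cfsg.Prelude.Def_Characters
import Cfsg.Prelude.Def_Local
import Cfsg.Agent.Lead.PSolvHall
import Cfsg.Agent.Helper8.CharComp
import Cfsg.Agent.Helper23.NoPQD

/-!
Main induction: a `p`-solvable group without elements of order `pq` (with `p`, `q` dividing the
order) has an irreducible character of `p`-defect zero or of `q`-defect zero.
-/

set_option autoImplicit false
set_option linter.unusedSectionVars false
set_option linter.unusedVariables false
set_option linter.unnecessarySimpa false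
set_option linter.style.haveILetI false
set_option linter.dupNamespace false

namespace Cfsg.Agent.Helper23.NoPQ

open Cfsg Cfsg.Agent.Helper24

universe u

section Quot

variable {G : Type u} [Group G] [Finite G]

theorem NoPQ.not_dvd_orderOf {p q : ℕ} [hp : Fact p.Prime] [hq : Fact q.Prime]
    (h : NoPQ p q G) (u : G) : ¬ (p * q ∣ orderOf u) := by
  intro hdvd
  have hu0 : orderOf u ≠ 0 := (orderOf_pos u).ne'
  have hpd : p ∣ orderOf u := (dvd_mul_right p q).trans hdvd
  have hqd : q ∣ orderOf u := (dvd_mul_left q p).trans hdvd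
  have ha : orderOf (u ^ (orderOf u / p)) = p := orderOf_pow_orderOf_div hu0 hpd
  have hb : orderOf (u ^ (orderOf u / q)) = q := orderOf_pow_orderOf_div hu0 hqd
  have ha1 : u ^ (orderOf u / p) ≠ 1 := by
    intro h1
    rw [h1, orderOf_one] at ha
    exact hp.out.one_lt.ne ha
  apply h.not_commute ha1 ⟨1, by rw [ha, pow_one]⟩ (b := u ^ (orderOf u / q)) (by rw [hb])
  exact (Commute.refl u).pow_pow _ _

theorem NoPQ.quotient {p q : ℕ} [hp : Fact p.Prime] [hq : Fact q.Prime] (hpq : p ≠ q)
    (h : NoPQ p q G) (N : Subgroup G) [N.Normal] : NoPQ p q (G ⧸ N) := by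
  intro g hg ⟨k, hk⟩ hdvd
  obtain ⟨b, hb⟩ := exists_prime_orderOf_dvd_card' q hdvd
  have hbo : orderOf (b : G ⧸ N) = q := by rw [Subgroup.orderOf_coe]; exact hb
  have hcomm : Commute g (b : G ⧸ N) := by
    have hc : Commute g (b : G ⧸ N) := Subgroup.mem_centralizer_iff.mp b.2 g rfl
    exact hc
  have hk0 : k ≠ 0 := by
    intro h0
    rw [h0, pow_zero, orderOf_eq_one_iff] at hk
    exact hg hk
  have hcop : (orderOf g).Coprime (orderOf (b : G ⧸ N)) := by
    rw [hk, hbo]
    apply Nat.Coprime.pow_left
    rw [Nat.coprime_primes hp.out hq.out]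
    exact hpq
  have hord := hcomm.orderOf_mul_eq_mul_orderOf_of_coprime hcop
  obtain ⟨u, hu⟩ := QuotientGroup.mk'_surjective N (g * (b : G ⧸ N))
  have h1 := orderOf_map_dvd (QuotientGroup.mk' N) u
  rw [hu, hord, hk, hbo] at h1
  apply h.not_dvd_orderOf u
  refine dvd_trans ?_ h1
  exact Nat.mul_dvd_mul (dvd_pow_self p hk0) dvd_rfl

end Quot

section Main

theorem main_aux (p q : ℕ) [hp : Fact p.Prime] [hq : Fact q.Prime] (hpq : p ≠ q) :
    ∀ n : ℕ, ∀ (G : Type u) [Group G] [Finite G], Nat.card G = n → p ∣ Nat.card G →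
      q ∣ Nat.card G → NoPQ p q G → Cfsg.IsPSolvable p G →
      (∃ χ : IrrCharacter G,
        (charDegree (χ : G → ℂ)).factorization p = (Nat.card G).factorization p) ∨
      (∃ χ : IrrCharacter G,
        (charDegree (χ : G → ℂ)).factorization q = (Nat.card G).factorization q) := by
  intro n
  induction n using Nat.strong_induction_on with
  | _ n ih =>
  intro G _ _ hn hpG hqG hno hsolv
  haveI : Nontrivial G := by
    rw [← Finite.one_lt_card_iff_nontrivial]
    have := Nat.le_of_dvd Nat.card_pos hpG
    have := hp.out.one_lt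
    omega
  obtain ⟨N, hNn, hN1, hN⟩ := Cfsg.Agent.Lead.exists_normal_of_isPSolvable hsolv
  haveI := hNn
  rcases hN with ⟨m, hm⟩ | hcop
  · right
    exact exists_defect_zero_of_normal_pgroup hpq hno N (IsPGroup.of_card hm) hN1
  · have hpN : ¬ p ∣ Nat.card N := by
      rw [← Nat.Prime.coprime_iff_not_dvd hp.out]
      exact hcop.symm
    by_cases hqN : q ∣ Nat.card N
    · left
      exact exists_defect_zero_of_normal_pprime hno N hpN hqN
    · -- pass to the quotient
      have hcard : Nat.card N * Nat.card (G ⧸ N) = Nat.card G := by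
        rw [← N.index_eq_card, N.card_mul_index]
      have hN2 : 1 < Nat.card N := by
        rw [Finite.one_lt_card_iff_nontrivial]
        exact (Subgroup.nontrivial_iff_ne_bot N).mpr hN1
      have hlt : Nat.card (G ⧸ N) < n := by
        rw [← hn, ← hcard]
        have : 0 < Nat.card (G ⧸ N) := Nat.card_pos
        nlinarith
      have hpQ : p ∣ Nat.card (G ⧸ N) := by
        rw [← hcard] at hpG
        exact (hp.out.dvd_mul.mp hpG).resolve_left hpN
      have hqQ : q ∣ Nat.card (G ⧸ N) := by
        rw [← hcard] at hqG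
        exact (hq.out.dvd_mul.mp hqG).resolve_left hqN
      have hfac : ∀ r : ℕ, ¬ r ∣ Nat.card N →
          (Nat.card G).factorization r = (Nat.card (G ⧸ N)).factorization r := by
        intro r hr
        rw [← hcard, Nat.factorization_mul Nat.card_pos.ne' Nat.card_pos.ne']
        have : (Nat.card N).factorization r = 0 := Nat.factorization_eq_zero_of_not_dvd hr
        simp [this]
      have hinfl : ∀ χ : IrrCharacter (G ⧸ N), ∃ ψ : IrrCharacter G,
          charDegree (ψ : G → ℂ) = charDegree (χ : G ⧸ N → ℂ) := by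
        intro χ
        refine ⟨⟨fun g => (χ : G ⧸ N → ℂ) (QuotientGroup.mk' N g),
          Cfsg.Agent.Helper8.isIrrCharacter_comp_surjective (QuotientGroup.mk' N)
            (QuotientGroup.mk'_surjective N) χ.2⟩, ?_⟩
        unfold charDegree
        simp
      rcases ih _ hlt (G ⧸ N) rfl hpQ hqQ (hno.quotient hpq N)
        (Cfsg.Agent.Lead.isPSolvable_quotient hsolv N) with ⟨χ, hχ⟩ | ⟨χ, hχ⟩
      · left
        obtain ⟨ψ, hψ⟩ := hinfl χ
        exact ⟨ψ, by rw [hψ, hχ, hfac p hpN]⟩
      · right
        obtain ⟨ψ, hψ⟩ := hinfl χ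
        exact ⟨ψ, by rw [hψ, hχ, hfac q hqN]⟩

end Main

end Cfsg.Agent.Helper23.NoPQ
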