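import Mathlib
import Cfsg.Prelude.Def_Blocks
import Cfsg.Prelude.Def_BlockLocal
import Cfsg.Prelude.Def_BrauerPairs
import Cfsg.Agent.Helper23.MaxOfDefect
import Cfsg.Agent.Helper5.BrauerMap2
import Cfsg.Agent.S0964

set_option autoImplicit false
set_option linter.unusedSectionVars false
set_option linter.unusedVariables false

/-!
# A block over a normal `p`-subgroup is the trace of a block of the centralizer
-/

namespace Cfsg.Agent.Helper23.NPT

open Cfsg Cfsg.Agent.Helper24 Cfsg.Agent.Helper5 Cfsg.Agent.Helper5.Loc Cfsg.Agent.Helper5.CC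
open Cfsg.Agent.Helper14
open Cfsg.Agent.Helper23.BT Cfsg.Agent.Helper23.IC Cfsg.Agent.Helper23.TM
open Cfsg.Agent.Helper23.SB Cfsg.Agent.Helper23.TMH Cfsg.Agent.Helper23.BP
open Cfsg.Agent.Helper23.SP Cfsg.Agent.Helper23.SU Cfsg.Agent.Helper23.PP
open Cfsg.Agent.Helper23.MP Cfsg.Agent.Helper23.PC Cfsg.Agent.Helper23.BC
open Cfsg.Agent.Helper23.MC Cfsg.Agent.Helper23.LD Cfsg.Agent.Helper23.ST
open Cfsg.Agent.Helper23.BF Cfsg.Agent.Helper23.RP Cfsg.Agent.Helper23.AD
open Cfsg.Agent.Helper23.NS Cfsg.Agent.Helper23.NPI Cfsg.Agent.Helper23.II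
open Cfsg.Agent.Helper23.CS Cfsg.Agent.Helper23.DP Cfsg.Agent.Helper23.MOD

/-- Summing the idempotents of a family of sets of characters covering `Θ` evenly. -/
theorem sum_blockCoeff_family {K : Type*} [Group K] [Fintype K] {ι : Type*} [Fintype ι]
    (S : ι → Set (IrrCharacter K)) (Θ : Set (IrrCharacter K)) (n : ℕ)
    [∀ θ : IrrCharacter K, DecidablePred fun i => θ ∈ S i] [DecidablePred (· ∈ Θ)]
    (h : ∀ θ : IrrCharacter K,
      (Finset.univ.filter (fun i => θ ∈ S i)).card = if θ ∈ Θ then n else 0) (k : K) :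
    ∑ i, blockCoeff (S i) k = (n : ℂ) * blockCoeff Θ k := by
  classical
  have : Fintype (IrrCharacter K) := Fintype.ofFinite _
  have key : (∑ i, blockCoeff (S i)) = (n : ℂ) • blockCoeff Θ := by
    apply NS.eq_of_act_eq
    · intro g x
      rw [Finset.sum_apply, Finset.sum_apply]
      exact Finset.sum_congr rfl fun i _ => isClassFunction_blockCoeff (S i) g x
    · intro g x
      rw [Pi.smul_apply, Pi.smul_apply, isClassFunction_blockCoeff Θ g x]
    · intro θ
      rw [act_sum, act_smul, act_blockCoeff]
      simp_rw [act_blockCoeff]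
      rw [Finset.sum_boole, h θ]
      split_ifs <;> simp
  have := congrFun key k
  rw [Finset.sum_apply, Pi.smul_apply, smul_eq_mul] at this
  exact this

variable {G : Type*} [Group G] [Fintype G] {M : Ideal AlgInt} {p : ℕ} [Fact p.Prime]

/-- **S4654.** -/
theorem trace_of_centralizer_block (hM : IsPModular p M) (P : Subgroup G) [hPn : P.Normal]
    (hP : IsPGroup p P) (B : Set (IrrCharacter G))
    (e : Set (IrrCharacter (Subgroup.centralizer (P : Set G))))
    (hBe : IsBrauerPairOf p M B P e) (T : Subgroup G)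
    (hT : ∀ x : G, x ∈ T ↔ StabilizesBlock (Subgroup.centralizer (P : Set G)) e x) :
    (∃ E : Set (IrrCharacter T), IsPBlock M E ∧ ∀ t : T, blockCoeff E t =
      subgroupBlockCoeff (Subgroup.centralizer (P : Set G)) e (t : G)) ∧
    ∀ g : G, blockCoeff B g = (Nat.card T : ℂ)⁻¹ *
      ∑ x : G, subgroupBlockCoeff (Subgroup.centralizer (P : Set G)) e (x⁻¹ * g * x) := by
  classical
  have hMp := isPrime_of_isPModular hM
  have hB := hBe.2.1
  have he := hBe.1.2
  have hCn : (Subgroup.centralizer (P : Set G)).Normal := Subgroup.normal_centralizer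
  have : Fintype (Subgroup.centralizer (P : Set G)) := Fintype.ofFinite _
  have : Fintype (IrrCharacter G) := Fintype.ofFinite _
  have : Fintype (IrrCharacter (Subgroup.centralizer (P : Set G))) := Fintype.ofFinite _
  have : Fintype T := Fintype.ofFinite _
  have hnC : ∀ x : G, x ∈ Subgroup.normalizer
      ((Subgroup.centralizer (P : Set G) : Subgroup G) : Set G) := by
    intro x
    rw [Subgroup.normalizer_eq_top]
    exact Subgroup.mem_top x
  have hnP : ∀ x : G, x ∈ Subgroup.normalizer (P : Set G) := by
    intro x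
    rw [Subgroup.normalizer_eq_top]
    exact Subgroup.mem_top x
  have hTiff : ∀ x : G, x ∈ T ↔ pullBlock (conjEquiv _ x (hnC x)) e = e := by
    intro x
    rw [hT]
    exact ⟨fun h => pullBlock_eq_of_stabilizesBlock (hnC x) h,
      fun h => stabilizesBlock_of_pullBlock_eq (hnC x) h⟩
  constructor
  · -- the block of the stabilizer
    refine exists_block_of_stable hM P T hP ?_ ?_ (fun t _ => hnP t) e he
      (fun t ht => (hT t).mp ht)
    · intro x hx
      exact (hT x).mpr (stabilizesBlock_of_mem_sup P e x (Subgroup.mem_sup_left hx))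
    · intro x hx
      exact (hT x).mpr (stabilizesBlock_of_mem_sup P e x (Subgroup.mem_sup_right hx))
  · -- the trace formula
    have hclos : ∀ χ ∈ B, ∀ χ' : IrrCharacter G,
        ∀ θ : IrrCharacter (Subgroup.centralizer (P : Set G)),
        classInner (fun n : Subgroup.centralizer (P : Set G) => (χ : G → ℂ) n)
          (θ : Subgroup.centralizer (P : Set G) → ℂ) ≠ 0 →
        classInner (fun n : Subgroup.centralizer (P : Set G) => (χ' : G → ℂ) n)
          (θ : Subgroup.centralizer (P : Set G) → ℂ) ≠ 0 → χ' ∈ B := by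
      intro χ hχ χ' θ hθ hθ'
      rw [IsPBlock_eq_blockOf hMp hB hχ]
      exact sameBlock_of_common_constituent hM P hP χ χ' θ hθ hθ'
    have hBcut := blockCoeff_eq_cutCoeff (Subgroup.centralizer (P : Set G)) B hclos
    -- `e` consists of constituents of `B`
    have heΘ : e ⊆ constituents (Subgroup.centralizer (P : Set G)) B := by
      intro ξ hξ
      by_contra hcon
      have h1 := hBe.2.2 ξ hξ
      rw [brauerOmega_eq_act] at h1
      have e1 : brRes P (Subgroup.centralizer (P : Set G)) (blockCoeff B) =
          blockCoeff (constituents (Subgroup.centralizer (P : Set G)) B) := by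
        funext h
        rw [brRes, cut_of_mem _ h.2, hBcut, cutCoeff_of_mem _ _ h.2]
      rw [e1, act_blockCoeff, if_neg hcon, zero_sub] at h1
      have h2 := li_neg h1
      rw [neg_neg] at h2
      exact not_memLocalIdeal_one hMp h2
    -- every constituent of `B` lies in a conjugate of `e`
    have hΘe : ∀ θ ∈ constituents (Subgroup.centralizer (P : Set G)) B,
        ∃ x : G, θ ∈ pullBlock (conjEquiv _ x (hnC x)) e := by
      rintro θ ⟨χ, hχ, hne⟩
      obtain ⟨ξ, hξ⟩ := IsPBlock.nonempty hMp he
      obtain ⟨χ', hχ', hne'⟩ := heΘ hξ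
      obtain ⟨g, θ', hθ', hg⟩ := Cfsg.Agent.S0964.result p M hM
        (Subgroup.centralizer (P : Set G)) B hB e he χ' hχ' ξ hξ hne' χ hχ θ hne
      refine ⟨g⁻¹, ?_⟩
      have : θ = pullIrr (conjEquiv _ g⁻¹ (hnC g⁻¹)) θ' := by
        apply Subtype.ext
        funext n
        rw [hg n, pullIrr_apply]
        refine congrArg _ ?_
        apply Subtype.ext
        rw [conjEquiv_apply, inv_inv]
      rw [this]
      exact (pullIrr_mem_pullBlock_iff _ e θ').mpr hθ'
    have hSsub : ∀ x : G, pullBlock (conjEquiv _ x (hnC x)) e ⊆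
        constituents (Subgroup.centralizer (P : Set G)) B := by
      intro x θ hθ
      rw [pullBlock_eq_image] at hθ
      obtain ⟨ξ, hξ, rfl⟩ := hθ
      obtain ⟨χ, hχ, hne⟩ := heΘ hξ
      refine ⟨χ, hχ, ?_⟩
      have h1 := classInner_comp_mulEquiv (conjEquiv _ x (hnC x))
        (fun n : Subgroup.centralizer (P : Set G) => (χ : G → ℂ) n)
        (ξ : Subgroup.centralizer (P : Set G) → ℂ)
      have e2 : (fun k : Subgroup.centralizer (P : Set G) =>
          (fun n : Subgroup.centralizer (P : Set G) => (χ : G → ℂ) n)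
            (conjEquiv _ x (hnC x) k)) =
          fun n : Subgroup.centralizer (P : Set G) => (χ : G → ℂ) n := by
        funext k
        show (χ : G → ℂ) (x⁻¹ * (k : G) * x) = (χ : G → ℂ) k
        have := isClassFunction_irr χ (k : G) x⁻¹
        rwa [inv_inv] at this
      rw [e2] at h1
      show classInner (fun n : Subgroup.centralizer (P : Set G) => (χ : G → ℂ) n)
        ((pullIrr (conjEquiv _ x (hnC x)) ξ : IrrCharacter _) :
          Subgroup.centralizer (P : Set G) → ℂ) ≠ 0
      have e3 : ((pullIrr (conjEquiv _ x (hnC x)) ξ : IrrCharacter _) :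
          Subgroup.centralizer (P : Set G) → ℂ) =
          fun k => (ξ : Subgroup.centralizer (P : Set G) → ℂ) (conjEquiv _ x (hnC x) k) := rfl
      rw [e3, h1]
      exact hne
    have hmul : ∀ x y : G, pullBlock (conjEquiv _ (x * y) (hnC (x * y))) e =
        pullBlock (conjEquiv _ x (hnC x)) (pullBlock (conjEquiv _ y (hnC y)) e) := by
      intro x y
      rw [conjEquiv_mul _ x y (hnC x) (hnC y), pullBlock_trans]
    -- counting
    have hcount : ∀ θ : IrrCharacter (Subgroup.centralizer (P : Set G)),
        (Finset.univ.filter (fun x : G => θ ∈ pullBlock (conjEquiv _ x (hnC x)) e)).card =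
          if θ ∈ constituents (Subgroup.centralizer (P : Set G)) B then Nat.card T else 0 := by
      intro θ
      by_cases hθ : θ ∈ constituents (Subgroup.centralizer (P : Set G)) B
      · rw [if_pos hθ]
        obtain ⟨x₀, hx₀⟩ := hΘe θ hθ
        rw [Nat.card_eq_fintype_card, ← Finset.card_univ]
        symm
        apply Finset.card_bij (fun (t : T) _ => x₀ * (t : G))
        · intro t _
          rw [Finset.mem_filter]
          refine ⟨Finset.mem_univ _, ?_⟩
          rw [hmul, (hTiff t).mp t.2]
          exact hx₀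
        · intro t₁ _ t₂ _ h
          exact Subtype.ext (mul_left_cancel h)
        · intro x hx
          rw [Finset.mem_filter] at hx
          have hxe := hx.2
          have heq : pullBlock (conjEquiv _ x (hnC x)) e =
              pullBlock (conjEquiv _ x₀ (hnC x₀)) e :=
            (IsPBlock_eq_blockOf hMp (isPBlock_pullBlock _ he) hxe).trans
              (IsPBlock_eq_blockOf hMp (isPBlock_pullBlock _ he) hx₀).symm
          have hx' : x = x₀ * (x₀⁻¹ * x) := by group
          have ht : x₀⁻¹ * x ∈ T := by
            rw [hTiff]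
            apply pullBlock_injective (conjEquiv _ x₀ (hnC x₀))
            rw [← hmul, ← heq]
            congr 1
            · rw [← hx']
          exact ⟨⟨x₀⁻¹ * x, ht⟩, Finset.mem_univ _, hx'.symm⟩
      · rw [if_neg hθ, Finset.card_eq_zero, Finset.filter_eq_empty_iff]
        intro x _ hx
        exact hθ (hSsub x hx)
    intro g
    by_cases hg : g ∈ Subgroup.centralizer (P : Set G)
    · have hsum := sum_blockCoeff_family
        (fun x : G => pullBlock (conjEquiv _ x (hnC x)) e)
        (constituents (Subgroup.centralizer (P : Set G)) B) (Nat.card T) hcount ⟨g, hg⟩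
      have e4 : ∀ x : G, subgroupBlockCoeff (Subgroup.centralizer (P : Set G)) e (x⁻¹ * g * x) =
          blockCoeff (pullBlock (conjEquiv _ x (hnC x)) e)
            (⟨g, hg⟩ : Subgroup.centralizer (P : Set G)) := by
        intro x
        rw [blockCoeff_pullBlock, subgroupBlockCoeff_eq_ext0]
        exact ext0_coe _ _ (conjEquiv _ x (hnC x) ⟨g, hg⟩)
      rw [Finset.sum_congr rfl (fun x _ => e4 x), hsum, hBcut, cutCoeff_of_mem _ _ hg,
        ← mul_assoc, inv_mul_cancel₀, one_mul]
      exact Nat.cast_ne_zero.mpr Nat.card_pos.ne'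
    · rw [blockCoeff_eq_zero_of_not_mem_centralizer hM P hP B hB g hg]
      rw [Finset.sum_eq_zero, mul_zero]
      intro x _
      rw [subgroupBlockCoeff_eq_ext0, ext0_of_not_mem]
      intro hmem
      apply hg
      have := hCn.conj_mem _ hmem x
      have e5 : x * (x⁻¹ * g * x) * x⁻¹ = g := by group
      rwa [e5] at this

end Cfsg.Agent.Helper23.NPT
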