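import Cfsg.Agent.Helper3.OC2Q2.Defs
import Cfsg.Agent.Helper23.OC2Q2KER
import Cfsg.Agent.Helper23.OC2Q2NSING

set_option autoImplicit false
set_option linter.unusedSectionVars false
set_option linter.unusedVariables false

/-! # S5694 CHAR2, sub-chapter Q2, piece NPAIR (helper23). -/

namespace Cfsg.Agent.OC2K

open Matrix Cfsg.Agent.Helper28.Sg Cfsg.Agent.Helper28.Spin Cfsg.Agent.Helper12.OrthGen
  Cfsg.Agent.S2614 Cfsg.Agent.S5683P Cfsg.Agent.Helper28.NDM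

variable {F : Type*} [Field F] {t k : ℕ} {ι : Type} [Fintype ι] [DecidableEq ι] {Q : QuadraticForm F (ι → F)} [QHyp Q] {D : Fin t → Submodule F (ι → F)}
  {M : Subgroup (OGq Q)}

theorem Q2.NPAIR.exists (hF : Q2.IsF2 F) (hD : HD Q k D) (hk : 4 ≤ k) (hW : Q2.W1 Q D) {c : Fin t}
    {a : ι → F} (ha : a ∈ D c) (hQa : Q a ≠ 0) :
    ∃ x₁ ∈ D c, ∃ x₂ ∈ D c, Q x₁ = 0 ∧ Q x₂ = 0 ∧ B Q a x₁ = 0 ∧ B Q a x₂ = 0 ∧ B Q x₁ x₂ = 1 := by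
  obtain ⟨x₁, hx₁, hx₁0, hQ₁, ha₁⟩ := Q2.NSING.exists hF hD hk ha hQa
  obtain ⟨n, hn, han, hne⟩ := Q2.KER.exists hD hk c a a x₁
  obtain ⟨x₂, hx₂, hQ₂, ha₂, hxn⟩ := Q2.NSING.aux_sing hF ha hQa hn han
  refine ⟨x₁, hx₁, x₂, hx₂, hQ₁, hQ₂, ha₁, ha₂, ?_⟩
  apply Q2.eq_one hF
  intro h12
  obtain ⟨s, hs⟩ := hW c x₁ hx₁ x₂ hx₂ hQ₁ hQ₂ h12 hx₁0
  rcases hxn with h | h
  · apply hne 0 s
    rw [← h, hs, zero_smul, zero_add]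
  · apply hne (-1) s
    have h1 : n = x₂ - a := by rw [h]; abel
    rw [h1, hs, neg_one_smul]
    abel

end Cfsg.Agent.OC2K
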