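import Cfsg.Agent.Helper3.OC2Q2.Defs
import Cfsg.Agent.Helper23.OC2Q2NSING

set_option autoImplicit false
set_option linter.unusedSectionVars false
set_option linter.unusedVariables false

/-! # S5694 CHAR2, sub-chapter Q2, piece STEP2 (helper23). -/

namespace Cfsg.Agent.OC2K

open Matrix Cfsg.Agent.Helper28.Sg Cfsg.Agent.Helper28.Spin Cfsg.Agent.Helper12.OrthGen
  Cfsg.Agent.S2614 Cfsg.Agent.S5683P Cfsg.Agent.Helper28.NDM

variable {F : Type*} [Field F] {t k : ℕ} {ι : Type} [Fintype ι] [DecidableEq ι] {Q : QuadraticForm F (ι → F)} [QHyp Q] {D : Fin t → Submodule F (ι → F)}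
  {M : Subgroup (OGq Q)}

theorem Q2.STEP2.main [Fintype F] (hF : Q2.IsF2 F) (hD : HD Q k D) (hk : 4 ≤ k) (hHM : HS D ≤ M)
    (hG1 : ¬ G1 M D) {v : ι → F} (hv : NPV M D v) {c' : Fin t} (hQ' : Q (cmp D c' v) ≠ 0)
    {y : ι → F} (hy : y ∈ Rad M v hv.Qv) :
    ∃ p' ∈ D c', Q p' ≠ 0 ∧ B Q p' v = 0 ∧ B Q p' y = 0 := by
  have ha' : cmp D c' v ∈ D c' := CMP1.mem hD c' v
  have ha'v : B Q (cmp D c' v) v = 0 := by
    rw [← CMP2.B_left hD ha' v]
    exact Q2.B_self_zero hF _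
  obtain ⟨x', hx', hx'0, hQx', hax'⟩ := Q2.NSING.exists hF hD hk ha' hQ'
  have hx'a' : B Q x' (cmp D c' v) = 0 := by rw [B_comm]; exact hax'
  have hx'v : B Q x' v = 0 := by
    rw [← CMP2.B_left hD hx' v]
    exact hx'a'
  by_cases h1 : B Q (cmp D c' v) y = 0
  · exact ⟨cmp D c' v, ha', hQ', ha'v, h1⟩
  by_cases h2 : B Q (cmp D c' v + x') y = 0
  · refine ⟨cmp D c' v + x', (D c').add_mem ha' hx', ?_, ?_, h2⟩
    · rw [Q_add, hQx', hax', add_zero, add_zero]
      exact hQ'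
    · show QuadraticMap.polar ⇑Q (cmp D c' v + x') v = 0
      rw [QuadraticMap.polar_add_left]
      have e1 : QuadraticMap.polar ⇑Q (cmp D c' v) v = 0 := ha'v
      have e2 : QuadraticMap.polar ⇑Q x' v = 0 := hx'v
      rw [e1, e2, add_zero]
  · exfalso
    have e1 : B Q (cmp D c' v) y = 1 := Q2.eq_one hF h1
    have e2 : B Q (cmp D c' v + x') y = 1 := Q2.eq_one hF h2
    have e3 : B Q x' y = 0 := by
      have h : QuadraticMap.polar ⇑Q (cmp D c' v + x') y =
          QuadraticMap.polar ⇑Q (cmp D c' v) y + QuadraticMap.polar ⇑Q x' y :=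
        QuadraticMap.polar_add_left _ _ _ _
      have e1' : QuadraticMap.polar ⇑Q (cmp D c' v) y = 1 := e1
      have e2' : QuadraticMap.polar ⇑Q (cmp D c' v + x') y = 1 := e2
      rw [e2', e1'] at h
      show QuadraticMap.polar ⇑Q x' y = 0
      linear_combination -h
    have hh : siegO Q x' (cmp D c' v) hQx' hx'a' ∈ HS D := SIEGMEM.mem hD hx' ha' hQx' hx'a'
    have hfix : mt Q (siegO Q x' (cmp D c' v) hQx' hx'a') *ᵥ v = v := by
      rw [siegO_mulVec, hx'v, ha'v, zero_smul, zero_smul, mul_zero, zero_smul, add_zero, sub_zero,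
        sub_zero]
    have h3 := GP.one hHM hv.Qv hh hfix hy
    rw [siegO_mulVec, e3, e1] at h3
    have h4 : y + (0 : F) • cmp D c' v - (1 : F) • x' - (Q (cmp D c' v) * 0) • x' - y =
        (-1 : F) • x' := by
      rw [zero_smul, mul_zero, zero_smul, one_smul, neg_one_smul]
      abel
    rw [h4] at h3
    have h5 : (-1 : F) = 0 := GP.smul_zero hD hHM hG1 hv hx' hx'0 hQx' h3
    exact (neg_ne_zero.mpr one_ne_zero) h5

end Cfsg.Agent.OC2K
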