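import Mathlib
import Cfsg.Prelude.Def_GeometricClasses
import Cfsg.Agent.Helper28.OrthSim3
import Cfsg.Agent.Helper8.OS6Defs
import Cfsg.Agent.Helper16.OS6SPADD
import Cfsg.Agent.Helper19.OS6SPSTEP
import Cfsg.Agent.Helper18.OS6SPUNIVC

set_option autoImplicit false

/-! S5798, chapter SPREAD, piece SPSCAL: a nonsingular `z ∈ Phi` has all its multiples in `Phi`. -/

namespace Cfsg.Agent.OS6P

open Matrix Module Cfsg.Agent.Helper28.Sg Cfsg.Agent.Helper28.Spin Cfsg.Agent.Helper28.SLMax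
  Cfsg.Agent.Helper28.SimMax Cfsg.Agent.Helper28.OSim

variable {F : Type*} [Field F] {n : ℕ} {Q : QuadraticForm F (Fin n → F)}

theorem SPSCAL.main [Finite F] (h2 : (2 : F) ≠ 0) (hQ : (QuadraticMap.polarBilin Q).Nondegenerate)
    (hn : 4 ≤ n) {M : Subgroup (Matrix.GeneralLinearGroup (Fin n) F)}
    (hHM : Cfsg.Geo.quadSimilarityGroup (⇑Q) ⊓ SL n F ≤ M) {e z : Fin n → F}
    (he : Q e ≠ 0) (hz : Q z ≠ 0) (hez : B Q e z = 0) (hzΦ : z ∈ Phi Q M e) :
    z ∈ Psi Q M e := by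
  intro a
  by_cases ha : a = 0
  · rw [ha, zero_smul]
    exact SPADD.zero M e
  have h4 : (4 : F) ≠ 0 := by
    have : (4 : F) = 2 * 2 := by norm_num
    rw [this]
    exact mul_ne_zero h2 h2
  obtain ⟨u, heu, hzu, hQu⟩ := SPUNIVC.two h2 hQ hn he hz hez (Q z * (4 - a) / a)
  -- the mirror `y = z + u`
  have hQy : Q (z + u) = 4 * Q z / a := by
    rw [Q_add, hQu, hzu]
    field_simp
    ring
  have hQy0 : Q (z + u) ≠ 0 := by
    rw [hQy]
    exact div_ne_zero (mul_ne_zero h4 hz) ha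
  have hey : B Q e (z + u) = 0 := by
    show QuadraticMap.polar ⇑Q e (z + u) = 0
    rw [QuadraticMap.polar_add_right]
    show B Q e z + B Q e u = 0
    rw [hez, heu, add_zero]
  have hyz : B Q (z + u) z = 2 * Q z := by
    show QuadraticMap.polar ⇑Q (z + u) z = _
    rw [QuadraticMap.polar_add_left]
    show B Q z z + B Q u z = _
    rw [B_self, B_comm Q u z, hzu, add_zero]
  have h1 := SPSTEP.main hHM he hQy0 hey hzΦ
  have h2' := SPSTEP.main hHM he hz hez h1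
  have h3 : B Q z (((Q (z + u))⁻¹ * B Q (z + u) z) • (z + u)) =
      (Q (z + u))⁻¹ * B Q (z + u) z * B Q (z + u) z := by
    show QuadraticMap.polar ⇑Q z (((Q (z + u))⁻¹ * B Q (z + u) z) • (z + u)) = _
    rw [QuadraticMap.polar_smul_right, smul_eq_mul]
    show _ * B Q z (z + u) = _
    rw [B_comm Q z (z + u)]
  rw [h3, hyz, hQy] at h2'
  have h5 : (Q z)⁻¹ * ((4 * Q z / a)⁻¹ * (2 * Q z) * (2 * Q z)) = a := by
    field_simp
    ring
  rwa [h5] at h2'

end Cfsg.Agent.OS6P
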