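import Mathlib

/-!
Conjugacy classes of size prime to `p`: they are the classes meeting `C_G(P)` for a Sylow
`p`-subgroup `P`.  When `N_G(P) = C_G(P)`, they are in bijection with the classes of `N_G(P)`.
-/

set_option autoImplicit false
set_option linter.unusedSectionVars false
set_option linter.unusedVariables false

namespace Cfsg.Agent.Helper23.PPC

open Subgroup

open scoped Pointwise

universe u

variable {G : Type u} [Group G] [Finite G]

/-- Class size times centralizer order is the group order. -/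
theorem card_carrier_mul_card_centralizer (c : G) :
    Nat.card (ConjClasses.mk c).carrier * Nat.card (Subgroup.centralizer ({c} : Set G)) =
      Nat.card G := by
  have h1 : Nat.card (MulAction.orbit (ConjAct G) c) *
      Nat.card (MulAction.stabilizer (ConjAct G) c) = Nat.card (ConjAct G) := by
    rw [← Nat.card_prod, Nat.card_congr (MulAction.orbitProdStabilizerEquivGroup (ConjAct G) c)]
  have h2 : Nat.card (MulAction.orbit (ConjAct G) c) = Nat.card (ConjClasses.mk c).carrier := by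
    apply Nat.card_congr
    apply Equiv.subtypeEquivRight
    intro y
    rw [ConjAct.mem_orbit_conjAct, ConjClasses.mem_carrier_iff_mk_eq,
      ConjClasses.mk_eq_mk_iff_isConj]
  have h3 : Nat.card (ConjAct G) = Nat.card G := rfl
  rw [← h2, Subgroup.nat_card_centralizer_nat_card_stabilizer, h1, h3]

variable (p : ℕ) [hp : Fact p.Prime]

/-- Elements centralizing a Sylow `p`-subgroup have class size prime to `p`. -/
theorem not_dvd_card_carrier_of_mem_centralizer (P : Sylow p G) {x : G}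
    (hx : x ∈ Subgroup.centralizer ((P : Subgroup G) : Set G)) :
    ¬ p ∣ Nat.card (ConjClasses.mk x).carrier := by
  intro hdvd
  have h1 := card_carrier_mul_card_centralizer x
  have hPle : (P : Subgroup G) ≤ Subgroup.centralizer ({x} : Set G) := by
    intro y hy
    rw [Subgroup.mem_centralizer_iff]
    intro z hz
    rw [Set.mem_singleton_iff] at hz
    subst hz
    exact (Subgroup.mem_centralizer_iff.mp hx y hy).symm
  have h2 : Nat.card (P : Subgroup G) ∣ Nat.card (Subgroup.centralizer ({x} : Set G)) :=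
    Subgroup.card_dvd_of_le hPle
  have h3 : p * Nat.card (P : Subgroup G) ∣ Nat.card G := by
    rw [← h1]
    exact Nat.mul_dvd_mul hdvd h2
  have h4 := P.card_eq_multiplicity
  rw [h4, ← pow_succ'] at h3
  exact Nat.pow_succ_factorization_not_dvd Nat.card_pos.ne' hp.out h3

/-- A class of size prime to `p` meets the centralizer of any Sylow `p`-subgroup. -/
theorem exists_conj_mem_centralizer (P : Sylow p G) (c : G)
    (hc : ¬ p ∣ Nat.card (ConjClasses.mk c).carrier) :
    ∃ g : G, g * c * g⁻¹ ∈ Subgroup.centralizer ((P : Subgroup G) : Set G) := by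
  obtain ⟨C, hC⟩ : ∃ C : Subgroup G, C = Subgroup.centralizer ({c} : Set G) := ⟨_, rfl⟩
  have h1 := card_carrier_mul_card_centralizer c
  rw [← hC] at h1
  obtain ⟨n, hn⟩ : ∃ n : ℕ, n = (Nat.card G).factorization p := ⟨_, rfl⟩
  have h5 : p ^ n ∣ Nat.card C := by
    have h6 : p ^ n ∣ Nat.card G := hn ▸ Nat.ordProj_dvd _ _
    rw [← h1] at h6
    exact (Nat.Coprime.pow_left n
      ((Nat.Prime.coprime_iff_not_dvd hp.out).mpr hc)).dvd_of_dvd_mul_left h6
  obtain ⟨Q, hQ⟩ := Sylow.exists_subgroup_card_pow_prime p h5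
  obtain ⟨Q', hQ'⟩ : ∃ Q' : Subgroup G, Q' = Q.map C.subtype := ⟨_, rfl⟩
  have hQ'card : Nat.card Q' = p ^ n := by
    rw [hQ', Subgroup.card_map_of_injective C.subtype_injective, hQ]
  have hQ'C : Q' ≤ C := hQ' ▸ map_subtype_le _
  have hQ'p : IsPGroup p Q' := IsPGroup.of_card hQ'card
  obtain ⟨S, hS⟩ := hQ'p.exists_le_sylow
  have hSQ : Q' = (S : Subgroup G) := by
    apply Subgroup.eq_of_le_of_card_ge hS
    rw [hQ'card, S.card_eq_multiplicity, hn]
  obtain ⟨g, hg⟩ := MulAction.exists_smul_eq G S P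
  refine ⟨g, ?_⟩
  rw [Subgroup.mem_centralizer_iff]
  intro y hy
  have hy' : y ∈ ((g • S : Sylow p G) : Subgroup G) := by rw [hg]; exact hy
  have hcoe : ((g • S : Sylow p G) : Subgroup G) = MulAut.conj g • (S : Subgroup G) := rfl
  rw [hcoe, Subgroup.mem_smul_pointwise_iff_exists] at hy'
  obtain ⟨s, hs, rfl⟩ := hy'
  have hsC : s ∈ Subgroup.centralizer ({c} : Set G) := by
    rw [← hC]
    exact hQ'C (hSQ ▸ hs)
  have hcomm : c * s = s * c := Subgroup.mem_centralizer_iff.mp hsC c rfl
  show g * s * g⁻¹ * (g * c * g⁻¹) = g * c * g⁻¹ * (g * s * g⁻¹)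
  calc g * s * g⁻¹ * (g * c * g⁻¹) = g * (s * c) * g⁻¹ := by group
    _ = g * (c * s) * g⁻¹ := by rw [hcomm]
    _ = g * c * g⁻¹ * (g * s * g⁻¹) := by group

/-- If `N_G(P) ≤ C_G(P)`, the classes of `N_G(P)` correspond to the classes of `G` of size prime
to `p`. -/
theorem card_conjClasses_normalizer (P : Sylow p G)
    (hNC : Subgroup.normalizer ((P : Subgroup G) : Set G) ≤
      Subgroup.centralizer ((P : Subgroup G) : Set G)) :
    Nat.card (ConjClasses (Subgroup.normalizer ((P : Subgroup G) : Set G))) =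
      Nat.card {K : ConjClasses G // ¬ p ∣ Nat.card K.carrier} := by
  obtain ⟨M, hM⟩ : ∃ M : Subgroup G, M = Subgroup.normalizer ((P : Subgroup G) : Set G) :=
    ⟨_, rfl⟩
  rw [← hM] at hNC ⊢
  have hwd : ∀ K : ConjClasses M, ¬ p ∣ Nat.card (ConjClasses.map M.subtype K).carrier := by
    intro K
    obtain ⟨x, rfl⟩ := ConjClasses.mk_surjective K
    exact not_dvd_card_carrier_of_mem_centralizer p P (hNC x.2)
  let f : ConjClasses M → {K : ConjClasses G // ¬ p ∣ Nat.card K.carrier} := fun K =>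
    ⟨ConjClasses.map M.subtype K, hwd K⟩
  refine Nat.card_congr (Equiv.ofBijective f ⟨?_, ?_⟩)
  · intro K₁ K₂ h
    obtain ⟨x, rfl⟩ := ConjClasses.mk_surjective K₁
    obtain ⟨y, rfl⟩ := ConjClasses.mk_surjective K₂
    have h1 : ConjClasses.mk (x : G) = ConjClasses.mk (y : G) := congrArg Subtype.val h
    rw [ConjClasses.mk_eq_mk_iff_isConj, isConj_iff] at h1
    obtain ⟨g, hg⟩ := h1
    have hxC : (x : G) ∈ Subgroup.centralizer ((P : Subgroup G) : Set G) := hNC x.2
    have hyC : g⁻¹⁻¹ * (x : G) * g⁻¹ ∈ Subgroup.centralizer ((P : Subgroup G) : Set G) := by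
      rw [inv_inv, hg]
      exact hNC y.2
    obtain ⟨n, hn, hnx⟩ := P.conj_eq_normalizer_conj_of_mem_centralizer (x : G) g⁻¹ hxC hyC
    rw [inv_inv, hg] at hnx
    rw [ConjClasses.mk_eq_mk_iff_isConj, isConj_iff]
    have hnM : n⁻¹ ∈ M := by rw [hM]; exact Subgroup.inv_mem _ hn
    refine ⟨⟨n⁻¹, hnM⟩, ?_⟩
    apply Subtype.ext
    show n⁻¹ * (x : G) * n⁻¹⁻¹ = (y : G)
    rw [inv_inv, hnx]
  · rintro ⟨K, hK⟩
    obtain ⟨c, rfl⟩ := ConjClasses.mk_surjective K
    obtain ⟨g, hg⟩ := exists_conj_mem_centralizer p P c hK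
    have hgM : g * c * g⁻¹ ∈ M := by
      rw [hM]
      exact Subgroup.centralizer_le_normalizer _ hg
    refine ⟨ConjClasses.mk ⟨g * c * g⁻¹, hgM⟩, ?_⟩
    apply Subtype.ext
    show ConjClasses.mk (g * c * g⁻¹) = ConjClasses.mk c
    rw [ConjClasses.mk_eq_mk_iff_isConj, isConj_iff]
    exact ⟨g⁻¹, by group⟩

end Cfsg.Agent.Helper23.PPC
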