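import Mathlib
import Cfsg.Prelude.Def_Characters
import Cfsg.Agent.Helper24.McKayCoprime
import Cfsg.Agent.Helper24.CoprimeDegCount
import Cfsg.Agent.Helper24.ColumnOrth
import Cfsg.Agent.Helper24.Abelian
import Cfsg.Agent.Helper24.Gallagher
import Cfsg.Agent.Helper24.DegreeRatio
import Cfsg.Agent.Helper24.OddIndexReal
import Cfsg.Agent.Helper24.SmallDegree
import Cfsg.Agent.Helper12.McKayGeneral
import Cfsg.Agent.Helper23.PPrimeClasses

/-!
A non-nilpotent group with a normal `p`-complement and exactly one irreducible character of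
degree divisible by `p` has exactly one conjugacy class of size divisible by `p`.
-/

set_option autoImplicit false
set_option linter.unusedSectionVars false
set_option linter.unusedVariables false
set_option linter.style.haveILetI false

namespace Cfsg.Agent.Helper23.OCD

open Cfsg Subgroup Cfsg.Agent.Helper24

universe u

variable {G : Type u} [Group G] [Finite G] (p : ℕ) [hp : Fact p.Prime]

/-- Degree as a natural number. -/
theorem charDegree_eq (χ : IrrCharacter G) : charDegree (χ : G → ℂ) = irrDeg χ :=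
  Cfsg.Agent.Helper12.charDegree_eq_irrDeg χ

/-- Uniqueness from the counting hypothesis. -/
theorem eq_of_card_eq_one
    (hone : Nat.card {χ : IrrCharacter G // p ∣ charDegree (χ : G → ℂ)} = 1)
    (χ ψ : IrrCharacter G) (h1 : p ∣ charDegree (χ : G → ℂ)) (h2 : p ∣ charDegree (ψ : G → ℂ)) :
    χ = ψ := by
  haveI : Subsingleton {χ : IrrCharacter G // p ∣ charDegree (χ : G → ℂ)} :=
    (Nat.card_eq_one_iff_unique.mp hone).1
  exact congrArg Subtype.val (Subsingleton.elim (⟨χ, h1⟩ : {χ : IrrCharacter G //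
    p ∣ charDegree (χ : G → ℂ)}) ⟨ψ, h2⟩)

/-- The quotient by the normal `p`-complement is commutative. -/
theorem quotient_comm (hnil : ¬ Group.IsNilpotent G) (N : Subgroup G) [hNn : N.Normal]
    (hN : (Nat.card N).Coprime p) (k : ℕ) (hidx : N.index = p ^ k)
    (hone : Nat.card {χ : IrrCharacter G // p ∣ charDegree (χ : G → ℂ)} = 1) :
    ∀ a b : G ⧸ N, a * b = b * a := by
  classical
  haveI : Fintype G := Fintype.ofFinite G
  haveI : Fintype N := Fintype.ofFinite N
  rw [comm_iff_forall_irr_one]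
  by_contra hcon
  push Not at hcon
  obtain ⟨β, hβ⟩ := hcon
  -- degree of β is divisible by p
  have hβdeg : irrDeg β ≠ 1 := fun h => hβ ((irrDeg_eq_one_iff β).mp h)
  have hβdvd : irrDeg β ∣ p ^ k := by
    have := irrDeg_dvd_card β
    rwa [← Subgroup.index_eq_card, hidx] at this
  have hpβ : p ∣ irrDeg β := by
    obtain ⟨j, hj, hj'⟩ := (Nat.dvd_prime_pow hp.out).mp hβdvd
    rw [hj']
    rcases Nat.eq_zero_or_pos j with h0 | h0
    · exfalso; apply hβdeg; rw [hj', h0, pow_zero]
    · exact dvd_pow_self p h0.ne'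
  -- the inflation χ₁
  have hχ₁one : ((irrInflate N β : IrrCharacter G) : G → ℂ) 1 = (irrDeg β : ℂ) := by
    show (β : G ⧸ N → ℂ) (QuotientGroup.mk 1) = _
    rw [QuotientGroup.mk_one, irrDeg_spec]
  have hχ₁deg : charDegree ((irrInflate N β : IrrCharacter G) : G → ℂ) = irrDeg β :=
    Cfsg.Agent.Helper12.charDegree_of_natCast hχ₁one
  have hχ₁p : p ∣ charDegree ((irrInflate N β : IrrCharacter G) : G → ℂ) := hχ₁deg ▸ hpβ
  -- N is nontrivial
  have hNne : N ≠ ⊥ := by
    intro hbot
    apply hnil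
    have hcard : Nat.card G = p ^ k := by
      rw [← Subgroup.card_mul_index N, hbot, Subgroup.card_bot, one_mul, ← hbot, hidx]
    exact (IsPGroup.of_card hcard).isNilpotent
  obtain ⟨⟨n, hnN⟩, hn1'⟩ := (Subgroup.ne_bot_iff_exists_ne_one.mp hNne)
  have hn1 : n ≠ 1 := fun h => hn1' (Subtype.ext h)
  have hnconj : ¬ IsConj n 1 := by
    intro h
    exact hn1 (isConj_one_right.mp h.symm)
  haveI : Fintype (IrrCharacter G) := Fintype.ofFinite _
  rw [isConj_iff_forall_irr] at hnconj
  push Not at hnconj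
  obtain ⟨χ, hχn⟩ := hnconj
  by_cases hpχ : p ∣ charDegree (χ : G → ℂ)
  · -- χ = χ₁, which is constant on N
    have heq : χ = irrInflate N β := eq_of_card_eq_one p hone χ _ hpχ hχ₁p
    apply hχn
    rw [heq]
    show (β : G ⧸ N → ℂ) (QuotientGroup.mk n) = (β : G ⧸ N → ℂ) (QuotientGroup.mk 1)
    rw [(QuotientGroup.eq_one_iff n).mpr hnN, QuotientGroup.mk_one]
  · -- χ restricts irreducibly to N
    obtain ⟨θ, hθ⟩ := exists_constituent_restrict (N := N) χ
    obtain ⟨e, he, hedvd⟩ := degree_ratio_dvd_index N (χ : G → ℂ) χ.2 (θ : N → ℂ) θ.2 hθ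
    have hdegnat : irrDeg χ = e * irrDeg θ := by
      have h1 : ((irrDeg χ : ℕ) : ℂ) = ((e * irrDeg θ : ℕ) : ℂ) := by
        rw [← irrDeg_spec χ, he, irrDeg_spec θ]
        push_cast
        rfl
      exact_mod_cast h1
    have he1 : e = 1 := by
      rw [hidx] at hedvd
      obtain ⟨j, hj, hj'⟩ := (Nat.dvd_prime_pow hp.out).mp hedvd
      rcases Nat.eq_zero_or_pos j with h0 | h0
      · rw [hj', h0, pow_zero]
      · exfalso
        apply hpχ
        rw [charDegree_eq, hdegnat, hj']
        exact Dvd.dvd.mul_right (dvd_pow_self p h0.ne') _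
    have hdeg1 : (χ : G → ℂ) 1 = (θ : N → ℂ) 1 := by
      rw [he, he1]
      simp
    have hres := restrict_eq_of_degree_eq N χ θ hθ hdeg1
    have hχN : IsIrrCharacter N (fun n : N => (χ : G → ℂ) n) := by
      rw [hres]
      exact θ.2
    have hψirr := isIrrCharacter_gallagherTwist N χ hχN β
    obtain ⟨ψ, hψ⟩ : ∃ ψ : IrrCharacter G, (ψ : G → ℂ) = gallagherTwist N χ β :=
      ⟨⟨_, hψirr⟩, rfl⟩
    have hψone : (ψ : G → ℂ) 1 = ((irrDeg β * irrDeg χ : ℕ) : ℂ) := by
      rw [hψ]
      show (β : G ⧸ N → ℂ) ((1 : G) : G ⧸ N) * (χ : G → ℂ) 1 = _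
      rw [QuotientGroup.mk_one, irrDeg_spec, irrDeg_spec]
      push_cast
      rfl
    have hψp : p ∣ charDegree (ψ : G → ℂ) := by
      rw [Cfsg.Agent.Helper12.charDegree_of_natCast hψone]
      exact Dvd.dvd.mul_right hpβ _
    have heq : ψ = irrInflate N β := eq_of_card_eq_one p hone ψ _ hψp hχ₁p
    have hval : ∀ g : G, (β : G ⧸ N → ℂ) (g : G ⧸ N) * (χ : G → ℂ) g =
        (β : G ⧸ N → ℂ) (g : G ⧸ N) := by
      intro g
      have h1 : (ψ : G → ℂ) g = ((irrInflate N β : IrrCharacter G) : G → ℂ) g := by rw [heq]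
      rw [hψ] at h1
      exact h1
    have hβne : (β : G ⧸ N → ℂ) 1 ≠ 0 := by
      rw [irrDeg_spec]
      exact_mod_cast (irrDeg_pos β).ne'
    have hv1 := hval 1
    have hvn := hval n
    rw [(QuotientGroup.eq_one_iff n).mpr hnN] at hvn
    rw [QuotientGroup.mk_one] at hv1
    have h1 : (χ : G → ℂ) 1 = 1 := by
      have := mul_left_cancel₀ hβne (hv1.trans (mul_one _).symm)
      exact this
    have h2 : (χ : G → ℂ) n = 1 := by
      have := mul_left_cancel₀ hβne (hvn.trans (mul_one _).symm)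
      exact this
    exact hχn (h2.trans h1.symm)

/-- **Main theorem** (statement S4763). -/
theorem card_classes_dvd_eq_one (hnil : ¬ Group.IsNilpotent G) (N : Subgroup G) [hNn : N.Normal]
    (hN : (Nat.card N).Coprime p) (hidx : ∃ k : ℕ, N.index = p ^ k)
    (hone : Nat.card {χ : IrrCharacter G // p ∣ charDegree (χ : G → ℂ)} = 1) :
    Nat.card {C : ConjClasses G // p ∣ Nat.card C.carrier} = 1 := by
  classical
  obtain ⟨k, hk⟩ := hidx
  have hcomm := quotient_comm p hnil N hN k hk hone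
  have hcardG : Nat.card G = Nat.card N * p ^ k := by rw [← hk, Subgroup.card_mul_index]
  -- k ≥ 1
  have hk1 : k ≠ 0 := by
    rintro rfl
    rw [pow_zero, mul_one] at hcardG
    have hne : Nonempty {χ : IrrCharacter G // p ∣ charDegree (χ : G → ℂ)} := by
      have h0 : Nat.card {χ : IrrCharacter G // p ∣ charDegree (χ : G → ℂ)} ≠ 0 := by
        rw [hone]; exact one_ne_zero
      exact (Nat.card_ne_zero.mp h0).1
    obtain ⟨χ, hχ⟩ := hne
    rw [charDegree_eq] at hχ
    have h1 := hχ.trans (irrDeg_dvd_card χ)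
    rw [hcardG] at h1
    exact (Nat.Prime.coprime_iff_not_dvd hp.out).mp hN.symm h1
  obtain ⟨P⟩ : Nonempty (Sylow p G) := inferInstance
  obtain ⟨m, hm⟩ := IsPGroup.iff_card.mp P.isPGroup'
  have hkm : p ^ k ∣ Nat.card (P : Subgroup G) :=
    P.pow_dvd_card_of_pow_dvd_card (by rw [hcardG]; exact dvd_mul_left _ _)
  have hm1 : m ≠ 0 := by
    rintro rfl
    rw [hm, pow_zero, Nat.dvd_one] at hkm
    have h1 : 1 < p ^ k := Nat.one_lt_pow hk1 hp.out.one_lt
    omega
  have hcop : (Nat.card N).Coprime (Nat.card (P : Subgroup G)) := by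
    rw [hm]; exact Nat.Coprime.pow_right m hN
  have hdisj : N ⊓ (P : Subgroup G) = ⊥ :=
    disjoint_iff.mp (Subgroup.disjoint_of_coprime_natCard hcop)
  have hsup : N ⊔ (P : Subgroup G) = ⊤ := by
    apply Subgroup.eq_top_of_le_card
    rw [hcardG]
    apply Nat.le_of_dvd Nat.card_pos
    apply Nat.Coprime.mul_dvd_of_dvd_of_dvd (Nat.Coprime.pow_right k hN)
    · exact Subgroup.card_dvd_of_le le_sup_left
    · exact hkm.trans (Subgroup.card_dvd_of_le le_sup_right)
  -- P is abelian
  have hPab : ∀ a ∈ (P : Subgroup G), ∀ b ∈ (P : Subgroup G), a * b = b * a := by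
    intro a ha b hb
    have h1 : a * b * a⁻¹ * b⁻¹ ∈ N := by
      rw [← QuotientGroup.eq_one_iff]
      have h2 : ((a * b * a⁻¹ * b⁻¹ : G) : G ⧸ N) =
          (a : G ⧸ N) * (b : G ⧸ N) * (a : G ⧸ N)⁻¹ * (b : G ⧸ N)⁻¹ := rfl
      rw [h2, hcomm (a : G ⧸ N) (b : G ⧸ N)]
      group
    have h2 : a * b * a⁻¹ * b⁻¹ ∈ (P : Subgroup G) :=
      mul_mem (mul_mem (mul_mem ha hb) (inv_mem ha)) (inv_mem hb)
    have h3 : a * b * a⁻¹ * b⁻¹ ∈ N ⊓ (P : Subgroup G) := ⟨h1, h2⟩
    rw [hdisj, Subgroup.mem_bot] at h3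
    calc a * b = a * b * a⁻¹ * b⁻¹ * (b * a) := by group
      _ = b * a := by rw [h3, one_mul]
  -- the normalizer centralizes P
  have hNC : normalizer ((P : Subgroup G) : Set G) ≤ centralizer ((P : Subgroup G) : Set G) := by
    intro g hg
    obtain ⟨n, hn, h, hh, rfl⟩ := exists_mul_of_sup_eq_top N (P : Subgroup G) hsup g
    have hnN : n ∈ normalizer ((P : Subgroup G) : Set G) := by
      have h1 : n = n * h * h⁻¹ := by group
      rw [h1]
      exact mul_mem hg (inv_mem (le_normalizer hh))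
    rw [mem_centralizer_iff]
    intro x hx
    have h1 : n * x = x * n :=
      commute_of_mem_normalizer_of_disjoint N (P : Subgroup G) hdisj hn hnN hx
    have h2 : h * x = x * h := hPab h hh x hx
    calc x * (n * h) = (x * n) * h := by group
      _ = n * x * h := by rw [h1]
      _ = n * (x * h) := by group
      _ = n * (h * x) := by rw [h2]
      _ = n * h * x := by group
  -- characters of the normalizer have degree prime to p
  obtain ⟨M, hM⟩ : ∃ M : Subgroup G, M = normalizer ((P : Subgroup G) : Set G) := ⟨_, rfl⟩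
  have hPM : (P : Subgroup G) ≤ M := hM ▸ le_normalizer
  have hMdeg : ∀ η : IrrCharacter M, ¬ p ∣ charDegree (η : M → ℂ) := by
    intro η hη
    haveI : ((P : Subgroup G).subgroupOf M).Normal := by
      rw [hM]; exact Subgroup.normal_in_normalizer
    have hab : ∀ a ∈ (P : Subgroup G).subgroupOf M, ∀ b ∈ (P : Subgroup G).subgroupOf M,
        a * b = b * a := by
      intro a ha b hb
      apply Subtype.ext
      exact hPab a (Subgroup.mem_subgroupOf.mp ha) b (Subgroup.mem_subgroupOf.mp hb)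
    have h1 := Cfsg.Agent.Helper12.charDegree_dvd_index ((P : Subgroup G).subgroupOf M) hab η
    have h2 : ((P : Subgroup G).subgroupOf M).index ∣ (P : Subgroup G).index :=
      Dvd.intro _ (Subgroup.relIndex_mul_index hPM)
    exact P.not_dvd_index (hη.trans (h1.trans h2))
  -- the coprime McKay count
  haveI : Group.IsNilpotent (P : Subgroup G) := P.isPGroup'.isNilpotent
  have hMcK := card_irr_coprime_eq_normalizer N (P : Subgroup G) hsup hcop inferInstance
  rw [← hM] at hMcK
  have hcoprime_iff : ∀ d : ℕ, d.Coprime (Nat.card (P : Subgroup G)) ↔ ¬ p ∣ d := by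
    intro d
    rw [hm, Nat.coprime_pow_right_iff (Nat.pos_of_ne_zero hm1), Nat.coprime_comm,
      Nat.Prime.coprime_iff_not_dvd hp.out]
  have h1 : Nat.card {χ : IrrCharacter G // ¬ p ∣ charDegree (χ : G → ℂ)} =
      Nat.card {K : ConjClasses G // ¬ p ∣ Nat.card K.carrier} := by
    rw [← Nat.card_congr (Equiv.subtypeEquivRight
      (fun χ : IrrCharacter G => hcoprime_iff (charDegree (χ : G → ℂ)))), hMcK,
      Nat.card_congr ((Equiv.subtypeEquivRight
        (fun η : IrrCharacter M => hcoprime_iff (charDegree (η : M → ℂ)))).trans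
          (Equiv.subtypeUnivEquiv hMdeg)),
      card_irr_eq_card_conjClasses, hM]
    exact Cfsg.Agent.Helper23.PPC.card_conjClasses_normalizer p P hNC
  have h2 : Nat.card {χ : IrrCharacter G // p ∣ charDegree (χ : G → ℂ)} +
      Nat.card {χ : IrrCharacter G // ¬ p ∣ charDegree (χ : G → ℂ)} =
        Nat.card (IrrCharacter G) := by
    rw [← Nat.card_sum]
    exact Nat.card_congr (Equiv.sumCompl (fun χ : IrrCharacter G => p ∣ charDegree (χ : G → ℂ)))
  have h3 : Nat.card {K : ConjClasses G // p ∣ Nat.card K.carrier} +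
      Nat.card {K : ConjClasses G // ¬ p ∣ Nat.card K.carrier} = Nat.card (ConjClasses G) := by
    rw [← Nat.card_sum]
    exact Nat.card_congr (Equiv.sumCompl (fun K : ConjClasses G => p ∣ Nat.card K.carrier))
  have h4 := card_irr_eq_card_conjClasses (G := G)
  omega

end Cfsg.Agent.Helper23.OCD
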