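import Mathlib
import Cfsg.Prelude.Def_Blocks
import Cfsg.Prelude.Def_BlockLocal
import Cfsg.Agent.Helper23.HKC
import Cfsg.Agent.Helper23.NormalPIndex
import Cfsg.Agent.Helper5.BlockDegSq
import Cfsg.Agent.S0966
import Cfsg.Agent.S0964
import Cfsg.Agent.S0963

set_option autoImplicit false
set_option linter.unusedSectionVars false
set_option linter.unusedVariables false
set_option linter.style.haveILetI false
set_option linter.unnecessarySimpa false
set_option linter.unusedSimpArgs false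

/-!
# Stabilizers of blocks of a normal subgroup of `p`-power index
-/

namespace Cfsg.Agent.Helper23.PS

open Cfsg Cfsg.Agent.Helper24 Cfsg.Agent.Helper5 Cfsg.Agent.Helper5.Loc Cfsg.Agent.Helper5.CC
open Cfsg.Agent.Helper23.NS Cfsg.Agent.Helper23 Cfsg.Agent.Helper14 Cfsg.Agent.Helper23.BT
open Cfsg.Agent.Helper23.SB Cfsg.Agent.Helper23.MP Cfsg.Agent.Helper23.BC
open Cfsg.Agent.Helper23.IC Cfsg.Agent.Helper23.KN Cfsg.Agent.Helper23.HK Cfsg.Agent.Helper5.BDS

section Action

variable {G : Type*} [Group G] (N : Subgroup G) [hN : N.Normal]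

theorem pullBlock_cjN_mul (x y : G) (b : Set (IrrCharacter N)) :
    pullBlock (cjN N x) (pullBlock (cjN N y) b) = pullBlock (cjN N (y * x)) b := by
  rw [pullBlock_trans]
  congr 1
  apply MulEquiv.ext
  intro n
  apply Subtype.ext
  simp [cjN, MulAut.conjNormal_apply, mul_assoc]

theorem pullIrr_cjN_of_mem (n : N) (η : IrrCharacter N) : pullIrr (cjN N (n : G)) η = η := by
  rw [← conjIrr_eq_pullIrr, conjIrr_of_mem]

theorem pullBlock_cjN_of_mem (n : N) (b : Set (IrrCharacter N)) :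
    pullBlock (cjN N (n : G)) b = b := by
  ext ξ
  rw [mem_pullBlock_iff]
  have h1 : pullIrr (cjN N (n : G)) (pullIrr (cjN N (n : G)).symm ξ) = ξ := pullIrr_pullIrr_symm _ ξ
  rw [pullIrr_cjN_of_mem] at h1
  rw [h1]

theorem pullBlock_cjN_one (b : Set (IrrCharacter N)) : pullBlock (cjN N (1 : G)) b = b :=
  pullBlock_cjN_of_mem N (1 : N) b

/-- The stabilizer of a set of irreducible characters of `N`. -/
def stab (c : Set (IrrCharacter N)) : Subgroup G where
  carrier := {x | pullBlock (cjN N x) c = c}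
  mul_mem' := by
    intro a b ha hb
    show pullBlock (cjN N (a * b)) c = c
    rw [← pullBlock_cjN_mul, show pullBlock (cjN N a) c = c from ha]
    exact hb
  one_mem' := pullBlock_cjN_one N c
  inv_mem' := by
    intro a ha
    show pullBlock (cjN N a⁻¹) c = c
    have h1 : pullBlock (cjN N a⁻¹) (pullBlock (cjN N a) c) = c := by
      rw [pullBlock_cjN_mul, mul_inv_cancel, pullBlock_cjN_one]
    rw [show pullBlock (cjN N a) c = c from ha] at h1
    exact h1

theorem mem_stab (c : Set (IrrCharacter N)) (x : G) :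
    x ∈ stab N c ↔ pullBlock (cjN N x) c = c := Iff.rfl

theorem le_stab (c : Set (IrrCharacter N)) : N ≤ stab N c := fun n hn =>
  pullBlock_cjN_of_mem N ⟨n, hn⟩ c

theorem conj_eq_iff (c : Set (IrrCharacter N)) (l l₀ : G) :
    pullBlock (cjN N l) c = pullBlock (cjN N l₀) c ↔ l * l₀⁻¹ ∈ stab N c := by
  rw [mem_stab, ← pullBlock_cjN_mul]
  constructor
  · intro h
    rw [h, pullBlock_cjN_mul, mul_inv_cancel, pullBlock_cjN_one]
  · intro h
    have h2 := congrArg (pullBlock (cjN N l₀)) h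
    rw [pullBlock_cjN_mul, pullBlock_cjN_mul, inv_mul_cancel, mul_one] at h2
    exact h2

end Action


section Count

variable {G : Type*} [Group G] [Fintype G] (N : Subgroup G) [hN : N.Normal] [Fintype N]
  {M : Ideal AlgInt}

omit [Fintype G] [Fintype N] in
theorem mem_conjUnion_iff (c : Set (IrrCharacter N)) (θ : IrrCharacter N) :
    θ ∈ conjUnion N c ↔ ∃ l : G, θ ∈ pullBlock (cjN N l) c := by
  constructor
  · rintro ⟨x, η, hη, rfl⟩
    refine ⟨x, ?_⟩
    rw [conjIrr_eq_pullIrr, pullIrr_mem_pullBlock_iff]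
    exact hη
  · rintro ⟨l, hl⟩
    rw [mem_pullBlock_iff] at hl
    refine ⟨l, _, hl, ?_⟩
    rw [conjIrr_eq_pullIrr, pullIrr_pullIrr_symm]

omit [Fintype N] in
/-- The number of conjugates of the block `c` containing a given member of the orbit union is
the order of the stabilizer. -/
theorem card_filter_mem (hMp : M.IsPrime) (c : Set (IrrCharacter N)) (hc : IsPBlock M c)
    (θ : IrrCharacter N) (hθ : θ ∈ conjUnion N c)
    [DecidablePred (fun l : G => θ ∈ pullBlock (cjN N l) c)] :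
    (Finset.univ.filter (fun l : G => θ ∈ pullBlock (cjN N l) c)).card =
      Nat.card (stab N c) := by
  classical
  obtain ⟨l₀, hl₀⟩ := (mem_conjUnion_iff N c θ).mp hθ
  have hiff : ∀ l : G, θ ∈ pullBlock (cjN N l) c ↔ l * l₀⁻¹ ∈ stab N c := by
    intro l
    rw [← conj_eq_iff]
    constructor
    · intro hl
      rw [IsPBlock_eq_blockOf hMp (isPBlock_pullBlock (cjN N l) hc) hl,
        IsPBlock_eq_blockOf hMp (isPBlock_pullBlock (cjN N l₀) hc) hl₀]
    · intro h
      rw [h]; exact hl₀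
  rw [← Fintype.card_subtype, ← Nat.card_eq_fintype_card]
  apply Nat.card_congr
  exact {
    toFun := fun l => ⟨(l : G) * l₀⁻¹, (hiff l).mp l.2⟩
    invFun := fun s => ⟨(s : G) * l₀, (hiff _).mpr (by simpa using s.2)⟩
    left_inv := fun l => Subtype.ext (by simp)
    right_inv := fun s => Subtype.ext (by simp) }

/-- The sum of the idempotents of all conjugates of `c`. -/
theorem sum_blockCoeff_conj (hMp : M.IsPrime) (c : Set (IrrCharacter N)) (hc : IsPBlock M c) :
    ∑ l : G, blockCoeff (pullBlock (cjN N l) c) =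
      (Nat.card (stab N c) : ℂ) • blockCoeff (conjUnion N c) := by
  classical
  haveI : Fintype (IrrCharacter N) := Fintype.ofFinite _
  apply NS.eq_of_act_eq
  · exact isClassFunction_sum _ _ (fun l _ => isClassFunction_blockCoeff _)
  · exact isClassFunction_smul _ (isClassFunction_blockCoeff _)
  intro θ
  rw [act_sum, act_smul, act_blockCoeff]
  simp_rw [act_blockCoeff]
  by_cases hθ : θ ∈ conjUnion N c
  · rw [if_pos hθ, mul_one, Finset.sum_boole, card_filter_mem N hMp c hc θ hθ]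
  · rw [if_neg hθ, mul_zero]
    apply Finset.sum_eq_zero
    intro l _
    rw [if_neg]
    intro hl
    exact hθ ((mem_conjUnion_iff N c θ).mpr ⟨l, hl⟩)

/-- Evaluation at `1`. -/
theorem card_mul_blockCoeff_one (hMp : M.IsPrime) (c : Set (IrrCharacter N)) (hc : IsPBlock M c) :
    (Nat.card G : ℂ) * blockCoeff c 1 =
      (Nat.card (stab N c) : ℂ) * blockCoeff (conjUnion N c) 1 := by
  classical
  have h := congrFun (sum_blockCoeff_conj N hMp c hc) 1
  rw [Finset.sum_apply, Pi.smul_apply, smul_eq_mul] at h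
  rw [← h]
  have : ∀ l : G, blockCoeff (pullBlock (cjN N l) c) 1 = blockCoeff c 1 := by
    intro l
    rw [blockCoeff_pullBlock, map_one]
  simp_rw [this]
  rw [Finset.sum_const, Finset.card_univ, nsmul_eq_mul, Nat.card_eq_fintype_card]

end Count


section PIndex

variable {G : Type*} [Group G] [Fintype G] (N : Subgroup G) [hN : N.Normal] [Fintype N]
  {M : Ideal AlgInt} {p : ℕ} [Fact p.Prime]

/-- The unique block over a block `c` of a normal subgroup of `p`-power index has the idempotent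
of the orbit union of `c`. -/
theorem exists_block_eq_cut_union (hM : IsPModular p M) (hidx : ∃ k : ℕ, N.index = p ^ k)
    (c : Set (IrrCharacter N)) (hc : IsPBlock M c) :
    ∃ B : Set (IrrCharacter G), IsPBlock M B ∧
      (∃ χ ∈ B, ∃ θ ∈ c, classInner (fun n : N => (χ : G → ℂ) n) (θ : N → ℂ) ≠ 0) ∧
      blockCoeff B = cutCoeff N (conjUnion N c) ∧
      ∀ B' : Set (IrrCharacter G), IsPBlock M B' →
        (∃ χ ∈ B', ∃ θ ∈ c, classInner (fun n : N => (χ : G → ℂ) n) (θ : N → ℂ) ≠ 0) →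
        B' = B := by
  classical
  have hMp := isPrime_of_isPModular hM
  haveI : Fintype (IrrCharacter G) := Fintype.ofFinite _
  obtain ⟨B, ⟨hB, χ₀, hχ₀, θ₀, hθ₀, hcov⟩, huniq⟩ :=
    Cfsg.Agent.S0966.result p M hM N hidx c hc
  have key1 : ∀ χ ∈ B, ∀ ψ : IrrCharacter N,
      classInner (fun n : N => (χ : G → ℂ) n) (ψ : N → ℂ) ≠ 0 → ψ ∈ conjUnion N c := by
    intro χ hχ ψ hψ
    obtain ⟨g, θ', hθ', hg⟩ := Cfsg.Agent.S0964.result p M hM N B hB c hc χ₀ hχ₀ θ₀ hθ₀ hcov
      χ hχ ψ hψ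
    exact ⟨g, θ', hθ', Subtype.ext (funext hg)⟩
  have key2 : ∀ χ' : IrrCharacter G, ∀ θ ∈ conjUnion N c,
      classInner (fun n : N => (χ' : G → ℂ) n) (θ : N → ℂ) ≠ 0 → χ' ∈ B := by
    rintro χ' θ ⟨x, η, hη, rfl⟩ hne
    have hne' : classInner (fun n : N => (χ' : G → ℂ) n) (η : N → ℂ) ≠ 0 := by
      rw [← classInner_restrict_conjFun N (isClassFunction_irr χ') (η : N → ℂ) x]
      exact hne
    have := huniq (blockOf M (χ' : G → ℂ)) ⟨isPBlock_blockOf χ',
      χ', mem_blockOf_self hMp χ', η, hη, hne'⟩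
    rw [← this]
    exact mem_blockOf_self hMp χ'
  have hcon : constituents N B = conjUnion N c := by
    apply Set.Subset.antisymm
    · rintro θ ⟨χ, hχ, hne⟩
      exact key1 χ hχ θ hne
    · intro θ hθ
      obtain ⟨ψ, hψ⟩ := Cfsg.Agent.S0963.exists_irr_over N θ
      exact ⟨ψ, key2 ψ θ hθ hψ, hψ⟩
  refine ⟨B, hB, ⟨χ₀, hχ₀, θ₀, hθ₀, hcov⟩, ?_, ?_⟩
  · rw [← hcon]
    exact blockCoeff_eq_cutCoeff N B
      (fun χ hχ χ' θ h1 h2 => key2 χ' θ (key1 χ hχ θ h1) h2)
  · intro B' hB' hcov'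
    exact huniq B' ⟨hB', hcov'⟩

/-- **If the covering block has the defect of `c`, the stabilizer of `c` is `N`.** -/
theorem stab_le (hM : IsPModular p M) (hidx : ∃ k : ℕ, N.index = p ^ k)
    (c : Set (IrrCharacter N)) (hc : IsPBlock M c)
    (B : Set (IrrCharacter G)) (hB : IsPBlock M B)
    (hcov : ∃ χ ∈ B, ∃ θ ∈ c, classInner (fun n : N => (χ : G → ℂ) n) (θ : N → ℂ) ≠ 0)
    (hdef : blockDefect p B = blockDefect p c) : stab N c ≤ N := by
  classical
  have hMp := isPrime_of_isPModular hM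
  have hp := (Fact.out : p.Prime)
  haveI : Fintype (IrrCharacter G) := Fintype.ofFinite _
  haveI : Fintype (IrrCharacter N) := Fintype.ofFinite _
  obtain ⟨B₀, hB₀, hcov₀, hcut, huniq⟩ := exists_block_eq_cut_union N hM hidx c hc
  have hBB : B = B₀ := huniq B hB hcov
  rw [← hBB] at hcut
  obtain ⟨ρB, hρB, hρB', hdB, hB1⟩ := blockCoeff_one_eq hM hB
  obtain ⟨ρc, hρc, hρc', hdc, hc1⟩ := blockCoeff_one_eq hM hc
  have h1 := card_mul_blockCoeff_one N hMp c hc
  have h2 : blockCoeff B 1 = blockCoeff (conjUnion N c) 1 := by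
    rw [hcut, cutCoeff_of_mem N _ (one_mem N)]
    rfl
  rw [← h2, hB1, hc1, hdef] at h1
  set aG := (Nat.card G).factorization p with haG
  set aN := (Nat.card N).factorization p with haN
  set d := blockDefect p c with hd
  set S := stab N c with hS
  rw [hdef] at hdB
  -- `|G| = p ^ aG * mG`
  set mG := Nat.card G / p ^ aG with hmG
  have hG0 : Nat.card G ≠ 0 := Nat.card_pos.ne'
  have hGeq : p ^ aG * mG = Nat.card G := Nat.ordProj_mul_ordCompl_eq_self (Nat.card G) p
  have hmGp : ¬ p ∣ mG := Nat.not_dvd_ordCompl hp hG0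
  have hp0 : (p : ℂ) ≠ 0 := by exact_mod_cast hp.ne_zero
  have hρB0 : ρB ≠ 0 := fun h0 => hρB' (h0 ▸ memLocalIdeal_zero hMp)
  -- `|S| = p ^ aN * u`
  set u : ℂ := (mG : ℂ) * ρc * ρB⁻¹ with hu
  have huR : MemLocalRing M u :=
    lr_mul hMp (lr_mul hMp (memLocalRing_natCast hMp _) hρc) (lr_inv_of_not_li hρB hρB')
  have huI : ¬ MemLocalIdeal M u := by
    intro h
    have h3 : MemLocalIdeal M (u * ρB) := li_mul_right hMp h hρB
    have e : u * ρB = (mG : ℂ) * ρc := by
      rw [hu]; field_simp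
    rw [e] at h3
    rcases li_of_mul hMp (memLocalRing_natCast hMp _) hρc h3 with h4 | h4
    · exact hmGp ((memLocalIdeal_natCast_iff hM _).mp h4)
    · exact hρc' h4
  have hSeq : ((Nat.card S : ℕ) : ℂ) = ((p ^ aN : ℕ) : ℂ) * u := by
    have e1 : (Nat.card G : ℂ) = (p : ℂ) ^ aG * (mG : ℂ) := by
      rw [← hGeq]; push_cast; ring
    rw [e1] at h1
    push_cast at h1 ⊢
    have e2 : (p : ℂ) ^ aG = (p : ℂ) ^ (aG - d) * (p : ℂ) ^ d := by
      rw [← pow_add]; congr 1; omega
    have e3 : (p : ℂ) ^ aN = (p : ℂ) ^ (aN - d) * (p : ℂ) ^ d := by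
      rw [← pow_add]; congr 1; omega
    have hpd : (p : ℂ) ^ (aG - d) ≠ 0 := pow_ne_zero _ hp0
    rw [hu, e3]
    field_simp
    rw [e2] at h1
    have h5 : (p : ℂ) ^ (aG - d) * ((Nat.card S : ℂ) * ρB) =
        (p : ℂ) ^ (aG - d) * ((p : ℂ) ^ (aN - d) * (p : ℂ) ^ d * (mG : ℂ) * ρc) := by
      linear_combination -h1
    have h6 := mul_left_cancel₀ hpd h5
    linear_combination h6
  have hfac : (Nat.card S).factorization p = aN :=
    factorization_eq_of_eq_pow_mul_unit hM (Nat.card S) aN u huR huI hSeq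
  -- indices
  obtain ⟨k, hk⟩ := hidx
  have hNS : N ≤ S := le_stab N c
  have hSdvd : S.index ∣ p ^ k := hk ▸ Subgroup.index_dvd_of_le hNS
  obtain ⟨i, hik, hi⟩ := (Nat.dvd_prime_pow hp).mp hSdvd
  have hS0 : Nat.card S ≠ 0 := Nat.card_pos.ne'
  have hN0 : Nat.card N ≠ 0 := Nat.card_pos.ne'
  have hcS := Subgroup.card_mul_index S
  have hcN := Subgroup.card_mul_index N
  rw [hi] at hcS
  rw [hk] at hcN
  have f1 : (Nat.card G).factorization p = aN + i := by
    rw [← hcS, Nat.factorization_mul hS0 (pow_pos hp.pos i).ne', Finsupp.add_apply,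
      hp.factorization_pow, hfac]
    simp
  have f2 : (Nat.card G).factorization p = aN + k := by
    rw [← hcN, Nat.factorization_mul hN0 (pow_pos hp.pos k).ne', Finsupp.add_apply,
      hp.factorization_pow]
    simp [haN]
  have hik' : i = k := by omega
  have hrel := Subgroup.relIndex_mul_index hNS
  rw [hi, hk, hik'] at hrel
  have hrel1 : N.relIndex S = 1 := by
    have hpk : 0 < p ^ k := pow_pos hp.pos k
    exact Nat.eq_of_mul_eq_mul_right hpk (by rw [hrel, one_mul])
  exact Subgroup.relIndex_eq_one.mp hrel1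

end PIndex

end Cfsg.Agent.Helper23.PS
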