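import Mathlib
import Cfsg.Prelude.Def_Blocks
import Cfsg.Prelude.Def_BlockLocal
import Cfsg.Agent.Helper23.PIndexStab
import Cfsg.Agent.Helper24.Orthogonality
import Cfsg.Agent.Helper24.Span

set_option autoImplicit false
set_option linter.unusedSectionVars false
set_option linter.unusedVariables false
set_option linter.style.haveILetI false
set_option linter.unnecessarySimpa false
set_option linter.unusedSimpArgs false

/-!
# The stabilizer of a covered block meets a `p`-power overgroup trivially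
-/

namespace Cfsg.Agent.Helper23.PS

open Cfsg Cfsg.Agent.Helper24 Cfsg.Agent.Helper5 Cfsg.Agent.Helper5.Loc Cfsg.Agent.Helper5.CC
open Cfsg.Agent.Helper23.NS Cfsg.Agent.Helper23 Cfsg.Agent.Helper14 Cfsg.Agent.Helper23.BT
open Cfsg.Agent.Helper23.SB Cfsg.Agent.Helper23.MP Cfsg.Agent.Helper23.BC
open Cfsg.Agent.Helper23.IC Cfsg.Agent.Helper23.KN Cfsg.Agent.Helper23.HK Cfsg.Agent.Helper5.BDS

variable {G : Type*} [Group G] (N L : Subgroup G)

/-- `N` as a subgroup of `L`, identified with `N`. -/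
noncomputable abbrev phiNL (hNL : N ≤ L) : N.subgroupOf L ≃* N := Subgroup.subgroupOfEquivOfLe hNL

theorem coe_phiNL (hNL : N ≤ L) (x : N.subgroupOf L) :
    ((phiNL N L hNL x : N) : G) = ((x : L) : G) := rfl

section Between

variable [Fintype G] [Fintype N] [Fintype L] [Fintype (N.subgroupOf L)]

/-- A constituent on `N` of `χ` lies under a constituent on `L`. -/
theorem exists_between (hNL : N ≤ L) (χ : IrrCharacter G) (θ : IrrCharacter N)
    (h : classInner (fun n : N => (χ : G → ℂ) n) (θ : N → ℂ) ≠ 0) :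
    ∃ ψ : IrrCharacter L, classInner (fun l : L => (χ : G → ℂ) l) (ψ : L → ℂ) ≠ 0 ∧
      classInner (fun n : N.subgroupOf L => (ψ : L → ℂ) n)
        ((pullIrr (phiNL N L hNL) θ : IrrCharacter (N.subgroupOf L)) : N.subgroupOf L → ℂ) ≠ 0 := by
  classical
  haveI : Fintype (IrrCharacter L) := Fintype.ofFinite _
  by_contra hcon
  push Not at hcon
  apply h
  have hcf : IsClassFunction L (fun l : L => (χ : G → ℂ) l) := by
    intro g x
    simp only [Subgroup.coe_mul, Subgroup.coe_inv]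
    exact isClassFunction_irr χ (g : G) (x : G)
  have hexp := IsClassFunction.eq_sum_classInner hcf
  have e1 : classInner (fun n : N => (χ : G → ℂ) n) (θ : N → ℂ) =
      classInner (fun n : N.subgroupOf L => (χ : G → ℂ) ((n : L) : G))
        ((pullIrr (phiNL N L hNL) θ : IrrCharacter (N.subgroupOf L)) : N.subgroupOf L → ℂ) := by
    rw [← classInner_comp_mulEquiv (phiNL N L hNL)]
    rfl
  rw [e1]
  have e2 : (fun n : N.subgroupOf L => (χ : G → ℂ) ((n : L) : G)) =
      ∑ ψ : IrrCharacter L, classInner (fun l : L => (χ : G → ℂ) l) (ψ : L → ℂ) •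
        (fun n : N.subgroupOf L => (ψ : L → ℂ) n) := by
    funext n
    have := congrFun hexp (n : L)
    simp only [Finset.sum_apply, Pi.smul_apply] at this ⊢
    exact this
  rw [e2, classInner_sum_left]
  apply Finset.sum_eq_zero
  intro ψ _
  rw [classInner_smul_left]
  by_cases hψ : classInner (fun l : L => (χ : G → ℂ) l) (ψ : L → ℂ) = 0
  · rw [hψ, zero_mul]
  · rw [hcon ψ hψ, mul_zero]

end Between


section Stab

variable [hN : N.Normal] {M : Ideal AlgInt}

/-- An element stabilizing the block `c` (in the sense of the statement) fixes it. -/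
theorem pullBlock_eq_of_stabilizesBlock (hMp : M.IsPrime) (c : Set (IrrCharacter N))
    (hc : IsPBlock M c) (x : G) (hx : StabilizesBlock N c x) : pullBlock (cjN N x) c = c := by
  obtain ⟨χ, hχ⟩ := IsPBlock.nonempty hMp hc
  obtain ⟨χ', hχ', hconj⟩ := hx.2 χ hχ
  have e : χ = pullIrr (cjN N x) χ' := by
    apply Subtype.ext
    funext k
    rw [pullIrr_apply]
    exact (hconj k (cjN N x k) (MulAut.conjNormal_apply x k)).symm
  have hmem : χ ∈ pullBlock (cjN N x) c := by
    rw [e, pullIrr_mem_pullBlock_iff]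
    exact hχ'
  rw [IsPBlock_eq_blockOf hMp (isPBlock_pullBlock (cjN N x) hc) hmem,
    IsPBlock_eq_blockOf hMp hc hχ]

/-- Elements of `N` stabilize every set of characters of `N`. -/
theorem stabilizesBlock_of_mem (c : Set (IrrCharacter N)) (n : G) (hn : n ∈ N) :
    StabilizesBlock N c n := by
  refine ⟨?_, ?_⟩
  · rw [Subgroup.normalizer_eq_top]; exact Subgroup.mem_top n
  · intro χ hχ
    refine ⟨χ, hχ, ?_⟩
    intro k k' hk
    have : k' = (⟨n, hn⟩ : N) * k * (⟨n, hn⟩ : N)⁻¹ := Subtype.ext (by rw [hk]; rfl)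
    rw [this]
    exact isClassFunction_irr χ k ⟨n, hn⟩

variable [hL : L.Normal]

/-- Transport of a fixed block to `N` seen inside `L`. -/
theorem pullBlock_phiNL_fixed (hNL : N ≤ L) (c : Set (IrrCharacter N)) (x : L)
    (h : pullBlock (cjN N (x : G)) c = c) :
    pullBlock (cjN (N.subgroupOf L) x) (pullBlock (phiNL N L hNL) c) =
      pullBlock (phiNL N L hNL) c := by
  have e : (cjN (N.subgroupOf L) x).trans (phiNL N L hNL) =
      (phiNL N L hNL).trans (cjN N (x : G)) := by
    apply MulEquiv.ext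
    intro n
    apply Subtype.ext
    show ((phiNL N L hNL (cjN (N.subgroupOf L) x n) : N) : G) =
      ((cjN N (x : G) (phiNL N L hNL n) : N) : G)
    rw [coe_phiNL]
    have h1 : ((cjN (N.subgroupOf L) x n : N.subgroupOf L) : L) = x * n * x⁻¹ :=
      MulAut.conjNormal_apply x n
    have h2 : ((cjN N (x : G) (phiNL N L hNL n) : N) : G) =
        (x : G) * (phiNL N L hNL n : N) * (x : G)⁻¹ := MulAut.conjNormal_apply (x : G) _
    rw [h1, h2, coe_phiNL]
    simp
  rw [pullBlock_trans, e, ← pullBlock_trans, h]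

end Stab

section Main

variable [Fintype G] [hN : N.Normal] [hL : L.Normal] [Fintype N] {M : Ideal AlgInt} {p : ℕ}
  [Fact p.Prime]

/-- **S4673.** -/
theorem stab_inf_eq (hM : IsPModular p M) (hNL : N ≤ L)
    (hLN : ∃ k : ℕ, (N.subgroupOf L).index = p ^ k)
    (B : Set (IrrCharacter G)) (hB : IsPBlock M B) (c : Set (IrrCharacter N))
    (hc : IsPBlock M c)
    (hcov : ∃ χ ∈ B, ∃ θ ∈ c, classInner (fun n : N => (χ : G → ℂ) n) (θ : N → ℂ) ≠ 0)
    (hD : ∃ D : Subgroup G, IsDefectGroup p M B D ∧ D ≤ N) (T : Subgroup G)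
    (hT : ∀ x : G, x ∈ T ↔ StabilizesBlock N c x) : T ⊓ L = N := by
  classical
  have hMp := isPrime_of_isPModular hM
  have hp := (Fact.out : p.Prime)
  haveI : Fintype L := Fintype.ofFinite _
  haveI : Fintype (N.subgroupOf L) := Fintype.ofFinite _
  haveI : Fintype (IrrCharacter G) := Fintype.ofFinite _
  haveI : Fintype (IrrCharacter N) := Fintype.ofFinite _
  haveI : Fintype (IrrCharacter L) := Fintype.ofFinite _
  haveI : Fintype (IrrCharacter (N.subgroupOf L)) := Fintype.ofFinite _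
  apply le_antisymm
  · rintro x ⟨hxT, hxL⟩
    have hx := (hT x).mp hxT
    have h1 := pullBlock_eq_of_stabilizesBlock N hMp c hc x hx
    have h2 := pullBlock_phiNL_fixed N L hNL c ⟨x, hxL⟩ h1
    -- the block of `L`
    obtain ⟨χ, hχ, θ, hθ, hne⟩ := hcov
    obtain ⟨ψ, hψ1, hψ2⟩ := exists_between N L hNL χ θ hne
    set BL : Set (IrrCharacter L) := blockOf M (ψ : L → ℂ) with hBL
    have hBLb : IsPBlock M BL := isPBlock_blockOf ψ
    have hψBL : ψ ∈ BL := mem_blockOf_self hMp ψ
    set c' := pullBlock (phiNL N L hNL) c with hc'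
    have hc'b : IsPBlock M c' := isPBlock_pullBlock _ hc
    have hcovL : ∃ χ ∈ B, ∃ ψ ∈ BL, classInner (fun l : L => (χ : G → ℂ) l) (ψ : L → ℂ) ≠ 0 :=
      ⟨χ, hχ, ψ, hψBL, hψ1⟩
    have hcovN : ∃ ψ ∈ BL, ∃ θ' ∈ c', classInner (fun n : N.subgroupOf L => (ψ : L → ℂ) n)
        (θ' : N.subgroupOf L → ℂ) ≠ 0 :=
      ⟨ψ, hψBL, pullIrr (phiNL N L hNL) θ, (pullIrr_mem_pullBlock_iff _ _ _).mpr hθ, hψ2⟩
    have hcovc : ∃ χ ∈ B, ∃ θ ∈ c, classInner (fun n : N => (χ : G → ℂ) n) (θ : N → ℂ) ≠ 0 :=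
      ⟨χ, hχ, θ, hθ, hne⟩
    -- defects
    obtain ⟨D, hDB, hDN⟩ := hD
    obtain ⟨DL, hDL⟩ := exists_isDefectGroup hM BL hBLb
    obtain ⟨Dc, hDc⟩ := exists_isDefectGroup hM c hc
    obtain ⟨Dc', hDc'⟩ := exists_isDefectGroup hM c' hc'b
    have k1 := knorr_card L hM BL hBLb B hB hcovL hDL hDB
    have k2 := knorr_card N hM c hc B hB hcovc hDc hDB
    have k3 := card_defectGroup_pullBlock hM (phiNL N L hNL) hc hDc hDc'
    rw [inf_eq_left.mpr (hDN.trans hNL)] at k1
    rw [inf_eq_left.mpr hDN] at k2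
    have k4 := card_defectGroup hM hBLb hDL
    have k5 := card_defectGroup hM hc'b hDc'
    have hdef : blockDefect p BL = blockDefect p c' := by
      apply Nat.pow_right_injective hp.two_le
      show p ^ blockDefect p BL = p ^ blockDefect p c'
      rw [← k4, ← k5, k1, k3, k2]
    have hle := stab_le (N.subgroupOf L) hM hLN c' hc'b BL hBLb hcovN hdef
    have hmem : (⟨x, hxL⟩ : L) ∈ stab (N.subgroupOf L) c' := h2
    exact Subgroup.mem_subgroupOf.mp (hle hmem)
  · intro n hn
    exact ⟨(hT n).mpr (stabilizesBlock_of_mem N c n hn), hNL hn⟩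

end Main

end Cfsg.Agent.Helper23.PS
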