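import Mathlib
import Cfsg.Agent.Helper24.Ito
import Cfsg.Agent.Helper24.Clifford
import Cfsg.Agent.Helper8.CliffordAbG
import Cfsg.Agent.Helper8.Inertia
import Cfsg.Agent.Helper8.FixedClasses
import Cfsg.Agent.Helper24.BrauerPerm
import Cfsg.Agent.Helper22.ConjCover
import Cfsg.Agent.S0963
import Cfsg.Agent.Helper24.SmallDegree
import Cfsg.Agent.Helper24.Abelian
import Cfsg.Agent.Lead.PSolvHall
import Cfsg.Agent.Helper21.PSolv
import Cfsg.Agent.Helper23.PSeries

set_option autoImplicit false

namespace Cfsg.Agent.Helper23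

open Cfsg Cfsg.Agent.Helper24

universe u

/-- All irreducible characters of `G` have degree prime to `p`. -/
def PPrimeDeg (p : ℕ) (G : Type u) [Group G] : Prop :=
  ∀ χ : IrrCharacter G, ¬ p ∣ irrDeg χ

section

variable {G : Type u} [Group G]

theorem charDegree_eq_irrDeg (χ : IrrCharacter G) : charDegree (χ : G → ℂ) = irrDeg χ := by
  unfold charDegree
  rw [irrDeg_spec]
  simp

theorem irrDeg_eq_of_one_eq {G' : Type*} [Group G'] (χ : IrrCharacter G) (χ' : IrrCharacter G')
    (h : (χ : G → ℂ) 1 = (χ' : G' → ℂ) 1) : irrDeg χ = irrDeg χ' := by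
  rw [irrDeg_spec, irrDeg_spec] at h
  exact_mod_cast h

/-- quotients inherit `PPrimeDeg` -/
theorem PPrimeDeg.quotient {p : ℕ} (h : PPrimeDeg p G) (N : Subgroup G) [N.Normal] :
    PPrimeDeg p (G ⧸ N) := by
  intro χ
  have hirr : IsIrrCharacter G (fun g => (χ : G ⧸ N → ℂ) (QuotientGroup.mk' N g)) :=
    Cfsg.Agent.Helper8.isIrrCharacter_comp_surjective (QuotientGroup.mk' N)
      (QuotientGroup.mk'_surjective N) χ.2
  have := h ⟨_, hirr⟩
  rwa [irrDeg_eq_of_one_eq ⟨_, hirr⟩ χ (by simp)] at this

end

section

variable {G : Type u} [Group G] [Finite G]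

/-- normal subgroups inherit `PPrimeDeg` -/
theorem PPrimeDeg.normal {p : ℕ} (h : PPrimeDeg p G) (N : Subgroup G) [hN : N.Normal] :
    PPrimeDeg p N := by
  classical
  intro θ
  have : Fintype G := Fintype.ofFinite G
  have : Fintype N := Fintype.ofFinite N
  have : Fintype (IrrCharacter G) := Fintype.ofFinite _
  have : Fintype (IrrCharacter N) := Fintype.ofFinite _
  obtain ⟨ψ, hψ⟩ := Cfsg.Agent.S0963.exists_irr_over N θ
  have hcl := clifford_finset N ψ.2 θ.2 hψ
  obtain ⟨e, he⟩ := IsCharacter.classInner_irr_nat
    (Cfsg.Agent.Helper8.isCharacter_restrict N (IsIrrCharacter.isCharacter ψ.2)) θ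
  have h1 := congrFun hcl 1
  simp only [Pi.smul_apply, Finset.sum_apply, smul_eq_mul] at h1
  have h2 : ∀ φ ∈ Finset.univ.image (Helper24.conjFun N (θ : N → ℂ)), φ 1 = (irrDeg θ : ℂ) := by
    intro φ hφ
    obtain ⟨g, -, rfl⟩ := Finset.mem_image.mp hφ
    rw [Helper24.conjFun_apply, ← irrDeg_spec]
    have : (⟨g * ((1 : N) : G) * g⁻¹, hN.conj_mem _ (1 : N).2 g⟩ : N) = 1 := by
      apply Subtype.ext
      simp
    rw [this]
  rw [Finset.sum_congr rfl h2, Finset.sum_const, he] at h1
  have h3 : ((ψ : G → ℂ) 1) = (irrDeg ψ : ℂ) := irrDeg_spec ψ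
  have h4 : irrDeg ψ = e * ((Finset.univ.image (Helper24.conjFun N (θ : N → ℂ))).card * irrDeg θ) := by
    have : ((ψ : G → ℂ) ((1 : N) : G)) = (ψ : G → ℂ) 1 := rfl
    rw [this, h3] at h1
    rw [nsmul_eq_mul] at h1
    exact_mod_cast h1
  intro hp
  apply h ψ
  rw [h4]
  exact Dvd.dvd.mul_left (Dvd.dvd.mul_left hp _) _

end

section

variable {G : Type u} [Group G] [Finite G]

open Pointwise in
/-- An element of order coprime to `|N|` fixing every irreducible character of the normal
subgroup `N` centralizes `N`. -/
theorem commute_of_forall_mem_inertia (N : Subgroup G) [hN : N.Normal] (x : G)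
    (hcop : (orderOf x).Coprime (Nat.card N))
    (hfix : ∀ θ : IrrCharacter N, x ∈ Cfsg.Agent.Helper8.inertia N (θ : N → ℂ)) :
    ∀ n ∈ N, x * n = n * x := by
  classical
  have h1 := Cfsg.Agent.Helper8.card_fixed_irr_coprime N x hcop
  have h2 := Cfsg.Agent.Helper8.card_fixed_conjClasses_coprime N x hcop
  have h3 : Nat.card {θ : IrrCharacter N // x ∈ Cfsg.Agent.Helper8.inertia N (θ : N → ℂ)}
      = Nat.card (IrrCharacter N) :=
    Nat.card_congr (Equiv.subtypeUnivEquiv hfix)
  have h4 : Nat.card {C : ConjClasses N //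
        ConjClasses.map (MulAut.conjNormal x : N ≃* N).toMonoidHom C = C}
      = Nat.card (ConjClasses N) := by
    rw [h2, ← h1, h3, card_irr_eq_card_conjClasses]
  -- all classes are fixed
  have hall : ∀ C : ConjClasses N,
      ConjClasses.map (MulAut.conjNormal x : N ≃* N).toMonoidHom C = C := by
    have : Fintype (ConjClasses N) := Fintype.ofFinite _
    by_contra hcon
    push Not at hcon
    obtain ⟨C, hC⟩ := hcon
    have hlt : Fintype.card {C : ConjClasses N //
        ConjClasses.map (MulAut.conjNormal x : N ≃* N).toMonoidHom C = C}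
        < Fintype.card (ConjClasses N) := Fintype.card_subtype_lt hC
    rw [Nat.card_eq_fintype_card, Nat.card_eq_fintype_card] at h4
    omega
  set Cx : Subgroup G := N ⊓ Subgroup.centralizer ({x} : Set G) with hCx
  -- every element of N is N-conjugate into C_N(x)
  have hcover : ∀ k : N, ∃ c : N, k ∈ MulAut.conj c • (Cx.subgroupOf N) := by
    intro k
    set Ω : Set N := {k' : N | IsConj k k'} with hΩ
    have hxΩ : ∀ k' : N, k' ∈ Ω → (⟨x * k' * x⁻¹, hN.conj_mem k' k'.2 x⟩ : N) ∈ Ω := by
      intro k' hk'
      have h5 := hall (ConjClasses.mk k')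
      rw [Cfsg.Agent.Helper8.conjClasses_map_mk, ConjClasses.mk_eq_mk_iff_isConj] at h5
      have h6 : (MulAut.conjNormal x : N ≃* N).toMonoidHom k'
          = ⟨x * k' * x⁻¹, hN.conj_mem k' k'.2 x⟩ := by
        apply Subtype.ext
        exact MulAut.conjNormal_apply x k'
      rw [h6] at h5
      exact (show IsConj k k' from hk').trans h5.symm
    have hstab : N ⊔ Subgroup.zpowers x ≤ Cfsg.Agent.Helper8.setStabilizerConj N Ω := by
      have hfin : ∀ g : G, (∀ k' : N, k' ∈ Ω → (⟨g * k' * g⁻¹, hN.conj_mem k' k'.2 g⟩ : N) ∈ Ω) →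
          g ∈ Cfsg.Agent.Helper8.setStabilizerConj N Ω := by
        intro g hg
        -- the map is an injective self-map of the finite set Ω, hence bijective
        let f : Ω → Ω := fun k' => ⟨⟨g * (k' : N) * g⁻¹, hN.conj_mem _ (k' : N).2 g⟩, hg k' k'.2⟩
        have hinj : Function.Injective f := by
          intro a b hab
          have h7 := congrArg (fun z : Ω => ((z : N) : G)) hab
          simp only [f] at h7
          have h8 : ((a : N) : G) = ((b : N) : G) := by
            simpa using h7
          exact Subtype.ext (Subtype.ext h8)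
        have hsurj : Function.Surjective f := Finite.surjective_of_injective hinj
        intro k'
        constructor
        · intro hk'
          obtain ⟨a, ha⟩ := hsurj ⟨_, hk'⟩
          have h7 := congrArg (fun z : Ω => ((z : N) : G)) ha
          simp only [f] at h7
          have h8 : ((a : N) : G) = (k' : G) := by
            simpa using h7
          have h9 : (a : N) = k' := Subtype.ext h8
          rw [← h9]; exact a.2
        · exact hg k'
      apply sup_le
      · intro n hn
        apply hfin
        intro k' hk'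
        have : IsConj k' (⟨n * k' * n⁻¹, hN.conj_mem k' k'.2 n⟩ : N) := by
          rw [isConj_iff]
          exact ⟨⟨n, hn⟩, Subtype.ext rfl⟩
        exact (show IsConj k k' from hk').trans this
      · rw [Subgroup.zpowers_le]
        exact hfin x hxΩ
    have hcopA : (Nat.card (Subgroup.zpowers x)).Coprime (Nat.card N) := by
      rw [Nat.card_zpowers]; exact hcop
    have hsolv : Group.IsSolvable (Subgroup.zpowers x) := by
      have : IsMulCommutative (Subgroup.zpowers x) := inferInstance
      infer_instance
    obtain ⟨hex, -⟩ := Cfsg.Agent.Helper8.glauberman_conj N (Subgroup.zpowers x) hcopA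
      (Or.inl hsolv) Ω
      (fun g hg k' hk' =>
        ((hstab hg) k').mpr hk')
      (fun k₁ hk₁ k₂ hk₂ => by
        have h12 : IsConj k₁ k₂ := (show IsConj k k₁ from hk₁).symm.trans hk₂
        obtain ⟨c, hc⟩ := isConj_iff.mp h12
        refine ⟨c, c.2, ?_⟩
        have := congrArg Subtype.val hc
        simpa using this)
    obtain ⟨k₀, hk₀Ω, hk₀fix⟩ := hex ⟨k, IsConj.refl k⟩
    obtain ⟨c, hc⟩ := isConj_iff.mp (show IsConj k k₀ from hk₀Ω)
    refine ⟨c⁻¹, ?_⟩
    rw [Subgroup.mem_pointwise_smul_iff_inv_smul_mem, ← map_inv, inv_inv, MulAut.smul_def,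
      MulAut.conj_apply, hc, Subgroup.mem_subgroupOf, hCx]
    refine Subgroup.mem_inf.mpr ⟨k₀.2, ?_⟩
    rw [Subgroup.mem_centralizer_iff]
    intro y hy
    rw [Set.mem_singleton_iff] at hy
    subst hy
    have := hk₀fix y (Subgroup.mem_zpowers y)
    calc y * (k₀ : G) = (y * k₀ * y⁻¹) * y := by group
      _ = k₀ * y := by rw [this]
  have htop : Cx.subgroupOf N = ⊤ := by
    by_contra hne
    obtain ⟨g, hg⟩ := Cfsg.Agent.Helper22.exists_not_mem_conj (Cx.subgroupOf N) hne
    obtain ⟨c, hc⟩ := hcover g
    exact hg c hc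
  intro n hn
  have h5 : (⟨n, hn⟩ : N) ∈ Cx.subgroupOf N := by rw [htop]; trivial
  rw [Subgroup.mem_subgroupOf, hCx] at h5
  exact (Subgroup.mem_centralizer_iff.mp (Subgroup.mem_inf.mp h5).2) x rfl

end

section

/-- a `p`-element lies in a normal Sylow `p`-subgroup -/
theorem mem_normal_sylow {K : Type*} [Group K] [Finite K] {p : ℕ} [Fact p.Prime] (Q : Sylow p K)
    (hQ : (Q : Subgroup K).Normal) (R : Subgroup K) (hR : IsPGroup p R) : R ≤ Q := by
  obtain ⟨Q', hQ'⟩ := hR.exists_le_sylow
  obtain ⟨g, hg⟩ := MulAction.exists_smul_eq K Q Q'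
  rw [Sylow.smul_eq_of_normal] at hg
  rw [hg]; exact hQ'

theorem normal_abelian_sylow_aux (p : ℕ) [hp : Fact p.Prime] : ∀ n : ℕ, ∀ (G : Type u) [Group G]
    [Finite G], Nat.card G = n → IsPSolvable p G → PPrimeDeg p G →
    ∀ P : Sylow p G, (P : Subgroup G).Normal ∧ (∀ a ∈ P, ∀ b ∈ P, a * b = b * a) := by
  intro n
  induction n using Nat.strong_induction_on with
  | _ n ih =>
    intro G _ _ hcard hsolv hdeg P
    classical
    have : Fintype G := Fintype.ofFinite G
    rcases subsingleton_or_nontrivial G with hsub | hnt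
    · refine ⟨⟨fun x hx g => ?_⟩, fun a _ b _ => Subsingleton.elim _ _⟩
      rw [Subsingleton.elim (g * x * g⁻¹) x]; exact hx
    obtain ⟨N, hNn, hN1, hNcase⟩ := Cfsg.Agent.Lead.exists_normal_of_isPSolvable hsolv
    have hNcard : 1 < Nat.card N := by
      rcases Nat.lt_or_ge 1 (Nat.card N) with h | h
      · exact h
      · exfalso
        have h1 : Nat.card N = 1 := le_antisymm h Nat.card_pos
        exact hN1 (Subgroup.card_eq_one.mp h1)
    have hquot : Nat.card (G ⧸ N) < n := by
      have h1 := Subgroup.card_eq_card_quotient_mul_card_subgroup N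
      rw [hcard] at h1
      have hqpos : 0 < Nat.card (G ⧸ N) := Nat.card_pos
      rw [h1]
      nlinarith
    have ihQ := ih _ hquot (G ⧸ N) rfl (Cfsg.Agent.Lead.isPSolvable_quotient hsolv N)
      (hdeg.quotient N)
    obtain ⟨Qb⟩ : Nonempty (Sylow p (G ⧸ N)) := inferInstance
    obtain ⟨hQbn, hQbc⟩ := ihQ Qb
    set M : Subgroup G := (Qb : Subgroup (G ⧸ N)).comap (QuotientGroup.mk' N) with hM
    have hMn : M.Normal := hQbn.comap _
    have hMcard : Nat.card M = Nat.card N * Nat.card (Qb : Subgroup (G ⧸ N)) := card_comap_mk' N _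
    have hMidx : M.index = (Qb : Subgroup (G ⧸ N)).index :=
      Subgroup.index_comap_of_surjective _ (QuotientGroup.mk'_surjective N)
    have hMidxp : ¬ p ∣ M.index := by rw [hMidx]; exact Qb.not_dvd_index
    have hdegM : PPrimeDeg p M := hdeg.normal M
    rcases hNcase with ⟨m, hNm⟩ | hNcop
    · -- `N` is a `p`-group: `M` is the normal Sylow subgroup
      obtain ⟨k, hk⟩ := IsPGroup.iff_card.mp Qb.isPGroup'
      have hMp : IsPGroup p M := by
        apply IsPGroup.of_card (n := m + k)
        rw [hMcard, hNm, hk, pow_add]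
      have hPM : P = hMp.toSylow hMidxp := by
        obtain ⟨g, hg⟩ := MulAction.exists_smul_eq G (hMp.toSylow hMidxp) P
        have : ((hMp.toSylow hMidxp : Sylow p G) : Subgroup G).Normal := hMn
        rw [Sylow.smul_eq_of_normal] at hg
        exact hg.symm
      have hPM' : (P : Subgroup G) = M := by rw [hPM]; rfl
      rw [hPM']
      refine ⟨hMn, ?_⟩
      have hlin : ∀ χ : IrrCharacter M, (χ : M → ℂ) 1 = 1 := by
        intro χ
        rw [← irrDeg_eq_one_iff]
        have h1 : irrDeg χ ∣ p ^ (m + k) := by
          have := irrDeg_dvd_card χ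
          rwa [hMcard, hNm, hk, ← pow_add] at this
        obtain ⟨j, -, hj⟩ := (Nat.dvd_prime_pow hp.out).mp h1
        rcases Nat.eq_zero_or_pos j with h0 | h0
        · rw [hj, h0, pow_zero]
        · exfalso
          apply hdegM χ
          rw [hj]
          exact dvd_pow_self p h0.ne'
      have hcomm := (comm_iff_forall_irr_one (G := M)).mpr hlin
      intro a ha b hb
      have ha' : a ∈ M := by rw [← hPM']; exact ha
      have hb' : b ∈ M := by rw [← hPM']; exact hb
      exact congrArg Subtype.val (hcomm ⟨a, ha'⟩ ⟨b, hb'⟩)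
    · -- `N` is a `p'`-group
      have hPM : (P : Subgroup G) ≤ M := by
        intro x hx
        rw [hM, Subgroup.mem_comap]
        have h1 : IsPGroup p ((P : Subgroup G).map (QuotientGroup.mk' N)) := P.isPGroup'.map _
        exact mem_normal_sylow Qb hQbn _ h1 ⟨x, hx, rfl⟩
      by_cases hMtop : M = ⊤
      · -- `G ⧸ N` is an abelian `p`-group
        have hQtop : (Qb : Subgroup (G ⧸ N)) = ⊤ := by
          apply top_unique
          intro y _
          obtain ⟨g, rfl⟩ := QuotientGroup.mk'_surjective N y
          have : g ∈ M := by rw [hMtop]; trivial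
          exact this
        have hcommQ : ∀ a b : G ⧸ N, a * b = b * a := by
          intro a b
          have ha : a ∈ (Qb : Subgroup (G ⧸ N)) := by rw [hQtop]; trivial
          have hb : b ∈ (Qb : Subgroup (G ⧸ N)) := by rw [hQtop]; trivial
          exact hQbc a ha b hb
        have hab : ∀ x y : G, x * y * x⁻¹ * y⁻¹ ∈ N := by
          intro x y
          rw [← QuotientGroup.eq_one_iff]
          simp only [QuotientGroup.mk_mul, QuotientGroup.mk_inv]
          rw [hcommQ (x : G ⧸ N) (y : G ⧸ N)]
          group
        obtain ⟨k, hk⟩ := IsPGroup.iff_card.mp Qb.isPGroup'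
        have hNidx : N.index = p ^ k := by
          rw [Subgroup.index_eq_card, ← hk, hQtop, Subgroup.card_top]
        have hT : ∀ θ : IrrCharacter N, Cfsg.Agent.Helper8.inertia N (θ : N → ℂ) = ⊤ := by
          intro θ
          set T := Cfsg.Agent.Helper8.inertia N (θ : N → ℂ) with hTdef
          obtain ⟨e, C, he, hCirr, hCcard, -, hCdeg, -⟩ :=
            Cfsg.Agent.Helper8.clifford_abelian_inertia N T (θ : N → ℂ) θ.2 (fun g => Iff.rfl)
              (fun x _ y _ => hab x y)
          have hCne : C.Nonempty := by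
            rw [Finset.nonempty_iff_ne_empty]
            intro hC
            rw [hC, Finset.card_empty, mul_zero, zero_mul] at hCcard
            exact (Nat.card_pos (α := T)).ne hCcard
          obtain ⟨χ, hχ⟩ := hCne
          have h1 := hCdeg χ hχ
          have h2 : irrDeg ⟨χ, hCirr χ hχ⟩ = T.index * e * irrDeg θ := by
            have h3 := irrDeg_spec (⟨χ, hCirr χ hχ⟩ : IrrCharacter G)
            simp only at h3
            rw [h3, irrDeg_spec θ] at h1
            exact_mod_cast h1
          have h4 : ¬ p ∣ T.index := by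
            intro hdvd
            apply hdeg ⟨χ, hCirr χ hχ⟩
            rw [h2]
            exact Dvd.dvd.mul_right (Dvd.dvd.mul_right hdvd _) _
          have hNT : N ≤ T := Cfsg.Agent.Helper8.le_inertia N _
            (IsCharacter.isClassFunction (IsIrrCharacter.isCharacter θ.2))
          have h5 : T.index ∣ p ^ k := hNidx ▸ Subgroup.index_dvd_of_le hNT
          obtain ⟨j, -, hj⟩ := (Nat.dvd_prime_pow hp.out).mp h5
          rcases Nat.eq_zero_or_pos j with h0 | h0
          · rw [h0, pow_zero] at hj
            exact Subgroup.index_eq_one.mp hj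
          · exfalso
            apply h4
            rw [hj]
            exact dvd_pow_self p h0.ne'
        obtain ⟨a, ha⟩ := IsPGroup.iff_card.mp P.isPGroup'
        have hcent : ∀ x ∈ P, ∀ n ∈ N, x * n = n * x := by
          intro x hx
          obtain ⟨j, hj⟩ := (IsPGroup.iff_orderOf.mp P.isPGroup') ⟨x, hx⟩
          rw [Subgroup.orderOf_mk] at hj
          apply commute_of_forall_mem_inertia N x
          · rw [hj]; exact Nat.Coprime.pow_left j hNcop.symm
          · intro θ
            rw [hT θ]; trivial
        have hPN : (P : Subgroup G) ⊓ N = ⊥ := by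
          apply Disjoint.eq_bot
          apply Subgroup.disjoint_of_coprime_natCard
          rw [ha]
          exact Nat.Coprime.pow_left a hNcop.symm
        have hsup : (P : Subgroup G) ⊔ N = ⊤ := by
          rw [← Subgroup.index_eq_one]
          have h1 : ((P : Subgroup G) ⊔ N).index ∣ (P : Subgroup G).index :=
            Subgroup.index_dvd_of_le le_sup_left
          have h2 : ((P : Subgroup G) ⊔ N).index ∣ p ^ k :=
            hNidx ▸ Subgroup.index_dvd_of_le le_sup_right
          obtain ⟨j, -, hj⟩ := (Nat.dvd_prime_pow hp.out).mp h2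
          rcases Nat.eq_zero_or_pos j with h0 | h0
          · rw [hj, h0, pow_zero]
          · exfalso
            apply P.not_dvd_index
            refine Dvd.dvd.trans ?_ h1
            rw [hj]
            exact dvd_pow_self p h0.ne'
        constructor
        · rw [← Subgroup.normalizer_eq_top_iff]
          apply top_unique
          rw [← hsup]
          apply sup_le Subgroup.le_normalizer
          intro n hn
          rw [Subgroup.mem_normalizer_iff]
          intro x
          constructor
          · intro hx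
            have h1 : n * x * n⁻¹ = x := by
              rw [← hcent x hx n hn]; group
            rw [h1]; exact hx
          · intro hx
            have h1 := hcent _ hx n⁻¹ (N.inv_mem hn)
            have h2 : x = n⁻¹ * (n * x * n⁻¹) * n := by group
            have h3 : n⁻¹ * (n * x * n⁻¹) * n = n * x * n⁻¹ := by
              rw [← h1]; group
            rw [h2, h3]; exact hx
        · intro a' ha' b' hb'
          have h1 : a' * b' * a'⁻¹ * b'⁻¹ ∈ (P : Subgroup G) ⊓ N := by
            refine Subgroup.mem_inf.mpr ⟨?_, hab a' b'⟩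
            exact Subgroup.mul_mem _ (Subgroup.mul_mem _ (Subgroup.mul_mem _ ha' hb')
              (Subgroup.inv_mem _ ha')) (Subgroup.inv_mem _ hb')
          rw [hPN, Subgroup.mem_bot] at h1
          calc a' * b' = (a' * b' * a'⁻¹ * b'⁻¹) * b' * a' := by group
            _ = b' * a' := by rw [h1, one_mul]
      · -- `M` proper: induction inside `M`
        have hMlt : Nat.card M < n := by
          rw [← hcard]
          exact lt_of_le_of_ne (Subgroup.card_le_card_group M)
            (fun h => hMtop (Subgroup.eq_top_of_card_eq M h))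
        have ihM := ih _ hMlt M rfl (Cfsg.Agent.Helper21.PSolv.isPSolvable_subgroup hp.out hsolv M)
          hdegM
        have hP'p : IsPGroup p ((P : Subgroup G).subgroupOf M) :=
          P.isPGroup'.comap_subtype
        have hP'idx : ¬ p ∣ ((P : Subgroup G).subgroupOf M).index := by
          intro hdvd
          have h1 : ((P : Subgroup G).subgroupOf M).index = (P : Subgroup G).relIndex M := rfl
          rw [h1] at hdvd
          have h2 := Subgroup.relIndex_mul_index hPM
          exact P.not_dvd_index (h2 ▸ Dvd.dvd.mul_right hdvd _)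
        obtain ⟨hP'n, hP'c⟩ := ihM (hP'p.toSylow hP'idx)
        constructor
        · constructor
          intro x hx g
          have hxM : g * x * g⁻¹ ∈ M := hMn.conj_mem x (hPM hx) g
          have hzp : IsPGroup p (Subgroup.zpowers (⟨g * x * g⁻¹, hxM⟩ : M)) := by
            have h1 : IsPGroup p (Subgroup.zpowers x) :=
              P.isPGroup'.to_le (Subgroup.zpowers_le.mpr hx)
            obtain ⟨j, hj⟩ := IsPGroup.iff_card.mp h1
            apply IsPGroup.of_card (n := j)
            rw [Nat.card_zpowers] at hj ⊢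
            rw [Subgroup.orderOf_mk, ← hj]
            exact (MulAut.conj g).orderOf_eq x
          have h3 := mem_normal_sylow (hP'p.toSylow hP'idx) hP'n _ hzp (Subgroup.mem_zpowers _)
          exact Subgroup.mem_subgroupOf.mp h3
        · intro a ha b hb
          have ha' : (⟨a, hPM ha⟩ : M) ∈ hP'p.toSylow hP'idx := Subgroup.mem_subgroupOf.mpr ha
          have hb' : (⟨b, hPM hb⟩ : M) ∈ hP'p.toSylow hP'idx := Subgroup.mem_subgroupOf.mpr hb
          exact congrArg Subtype.val (hP'c _ ha' _ hb')

end

end Cfsg.Agent.Helper23
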