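import Mathlib
import Cfsg.Prelude.Def_Blocks
import Cfsg.Prelude.Def_BrauerPairs
import Cfsg.Prelude.Def_OddOrderLocal
import Cfsg.Agent.Helper23.PiKerF
import Cfsg.Agent.Helper23.SubsectionTrace
import Cfsg.Agent.Helper14.PCore
import Cfsg.Agent.S0931
import Cfsg.Agent.S0912

set_option autoImplicit false
set_option linter.unusedSectionVars false
set_option linter.unusedVariables false
set_option linter.style.haveILetI false
set_option linter.unnecessarySimpa false

/-!
# `O_{π'}` in the kernel of the Brauer correspondent: characters are constant on cosets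
-/

namespace Cfsg.Agent.Helper23.PK

open Cfsg Cfsg.Agent.Helper24 Cfsg.Agent.Helper5 Cfsg.Agent.Helper5.Loc Cfsg.Agent.Helper5.CC
open Cfsg.Agent.Helper14
open Cfsg.Agent.Helper23.BT Cfsg.Agent.Helper23.IC Cfsg.Agent.Helper23.TM
open Cfsg.Agent.Helper23.SB Cfsg.Agent.Helper23.TMH Cfsg.Agent.Helper23.BP
open Cfsg.Agent.Helper23.SP Cfsg.Agent.Helper23.SU Cfsg.Agent.Helper23.PP
open Cfsg.Agent.Helper23.MP Cfsg.Agent.Helper23.PC Cfsg.Agent.Helper23.BC
open Cfsg.Agent.Helper23.MC Cfsg.Agent.Helper23.RP Cfsg.Agent.Helper23.DP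
open Cfsg.Agent.Helper23.MOD Cfsg.Agent.Helper23.IDf Cfsg.Agent.Helper19
open Cfsg.Agent.Helper23.SubTr

/-- A class function is the sum of its block parts: if two points have the same block parts, the
values agree. -/
theorem eq_of_blockPart_eq {X : Type*} [Group X] [Fintype X] {M : Ideal AlgInt} (hMp : M.IsPrime)
    {f : X → ℂ} (hf : IsClassFunction X f) (s t : X)
    (h : ∀ e : Set (IrrCharacter X), IsPBlock M e → blockPart e f s = blockPart e f t) :
    f s = f t := by
  classical
  haveI : Fintype (IrrCharacter X) := Fintype.ofFinite _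
  have hexp := IsClassFunction.eq_sum_classInner hf
  have hval : ∀ u : X, f u = ∑ ψ : IrrCharacter X, classInner f (ψ : X → ℂ) * (ψ : X → ℂ) u := by
    intro u
    conv_lhs => rw [hexp]
    simp [Finset.sum_apply]
  have hfib : ∀ u : X, ∑ ψ : IrrCharacter X, classInner f (ψ : X → ℂ) * (ψ : X → ℂ) u =
      ∑ e ∈ (Finset.univ.image (fun ψ : IrrCharacter X => blockOf M (ψ : X → ℂ))),
        blockPart e f u := by
    intro u
    rw [← Finset.sum_fiberwise_of_maps_to (s := Finset.univ)
      (t := Finset.univ.image (fun ψ : IrrCharacter X => blockOf M (ψ : X → ℂ)))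
      (g := fun ψ : IrrCharacter X => blockOf M (ψ : X → ℂ))
      (fun ψ _ => Finset.mem_image_of_mem _ (Finset.mem_univ ψ))]
    refine Finset.sum_congr rfl fun e he => ?_
    obtain ⟨ψ₀, -, rfl⟩ := Finset.mem_image.mp he
    rw [blockPart_eq_sum, Finset.sum_filter]
    refine Finset.sum_congr rfl fun ψ _ => ?_
    have hiff : blockOf M (ψ : X → ℂ) = blockOf M (ψ₀ : X → ℂ) ↔
        ψ ∈ blockOf M (ψ₀ : X → ℂ) := by
      constructor
      · intro h'
        rw [← h']
        exact mem_blockOf_self hMp ψ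
      · intro h'
        exact (IsPBlock_eq_blockOf hMp (isPBlock_blockOf ψ₀) h').symm
    by_cases hψ : ψ ∈ blockOf M (ψ₀ : X → ℂ)
    · rw [if_pos hψ, if_pos (hiff.mpr hψ)]
    · rw [if_neg hψ, if_neg (fun h' => hψ (hiff.mp h'))]
  rw [hval s, hval t, hfib s, hfib t]
  refine Finset.sum_congr rfl fun e he => ?_
  obtain ⟨ψ₀, -, rfl⟩ := Finset.mem_image.mp he
  exact h _ (isPBlock_blockOf ψ₀)

variable {G : Type*} [Group G] [Fintype G] {M : Ideal AlgInt} {p : ℕ} [Fact p.Prime]

/-- **Characters of `B` are constant on `y O_{π'}(C_G(y))`** (the statement of S4727). -/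
theorem char_mul_eq_of_local (hM : IsPModular p M) (π : Set ℕ) (hpπ : p ∈ π)
    (B : Set (IrrCharacter G)) (hB : IsPBlock M B) (D : Subgroup G)
    (hBD : IsDefectGroup p M B D)
    (B₁ : Set (IrrCharacter (Subgroup.normalizer (D : Set G))))
    (hB₁ : IsInducedBlock M (Subgroup.normalizer (D : Set G)) B₁ B)
    (hB₁D : IsDefectGroup p M B₁ (D.subgroupOf (Subgroup.normalizer (D : Set G))))
    (hker : ∀ n : Subgroup.normalizer (D : Set G),
      n ∈ Cfsg.piCore {q | q ∉ π} (Subgroup.normalizer (D : Set G)) → n ∈ Cfsg.blockKer B₁)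
    (y : G) (hy : ∃ k : ℕ, orderOf y = p ^ k)
    (hC : ∀ x : Subgroup.centralizer ({y} : Set G),
      (∀ q : ℕ, q.Prime → q ∣ orderOf x → q ∉ π) →
        x ∈ Cfsg.piCore {q | q ∉ π} (Subgroup.centralizer ({y} : Set G))) :
    ∀ χ ∈ B, ∀ x : G, x ∈ Subgroup.centralizer ({y} : Set G) →
      (∀ q : ℕ, q.Prime → q ∣ orderOf x → q ∉ π) →
        (χ : G → ℂ) (y * x) = (χ : G → ℂ) y := by
  classical
  have hp : Fact p.Prime := inferInstance
  have hMp := isPrime_of_isPModular hM
  have : Finite G := Finite.of_fintype G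
  have : Fintype (IrrCharacter G) := Fintype.ofFinite _
  have : Fintype (Subgroup.centralizer ({y} : Set G)) := Fintype.ofFinite _
  have : Fintype (IrrCharacter (Subgroup.centralizer ({y} : Set G))) := Fintype.ofFinite _
  intro χ hχ x hxC hxπ
  have hcomm : ∀ c : Subgroup.centralizer ({y} : Set G), y * (c : G) = (c : G) * y := by
    intro c
    exact Subgroup.mem_centralizer_iff.mp c.2 y (Set.mem_singleton y)
  have hyC : y ∈ Subgroup.centralizer ({y} : Set G) := by
    rw [Subgroup.mem_centralizer_iff]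
    intro h hh
    rw [Set.mem_singleton_iff.mp hh]
  have hord : orderOf (⟨x, hxC⟩ : Subgroup.centralizer ({y} : Set G)) = orderOf x :=
    Subgroup.orderOf_mk x hxC
  have hs : ¬ p ∣ orderOf (⟨x, hxC⟩ : Subgroup.centralizer ({y} : Set G)) := by
    intro h
    rw [hord] at h
    exact hxπ p hp.out h hpπ
  have hsK : (⟨x, hxC⟩ : Subgroup.centralizer ({y} : Set G)) ∈
      Cfsg.piCore {q | q ∉ π} (Subgroup.centralizer ({y} : Set G)) := by
    apply hC
    intro q hq hqs
    rw [hord] at hqs
    exact hxπ q hq hqs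
  have h1 : ¬ p ∣ orderOf (1 : Subgroup.centralizer ({y} : Set G)) := by
    rw [orderOf_one]
    exact hp.out.not_dvd_one
  have hΘ := isClassFunction_shift y (Subgroup.centralizer ({y} : Set G)) hcomm χ
  -- the cyclic group generated by `y`
  have hP : IsPGroup p (Subgroup.zpowers y) := by
    obtain ⟨k, hk⟩ := hy
    apply IsPGroup.of_card (n := k)
    rw [Nat.card_zpowers, hk]
  have hPH : Subgroup.zpowers y ≤ Subgroup.centralizer ({y} : Set G) :=
    Subgroup.zpowers_le.mpr hyC
  have hCH : Subgroup.centralizer ((Subgroup.zpowers y : Subgroup G) : Set G) ≤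
      Subgroup.centralizer ({y} : Set G) :=
    Subgroup.centralizer_le (by
      intro z hz
      rw [Set.mem_singleton_iff.mp hz]
      exact Subgroup.mem_zpowers y)
  have hHC : Subgroup.centralizer ({y} : Set G) ≤
      Subgroup.centralizer ((Subgroup.zpowers y : Subgroup G) : Set G) := by
    rw [Subgroup.le_centralizer_iff]
    apply Subgroup.zpowers_le.mpr
    rw [Subgroup.mem_centralizer_iff]
    intro c hc
    exact (hcomm ⟨c, hc⟩).symm
  have hHN : Subgroup.centralizer ({y} : Set G) ≤
      Subgroup.normalizer ((Subgroup.zpowers y : Subgroup G) : Set G) :=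
    hHC.trans (Subgroup.centralizer_le_normalizer _)
  have key : ∀ e : Set (IrrCharacter (Subgroup.centralizer ({y} : Set G))), IsPBlock M e →
      blockPart e (fun c : Subgroup.centralizer ({y} : Set G) => (χ : G → ℂ) (y * (c : G)))
        ⟨x, hxC⟩ =
      blockPart e (fun c : Subgroup.centralizer ({y} : Set G) => (χ : G → ℂ) (y * (c : G)))
        1 := by
    intro e he
    obtain ⟨ψ₀, hψ₀⟩ := IsPBlock.nonempty hMp he
    have heq : e = blockOf M (ψ₀ : Subgroup.centralizer ({y} : Set G) → ℂ) :=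
      IsPBlock_eq_blockOf hMp he hψ₀
    obtain ⟨χ', hχ'⟩ := exists_irr_brauer hM (Subgroup.zpowers y)
      (Subgroup.centralizer ({y} : Set G)) hP hCH hHN ψ₀
    have hind := isInducedBlock_of_brauer hM (Subgroup.zpowers y)
      (Subgroup.centralizer ({y} : Set G)) hP hPH hHN ψ₀ χ' hχ'
    rw [← heq] at hind
    by_cases hχB' : χ ∈ blockOf M (χ' : G → ℂ)
    · have hBB' : B = blockOf M (χ' : G → ℂ) := by
        rw [IsPBlock_eq_blockOf hMp hB hχ, IsPBlock_eq_blockOf hMp (isPBlock_blockOf χ') hχB']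
      rw [← hBB'] at hind
      obtain ⟨D₀, hD₀⟩ := Cfsg.Agent.S0931.exists_defectGroup p M hM e he
      -- `y` lies in the defect group
      have hyD₀ : (⟨y, hyC⟩ : Subgroup.centralizer ({y} : Set G)) ∈ D₀ := by
        have hcore := Cfsg.Agent.S0912.result p M hM e he D₀ hD₀
        apply hcore
        have hn : ((Subgroup.zpowers y).subgroupOf (Subgroup.centralizer ({y} : Set G))).Normal :=
          (Subgroup.normal_subgroupOf_iff_le_normalizer hPH).mpr hHN
        apply Cfsg.Agent.Helper14.le_pCore p hn hP.comap_subtype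
        rw [Subgroup.mem_subgroupOf]
        exact Subgroup.mem_zpowers y
      have hCD₀ : Subgroup.centralizer
          ((D₀.map (Subgroup.centralizer ({y} : Set G)).subtype : Subgroup G) : Set G) ≤
          Subgroup.centralizer ({y} : Set G) := by
        apply Subgroup.centralizer_le
        intro z hz
        rw [Set.mem_singleton_iff.mp hz]
        exact ⟨⟨y, hyC⟩, hyD₀, rfl⟩
      have hk := blockKer_of_local hM π hpπ B D hBD B₁ hB₁ hB₁D hker
        (Subgroup.centralizer ({y} : Set G)) e hind D₀ hD₀ hCD₀ ⟨x, hxC⟩ hsK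
      rw [blockPart_eq_sum, blockPart_eq_sum]
      refine Finset.sum_congr rfl fun ψ _ => ?_
      by_cases hψ : ψ ∈ e
      · rw [if_pos hψ, if_pos hψ, hk ψ hψ]
      · rw [if_neg hψ, if_neg hψ]
    · rw [blockPart_eq_zero hM y hy (Subgroup.centralizer ({y} : Set G)) hyC hcomm le_rfl
          (blockOf M (χ' : G → ℂ)) e hind χ hχB' ⟨x, hxC⟩ hs,
        blockPart_eq_zero hM y hy (Subgroup.centralizer ({y} : Set G)) hyC hcomm le_rfl
          (blockOf M (χ' : G → ℂ)) e hind χ hχB' 1 h1]
  have hfin := eq_of_blockPart_eq hMp hΘ ⟨x, hxC⟩ 1 key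
  simp only [OneMemClass.coe_one, mul_one] at hfin
  exact hfin

end Cfsg.Agent.Helper23.PK
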