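import Mathlib
import Cfsg.Agent.S0587
import Cfsg.Agent.S0586
import Cfsg.Agent.Helper1.MinNormal
import Cfsg.Agent.Helper14.PCore

/-!
Structure of a finite group with a maximal subgroup `H` modulo a normal subgroup `L ≤ H` with
solvable quotient: the two bottom chief factors above the core of `H`.
-/

set_option autoImplicit false
set_option linter.unusedSectionVars false
set_option linter.unusedVariables false
set_option linter.style.haveILetI false
set_option linter.unnecessarySimpa false

namespace Cfsg.Agent.Helper23.PrimSolv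

open Subgroup

/-- a finite solvable group with a core-free maximal subgroup `U`: the minimal normal subgroup `A`
complementing `U`, and (when `U ≠ 1`) an abelian chief factor `B / A` of order prime to `|A|`. -/
theorem coreFree_structure {X : Type*} [Group X] [Finite X] [hs : Group.IsSolvable X]
    (U : Subgroup X) (hU : IsCoatom U) (hcore : U.normalCore = ⊥) :
    ∃ (A : Subgroup X) (r a : ℕ), A.Normal ∧ r.Prime ∧ U ⊔ A = ⊤ ∧ U ⊓ A = ⊥ ∧ U.index = r ^ a ∧
      (U ≠ ⊥ → ∃ (B : Subgroup X) (q b : ℕ), B.Normal ∧ A ≤ B ∧ A ≠ B ∧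
        (∀ Y : Subgroup X, Y.Normal → A ≤ Y → Y ≤ B → Y = A ∨ Y = B) ∧ ⁅B, B⁆ ≤ A ∧
        q.Prime ∧ q ≠ r ∧ A.relIndex B = q ^ b) := by
  classical
  haveI : Nontrivial X := by
    by_contra hnt
    rw [not_nontrivial_iff_subsingleton] at hnt
    exact hU.1 (Subsingleton.elim _ _)
  obtain ⟨r, N₀, hr, hN₀n, hN₀ne, hN₀p, -, -⟩ := Helper1.exists_normal_pgroup_of_solvable (G := X)
  haveI : Fact r.Prime := ⟨hr⟩
  have hL : Cfsg.pCore r X ≠ ⊥ := by
    intro h
    apply hN₀ne
    have := Helper14.le_pCore r hN₀n hN₀p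
    rw [h] at this
    exact le_bot_iff.mp this
  obtain ⟨-, hcompl, hmin, -, hq⟩ := S0587.result r hL U hU hcore
  set A : Subgroup X := Cfsg.pCore r X with hA
  have hAn : A.Normal := Helper14.pCore_normal r
  have hAp : IsPGroup r A := Helper14.pCore_isPGroup r
  obtain ⟨a, ha⟩ := IsPGroup.iff_card.mp hAp
  have hsup : U ⊔ A = ⊤ := by rw [sup_comm]; exact hcompl.sup_eq_top
  have hinf : U ⊓ A = ⊥ := by rw [inf_comm]; exact hcompl.disjoint.eq_bot
  have hidx : U.index = r ^ a := by rw [hcompl.index_eq_card, ha]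
  refine ⟨A, r, a, hAn, hr, hsup, hinf, hidx, ?_⟩
  intro hUne
  have hAtop : A ≠ ⊤ := by
    intro h
    apply hUne
    rw [h, inf_top_eq] at hinf
    exact hinf
  -- the quotient by `A`
  haveI : Nontrivial (X ⧸ A) := by
    rw [QuotientGroup.nontrivial_iff]
    exact hAtop
  obtain ⟨B', hB'n, hB'ne, -, hB'min⟩ :=
    S0586.exists_minimal_normal_le (⊤ : Subgroup (X ⧸ A)) top_ne_bot
  haveI := hB'n
  obtain ⟨hB'c, q, hqp, hB'exp⟩ := Helper1.minNormal_elementary B' hB'ne inferInstance
    (fun M hM hMB => hB'min M hM hMB)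
  haveI : Fact q.Prime := ⟨hqp⟩
  have hB'p : IsPGroup q B' := by
    intro x
    refine ⟨1, ?_⟩
    rw [pow_one]
    exact Subtype.ext (hB'exp x x.2)
  obtain ⟨b, hb⟩ := IsPGroup.iff_card.mp hB'p
  set π : X →* X ⧸ A := QuotientGroup.mk' A with hπ
  have hπs : Function.Surjective π := QuotientGroup.mk'_surjective A
  have hker : π.ker = A := QuotientGroup.ker_mk' A
  have hbotc : (⊥ : Subgroup (X ⧸ A)).comap π = A := (MonoidHom.comap_bot π).trans hker
  set B : Subgroup X := B'.comap π with hB
  have hBn : B.Normal := hB'n.comap π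
  have hAB : A ≤ B := by
    rw [← hker]
    exact MonoidHom.ker_le_comap π B'
  have hmapB : B.map π = B' := Subgroup.map_comap_eq_self_of_surjective hπs B'
  have hABne : A ≠ B := by
    intro h
    apply hB'ne
    have h1 : B'.comap π = (⊥ : Subgroup (X ⧸ A)).comap π := by
      rw [hbotc]
      exact h.symm
    exact Subgroup.comap_injective hπs h1
  refine ⟨B, q, b, hBn, hAB, hABne, ?_, ?_, hqp, ?_, ?_⟩
  · -- chief factor
    intro Y hYn hAY hYB
    have hY'n : (Y.map π).Normal := hYn.map π hπs
    have hY'B : Y.map π ≤ B' := by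
      rw [← hmapB]
      exact Subgroup.map_mono hYB
    have hcm : (Y.map π).comap π = Y := by
      rw [Subgroup.comap_map_eq, hker]
      exact sup_eq_left.mpr hAY
    rcases hB'min (Y.map π) hY'n hY'B with h | h
    · left
      rw [← hcm, h]
      exact hbotc
    · right
      rw [← hcm, h]
  · -- abelian
    intro x hx
    have h1 : π x ∈ (⁅B, B⁆).map π := Subgroup.mem_map_of_mem π hx
    rw [Subgroup.map_commutator, hmapB] at h1
    have h2 : ⁅B', B'⁆ = ⊥ := by
      rw [Subgroup.commutator_eq_bot_iff_le_centralizer]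
      intro y hy z hz
      have := mul_comm' (⟨z, hz⟩ : B') ⟨y, hy⟩
      exact congrArg Subtype.val this
    rw [h2, Subgroup.mem_bot] at h1
    rw [← hker]
    exact h1
  · -- q ≠ r
    have hY : Cfsg.pCore q ↥U ≠ ⊥ := by
      have hYn : (B.subgroupOf U).Normal := hBn.subgroupOf U
      have hYp : IsPGroup q (B.subgroupOf U) := by
        intro y
        refine ⟨1, ?_⟩
        rw [pow_one]
        have hyB : ((y : U) : X) ∈ B := y.2
        have h1 : π ((y : U) : X) ∈ B' := hyB
        have h2 : (π ((y : U) : X)) ^ q = 1 := hB'exp _ h1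
        have h3 : (((y : U) : X)) ^ q ∈ A := by
          rw [← hker, MonoidHom.mem_ker, map_pow]
          exact h2
        have h4 : (((y : U) : X)) ^ q ∈ U := U.pow_mem (y : U).2 q
        have h5 : (((y : U) : X)) ^ q ∈ U ⊓ A := ⟨h4, h3⟩
        rw [hinf, Subgroup.mem_bot] at h5
        apply Subtype.ext
        apply Subtype.ext
        simpa using h5
      have hYle := Helper14.le_pCore q hYn hYp
      intro hbot
      rw [hbot, le_bot_iff] at hYle
      -- then `B ⊓ U = ⊥`, so `B = A`
      apply hABne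
      apply le_antisymm hAB
      intro x hx
      have hx' : x ∈ U ⊔ A := by rw [hsup]; exact Subgroup.mem_top x
      obtain ⟨u, hu, a', ha', rfl⟩ := Subgroup.mem_sup_of_normal_right.mp hx'
      have huB : u ∈ B := by
        have : u = u * a' * a'⁻¹ := by group
        rw [this]
        exact B.mul_mem hx (B.inv_mem (hAB ha'))
      have hu1 : (⟨u, hu⟩ : U) ∈ B.subgroupOf U := huB
      rw [hYle, Subgroup.mem_bot] at hu1
      have hu2 : u = 1 := congrArg Subtype.val hu1
      rw [hu2, one_mul]
      exact ha'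
    exact (hq q hY).2
  · -- relative index
    have h1 : A.relIndex B = ((⊥ : Subgroup (X ⧸ A)).comap π).relIndex B := by
      rw [hbotc]
    rw [h1, Subgroup.relIndex_comap, hmapB, Subgroup.relIndex_bot_left, hb]

/-- the two bottom chief factors above the core of a maximal subgroup `H` whose core has a
solvable quotient. -/
theorem maximal_structure {G : Type*} [Group G] [Finite G] (L H : Subgroup G) [hLn : L.Normal]
    (hLH : L ≤ H) (hmax : IsCoatom H) (hsolv : Group.IsSolvable (G ⧸ L)) :
    ∃ (M : Subgroup G) (r a : ℕ), M.Normal ∧ H.normalCore ≤ M ∧ r.Prime ∧ H ⊔ M = ⊤ ∧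
      H ⊓ M = H.normalCore ∧ H.index = r ^ a ∧
      (¬ H ≤ M → ∃ (N : Subgroup G) (q b : ℕ), N.Normal ∧ M ≤ N ∧ M ≠ N ∧
        (∀ Y : Subgroup G, Y.Normal → M ≤ Y → Y ≤ N → Y = M ∨ Y = N) ∧ ⁅N, N⁆ ≤ M ∧
        q.Prime ∧ q ≠ r ∧ M.relIndex N = q ^ b) := by
  classical
  set K : Subgroup G := H.normalCore with hK
  have hKn : K.Normal := Subgroup.normalCore_normal H
  have hKH : K ≤ H := Subgroup.normalCore_le H
  have hLK : L ≤ K := Subgroup.normal_le_normalCore.mpr hLH
  set π : G →* G ⧸ K := QuotientGroup.mk' K with hπ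
  have hπs : Function.Surjective π := QuotientGroup.mk'_surjective K
  have hker : π.ker = K := QuotientGroup.ker_mk' K
  haveI : Group.IsSolvable (G ⧸ K) := by
    have hle : L ≤ K.comap (MonoidHom.id G) := by
      rw [Subgroup.comap_id]; exact hLK
    have hsurj : Function.Surjective (QuotientGroup.map L K (MonoidHom.id G) hle) := by
      intro y
      obtain ⟨g, rfl⟩ := QuotientGroup.mk_surjective y
      exact ⟨(g : G ⧸ L), rfl⟩
    exact Group.isSolvable_of_surjective hsurj
  set U : Subgroup (G ⧸ K) := H.map π with hU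
  have hcU : U.comap π = H := by
    rw [hU, Subgroup.comap_map_eq, hker]
    exact sup_eq_left.mpr hKH
  have hUco : IsCoatom U := by
    constructor
    · intro h
      apply hmax.1
      rw [← hcU, h, Subgroup.comap_top]
    · intro Y hY
      have h1 : H ≤ Y.comap π := by
        rw [← hcU]; exact Subgroup.comap_mono hY.le
      have h2 : H ≠ Y.comap π := by
        intro h
        apply hY.ne
        rw [← Subgroup.map_comap_eq_self_of_surjective hπs Y, ← h]
      have h3 := hmax.2 _ (lt_of_le_of_ne h1 h2)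
      rw [← Subgroup.map_comap_eq_self_of_surjective hπs Y, h3, ← MonoidHom.range_eq_map,
        MonoidHom.range_eq_top.mpr hπs]
  have hUcore : U.normalCore = ⊥ := by
    have hn : (U.normalCore.comap π).Normal := (Subgroup.normalCore_normal U).comap π
    have h1 : U.normalCore.comap π ≤ H := by
      rw [← hcU]; exact Subgroup.comap_mono (Subgroup.normalCore_le U)
    have h2 : U.normalCore.comap π ≤ K := Subgroup.normal_le_normalCore.mpr h1
    rw [eq_bot_iff, ← Subgroup.map_comap_eq_self_of_surjective hπs U.normalCore]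
    intro y hy
    obtain ⟨x, hx, rfl⟩ := hy
    have : x ∈ π.ker := by rw [hker]; exact h2 hx
    exact this
  obtain ⟨A, r, a, hAn, hr, hsup, hinf, hidx, hrest⟩ := coreFree_structure U hUco hUcore
  set M : Subgroup G := A.comap π with hM
  have hMn : M.Normal := hAn.comap π
  have hKM : K ≤ M := by
    rw [← hker]; exact MonoidHom.ker_le_comap π A
  have hmapM : M.map π = A := Subgroup.map_comap_eq_self_of_surjective hπs A
  refine ⟨M, r, a, hMn, hKM, hr, ?_, ?_, ?_, ?_⟩
  · rw [← hcU, hM, Subgroup.comap_sup_eq _ _ _ hπs, hsup, Subgroup.comap_top]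
  · rw [← hcU, hM, ← Subgroup.comap_inf, hinf, MonoidHom.comap_bot, hker]
  · rw [← hcU, Subgroup.index_comap_of_surjective _ hπs, hidx]
  · intro hHM
    have hUne : U ≠ ⊥ := by
      intro h
      apply hHM
      rw [← hcU, h, MonoidHom.comap_bot, hker]
      exact hKM
    obtain ⟨B, q, b, hBn, hAB, hABne, hchief, hab, hq, hqr, hrel⟩ := hrest hUne
    set N : Subgroup G := B.comap π with hN
    have hmapN : N.map π = B := Subgroup.map_comap_eq_self_of_surjective hπs B
    refine ⟨N, q, b, hBn.comap π, Subgroup.comap_mono hAB, ?_, ?_, ?_, hq, hqr, ?_⟩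
    · intro h
      exact hABne (Subgroup.comap_injective hπs h)
    · intro Y hYn hMY hYN
      have hY'n : (Y.map π).Normal := hYn.map π hπs
      have h1 : A ≤ Y.map π := by
        rw [← hmapM]; exact Subgroup.map_mono hMY
      have h2 : Y.map π ≤ B := by
        rw [← hmapN]; exact Subgroup.map_mono hYN
      have hcm : (Y.map π).comap π = Y := by
        rw [Subgroup.comap_map_eq, hker]
        exact sup_eq_left.mpr (hKM.trans hMY)
      rcases hchief (Y.map π) hY'n h1 h2 with h | h
      · left; rw [← hcm, h]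
      · right; rw [← hcm, h]
    · intro x hx
      have h1 : π x ∈ (⁅N, N⁆).map π := Subgroup.mem_map_of_mem π hx
      rw [Subgroup.map_commutator, hmapN] at h1
      exact hab h1
    · rw [hM, hN, Subgroup.relIndex_comap, hmapN, hrel]

end Cfsg.Agent.Helper23.PrimSolv
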