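import Mathlib
import Cfsg.Prelude.Def_Blocks
import Cfsg.Prelude.Def_BlockLocal
import Cfsg.Prelude.Def_BrauerPairs
import Cfsg.Agent.Helper23.NormalPIndex
import Cfsg.Agent.Helper23.BlockTransport
import Cfsg.Agent.Helper5.ThirdMain

set_option autoImplicit false
set_option linter.unusedSectionVars false
set_option linter.unusedVariables false

/-!
# The principal block over a normal subgroup of `p`-power index
-/

namespace Cfsg.Agent.Helper23.PCov

open Cfsg Cfsg.Agent.Helper24 Cfsg.Agent.Helper5 Cfsg.Agent.Helper5.Loc Cfsg.Agent.Helper5.CC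
open Cfsg.Agent.Helper23.NS Cfsg.Agent.Helper23.NPI Cfsg.Agent.Helper23.BT

variable {G : Type*} [Group G] [Fintype G] {M : Ideal AlgInt}

/-- The principal block of a normal subgroup is stable under conjugation. -/
theorem isStable_principalBlock (N : Subgroup G) [hN : N.Normal] :
    IsStable N (principalBlock M N) := by
  intro θ hθ x
  have h := (sameBlock_comp_iff (M := M) (MulAut.conjNormal x : N ≃* N) (fun _ => (1 : ℂ))
    (θ : N → ℂ)).mpr hθ
  have e : (fun n : N => (θ : N → ℂ) ((MulAut.conjNormal x : N ≃* N) n)) =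
      (conjIrr N x θ : N → ℂ) := by
    funext n
    show _ = (θ : N → ℂ) ⟨x * n * x⁻¹, _⟩
    refine congrArg _ ?_
    apply Subtype.ext
    rw [MulAut.conjNormal_apply]
  rw [e] at h
  exact h

/-- **The principal block of `G` is the unique block covering the principal block of a normal
subgroup of `p`-power index.** -/
theorem principal_cover {p : ℕ} [hp : Fact p.Prime] (hM : IsPModular p M) (N : Subgroup G)
    [hN : N.Normal] [Fintype N] (hidx : ∃ k : ℕ, N.index = p ^ k) :
    (∀ χ ∈ principalBlock M G, ∀ θ : IrrCharacter N,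
      classInner (fun n : N => (χ : G → ℂ) n) (θ : N → ℂ) ≠ 0 → θ ∈ principalBlock M N) ∧
    (∀ χ : IrrCharacter G, (∀ θ : IrrCharacter N,
      classInner (fun n : N => (χ : G → ℂ) n) (θ : N → ℂ) ≠ 0 → θ ∈ principalBlock M N) →
      χ ∈ principalBlock M G) := by
  classical
  have hMp := isPrime_of_isPModular hM
  have : Fintype (IrrCharacter G) := Fintype.ofFinite _
  have : Fintype (IrrCharacter N) := Fintype.ofFinite _
  obtain ⟨B, hB, hBc, hcon⟩ := exists_block_eq_cut hM N hidx (principalBlock M N)
    isPBlock_principalBlock (isStable_principalBlock N)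
  have hmem : ∀ χ : IrrCharacter G, (∀ θ : IrrCharacter N,
      classInner (fun n : N => (χ : G → ℂ) n) (θ : N → ℂ) ≠ 0 → θ ∈ principalBlock M N) →
      χ ∈ B := by
    intro χ h
    have h1 := act_cutCoeff_of_subset N (principalBlock M N) χ h
    rw [← hBc, act_blockCoeff] at h1
    by_contra hcon'
    rw [if_neg hcon'] at h1
    exact zero_ne_one h1
  have htriv : trivIrr G ∈ B := by
    apply hmem
    intro θ hθ
    have h2 : θ = trivIrr N := by
      by_contra hne
      apply hθ
      have h3 := classInner_irr_ne (G := N) (χ := trivIrr N) (ψ := θ) (fun h => hne h.symm)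
      exact h3
    rw [h2]
    exact trivIrr_mem_principalBlock hMp
  have hBeq : B = principalBlock M G := by
    rw [IsPBlock_eq_blockOf hMp hB htriv,
      IsPBlock_eq_blockOf hMp isPBlock_principalBlock (trivIrr_mem_principalBlock hMp)]
  rw [← hBeq]
  refine ⟨?_, hmem⟩
  intro χ hχ θ hθ
  rw [← hcon]
  exact ⟨χ, hχ, hθ⟩

end Cfsg.Agent.Helper23.PCov
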