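import Mathlib
import Cfsg.Agent.Helper29.PsfDefs

set_option autoImplicit false

/-! S5876 piece IND: torsion submodules of distinct maximal ideals are independent. -/

namespace Cfsg.Agent.S5876P

open Matrix Module

/-- IND: the torsion submodules of the maximal ideals are independent (as `F`-subspaces). -/
theorem sSupIndep_torsion {F R V : Type*} [Field F] [CommRing R] [Algebra F R]
    [AddCommGroup V] [Module F V] [Module R V] [IsScalarTower F R V] :
    sSupIndep {W : Submodule F V | ∃ 𝔪 : Ideal R, 𝔪.IsMaximal ∧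
      W = (Submodule.torsionBySet R V (𝔪 : Set R)).restrictScalars F} := by
  intro a ha
  obtain ⟨𝔪, h𝔪, rfl⟩ := ha
  rw [Submodule.disjoint_def]
  intro x hx hx'
  have hx0 : ∀ r ∈ 𝔪, r • x = 0 := by
    intro r hr
    have := (Submodule.mem_torsionBySet_iff (R := R) (M := V) (𝔪 : Set R) x).mp hx
    exact this ⟨r, hr⟩
  -- every element of the supremum of the others is killed by some `r ∉ 𝔪`
  have key : ∃ r : R, r ∉ 𝔪 ∧ r • x = 0 := by
    rw [sSup_eq_iSup'] at hx'
    refine Submodule.iSup_induction _ (motive := fun y => ∃ r : R, r ∉ 𝔪 ∧ r • y = 0) hx'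
      ?_ ?_ ?_
    · rintro ⟨W, ⟨𝔪', h𝔪', rfl⟩, hne⟩ y hy
      have hy0 : ∀ r ∈ 𝔪', r • y = 0 := by
        intro r hr
        have := (Submodule.mem_torsionBySet_iff (R := R) (M := V) (𝔪' : Set R) y).mp hy
        exact this ⟨r, hr⟩
      have hne' : 𝔪' ≠ 𝔪 := by
        intro heq
        apply hne
        rw [Set.mem_singleton_iff, heq]
      have hnle : ¬ 𝔪' ≤ 𝔪 := fun hle => hne' (h𝔪'.eq_of_le h𝔪.ne_top hle)
      obtain ⟨r, hr, hr'⟩ := Set.not_subset.mp hnle
      exact ⟨r, hr', hy0 r hr⟩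
    · exact ⟨1, fun h1 => h𝔪.ne_top ((Ideal.eq_top_iff_one 𝔪).mpr h1), smul_zero _⟩
    · rintro y z ⟨r, hr, hry⟩ ⟨s, hs, hsz⟩
      refine ⟨r * s, fun hrs => ?_, ?_⟩
      · rcases h𝔪.isPrime.mem_or_mem hrs with h1 | h1
        · exact hr h1
        · exact hs h1
      · have e1 : (r * s) • y = 0 := by rw [mul_comm, mul_smul, hry, smul_zero]
        have e2 : (r * s) • z = 0 := by rw [mul_smul, hsz, smul_zero]
        rw [smul_add, e1, e2, add_zero]
  obtain ⟨r, hr, hrx⟩ := key
  obtain ⟨y, i, hi, hyi⟩ := h𝔪.exists_inv hr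
  calc x = (1 : R) • x := (one_smul R x).symm
    _ = (y * r + i) • x := by rw [hyi]
    _ = 0 := by rw [add_smul, mul_smul, hrx, smul_zero, hx0 i hi, add_zero]

end Cfsg.Agent.S5876P
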