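import Mathlib
import Cfsg.Agent.Helper29.PsfDefs

set_option autoImplicit false

/-! S5876 piece SIGMA: conjugation by `φ` on a normalised subalgebra of `End V`. -/

namespace Cfsg.Agent.S5876P

open Matrix Module

/-- SIGMA: conjugation by `φ` normalising the subalgebra `R` of `End V` is a ring
automorphism `σ` of `R`, and `φ` is `σ`-semilinear. -/
theorem exists_sigma {F V : Type*} [Field F] [AddCommGroup V] [Module F V]
    (R : Subalgebra F (Module.End F V)) (φ : V ≃ₗ[F] V)
    (h : ∀ r ∈ R, (φ : V →ₗ[F] V) ∘ₗ r ∘ₗ (φ.symm : V →ₗ[F] V) ∈ R)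
    (h' : ∀ r ∈ R, (φ.symm : V →ₗ[F] V) ∘ₗ r ∘ₗ (φ : V →ₗ[F] V) ∈ R) :
    ∃ σ : R ≃+* R, ∀ (r : R) (v : V), φ (r • v) = σ r • φ v := by
  let σ : R ≃+* R :=
    { toFun := fun r => ⟨(φ : V →ₗ[F] V) ∘ₗ (r : Module.End F V) ∘ₗ (φ.symm : V →ₗ[F] V), h r r.2⟩
      invFun := fun r =>
        ⟨(φ.symm : V →ₗ[F] V) ∘ₗ (r : Module.End F V) ∘ₗ (φ : V →ₗ[F] V), h' r r.2⟩
      left_inv := by
        intro r
        apply Subtype.ext
        apply LinearMap.ext
        intro v
        simp
      right_inv := by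
        intro r
        apply Subtype.ext
        apply LinearMap.ext
        intro v
        simp
      map_mul' := by
        intro r s
        apply Subtype.ext
        apply LinearMap.ext
        intro v
        simp [Module.End.mul_apply]
      map_add' := by
        intro r s
        apply Subtype.ext
        apply LinearMap.ext
        intro v
        simp }
  refine ⟨σ, fun r v => ?_⟩
  show φ ((r : Module.End F V) v) = ((φ : V →ₗ[F] V) ∘ₗ (r : Module.End F V) ∘ₗ
    (φ.symm : V →ₗ[F] V)) (φ v)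
  simp

end Cfsg.Agent.S5876P
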