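import Mathlib
import Cfsg.Agent.Helper1.QP63Defs
import Cfsg.Agent.Helper25.QPAlpha
import Cfsg.Agent.Helper23.QP2IF
import Cfsg.Agent.Helper23.QPTRANS

set_option autoImplicit false

/-! Board `s5063pieces`, piece C1NRM: `C₁ = ⟨𝒬(G) ∩ C(G₀)⟩` is normalised by `G`. -/

noncomputable section

namespace Cfsg.Agent.QP63

open Cfsg Cfsg.Agent.Helper25.QP Cfsg.Agent.Helper25.QuadPair Cfsg.Agent.QPP

variable {k : Type*} [Field k] {M : Type*} [AddCommGroup M] [Module k M]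

local notation "GLkM" => LinearMap.GeneralLinearGroup k M

/-- the generating set of `C₁` is invariant under conjugation by `G` -/
theorem C1NRM_aux_QC {G : Subgroup GLkM} {g σ : GLkM} (hg : g ∈ G) (hσ : σ ∈ QC G) :
    g * σ * g⁻¹ ∈ QC G := by
  refine ⟨Cfsg.Agent.QP2.IF1_quad hσ.1 hg, ?_⟩
  have hc : σ ∈ Subgroup.centralizer (G0 G : Set GLkM) := hσ.2
  show g * σ * g⁻¹ ∈ Subgroup.centralizer (G0 G : Set GLkM)
  rw [Subgroup.mem_centralizer_iff] at hc ⊢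
  intro x hx
  have hx' : g⁻¹ * x * g⁻¹⁻¹ ∈ G0 G :=
    Cfsg.Agent.QP2.IF1_gen_conj_mem (G.inv_mem hg) hx
  have h := hc _ hx'
  -- `(g⁻¹ x g) σ = σ (g⁻¹ x g)`
  have e1 : x * (g * σ * g⁻¹) = g * ((g⁻¹ * x * g⁻¹⁻¹) * σ) * g⁻¹ := by group
  have e2 : g * σ * g⁻¹ * x = g * (σ * (g⁻¹ * x * g⁻¹⁻¹)) * g⁻¹ := by group
  rw [e1, e2, h]

theorem C1NRM_aux_le {G : Subgroup GLkM} {g : GLkM} (hg : g ∈ G) : conjBy (C1 G) g ≤ C1 G := by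
  unfold C1
  show Subgroup.map _ _ ≤ _
  rw [MonoidHom.map_closure, Subgroup.closure_le]
  rintro _ ⟨σ, hσ, rfl⟩
  apply Subgroup.subset_closure
  exact C1NRM_aux_QC hg hσ

theorem C1NRM (G : Subgroup GLkM) : ∀ g ∈ G, conjBy (C1 G) g = C1 G := by
  intro g hg
  apply le_antisymm (C1NRM_aux_le hg)
  intro x hx
  have h1 : g⁻¹ * x * g⁻¹⁻¹ ∈ conjBy (C1 G) g⁻¹ := ⟨x, hx, rfl⟩
  have h2 := C1NRM_aux_le (G.inv_mem hg) h1
  refine ⟨g⁻¹ * x * g⁻¹⁻¹, h2, ?_⟩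
  show g * (g⁻¹ * x * g⁻¹⁻¹) * g⁻¹ = x
  group

end Cfsg.Agent.QP63

end
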