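import Mathlib
import Cfsg.Agent.Helper18.QP74Defs
import Cfsg.Agent.Helper18.QP68Main
import Cfsg.Agent.Helper23.QPTRANS

/-! Board `s5074pieces`, piece HOPP: every member of `𝒬_d` has an opposite partner in `𝒬_d`. -/

set_option autoImplicit false
set_option linter.unusedVariables false

noncomputable section

universe u v

namespace Cfsg.Agent.QP74

open Cfsg Cfsg.Agent.Helper25.QP Cfsg.Agent.Helper25.QuadPair Cfsg.Agent.QPP Cfsg.Agent.QP68

variable {k : Type u} [Field k] {M : Type v} [AddCommGroup M] [Module k M]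

local notation "GLkM" => LinearMap.GeneralLinearGroup k M

/-- for an opposite pair `(x, y)` with `x ≠ 0` the product `y x y` is not zero -/
theorem HOPP_aux_ne {x y : Module.End k M} (hopp : OppPair x y) (hx0 : x ≠ 0) : y * x * y ≠ 0 := by
  intro hyxy
  obtain ⟨h1, h2⟩ := hopp
  have hy0 : y = 0 := by
    apply LinearMap.ext
    intro m
    have e1 : x (y m) ∈ LinearMap.ker y ⊓ LinearMap.range x := by
      refine ⟨LinearMap.mem_ker.2 ?_, ⟨y m, rfl⟩⟩
      have := LinearMap.congr_fun hyxy m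
      simpa using this
    rw [h2.inf_eq_bot, Submodule.mem_bot] at e1
    have e2 : y m ∈ LinearMap.ker x ⊓ LinearMap.range y := ⟨LinearMap.mem_ker.2 e1, ⟨m, rfl⟩⟩
    rw [h1.inf_eq_bot, Submodule.mem_bot] at e2
    simpa using e2
  have htop : LinearMap.ker x = ⊤ := by
    have := h1.sup_eq_top
    rw [hy0, LinearMap.range_zero, sup_bot_eq] at this
    exact this
  exact hx0 (LinearMap.ker_eq_top.1 htop)

/-- HOPP: the opposite partner, from the quadratic pair. -/
theorem HOPP [FiniteDimensional k M] (hk2 : ringChar k ≠ 2) {G : Subgroup GLkM}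
    (hG : IsIrreducibleFor G) (H : H65 G) {σ : GLkM} (hσ : σ ∈ minimalQuadraticElements G) :
    HOpp G (commutatorRank σ) := by
  intro x hx
  obtain ⟨hmin, hqσ⟩ := TRANS_Qd hσ
  -- `x ≠ 0`
  have hσ0 : (σ : Module.End k M) - 1 ≠ 0 := hσ.1.2.1.2
  have hd0 : commutatorRank σ ≠ 0 := by
    intro h0
    have hr : Module.finrank k (LinearMap.range ((σ : Module.End k M) - 1)) = 0 := by
      rw [hqσ.2]; exact h0
    have hbot : LinearMap.range ((σ : Module.End k M) - 1) = ⊥ := Submodule.finrank_eq_zero.mp hr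
    exact hσ0 (LinearMap.range_eq_bot.mp hbot)
  have hx0 : x ≠ 0 := by
    intro h
    have := hx.2
    rw [h, LinearMap.range_zero, finrank_bot] at this
    exact hd0 this.symm
  -- the root element `ρ = 1 + x`
  set ρ : GLkM := unipUnit x hx.1.1 with hρdef
  have hval : (ρ : Module.End k M) - 1 = x := by
    rw [hρdef, val_unipUnit]; abel
  have hval' : ((ρ : M →ₗ[k] M) - 1) = x := hval
  have hQ : ρ ∈ quadraticElements G := QFam.mem_quadraticElements hx.1 hx0
  have hrk : commutatorRank ρ = commutatorRank σ := by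
    unfold commutatorRank
    rw [hval']; exact hx.2
  have hρ : ρ ∈ minimalQuadraticElements G := by
    refine ⟨hQ, fun τ hτ => ?_⟩
    rw [hrk]
    exact hσ.2 τ hτ
  obtain ⟨g, hg, hnu⟩ := OPPN hG (fun A hA => SIG_le hA) (fun A hA => SIG_ne_bot hA)
    (fun A hA g hg => SIG_conj hA hg) (SIG_mem hρ)
  obtain ⟨hτ, hconj⟩ := ROOT_conj hρ hg
  rw [hconj] at hnu
  have hN : ¬ AllUnip (sameActionSubgroup G ρ) (sameActionSubgroup G (g * ρ * g⁻¹)) :=
    fun h => hnu (H.unip ρ (g * ρ * g⁻¹) hρ hτ h)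
  have hopp := H.opp ρ (g * ρ * g⁻¹) hρ hτ hN
  rw [hval] at hopp
  refine ⟨((g * ρ * g⁻¹ : GLkM) : Module.End k M) - 1, ?_, HOPP_aux_ne hopp hx0⟩
  have := (TRANS_Qd hτ).2
  rwa [← TRANS_rank hρ hτ, hrk] at this

end Cfsg.Agent.QP74

end
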