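import Mathlib
import Cfsg.Prelude.Def_Characters
import Cfsg.Agent.Helper23.QuasiPrimA
import Cfsg.Agent.Helper23.PrimSolv
import Cfsg.Agent.Helper24.GoingDown
import Cfsg.Agent.Helper24.FullyRamified
import Cfsg.Agent.Helper5.IndFun

/-!
S0890: a character induced from a maximal subgroup `H`, irreducible on a normal subgroup `L ≤ H`
with `G / L` solvable, is not quasi-primitive above `L`.
-/

set_option autoImplicit false
set_option linter.unusedSectionVars false
set_option linter.unusedVariables false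
set_option linter.style.haveILetI false
set_option linter.unnecessarySimpa false
set_option maxHeartbeats 1600000

namespace Cfsg.Agent.Helper23.QuasiPrim

open Cfsg Cfsg.Agent.Helper24

universe u

variable {G : Type u} [Group G] [Fintype G]

/-- first half: if all restrictions to normal subgroups above `L` are homogeneous, then
`χ_M = e φ` with `e² = |G : H|` and `φ` restricts to `e θ` on `H ∩ M`. -/
theorem first_half (L H M : Subgroup G) [hLn : L.Normal] [hMn : M.Normal]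
    [hKn : (H ⊓ M).Normal] [Fintype H] [Fintype M] [Fintype ↥(H ⊓ M)]
    (hLH : L ≤ H) (hLM : L ≤ M) (hsup : H ⊔ M = ⊤)
    (ϑ : H → ℂ) (hϑ : IsIrrCharacter H ϑ)
    (hϑL : IsIrrCharacter L (fun x : L => ϑ ⟨(x : G), hLH x.2⟩))
    (hind : IsIrrCharacter G (indFun H ϑ))
    (hcon : ∀ Y : Subgroup G, Y.Normal → L ≤ Y → ∃ (φ : Y → ℂ) (e : ℕ), IsIrrCharacter Y φ ∧
      (fun m : Y => indFun H ϑ m) = (e : ℂ) • φ) :
    ∃ (φ : M → ℂ) (e : ℕ), IsIrrCharacter M φ ∧ e ≠ 0 ∧
      (fun m : M => indFun H ϑ m) = (e : ℂ) • φ ∧ e ^ 2 = H.index ∧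
      (fun x : ↥(H ⊓ M) => φ ⟨(x : G), (Subgroup.mem_inf.mp x.2).2⟩) =
        (e : ℂ) • (fun x : ↥(H ⊓ M) => ϑ ⟨(x : G), (Subgroup.mem_inf.mp x.2).1⟩) := by
  classical
  haveI : Fintype (IrrCharacter M) := Fintype.ofFinite _
  haveI : Fintype (IrrCharacter ↥(H ⊓ M)) := Fintype.ofFinite _
  haveI : Fintype (IrrCharacter H) := Fintype.ofFinite _
  set χ : G → ℂ := indFun H ϑ with hχdef
  have hLK' : L ≤ H ⊓ M := le_inf hLH hLM
  -- degrees
  obtain ⟨d, hd0, hd⟩ := isIrrCharacter_one hϑ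
  have hχ1 : χ 1 = (H.index : ℂ) * (d : ℂ) := by
    rw [hχdef, Helper5.indFun_apply_one, hd]
  have hχ1ne : χ 1 ≠ 0 := by
    rw [hχ1]
    have h1 : H.index ≠ 0 := Subgroup.index_ne_zero_of_finite
    have h2 : (H.index : ℂ) ≠ 0 := by exact_mod_cast h1
    have h3 : (d : ℂ) ≠ 0 := by exact_mod_cast hd0.ne'
    exact mul_ne_zero h2 h3
  obtain ⟨φ, e, hφ, hχM⟩ := hcon M hMn hLM
  have hχφ : ∀ x : M, χ x = (e : ℂ) * φ x := fun x => congrFun hχM x
  have he0 : e ≠ 0 := by
    rintro rfl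
    have := hχφ 1
    simp only [Nat.cast_zero, zero_mul] at this
    exact hχ1ne this
  have heC : (e : ℂ) ≠ 0 := by exact_mod_cast he0
  have hφinv := invariant_of_restrict_eq_smul M χ φ hind e he0 hχM
  set θ : ↥(H ⊓ M) → ℂ := fun x => ϑ ⟨(x : G), (Subgroup.mem_inf.mp x.2).1⟩ with hθdef
  set φK : ↥(H ⊓ M) → ℂ := fun x => φ ⟨(x : G), (Subgroup.mem_inf.mp x.2).2⟩ with hφKdef
  have hθ : IsIrrCharacter ↥(H ⊓ M) θ :=
    isIrrCharacter_restrict_of_restrict H (IsIrrCharacter.isCharacter hϑ) L (H ⊓ M) hLK'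
      inf_le_left hϑL
  -- the Mackey pairing
  have h3 := classInner_restrict_indFun M H hsup ϑ φ hφinv
  have hLHS : classInner (fun n : M => indFun H ϑ n) φ = e := by
    rw [show (fun n : M => indFun H ϑ n) = (e : ℂ) • φ from hχM, classInner_smul_left,
      classInner_irr_self ⟨φ, hφ⟩, mul_one]
  rw [hLHS] at h3
  have h3' : classInner θ φK = e := h3.symm
  -- homogeneity on `H ⊓ M`
  obtain ⟨φ₀, a₀, hφ₀, hχK⟩ := hcon (H ⊓ M) hKn hLK'
  have hφK : (e : ℂ) • φK = (a₀ : ℂ) • φ₀ := by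
    funext x
    have h1 := congrFun hχK x
    have h2 := hχφ ⟨(x : G), (Subgroup.mem_inf.mp x.2).2⟩
    simp only [Pi.smul_apply, smul_eq_mul] at h1 ⊢
    rw [← h1]
    exact h2.symm
  have h4 : classInner θ ((e : ℂ) • φK) = (e : ℂ) * (e : ℂ) := by
    rw [classInner_smul_right, h3', Complex.conj_natCast]
  rw [hφK, classInner_smul_right, Complex.conj_natCast] at h4
  have hθφ₀ne : classInner θ φ₀ ≠ 0 := by
    intro h0
    rw [h0, mul_zero] at h4
    exact mul_ne_zero heC heC h4.symm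
  have hθφ₀ : θ = φ₀ := by
    by_contra hne
    apply hθφ₀ne
    rw [classInner_of_isIrrCharacter hθ hφ₀, if_neg hne]
  rw [← hθφ₀, classInner_irr_self ⟨θ, hθ⟩, mul_one] at h4
  rw [← hθφ₀, h4] at hφK
  have hφKθ : φK = (e : ℂ) • θ := by
    funext x
    have := congrFun hφK x
    simp only [Pi.smul_apply, smul_eq_mul] at this ⊢
    rw [mul_assoc] at this
    exact mul_left_cancel₀ heC this
  -- degrees
  have hθ1 : θ 1 = (d : ℂ) := by
    simp only [hθdef]
    exact hd
  have hsq : e ^ 2 = H.index := by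
    have h5 := hχφ 1
    have h6 : φ 1 = φK 1 := rfl
    have h7 := congrFun hφKθ 1
    simp only [Pi.smul_apply, smul_eq_mul] at h7
    have h8 : χ ((1 : M) : G) = χ 1 := rfl
    rw [h8, hχ1, h6, h7, hθ1] at h5
    have h9 : (d : ℂ) ≠ 0 := by exact_mod_cast hd0.ne'
    have h10 : (H.index : ℂ) = (e : ℂ) * (e : ℂ) := by
      have : (H.index : ℂ) * (d : ℂ) = ((e : ℂ) * (e : ℂ)) * (d : ℂ) := by rw [h5]; ring
      exact mul_right_cancel₀ h9 this
    have h11 : ((H.index : ℕ) : ℂ) = ((e * e : ℕ) : ℂ) := by rw [h10]; push_cast; ring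
    have h12 : H.index = e * e := by exact_mod_cast h11
    rw [h12, sq]
  exact ⟨φ, e, hφ, he0, hχM, hsq, hφKθ⟩

/-- arithmetic: `c ∣ e`, `e² = r^a`, `c² = q^b` with distinct primes `q ≠ r` forces `c = 1`. -/
theorem eq_one_of_coprime_powers {c e r a q b : ℕ} (hr : r.Prime) (hq : q.Prime) (hqr : q ≠ r)
    (hce : c ∣ e) (he : e ^ 2 = r ^ a) (hc : c ^ 2 = q ^ b) : c = 1 := by
  have h1 : c ∣ r ^ a := by
    rw [← he]
    exact dvd_trans hce (dvd_pow_self e two_ne_zero)
  obtain ⟨i, -, hi⟩ := (Nat.dvd_prime_pow hr).mp h1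
  rcases Nat.eq_zero_or_pos i with h0 | hpos
  · rw [hi, h0, pow_zero]
  · exfalso
    have h2 : r ∣ c := by
      rw [hi]
      exact dvd_pow_self r hpos.ne'
    have h3 : r ∣ q ^ b := by
      rw [← hc]
      exact dvd_trans h2 (dvd_pow_self c two_ne_zero)
    have h4 : r ∣ q := hr.dvd_of_dvd_pow h3
    have h5 : r = q := (Nat.prime_dvd_prime_iff_eq hr hq).mp h4
    exact hqr h5.symm

/-- second step: over an abelian chief factor `N / M` of order prime to `e`, the homogeneous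
component `η` of `χ_N` restricts irreducibly to `M`. -/
theorem second_step (M N : Subgroup G) [hMn : M.Normal] [hNn : N.Normal] [Fintype M] [Fintype N]
    (hMN : M < N)
    (hchief : ∀ Y : Subgroup G, Y.Normal → M ≤ Y → Y ≤ N → Y = M ∨ Y = N) (hab : ⁅N, N⁆ ≤ M)
    {r a q b : ℕ} (hr : r.Prime) (hq : q.Prime) (hqr : q ≠ r) (hrel : M.relIndex N = q ^ b)
    (χ : G → ℂ) (hχ : IsIrrCharacter G χ)
    (φ : M → ℂ) (e : ℕ) (hφ : IsIrrCharacter M φ) (he0 : e ≠ 0)
    (hχM : (fun m : M => χ m) = (e : ℂ) • φ) (hsq : e ^ 2 = r ^ a)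
    (η : N → ℂ) (f : ℕ) (hη : IsIrrCharacter N η) (hχN : (fun n : N => χ n) = (f : ℂ) • η) :
    f = e ∧ (fun x : M => η ⟨(x : G), hMN.le x.2⟩) = φ := by
  classical
  haveI : Fintype (IrrCharacter M) := Fintype.ofFinite _
  have heC : (e : ℂ) ≠ 0 := by exact_mod_cast he0
  have hχφ : ∀ x : M, χ x = (e : ℂ) * φ x := fun x => congrFun hχM x
  have hχη : ∀ x : N, χ x = (f : ℂ) * η x := fun x => congrFun hχN x
  have hf0 : f ≠ 0 := by
    rintro rfl
    have h1 := hχη 1
    have h2 := hχφ 1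
    simp only [Nat.cast_zero, zero_mul] at h1
    have h3 : χ ((1 : N) : G) = χ ((1 : M) : G) := rfl
    rw [h3, h2] at h1
    obtain ⟨d, hd0, hd⟩ := isIrrCharacter_one hφ
    rw [hd] at h1
    have h4 : (d : ℂ) ≠ 0 := by exact_mod_cast hd0.ne'
    exact mul_ne_zero heC h4 h1
  have hfC : (f : ℂ) ≠ 0 := by exact_mod_cast hf0
  have hηinv := invariant_of_restrict_eq_smul N χ η hχ f hf0 hχN
  set ηM : M → ℂ := fun x => η ⟨(x : G), hMN.le x.2⟩ with hηMdef
  have hηMchar : IsCharacter M ηM :=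
    Helper8.isCharacter_comp (Subgroup.inclusion hMN.le) (IsIrrCharacter.isCharacter hη)
  have hrelη : (f : ℂ) • ηM = (e : ℂ) • φ := by
    funext x
    simp only [Pi.smul_apply, smul_eq_mul]
    rw [← hχφ x]
    exact (hχη ⟨(x : G), hMN.le x.2⟩).symm
  obtain ⟨c, hc⟩ := IsCharacter.classInner_nat hηMchar (IsIrrCharacter.isCharacter hφ)
  have hfc : f * c = e := by
    have h1 : classInner ((f : ℂ) • ηM) φ = classInner ((e : ℂ) • φ) φ := by rw [hrelη]
    rw [classInner_smul_left, classInner_smul_left, hc, classInner_irr_self ⟨φ, hφ⟩, mul_one] at h1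
    exact_mod_cast h1
  have hc0 : c ≠ 0 := by
    rintro rfl
    rw [mul_zero] at hfc
    exact he0 hfc.symm
  have hcC : classInner ηM φ ≠ 0 := by
    rw [hc]
    exact_mod_cast hc0
  have hc1 : c = 1 := by
    rcases GoingDown.going_down N M hMN hchief hab η hη hηinv with hirr | hram | hsplit
    · -- irreducible restriction
      have hirr' : IsIrrCharacter M ηM := hirr
      have heq : ηM = φ := by
        by_contra hne
        apply hcC
        rw [classInner_of_isIrrCharacter hirr' hφ, if_neg hne]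
      have h1 : classInner ηM φ = 1 := by
        rw [heq]; exact classInner_irr_self ⟨φ, hφ⟩
      rw [hc] at h1
      exact_mod_cast h1
    · -- fully ramified
      obtain ⟨φ', e', hφ', hηM', he'⟩ := hram
      have hηM'' : ηM = (e' : ℂ) • φ' := hηM'
      have h1 : classInner ηM φ = (e' : ℂ) * classInner φ' φ := by
        rw [hηM'', classInner_smul_left]
      have hφ'φ : φ' = φ := by
        by_contra hne
        apply hcC
        rw [h1, classInner_of_isIrrCharacter hφ' hφ, if_neg hne, mul_zero]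
      rw [hφ'φ, classInner_irr_self ⟨φ, hφ⟩, mul_one, hc] at h1
      have hce' : c = e' := by exact_mod_cast h1
      have hcsq : c ^ 2 = q ^ b := by rw [hce', he', hrel]
      exact eq_one_of_coprime_powers hr hq hqr (Dvd.intro_left f hfc) hsq hcsq
    · -- splitting
      obtain ⟨F, hF, -, hηM'⟩ := hsplit
      have hηM'' : ηM = ∑ ψ ∈ F, ψ := hηM'
      have h1 : classInner ηM φ = ∑ ψ ∈ F, classInner ψ φ := by
        rw [hηM'', classInner_sum_left]
      have h2 : ∀ ψ ∈ F, classInner ψ φ = if ψ = φ then 1 else 0 :=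
        fun ψ hψ => classInner_of_isIrrCharacter (hF ψ hψ) hφ
      rw [Finset.sum_congr rfl h2, Finset.sum_ite_eq'] at h1
      by_cases hmem : φ ∈ F
      · rw [if_pos hmem, hc] at h1
        exact_mod_cast h1
      · rw [if_neg hmem] at h1
        exact absurd h1 hcC
  rw [hc1, mul_one] at hfc
  refine ⟨hfc, ?_⟩
  rw [hfc] at hrelη
  funext x
  have := congrFun hrelη x
  simp only [Pi.smul_apply, smul_eq_mul] at this
  exact mul_left_cancel₀ heC this

/-- **S0890.** -/
theorem main (L H : Subgroup G) [hLn : L.Normal] (hLH : L ≤ H) (hmax : IsCoatom H)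
    (hsolv : Group.IsSolvable (G ⧸ L)) (ϑ : H → ℂ) (hϑ : IsIrrCharacter H ϑ)
    (hϑL : IsIrrCharacter L (fun x : L => ϑ ⟨(x : G), hLH x.2⟩))
    (hind : IsIrrCharacter G (indFun H ϑ)) :
    ∃ M : Subgroup G, M.Normal ∧ L ≤ M ∧ ¬ ∃ (φ : M → ℂ) (e : ℕ), IsIrrCharacter M φ ∧
      (fun m : M => indFun H ϑ m) = (e : ℂ) • φ := by
  classical
  by_contra hcon'
  have hcon : ∀ Y : Subgroup G, Y.Normal → L ≤ Y → ∃ (φ : Y → ℂ) (e : ℕ), IsIrrCharacter Y φ ∧
      (fun m : Y => indFun H ϑ m) = (e : ℂ) • φ := by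
    intro Y hYn hLY
    by_contra h
    exact hcon' ⟨Y, hYn, hLY, h⟩
  set χ : G → ℂ := indFun H ϑ with hχdef
  have hχcf : IsClassFunction G χ := IsCharacter.isClassFunction (IsIrrCharacter.isCharacter hind)
  obtain ⟨M, r, a, hMn, hKM, hr, hsup, hinf, hidx, hrest⟩ :=
    PrimSolv.maximal_structure L H hLH hmax hsolv
  haveI := hMn
  have hLK : L ≤ H.normalCore := Subgroup.normal_le_normalCore.mpr hLH
  have hLM : L ≤ M := hLK.trans hKM
  haveI hK'n : (H ⊓ M).Normal := by rw [hinf]; exact Subgroup.normalCore_normal H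
  haveI : Fintype H := Fintype.ofFinite _
  haveI : Fintype M := Fintype.ofFinite _
  haveI : Fintype ↥(H ⊓ M) := Fintype.ofFinite _
  haveI : Fintype (IrrCharacter H) := Fintype.ofFinite _
  haveI : Fintype (IrrCharacter G) := Fintype.ofFinite _
  obtain ⟨φ, e, hφ, he0, hχM, hsq, hφK⟩ :=
    first_half L H M hLH hLM hsup ϑ hϑ hϑL hind hcon
  have heC : (e : ℂ) ≠ 0 := by exact_mod_cast he0
  have hχφ : ∀ x : M, χ x = (e : ℂ) * φ x := fun x => congrFun hχM x
  by_cases hHM : H ≤ M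
  · -- then `e = 1`, so `H = G`
    have h5 := Helper8.frobenius_reciprocity H ϑ χ hχcf
    rw [classInner_irr_self ⟨χ, hind⟩] at h5
    set φH : H → ℂ := fun h => φ ⟨(h : G), hHM h.2⟩ with hφHdef
    have hφHchar : IsCharacter H φH :=
      Helper8.isCharacter_comp (Subgroup.inclusion hHM) (IsIrrCharacter.isCharacter hφ)
    have hres : (fun h : H => χ h) = (e : ℂ) • φH := by
      funext h
      simp only [Pi.smul_apply, smul_eq_mul]
      exact hχφ ⟨(h : G), hHM h.2⟩
    obtain ⟨m, hm⟩ := IsCharacter.classInner_nat (IsIrrCharacter.isCharacter hϑ) hφHchar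
    rw [hres, classInner_smul_right, Complex.conj_natCast, hm] at h5
    have h6 : e * m = 1 := by exact_mod_cast h5.symm
    have he1 : e = 1 := Nat.eq_one_of_mul_eq_one_right h6
    rw [he1, one_pow] at hsq
    exact hmax.1 (Subgroup.index_eq_one.mp hsq.symm)
  · obtain ⟨N, q, b, hNn, hMN, hMNne, hchief, hab, hq, hqr, hrel⟩ := hrest hHM
    haveI := hNn
    haveI : Fintype N := Fintype.ofFinite _
    haveI : Fintype ↥(H ⊓ N) := Fintype.ofFinite _
    have hLN : L ≤ N := hLM.trans hMN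
    have hMltN : M < N := lt_of_le_of_ne hMN hMNne
    obtain ⟨η, f, hη, hχN⟩ := hcon N hNn hLN
    have hsq' : e ^ 2 = r ^ a := by rw [hsq, hidx]
    obtain ⟨hfe, hηM⟩ := second_step M N hMltN hchief hab hr hq hqr hrel χ hind φ e hφ he0 hχM
      hsq' η f hη hχN
    subst hfe
    have hηinv := invariant_of_restrict_eq_smul N χ η hind f he0 hχN
    have hsupN : H ⊔ N = ⊤ := by
      apply top_le_iff.mp
      rw [← hsup]
      exact sup_le_sup_left hMN H
    -- the Mackey pairing over `N`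
    have h7 := classInner_restrict_indFun N H hsupN ϑ η hηinv
    have hLHS : classInner (fun n : N => indFun H ϑ n) η = f := by
      rw [show (fun n : N => indFun H ϑ n) = (f : ℂ) • η from hχN, classInner_smul_left,
        classInner_irr_self ⟨η, hη⟩, mul_one]
    rw [hLHS] at h7
    set ϑ₁ : ↥(H ⊓ N) → ℂ := fun x => ϑ ⟨(x : G), (Subgroup.mem_inf.mp x.2).1⟩ with hϑ₁def
    set ηQ : ↥(H ⊓ N) → ℂ := fun x => η ⟨(x : G), (Subgroup.mem_inf.mp x.2).2⟩ with hηQdef
    have hϑ₁ : IsIrrCharacter ↥(H ⊓ N) ϑ₁ :=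
      isIrrCharacter_restrict_of_restrict H (IsIrrCharacter.isCharacter hϑ) L (H ⊓ N)
        (le_inf hLH hLN) inf_le_left hϑL
    have hηQchar : IsCharacter ↥(H ⊓ N) ηQ :=
      Helper8.isCharacter_comp (Subgroup.inclusion (inf_le_right : H ⊓ N ≤ N))
        (IsIrrCharacter.isCharacter hη)
    have h8 : classInner ηQ ϑ₁ = f := by
      rw [← classInner_conj_symm, ← h7, Complex.conj_natCast]
    obtain ⟨k, hk, hfk⟩ := sq_le_classInner_self hηQchar hϑ₁ f h8
    have hsumQ := sum_normSq_of_classInner k hk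
    have hcardN : Nat.card N = H.index * Nat.card ↥(H ⊓ N) :=
      card_eq_index_mul_card_inf N H hsupN
    have hnorm : (Nat.card N : ℝ) ≤
        ∑ x : ↥(H ⊓ N), Complex.normSq (η ⟨(x : G), (Subgroup.mem_inf.mp x.2).2⟩) := by
      have h9 : ∑ x : ↥(H ⊓ N), Complex.normSq (η ⟨(x : G), (Subgroup.mem_inf.mp x.2).2⟩) =
          (k : ℝ) * (Nat.card ↥(H ⊓ N) : ℝ) := hsumQ
      rw [h9, hcardN, ← hsq]
      push_cast
      have h10 : ((f : ℝ)) ^ 2 ≤ (k : ℝ) := by exact_mod_cast hfk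
      exact mul_le_mul_of_nonneg_right h10 (Nat.cast_nonneg _)
    have hconj := conj_mem_of_ne_zero N H η hη hnorm
    -- the support of `η` lies in `H ⊓ M`
    have hsupp : ∀ n : N, η n ≠ 0 → (n : G) ∈ H ⊓ M := by
      intro n hn
      have h1 := hconj n hn
      rw [hinf]
      show ∀ g : G, g * (n : G) * g⁻¹ ∈ H
      intro g
      have hg : g⁻¹ ∈ N ⊔ H := by
        rw [sup_comm, hsupN]; exact Subgroup.mem_top _
      obtain ⟨t, ht, h, hh, hth⟩ := Subgroup.mem_sup_of_normal_left.mp hg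
      have h2 := h1 ⟨t, ht⟩
      have h3 : g * (n : G) * g⁻¹ = h⁻¹ * (t⁻¹ * (n : G) * t) * h := by
        have hg' : g = h⁻¹ * t⁻¹ := by
          rw [← inv_inv g, ← hth, mul_inv_rev]
        rw [hg']
        group
      rw [h3]
      exact H.mul_mem (H.mul_mem (H.inv_mem hh) h2) hh
    have hKN : H ⊓ M ≤ N := inf_le_right.trans hMN
    have hsumN : ∑ n : N, Complex.normSq (η n) = (Nat.card N : ℝ) := sum_normSq_irr hη
    have hsumN' := sum_eq_sum_of_support N (H ⊓ M) hKN (fun n => Complex.normSq (η n))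
      (fun n hn => hsupp n (fun h0 => hn (by simp only [h0, map_zero])))
    rw [hsumN] at hsumN'
    set θ : ↥(H ⊓ M) → ℂ := fun x => ϑ ⟨(x : G), (Subgroup.mem_inf.mp x.2).1⟩ with hθdef
    have hθ : IsIrrCharacter ↥(H ⊓ M) θ :=
      isIrrCharacter_restrict_of_restrict H (IsIrrCharacter.isCharacter hϑ) L (H ⊓ M)
        (le_inf hLH hLM) inf_le_left hϑL
    have hterm : ∀ x : ↥(H ⊓ M), Complex.normSq (η ⟨(x : G), hKN x.2⟩) =
        (f : ℝ) ^ 2 * Complex.normSq (θ x) := by
      intro x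
      have h1 : η ⟨(x : G), hKN x.2⟩ = φ ⟨(x : G), (Subgroup.mem_inf.mp x.2).2⟩ :=
        congrFun hηM ⟨(x : G), (Subgroup.mem_inf.mp x.2).2⟩
      have h2 := congrFun hφK x
      simp only [Pi.smul_apply, smul_eq_mul] at h2
      rw [h1, h2, Complex.normSq_mul, Complex.normSq_natCast]
      ring
    simp_rw [hterm] at hsumN'
    rw [← Finset.mul_sum, sum_normSq_irr hθ] at hsumN'
    have hcardM : Nat.card M = H.index * Nat.card ↥(H ⊓ M) :=
      card_eq_index_mul_card_inf M H hsup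
    have hNM : Nat.card N = Nat.card M := by
      have h1 : (Nat.card N : ℝ) = ((f ^ 2 * Nat.card ↥(H ⊓ M) : ℕ) : ℝ) := by
        rw [hsumN']; push_cast; ring
      have h2 : Nat.card N = f ^ 2 * Nat.card ↥(H ⊓ M) := by exact_mod_cast h1
      rw [h2, hcardM, hsq]
    exact hMNne (Subgroup.eq_of_le_of_card_ge hMN hNM.le)

end Cfsg.Agent.Helper23.QuasiPrim
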