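import Mathlib
import Cfsg.Prelude.Def_Blocks
import Cfsg.Prelude.Def_BlockRank
import Cfsg.Agent.Helper5.QuotP
import Cfsg.Agent.Helper5.ThirdMain
import Cfsg.Agent.Helper8.RankTrace
import Cfsg.Agent.Helper23.PrincipalBlock

/-!
# The `p`-regular rank of the principal block of `G` and of `G ⧸ Q`

For a normal `p`-subgroup `Q` centralized by every `p`-regular element (for instance when
`G = Q C_G(Q)`), inflation matches the principal blocks of `G ⧸ Q` and of `G` on the level of
`p`-regular restrictions, and the two principal blocks have the same `p`-regular rank.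
-/

set_option autoImplicit false
set_option linter.unusedSectionVars false
set_option linter.unusedVariables false

namespace Cfsg.Agent.Helper23.QR

open Cfsg Cfsg.Agent.Helper24 Cfsg.Agent.Helper5 Cfsg.Agent.Helper5.Loc Cfsg.Agent.Helper5.CC
open Cfsg.Agent.Helper8.RankTr

variable {G : Type*} [Group G] [Fintype G] {M : Ideal AlgInt} {p : ℕ} [hp : Fact p.Prime]

/-- `p`-regular elements centralize a normal `p`-subgroup `Q` with `G = Q C_G(Q)`. -/
theorem regular_mem_centralizer (Q : Subgroup G) [hQn : Q.Normal] (hQ : IsPGroup p Q)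
    (hsup : Q ⊔ Subgroup.centralizer (Q : Set G) = ⊤) (g : G) (hg : ¬ p ∣ orderOf g) :
    g ∈ Subgroup.centralizer (Q : Set G) := by
  have hCn : (Subgroup.centralizer (Q : Set G)).Normal := Subgroup.normal_centralizer
  refine mem_of_regular_of_index_pow (Subgroup.centralizer (Q : Set G)) ?_ g hg
  have h1 : (Subgroup.centralizer (Q : Set G)).index =
      (Subgroup.centralizer (Q : Set G)).relIndex Q := by
    rw [← Subgroup.relIndex_top_right, ← hsup, Subgroup.relIndex_sup_right]
  rw [h1]
  exact hQ.index _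

variable (Q : Subgroup G) [hQn : Q.Normal]

theorem regular_mk {g : G} (hg : ¬ p ∣ orderOf g) : ¬ p ∣ orderOf (g : G ⧸ Q) := by
  intro h
  apply hg
  exact dvd_trans h (orderOf_dvd_of_pow_eq_one (by
    rw [← QuotientGroup.mk_pow, pow_orderOf_eq_one, QuotientGroup.mk_one]))

/-- Inflate along `G → G ⧸ Q`, then truncate to the `p`-regular elements. -/
noncomputable def inflTrunc (p : ℕ) : (G ⧸ Q → ℂ) →ₗ[ℂ] (G → ℂ) :=
  (truncL p).comp (LinearMap.funLeft ℂ ℂ (fun g : G => (g : G ⧸ Q)))

theorem inflTrunc_apply (f : G ⧸ Q → ℂ) (g : G) :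
    inflTrunc Q p f g = if p ∣ orderOf g then (0 : ℂ) else f (g : G ⧸ Q) := by
  unfold inflTrunc
  rw [LinearMap.comp_apply, truncL_apply, pRegularPart_fun]
  simp only [LinearMap.funLeft_apply, one_mul]

theorem inflTrunc_pRegularPart (f : G ⧸ Q → ℂ) :
    inflTrunc Q p (pRegularPart p f) = pRegularPart p (fun g : G => f (g : G ⧸ Q)) := by
  funext g
  rw [inflTrunc_apply, pRegularPart_fun, pRegularPart_fun]
  by_cases hg : p ∣ orderOf g
  · simp only [if_pos hg]
  · simp only [if_neg hg, if_neg (regular_mk Q hg)]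

/-- Inflation matches the principal blocks. -/
theorem mem_principalBlock_iff_infl [Fintype (G ⧸ Q)] [Fintype (IrrCharacter (G ⧸ Q))]
    (hM : IsPModular p M) (hQ : IsPGroup p Q)
    (hC : ∀ g : G, ¬ p ∣ orderOf g → g ∈ Subgroup.centralizer (Q : Set G))
    (ψ : IrrCharacter (G ⧸ Q)) :
    ψ ∈ principalBlock M (G ⧸ Q) ↔ infl Q ψ ∈ principalBlock M G := by
  have hMp := isPrime_of_isPModular hM
  constructor
  · intro h
    exact Cfsg.Agent.Helper23.PB.inflation_mem_principalBlock hMp Q ψ h (infl Q ψ) (fun g => rfl)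
  · intro h
    have h1 : SameBlock M ((trivIrr (G ⧸ Q) : IrrCharacter (G ⧸ Q)) : G ⧸ Q → ℂ)
        (ψ : G ⧸ Q → ℂ) := by
      apply sameBlock_of_regular hM
      intro q hq
      obtain ⟨g, hg, rfl⟩ := exists_regular_lift Q q hq
      rw [← centralChar_infl Q hQ hC _ g hg, ← centralChar_infl Q hQ hC ψ g hg]
      exact h g
    exact h1

/-- The `p`-regular part of a principal-block character of `G` is a combination of the
`p`-regular parts of the inflations of the principal-block characters of `G ⧸ Q`. -/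
theorem pRegularPart_mem_span [Fintype (G ⧸ Q)] [Fintype (IrrCharacter G)]
    [Fintype (IrrCharacter (G ⧸ Q))]
    (hM : IsPModular p M) (hQ : IsPGroup p Q)
    (hC : ∀ g : G, ¬ p ∣ orderOf g → g ∈ Subgroup.centralizer (Q : Set G))
    (χ : IrrCharacter G) (hχ : χ ∈ principalBlock M G) :
    pRegularPart p (χ : G → ℂ) ∈ Submodule.span ℂ
      ((fun ψ : IrrCharacter (G ⧸ Q) => pRegularPart p (infl Q ψ : G → ℂ)) ''
        principalBlock M (G ⧸ Q)) := by
  classical
  set a : G → ℂ := pRegularPart p (χ : G → ℂ) with ha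
  have ha0 : ∀ z, p ∣ orderOf z → a z = 0 := by
    intro z hz
    rw [ha, pRegularPart_fun]
    simp only [if_pos hz]
  have hacf : IsClassFunction G a := by
    rw [ha, pRegularPart_fun]
    exact Cfsg.Agent.Helper8.PRegular.isClassFunction_pRegular p 1 (isClassFunction_irr χ)
  have hpcf := isClassFunction_push Q hacf
  have hexp := IsClassFunction.eq_sum_classInner hpcf
  have hkey : a = ∑ ψ : IrrCharacter (G ⧸ Q),
      classInner (push Q a) (ψ : G ⧸ Q → ℂ) • pRegularPart p (infl Q ψ : G → ℂ) := by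
    funext g
    by_cases hg : p ∣ orderOf g
    · rw [ha0 g hg, Finset.sum_apply]
      symm
      apply Finset.sum_eq_zero
      intro ψ _
      rw [Pi.smul_apply, pRegularPart_fun]
      simp only [if_pos hg, smul_zero]
    · have h1 := push_eq_of_regular Q hQ ha0 g hg (hC g hg)
      rw [← h1]
      conv_lhs => rw [hexp]
      rw [Finset.sum_apply, Finset.sum_apply]
      refine Finset.sum_congr rfl fun ψ _ => ?_
      rw [Pi.smul_apply, Pi.smul_apply, pRegularPart_fun]
      simp only [if_neg hg, one_mul]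
      rfl
  rw [hkey]
  refine Submodule.sum_mem _ fun ψ _ => ?_
  by_cases hψ : ψ ∈ principalBlock M (G ⧸ Q)
  · exact Submodule.smul_mem _ _ (Submodule.subset_span ⟨ψ, hψ, rfl⟩)
  · have hψ' : infl Q ψ ∉ principalBlock M G :=
      fun h => hψ ((mem_principalBlock_iff_infl Q hM hQ hC ψ).mpr h)
    have h0 : classInner (push Q a) (ψ : G ⧸ Q → ℂ) = 0 := by
      have h2 := Cfsg.Agent.Helper8.BlockReg.classInner_pRegular_eq_zero hM
        (isPBlock_principalBlock (M := M) (G := G)) χ (infl Q ψ) hχ hψ' 1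
      rw [← pRegularPart_fun, ← ha] at h2
      unfold classInner at h2 ⊢
      have hne : (Nat.card G : ℂ)⁻¹ ≠ 0 := by
        apply inv_ne_zero
        exact_mod_cast (Nat.card_pos (α := G)).ne'
      have hsum := (mul_eq_zero.mp h2).resolve_left hne
      have h3 := sum_push_mul Q a (fun q => (starRingEnd ℂ) ((ψ : G ⧸ Q → ℂ) q))
      rw [h3]
      have h4 : ∑ t : G, a t * (starRingEnd ℂ) ((ψ : G ⧸ Q → ℂ) (t : G ⧸ Q)) = 0 := hsum
      rw [h4, mul_zero]
    rw [h0, zero_smul]
    exact Submodule.zero_mem _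

/-- **The principal blocks of `G` and `G ⧸ Q` have the same `p`-regular rank.** -/
theorem blockRank_principalBlock_quotient [Fintype (G ⧸ Q)] [Fintype (IrrCharacter G)]
    [Fintype (IrrCharacter (G ⧸ Q))]
    (hM : IsPModular p M) (hQ : IsPGroup p Q)
    (hC : ∀ g : G, ¬ p ∣ orderOf g → g ∈ Subgroup.centralizer (Q : Set G)) :
    blockRank p (principalBlock M G) = blockRank p (principalBlock M (G ⧸ Q)) := by
  classical
  have hMp := isPrime_of_isPModular hM
  unfold blockRank
  set WG : Submodule ℂ (G → ℂ) := Submodule.span ℂ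
    ((fun χ : IrrCharacter G => pRegularPart p (χ : G → ℂ)) '' principalBlock M G) with hWG
  set WQ : Submodule ℂ (G ⧸ Q → ℂ) := Submodule.span ℂ
    ((fun ψ : IrrCharacter (G ⧸ Q) => pRegularPart p (ψ : G ⧸ Q → ℂ)) ''
      principalBlock M (G ⧸ Q)) with hWQ
  -- the image of `WQ`
  have himg : WQ.map (inflTrunc Q p) = Submodule.span ℂ
      ((fun ψ : IrrCharacter (G ⧸ Q) => pRegularPart p (infl Q ψ : G → ℂ)) ''
        principalBlock M (G ⧸ Q)) := by
    rw [hWQ, Submodule.map_span, Set.image_image]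
    congr 1
    apply Set.image_congr
    intro ψ _
    exact inflTrunc_pRegularPart Q (ψ : G ⧸ Q → ℂ)
  have hWeq : WG = WQ.map (inflTrunc Q p) := by
    rw [himg]
    apply le_antisymm
    · rw [hWG]
      apply Submodule.span_le.mpr
      rintro _ ⟨χ, hχ, rfl⟩
      exact pRegularPart_mem_span Q hM hQ hC χ hχ
    · apply Submodule.span_le.mpr
      rintro _ ⟨ψ, hψ, rfl⟩
      exact Submodule.subset_span
        ⟨infl Q ψ, (mem_principalBlock_iff_infl Q hM hQ hC ψ).mp hψ, rfl⟩
  -- injectivity on `WQ`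
  have hfix : ∀ f ∈ WQ, pRegularPart p f = f := by
    have : Set.EqOn (truncL p) (LinearMap.id : (G ⧸ Q → ℂ) →ₗ[ℂ] (G ⧸ Q → ℂ))
        (WQ : Set (G ⧸ Q → ℂ)) := by
      rw [hWQ]
      apply LinearMap.eqOn_span
      rintro _ ⟨ψ, _, rfl⟩
      rw [LinearMap.id_apply, truncL_apply]
      exact pRegularPart_idem p _
    intro f hf
    exact this hf
  have hinj : Function.Injective ((inflTrunc Q p).domRestrict WQ) := by
    rw [← LinearMap.ker_eq_bot, LinearMap.ker_eq_bot']
    rintro ⟨f, hf⟩ h0
    apply Subtype.ext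
    show f = 0
    have h0' : inflTrunc Q p f = 0 := h0
    funext q
    by_cases hq : p ∣ orderOf q
    · rw [← hfix f hf, pRegularPart_fun]
      simp only [if_pos hq, Pi.zero_apply]
    · obtain ⟨g, hg, rfl⟩ := exists_regular_lift Q q hq
      have := congrFun h0' g
      rw [inflTrunc_apply, if_neg hg] at this
      exact this
  rw [show Module.finrank ℂ ↥WG = Module.finrank ℂ ↥(WQ.map (inflTrunc Q p)) from by rw [hWeq],
    ← LinearMap.range_domRestrict, LinearMap.finrank_range_of_inj hinj]

end Cfsg.Agent.Helper23.QR
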