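import Mathlib
import Cfsg.Agent.Helper9.SL23Recog

/-!
# S3361 (Zassenhaus, regular case), piece (B3)

A group of order `120` with a normal `Q₈` whose centraliser has order `10` has a normal subgroup
of index two or is `SL(2,3) × C₅`.
-/

set_option autoImplicit false
set_option linter.unusedSectionVars false
set_option linter.style.haveILetI false

namespace Cfsg.Agent.Helper23.RegB

open QuaternionGroup

/-- local copy of piece (Z0): a normal subgroup of index `2 p^k` gives a normal subgroup of
index two. -/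
theorem index_two_of_index {G : Type*} [Group G] (K : Subgroup G) [K.Normal] (p k : ℕ)
    [Fact p.Prime] (hK : K.index = 2 * p ^ k) : ∃ N : Subgroup G, N.Normal ∧ N.index = 2 := by
  have hp : 0 < p ^ k := pow_pos (Fact.out : p.Prime).pos k
  have hQ : Nat.card (G ⧸ K) = 2 * p ^ k := by rw [← hK]; rfl
  haveI : Finite (G ⧸ K) := Nat.finite_of_card_ne_zero (by rw [hQ]; omega)
  obtain ⟨M, hM⟩ := Sylow.exists_subgroup_card_pow_prime p (G := G ⧸ K) (n := k)
    (by rw [hQ]; exact Dvd.intro_left 2 rfl)
  have hMi : M.index = 2 := by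
    have h := M.card_mul_index
    rw [hM, hQ] at h
    exact Nat.eq_of_mul_eq_mul_left hp (by linarith)
  have hi : (M.comap (QuotientGroup.mk' K)).index = 2 := by
    rw [Subgroup.index_comap_of_surjective _ (QuotientGroup.mk'_surjective K)]; exact hMi
  exact ⟨M.comap (QuotientGroup.mk' K), Subgroup.normal_of_index_eq_two hi, hi⟩

/-- `i ↦ c ^ i` as a homomorphism from `Multiplicative (ZMod 5)` when `c ^ 5 = 1`. -/
def powHom5 {M : Type*} [Monoid M] (c : M) (hc : c ^ 5 = 1) : Multiplicative (ZMod 5) →* M where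
  toFun i := c ^ (Multiplicative.toAdd i).val
  map_one' := by simp
  map_mul' i j := by
    rw [toAdd_mul, ZMod.val_add, ← pow_add]
    exact (pow_eq_pow_mod _ hc).symm

theorem powHom5_apply {M : Type*} [Monoid M] (c : M) (hc : c ^ 5 = 1)
    (i : Multiplicative (ZMod 5)) : powHom5 c hc i = c ^ (Multiplicative.toAdd i).val := rfl

theorem q8_central : ∀ q : QuaternionGroup 2, q * a 2 = a 2 * q := by decide

theorem q8_a2_ne_one : (a 2 : QuaternionGroup 2) ≠ 1 := by decide

theorem q8_a2_sq : (a 2 : QuaternionGroup 2) * a 2 = 1 := by decide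

/-- Piece (B3), with piece (R) as a hypothesis. -/
theorem q8_normal_120_of {H : Type*} [Group H] [Finite H] (N : Subgroup H) [N.Normal]
    (e : N ≃* QuaternionGroup 2) (hcard : Nat.card H = 120)
    (hD : Nat.card (Subgroup.centralizer (N : Set H)) = 10)
    (hR : ∀ g : H, g ∈ Subgroup.normalizer (N : Set H) → g ^ 3 = 1 →
      g ∉ Subgroup.centralizer (N : Set H) →
      ∃ φ : Cfsg.Agent.Helper9.Q8C3 →* H, Function.Injective φ) :
    (∃ M : Subgroup H, M.Normal ∧ M.index = 2) ∨
      Nonempty (H ≃* Matrix.SpecialLinearGroup (Fin 2) (ZMod 3) × Multiplicative (ZMod 5)) := by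
  classical
  -- the central involution
  let z : N := e.symm (a 2)
  have hzc : ∀ n : N, n * z = z * n := by
    intro n
    apply e.injective
    rw [map_mul, map_mul, MulEquiv.apply_symm_apply]
    exact q8_central _
  have hz1 : z ≠ 1 := by
    intro h
    apply q8_a2_ne_one
    have := congrArg e h
    rwa [MulEquiv.apply_symm_apply, map_one] at this
  have hz2 : z * z = 1 := by
    apply e.injective
    rw [map_mul, MulEquiv.apply_symm_apply, map_one]; exact q8_a2_sq
  have hzD : (z : H) ∈ Subgroup.centralizer (N : Set H) := by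
    rw [Subgroup.mem_centralizer_iff]
    intro n hn
    have := congrArg (Subtype.val) (hzc ⟨n, hn⟩)
    simpa using this
  -- an element of order 5 in D
  haveI : Fact (Nat.Prime 5) := ⟨by norm_num⟩
  haveI : Fact (Nat.Prime 3) := ⟨by norm_num⟩
  haveI : Fact (Nat.Prime 2) := ⟨by norm_num⟩
  obtain ⟨c, hc⟩ := exists_prime_orderOf_dvd_card' (G := Subgroup.centralizer (N : Set H)) 5
    (by rw [hD]; norm_num)
  let zD : Subgroup.centralizer (N : Set H) := ⟨z, hzD⟩
  have hozD : orderOf zD = 2 := by
    apply orderOf_eq_prime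
    · apply Subtype.ext
      rw [pow_two]
      show (z : H) * (z : H) = 1
      exact_mod_cast congrArg Subtype.val hz2
    · intro h
      apply hz1
      apply Subtype.ext
      have h' := congrArg Subtype.val h
      exact h'
  have hcomm : Commute c zD := by
    have h := c.2
    rw [Subgroup.mem_centralizer_iff] at h
    apply Subtype.ext
    exact (h z z.2).symm
  have ho10 : orderOf (c * zD) = 10 := by
    rw [hcomm.orderOf_mul_eq_mul_orderOf_of_coprime (by rw [hc, hozD]; norm_num), hc, hozD]
  haveI hDcyc : IsCyclic (Subgroup.centralizer (N : Set H)) :=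
    isCyclic_of_orderOf_eq_card (c * zD) (by rw [ho10, hD])
  have hAut : Nat.card (MulAut (Subgroup.centralizer (N : Set H))) = 4 := by
    rw [IsCyclic.card_mulAut, hD]; decide
  let F : H →* MulAut (Subgroup.centralizer (N : Set H)) := MulAut.conjNormal
  have hrange : Nat.card F.range ∣ 4 := by rw [← hAut]; exact Subgroup.card_subgroup_dvd_card _
  have hidx : F.ker.index = Nat.card F.range := Subgroup.index_ker F
  have h124 : Nat.card F.range = 1 ∨ Nat.card F.range = 2 ∨ Nat.card F.range = 4 := by
    have h : Nat.card F.range ∈ Nat.divisors 4 := Nat.mem_divisors.mpr ⟨hrange, by norm_num⟩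
    have hd : Nat.divisors 4 = {1, 2, 4} := by decide
    rw [hd] at h
    simpa using h
  rcases h124 with h1 | h2 | h4
  rotate_left
  · left; exact index_two_of_index F.ker 2 0 (by rw [hidx, h2]; norm_num)
  · left; exact index_two_of_index F.ker 2 1 (by rw [hidx, h4]; norm_num)
  right
  have hker : F.ker = ⊤ := Subgroup.index_eq_one.mp (by rw [hidx, h1])
  have hcc : ∀ h : H, h * (c : H) = (c : H) * h := by
    intro h
    have hh : F h = 1 := by rw [← MonoidHom.mem_ker, hker]; trivial
    have := congrArg (fun φ : MulAut (Subgroup.centralizer (N : Set H)) =>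
      ((φ c : Subgroup.centralizer (N : Set H)) : H)) hh
    simp only [F, MulAut.conjNormal_apply, MulAut.one_apply] at this
    calc h * c = (h * c * h⁻¹) * h := by group
      _ = c * h := by rw [this]
  have hoc : orderOf (c : H) = 5 := by rw [Subgroup.orderOf_coe]; exact hc
  have hc5 : (c : H) ^ 5 = 1 := by rw [← hoc]; exact pow_orderOf_eq_one _
  -- an element of order 3
  obtain ⟨g, hg⟩ := exists_prime_orderOf_dvd_card' (G := H) 3 (by rw [hcard]; norm_num)
  have hg3 : g ^ 3 = 1 := by rw [← hg]; exact pow_orderOf_eq_one _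
  have hgD : g ∉ Subgroup.centralizer (N : Set H) := by
    intro hmem
    have h := orderOf_dvd_natCard (⟨g, hmem⟩ : Subgroup.centralizer (N : Set H))
    rw [Subgroup.orderOf_mk, hg, hD] at h
    norm_num at h
  obtain ⟨φ, hφ⟩ := hR g (by rw [Subgroup.normalizer_eq_top]; trivial) hg3 hgD
  -- the product map
  let Φ : Cfsg.Agent.Helper9.Q8C3 × Multiplicative (ZMod 5) →* H :=
    MonoidHom.noncommCoprod φ (powHom5 (c : H) hc5) (by
      intro m n
      rw [powHom5_apply]
      exact (Commute.pow_right (hcc (φ m)) _))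
  have hΦ : ∀ x i, Φ (x, i) = φ x * (c : H) ^ (Multiplicative.toAdd i).val := by
    intro x i
    rfl
  haveI : Finite Cfsg.Agent.Helper9.Q8C3 :=
    Nat.finite_of_card_ne_zero (by rw [Cfsg.Agent.Helper9.card_Q8C3]; norm_num)
  have hinj : Function.Injective Φ := by
    rw [injective_iff_map_eq_one]
    rintro ⟨x, i⟩ hx
    rw [hΦ] at hx
    have hy : φ x = ((c : H) ^ (Multiplicative.toAdd i).val)⁻¹ := eq_inv_of_mul_eq_one_left hx
    have h24 : φ x ^ 24 = 1 := by
      rw [← map_pow, ← Cfsg.Agent.Helper9.card_Q8C3, pow_card_eq_one', map_one]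
    have h5 : φ x ^ 5 = 1 := by
      rw [hy, inv_pow, ← pow_mul, mul_comm, pow_mul, hc5, one_pow, inv_one]
    have h1' : φ x = 1 := by
      have : φ x = (φ x ^ 5) ^ 5 * (φ x ^ 24)⁻¹ := by
        rw [← pow_mul, eq_mul_inv_iff_mul_eq, ← pow_succ']
      rw [this, h5, h24, one_pow, inv_one, one_mul]
    have hx1 : x = 1 := hφ (by rw [h1', map_one])
    have hck : (c : H) ^ (Multiplicative.toAdd i).val = 1 := by
      rw [h1'] at hy
      rw [← inv_inv ((c : H) ^ (Multiplicative.toAdd i).val), ← hy, inv_one]
    have hi0 : (Multiplicative.toAdd i).val = 0 := by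
      have hdvd := orderOf_dvd_of_pow_eq_one hck
      rw [hoc] at hdvd
      have hlt := ZMod.val_lt (Multiplicative.toAdd i)
      exact Nat.eq_zero_of_dvd_of_lt hdvd hlt
    have hi1 : i = 1 := by
      have : Multiplicative.toAdd i = 0 := (ZMod.val_eq_zero _).mp hi0
      exact this
    rw [hx1, hi1]
    rfl
  have hbij : Function.Bijective Φ := by
    rw [Nat.bijective_iff_injective_and_card]
    refine ⟨hinj, ?_⟩
    rw [Nat.card_prod, Cfsg.Agent.Helper9.card_Q8C3, hcard, Nat.card_eq_fintype_card]
    simp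
  obtain ⟨e3⟩ := Cfsg.Agent.Helper9.nonempty_mulEquiv_q8c3_G3
  exact ⟨(MulEquiv.ofBijective Φ hbij).symm.trans (MulEquiv.prodCongr e3 (MulEquiv.refl _))⟩

end Cfsg.Agent.Helper23.RegB
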