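import Mathlib
import Cfsg.Agent.Helper18.AutQ8
import Cfsg.Agent.Helper23.RegB3

/-!
# S3361 (Zassenhaus, regular case), piece (B1)

A group of order `u² - 1` (`u ∈ {5, 7, 11, 23}`) with a normal `Q₈` whose centraliser has order
dividing `u - 1`: a normal subgroup of index two, or `(u, |H|, |D|) = (5, 24, 2)` or
`(11, 120, 10)`.
-/

set_option autoImplicit false
set_option linter.unusedSectionVars false
set_option linter.style.haveILetI false

namespace Cfsg.Agent.Helper23.RegB

theorem arith5 : ∀ d ∈ Nat.divisors 4, ∀ r ∈ Nat.divisors 12, d * r = 24 →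
    (d = 2 ∧ r = 12) ∨ (d = 4 ∧ r = 6) := by decide

theorem arith7 : ∀ d ∈ Nat.divisors 6, ∀ r ∈ Nat.divisors 12, d * r = 48 → False := by decide

theorem arith11 : ∀ d ∈ Nat.divisors 10, ∀ r ∈ Nat.divisors 12, d * r = 120 →
    (d = 10 ∧ r = 12) := by decide

theorem arith23 : ∀ d ∈ Nat.divisors 22, ∀ r ∈ Nat.divisors 12, d * r = 528 → False := by decide

/-- A homomorphism to `ℤˣ` that is not trivial has a kernel of index two. -/
theorem index_two_of_sign {H : Type*} [Group H] (s : H →* ℤˣ) (h : ∃ x, s x ≠ 1) :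
    ∃ M : Subgroup H, M.Normal ∧ M.index = 2 := by
  refine ⟨s.ker, inferInstance, ?_⟩
  rw [Subgroup.index_ker]
  have hle : Nat.card s.range ∣ 2 := by
    have := Subgroup.card_subgroup_dvd_card s.range
    rwa [Nat.card_eq_fintype_card (α := ℤˣ), Fintype.card_units_int] at this
  have hne : Nat.card s.range ≠ 1 := by
    intro h1
    obtain ⟨x, hx⟩ := h
    have hb : s.range = ⊥ := Subgroup.card_eq_one.mp h1
    have : s x ∈ s.range := ⟨x, rfl⟩
    rw [hb, Subgroup.mem_bot] at this
    exact hx this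
  rcases (Nat.dvd_prime Nat.prime_two).mp hle with h1 | h2
  · exact absurd h1 hne
  · exact h2

/-- Piece (B1). -/
theorem q8_normal_reduce {H : Type*} [Group H] [Finite H] (N : Subgroup H) [N.Normal]
    (e : N ≃* QuaternionGroup 2) (u : ℕ) (hu : u = 5 ∨ u = 7 ∨ u = 11 ∨ u = 23)
    (hcard : Nat.card H = u * u - 1)
    (hD : Nat.card (Subgroup.centralizer (N : Set H)) ∣ u - 1) :
    (∃ M : Subgroup H, M.Normal ∧ M.index = 2) ∨
    (u = 5 ∧ Nat.card H = 24 ∧ Nat.card (Subgroup.centralizer (N : Set H)) = 2) ∨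
    (u = 11 ∧ Nat.card H = 120 ∧ Nat.card (Subgroup.centralizer (N : Set H)) = 10) := by
  classical
  let f : H →* MulAut N := MulAut.conjNormal
  have hker : f.ker = Subgroup.centralizer (N : Set H) := by
    ext g
    rw [MonoidHom.mem_ker, Subgroup.mem_centralizer_iff]
    constructor
    · intro hg n hn
      have := congrArg (fun φ : MulAut N => ((φ ⟨n, hn⟩ : N) : H)) hg
      simp only [f, MulAut.conjNormal_apply, MulAut.one_apply] at this
      calc n * g = (g * n * g⁻¹) * g := by rw [this]
        _ = g * n := by group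
    · intro hg
      ext n
      simp only [f, MulAut.conjNormal_apply, MulAut.one_apply]
      rw [← hg n n.2]; group
  obtain ⟨ψ⟩ := Cfsg.Agent.Helper18.AutQ8.main
  let π : H →* Equiv.Perm (Fin 4) :=
    (ψ.toMonoidHom.comp (MulAut.congr e).toMonoidHom).comp f
  have hkerπ : π.ker = Subgroup.centralizer (N : Set H) := by
    rw [← hker]
    ext g
    rw [MonoidHom.mem_ker, MonoidHom.mem_ker]
    show ψ ((MulAut.congr e) (f g)) = 1 ↔ f g = 1
    rw [map_eq_one_iff ψ ψ.injective, map_eq_one_iff (MulAut.congr e) (MulAut.congr e).injective]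
  by_cases hs : ∃ x, (Equiv.Perm.sign.comp π) x ≠ 1
  · left; exact index_two_of_sign _ hs
  push Not at hs
  have hr12 : Nat.card π.range ∣ 12 := by
    have hle : π.range ≤ alternatingGroup (Fin 4) := by
      rintro _ ⟨x, rfl⟩
      rw [Equiv.Perm.mem_alternatingGroup]
      exact hs x
    have h := Subgroup.card_dvd_of_le hle
    have h12 : Nat.card (alternatingGroup (Fin 4)) = 12 := by
      have h2 := two_mul_card_alternatingGroup (α := Fin 4)
      rw [Fintype.card_perm, Fintype.card_fin] at h2
      rw [Nat.card_eq_fintype_card]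
      have : (4 : ℕ).factorial = 24 := rfl
      omega
    rwa [h12] at h
  have hidx : (Subgroup.centralizer (N : Set H)).index = Nat.card π.range := by
    rw [← hkerπ]; exact Subgroup.index_ker π
  have hmul : Nat.card (Subgroup.centralizer (N : Set H)) * Nat.card π.range = Nat.card H := by
    rw [← hidx]; exact Subgroup.card_mul_index _
  have hrpos : Nat.card π.range ∈ Nat.divisors 12 := Nat.mem_divisors.mpr ⟨hr12, by norm_num⟩
  rcases hu with rfl | rfl | rfl | rfl
  · have hdd : Nat.card (Subgroup.centralizer (N : Set H)) ∈ Nat.divisors 4 :=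
      Nat.mem_divisors.mpr ⟨hD, by norm_num⟩
    have h24 : Nat.card H = 24 := hcard
    rcases arith5 _ hdd _ hrpos (by rw [hmul, h24]) with ⟨hd, -⟩ | ⟨-, hr⟩
    · right; left; exact ⟨rfl, h24, hd⟩
    · left
      haveI : Fact (Nat.Prime 3) := ⟨by norm_num⟩
      exact index_two_of_index (Subgroup.centralizer (N : Set H)) 3 1 (by rw [hidx, hr]; norm_num)
  · exfalso
    have hdd : Nat.card (Subgroup.centralizer (N : Set H)) ∈ Nat.divisors 6 :=
      Nat.mem_divisors.mpr ⟨hD, by norm_num⟩
    have h48 : Nat.card H = 48 := hcard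
    exact arith7 _ hdd _ hrpos (by rw [hmul, h48])
  · have hdd : Nat.card (Subgroup.centralizer (N : Set H)) ∈ Nat.divisors 10 :=
      Nat.mem_divisors.mpr ⟨hD, by norm_num⟩
    have h120 : Nat.card H = 120 := hcard
    obtain ⟨hd, -⟩ := arith11 _ hdd _ hrpos (by rw [hmul, h120])
    right; right; exact ⟨rfl, h120, hd⟩
  · exfalso
    have hdd : Nat.card (Subgroup.centralizer (N : Set H)) ∈ Nat.divisors 22 :=
      Nat.mem_divisors.mpr ⟨hD, by norm_num⟩
    have h528 : Nat.card H = 528 := hcard
    exact arith23 _ hdd _ hrpos (by rw [hmul, h528])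

end Cfsg.Agent.Helper23.RegB

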