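import Mathlib
import Cfsg.Agent.Helper13.RegR
import Cfsg.Agent.Helper23.RegB3

/-!
# S3361 (Zassenhaus, regular case), piece (B3): final form
-/

set_option autoImplicit false

namespace Cfsg.Agent.Helper23.RegB

/-- Piece (B3). -/
theorem q8_normal_120 {H : Type*} [Group H] [Finite H] (N : Subgroup H) [N.Normal]
    (e : N ≃* QuaternionGroup 2) (hcard : Nat.card H = 120)
    (hD : Nat.card (Subgroup.centralizer (N : Set H)) = 10) :
    (∃ M : Subgroup H, M.Normal ∧ M.index = 2) ∨
      Nonempty (H ≃* Matrix.SpecialLinearGroup (Fin 2) (ZMod 3) × Multiplicative (ZMod 5)) :=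
  q8_normal_120_of N e hcard hD
    (fun g hgN hg3 hgC => Cfsg.Agent.Helper13.RegR.exists_q8c3_injective N e g hgN hg3 hgC)

end Cfsg.Agent.Helper23.RegB

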