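import Cfsg.Agent.Helper5.S0518Defs
import Cfsg.Agent.Helper1.S0518LT1
import Cfsg.Agent.Helper6.S0518LT2
import Cfsg.Agent.Helper9.S0518LT3b

/-! # S0518, piece LT3: the case `T < S`: the data `SData C z S`, with `C_G(z) = S` from `hZ`. -/

set_option autoImplicit false

universe u

namespace Cfsg.Agent.S0518P

open Cfsg Subgroup

variable {G : Type u} [Group G]

/-- `T < S`: the full data, with `C_G(z) = S` from `hZ` -/
theorem LT3 [Finite G] (hZ : ZN G) {C : Cfg G} {z : G} (d : TData C z) (S : Sylow 2 G)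
    (hTS : C.T ≤ (S : Subgroup G)) (hne : C.T ≠ (S : Subgroup G)) : SData C z (S : Subgroup G) := by
  obtain ⟨hNS, hcardN, hTN, hNT, hNz⟩ := LT2 d S hTS hne
  obtain ⟨hSN, hnorm⟩ := LT3b d S hTS hne
  have hTnormal : (S : Subgroup G) ≤ normalizer (C.T : Set G) := by rw [hSN]; exact hNT
  have hswap : ∀ b ∈ (S : Subgroup G), b ∉ C.T →
      cj b C.Q₁ = C.Q₂ ∧ cj b C.Q₂ = C.Q₁ ∧ cj b C.V₁ = C.V₂ ∧ cj b C.V₂ = C.V₁ ∧
      b * C.c₁ * b⁻¹ = C.c₂ ∧ b * C.c₂ * b⁻¹ = C.c₁ ∧ b * z * b⁻¹ = z :=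
    fun b hb hbT => LT1 d S hTS b hb (hTnormal hb) hbT
  -- an element of `S ∖ T`
  obtain ⟨u, huS, huT⟩ : ∃ u ∈ (S : Subgroup G), u ∉ C.T := by
    by_contra hcon
    push Not at hcon
    exact hne (le_antisymm hTS hcon)
  obtain ⟨-, -, -, -, hu1, hu2, -⟩ := hswap u huS huT
  refine ⟨hTS, by rw [hSN]; exact hcardN, hTnormal, ?_, ?_⟩
  · intro b hb hbT
    obtain ⟨-, -, h3, h4, h5, h6, h7⟩ := hswap b hb hbT
    exact ⟨h3, h4, h5, h6, h7⟩
  · intro x hx
    -- the central involutions of `S` are `1` and `z`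
    have hcen : ∀ z' : G, z' ∈ (S : Subgroup G) → (∀ s ∈ (S : Subgroup G), s * z' = z' * s) →
        z' = 1 ∨ z' = z := by
      intro z' _ hz'c
      have h1 : z' ∈ C.Q₁ ⊓ C.Q₂ := d.d1.cent_T z' (fun t ht => hz'c t (hTS ht))
      rcases d.d2.inf_Q z' h1 with h | h | h | h
      · exact Or.inl h
      · exact Or.inr h
      · exfalso
        have h2 := hz'c u huS
        rw [h] at h2
        apply d.d0.c_ne
        rw [← hu1, h2]; group
      · exfalso
        have h2 := hz'c u huS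
        rw [h] at h2
        apply d.d0.c_ne
        rw [← hu2, h2]; group
    have hxc : x ∈ centralizer {z' : G | z' ∈ (S : Subgroup G) ∧ z' ^ 2 = 1 ∧
        ∀ s ∈ (S : Subgroup G), s * z' = z' * s} := by
      rw [mem_centralizer_iff]
      intro h hh
      rcases hcen h hh.1 hh.2.2 with rfl | rfl
      · simp
      · exact hx.symm
    have := hZ S hxc
    rw [hnorm] at this
    exact this

end Cfsg.Agent.S0518P
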