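import Mathlib

set_option autoImplicit false
set_option linter.unusedSectionVars false
set_option linter.unusedVariables false

/-! # S0679 chapter (1), piece 1-EVCARD (helper23): the even part has index 2. -/

namespace Cfsg.Agent.S0679P

open Equiv MulAction

variable {α : Type*} [Fintype α] [DecidableEq α] {G : Subgroup (Equiv.Perm α)}

theorem ONE.EVCARD (hodd : ¬ G ≤ alternatingGroup α) :
    Nat.card G = 2 * Nat.card (G ⊓ alternatingGroup α : Subgroup (Perm α)) := by
  classical
  let f : G →* ℤˣ := (Perm.sign).comp G.subtype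
  have hf : ∀ g : G, f g = Perm.sign (g : Perm α) := fun g => rfl
  have hker : f.ker = (G ⊓ alternatingGroup α).subgroupOf G := by
    ext g
    rw [MonoidHom.mem_ker, Subgroup.mem_subgroupOf, Subgroup.mem_inf, Perm.mem_alternatingGroup, hf]
    exact ⟨fun h => ⟨g.2, h⟩, fun h => h.2⟩
  have hcard_ker : Nat.card f.ker = Nat.card (G ⊓ alternatingGroup α : Subgroup (Perm α)) := by
    rw [hker]
    exact Nat.card_congr (Subgroup.subgroupOfEquivOfLe inf_le_left).toEquiv
  -- an odd element
  obtain ⟨g₀, hg₀G, hg₀⟩ : ∃ g₀ ∈ G, g₀ ∉ alternatingGroup α := by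
    by_contra hcon
    push Not at hcon
    exact hodd hcon
  have hs : Perm.sign g₀ = -1 := by
    rw [Perm.mem_alternatingGroup] at hg₀
    exact (Int.units_eq_one_or _).resolve_left hg₀
  have hrange : f.range = ⊤ := by
    rw [eq_top_iff]
    intro u _
    rcases Int.units_eq_one_or u with rfl | rfl
    · exact f.range.one_mem
    · exact ⟨⟨g₀, hg₀G⟩, hs⟩
  have hcard_range : Nat.card f.range = 2 := by
    rw [hrange, Subgroup.card_top, Nat.card_eq_fintype_card, Fintype.card_units_int]
  have h1 := Subgroup.card_mul_index f.ker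
  rw [Subgroup.index_ker, hcard_range, hcard_ker] at h1
  omega

end Cfsg.Agent.S0679P
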