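import Mathlib

set_option autoImplicit false

/-! S0679 chapter (5), piece 5-UNIQ (helper23). -/

namespace Cfsg.Agent.S0679F

open Equiv

variable {α : Type*} [Fintype α] [DecidableEq α]

/-- a permutation of 11 points fixing 4 distinct points moves at most 7 points -/
theorem UNIQ.aux_support (hα : Fintype.card α = 11) {g : Perm α} {x : Fin 4 ↪ α}
    (hx : ∀ i, g (x i) = x i) : g.support.card ≤ 7 := by
  have hsub : g.support ⊆ (Finset.univ.map x)ᶜ := by
    intro a ha
    rw [Finset.mem_compl, Finset.mem_map]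
    rintro ⟨i, _, rfl⟩
    exact (Perm.mem_support.mp ha) (hx i)
  have h1 := Finset.card_le_card hsub
  rw [Finset.card_compl, Finset.card_map, Finset.card_univ, Fintype.card_fin, hα] at h1
  exact h1

/-- (5-UNIQ) a nonidentity element of `G` fixing 4 points fixed by the odd `τ` is `τ`. -/
theorem UNIQ (hα : Fintype.card α = 11) (G : Subgroup (Perm α))
    (hsh : ∀ h ∈ G, h ∈ alternatingGroup α → h ≠ 1 → 8 ≤ h.support.card)
    {τ σ : Perm α} (hτ : τ ∈ G) (hτo : τ ∉ alternatingGroup α) (hσ : σ ∈ G) (hσ1 : σ ≠ 1)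
    {x : Fin 4 ↪ α} (hx : ∀ i, τ (x i) = x i) (hy : ∀ i, σ (x i) = x i) : σ = τ := by
  have hσo : σ ∉ alternatingGroup α := by
    intro hσA
    have h1 := hsh σ hσ hσA hσ1
    have h2 := UNIQ.aux_support hα hy
    omega
  rw [Perm.mem_alternatingGroup] at hτo hσo
  have sτ : Perm.sign τ = -1 := (Int.units_eq_one_or _).resolve_left hτo
  have sσ : Perm.sign σ = -1 := (Int.units_eq_one_or _).resolve_left hσo
  have hA : σ * τ⁻¹ ∈ alternatingGroup α := by
    rw [Perm.mem_alternatingGroup, Perm.sign_mul, Perm.sign_inv, sσ, sτ]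
    rfl
  have hfix : ∀ i, (σ * τ⁻¹) (x i) = x i := by
    intro i
    rw [Perm.mul_apply]
    have : τ⁻¹ (x i) = x i := by rw [Perm.inv_eq_iff_eq, hx i]
    rw [this, hy i]
  by_contra hne
  have h1 : σ * τ⁻¹ ≠ 1 := by
    intro h
    exact hne (mul_inv_eq_one.mp h)
  have h2 := hsh (σ * τ⁻¹) (G.mul_mem hσ (G.inv_mem hτ)) hA h1
  have h3 := UNIQ.aux_support hα hfix
  omega

end Cfsg.Agent.S0679F
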