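import Cfsg.Agent.Helper23.S0745COUNTODDcore
import Cfsg.Agent.Helper9.S0745COUNTA
import Cfsg.Agent.Helper9.S0745COUNTB

/-! Board `s0745pieces`, row COUNTODD (with an own copy `COUNTODD_aux_arith` of the statement of row ARITHODD). -/

set_option autoImplicit false

namespace Cfsg.Agent.S0745P

open Equiv

variable {α : Type*} [Fintype α] [DecidableEq α]

theorem COUNTODD_aux_choose3 (m : ℕ) : 6 * (m + 3).choose m = (m + 3) * (m + 2) * (m + 1) := by
  have h1 : (m + 3).choose m = (m + 3).choose 3 := by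
    have := Nat.choose_symm (by omega : 3 ≤ m + 3)
    rw [show m + 3 - 3 = m by omega] at this
    exact this
  have h2 := Nat.descFactorial_eq_factorial_mul_choose (m + 3) 3
  rw [h1]
  have h3 : (m + 3).descFactorial 3 = (m + 3) * (m + 2) * (m + 1) := by
    simp [Nat.descFactorial_succ]
    ring
  rw [h3] at h2
  have : Nat.factorial 3 = 6 := by decide
  rw [this] at h2
  omega

theorem COUNTODD_aux_arith (t c r n U N C : ℕ) (ht : 4 ≤ t) (hc : 1 ≤ c) (hNc : c ≤ N)
    (hro : Odd r) (hn : n = r * c + t) (hC : 0 < C)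
    (hA : U * ((n - (t - 2 + r % 2)) * (t - 2 + r % 2).choose (t - 2)) = C * (t * (t - 1)) * N)
    (hB : U * ((n - (t - 2 + r % 2)) * (n - (t - 2 + r % 2) - 2) * (t - 2 + r % 2).choose (t - 4))
      ≤ C * (t * (t - 1) * (t - 2) * (t - 3)) * c) : r * c ≤ 7 := by
  obtain ⟨m, rfl⟩ : ∃ m, t = m + 4 := ⟨t - 4, by omega⟩
  have hr2 : r % 2 = 1 := Nat.odd_iff.1 hro
  have hrpos : 1 ≤ r := hro.pos
  have hrc : 1 ≤ r * c := Nat.one_le_iff_ne_zero.2 (Nat.mul_ne_zero (by omega) (by omega))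
  obtain ⟨k, hk⟩ : ∃ k, r * c = k + 1 := ⟨r * c - 1, by omega⟩
  have e1 : m + 4 - 2 + r % 2 = m + 3 := by omega
  have e2 : n - (m + 3) = k + 2 := by omega
  have e3 : m + 4 - 2 = m + 2 := by omega
  have e4 : m + 4 - 4 = m := by omega
  have e5 : k + 2 - 2 = k := by omega
  have e6 : m + 4 - 1 = m + 3 := by omega
  have e7 : m + 4 - 3 = m + 1 := by omega
  rw [e1, e2, e3, e6] at hA
  rw [e1, e2, e4, e5, e6, e3, e7] at hB
  have hch : (m + 3).choose (m + 2) = m + 3 := by
    have := Nat.choose_symm (by omega : 1 ≤ m + 3)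
    rw [show m + 3 - 1 = m + 2 by omega] at this
    rw [this]
    simp
  rw [hch] at hA
  -- `U (k+2) = C (m+4) N`
  have hA' : U * (k + 2) = C * (m + 4) * N := by
    have : (U * (k + 2)) * (m + 3) = (C * (m + 4) * N) * (m + 3) := by
      calc (U * (k + 2)) * (m + 3) = U * ((k + 2) * (m + 3)) := by ring
        _ = C * ((m + 4) * (m + 3)) * N := hA
        _ = (C * (m + 4) * N) * (m + 3) := by ring
    exact Nat.eq_of_mul_eq_mul_right (by omega) this
  have h6 := COUNTODD_aux_choose3 m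
  -- multiply `hB` by 6
  have hB6 : (C * (m + 4) * N) * k * ((m + 3) * (m + 2) * (m + 1)) ≤
      6 * (C * ((m + 4) * (m + 3) * (m + 2) * (m + 1)) * c) := by
    calc (C * (m + 4) * N) * k * ((m + 3) * (m + 2) * (m + 1))
        = 6 * (U * ((k + 2) * k * (m + 3).choose m)) := by
          rw [← hA', ← h6]; ring
      _ ≤ 6 * (C * ((m + 4) * (m + 3) * (m + 2) * (m + 1)) * c) := Nat.mul_le_mul_left 6 hB
  have hpos : 0 < C * (m + 4) * ((m + 3) * (m + 2) * (m + 1)) := by positivity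
  have hNk : N * k ≤ 6 * c := by
    have : (C * (m + 4) * ((m + 3) * (m + 2) * (m + 1))) * (N * k) ≤
        (C * (m + 4) * ((m + 3) * (m + 2) * (m + 1))) * (6 * c) := by
      calc (C * (m + 4) * ((m + 3) * (m + 2) * (m + 1))) * (N * k)
          = (C * (m + 4) * N) * k * ((m + 3) * (m + 2) * (m + 1)) := by ring
        _ ≤ 6 * (C * ((m + 4) * (m + 3) * (m + 2) * (m + 1)) * c) := hB6
        _ = (C * (m + 4) * ((m + 3) * (m + 2) * (m + 1))) * (6 * c) := by ring
    exact Nat.le_of_mul_le_mul_left this hpos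
  have hck : c * k ≤ c * 6 := by
    calc c * k ≤ N * k := Nat.mul_le_mul_right k hNc
      _ ≤ 6 * c := hNk
      _ = c * 6 := by ring
  have hk6 : k ≤ 6 := Nat.le_of_mul_le_mul_left hck (by omega)
  omega

/-- COUNTODD -/
theorem rc_le_seven_of_odd {G : Subgroup (Perm α)} {t c r : ℕ} (h : Hyp G t c r) (hc : Odd c)
    (ht : 4 ≤ t) (hr : Odd r) : r * c ≤ 7 :=
  COUNTODD_aux_core h hc ht hr (fun N hN => countA h hc (by omega) N hN) (countB h hc ht)
    (fun n U N C hc1 hcN hn hC hA hB => COUNTODD_aux_arith t c r n U N C ht hc1 hcN hr hn hC hA hB)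

end Cfsg.Agent.S0745P
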