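import Cfsg.Agent.Helper18.S0745NTAUODD
import Cfsg.Agent.Helper18.S0745NTAUCONST

/-! Board `s0745pieces`, row COUNTODD: the core (takes the statements of rows COUNTA, COUNTB, ARITHODD as hypotheses). -/

set_option autoImplicit false

namespace Cfsg.Agent.S0745P

open Equiv

variable {α : Type*} [Fintype α] [DecidableEq α]

theorem COUNTODD_aux_core {G : Subgroup (Perm α)} {t c r : ℕ} (h : Hyp G t c r) (hc : Odd c)
    (ht : 4 ≤ t) (hr : Odd r)
    (hcountA : ∀ (N : ℕ),
      (∀ (Γ : Finset α) (a b : α), Γ.card = t → a ∈ Γ → b ∈ Γ → a ≠ b →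
        (swapLifts G Γ a b).card = N) →
      (invF G (t - 2 + r % 2)).card *
          ((Fintype.card α - (t - 2 + r % 2)) * (t - 2 + r % 2).choose (t - 2))
        = (Fintype.card α).choose t * (t * (t - 1)) * N)
    (hcountB : (invF G (t - 2 + r % 2)).card *
        ((Fintype.card α - (t - 2 + r % 2)) * (Fintype.card α - (t - 2 + r % 2) - 2) *
          (t - 2 + r % 2).choose (t - 4))
      ≤ (Fintype.card α).choose t * (t * (t - 1) * (t - 2) * (t - 3)) * c)
    (harith : ∀ (n U N C : ℕ), 1 ≤ c → c ≤ N → n = r * c + t → 0 < C →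
      U * ((n - (t - 2 + r % 2)) * (t - 2 + r % 2).choose (t - 2)) = C * (t * (t - 1)) * N →
      U * ((n - (t - 2 + r % 2)) * (n - (t - 2 + r % 2) - 2) * (t - 2 + r % 2).choose (t - 4))
        ≤ C * (t * (t - 1) * (t - 2) * (t - 3)) * c → r * c ≤ 7) : r * c ≤ 7 := by
  classical
  have hn : Fintype.card α = r * c + t := h.deg
  -- a `t`-set with two distinct points
  obtain ⟨Γ, -, hΓ⟩ := Finset.exists_subset_card_eq (s := (Finset.univ : Finset α)) (n := t)
    (by rw [Finset.card_univ, hn]; omega)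
  have h2 : 1 < Γ.card := by rw [hΓ]; omega
  obtain ⟨a, ha, b, hb, hab⟩ := Finset.one_lt_card.1 h2
  have hconst : ∀ (Γ' : Finset α) (a' b' : α), Γ'.card = t → a' ∈ Γ' → b' ∈ Γ' → a' ≠ b' →
      (swapLifts G Γ' a' b').card = (swapLifts G Γ a b).card := by
    intro Γ' a' b' hΓ' ha' hb' hab'
    exact card_swapLifts_const h Γ' Γ hΓ' hΓ a' b' a b ha' hb' hab' ha hb hab
  have hcN : c ≤ (swapLifts G Γ a b).card := le_card_swapLifts h hc hr Γ hΓ a b ha hb hab
  have hc1 : 1 ≤ c := hc.pos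
  have hC : 0 < (Fintype.card α).choose t := Nat.choose_pos (by rw [hn]; omega)
  exact harith (Fintype.card α) _ _ _ hc1 hcN hn hC (hcountA _ hconst) hcountB

end Cfsg.Agent.S0745P
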