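import Cfsg.Agent.Helper23.S0745KILL333core
import Cfsg.Agent.Helper3.S0745CARDL

/-! Board `s0745pieces`, row KILL333. -/

set_option autoImplicit false

namespace Cfsg.Agent.S0745P

open Equiv

variable {α : Type*} [Fintype α] [DecidableEq α]

/-- KILL333 -/
theorem kill_3_3_3 {G : Subgroup (Perm α)} (h : Hyp G 3 3 3) : False :=
  KILL333_aux_core h (fun Δ hΔ => card_L h Δ hΔ)

end Cfsg.Agent.S0745P
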