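import Cfsg.Agent.Helper27.S0745Defs

/-! Board `s0745pieces`, row KILL333: the core (takes the statement of row CARDL for `t = 3`, `r = 3` as a hypothesis). -/

set_option autoImplicit false

namespace Cfsg.Agent.S0745P

open Equiv

variable {α : Type*} [Fintype α] [DecidableEq α]

/-- `(t,c,r) = (3,3,3)`: an element `h` of order 3 of a 3-point stabiliser leaves a 4-set invariant, but the setwise stabilisers of
4-sets have order 8. -/
theorem KILL333_aux_core {G : Subgroup (Perm α)} (h : Hyp G 3 3 3)
    (hL : ∀ Δ : Finset α, Δ.card = 3 + 1 → Nat.card (SS G Δ) * 3 = (3 + 1).factorial) : False := by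
  classical
  have hn : Fintype.card α = 12 := by rw [h.deg]
  -- a 3-set
  obtain ⟨Γ, -, hΓ⟩ := Finset.exists_subset_card_eq (s := (Finset.univ : Finset α)) (n := 3)
    (by rw [Finset.card_univ, hn]; norm_num)
  have hH : Nat.card (PS G Γ) = 3 := h.cardH Γ hΓ
  -- a nontrivial element of the pointwise stabiliser
  have hfin : Finite (PS G Γ) := Nat.finite_of_card_ne_zero (by rw [hH]; norm_num)
  have hnt : Nontrivial (PS G Γ) := Finite.one_lt_card_iff_nontrivial.1 (by rw [hH]; norm_num)
  obtain ⟨k, hk1⟩ := exists_ne (1 : PS G Γ)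
  have hk3 : (k : Perm α) ^ 3 = 1 := by
    have := pow_card_eq_one' (G := PS G Γ) (x := k)
    rw [hH] at this
    exact_mod_cast congrArg Subtype.val this
  have hkne : (k : Perm α) ≠ 1 := fun e => hk1 (Subtype.ext e)
  have hkG : (k : Perm α) ∈ G := k.2.1
  have hkΓ : ∀ y ∈ Γ, (k : Perm α) y = y := k.2.2
  set g : Perm α := (k : Perm α) with hg
  -- a moved point
  obtain ⟨x, hx⟩ : ∃ x, g x ≠ x := by
    by_contra hcon
    exact hkne (Perm.ext fun y => by_contra fun hy => hcon ⟨y, hy⟩)
  have hxΓ : x ∉ Γ := fun hxm => hx (hkΓ x hxm)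
  have hg3 : ∀ y, g (g (g y)) = y := by
    intro y
    have := congrArg (fun p : Perm α => p y) hk3
    simpa [pow_succ, Perm.mul_apply] using this
  have hx2 : g (g x) ≠ x := by
    intro e
    apply hx
    have := hg3 x
    rw [e] at this
    exact this
  have hx12 : g (g x) ≠ g x := fun e => hx (g.injective e)
  -- a point of `Γ`
  obtain ⟨γ, hγ⟩ : Γ.Nonempty := by
    rw [← Finset.card_pos, hΓ]; norm_num
  have hgγ : g γ = γ := hkΓ γ hγ
  have hγx : γ ≠ x := fun e => hxΓ (e ▸ hγ)
  have hγ1 : γ ≠ g x := by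
    intro e
    apply hx12
    have : g γ = g (g x) := congrArg g e
    rw [hgγ] at this
    rw [← this, e]
  have hγ2 : γ ≠ g (g x) := by
    intro e
    apply hx2
    have : g γ = g (g (g x)) := congrArg g e
    rw [hgγ, hg3] at this
    rw [← e, this]
  -- the invariant 4-set
  let Δ : Finset α := {γ, x, g x, g (g x)}
  have hΔ : Δ.card = 3 + 1 := by
    have h1 : g x ∉ ({g (g x)} : Finset α) := by
      rw [Finset.mem_singleton]; exact fun e => hx12 e.symm
    have h2 : x ∉ ({g x, g (g x)} : Finset α) := by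
      simp only [Finset.mem_insert, Finset.mem_singleton, not_or]
      exact ⟨fun e => hx e.symm, fun e => hx2 e.symm⟩
    have h3 : γ ∉ ({x, g x, g (g x)} : Finset α) := by
      simp only [Finset.mem_insert, Finset.mem_singleton, not_or]
      exact ⟨hγx, hγ1, hγ2⟩
    change (insert γ (insert x (insert (g x) ({g (g x)} : Finset α)))).card = 3 + 1
    rw [Finset.card_insert_of_notMem h3, Finset.card_insert_of_notMem h2,
      Finset.card_insert_of_notMem h1, Finset.card_singleton]
  have hmaps : ∀ y ∈ Δ, g y ∈ Δ := by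
    intro y hy
    simp only [Δ, Finset.mem_insert, Finset.mem_singleton] at hy ⊢
    rcases hy with rfl | rfl | rfl | rfl
    · left; exact hgγ
    · right; right; left; rfl
    · right; right; right; rfl
    · right; left; exact hg3 _
  have hgS : g ∈ SS G Δ := mem_SS_of_maps hkG hmaps
  have hcard : Nat.card (SS G Δ) = 8 := by
    have := hL Δ hΔ
    have e : (3 + 1).factorial = 24 := by decide
    rw [e] at this
    omega
  have hg8 : g ^ 8 = 1 := by
    have := pow_card_eq_one' (G := SS G Δ) (x := ⟨g, hgS⟩)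
    rw [hcard] at this
    have h2 := congrArg Subtype.val this
    simpa using h2
  apply hkne
  calc g = g ^ 9 * (g ^ 8)⁻¹ := by group
    _ = 1 := by
      have h9 : g ^ 9 = 1 := by
        have : g ^ 9 = (g ^ 3) ^ 3 := by rw [← pow_mul]
        rw [this, hk3, one_pow]
      rw [h9, hg8]; simp

end Cfsg.Agent.S0745P
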