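import Mathlib
import Cfsg.Agent.Helper18.S0747Defs

/-! # S0747 board row B_IDX (helper23): a subgroup of `Sym(m)`, `m ≥ 5`, not containing `Alt(m)` has index `≥ m`. -/

set_option autoImplicit false

namespace Cfsg.Agent.S0747P

open MulAction

/-- Core of B_IDX: the index of such a subgroup is at least the degree. -/
theorem B_IDX_aux_index {β : Type*} [Fintype β] [DecidableEq β] (h5 : 5 ≤ Fintype.card β)
    (H : Subgroup (Equiv.Perm β)) (hH : ¬ alternatingGroup β ≤ H) : Fintype.card β ≤ H.index := by
  classical
  by_contra hlt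
  rw [not_le] at hlt
  -- the normal core of `H` is trivial
  have hcore : H.normalCore = ⊥ := by
    by_contra hne
    have hnt : Nontrivial H.normalCore := (Subgroup.nontrivial_iff_ne_bot _).mpr hne
    have h5' : 5 ≤ Nat.card β := by rwa [Nat.card_eq_fintype_card]
    have := Equiv.Perm.alternatingGroup_le_of_normal h5' hnt
    exact hH (this.trans H.normalCore_le)
  -- so `Perm β` embeds into the permutations of the cosets
  have hinj : Function.Injective (MulAction.toPermHom (Equiv.Perm β) (Equiv.Perm β ⧸ H)) := by
    rw [← MonoidHom.ker_eq_bot_iff, ← Subgroup.normalCore_eq_ker, hcore]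
  have hpos : 0 < H.index := Nat.pos_of_ne_zero Subgroup.index_ne_zero_of_finite
  have hcard : Nat.card (Equiv.Perm β) ≤ Nat.card (Equiv.Perm (Equiv.Perm β ⧸ H)) :=
    Nat.card_le_card_of_injective _ hinj
  rw [Nat.card_perm, Nat.card_perm, Nat.card_eq_fintype_card] at hcard
  have hidx : Nat.card (Equiv.Perm β ⧸ H) = H.index := rfl
  rw [hidx] at hcard
  have : (H.index).factorial < (Fintype.card β).factorial := (Nat.factorial_lt hpos).mpr hlt
  omega

/-- B_IDX: a subgroup of `Sym(m)`, `m ≥ 5`, not containing `Alt(m)` has index at least `m` (its normal core is trivial by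
`Equiv.Perm.alternatingGroup_le_of_normal`, so `Sym(m)` embeds in the symmetric group on the cosets). -/
theorem B_IDX {β : Type*} [Fintype β] [DecidableEq β] (h5 : 5 ≤ Fintype.card β) (H : Subgroup (Equiv.Perm β))
    (hH : ¬ alternatingGroup β ≤ H) : Nat.card ↥H * Fintype.card β ≤ (Fintype.card β).factorial := by
  have h1 := B_IDX_aux_index h5 H hH
  have h2 : Nat.card ↥H * H.index = (Fintype.card β).factorial := by
    rw [Subgroup.card_mul_index, Nat.card_perm, Nat.card_eq_fintype_card]
  calc Nat.card ↥H * Fintype.card β ≤ Nat.card ↥H * H.index := Nat.mul_le_mul_left _ h1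
    _ = (Fintype.card β).factorial := h2

end Cfsg.Agent.S0747P
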