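import Mathlib
import Cfsg.Agent.Helper9.S1851.Defs
import Cfsg.Agent.Helper14.PCore
import Cfsg.Agent.Helper26.S1851EVENCH

/-! S1851 piece MONO (helper23). -/

set_option autoImplicit false

namespace Cfsg.Agent.S1851P

open Subgroup Cfsg

namespace MONO

theorem ZO_mono {G : Type*} [Group G] [Finite G] (H₁ H₂ T : Subgroup G) (h12 : H₁ ≤ H₂)
    (hT1 : T ≤ H₁) (hS : ∃ P : Sylow 2 ↥H₂, (P : Subgroup ↥H₂) = T.subgroupOf H₂)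
    (hchar : IsOfCharacteristicTwo ↥H₂) : ZO H₁ ≤ ZO H₂ := by
  obtain ⟨P, hP⟩ := hS
  have hOT : pCoreOf 2 H₂ ≤ T := by
    rintro _ ⟨y, hy, rfl⟩
    have h1 : y ∈ (P : Subgroup ↥H₂) := Cfsg.Agent.Helper14.pCore_le_sylow 2 P hy
    rw [hP, Subgroup.mem_subgroupOf] at h1
    exact h1
  have hO21 : pCoreOf 2 H₂ ≤ pCoreOf 2 H₁ :=
    Cfsg.Agent.Helper14.le_pCoreOf 2 (hOT.trans hT1)
      (h12.trans (Cfsg.Agent.Helper14.le_normalizer_pCoreOf 2 H₂))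
      (Cfsg.Agent.Helper14.pCoreOf_isPGroup 2 H₂)
  have hZ : pCoreOf 2 H₁ ⊓ centralizer (pCoreOf 2 H₁ : Set G) ≤
      pCoreOf 2 H₂ ⊓ centralizer (pCoreOf 2 H₂ : Set G) := by
    intro z hz
    have hzc : z ∈ centralizer (pCoreOf 2 H₂ : Set G) :=
      Subgroup.centralizer_le (fun x hx => hO21 hx) hz.2
    have hzH : z ∈ H₂ := h12 (Cfsg.Agent.Helper14.pCoreOf_le 2 H₁ hz.1)
    exact ⟨EVENCH.inf_centralizer_le H₂ hchar ⟨hzH, hzc⟩, hzc⟩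
  rw [ZO_eq, ZO_eq]
  unfold omegaOne
  apply Subgroup.closure_mono
  rintro x ⟨hx, hx2⟩
  exact ⟨hZ hx, hx2⟩

end MONO

end Cfsg.Agent.S1851P
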