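import Mathlib
import Cfsg.Agent.Helper9.S1851.Defs

/-! S1851 piece PERF (helper23). -/

set_option autoImplicit false

namespace Cfsg.Agent.S1851P

open Subgroup Cfsg

namespace PERF

theorem of_mem_calC {G : Type*} [Group G] (H K : Subgroup G) (hKH : K ≤ H)
    (h : K.subgroupOf H ∈ calC ↥H) :
    K ≠ ⊥ ∧ ⁅K, K⁆ = K ∧ (K.subgroupOf H).IsSubnormal := by
  obtain ⟨h1, h2, h3, _⟩ := h
  refine ⟨?_, ?_, h3⟩
  · intro hK
    apply h1
    rw [hK, Subgroup.bot_subgroupOf]
  · have e : (K.subgroupOf H).map H.subtype = K := by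
      rw [Subgroup.subgroupOf_map_subtype, inf_eq_left.mpr hKH]
    have h4 := congrArg (Subgroup.map H.subtype) h2
    rw [Subgroup.map_commutator, e] at h4
    exact h4

end PERF

end Cfsg.Agent.S1851P
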