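import Mathlib
import Cfsg.Agent.Helper9.S1851.Defs
import Cfsg.Agent.Helper14.PCore
import Cfsg.Agent.Helper14.Asym8
import Cfsg.Agent.Helper19.S1851TPQG
import Cfsg.Agent.Helper19.S1851ODDGEN

/-! S1851 piece STEPA (helper23): one normal step. -/

set_option autoImplicit false

namespace Cfsg.Agent.S1851P

open Subgroup Cfsg

namespace STEPA

variable {G : Type*} [Group G]

/-- membership in `ZO Y`: the central elements of `O₂(Y)` of order at most two -/
theorem mem_ZO_iff (Y : Subgroup G) (z : G) :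
    z ∈ ZO Y ↔ z ∈ pCoreOf 2 Y ∧ z ∈ centralizer (pCoreOf 2 Y : Set G) ∧ z ^ 2 = 1 := by
  rw [ZO_eq]
  unfold omegaOne
  constructor
  · intro hz
    induction hz using Subgroup.closure_induction with
    | mem x hx => exact ⟨hx.1.1, hx.1.2, hx.2⟩
    | one => exact ⟨one_mem _, one_mem _, one_pow 2⟩
    | mul x y _ _ hx hy =>
      refine ⟨mul_mem hx.1 hy.1, mul_mem hx.2.1 hy.2.1, ?_⟩
      have hc : y * x = x * y := (Subgroup.mem_centralizer_iff.mp hx.2.1) y hy.1
      have hcomm : Commute x y := hc.symm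
      rw [hcomm.mul_pow, hx.2.2, hy.2.2, one_mul]
    | inv x _ hx =>
      exact ⟨inv_mem hx.1, inv_mem hx.2.1, by rw [inv_pow, hx.2.2, inv_one]⟩
  · rintro ⟨h1, h2, h3⟩
    exact Subgroup.subset_closure ⟨⟨h1, h2⟩, h3⟩

theorem ZO_le_pCoreOf (Y : Subgroup G) : ZO Y ≤ pCoreOf 2 Y :=
  fun z hz => ((mem_ZO_iff Y z).mp hz).1

theorem ZO_le_centralizer (Y : Subgroup G) : ZO Y ≤ centralizer (pCoreOf 2 Y : Set G) :=
  fun z hz => ((mem_ZO_iff Y z).mp hz).2.1

/-- conjugation by an element normalizing `O₂(Y)` preserves `ZO Y` -/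
theorem conj_mem_ZO (Y : Subgroup G) {g : G} (hg : g ∈ normalizer (pCoreOf 2 Y : Set G)) {z : G}
    (hz : z ∈ ZO Y) : g * z * g⁻¹ ∈ ZO Y := by
  rw [mem_ZO_iff] at hz ⊢
  refine ⟨(Subgroup.mem_normalizer_iff.mp hg z).mp hz.1, ?_, ?_⟩
  · rw [Subgroup.mem_centralizer_iff]
    intro o ho
    have ho' : g⁻¹ * o * g ∈ pCoreOf 2 Y := by
      apply (Subgroup.mem_normalizer_iff.mp hg (g⁻¹ * o * g)).mpr
      have e : g * (g⁻¹ * o * g) * g⁻¹ = o := by group
      rw [e]
      exact ho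
    have hc := Subgroup.mem_centralizer_iff.mp hz.2.1 _ ho'
    calc o * (g * z * g⁻¹) = g * ((g⁻¹ * o * g) * z) * g⁻¹ := by group
      _ = g * (z * (g⁻¹ * o * g)) * g⁻¹ := by rw [hc]
      _ = g * z * g⁻¹ * o := by group
  · rw [conj_pow, hz.2.2, mul_one, mul_inv_cancel]

/-- the normalizer of `Y` normalizes `ZO Y` -/
theorem normalizer_le_normalizer_ZO [Finite G] (Y : Subgroup G) :
    normalizer (Y : Set G) ≤ normalizer (ZO Y : Set G) := by
  intro g hg
  have hgO : g ∈ normalizer (pCoreOf 2 Y : Set G) :=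
    Cfsg.Agent.Helper14.normalizer_le_normalizer_pCoreOf (p := 2) Y hg
  rw [Subgroup.mem_normalizer_iff]
  intro z
  constructor
  · exact fun hz => conj_mem_ZO Y hgO hz
  · intro h
    have h2 := conj_mem_ZO Y (inv_mem hgO) h
    have e : g⁻¹ * (g * z * g⁻¹) * g⁻¹⁻¹ = z := by group
    rw [e] at h2
    exact h2

/-- `⁅A, B⁆ ≤ A` when `B` normalizes `A` -/
theorem commutator_le_left_of_le_normalizer {A B : Subgroup G} (h : B ≤ normalizer (A : Set G)) :
    ⁅A, B⁆ ≤ A := by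
  rw [Subgroup.commutator_le]
  intro a ha b hb
  rw [commutatorElement_def]
  have h1 : b * a⁻¹ * b⁻¹ ∈ A := (Subgroup.mem_normalizer_iff.mp (h hb) a⁻¹).mp (inv_mem ha)
  have e : a * b * a⁻¹ * b⁻¹ = a * (b * a⁻¹ * b⁻¹) := by group
  rw [e]
  exact mul_mem ha h1

/-- `⁅A, B⁆ ≤ B` when `A` normalizes `B` -/
theorem commutator_le_right_of_le_normalizer {A B : Subgroup G} (h : A ≤ normalizer (B : Set G)) :
    ⁅A, B⁆ ≤ B := by
  rw [Subgroup.commutator_le]
  intro a ha b hb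
  rw [commutatorElement_def]
  have h1 : a * b * a⁻¹ ∈ B := (Subgroup.mem_normalizer_iff.mp (h ha) b).mp hb
  exact mul_mem h1 (inv_mem hb)

theorem step_normal {G : Type*} [Group G] [Finite G] (H N : Subgroup G) (hNH : N ≤ H)
    (hn : H ≤ normalizer (N : Set G)) (hperf : ⁅N, N⁆ = N) :
    N ≤ centralizer (ZO H : Set G) ↔ N ≤ centralizer (ZO N : Set G) := by
  have hRH : pCoreOf 2 H ≤ H := Cfsg.Agent.Helper14.pCoreOf_le 2 H
  have hPN : pCoreOf 2 N ≤ N := Cfsg.Agent.Helper14.pCoreOf_le 2 N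
  have hHR : H ≤ normalizer (pCoreOf 2 H : Set G) := Cfsg.Agent.Helper14.le_normalizer_pCoreOf 2 H
  -- `O₂(N) ≤ O₂(H)`
  have hPR : pCoreOf 2 N ≤ pCoreOf 2 H :=
    Cfsg.Agent.Helper14.pCoreOf_le_pCoreOf_of_normal (p := 2) hNH hn
  -- `O₂(H) ⊓ N ≤ O₂(N)`
  have hRN : pCoreOf 2 H ⊓ N ≤ pCoreOf 2 N := by
    apply Cfsg.Agent.Helper14.le_pCoreOf 2 inf_le_right
    · intro n hnN
      rw [Subgroup.mem_normalizer_iff]
      intro x
      have h1 := Subgroup.mem_normalizer_iff.mp (hHR (hNH hnN)) x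
      have h2 := Subgroup.mem_normalizer_iff.mp (Subgroup.le_normalizer hnN) x
      constructor
      · rintro ⟨hx1, hx2⟩
        exact ⟨h1.mp hx1, h2.mp hx2⟩
      · rintro ⟨hx1, hx2⟩
        exact ⟨h1.mpr hx1, h2.mpr hx2⟩
    · exact (Cfsg.Agent.Helper14.pCoreOf_isPGroup 2 H).to_le inf_le_left
  have hZOH_H : ZO H ≤ H := (ZO_le_pCoreOf H).trans hRH
  have hH_ZOH : H ≤ normalizer (ZO H : Set G) :=
    (Subgroup.le_normalizer).trans (normalizer_le_normalizer_ZO H)
  have hH_ZON : H ≤ normalizer (ZO N : Set G) := hn.trans (normalizer_le_normalizer_ZO N)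
  constructor
  · -- `N` centralizes `ZO H`: Thompson `P × Q` on the elements of odd order
    intro hcen
    have hodd := ODDGEN.oddGenerated_eq_of_perfect N hperf
    suffices hsuff : oddGenerated N ≤ centralizer (ZO N : Set G) by
      rwa [hodd] at hsuff
    unfold oddGenerated
    rw [Subgroup.closure_le]
    rintro x ⟨hxN, hxodd⟩
    have hzx : zpowers x ≤ N := by
      rw [Subgroup.zpowers_le]
      exact hxN
    have hmain : zpowers x ≤ centralizer (ZO N : Set G) := by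
      apply TPQG.thompson_PQ_gen 2 (pCoreOf 2 H) (zpowers x) (ZO N)
        (Cfsg.Agent.Helper14.pCoreOf_isPGroup 2 H)
      · rw [Nat.card_zpowers]
        exact Nat.coprime_two_right.mpr hxodd
      · exact (Cfsg.Agent.Helper14.pCoreOf_isPGroup 2 N).to_le (ZO_le_pCoreOf N)
      · -- `⁅R, ⟨x⟩⁆ ≤ R ⊓ N ≤ O₂(N) ≤ C(ZO N)`
        have h1 : ⁅pCoreOf 2 H, zpowers x⁆ ≤ pCoreOf 2 H :=
          commutator_le_left_of_le_normalizer ((hzx.trans hNH).trans hHR)
        have h2 : ⁅pCoreOf 2 H, zpowers x⁆ ≤ N :=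
          (Subgroup.commutator_mono le_rfl hzx).trans
            (commutator_le_right_of_le_normalizer (hRH.trans hn))
        have h3 : ⁅pCoreOf 2 H, zpowers x⁆ ≤ pCoreOf 2 N := (le_inf h1 h2).trans hRN
        refine h3.trans ?_
        rw [← Subgroup.le_centralizer_iff]
        exact ZO_le_centralizer N
      · exact hRH.trans hH_ZON
      · exact (hzx.trans hNH).trans hH_ZON
      · -- `ZO N ⊓ C(R) ≤ ZO H ≤ C(x)`
        rintro z ⟨hz1, hz2⟩
        have hzH : z ∈ ZO H := by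
          rw [mem_ZO_iff]
          exact ⟨hPR (ZO_le_pCoreOf N hz1), hz2, ((mem_ZO_iff N z).mp hz1).2.2⟩
        rw [Subgroup.mem_centralizer_iff]
        intro y hy
        have hyc := hcen (hzx hy)
        exact (Subgroup.mem_centralizer_iff.mp hyc z hzH).symm
    exact hmain (Subgroup.mem_zpowers x)
  · -- `N` centralizes `ZO N`: three subgroups lemma
    intro hcen
    have h1 : ⁅ZO H, N⁆ ≤ ZO N := by
      have ha : ⁅ZO H, N⁆ ≤ ZO H := commutator_le_left_of_le_normalizer (hNH.trans hH_ZOH)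
      have hb : ⁅ZO H, N⁆ ≤ N := commutator_le_right_of_le_normalizer (hZOH_H.trans hn)
      intro z hz
      have hzH := ha hz
      rw [mem_ZO_iff] at hzH ⊢
      refine ⟨hRN ⟨hzH.1, hb hz⟩, ?_, hzH.2.2⟩
      exact Subgroup.centralizer_le (fun x hx => hPR hx) hzH.2.1
    have h2 : ⁅⁅ZO H, N⁆, N⁆ = ⊥ := by
      rw [Subgroup.commutator_eq_bot_iff_le_centralizer]
      refine h1.trans ?_
      rw [← Subgroup.le_centralizer_iff]
      exact hcen
    have h3 : ⁅⁅N, ZO H⁆, N⁆ = ⊥ := by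
      rw [Subgroup.commutator_comm N (ZO H)]
      exact h2
    have h4 : ⁅⁅N, N⁆, ZO H⁆ = ⊥ :=
      Subgroup.commutator_commutator_eq_bot_of_rotate h3 h2
    rw [hperf, Subgroup.commutator_eq_bot_iff_le_centralizer] at h4
    exact h4

end STEPA

end Cfsg.Agent.S1851P
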