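import Mathlib
import Cfsg.Agent.Helper29.S2221Defs
import Cfsg.Agent.Helper23.S2221ZC
import Cfsg.Agent.Helper23.S2221ODDT

/-! S2221 piece W01 (driver helper29; helper23): the small cases `W 0`, `W 1`; nontriviality of `W k`. -/

set_option autoImplicit false

namespace Cfsg.Agent.S2221P

open Equiv

/-- W10 W01 (S): the small cases. -/
theorem subsingleton_W0 : Subsingleton ↥(W 0) :=
  ⟨fun a b => Subtype.ext ((Subgroup.mem_bot.mp a.2).trans (Subgroup.mem_bot.mp b.2).symm)⟩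

theorem W1_cases (g : ↥(W 1)) : g = 1 ∨ g = ⟨tc 1, tc_mem 1⟩ := by
  rcases ZC.mem_wr_bot g.2 with h | h
  · left
    exact Subtype.ext h
  · right
    exact Subtype.ext h

theorem nontrivial_W (k : ℕ) (hk : 1 ≤ k) : Nontrivial ↥(W k) := by
  refine ⟨⟨⟨zc k, zc_mem k⟩, 1, ?_⟩⟩
  intro h
  exact zc_ne_one k hk (congrArg Subtype.val h)

end Cfsg.Agent.S2221P
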