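import Mathlib
import Cfsg.Prelude.Def_LieClassical
import Cfsg.Agent.Helper13.S2263Defs
import Cfsg.Agent.Helper16.S2496FROB

/-! S2263 pieces U3A, U3B (helper23): the 3-dimensional space `H3` and its regular unipotent
`u3 ω` over the field with 4 elements. -/

set_option autoImplicit false
set_option linter.unusedSectionVars false

namespace Cfsg.Agent.S2263P

open Cfsg.Agent.S2496P

section general

variable {F : Type*} [Field F] [Fintype F] {p : ℕ} [Fact p.Prime] [CharP F p] {f q : ℕ}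

/-- U3a -/
theorem isHerm_H3 (hq : q = p ^ f) (hF : Fintype.card F = q ^ 2) :
    IsHerm (frob F p f) (H3 (frob F p f)) := by
  refine ⟨?_, ?_, ?_, ?_⟩
  · intro u u' v
    simp only [H3_apply, Prod.fst_add, Prod.snd_add]
    ring
  · intro c u v
    simp only [H3_apply, Prod.smul_fst, Prod.smul_snd, smul_eq_mul]
    ring
  · intro u v
    simp only [H3_apply, map_add, map_mul, frob_frob_F hq hF]
    ring
  · intro u hu
    have h1 := hu (0, 0, 1)
    have h2 := hu (0, 1, 0)
    have h3 := hu (1, 0, 0)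
    simp only [H3_apply, map_one, map_zero, mul_one, mul_zero, add_zero, zero_add] at h1 h2 h3
    exact Prod.ext h1 (Prod.ext h2 h3)

/-- U3b -/
theorem exists_omega (hF4 : Fintype.card F = 4) : ∃ ω : F, ω ^ 2 + ω + 1 = 0 := by
  classical
  have hcard : ({0, 1} : Finset F).card < (Finset.univ : Finset F).card := by
    rw [Finset.card_univ, hF4]
    calc ({0, 1} : Finset F).card ≤ 2 := Finset.card_le_two
      _ < 4 := by norm_num
  obtain ⟨ω, -, hω⟩ := Finset.exists_mem_notMem_of_card_lt_card hcard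
  rw [Finset.mem_insert, Finset.mem_singleton, not_or] at hω
  obtain ⟨h0, h1⟩ := hω
  have h3 : ω ^ 3 = 1 := by
    have := FiniteField.pow_card_sub_one_eq_one ω h0
    rw [hF4] at this
    exact this
  refine ⟨ω, ?_⟩
  have hfac : (ω - 1) * (ω ^ 2 + ω + 1) = 0 := by
    linear_combination h3
  rcases mul_eq_zero.mp hfac with h | h
  · exact absurd (sub_eq_zero.mp h) h1
  · exact h

/-- U3a (`p = 2`, `f = 1`: `σ x = x²`) -/
theorem H3_u3 [CharP F 2] (ω : F) (hω : ω ^ 2 + ω + 1 = 0) (u v : F × F × F) :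
    H3 (frob F 2 1) (u3 ω u) (u3 ω v) = H3 (frob F 2 1) u v := by
  have h2 : (2 : F) = 0 := by
    have := CharP.cast_eq_zero F 2
    exact_mod_cast this
  have hσω : frob F 2 1 ω = ω ^ 2 := by
    rw [frob_apply, pow_one]
  simp only [H3_apply, u3_apply, map_add, map_mul, hσω]
  linear_combination (u.2.2 * frob F 2 1 v.2.2) * hω
    + (u.2.1 * frob F 2 1 v.2.2 + u.2.2 * frob F 2 1 v.2.1) * h2

namespace U3B

theorem u3_sq_apply {F : Type*} [Field F] [CharP F 2] (ω : F) (u : F × F × F) :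
    ((u3 ω) ^ 2) u = (u.1 + u.2.2, u.2.1, u.2.2) := by
  have h2 : (2 : F) = 0 := by
    have := CharP.cast_eq_zero F 2
    exact_mod_cast this
  rw [pow_two, Module.End.mul_apply, u3_apply, u3_apply]
  refine Prod.ext ?_ (Prod.ext ?_ rfl)
  · simp only
    linear_combination (u.2.1 + ω * u.2.2) * h2
  · simp only
    linear_combination u.2.2 * h2

theorem u3_pow_four {F : Type*} [Field F] [CharP F 2] (ω : F) : (u3 ω) ^ 4 = 1 := by
  have h2 : (2 : F) = 0 := by
    have := CharP.cast_eq_zero F 2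
    exact_mod_cast this
  apply LinearMap.ext
  intro u
  have h4 : (u3 ω) ^ 4 = (u3 ω) ^ 2 * (u3 ω) ^ 2 := by
    rw [← pow_add]
  rw [h4, Module.End.mul_apply, u3_sq_apply, u3_sq_apply, Module.End.one_apply]
  refine Prod.ext ?_ (Prod.ext rfl rfl)
  simp only
  linear_combination u.2.2 * h2

theorem u3_sq_ne_one {F : Type*} [Field F] [CharP F 2] (ω : F) : (u3 ω) ^ 2 ≠ 1 := by
  intro h
  have h1 := congrArg (fun X : F × F × F →ₗ[F] F × F × F => (X (0, 0, 1)).1) h
  simp only [u3_sq_apply, Module.End.one_apply, zero_add] at h1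
  exact one_ne_zero h1

theorem orderOf_u3 {F : Type*} [Field F] [CharP F 2] (ω : F) : orderOf (u3 ω) = 4 := by
  have h := orderOf_eq_prime_pow (x := u3 ω) (p := 2) (n := 1)
    (by rw [pow_one]; exact u3_sq_ne_one ω) (by exact u3_pow_four ω)
  rw [h]
  norm_num

end U3B

/-- U3b -/
theorem u3_pow_eq_one_iff [CharP F 2] (ω : F) (k : ℕ) : (u3 ω) ^ k = 1 ↔ 4 ∣ k := by
  rw [← orderOf_dvd_iff_pow_eq_one, U3B.orderOf_u3]

end general

end Cfsg.Agent.S2263P
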