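import Mathlib
import Cfsg.Prelude.Def_LieClassical
import Cfsg.Agent.Helper29.S2263Defs
import Cfsg.Agent.Helper23.S2263U2
import Cfsg.Agent.Helper23.S2263U3

/-! S2263 pieces UNI2, UNI3 (helper23): the unipotent blocks as `HermSpace`s. -/

set_option autoImplicit false
set_option linter.unusedSectionVars false

namespace Cfsg.Agent.S2263P

open Polynomial
open Cfsg.Agent.S2264P
open Cfsg.Agent.S2496P

namespace UNI2

/-- an `IsHerm` form w.r.t. `frob F p f` is a `HermSpace F q` -/
noncomputable def toHermSpace {F : Type*} [Field F] {p : ℕ} [Fact p.Prime] [CharP F p] {f q : ℕ}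
    (hq : q = p ^ f) {V : Type*} [AddCommGroup V] [Module F V] (H : V → V → F)
    (hH : IsHerm (frob F p f) H) : HermSpace F q V where
  form := H
  add_left := hH.add_left
  smul_left := hH.smul_left
  add_right x y z := by
    rw [hH.symm (y + z) x, hH.add_left, map_add, ← hH.symm, ← hH.symm]
  smul_right c x y := by
    rw [hH.symm (c • y) x, hH.smul_left, map_mul, ← hH.symm, frob_apply, hq]
  symm x y := by
    rw [hH.symm x y, frob_apply, hq]
  nondeg := hH.nondeg

theorem toHermSpace_form {F : Type*} [Field F] {p : ℕ} [Fact p.Prime] [CharP F p] {f q : ℕ}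
    (hq : q = p ^ f) {V : Type*} [AddCommGroup V] [Module F V] (H : V → V → F)
    (hH : IsHerm (frob F p f) H) (x y : V) : (toHermSpace hq H hH).form x y = H x y := rfl

theorem pow_apply_fixed {F : Type*} [Field F] {V : Type*} [AddCommGroup V] [Module F V]
    (T : V →ₗ[F] V) (v : V) (h : T v = v) (k : ℕ) : (T ^ k) v = v := by
  induction k with
  | zero => rw [pow_zero, Module.End.one_apply]
  | succ k ih => rw [pow_succ, Module.End.mul_apply, h, ih]

end UNI2

section poly

variable {F : Type*} [Field F]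

variable [Fintype F] {p f q : ℕ} [Fact p.Prime]

/-- UNI2 -/
theorem exists_uni2 (hq : q = p ^ f) (hf : 1 ≤ f) (hF : Fintype.card F = q ^ 2) :
    ∃ (H : HermSpace F q (F × F)) (u : F × F →ₗ[F] F × F), IsIsom H u ∧ StrictOrd u p := by
  have : CharP F p := charP_of_card hq hf hF
  obtain ⟨t, ht0, ht⟩ := exists_trace_zero (F := F) hq hF
  refine ⟨UNI2.toHermSpace hq (H2 (frob F p f)) (isHerm_H2 hq hF), u2 t, ?_, ?_⟩
  · intro x y
    rw [UNI2.toHermSpace_form, UNI2.toHermSpace_form]
    exact H2_u2 t ht x y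
  · intro k c
    constructor
    · intro h
      have hfix : ((u2 t) ^ k) ((1, 0) : F × F) = (1, 0) :=
        UNI2.pow_apply_fixed (u2 t) (1, 0) (by rw [u2_apply]; simp) k
      have hc : c = 1 := by
        have h1 := congrArg (fun X : F × F →ₗ[F] F × F => (X ((1, 0) : F × F)).1) h
        simp only [hfix, LinearMap.smul_apply, Module.End.one_apply, Prod.smul_fst,
          smul_eq_mul, mul_one] at h1
        exact h1.symm
      refine ⟨hc, ?_⟩
      rw [hc, one_smul] at h
      exact (u2_pow_eq_one_iff t ht0 k).mp h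
    · rintro ⟨rfl, hk⟩
      rw [one_smul]
      exact (u2_pow_eq_one_iff t ht0 k).mpr hk

/-- UNI3 -/
theorem exists_uni3 (hF : Fintype.card F = 4) :
    ∃ (H : HermSpace F 2 (F × F × F)) (u : F × F × F →ₗ[F] F × F × F),
      IsIsom H u ∧ StrictOrd u 4 := by
  have hF' : Fintype.card F = 2 ^ 2 := by rw [hF]; norm_num
  have : CharP F 2 := charP_of_card (p := 2) (f := 1) (q := 2) (by norm_num) le_rfl hF'
  obtain ⟨ω, hω⟩ := exists_omega (F := F) hF
  have hq : (2 : ℕ) = 2 ^ 1 := by norm_num
  refine ⟨UNI2.toHermSpace hq (H3 (frob F 2 1)) (isHerm_H3 hq hF'), u3 ω, ?_, ?_⟩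
  · intro x y
    rw [UNI2.toHermSpace_form, UNI2.toHermSpace_form]
    exact H3_u3 ω hω x y
  · intro k c
    constructor
    · intro h
      have hfix : ((u3 ω) ^ k) ((1, 0, 0) : F × F × F) = (1, 0, 0) :=
        UNI2.pow_apply_fixed (u3 ω) (1, 0, 0) (by rw [u3_apply]; simp) k
      have hc : c = 1 := by
        have h1 := congrArg (fun X : F × F × F →ₗ[F] F × F × F => (X ((1, 0, 0) : F × F × F)).1) h
        simp only [hfix, LinearMap.smul_apply, Module.End.one_apply, Prod.smul_fst,
          smul_eq_mul, mul_one] at h1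
        exact h1.symm
      refine ⟨hc, ?_⟩
      rw [hc, one_smul] at h
      exact (u3_pow_eq_one_iff ω k).mp h
    · rintro ⟨rfl, hk⟩
      rw [one_smul]
      exact (u3_pow_eq_one_iff ω k).mpr hk

end poly

end Cfsg.Agent.S2263P
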