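import Cfsg.Agent.Helper28.S2511Defs
import Cfsg.Agent.Helper28.S2510Defs
import Cfsg.Agent.Helper26.S2263FACA
import Cfsg.Agent.Helper6.S2263MULTSYM
import Cfsg.Agent.Helper10.S2510CHARPOW
import Cfsg.Agent.Helper7.S2264FACS

/-! S2511 pieces DAGDVD, FACSCHAR (helper23). -/

set_option autoImplicit false
set_option linter.unusedSectionVars false

namespace Cfsg.Agent.S2511P

open Polynomial
open Cfsg.Agent.S2263P Cfsg.Agent.S2264P Cfsg.Agent.S2496P

section poly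

open scoped Classical

variable {F : Type*} [Field F]

/-- FACSCHAR (S–M) -/
theorem facs_charpoly {n : ℕ} (A : Matrix (Fin n) (Fin n) F) :
    facs A.charpoly = facs (minpoly F A) := by
  have hc0 : A.charpoly ≠ 0 := (Matrix.charpoly_monic A).ne_zero
  have hm0 : minpoly F A ≠ 0 := minpoly.ne_zero (Matrix.isIntegral A)
  ext ψ
  rw [mem_facs hc0, mem_facs hm0]
  constructor
  · rintro ⟨hirr, hmon, hdvd⟩
    refine ⟨hirr, hmon, ?_⟩
    have h1 : ψ ∣ (minpoly F A) ^ n :=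
      hdvd.trans (Cfsg.Agent.S2510P.CHARPOW.charpoly_dvd_minpoly_pow A)
    exact hirr.prime.dvd_of_dvd_pow h1
  · rintro ⟨hirr, hmon, hdvd⟩
    exact ⟨hirr, hmon, hdvd.trans (Matrix.minpoly_dvd_charpoly A)⟩

/-- DAGDVD (S–M) -/
theorem dag_dvd_X_pow_sub_C {q : ℕ} (σ : F ≃+* F) (hσ : ∀ x, σ x = x ^ q) {φ : F[X]} {j : ℕ}
    (hj : 1 ≤ j) {c : F} (hc : c ^ (q + 1) = 1) (h : φ ∣ X ^ j - C c) :
    dag σ φ ∣ X ^ j - C c := by
  have hc0 : c ≠ 0 := by
    rintro rfl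
    rw [zero_pow (by omega)] at hc
    exact zero_ne_one hc
  have hσc : (σ c)⁻¹ = c := by
    rw [hσ]
    have h3 : c ^ q * c = 1 := by rw [← pow_succ]; exact hc
    exact inv_eq_of_mul_eq_one_right h3
  have h1 := MULTSYM.dag_dvd σ h
  have h2 : dag σ (X ^ j - C c : F[X]) = X ^ j - C c := by
    unfold dag
    rw [Polynomial.map_sub, Polynomial.map_pow, Polynomial.map_X, Polynomial.map_C]
    have hσc0 : (σ : F →+* F) c ≠ 0 := by
      change σ c ≠ 0
      exact (map_ne_zero σ).mpr hc0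
    rw [FACA.recip_X_pow_sub_C hj hσc0]
    change X ^ j - C (σ c)⁻¹ = X ^ j - C c
    rw [hσc]
  rw [h2] at h1
  exact h1

end poly

end Cfsg.Agent.S2511P
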