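import Cfsg.Agent.Helper28.S2511Defs
import Cfsg.Agent.Helper28.S2510Defs
import Cfsg.Agent.Helper16.S2496FROB

/-! S2511 pieces TRACENE, UNIPFACTS (helper23). -/

set_option autoImplicit false
set_option linter.unusedSectionVars false

namespace Cfsg.Agent.S2511P

open Polynomial
open Cfsg.Agent.S2263P Cfsg.Agent.S2264P Cfsg.Agent.S2496P

section herm

variable {F : Type*} [Field F] [Fintype F] {p : ℕ} [Fact p.Prime] [CharP F p] {f q : ℕ}

/-- TRACENE (S) -/
theorem exists_trace_ne_zero (hq : q = p ^ f) (hF : Fintype.card F = q ^ 2) :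
    ∃ a : F, a + frob F p f a ≠ 0 := by
  by_cases h2 : (2 : F) = 0
  · have hne : frob F p f ≠ RingHom.id F := frob_F_ne_id hq hF
    have hex : ∃ c : F, frob F p f c ≠ c := by
      by_contra hcon
      push Not at hcon
      exact hne (RingHom.ext fun c => by rw [hcon c, RingHom.id_apply])
    obtain ⟨c, hc⟩ := hex
    refine ⟨c, ?_⟩
    intro h0
    apply hc
    have h3 : frob F p f c = -c := by linear_combination h0
    have h4 : -c = c := by linear_combination (-c) * h2
    rw [h3, h4]
  · refine ⟨1, ?_⟩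
    rw [map_one]
    intro h
    apply h2
    linear_combination h

omit [Fintype F] in
/-- UNIPFACTS (M) -/
theorem unip_facts {V : Type*} [AddCommGroup V] [Module F V] [FiniteDimensional F V] [Nontrivial V]
    (u : Module.End F V) (b : ℕ) (hb : 1 ≤ b) (h : ∀ j : ℕ, (u - 1) ^ j = 0 ↔ b ≤ j) (k : ℕ)
    (hk : b ≤ p ^ k) (hk' : k = 0 ∨ p ^ (k - 1) < b) :
    (∀ j : ℕ, u ^ j = 1 ↔ p ^ k ∣ j) ∧ (∃ v₀ : V, v₀ ≠ 0 ∧ u v₀ = v₀) ∧ LinearMap.det u = 1 := by
  have hchar : CharP (Module.End F V) p :=
    charP_of_injective_algebraMap (algebraMap F (Module.End F V)).injective p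
  have hu : u = 1 + (u - 1) := by abel
  have hpow : ∀ i : ℕ, u ^ p ^ i = 1 + (u - 1) ^ p ^ i := by
    intro i
    conv_lhs => rw [hu]
    rw [add_pow_char_pow_of_commute p i (Commute.one_left (u - 1)), one_pow]
  have hfin : u ^ p ^ k = 1 := by
    rw [hpow, (h (p ^ k)).mpr hk, add_zero]
  have hnil : IsNilpotent (u - 1) := ⟨b, (h b).mpr le_rfl⟩
  refine ⟨?_, ?_, ?_⟩
  · intro j
    rcases hk' with rfl | hlt
    · rw [pow_zero, pow_one] at hfin
      rw [hfin, one_pow, pow_zero]
      simp
    · obtain ⟨n, rfl⟩ : ∃ n, k = n + 1 := by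
        rcases k with _ | n
        · exfalso
          simp only [Nat.zero_sub, pow_zero] at hlt
          simp only [pow_zero] at hk
          omega
        · exact ⟨n, rfl⟩
      rw [Nat.add_sub_cancel] at hlt
      have hnot : ¬ u ^ p ^ n = 1 := by
        rw [hpow]
        intro h1
        have h0 : (u - 1) ^ p ^ n = 0 := by
          have := congrArg (fun x => x - 1) h1
          simpa using this
        have := (h (p ^ n)).mp h0
        omega
      have hord := orderOf_eq_prime_pow hnot hfin
      rw [← hord, orderOf_dvd_iff_pow_eq_one]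
  · -- a fixed vector: `(u - 1)^(b-1) x ≠ 0`
    have hne : (u - 1) ^ (b - 1) ≠ 0 := by
      intro h0
      have := (h (b - 1)).mp h0
      omega
    obtain ⟨x, hx⟩ : ∃ x : V, ((u - 1) ^ (b - 1)) x ≠ 0 := by
      by_contra hcon
      push Not at hcon
      exact hne (LinearMap.ext hcon)
    refine ⟨((u - 1) ^ (b - 1)) x, hx, ?_⟩
    have hz : ((u - 1) ^ b) x = 0 := by
      rw [(h b).mpr le_rfl]
      rfl
    have hb' : b = (b - 1) + 1 := by omega
    rw [hb', pow_succ', Module.End.mul_apply, LinearMap.sub_apply, Module.End.one_apply,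
      sub_eq_zero] at hz
    exact hz
  · have hdet : LinearMap.det (1 + (u - 1)) = 1 := by
      have h1 : IsNilpotent (-(u - 1)) := hnil.neg
      have h2 := IsNilpotent.charpoly_eq_X_pow_finrank h1
      have h3 := LinearMap.eval_charpoly (-(u - 1)) (1 : F)
      rw [h2, eval_pow, eval_X, one_pow, map_one, sub_neg_eq_add] at h3
      exact h3.symm
    rw [← hu] at hdet
    exact hdet

end herm

end Cfsg.Agent.S2511P
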