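import Mathlib
import Cfsg.Agent.Helper4.S2522.Defs

/-! S2522 piece XIVNE (helper23). -/

set_option autoImplicit false

namespace Cfsg.Agent.S2522P

open Module

namespace XIVNE
variable {K : Type*} [Field K] {V : Type*} [AddCommGroup V] [Module K V]

theorem xiv_ne_zero [FiniteDimensional K V] (g : Module.End K V) (e : V) (φ : Module.Dual K V)
    (h1 : φ e = 1) (h : φ (g e) = 1) (v : V) (hv : φ ((g - 1) v) ≠ 0) : xiv g φ ≠ 0 := by
  intro h0
  apply hv
  have hw : v - φ v • e ∈ LinearMap.ker φ := by
    rw [LinearMap.mem_ker, map_sub, map_smul, h1, smul_eq_mul, mul_one, sub_self]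
  have key := congrArg (fun f : Module.Dual K (LinearMap.ker φ) => f ⟨v - φ v • e, hw⟩) h0
  simp only [xiv_apply, LinearMap.zero_apply] at key
  rw [map_sub, map_smul, map_sub, map_smul, h, smul_eq_mul, mul_one] at key
  rw [LinearMap.sub_apply, Module.End.one_apply, map_sub]
  exact key

end XIVNE

end Cfsg.Agent.S2522P
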