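import Mathlib
import Cfsg.Agent.Helper4.S2522.Defs
import Cfsg.Agent.Helper23.S2522XIVNE

/-! S2522 piece CHOICE2 (helper23). -/

set_option autoImplicit false

namespace Cfsg.Agent.S2522P

open Module

namespace CHOICE2
variable {K : Type*} [Field K] {V : Type*} [AddCommGroup V] [Module K V]

/-- a vector which is not an eigenvector is independent of `g e - e` -/
theorem li_pair (g : Module.End K V) (e : V) (hne : ∀ c : K, g e ≠ c • e) :
    LinearIndependent K ![e, g e - e] := by
  have he0 : e ≠ 0 := by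
    intro h0
    apply hne 0
    rw [h0, map_zero, smul_zero]
  rw [LinearIndependent.pair_iff]
  intro s t hst
  have ht : t = 0 := by
    by_contra ht
    apply hne (1 - t⁻¹ * s)
    have h2 : t • (g e - e) = -(s • e) := eq_neg_of_add_eq_zero_right hst
    have h3 : g e - e = (-(t⁻¹ * s)) • e := by
      calc g e - e = t⁻¹ • (t • (g e - e)) := by rw [smul_smul, inv_mul_cancel₀ ht, one_smul]
        _ = (-(t⁻¹ * s)) • e := by rw [h2, smul_neg, smul_smul, neg_smul]
    calc g e = (g e - e) + e := by abel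
      _ = (1 - t⁻¹ * s) • e := by rw [h3, sub_smul, one_smul, neg_smul]; abel
  refine ⟨?_, ht⟩
  rw [ht, zero_smul, add_zero] at hst
  exact (smul_eq_zero.mp hst).resolve_right he0

theorem exists_phi [FiniteDimensional K V] (hn : Module.finrank K V = 2)
    (g : Module.End K V) (hg : Nice g) (y₀ : V) (hy : y₀ ≠ 0) (e : V)
    (he2 : (g - 1) e ∉ Submodule.span K {y₀}) (hne : ∀ c : K, g e ≠ c • e) :
    ∃ (φ : Module.Dual K V) (_h1 : φ e = 1) (_h : φ (g e) = 1), φ y₀ ≠ 0 ∧ xiv g φ ≠ 0 := by
  have hli := li_pair g e hne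
  have hcard : Fintype.card (Fin 2) = Module.finrank K V := by rw [hn]; rfl
  let b : Basis (Fin 2) K V := basisOfLinearIndependentOfCardEqFinrank hli hcard
  have hb : ∀ i, b i = (![e, g e - e] : Fin 2 → V) i := fun i => by
    simp only [b, coe_basisOfLinearIndependentOfCardEqFinrank]
  have hb0 : b 0 = e := hb 0
  have hb1 : b 1 = g e - e := hb 1
  have hφe : b.coord 0 e = 1 := by
    rw [← hb0, Basis.coord_apply, Basis.repr_self, Finsupp.single_eq_same]
  have hφy : b.coord 0 (g e - e) = 0 := by
    rw [← hb1, Basis.coord_apply, Basis.repr_self, Finsupp.single_eq_of_ne (by decide)]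
  have hφge : b.coord 0 (g e) = 1 := by
    have : g e = (g e - e) + e := by abel
    rw [this, map_add, hφy, hφe, zero_add]
  refine ⟨b.coord 0, hφe, hφge, ?_, ?_⟩
  · -- `φ y₀ ≠ 0`
    intro h0
    apply he2
    have hrep : y₀ = b.coord 0 y₀ • b 0 + b.coord 1 y₀ • b 1 := by
      have := b.sum_repr y₀
      rw [Fin.sum_univ_two] at this
      exact this.symm
    rw [h0, zero_smul, zero_add, hb1] at hrep
    have hc1 : b.coord 1 y₀ ≠ 0 := by
      intro hc
      apply hy
      rw [hrep, hc, zero_smul]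
    obtain ⟨a, ha⟩ : ∃ a : K, a = b.coord 1 y₀ := ⟨_, rfl⟩
    rw [← ha] at hrep hc1
    rw [LinearMap.sub_apply, Module.End.one_apply, Submodule.mem_span_singleton]
    refine ⟨a⁻¹, ?_⟩
    rw [hrep, smul_smul, inv_mul_cancel₀ hc1, one_smul]
  · -- `xiv ≠ 0`
    have htop : LinearMap.range (g - 1) = ⊤ := by
      apply Submodule.eq_top_of_finrank_eq
      have h1 := hg.2
      have h2 := Submodule.finrank_le (LinearMap.range (g - 1))
      omega
    have hmem : e ∈ LinearMap.range (g - 1) := by rw [htop]; exact Submodule.mem_top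
    obtain ⟨v, hv⟩ := hmem
    apply XIVNE.xiv_ne_zero g e (b.coord 0) hφe hφge v
    rw [hv, hφe]
    exact one_ne_zero

end CHOICE2

end Cfsg.Agent.S2522P
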