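import Mathlib
import Cfsg.Agent.Helper4.S2522.Defs

/-! S2522 piece DIM1 (helper23). -/

set_option autoImplicit false

namespace Cfsg.Agent.S2522P

open Module

namespace DIM1
variable {K : Type*} [Field K] {V : Type*} [AddCommGroup V] [Module K V]

theorem regUnip_one [FiniteDimensional K V] (hV : Module.finrank K V = 1) :
    RegUnip (1 : Module.End K V) := by
  refine ⟨?_, ?_⟩
  · rw [sub_self]
    exact IsNilpotent.zero
  · rw [sub_self, LinearMap.ker_zero, finrank_top, hV]

theorem eq_one_of_det [FiniteDimensional K V] (hV : Module.finrank K V = 1) (g : Module.End K V)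
    (hdet : LinearMap.det g = 1) : g = 1 := by
  obtain ⟨b, hb0, hb⟩ := finrank_eq_one_iff'.mp hV
  obtain ⟨c, hc⟩ := hb (g b)
  have hg : g = c • (1 : Module.End K V) := by
    apply LinearMap.ext
    intro w
    obtain ⟨a, rfl⟩ := hb w
    rw [map_smul, ← hc, LinearMap.smul_apply, Module.End.one_apply, smul_comm]
  rw [hg, LinearMap.det_smul, hV, pow_one, map_one, mul_one] at hdet
  rw [hg, hdet, one_smul]

theorem good_dim_one [FiniteDimensional K V] (hV : Module.finrank K V = 1) (g : Module.End K V)
    (hdet : LinearMap.det g = 1) (y : V) (hy : y ≠ 0) (ξ : Module.Dual K V) (hξ : ξ ≠ 0) :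
    Good g y ξ := by
  have hg := eq_one_of_det hV g hdet
  refine ⟨1, 1, regUnip_one hV, regUnip_one hV, ?_, ?_, ?_⟩
  · rw [hg, mul_one]
  · rw [sub_self, LinearMap.range_zero, Submodule.mem_bot]
    exact hy
  · have : ∃ v, ξ v ≠ 0 := by
      by_contra hcon
      push Not at hcon
      exact hξ (LinearMap.ext hcon)
    obtain ⟨v, hv⟩ := this
    refine ⟨v, ?_, hv⟩
    rw [sub_self, LinearMap.ker_zero]
    exact Submodule.mem_top

end DIM1

end Cfsg.Agent.S2522P
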