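import Mathlib
import Cfsg.Agent.Helper4.S2522.Defs

/-! S2522 piece SCALAREQ (helper23). -/

set_option autoImplicit false

namespace Cfsg.Agent.S2522P

open Module

namespace SCALAREQ
variable {K : Type*} [Field K] {V : Type*} [AddCommGroup V] [Module K V]

theorem eq_of_comp_scalar (g : Module.End K V) (e : V) (φ : Module.Dual K V) (h1 : φ e = 1)
    (h : φ (g e) = 1) (c : K) (hc : comp g e φ h = c • (1 : Module.End K (LinearMap.ker φ))) (v : V) :
    g v - c • v = φ (g v) • g e - (c * φ v) • e := by
  have hw : v - φ v • e ∈ LinearMap.ker φ := by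
    rw [LinearMap.mem_ker, map_sub, map_smul, h1, smul_eq_mul, mul_one, sub_self]
  have key := congrArg (fun f : Module.End K (LinearMap.ker φ) =>
    ((f ⟨v - φ v • e, hw⟩ : LinearMap.ker φ) : V)) hc
  simp only [comp_coe, LinearMap.smul_apply, Module.End.one_apply, Submodule.coe_smul] at key
  rw [map_sub, map_smul, map_sub, map_smul, h, smul_eq_mul, mul_one] at key
  have e1 : g v - c • v = (g v - φ v • g e - (φ (g v) - φ v) • g e) - c • (v - φ v • e)
      + (φ (g v) • g e - (c * φ v) • e) := by
    rw [sub_smul, smul_sub, mul_smul]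
    abel
  rw [e1, key, sub_self, zero_add]

end SCALAREQ

end Cfsg.Agent.S2522P
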