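import Mathlib
import Cfsg.Agent.Helper4.S2522.Defs
import Cfsg.Agent.Helper23.S2522SCALAREQ

/-! S2522 piece N1CYC (helper23). -/

set_option autoImplicit false

namespace Cfsg.Agent.S2522P

open Module

namespace N1CYC
variable {K : Type*} [Field K] {V : Type*} [AddCommGroup V] [Module K V]

theorem not_scalar_of_cyclic (g : Module.End K V) (e : V) (φ : Module.Dual K V) (h1 : φ e = 1)
    (h : φ (g e) = 1) (hli : LinearIndependent K ![e, g e, g (g e)]) :
    ¬ ∃ c : K, comp g e φ h = c • (1 : Module.End K (LinearMap.ker φ)) := by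
  rintro ⟨c, hc⟩
  have key := SCALAREQ.eq_of_comp_scalar g e φ h1 h c hc (g e)
  rw [h, mul_one] at key
  obtain ⟨t, ht⟩ : ∃ t : K, t = φ (g (g e)) := ⟨_, rfl⟩
  rw [← ht] at key
  have hgg : g (g e) = t • g e - c • e + c • g e := by
    rw [← key]
    abel
  -- a dependence with coefficient one on `g (g e)`
  rw [Fintype.linearIndependent_iff] at hli
  have hsum : ∑ i : Fin 3, (![c, -(c + t), 1] : Fin 3 → K) i •
      (![e, g e, g (g e)] : Fin 3 → V) i = 0 := by
    rw [Fin.sum_univ_three]
    simp only [Matrix.cons_val_zero, Matrix.cons_val_one, Matrix.cons_val_two, Matrix.head_cons,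
      Matrix.tail_cons]
    rw [one_smul, hgg, neg_smul, add_smul]
    abel
  have := hli _ hsum 2
  simp at this

end N1CYC

end Cfsg.Agent.S2522P
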