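import Mathlib
import Cfsg.Agent.Helper4.S2522.Defs
import Cfsg.Agent.Helper23.S2522SCALAREQ

/-! S2522 piece N1UNIQ (helper23). -/

set_option autoImplicit false

namespace Cfsg.Agent.S2522P

open Module

namespace N1UNIQ
variable {K : Type*} [Field K] {V : Type*} [AddCommGroup V] [Module K V]

/-- a vector which is not an eigenvector is independent of its image -/
theorem li_pair_of_not_eigen (g : Module.End K V) (e : V) (hne : ∀ c : K, g e ≠ c • e) :
    LinearIndependent K ![e, g e] := by
  have he0 : e ≠ 0 := by
    intro h0
    apply hne 0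
    rw [h0, map_zero, smul_zero]
  rw [LinearIndependent.pair_iff]
  intro s t hst
  have ht : t = 0 := by
    by_contra ht
    apply hne (-(t⁻¹ * s))
    have h2 : t • g e = -(s • e) := eq_neg_of_add_eq_zero_right hst
    calc g e = t⁻¹ • (t • g e) := by rw [smul_smul, inv_mul_cancel₀ ht, one_smul]
      _ = (-(t⁻¹ * s)) • e := by rw [h2, smul_neg, smul_smul, neg_smul]
  refine ⟨?_, ht⟩
  rw [ht, zero_smul, add_zero] at hst
  exact (smul_eq_zero.mp hst).resolve_right he0

theorem phi_unique [FiniteDimensional K V] (hn : 3 ≤ Module.finrank K V) (g : Module.End K V)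
    (hsurj : Function.Surjective g) (e : V) (hne : ∀ c : K, g e ≠ c • e)
    (φ φ' : Module.Dual K V) (h1 : φ e = 1) (h : φ (g e) = 1) (h1' : φ' e = 1) (h' : φ' (g e) = 1)
    (hs : ∃ c : K, comp g e φ h = c • (1 : Module.End K (LinearMap.ker φ)))
    (hs' : ∃ c : K, comp g e φ' h' = c • (1 : Module.End K (LinearMap.ker φ'))) : φ = φ' := by
  obtain ⟨c, hc⟩ := hs
  obtain ⟨c', hc'⟩ := hs'
  have hli := li_pair_of_not_eigen g e hne
  have E1 := SCALAREQ.eq_of_comp_scalar g e φ h1 h c hc
  have E2 := SCALAREQ.eq_of_comp_scalar g e φ' h1' h' c' hc'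
  -- the difference of the two identities
  have hdiff : ∀ v : V, (c' - c) • v =
      (φ (g v) - φ' (g v)) • g e - (c * φ v - c' * φ' v) • e := by
    intro v
    have e1 : (c' - c) • v = (g v - c • v) - (g v - c' • v) := by
      rw [sub_smul]
      abel
    rw [e1, E1 v, E2 v, sub_smul, sub_smul]
    abel
  by_cases hcc : c' = c
  · -- equal scalars
    apply LinearMap.ext
    intro w
    obtain ⟨v, rfl⟩ := hsurj w
    have hv := hdiff v
    rw [hcc, sub_self, zero_smul] at hv
    rw [LinearIndependent.pair_iff] at hli
    have h0 : (-(c * φ v - c * φ' v)) • e + (φ (g v) - φ' (g v)) • g e = 0 := by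
      rw [hv, neg_smul]
      abel
    have := (hli _ _ h0).2
    exact sub_eq_zero.mp this
  · -- different scalars: the whole space is spanned by `e`, `g e`
    exfalso
    have hne' : c' - c ≠ 0 := sub_ne_zero.mpr hcc
    have htop : (⊤ : Submodule K V) ≤ Submodule.span K ({e, g e} : Set V) := by
      intro v _
      have hv : v = (c' - c)⁻¹ • ((c' - c) • v) := by
        rw [smul_smul, inv_mul_cancel₀ hne', one_smul]
      rw [hv, hdiff v]
      apply Submodule.smul_mem
      apply Submodule.sub_mem
      · exact Submodule.smul_mem _ _ (Submodule.subset_span (by simp))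
      · exact Submodule.smul_mem _ _ (Submodule.subset_span (by simp))
    have h2 : Module.finrank K V ≤ 2 := by
      have h3 : Module.finrank K V ≤
          Module.finrank K (Submodule.span K ({e, g e} : Set V)) := by
        rw [← finrank_top K V]
        exact Submodule.finrank_mono htop
      have h4 : Module.finrank K (Submodule.span K ({e, g e} : Set V)) ≤ 2 := by
        classical
        have h5 := finrank_span_finset_le_card (R := K) ({e, g e} : Finset V)
        have h6 : (({e, g e} : Finset V) : Set V) = {e, g e} := by simp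
        rw [h6] at h5
        exact h5.trans Finset.card_le_two
      exact h3.trans h4
    omega

end N1UNIQ

end Cfsg.Agent.S2522P
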