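import Mathlib
import Cfsg.Agent.Helper4.S2522.Defs
import Cfsg.Agent.Helper18.S2522N2CRIT

/-! S2522 piece N2C (helper23). -/

set_option autoImplicit false
set_option linter.unusedVariables false

namespace Cfsg.Agent.S2522P

open Module

namespace N2C
variable {K : Type*} [Field K] {V : Type*} [AddCommGroup V] [Module K V]

/-- two independent vectors of a subspace and a vector outside of it are independent -/
theorem li_three {x y z : V} (S : Submodule K V) (hx : x ∈ S) (hy : y ∈ S)
    (hxy : LinearIndependent K ![x, y]) (hz : z ∉ S) : LinearIndependent K ![x, y, z] := by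
  rw [Fintype.linearIndependent_iff]
  intro a ha
  rw [Fin.sum_univ_three] at ha
  simp only [Matrix.cons_val_zero, Matrix.cons_val_one, Matrix.cons_val_two, Matrix.head_cons,
    Matrix.tail_cons] at ha
  have h2 : a 2 = 0 := by
    by_contra h2
    apply hz
    have h3 : a 2 • z = -(a 0 • x + a 1 • y) := eq_neg_of_add_eq_zero_right ha
    have h4 : z = (a 2)⁻¹ • (-(a 0 • x + a 1 • y)) := by
      rw [← h3, smul_smul, inv_mul_cancel₀ h2, one_smul]
    rw [h4]
    exact S.smul_mem _ (S.neg_mem (S.add_mem (S.smul_mem _ hx) (S.smul_mem _ hy)))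
  rw [h2, zero_smul, add_zero] at ha
  have h5 := LinearIndependent.pair_iff.mp hxy _ _ ha
  intro i
  fin_cases i
  · exact h5.1
  · exact h5.2
  · exact h2

/-- two independent vectors in a subspace of dimension at least two -/
theorem exists_pair (S : Submodule K V) [FiniteDimensional K V]
    (hS : 2 ≤ Module.finrank K S) :
    ∃ x y : V, x ∈ S ∧ y ∈ S ∧ LinearIndependent K ![x, y] := by
  have hpos : 0 < Module.finrank K S := by omega
  obtain ⟨x, hx⟩ := Module.finrank_pos_iff_exists_ne_zero.mp hpos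
  have hlt : 1 < Module.finrank K S := by omega
  obtain ⟨y, hxy⟩ := exists_linearIndependent_pair_of_one_lt_finrank hlt hx
  refine ⟨x, y, x.2, y.2, ?_⟩
  have h1 := hxy.map' S.subtype (Submodule.ker_subtype S)
  have h2 : (S.subtype ∘ ![x, y]) = ![(x : V), (y : V)] := by
    funext i
    fin_cases i <;> rfl
  rw [h2] at h1
  exact h1

theorem rank_of_two [FiniteDimensional K V] (g : Module.End K V) (hbij : Function.Bijective g)
    (hr : 2 ≤ Module.finrank K (LinearMap.range (g - 1))) (e : V)
    (he : e ∉ LinearMap.range (g - 1)) (φ : Module.Dual K V) (h1 : φ e = 1) (h : φ (g e) = 1)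
    (k : V) (hk : (g - 1) k = 0) (hφk : φ k ≠ 0) :
    2 ≤ Module.finrank K (LinearMap.range (comp g e φ h - 1)) := by
  -- `g e` is not in the range of `g - 1`
  have hge : g e ∉ LinearMap.range (g - 1) := by
    rintro ⟨v, hv⟩
    obtain ⟨u, rfl⟩ := hbij.2 v
    apply he
    refine ⟨u, hbij.1 ?_⟩
    rw [← hv]
    simp only [LinearMap.sub_apply, Module.End.one_apply, map_sub]
  obtain ⟨x, y, ⟨v₁, rfl⟩, ⟨v₂, rfl⟩, hxy⟩ := exists_pair (LinearMap.range (g - 1)) hr
  -- move the preimages into `ker φ`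
  have hw : ∀ v : V, φ (v - (φ v * (φ k)⁻¹) • k) = 0 ∧
      (g - 1) (v - (φ v * (φ k)⁻¹) • k) = (g - 1) v := by
    intro v
    constructor
    · rw [map_sub, map_smul, smul_eq_mul, mul_assoc, inv_mul_cancel₀ hφk, mul_one, sub_self]
    · rw [map_sub, map_smul, hk, smul_zero, sub_zero]
  apply N2CRIT.two_le_rank g e φ h _ _ (hw v₁).1 (hw v₂).1
  rw [(hw v₁).2, (hw v₂).2]
  exact li_three (LinearMap.range (g - 1)) ⟨v₁, rfl⟩ ⟨v₂, rfl⟩ hxy hge

end N2C

end Cfsg.Agent.S2522P
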