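import Mathlib
import Cfsg.Agent.Helper4.S2522.Defs
import Cfsg.Agent.Helper18.S2522N2CRIT
import Cfsg.Agent.Helper23.S2522N2C

/-! S2522 piece N2D (helper23). -/

set_option autoImplicit false
set_option linter.unusedVariables false

namespace Cfsg.Agent.S2522P

open Module

namespace N2D
variable {K : Type*} [Field K] {V : Type*} [AddCommGroup V] [Module K V]

/-- the kernel of a functional taking the value one has codimension one -/
theorem finrank_ker_add_one [FiniteDimensional K V] (φ : Module.Dual K V) {e : V} (h1 : φ e = 1) :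
    Module.finrank K (LinearMap.ker φ) + 1 = Module.finrank K V := by
  have hsurj : LinearMap.range φ = ⊤ := by
    rw [LinearMap.range_eq_top]
    intro c
    exact ⟨c • e, by rw [map_smul, h1, smul_eq_mul, mul_one]⟩
  have h2 := LinearMap.finrank_range_add_finrank_ker φ
  rw [hsurj, finrank_top, Module.finrank_self] at h2
  omega

theorem rank_dim_three [FiniteDimensional K V] (hV : Module.finrank K V = 3) (g : Module.End K V)
    (htop : LinearMap.range (g - 1) = ⊤) (e : V) (φ : Module.Dual K V) (h1 : φ e = 1)
    (h : φ (g e) = 1) (z : V) (hz : (g - 1) z = g e) (hφz : φ z ≠ 0) :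
    2 ≤ Module.finrank K (LinearMap.range (comp g e φ h - 1)) := by
  have hsurj : Function.Surjective (g - 1 : Module.End K V) := LinearMap.range_eq_top.mp htop
  have hinj : Function.Injective (g - 1 : Module.End K V) :=
    LinearMap.injective_iff_surjective.mpr hsurj
  have hker : 2 ≤ Module.finrank K (LinearMap.ker φ) := by
    have := finrank_ker_add_one φ h1
    omega
  obtain ⟨w₁, w₂, hw₁, hw₂, hli⟩ := N2C.exists_pair (LinearMap.ker φ) hker
  have hli' : LinearIndependent K ![(g - 1) w₁, (g - 1) w₂] := by
    have h3 := hli.map' (g - 1) (LinearMap.ker_eq_bot.mpr hinj)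
    have h4 : (⇑(g - 1 : Module.End K V) ∘ ![w₁, w₂]) = ![(g - 1) w₁, (g - 1) w₂] := by
      funext i
      fin_cases i <;> rfl
    rw [h4] at h3
    exact h3
  have hge : g e ∉ Submodule.map (g - 1) (LinearMap.ker φ) := by
    rintro ⟨w, hw, hwe⟩
    apply hφz
    have : w = z := hinj (by rw [hwe, hz])
    rw [← this]
    exact hw
  apply N2CRIT.two_le_rank g e φ h w₁ w₂ hw₁ hw₂
  exact N2C.li_three (Submodule.map (g - 1) (LinearMap.ker φ))
    (Submodule.mem_map_of_mem hw₁) (Submodule.mem_map_of_mem hw₂) hli' hge

end N2D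

end Cfsg.Agent.S2522P
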