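import Mathlib
import Cfsg.Agent.Helper5.S2536DefsA
import Cfsg.Agent.Helper24.S2536MAXHALL

set_option autoImplicit false

/-! S2536 stage 2, piece DWIT (driver helper5; helper23): a `π`-subgroup in no Hall `π`-subgroup
refutes `D_π`. -/

namespace Cfsg.Agent.S2536P

open Equiv Nat

universe u v

section General

variable {G : Type u} [Group G] [Finite G]

/-- DWIT (dep MAXHALL) -/
theorem not_isDPiGroup_of_witness {π : Set ℕ} (X : Subgroup G) (hX : Cfsg.IsPiSubgroup π X)
    (hE : Cfsg.IsEPiGroup π G) (hno : ∀ K : Subgroup G, Cfsg.IsPiHall π K → ¬ X ≤ K) :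
    ¬ Cfsg.IsDPiGroup π G := by
  intro hD
  obtain ⟨K, hK⟩ := hE
  have hKmax := maximal_of_isPiHall hK
  have hfin : ({L : Subgroup G | Cfsg.IsPiSubgroup π L} : Set (Subgroup G)).Finite :=
    Set.toFinite _
  obtain ⟨L, hXL, hLmax⟩ := hfin.exists_le_maximal (a := X) hX
  obtain ⟨g, hg⟩ := hD K L hKmax hLmax
  have hL : Cfsg.IsPiHall π L := by
    rw [hg]
    exact isPiHall_map_conj hK g
  exact hno L hL hXL

end General

end Cfsg.Agent.S2536P
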