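import Mathlib
import Cfsg.Agent.Helper10.S2548Defs
import Cfsg.Agent.Helper17.S2548SUPP
import Cfsg.Agent.Helper23.S2546MONALG
import Cfsg.Agent.Helper18.S2548MONREV
import Cfsg.Agent.Helper10.S2548MONCONJ

set_option autoImplicit false
open scoped Matrix

/-! # S2548 piece HE (driver helper10; helper23): the dichotomy for a pair of opposite root subgroups. -/

namespace Cfsg.Agent.S2548P

open Cfsg.Agent.MatBN
open Cfsg.Agent.S2546P (E)

variable {K : Type*} [Field K] {n : ℕ}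

namespace HE

theorem mat_mul_inv (g : OJ K n) : mat n g * mat n g⁻¹ = 1 := by
  rw [← map_mul, mul_inv_cancel, map_one]

theorem mon_inv (g : OJ K n) (π : Equiv.Perm (Fin n)) (hg : Mon (mat n g) π) :
    Mon (mat n g⁻¹) π⁻¹ :=
  Mon.of_mul_eq_one hg (mat_mul_inv g)

/-- one direction: the root `(i, k)` is mapped to a positive root -/
theorem tri_of_lt (hn : n % 2 = 0) (g : OJ K n) (π : Equiv.Perm (Fin n))
    (hg : Mon (mat n g) π) (a c : Fin n) (h : IsRt n a.val c.val) (hlt : π⁻¹ a < π⁻¹ c) (t : K) :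
    IsTri (mat n g⁻¹ * xR n a.val c.val t * mat n g) := by
  have hgi := mon_inv g π hg
  obtain ⟨t', -, ht'⟩ := MONCONJ.mon_conj hn g⁻¹ π⁻¹ hgi a c h t
  rw [inv_inv] at ht'
  rw [ht']
  exact (SUPP.isUni_xR hn (MONREV.mon_isRt hn g⁻¹ π⁻¹ hgi a c h) hlt t').1

theorem he_all (hn : n % 2 = 0) {i k : ℕ} (h : IsRt n i k) (g : OJ K n) (π : Equiv.Perm (Fin n))
    (hg : Mon (mat n g) π) :
    (∀ t : K, IsTri (mat n g⁻¹ * xR n i k t * mat n g)) ∨
      (∀ t : K, IsTri (mat n g⁻¹ * xR n k i t * mat n g)) := by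
  obtain ⟨h1, h2, h3, h4⟩ := h
  set a : Fin n := ⟨i, h1⟩ with ha
  set c : Fin n := ⟨k, h2⟩ with hc
  have hac : a ≠ c := by
    intro e
    exact h3 (congrArg Fin.val e)
  have hne : π⁻¹ a ≠ π⁻¹ c := fun e => hac (π⁻¹.injective e)
  rcases lt_or_gt_of_ne hne with hlt | hlt
  · left
    intro t
    exact tri_of_lt hn g π hg a c ⟨h1, h2, h3, h4⟩ hlt t
  · right
    intro t
    exact tri_of_lt hn g π hg c a (SUPP.isRt_symm ⟨h1, h2, h3, h4⟩) hlt t

end HE

end Cfsg.Agent.S2548P
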