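import Mathlib
import Cfsg.Prelude.Def_Solvable
import Cfsg.Agent.Lead.S2553Defs
import Cfsg.Agent.S0494
import Cfsg.Agent.S2119

set_option autoImplicit false

/-! S2553 piece CASE60 (helper23): a group with a normal simple subgroup of order 60 with trivial
centralizer is `A₅` or `S₅`. -/

namespace Cfsg.Agent.S2553P

/-- CASE60 -/
theorem case_60 {X : Type} [Group X] [Finite X] (N : Subgroup X) (hN : N.Normal)
    (hs : IsSimpleGroup ↥N) (hcard : Nat.card ↥N = 60)
    (hc : Subgroup.centralizer (N : Set X) = ⊥) :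
    Nonempty (X ≃* ↥(alternatingGroup (Fin 5))) ∨ Nonempty (X ≃* Equiv.Perm (Fin 5)) := by
  classical
  have := hN
  obtain ⟨e⟩ := Cfsg.Agent.S0494.result (G := ↥N) hcard
  let φ : X →* MulAut ↥N := MulAut.conjNormal
  have hφ : Function.Injective φ := by
    rw [injective_iff_map_eq_one]
    intro x hx
    have hmem : x ∈ Subgroup.centralizer (N : Set X) := by
      rw [Subgroup.mem_centralizer_iff]
      intro n hn
      have h1 : (φ x) ⟨n, hn⟩ = ⟨n, hn⟩ := by rw [hx]; rfl
      have h2 : x * n * x⁻¹ = n := by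
        have := congrArg Subtype.val h1
        simpa [φ, MulAut.conjNormal_apply] using this
      calc n * x = (x * n * x⁻¹) * x := by rw [h2]
        _ = x * n := by group
    rw [hc] at hmem
    exact Subgroup.mem_bot.1 hmem
  let e2 : MulAut ↥N ≃* MulAut ↥(alternatingGroup (Fin 5)) := MulAut.congr e
  let e3 : Equiv.Perm (Fin 5) ≃* MulAut ↥(alternatingGroup (Fin 5)) :=
    MulEquiv.ofBijective _ (Cfsg.Agent.S2119.result 5 (by norm_num) (by norm_num))
  let ψ : X →* Equiv.Perm (Fin 5) := (e3.symm.toMonoidHom.comp e2.toMonoidHom).comp φ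
  have hψ : Function.Injective ψ := by
    intro a b hab
    apply hφ
    apply e2.injective
    apply e3.symm.injective
    exact hab
  have hperm : Nat.card (Equiv.Perm (Fin 5)) = 120 := by
    rw [Nat.card_eq_fintype_card, Fintype.card_perm, Fintype.card_fin]
    rfl
  have h1 : Nat.card X ∣ 120 := by
    have := Subgroup.card_dvd_of_injective ψ hψ
    rwa [hperm] at this
  have h2 : 60 ∣ Nat.card X := by
    have := Subgroup.card_subgroup_dvd_card N
    rwa [hcard] at this
  obtain ⟨k, hk⟩ := h2
  have hk2 : k ∣ 2 := by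
    rw [hk] at h1
    exact Nat.dvd_of_mul_dvd_mul_left (by norm_num : 0 < 60) (by simpa using h1)
  have hk3 : k = 1 ∨ k = 2 := by
    have := Nat.le_of_dvd (by norm_num) hk2
    have h0 : k ≠ 0 := by
      rintro rfl
      simp at hk2
    interval_cases k <;> simp_all
  rcases hk3 with rfl | rfl
  · left
    have htop : N = ⊤ := by
      rw [← Subgroup.card_eq_iff_eq_top, hcard, hk]
    exact ⟨(Subgroup.topEquiv.symm.trans (MulEquiv.subgroupCongr htop.symm)).trans e⟩
  · right
    have hbij : Function.Bijective ψ := by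
      rw [Nat.bijective_iff_injective_and_card]
      exact ⟨hψ, by rw [hk, hperm]⟩
    exact ⟨MulEquiv.ofBijective ψ hbij⟩

end Cfsg.Agent.S2553P
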