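import Mathlib
import Cfsg.Prelude.Def_Solvable
import Cfsg.Agent.Lead.S2553Defs
import Cfsg.Agent.Lead.S2553CORES
import Cfsg.Agent.Lead.S2553IDX
import Cfsg.Agent.Helper14.S2553MINNORMAL

set_option autoImplicit false

/-! S2553 piece CENT (helper23), core: a normal non-abelian simple subgroup of a clean subgroup of `A₈` has
trivial centralizer; the census of simple subgroups (piece CENSUS) is a hypothesis. -/

namespace Cfsg.Agent.S2553P

namespace CENT

/-- transport of the hypotheses of CENSUS to the image in `Γ8` -/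
theorem card_of_simple_sub
    (hcensus : ∀ S : Subgroup Γ8, S ≤ A8 → IsSimpleGroup ↥S → ¬ IsMulCommutative ↥S →
      (Nat.card ↥S = 60 ∨ Nat.card ↥S = 168 ∨ Nat.card ↥S = 360 ∨ Nat.card ↥S = 2520 ∨
        Nat.card ↥S = 20160))
    (K : Subgroup Γ8) (hKA : K ≤ A8) (T : Subgroup ↥K)
    (hs : IsSimpleGroup ↥T) (hna : ¬ IsMulCommutative ↥T) :
    Nat.card ↥T = 60 ∨ Nat.card ↥T = 168 ∨ Nat.card ↥T = 360 ∨ Nat.card ↥T = 2520 ∨
      Nat.card ↥T = 20160 := by
  let e : ↥T ≃* ↥(T.map K.subtype) := T.equivMapOfInjective K.subtype Subtype.val_injective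
  have hle : T.map K.subtype ≤ A8 := by
    rintro _ ⟨t, -, rfl⟩
    exact hKA t.2
  have hs' : IsSimpleGroup ↥(T.map K.subtype) := e.isSimpleGroup_congr.1 hs
  have hna' : ¬ IsMulCommutative ↥(T.map K.subtype) := by
    intro h
    apply hna
    refine ⟨⟨fun a b => ?_⟩⟩
    apply e.injective
    rw [map_mul, map_mul]
    exact h.is_comm.comm (e a) (e b)
  have := hcensus (T.map K.subtype) hle hs' hna'
  rwa [← Nat.card_congr e.toEquiv] at this

/-- CENT, with CENSUS as a hypothesis -/
theorem centralizer_eq_bot_of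
    (hcensus : ∀ S : Subgroup Γ8, S ≤ A8 → IsSimpleGroup ↥S → ¬ IsMulCommutative ↥S →
      (Nat.card ↥S = 60 ∨ Nat.card ↥S = 168 ∨ Nat.card ↥S = 360 ∨ Nat.card ↥S = 2520 ∨
        Nat.card ↥S = 20160))
    (K : Subgroup Γ8) (hKA : K ≤ A8) (hK : Clean ↥K) (N : Subgroup ↥K)
    (hN : N.Normal) (hs : IsSimpleGroup ↥N) (hna : ¬ IsMulCommutative ↥N) :
    Subgroup.centralizer (N : Set ↥K) = ⊥ := by
  classical
  by_contra hne
  have := hN
  have hCn : (Subgroup.centralizer (N : Set ↥K)).Normal := Subgroup.normal_centralizer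
  obtain ⟨M, T, m, hMn, hMC, hTM, hTs, hTna, -⟩ := exists_simple_in_normal (X := ↥K)
    (fun p _ N' hN' hp => clean_pgroup hK p N' hN' hp) _ hCn hne
  have hTC : T ≤ Subgroup.centralizer (N : Set ↥K) := hTM.trans hMC
  -- `T` and `N` commute
  have hcomm : ∀ (t : ↥T) (n : ↥N), Commute (T.subtype t) (N.subtype n) := by
    intro t n
    have := Subgroup.mem_centralizer_iff.1 (hTC t.2) n n.2
    exact this.symm
  -- `T ⊓ N = ⊥`
  have hcenter : Subgroup.center ↥N = ⊥ := by
    rcases hs.eq_bot_or_eq_top_of_normal (Subgroup.center ↥N) inferInstance with h | h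
    · exact h
    · exact absurd (Subgroup.center_eq_top_iff.1 h) hna
  have hTN : ∀ k : ↥K, k ∈ T → k ∈ N → k = 1 := by
    intro k hkT hkN
    have hz : (⟨k, hkN⟩ : ↥N) ∈ Subgroup.center ↥N := by
      rw [Subgroup.mem_center_iff]
      intro n
      apply Subtype.ext
      exact Subgroup.mem_centralizer_iff.1 (hTC hkT) n n.2
    rw [hcenter, Subgroup.mem_bot] at hz
    exact congrArg Subtype.val hz
  -- the product map
  let g₀ : ↥T × ↥N →* ↥K := MonoidHom.noncommCoprod T.subtype N.subtype hcomm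
  have hg₀ : Function.Injective g₀ := by
    rw [injective_iff_map_eq_one]
    rintro ⟨t, n⟩ h
    have h' : (t : ↥K) * (n : ↥K) = 1 := by
      simpa [g₀, MonoidHom.noncommCoprod_apply] using h
    have htn : (t : ↥K) = (n : ↥K)⁻¹ := eq_inv_of_mul_eq_one_left h'
    have ht1 : (t : ↥K) = 1 := hTN _ t.2 (by rw [htn]; exact N.inv_mem n.2)
    have hn1 : (n : ↥K) = 1 := by
      rw [ht1, one_mul] at h'
      exact h'
    exact Prod.ext (Subtype.ext ht1) (Subtype.ext hn1)
  let g : ↥T × ↥N →* Γ8 := K.subtype.comp g₀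
  have hg : Function.Injective g := fun a b hab => hg₀ (Subtype.val_injective hab)
  have hSA : g.range ≤ A8 := by
    rintro _ ⟨a, rfl⟩
    exact hKA (g₀ a).2
  have hScard : Nat.card ↥g.range = Nat.card ↥T * Nat.card ↥N := by
    rw [← Nat.card_congr (MonoidHom.ofInjective hg).toEquiv, Nat.card_prod]
  have hdvd : Nat.card ↥g.range ∣ 20160 := by
    rw [← card_A8]
    exact Subgroup.card_dvd_of_le hSA
  have hT := card_of_simple_sub hcensus K hKA T hTs hTna
  have hN' := card_of_simple_sub hcensus K hKA N hs hna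
  have hcases : Nat.card ↥g.range = 10080 := by
    rw [hScard] at hdvd ⊢
    rcases hT with h | h | h | h | h <;> rcases hN' with h' | h' | h' | h' | h' <;>
      rw [h, h'] at hdvd ⊢ <;> first | rfl | (exfalso; revert hdvd; decide)
  have hneA : g.range ≠ A8 := by
    intro h
    have := card_A8
    rw [← h, hcases] at this
    norm_num at this
  have := card_le_of_ne g.range hSA hneA
  rw [hcases] at this
  norm_num at this

end CENT

end Cfsg.Agent.S2553P
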