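import Mathlib
import Cfsg.Prelude.Def_Solvable
import Cfsg.Agent.Lead.S2553Defs
import Cfsg.Agent.Helper23.S2553CENTcore
import Cfsg.Agent.Helper13.S2553CENSUS

set_option autoImplicit false

/-! S2553 piece CENT (wrapper written by helper23, compiled and shipped by lead). -/

namespace Cfsg.Agent.S2553P

/-- CENT -/
theorem centralizer_eq_bot (K : Subgroup Γ8) (hKA : K ≤ A8) (hK : Clean ↥K) (N : Subgroup ↥K)
    (hN : N.Normal) (hs : IsSimpleGroup ↥N) (hna : ¬ IsMulCommutative ↥N) :
    Subgroup.centralizer (N : Set ↥K) = ⊥ :=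
  CENT.centralizer_eq_bot_of card_of_simple K hKA hK N hN hs hna

end Cfsg.Agent.S2553P
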