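import Mathlib
import Cfsg.Prelude.Def_PLocal
import Cfsg.Agent.Helper28.S2768Defs
import Cfsg.Agent.Helper23.S2768E0A

/-! # S2768 board, piece IRR (blueprint 1.9) -/

set_option autoImplicit false

namespace Cfsg.Agent.S2768P

open Subgroup

variable {G : Type*} [Group G] [Finite G] {p : ℕ} [Fact p.Prime]

/-- an element of an abelian subgroup normalises every subgroup of it -/
theorem IRR_aux_abelian_normalizes {X : Type*} [Group X] (U U₁ : Subgroup X) (hle : U₁ ≤ U)
    (hcomm : ∀ a ∈ U, ∀ b ∈ U, a * b = b * a) (u : X) (hu : u ∈ U) :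
    u ∈ normalizer (U₁ : Set X) := by
  rw [Subgroup.mem_normalizer_iff]
  intro w
  constructor
  · intro hw
    have h1 : u * w * u⁻¹ = w := by
      rw [hcomm u hu w (hle hw), mul_assoc, mul_inv_cancel, mul_one]
    rw [h1]; exact hw
  · intro hw
    have hwU : w ∈ U := by
      have h1 := mul_mem (mul_mem (inv_mem hu) (hle hw)) hu
      simpa [mul_assoc] using h1
    have h1 : u * w * u⁻¹ = w := by
      rw [hcomm u hu w hwU, mul_assoc, mul_inv_cancel, mul_one]
    rw [h1] at hw; exact hw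

/-- every element of `N_X(U)` is the image of some `z * n` with `π z ∈ U`, `n ∈ N_G(S)` -/
theorem IRR_aux_lift (S : Sylow p G) (K : Subgroup G) [K.Normal] (x : G ⧸ K)
    (hx : x ∈ normalizer ((((S : Subgroup G).map (QuotientGroup.mk' K) : Subgroup (G ⧸ K))) : Set (G ⧸ K))) :
    ∃ z n : G, QuotientGroup.mk' K z ∈ (S : Subgroup G).map (QuotientGroup.mk' K) ∧
      n ∈ normalizer ((S : Subgroup G) : Set G) ∧ x = QuotientGroup.mk' K z * QuotientGroup.mk' K n := by
  obtain ⟨y, rfl⟩ := QuotientGroup.mk'_surjective K x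
  have hSH : (S : Subgroup G) ≤ (S : Subgroup G) ⊔ K := le_sup_left
  have hcomap : ((S : Subgroup G).map (QuotientGroup.mk' K)).comap (QuotientGroup.mk' K) = (S : Subgroup G) ⊔ K := by
    rw [Subgroup.comap_map_eq, QuotientGroup.ker_mk']
  have hyS : ((y • S : Sylow p G) : Subgroup G) ≤ (S : Subgroup G) ⊔ K := by
    intro t ht
    rw [Sylow.coe_subgroup_smul] at ht
    obtain ⟨s, hs, rfl⟩ := ht
    rw [← hcomap, Subgroup.mem_comap]
    have h1 : QuotientGroup.mk' K ((MulAut.conj y) s) =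
        QuotientGroup.mk' K y * QuotientGroup.mk' K s * (QuotientGroup.mk' K y)⁻¹ := by
      simp [MulAut.conj_apply]
    have h2 : QuotientGroup.mk' K s ∈ (S : Subgroup G).map (QuotientGroup.mk' K) :=
      Subgroup.mem_map_of_mem _ hs
    have h3 := (Subgroup.mem_normalizer_iff.1 hx (QuotientGroup.mk' K s)).1 h2
    change QuotientGroup.mk' K ((MulAut.conj y) s) ∈ _
    rw [h1]; exact h3
  obtain ⟨z, hz⟩ := MulAction.exists_smul_eq ↥((S : Subgroup G) ⊔ K) (S.subtype hSH)
    ((y • S).subtype hyS)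
  rw [Sylow.smul_subtype] at hz
  have hz' : (z : G) • S = y • S := Sylow.subtype_injective hz
  have hn : ((z : G)⁻¹ * y) • S = S := by
    rw [mul_smul, ← hz', inv_smul_smul]
  refine ⟨(z : G), (z : G)⁻¹ * y, ?_, Sylow.smul_eq_iff_mem_normalizer.1 hn, ?_⟩
  · rw [← Subgroup.mem_comap, hcomap]; exact z.2
  · rw [← map_mul, mul_inv_cancel_left]

theorem IRR (S : Sylow p G) (M K : Subgroup G) [K.Normal] (h : Hyp p S M K) : Irr p S := by
  intro S₁ hQ hS₁ hne hnorm
  obtain ⟨-, -, -, -, hSK⟩ := E0A S M K h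
  have hUcoe : ((S.mapSurjective (QuotientGroup.mk'_surjective K) : Sylow p (G ⧸ K)) : Subgroup (G ⧸ K)) =
      (S : Subgroup G).map (QuotientGroup.mk' K) := Sylow.coe_mapSurjective _ _
  have hle : S₁.map (QuotientGroup.mk' K) ≤
      ((S.mapSurjective (QuotientGroup.mk'_surjective K) : Sylow p (G ⧸ K)) : Subgroup (G ⧸ K)) := by
    rw [hUcoe]; exact Subgroup.map_mono hS₁
  have hnb : S₁.map (QuotientGroup.mk' K) ≠ ⊥ := by
    intro hb
    rw [Subgroup.map_eq_bot_iff, QuotientGroup.ker_mk'] at hb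
    exact hne (le_antisymm ((le_inf hS₁ hb).trans hSK) hQ)
  have hN : normalizer ((((S.mapSurjective (QuotientGroup.mk'_surjective K) : Sylow p (G ⧸ K)) :
      Subgroup (G ⧸ K))) : Set (G ⧸ K)) ≤
      normalizer ((S₁.map (QuotientGroup.mk' K) : Subgroup (G ⧸ K)) : Set (G ⧸ K)) := by
    intro x hx
    rw [hUcoe] at hx
    obtain ⟨z, n, hz, hn, rfl⟩ := IRR_aux_lift S K x hx
    refine mul_mem ?_ ?_
    · refine IRR_aux_abelian_normalizes _ _ (by rw [← hUcoe]; exact hle) ?_ _ hz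
      intro a ha b hb
      rw [← hUcoe] at ha hb
      exact h.rank.comm _ a ha b hb
    · exact Subgroup.le_normalizer_map _ (Subgroup.mem_map_of_mem _ (hnorm hn))
  have heq := h.rank.irr _ _ hle hnb hN
  rw [hUcoe] at heq
  refine le_antisymm hS₁ ?_
  intro s hs
  have h1 : QuotientGroup.mk' K s ∈ S₁.map (QuotientGroup.mk' K) := by
    rw [heq]; exact Subgroup.mem_map_of_mem _ hs
  obtain ⟨s₁, hs₁, h2⟩ := h1
  have h3 : s₁⁻¹ * s ∈ K := by
    have := QuotientGroup.eq.1 h2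
    exact this
  have h4 : s₁⁻¹ * s ∈ S₁ := hQ (hSK (Subgroup.mem_inf.2 ⟨mul_mem (inv_mem (hS₁ hs₁)) hs, h3⟩))
  have h5 := mul_mem hs₁ h4
  rwa [mul_inv_cancel_left] at h5

end Cfsg.Agent.S2768P
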