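import Cfsg.Agent.S2855P.Defs

/-!
S2855 piece CONJ (driver helper14; helper23 hedge): `O^p` commutes with conjugation.
-/

set_option autoImplicit false
set_option linter.unusedSectionVars false

namespace Cfsg.Agent.S2855P

open Cfsg
open scoped commutatorElement

section General

variable {G : Type*} [Group G] [Finite G] {p : ℕ} [Fact p.Prime]

/-- piece CONJ: `O^p` commutes with conjugation. -/
theorem resOf_map_conj (E : Subgroup G) (h : G) :
    resOf p (E.map (MulAut.conj h).toMonoidHom) = (resOf p E).map (MulAut.conj h).toMonoidHom := by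
  unfold resOf
  rw [MonoidHom.map_closure]
  congr 1
  ext x
  simp only [Set.mem_image, Subgroup.mem_map, MulEquiv.coe_toMonoidHom]
  constructor
  · rintro ⟨⟨y, hy, rfl⟩, hc⟩
    refine ⟨y, ⟨hy, ?_⟩, rfl⟩
    rwa [MulEquiv.orderOf_eq] at hc
  · rintro ⟨y, ⟨hy, hc⟩, rfl⟩
    refine ⟨⟨y, hy, rfl⟩, ?_⟩
    rwa [MulEquiv.orderOf_eq]

end General

end Cfsg.Agent.S2855P
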