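import Cfsg.Agent.S2855P.Defs

/-!
S2855 piece NCL (driver helper14; helper23): the normal closure of a Sylow `p`-subgroup is everything.
-/

set_option autoImplicit false
set_option linter.unusedSectionVars false

namespace Cfsg.Agent.S2855P

open Cfsg
open scoped commutatorElement

section Minimal

variable {H : Type*} [Group H] [Finite H] {p : ℕ} [Fact p.Prime]

namespace NCL

/-- the normal closure of a Sylow `p`-subgroup contains every `p`-subgroup -/
theorem le_normalClosure_sylow (T : Sylow p H) (P : Subgroup H) (hP : IsPGroup p ↥P) :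
    P ≤ Subgroup.normalClosure (((T : Subgroup H) : Subgroup H) : Set H) := by
  obtain ⟨T', hT'⟩ := hP.exists_le_sylow
  obtain ⟨g, hg⟩ := MulAction.exists_smul_eq H T T'
  intro x hx
  have hx' : x ∈ ((g • T : Sylow p H) : Subgroup H) := by rw [hg]; exact hT' hx
  rw [Sylow.coe_subgroup_smul, Subgroup.mem_smul_pointwise_iff_exists] at hx'
  obtain ⟨y, hy, hyx⟩ := hx'
  rw [MulAut.smul_def, MulAut.conj_apply] at hyx
  have h1 : y ∈ Subgroup.normalClosure (((T : Subgroup H) : Subgroup H) : Set H) :=
    Subgroup.subset_normalClosure hy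
  have h2 := (Subgroup.normalClosure_normal
    (s := (((T : Subgroup H) : Subgroup H) : Set H))).conj_mem _ h1 g
  rwa [hyx] at h2

end NCL

/-- piece NCL -/
theorem normalClosure_sylow_eq_top (𝒦 : Set (Subgroup H)) (hres : pResidual p H ≤ sSup 𝒦)
    (hgen : ∀ E ∈ 𝒦, ∀ T : Sylow p ↥E,
      Subgroup.normalClosure (((T : Subgroup ↥E) : Subgroup ↥E) : Set ↥E) = ⊤)
    (T : Sylow p H) : Subgroup.normalClosure (((T : Subgroup H) : Subgroup H) : Set H) = ⊤ := by
  set N := Subgroup.normalClosure (((T : Subgroup H) : Subgroup H) : Set H) with hN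
  have hNn : N.Normal := Subgroup.normalClosure_normal
  have hE : ∀ E ∈ 𝒦, E ≤ N := by
    intro E hE
    obtain ⟨TE⟩ : Nonempty (Sylow p ↥E) := inferInstance
    have h1 : ((TE : Subgroup ↥E).map E.subtype) ≤ N :=
      NCL.le_normalClosure_sylow T _ (TE.isPGroup'.map _)
    have h2 : Subgroup.normalClosure (((TE : Subgroup ↥E) : Subgroup ↥E) : Set ↥E) ≤ N.subgroupOf E := by
      apply Subgroup.normalClosure_le_normal
      intro x hx
      show x ∈ N.subgroupOf E
      rw [Subgroup.mem_subgroupOf]
      exact h1 ⟨x, hx, rfl⟩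
    rw [hgen E hE TE] at h2
    intro x hx
    have := h2 (Subgroup.mem_top (⟨x, hx⟩ : ↥E))
    rwa [Subgroup.mem_subgroupOf] at this
  have h3 : pResidual p H ≤ N := hres.trans (sSup_le hE)
  have h4 : (T : Subgroup H) ≤ N := Subgroup.le_normalClosure
  have h5 := Helper14.pResidual_sup_sylow T
  exact top_le_iff.mp (h5 ▸ sup_le h3 h4)

end Minimal

end Cfsg.Agent.S2855P
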