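import Cfsg.Agent.S2855P.Defs

/-!
S2855 piece PGEN (driver helper14; helper23): a subgroup generated by `p`-subgroups which it normalizes is a `p`-group.
-/

set_option autoImplicit false
set_option linter.unusedSectionVars false

namespace Cfsg.Agent.S2855P

open Cfsg
open scoped commutatorElement

section General

variable {G : Type*} [Group G] [Finite G] {p : ℕ} [Fact p.Prime]

/-- piece PGEN: a subgroup generated by `p`-subgroups which it normalizes is a `p`-group. -/
theorem isPGroup_sSup_of_normalizes (S : Set (Subgroup G)) (hp : ∀ X ∈ S, IsPGroup p ↥X)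
    (hn : ∀ X ∈ S, sSup S ≤ Subgroup.normalizer (X : Set G)) : IsPGroup p ↥(sSup S) := by
  have h : sSup S ≤ pCoreOf p (sSup S) :=
    sSup_le (fun X hX => Helper14.le_pCoreOf p (le_sSup hX) (hn X hX) (hp X hX))
  exact (Helper14.pCoreOf_isPGroup p (sSup S)).to_le h

end General

end Cfsg.Agent.S2855P
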