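import Cfsg.Prelude.Def_LocalStructure
import Cfsg.Agent.Helper14.Amalgam6
import Cfsg.Agent.Helper14.Irreducible2

/-!
S2856 piece RINV (driver helper14; helper23): if `[V, R] ≤ A ≤ W ≤ V` then `R` normalizes `W`.
-/

set_option autoImplicit false
set_option linter.unusedSectionVars false

namespace Cfsg.Agent.S2856P

open Cfsg Cfsg.Agent.Helper14
open scoped commutatorElement

variable {X : Type*} [Group X] {p : ℕ} [Fact p.Prime] (M₁ M₂ : Subgroup X)

namespace RINV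

theorem conj_mem (V W A R : Subgroup X) (hWV : W ≤ V) (hAW : A ≤ W) (h : ⁅V, R⁆ ≤ A)
    {r : X} (hr : r ∈ R) {w : X} (hw : w ∈ W) : r * w * r⁻¹ ∈ W := by
  have h1 : ⁅w, r⁆ ∈ ⁅V, R⁆ := Subgroup.commutator_mem_commutator (hWV hw) hr
  have h2 : ⁅w, r⁆⁻¹ ∈ W := W.inv_mem (hAW (h h1))
  have e : r * w * r⁻¹ = ⁅w, r⁆⁻¹ * w := by
    rw [commutatorElement_def]; group
  rw [e]
  exact W.mul_mem h2 hw

end RINV

/-- piece RINV: if `[V, R] ≤ A ≤ W ≤ V` then `R` normalizes `W`. -/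
theorem le_normalizer_of_commutator_le (V W A R : Subgroup X) (hWV : W ≤ V) (hAW : A ≤ W)
    (h : ⁅V, R⁆ ≤ A) : R ≤ Subgroup.normalizer (W : Set X) := by
  intro r hr
  rw [Subgroup.mem_normalizer_iff]
  intro w
  constructor
  · intro hw
    exact RINV.conj_mem V W A R hWV hAW h hr hw
  · intro hw
    have := RINV.conj_mem V W A R hWV hAW h (R.inv_mem hr) hw
    have e : r⁻¹ * (r * w * r⁻¹) * r⁻¹⁻¹ = w := by group
    rwa [e] at this

end Cfsg.Agent.S2856P
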