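import Mathlib
import Cfsg.Agent.Helper14.S2863Defs

/-! Board `s2863pieces`, row BRFAC (route B): the lifted factorisation. -/

set_option autoImplicit false
set_option linter.unusedVariables false
set_option linter.unusedSectionVars false

namespace Cfsg.Agent.S2863P

open Cfsg Subgroup
open Cfsg.Agent.Helper14 (cj)

section B
variable {G : Type*} [Group G] [Finite G] {p : ℕ} [Fact p.Prime]

/-- membership in `pCoreOf` for an element of `L`. -/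
theorem BRFAC_aux_mem {L : Subgroup G} (z : ↥L) :
    (z : G) ∈ pCoreOf p L ↔ z ∈ pCore p ↥L := by
  constructor
  · rintro ⟨w, hw, hwz⟩
    have : w = z := Subtype.ext hwz
    rw [← this]; exact hw
  · intro hz
    exact ⟨z, hz, rfl⟩

theorem BRFAC_aux_mk_eq_one {L : Subgroup G} (z : ↥L) :
    (QuotientGroup.mk' (pCore p ↥L) z = 1) ↔ (z : G) ∈ pCoreOf p L := by
  rw [BRFAC_aux_mem, QuotientGroup.mk'_apply, QuotientGroup.eq_one_iff]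

/-- the order of the image is not a power of `p`. -/
theorem BRFAC_aux_order {L : Subgroup G} (z : ↥L) (hnp : ¬ ∃ k : ℕ, orderOf (z : G) = p ^ k) :
    ¬ ∃ k : ℕ, orderOf (QuotientGroup.mk' (pCore p ↥L) z) = p ^ k := by
  rintro ⟨k, hk⟩
  apply hnp
  have h1 : (QuotientGroup.mk' (pCore p ↥L) z) ^ (p ^ k) = 1 := by
    rw [← hk]; exact pow_orderOf_eq_one _
  rw [← map_pow, QuotientGroup.mk'_apply, QuotientGroup.eq_one_iff] at h1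
  obtain ⟨j, hj⟩ := (Cfsg.Agent.Helper14.pCore_isPGroup (G := ↥L) p) ⟨z ^ p ^ k, h1⟩
  have h2 : (z ^ p ^ k) ^ p ^ j = 1 := by
    have := congrArg Subtype.val hj
    simpa using this
  have h3 : z ^ p ^ (k + j) = 1 := by
    rw [pow_add, pow_mul]; exact h2
  have h4 : orderOf z ∣ p ^ (k + j) := orderOf_dvd_of_pow_eq_one h3
  obtain ⟨m, _, hm⟩ := (Nat.dvd_prime_pow (Fact.out : p.Prime)).mp h4
  refine ⟨m, ?_⟩
  rw [← hm]
  exact (Subgroup.orderOf_coe z)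

/-- lifting a conjugate of `Yb`. -/
theorem BRFAC_aux_lift (Y L : Subgroup G) (xb t : ↥L ⧸ pCore p ↥L)
    (ht : t ∈ ((Y.subgroupOf L).map (QuotientGroup.mk' (pCore p ↥L))).map (cj xb)) :
    ∃ x y : ↥L, QuotientGroup.mk' (pCore p ↥L) x = xb ∧ (y : G) ∈ Y ∧
      t = QuotientGroup.mk' (pCore p ↥L) (x * y * x⁻¹) := by
  obtain ⟨x, hx⟩ := QuotientGroup.mk'_surjective (pCore p ↥L) xb
  obtain ⟨yb, ⟨y, hy, rfl⟩, rfl⟩ := ht
  refine ⟨x, y, hx, hy, ?_⟩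
  rw [map_mul, map_mul, map_inv, hx]
  rfl

/-- equal conjugates upstairs give equal conjugates downstairs. -/
theorem BRFAC_aux_le (Y L : Subgroup G) (x1 x2 : ↥L)
    (h : Y.map (cj (x1 : G)) = Y.map (cj (x2 : G))) :
    ((Y.subgroupOf L).map (QuotientGroup.mk' (pCore p ↥L))).map
        (cj (QuotientGroup.mk' (pCore p ↥L) x1)) ≤
      ((Y.subgroupOf L).map (QuotientGroup.mk' (pCore p ↥L))).map
        (cj (QuotientGroup.mk' (pCore p ↥L) x2)) := by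
  rintro _ ⟨yb, ⟨y, hy, rfl⟩, rfl⟩
  have hy' : (y : G) ∈ Y := hy
  have h1 : (x1 : G) * y * (x1 : G)⁻¹ ∈ Y.map (cj (x2 : G)) := by
    rw [← h]; exact ⟨y, hy', rfl⟩
  obtain ⟨y', hy'Y, hy'e⟩ := h1
  have hy'L : y' ∈ L := by
    have : y' = (x2 : G)⁻¹ * ((x1 : G) * y * (x1 : G)⁻¹) * (x2 : G) := by
      rw [← hy'e]; simp [Cfsg.Agent.Helper14.cj_apply]; group
    rw [this]
    exact L.mul_mem (L.mul_mem (L.inv_mem x2.2) (L.mul_mem (L.mul_mem x1.2 y.2) (L.inv_mem x1.2))) x2.2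
  refine ⟨QuotientGroup.mk' (pCore p ↥L) ⟨y', hy'L⟩, ⟨⟨y', hy'L⟩, hy'Y, rfl⟩, ?_⟩
  have h2 : x2 * (⟨y', hy'L⟩ : ↥L) * x2⁻¹ = x1 * y * x1⁻¹ := by
    apply Subtype.ext
    simpa [Cfsg.Agent.Helper14.cj_apply] using hy'e
  show cj (QuotientGroup.mk' (pCore p ↥L) x2) (QuotientGroup.mk' (pCore p ↥L) ⟨y', hy'L⟩) =
    cj (QuotientGroup.mk' (pCore p ↥L) x1) (QuotientGroup.mk' (pCore p ↥L) y)
  rw [Cfsg.Agent.Helper14.cj_apply, Cfsg.Agent.Helper14.cj_apply, ← map_inv, ← map_mul, ← map_mul,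
    ← map_inv, ← map_mul, ← map_mul, h2]

/-- BRFAC -/
theorem BR_fac (Y L : Subgroup G) (hYL : Y ≤ L) (hA : pCoreOf p L ≤ normalizer (Y : Set G))
    (XF : XFacts p ((Y.subgroupOf L).map (QuotientGroup.mk' (pCore p ↥L)))
      (((L ⊓ normalizer (Y : Set G)).subgroupOf L).map (QuotientGroup.mk' (pCore p ↥L))))
    (h : G) (hh : h ∈ L) (hnp : ¬ ∃ k : ℕ, orderOf h = p ^ k) : LFac p Y L h := by
  set π := QuotientGroup.mk' (pCore p ↥L) with hπ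
  have hnp' : ¬ ∃ k : ℕ, orderOf (π ⟨h, hh⟩) = p ^ k := BRFAC_aux_order (p := p) ⟨h, hh⟩ hnp
  obtain ⟨x1b, x2b, tb, sb, htb, hsb, ht1, hs1, hne, hcase⟩ := XF.factor _ hnp'
  obtain ⟨x1, y1, hx1, hy1, rfl⟩ := BRFAC_aux_lift (p := p) Y L x1b tb htb
  obtain ⟨x2, y2, hx2, hy2, rfl⟩ := BRFAC_aux_lift (p := p) Y L x2b sb hsb
  have htn : ((x1 * y1 * x1⁻¹ : ↥L) : G) ∉ pCoreOf p L := by
    intro hc
    exact ht1 ((BRFAC_aux_mk_eq_one (p := p) _).mpr hc)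
  have hsn : ((x2 * y2 * x2⁻¹ : ↥L) : G) ∉ pCoreOf p L := by
    intro hc
    exact hs1 ((BRFAC_aux_mk_eq_one (p := p) _).mpr hc)
  have hneq : Y.map (cj (x1 : G)) ≠ Y.map (cj (x2 : G)) := by
    intro he
    apply hne
    rw [← hx1, ← hx2]
    exact le_antisymm (BRFAC_aux_le (p := p) Y L x1 x2 he) (BRFAC_aux_le (p := p) Y L x2 x1 he.symm)
  rcases hcase with hc | ⟨hp2, hcen, hc⟩
  · -- `h = t s a0`
    have h1 : π ((x1 * y1 * x1⁻¹ * (x2 * y2 * x2⁻¹))⁻¹ * ⟨h, hh⟩) = 1 := by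
      rw [map_mul, map_inv, map_mul, hc, inv_mul_cancel]
    have h2 := (BRFAC_aux_mk_eq_one (p := p) _).mp h1
    refine ⟨x1, x2, ((x1 * y1 * x1⁻¹ : ↥L) : G), ((x2 * y2 * x2⁻¹ : ↥L) : G),
      (((x1 * y1 * x1⁻¹ * (x2 * y2 * x2⁻¹))⁻¹ * ⟨h, hh⟩ : ↥L) : G), x1.2, x2.2,
      ⟨y1, hy1, by simp [Cfsg.Agent.Helper14.cj_apply]⟩, ⟨y2, hy2, by simp [Cfsg.Agent.Helper14.cj_apply]⟩,
      htn, hsn, hneq, h2, Or.inl ?_⟩
    simp only [Subgroup.coe_mul, Subgroup.coe_inv]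
    group
  · -- the central case
    have h1 : π (((x1 * y1 * x1⁻¹ * (x2 * y2 * x2⁻¹)) ^ 2)⁻¹ * ⟨h, hh⟩) = 1 := by
      rw [map_mul, map_inv, map_pow, map_mul, hc, inv_mul_cancel]
    have h2 := (BRFAC_aux_mk_eq_one (p := p) _).mp h1
    refine ⟨x1, x2, ((x1 * y1 * x1⁻¹ : ↥L) : G), ((x2 * y2 * x2⁻¹ : ↥L) : G),
      ((((x1 * y1 * x1⁻¹ * (x2 * y2 * x2⁻¹)) ^ 2)⁻¹ * ⟨h, hh⟩ : ↥L) : G), x1.2, x2.2,
      ⟨y1, hy1, by simp [Cfsg.Agent.Helper14.cj_apply]⟩, ⟨y2, hy2, by simp [Cfsg.Agent.Helper14.cj_apply]⟩,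
      htn, hsn, hneq, h2, Or.inr ⟨hp2, ?_, ?_⟩⟩
    · intro l hl
      have h3 : π ((⟨h, hh⟩ : ↥L) * ⟨l, hl⟩ * (⟨h, hh⟩ : ↥L)⁻¹ * (⟨l, hl⟩ : ↥L)⁻¹) = 1 := by
        rw [map_mul, map_mul, map_mul, map_inv, map_inv]
        have := Subgroup.mem_center_iff.mp hcen (π ⟨l, hl⟩)
        rw [← this]
        group
      have h4 := (BRFAC_aux_mk_eq_one (p := p) _).mp h3
      simpa using h4
    · simp only [Subgroup.coe_mul, Subgroup.coe_inv, Subgroup.coe_pow]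
      group

end B

end Cfsg.Agent.S2863P
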