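import Mathlib
import Cfsg.Agent.Helper14.S2863Defs

/-! Board `s2863pieces`, row BRSR (route B): the lifted semiregularity. -/

set_option autoImplicit false
set_option linter.unusedVariables false
set_option linter.unusedSectionVars false

namespace Cfsg.Agent.S2863P

open Cfsg Subgroup
open Cfsg.Agent.Helper14 (cj)

section B
variable {G : Type*} [Group G] [Finite G] {p : ℕ} [Fact p.Prime]

/-- an element of `L` normalising `Y^x` maps `Yb^{xb}` into itself. -/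
theorem BRSR_aux_conj (Y L : Subgroup G) (x τ : ↥L)
    (hτ : (τ : G) ∈ normalizer ((Y.map (cj (x : G)) : Subgroup G) : Set G))
    (w : ↥L ⧸ pCore p ↥L)
    (hw : w ∈ ((Y.subgroupOf L).map (QuotientGroup.mk' (pCore p ↥L))).map
        (cj (QuotientGroup.mk' (pCore p ↥L) x))) :
    QuotientGroup.mk' (pCore p ↥L) τ * w * (QuotientGroup.mk' (pCore p ↥L) τ)⁻¹ ∈
      ((Y.subgroupOf L).map (QuotientGroup.mk' (pCore p ↥L))).map
        (cj (QuotientGroup.mk' (pCore p ↥L) x)) := by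
  obtain ⟨yb, ⟨y, hy, rfl⟩, rfl⟩ := hw
  have hy' : (y : G) ∈ Y := hy
  have h0 : (x : G) * y * (x : G)⁻¹ ∈ Y.map (cj (x : G)) := ⟨y, hy', rfl⟩
  have h1 : (τ : G) * ((x : G) * y * (x : G)⁻¹) * (τ : G)⁻¹ ∈ Y.map (cj (x : G)) :=
    (mem_normalizer_iff.mp hτ _).mp h0
  obtain ⟨y', hy'Y, hy'e⟩ := h1
  have hy'L : y' ∈ L := by
    have : y' = (x : G)⁻¹ * ((τ : G) * ((x : G) * y * (x : G)⁻¹) * (τ : G)⁻¹) * (x : G) := by
      rw [← hy'e]; simp [Cfsg.Agent.Helper14.cj_apply]; group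
    rw [this]
    exact L.mul_mem (L.mul_mem (L.inv_mem x.2) (L.mul_mem (L.mul_mem τ.2
      (L.mul_mem (L.mul_mem x.2 y.2) (L.inv_mem x.2))) (L.inv_mem τ.2))) x.2
  refine ⟨QuotientGroup.mk' (pCore p ↥L) ⟨y', hy'L⟩, ⟨⟨y', hy'L⟩, hy'Y, rfl⟩, ?_⟩
  have h2 : x * (⟨y', hy'L⟩ : ↥L) * x⁻¹ = τ * (x * y * x⁻¹) * τ⁻¹ := by
    apply Subtype.ext
    simpa [Cfsg.Agent.Helper14.cj_apply] using hy'e
  show cj (QuotientGroup.mk' (pCore p ↥L) x) (QuotientGroup.mk' (pCore p ↥L) ⟨y', hy'L⟩) =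
    QuotientGroup.mk' (pCore p ↥L) τ * cj (QuotientGroup.mk' (pCore p ↥L) x)
      (QuotientGroup.mk' (pCore p ↥L) y) * (QuotientGroup.mk' (pCore p ↥L) τ)⁻¹
  rw [Cfsg.Agent.Helper14.cj_apply, Cfsg.Agent.Helper14.cj_apply, ← map_inv, ← map_mul, ← map_mul,
    ← map_inv, ← map_mul, ← map_mul, ← map_mul, ← map_mul, h2]

/-- BRSR -/
theorem BR_sr (Y L : Subgroup G) (hYL : Y ≤ L) (hA : pCoreOf p L ≤ normalizer (Y : Set G))
    (XF : XFacts p ((Y.subgroupOf L).map (QuotientGroup.mk' (pCore p ↥L)))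
      (((L ⊓ normalizer (Y : Set G)).subgroupOf L).map (QuotientGroup.mk' (pCore p ↥L)))) :
    ∀ t ∈ Y, t ∉ pCoreOf p L → ∀ x ∈ L,
      t ∈ normalizer ((Y.map (cj x) : Subgroup G) : Set G) → x ∈ normalizer (Y : Set G) := by
  intro t ht htn x hx htx
  set π := QuotientGroup.mk' (pCore p ↥L) with hπ
  have htb : π ⟨t, hYL ht⟩ ∈ (Y.subgroupOf L).map π := ⟨⟨t, hYL ht⟩, ht, rfl⟩
  have htb1 : π ⟨t, hYL ht⟩ ≠ 1 := by
    intro h1
    rw [hπ, QuotientGroup.mk'_apply, QuotientGroup.eq_one_iff] at h1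
    exact htn ⟨⟨t, hYL ht⟩, h1, rfl⟩
  have hnorm : π ⟨t, hYL ht⟩ ∈ normalizer
      ((((Y.subgroupOf L).map π).map (cj (π ⟨x, hx⟩)) : Subgroup (↥L ⧸ pCore p ↥L)) :
        Set (↥L ⧸ pCore p ↥L)) := by
    rw [mem_normalizer_iff]
    intro w
    constructor
    · intro hw
      exact BRSR_aux_conj (p := p) Y L ⟨x, hx⟩ ⟨t, hYL ht⟩ htx w hw
    · intro hw
      have hti : ((⟨t, hYL ht⟩⁻¹ : ↥L) : G) ∈
          normalizer ((Y.map (cj ((⟨x, hx⟩ : ↥L) : G)) : Subgroup G) : Set G) := by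
        simpa using inv_mem htx
      have := BRSR_aux_conj (p := p) Y L ⟨x, hx⟩ (⟨t, hYL ht⟩⁻¹) hti _ hw
      rw [map_inv] at this
      have e : (π ⟨t, hYL ht⟩)⁻¹ * (π ⟨t, hYL ht⟩ * w * (π ⟨t, hYL ht⟩)⁻¹) * (π ⟨t, hYL ht⟩)⁻¹⁻¹ = w := by
        group
      rw [e] at this
      exact this
  obtain ⟨n, hn, hnx⟩ := XF.semireg _ htb htb1 _ hnorm
  have hnN : (n : G) ∈ normalizer (Y : Set G) := (mem_subgroupOf.mp hn).2
  have h1 : π (n⁻¹ * ⟨x, hx⟩) = 1 := by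
    rw [map_mul, map_inv, hnx, inv_mul_cancel]
  rw [hπ, QuotientGroup.mk'_apply, QuotientGroup.eq_one_iff] at h1
  have h2 : ((n⁻¹ * ⟨x, hx⟩ : ↥L) : G) ∈ normalizer (Y : Set G) := hA ⟨_, h1, rfl⟩
  have h3 : x = (n : G) * ((n⁻¹ * ⟨x, hx⟩ : ↥L) : G) := by
    simp
  rw [h3]
  exact mul_mem hnN h2

end B

end Cfsg.Agent.S2863P
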