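import Mathlib
import Cfsg.Agent.Helper5.S2932Defs

/-! # S2932 board row PERM_card (helper23): `|altOn Δ| · 2 = |Δ|!` for `|Δ| ≥ 2`. -/

set_option autoImplicit false

namespace Cfsg.Agent.S2932P

/-- `altOn Δ` is the image of the alternating group on `Δ` under `Equiv.Perm.ofSubtype`. -/
theorem card_altOn_aux_eq_map (Δ : Finset (Fin 8)) :
    altOn Δ = (alternatingGroup {x // x ∈ Δ}).map
      (Equiv.Perm.ofSubtype : Equiv.Perm {x // x ∈ Δ} →* Equiv.Perm (Fin 8)) := by
  ext π
  rw [mem_altOn, Subgroup.mem_map]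
  constructor
  · rintro ⟨hπ, hfix⟩
    have h₁ : ∀ x, (π x ∈ Δ) ↔ (x ∈ Δ) := by
      intro x
      constructor
      · intro hx
        by_contra hx'
        rw [hfix x hx'] at hx
        exact hx' hx
      · intro hx
        by_contra hx'
        have h2 : π (π x) = π x := hfix _ hx'
        have h3 : π x = x := π.injective h2
        rw [h3] at hx'
        exact hx' hx
    have h₂ : ∀ x, π x ≠ x → x ∈ Δ := by
      intro x hx
      by_contra hx'
      exact hx (hfix x hx')
    refine ⟨π.subtypePerm h₁, ?_, Equiv.Perm.ofSubtype_subtypePerm h₁ h₂⟩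
    rw [Equiv.Perm.mem_alternatingGroup] at hπ ⊢
    rw [← Equiv.Perm.sign_ofSubtype, Equiv.Perm.ofSubtype_subtypePerm h₁ h₂]
    exact hπ
  · rintro ⟨f, hf, rfl⟩
    refine ⟨?_, fun i hi => Equiv.Perm.ofSubtype_apply_of_not_mem f hi⟩
    rw [Equiv.Perm.mem_alternatingGroup] at hf ⊢
    rw [Equiv.Perm.sign_ofSubtype]
    exact hf

/-- Row PERM_card (S/M). -/
theorem card_altOn (Δ : Finset (Fin 8)) (h : 2 ≤ Δ.card) : Nat.card ↥(altOn Δ) * 2 = Δ.card.factorial := by
  rw [card_altOn_aux_eq_map, Subgroup.card_map_of_injective Equiv.Perm.ofSubtype_injective]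
  have : Nontrivial {x // x ∈ Δ} := by
    rw [← Fintype.one_lt_card_iff_nontrivial, Fintype.card_coe]
    omega
  have h1 := two_mul_nat_card_alternatingGroup (α := {x // x ∈ Δ})
  rw [Nat.card_perm, Nat.card_eq_fintype_card (α := {x // x ∈ Δ}), Fintype.card_coe] at h1
  omega

end Cfsg.Agent.S2932P
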