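import Mathlib
import Cfsg.Agent.Helper27.S3001TOP
import Cfsg.Agent.Helper19.S3001CARDSL2
import Cfsg.Agent.Helper13.S3001CHAR6core
import Cfsg.Agent.Helper20.S3001CHARXCore
import Cfsg.Agent.Helper20.S3001CHARODDCore
import Cfsg.Agent.Helper23.S3001ODD0
import Cfsg.Agent.Helper21.S3001BASM
import Cfsg.Agent.Helper15.S3001CASM

/-! S3001 board `s3001pieces`, row FINAL (part 1): ENDGAME = from the pulled-back strong structure of S3000 on `V / V₀`
(`QCONCLS_core`, helper27) to the conclusion of S3001: case distinction on the type of the component `E 0`. -/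

set_option autoImplicit false
open Cfsg

namespace Cfsg.Agent.S3001P

open Cfsg.Agent.S2789P Cfsg.Agent.S2999P Cfsg.Agent.S3000P

universe u

variable {G : Type u} [Group G] [Finite G] {p : ℕ} [Fact p.Prime] {V P : Subgroup G}

/-- CHAR6 through the cores (`CHARX_core` of helper20 with ODD0, `CHAR6_aux_core` of helper13) -/
theorem ENDGAME_aux_char6 (H : Hyp1 p V P) (T : Sylow p ↥P) {r : ℕ} {E : Fin r → Subgroup G}
    (hC : ConclPBB p (V0 p V P) V P (TT T) r E) (hT : ∀ i, ∀ t ∈ TT T, ∃ j, cjs t (E i) = E j)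
    (hp : p = 2) (i₀ : Fin r) (h6 : Nat.card ↥(E i₀) = 6) : ⁅fixV V (TT T), P⁆ ≠ ⊥ := by
  obtain ⟨hne, hcop⟩ := CHAR6_aux_core (E i₀) h6
  exact CHARX_core T (fun X a b c d => ODD0 H T X a b c d) hC hT CHAR6_aux_c CHAR6_aux_c_le
    (fun g K => CHAR6_aux_c_conj g K) i₀ hne (hp ▸ hcop)

/-- ENDGAME (S, assembly): from the pulled-back strong structure to the conclusion of S3001. -/
theorem ENDGAME (H : Hyp1 p V P) (T : Sylow p ↥P) {r : ℕ} {E : Fin r → Subgroup G}
    (hC : ConclPBB p (V0 p V P) V P (TT T) r E) (hT : ∀ i, ∀ t ∈ TT T, ∃ j, cjs t (E i) = E j) :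
    ⁅fixV V (TT T), P⁆ ≠ ⊥ := by
  have hr : 0 < r := hC.1
  obtain ⟨n, hn, hcase⟩ := hC.2.2.2.2.2.2.2.2 ⟨0, hr⟩
  rcases hcase with ⟨F, iF, iFt, hF, hiso, hact⟩ | ⟨hp, hiso, hact⟩
  · by_cases hp : p = 2
    · rcases eq_or_lt_of_le hn with h1 | h2
      · -- `|F| = 2`
        subst h1
        have hF2 : Fintype.card F = 2 := by rw [hF, hp]; rfl
        obtain ⟨e⟩ := hiso
        have h6 : Nat.card ↥(E ⟨0, hr⟩) = 6 := by
          rw [Nat.card_congr e.toEquiv]; exact CARDSL2 hF2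
        exact ENDGAME_aux_char6 H T hC hT hp ⟨0, hr⟩ h6
      · exact BASM H T hC hT hp ⟨0, hr⟩ h2 hF hiso hact
    · exact CHARODD_core T (fun X a b c d => ODD0 H T X a b c d) hC hT hp ⟨0, hr⟩ hF hiso
  · rcases eq_or_lt_of_le hn with h1 | h2
    · subst h1
      obtain ⟨e⟩ := hiso
      have h6 : Nat.card ↥(E ⟨0, hr⟩) = 6 := by
        rw [Nat.card_congr e.toEquiv, Nat.card_eq_fintype_card, Fintype.card_perm, Fintype.card_fin]; rfl
      exact ENDGAME_aux_char6 H T hC hT hp ⟨0, hr⟩ h6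
    · exact CASM H T hC hT hp ⟨0, hr⟩ h2 hiso hact

end Cfsg.Agent.S3001P
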