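import Mathlib
import Cfsg.Prelude.Def_Transfer

/-! # S3174/S3175, piece NPC: if the odd-order elements of `N_G(T)` centralize the Sylow 2-subgroup `T`,
then `N_G(T)` has a normal 2-complement (Schur–Zassenhaus). -/

set_option autoImplicit false

namespace Cfsg.Agent.S3174P

open scoped commutatorElement

/-- NPC -/
theorem npc {G : Type*} [Group G] [Finite G] (T : Sylow 2 G)
    (h : ∀ g ∈ Subgroup.normalizer ((T : Subgroup G) : Set G), Odd (orderOf g) →
      ∀ x ∈ (T : Subgroup G), g * x * g⁻¹ = x) :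
    Cfsg.HasNormalPComplement 2 ↥(Subgroup.normalizer ((T : Subgroup G) : Set G)) := by
  classical
  have : Fact (Nat.Prime 2) := ⟨Nat.prime_two⟩
  obtain ⟨N, hN⟩ : ∃ N : Subgroup G, N = Subgroup.normalizer ((T : Subgroup G) : Set G) := ⟨_, rfl⟩
  rw [← hN] at h ⊢
  have hTN : (T : Subgroup G) ≤ N := hN ▸ Subgroup.le_normalizer
  let P : Sylow 2 ↥N := T.subtype hTN
  have hPcoe : (P : Subgroup ↥N) = (T : Subgroup G).subgroupOf N := Sylow.coe_subtype _ _
  have hPn : (P : Subgroup ↥N).Normal := by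
    rw [hPcoe]
    exact (Subgroup.normal_subgroupOf_iff_le_normalizer hTN).2 (le_of_eq hN)
  have hcop : Nat.Coprime (Nat.card (P : Subgroup ↥N)) (P : Subgroup ↥N).index :=
    P.card_coprime_index
  obtain ⟨K, hK⟩ := Subgroup.exists_right_complement'_of_coprime hcop
  -- `K` has odd order
  have hKcard : (P : Subgroup ↥N).index = Nat.card K := hK.symm.index_eq_card
  have hKodd : Odd (Nat.card K) := by
    rw [← hKcard]
    exact Nat.odd_iff.mpr (Nat.two_dvd_ne_zero.mp P.not_dvd_index)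
  -- `K` centralizes `P`
  have hcomm : ∀ k ∈ K, ∀ t ∈ (P : Subgroup ↥N), k * t = t * k := by
    intro k hk t ht
    have hodd : Odd (orderOf (k : G)) := by
      rw [Subgroup.orderOf_coe]
      exact Odd.of_dvd_nat hKodd (Subgroup.orderOf_dvd_natCard K hk)
    have htT : (t : G) ∈ (T : Subgroup G) := by
      rw [hPcoe] at ht
      exact Subgroup.mem_subgroupOf.mp ht
    have h1 := h (k : G) k.2 hodd (t : G) htT
    apply Subtype.ext
    simp only [Subgroup.coe_mul]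
    calc (k : G) * t = ((k : G) * t * (k : G)⁻¹) * k := by group
      _ = t * k := by rw [h1]
  refine ⟨P, K, ⟨?_⟩, hK.symm⟩
  intro k' hk' n
  obtain ⟨⟨t, k⟩, htk⟩ := hK.2 n
  have hn : n = (t : ↥N) * (k : ↥N) := htk.symm
  have h2 : n * k' * n⁻¹ = (k : ↥N) * k' * (k : ↥N)⁻¹ := by
    have hc := hcomm ((k : ↥N) * k' * (k : ↥N)⁻¹)
      (K.mul_mem (K.mul_mem k.2 hk') (K.inv_mem k.2)) (t : ↥N) t.2
    rw [hn]
    calc (t : ↥N) * k * k' * ((t : ↥N) * k)⁻¹
        = (t : ↥N) * ((k : ↥N) * k' * (k : ↥N)⁻¹) * (t : ↥N)⁻¹ := by group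
      _ = ((k : ↥N) * k' * (k : ↥N)⁻¹) * t * (t : ↥N)⁻¹ := by rw [← hc]
      _ = (k : ↥N) * k' * (k : ↥N)⁻¹ := by group
  rw [h2]
  exact K.mul_mem (K.mul_mem k.2 hk') (K.inv_mem k.2)

end Cfsg.Agent.S3174P
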