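import Mathlib
import Cfsg.Agent.Helper12.S3222Defs
import Cfsg.Agent.Helper27.S3222CLS
import Cfsg.Agent.Helper27.S3222IDX
import Cfsg.Agent.Helper27.S3222INVERT
import Cfsg.Agent.Helper7.S3222DCOUNT
import Cfsg.Agent.Helper28.S3222SYLFIX
import Cfsg.Agent.Helper2.S3222ALPHA

/-!
# S3222 piece L27C (driver helper12)

The case `M` simple of order 168 is impossible: `|G| = 336`, `G` has 8 Sylow 7-subgroups, the
normalizer of one of them has order 42 and contains an involution `u` outside `M`, conjugate into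
`T`; `7 ∣ |C_G(u)|` would make `u` central (ALPHA), otherwise `u` inverts the Sylow 7-subgroup and
the double count of INVERT, SYLFIX, DCOUNT, CLS gives a 2-adic contradiction.
-/

set_option autoImplicit false

open scoped Pointwise

namespace Cfsg.Agent.S3222P

/-- `|H ⊓ K| · [K : H ⊓ K] = |K|` -/
theorem L27C_aux_card_inf {G : Type*} [Group G] (H K : Subgroup G) :
    Nat.card ↥(H ⊓ K) * H.relIndex K = Nat.card ↥K := by
  have := Subgroup.relIndex_mul_relIndex ⊥ (H ⊓ K) K bot_le inf_le_right
  rwa [Subgroup.relIndex_bot_left, Subgroup.relIndex_bot_left, Subgroup.inf_relIndex_right] at this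

/-- a Sylow 7-subgroup of a group of order 336 has order 7 -/
theorem L27C_aux_card_sylow7 {G : Type*} [Group G] [Finite G] [Fact (Nat.Prime 7)]
    (hG : Nat.card G = 336) (P : Sylow 7 G) : Nat.card ↥(P : Subgroup G) = 7 := by
  rw [Sylow.card_eq_multiplicity, hG]
  have : (336 : ℕ).factorization 7 = 1 := by
    have h1 : (336 : ℕ) = 7 ^ 1 * 48 := by norm_num
    rw [h1, Nat.factorization_mul (by norm_num) (by norm_num),
      Nat.Prime.factorization_pow (by norm_num), Finsupp.add_apply, Finsupp.single_eq_same,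
      Nat.factorization_eq_zero_of_not_dvd (by norm_num : ¬ 7 ∣ 48)]
  rw [this, pow_one]

/-- an element of order dividing 7 lies in every subgroup of index 2 -/
theorem L27C_aux_mem_of_index_two {G : Type*} [Group G] (M : Subgroup G) (hM : M.index = 2)
    (x : G) (hx : x ^ 7 = 1) : x ∈ M := by
  have h2 : x ^ 2 ∈ M := Subgroup.sq_mem_of_index_two hM x
  have h3 : x = (x ^ 2) ^ 4 * (x ^ 7)⁻¹ := by group
  rw [h3, hx, inv_one, mul_one]
  exact M.pow_mem h2 4

/-- an involution is conjugate into any Sylow 2-subgroup -/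
theorem L27C_aux_conj {G : Type*} [Group G] [Finite G] (T : Sylow 2 G) (u : G)
    (hu : orderOf u = 2) : ∃ g : G, g * u * g⁻¹ ∈ (T : Subgroup G) := by
  have hS : IsPGroup 2 (Subgroup.zpowers u) := by
    rw [IsPGroup.iff_card]
    exact ⟨1, by rw [Nat.card_zpowers, hu, pow_one]⟩
  obtain ⟨Q, hQ⟩ := hS.exists_le_sylow
  obtain ⟨g, hg⟩ := MulAction.exists_smul_eq G Q T
  refine ⟨g, ?_⟩
  have hxQ : u ∈ (Q : Subgroup G) := hQ (Subgroup.mem_zpowers u)
  have h1 : MulAut.conj g • u ∈ MulAut.conj g • (Q : Subgroup G) :=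
    Subgroup.smul_mem_pointwise_smul u (MulAut.conj g) _ hxQ
  have h2 : ((g • Q : Sylow 2 G) : Subgroup G) = T := by rw [hg]
  rw [Sylow.coe_subgroup_smul] at h2
  rw [h2] at h1
  simpa [MulAut.smul_def, MulAut.conj_apply] using h1

/-- `G` has 8 Sylow 7-subgroups and an involution outside `M` normalizes one of them -/
theorem L27C_aux_exists {G : Type*} [Group G] [Finite G] [Fact (Nat.Prime 7)]
    (M : Subgroup G) [M.Normal] (hM : M.index = 2)
    (hs : IsSimpleGroup ↥M) (hc : Nat.card ↥M = 168) :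
    Nat.card (Sylow 7 G) = 8 ∧ ∃ (P : Sylow 7 G) (u : G), orderOf u = 2 ∧ u ∉ M ∧
      u ∈ Subgroup.normalizer ((P : Subgroup G) : Set G) := by
  have hG : Nat.card G = 336 := by rw [← M.card_mul_index, hc, hM]
  obtain ⟨P⟩ : Nonempty (Sylow 7 G) := inferInstance
  have hP7 := L27C_aux_card_sylow7 hG P
  have hidx : (P : Subgroup G).index = 48 := by
    have := (P : Subgroup G).card_mul_index
    rw [hP7, hG] at this
    omega
  have hdvd : Nat.card (Sylow 7 G) ∣ 48 := hidx ▸ P.card_dvd_index
  have hmod : Nat.card (Sylow 7 G) ≡ 1 [MOD 7] := card_sylow_modEq_one 7 G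
  have hNcard : Nat.card ↥(Subgroup.normalizer ((P : Subgroup G) : Set G)) *
      Nat.card (Sylow 7 G) = 336 := by
    rw [P.card_eq_index_normalizer, ← hG]
    exact Subgroup.card_mul_index _
  have hn : Nat.card (Sylow 7 G) = 1 ∨ Nat.card (Sylow 7 G) = 8 := by
    have hle : Nat.card (Sylow 7 G) ≤ 48 := Nat.le_of_dvd (by norm_num) hdvd
    unfold Nat.ModEq at hmod
    generalize Nat.card (Sylow 7 G) = n at *
    interval_cases n <;> omega
  have hPM : (P : Subgroup G) ≤ M := fun x hx =>
    L27C_aux_mem_of_index_two M hM x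
      (orderOf_dvd_iff_pow_eq_one.mp (hP7 ▸ Subgroup.orderOf_dvd_natCard _ hx))
  rcases hn with hn1 | hn8
  · exfalso
    rw [hn1, mul_one] at hNcard
    have hNtop : Subgroup.normalizer ((P : Subgroup G) : Set G) = ⊤ :=
      (Subgroup.card_eq_iff_eq_top _).mp (hNcard.trans hG.symm)
    have hPn : (P : Subgroup G).Normal := Subgroup.normalizer_eq_top_iff.mp hNtop
    have hsn : ((P : Subgroup G).subgroupOf M).Normal := inferInstance
    have hcardsub : Nat.card ↥((P : Subgroup G).subgroupOf M) = 7 := by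
      rw [Nat.card_congr (Subgroup.subgroupOfEquivOfLe hPM).toEquiv, hP7]
    rcases hs.eq_bot_or_eq_top_of_normal _ hsn with hb | ht
    · rw [hb, Subgroup.card_bot] at hcardsub
      omega
    · rw [ht, Subgroup.card_top, hc] at hcardsub
      omega
  · refine ⟨hn8, ?_⟩
    rw [hn8] at hNcard
    set N := Subgroup.normalizer ((P : Subgroup G) : Set G) with hN
    have hN42 : Nat.card ↥N = 42 := by omega
    have h1 := L27C_aux_card_inf M N
    have h2 := L27C_aux_card_inf N M
    rw [hN42] at h1
    rw [hc, inf_comm] at h2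
    have hr : M.relIndex N ∣ 2 := hM ▸ Subgroup.relIndex_dvd_index_of_normal M N
    rcases (Nat.dvd_prime Nat.prime_two).mp hr with hr1 | hr2
    · exfalso
      rw [hr1, mul_one] at h1
      rw [h1] at h2
      have h4 : (N.subgroupOf M).index = 4 := by
        have : N.relIndex M = 4 := by omega
        exact this
      have hinst := hs
      have hne : N.subgroupOf M ≠ ⊤ := by
        intro htop
        rw [htop, Subgroup.index_top] at h4
        omega
      have hd := IDX (N.subgroupOf M) hne
      rw [hc, h4] at hd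
      norm_num [Nat.factorial] at hd
    · rw [hr2] at h1
      have h21 : Nat.card ↥(M ⊓ N) = 21 := by omega
      have h2p : Fact (Nat.Prime 2) := ⟨Nat.prime_two⟩
      obtain ⟨u, hu⟩ := exists_prime_orderOf_dvd_card' (G := ↥N) 2 (by rw [hN42]; norm_num)
      refine ⟨P, (u : G), by rw [Subgroup.orderOf_coe]; exact hu, ?_, u.2⟩
      intro huM
      have hmem : (u : G) ∈ M ⊓ N := ⟨huM, u.2⟩
      have hdv := Subgroup.orderOf_dvd_natCard _ hmem
      rw [Subgroup.orderOf_coe, hu, h21] at hdv
      omega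

theorem L27C {G : Type*} [Group G] [Finite G] (t : G) (T : Sylow 2 G)
    (L : Local t T) (M : Subgroup G) [M.Normal] (hM : M.index = 2) (htM : t ∉ M)
    (zM : ↥M) (hzM : orderOf zM = 2)
    (e : ↥(Subgroup.centralizer ({zM} : Set ↥M)) ≃* DihedralGroup 4)
    (hs : IsSimpleGroup ↥M) (hc : Nat.card ↥M = 168) : False := by
  have h7 : Fact (Nat.Prime 7) := ⟨by norm_num⟩
  have hG : Nat.card G = 336 := by rw [← M.card_mul_index, hc, hM]
  obtain ⟨hn8, P0, u0, hu0, hu0M, hu0N⟩ := L27C_aux_exists M hM hs hc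
  obtain ⟨g, hg⟩ := L27C_aux_conj T u0 hu0
  have hu00 : u0 * u0 = 1 := by
    have := pow_orderOf_eq_one u0
    rwa [hu0, pow_two] at this
  obtain ⟨u, hu_def⟩ : ∃ u : G, u = g * u0 * g⁻¹ := ⟨_, rfl⟩
  obtain ⟨P, hP_def⟩ : ∃ P : Sylow 7 G, P = g • P0 := ⟨_, rfl⟩
  rw [← hu_def] at hg
  have huu : u * u = 1 := by
    have : u * u = g * (u0 * u0) * g⁻¹ := by rw [hu_def]; group
    rw [this, hu00, mul_one, mul_inv_cancel]
  have huM : u ∉ M := by
    intro h
    apply hu0M
    have h3 : u0 = g⁻¹ * u * g⁻¹⁻¹ := by rw [hu_def]; group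
    rw [h3]
    exact (inferInstance : M.Normal).conj_mem _ h g⁻¹
  have huN : u ∈ Subgroup.normalizer ((P : Subgroup G) : Set G) := by
    refine Sylow.smul_eq_iff_mem_normalizer.mp ?_
    have h3 : u * g = g * u0 := by rw [hu_def]; group
    rw [hP_def, ← mul_smul, h3, mul_smul, Sylow.smul_eq_iff_mem_normalizer.mpr hu0N]
  have hP7 := L27C_aux_card_sylow7 hG P
  have h8 := L.cent8 u hg
  by_cases h7C : 7 ∣ Nat.card ↥(Subgroup.centralizer ({u} : Set G))
  · set C := Subgroup.centralizer ({u} : Set G) with hC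
    have h56 : 56 ∣ Nat.card ↥C :=
      Nat.Coprime.mul_dvd_of_dvd_of_dvd (by norm_num : Nat.Coprime 8 7) h8 h7C
    have h1 := L27C_aux_card_inf M C
    have h2 := L27C_aux_card_inf C M
    rw [hc, inf_comm] at h2
    have hr : M.relIndex C ∣ 2 := hM ▸ Subgroup.relIndex_dvd_index_of_normal M C
    have h28 : 28 ∣ Nat.card ↥(M ⊓ C) := by
      rcases (Nat.dvd_prime Nat.prime_two).mp hr with hr1 | hr2
      · rw [hr1, mul_one] at h1
        rw [h1]
        exact Dvd.dvd.trans (by norm_num) h56
      · rw [hr2] at h1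
        rw [← h1] at h56
        omega
    have hj6 : C.relIndex M ∣ 6 := by
      obtain ⟨k', hk'⟩ := h28
      rw [hk'] at h2
      exact ⟨k', by nlinarith⟩
    have hjle : C.relIndex M ≤ 6 := Nat.le_of_dvd (by norm_num) hj6
    have hinst := hs
    have htop : C.subgroupOf M = ⊤ := by
      by_contra hne
      have hd := IDX (C.subgroupOf M) hne
      rw [hc] at hd
      have hd2 : (168 : ℕ) ∣ Nat.factorial 6 := hd.trans (Nat.factorial_dvd_factorial hjle)
      norm_num [Nat.factorial] at hd2
    have hMC : M ≤ C := Subgroup.subgroupOf_eq_top.mp htop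
    have hcentral : ∀ x : G, u * x = x * u := by
      intro x
      by_cases hx : x ∈ M
      · exact (Subgroup.mem_centralizer_singleton_iff.mp (hMC hx)).symm
      · have hux : u * x ∈ M := (Subgroup.mul_mem_iff_of_index_two hM).mpr (iff_of_false huM hx)
        have hcomm := Subgroup.mem_centralizer_singleton_iff.mp (hMC hux)
        have h3 : u * (x * u) = u * (u * x) := by rw [← mul_assoc]; exact hcomm
        exact (mul_left_cancel h3).symm
    have h24 := ALPHA t T L M hM htM zM hzM e u huM huu hcentral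
    omega
  · have hinv := INVERT P hP7 u huu huN h7C
    have hfix := SYLFIX P hP7 (by norm_num) u huu hinv
    have hd := DCOUNT u P
    have hcls := CLS u
    rw [hn8] at hfix hd
    rw [hG] at hcls
    have hkpos : 0 < Nat.card {v : G // IsConj u v ∧
        v ∈ Subgroup.normalizer ((P : Subgroup G) : Set G)} :=
      Nat.card_pos_iff.mpr ⟨⟨⟨u, IsConj.refl u, huN⟩⟩, inferInstance⟩
    obtain ⟨C', hC'⟩ := h8
    rw [hC'] at hcls
    generalize Nat.card {v : G // IsConj u v} = c at hd hcls
    generalize Nat.card {Q : Sylow 7 G // u ∈ Subgroup.normalizer ((Q : Subgroup G) : Set G)} = f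
      at hd hfix
    generalize Nat.card {v : G // IsConj u v ∧
        v ∈ Subgroup.normalizer ((P : Subgroup G) : Set G)} = k at hd hkpos
    have h42 : c * C' = 42 := by nlinarith
    have h4 : ¬ 4 ∣ c := by
      intro h4
      have : 4 ∣ 42 := h4.trans ⟨C', h42.symm⟩
      omega
    have hf2 : f ≤ 2 := by omega
    interval_cases f <;> omega

end Cfsg.Agent.S3222P
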