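import Mathlib
import Cfsg.Agent.Helper1.S3401Defs
import Cfsg.Agent.Helper11.S3401TRANS
import Cfsg.Agent.Helper8.S3401TWOT

/-! # S3401 piece KEY (helper23)

Non-trivial normal subgroups are transitive (`TRANS`) and 2-transitive (`TWOT`). -/

set_option autoImplicit false
set_option linter.unusedSectionVars false
set_option linter.unusedVariables false

namespace Cfsg.Agent.S3401P

variable {G : Type*} [Group G] [Finite G] {Ω : Type*} [Fintype Ω] [MulAction G Ω]

/-- KEY: non-trivial normal subgroups are transitive and 2-transitive. -/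
theorem KEY [FaithfulSMul G Ω] (h2 : MulAction.IsMultiplyPretransitive G Ω 2)
    (hn : Fintype.card Ω % 4 = 2) (M : Subgroup G) [M.Normal] (hM : M ≠ ⊥) :
    MulAction.IsMultiplyPretransitive ↥M Ω 2 ∧ ∀ a b : Ω, ∃ m ∈ M, m • a = b := by
  have htr : ∀ a b : Ω, ∃ m ∈ M, m • a = b := fun a b => TRANS h2 M hM a b
  have h : Hyp Ω M := ⟨h2, hn, inferInstance, htr⟩
  exact ⟨TWOT h, htr⟩

end Cfsg.Agent.S3401P
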