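import Mathlib
import Cfsg.Agent.Helper1.S3401Defs
import Cfsg.Agent.Helper23.S3401KEY

/-! # S3401 piece CENT (helper23)

The centraliser of a non-trivial normal subgroup `M` is trivial: otherwise it is 2-transitive (`KEY`), but an
element commuting with the transitive `M` and fixing a point fixes every point. -/

set_option autoImplicit false
set_option linter.unusedSectionVars false
set_option linter.unusedVariables false

namespace Cfsg.Agent.S3401P

variable {G : Type*} [Group G] [Finite G] {Ω : Type*} [Fintype Ω] [MulAction G Ω]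

/-- CENT: the centralizer of a non-trivial normal subgroup is trivial. -/
theorem CENT [FaithfulSMul G Ω] (h2 : MulAction.IsMultiplyPretransitive G Ω 2)
    (hn : Fintype.card Ω % 4 = 2) (hn2 : 2 < Fintype.card Ω) (M : Subgroup G) [M.Normal]
    (hM : M ≠ ⊥) : Subgroup.centralizer (M : Set G) = ⊥ := by
  by_contra hC
  haveI : (Subgroup.centralizer (M : Set G)).Normal := Subgroup.normal_centralizer
  obtain ⟨hC2, -⟩ := KEY h2 hn (Subgroup.centralizer (M : Set G)) hC
  obtain ⟨-, hMtr⟩ := KEY h2 hn M hM
  obtain ⟨a, b, c, hab, hac, hbc⟩ := Fintype.two_lt_card_iff.mp hn2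
  rw [MulAction.is_two_pretransitive_iff] at hC2
  obtain ⟨z, hza, hzb⟩ := hC2 hab hac
  have hza' : (z : G) • a = a := hza
  have hzb' : (z : G) • b = c := hzb
  -- `z` commutes with the transitive `M`, hence fixes `b`
  obtain ⟨m, hm, hmab⟩ := hMtr a b
  have hcomm : m * (z : G) = (z : G) * m := (Subgroup.mem_centralizer_iff.mp z.2) m hm
  have : (z : G) • b = b := by
    rw [← hmab, ← mul_smul, ← hcomm, mul_smul, hza']
  rw [this] at hzb'
  exact hbc hzb'

end Cfsg.Agent.S3401P
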