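import Mathlib
import Cfsg.Agent.Helper28.S3493BLOCKFIX
import Cfsg.Agent.Helper28.S3493REGB
import Cfsg.Agent.Helper20.S3501NOTPGROUP

/-! # S3493 piece REGCASE (helper23)

`N ≅ T^m` regular, `m ≥ 2`: impossible in an extremely primitive group.  Part A of helper28's route: the
stabilisers in `H = G_a` of the points `n • a` are the centralisers `C_H(n)`, coatoms of `H`
(`H28.MAXSTAB`); commuting elements of coprime orders have equal centralisers in `H`; so
`D := C_H(x)` centralises `N`, `D = ⊥`, `|H|` is prime and `H` is fixed-point-free on `N`; `H28.REGB`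
makes `N` an `s`-group, against `NOTPGROUP`. -/

set_option autoImplicit false
set_option linter.unusedSectionVars false
set_option linter.unusedVariables false
set_option linter.style.haveILetI false

namespace Cfsg.Agent.S3493P

open MulAction

/-- membership in the centraliser of `g` inside a subgroup `H`. -/
theorem REGCASE.aux_mem {G : Type*} [Group G] (H : Subgroup G) (g : G) (h : H) :
    h ∈ (Subgroup.centralizer ({g} : Set G)).subgroupOf H ↔ (h : G) * g = g * (h : G) := by
  rw [Subgroup.mem_subgroupOf, Subgroup.mem_centralizer_singleton_iff]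

/-- for a regular normal subgroup, the stabiliser in `G_a` of `n • a` is the centraliser of `n`. -/
theorem REGCASE.aux_stab {G Ω : Type*} [Group G] [MulAction G Ω] (N : Subgroup G) [N.Normal] (a : Ω)
    (hreg : ∀ n : N, (n : G) ∈ stabilizer G a → n = 1) (n : N) :
    stabilizer (stabilizer G a) ((n : G) • a) =
      (Subgroup.centralizer ({(n : G)} : Set G)).subgroupOf (stabilizer G a) := by
  ext h
  rw [REGCASE.aux_mem, mem_stabilizer_iff]
  have hha : (h : G) • a = a := mem_stabilizer_iff.mp h.2
  have hha' : (h : G)⁻¹ • a = a := by rw [inv_smul_eq_iff, hha]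
  have hsm : h • ((n : G) • a) = (h : G) • ((n : G) • a) := rfl
  rw [hsm]
  constructor
  · intro hfix
    -- `n⁻¹ * (h n h⁻¹)` lies in `N` and fixes `a`
    have hmemN : (n : G)⁻¹ * ((h : G) * (n : G) * (h : G)⁻¹) ∈ N :=
      N.mul_mem (N.inv_mem n.2) (Subgroup.Normal.conj_mem inferInstance _ n.2 _)
    have hfixa : ((n : G)⁻¹ * ((h : G) * (n : G) * (h : G)⁻¹)) • a = a := by
      rw [mul_smul, mul_smul, mul_smul, hha', hfix, ← mul_smul, inv_mul_cancel, one_smul]
    have h1 := hreg ⟨_, hmemN⟩ (mem_stabilizer_iff.mpr hfixa)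
    have h2 : (n : G)⁻¹ * ((h : G) * (n : G) * (h : G)⁻¹) = 1 := congrArg Subtype.val h1
    have h3 : (h : G) * (n : G) * (h : G)⁻¹ = (n : G) := by
      have := congrArg (fun z => (n : G) * z) h2
      simpa [mul_assoc] using this
    calc (h : G) * (n : G) = ((h : G) * (n : G) * (h : G)⁻¹) * (h : G) := by group
      _ = (n : G) * (h : G) := by rw [h3]
  · intro hcomm
    rw [← mul_smul, hcomm, mul_smul, hha]

/-- commuting elements of coprime orders: the first is a power of the product. -/
theorem REGCASE.aux_pow {G : Type*} [Group G] (x y : G) (hc : Commute x y)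
    (hco : Nat.Coprime (orderOf x) (orderOf y)) (hx : 1 < orderOf x) : ∃ k : ℕ, (x * y) ^ k = x := by
  obtain ⟨u, -, hu⟩ := Nat.exists_mul_mod_eq_one_of_coprime (n := orderOf y) (k := orderOf x) hco.symm hx
  refine ⟨orderOf y * u, ?_⟩
  rw [hc.mul_pow, pow_mul y, pow_orderOf_eq_one, one_pow, mul_one, ← pow_mod_orderOf, hu, pow_one]

/-- in `H`, the centraliser of a product of commuting elements of coprime orders lies in the centraliser of
the first factor. -/
theorem REGCASE.aux_le {G : Type*} [Group G] (H : Subgroup G) (x y : G) (hc : Commute x y)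
    (hco : Nat.Coprime (orderOf x) (orderOf y)) (hx : 1 < orderOf x) :
    (Subgroup.centralizer ({x * y} : Set G)).subgroupOf H ≤
      (Subgroup.centralizer ({x} : Set G)).subgroupOf H := by
  intro h hh
  rw [REGCASE.aux_mem] at hh ⊢
  obtain ⟨k, hk⟩ := REGCASE.aux_pow x y hc hco hx
  have hcomm : Commute (h : G) (x * y) := hh
  have := hcomm.pow_right k
  rw [hk] at this
  exact this

/-- a subgroup of a simple group containing a conjugation-invariant family with a non-identity member is
everything. -/
theorem REGCASE.aux_top {T : Type*} [Group T] [IsSimpleGroup T] (P : T → Prop)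
    (hP : ∀ t g : T, P t → P (g * t * g⁻¹)) (t0 : T) (ht0 : t0 ≠ 1) (hPt0 : P t0)
    (K : Subgroup T) (hK : ∀ t, P t → t ∈ K) : K = ⊤ := by
  have hnc : Subgroup.normalClosure {t : T | P t} = ⊤ := by
    rcases (Subgroup.normalClosure_normal (s := {t : T | P t})).eq_bot_or_eq_top with h | h
    · exfalso
      have : t0 ∈ Subgroup.normalClosure {t : T | P t} := Subgroup.subset_normalClosure hPt0
      rw [h, Subgroup.mem_bot] at this
      exact ht0 this
    · exact h
  rw [eq_top_iff, ← hnc]
  show Subgroup.closure (Group.conjugatesOfSet {t : T | P t}) ≤ K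
  rw [Subgroup.closure_le]
  intro x hx
  rw [Group.mem_conjugatesOfSet_iff] at hx
  obtain ⟨t, ht, hconj⟩ := hx
  obtain ⟨g, hg⟩ := isConj_iff.mp hconj
  rw [← hg]
  exact hK _ (hP t g ht)

/-- a subgroup of `T^m` containing all `mulSingle`s is everything. -/
theorem REGCASE.aux_pi {T : Type*} [Group T] {m : ℕ} (M : Subgroup (Fin m → T))
    (hM : ∀ (i : Fin m) (t : T), Pi.mulSingle i t ∈ M) : M = ⊤ := by
  classical
  rw [eq_top_iff]
  have h := (Subgroup.pi_le_iff (η := Fin m) (f := fun _ => T) (H := fun _ => ⊤) (J := M)).mpr ?_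
  · rwa [Subgroup.pi_top] at h
  · intro i x hx
    obtain ⟨t, -, rfl⟩ := Subgroup.mem_map.mp hx
    exact hM i t

/-- REGCASE: `N ≅ T^m` regular with `m ≥ 2` is impossible in an extremely primitive group. -/
theorem REGCASE {G Ω : Type*} [Group G] [Finite G] [MulAction G Ω] [FaithfulSMul G Ω] [Nontrivial Ω]
    (hprim : IsPreprimitive G Ω)
    (hep : ∀ (α ω : Ω), IsPreprimitive (stabilizer G α) (orbit (stabilizer G α) ω))
    (N : Subgroup G) [N.Normal] [IsPretransitive N Ω] (hN : N ≠ ⊥)
    (hmin : ∀ M : Subgroup G, M.Normal → M ≤ N → M = ⊥ ∨ M = N) (a : Ω)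
    {T : Type} [Group T] {m : ℕ} (e : N ≃* (Fin m → T)) (hT : IsSimpleGroup T)
    (hnabT : ¬ IsMulCommutative T) (hm : 2 ≤ m)
    (hreg : ∀ n : N, (n : G) ∈ stabilizer G a → n = 1) : False := by
  classical
  haveI := hT
  haveI := hprim
  -- two indices
  let i0 : Fin m := ⟨0, by omega⟩
  let i1 : Fin m := ⟨1, by omega⟩
  have hi10 : i1 ≠ i0 := by
    intro h
    have := congrArg Fin.val h
    simp [i0, i1] at this
  -- the embeddings of the factors
  let φ : Fin m → T →* G := fun i =>
    N.subtype.comp (e.symm.toMonoidHom.comp (MonoidHom.mulSingle (fun _ => T) i))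
  have hφ_apply : ∀ i t, φ i t = ((e.symm (Pi.mulSingle i t) : N) : G) := fun i t => rfl
  have hφN : ∀ i t, φ i t ∈ N := fun i t => (e.symm (Pi.mulSingle i t)).2
  have hφ_inj : ∀ i, Function.Injective (φ i) := by
    intro i t t' h
    have h1 : e.symm (Pi.mulSingle i t) = e.symm (Pi.mulSingle i t') := Subtype.ext h
    exact Pi.mulSingle_injective i (e.symm.injective h1)
  have hφ_comm : ∀ i j t u, i ≠ j → Commute (φ i t) (φ j u) := by
    intro i j t u hij
    have h1 : Commute (Pi.mulSingle (M := fun _ => T) i t) (Pi.mulSingle j u) :=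
      Pi.mulSingle_commute (f := fun _ : Fin m => T) hij t u
    have h2 : Commute (e.symm (Pi.mulSingle i t)) (e.symm (Pi.mulSingle j u)) := h1.map e.symm
    exact congrArg Subtype.val h2.eq
  have hφ_ord : ∀ i t, orderOf (φ i t) = orderOf t := fun i t => orderOf_injective (φ i) (hφ_inj i) t
  haveI : Finite T := Finite.of_injective (φ i0) (hφ_inj i0)
  -- `H = G_a` is a coatom
  have hco : IsCoatom (stabilizer G a) := IsPreprimitive.isCoatom_stabilizer_of_isPreprimitive G a
  -- a non-commuting pair of `T`
  obtain ⟨t1, t2, ht12⟩ : ∃ t1 t2 : T, t1 * t2 ≠ t2 * t1 := by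
    by_contra hcon
    push Not at hcon
    exact hnabT ⟨⟨hcon⟩⟩
  -- (i) `H ≠ ⊥`
  have hHne : stabilizer G a ≠ ⊥ := by
    intro hbot
    rw [hbot] at hco
    have ht1 : t1 ≠ 1 := by
      rintro rfl
      simp at ht12
    have hx1 : φ i0 t1 ≠ 1 := by
      intro h
      apply ht1
      apply hφ_inj i0
      rw [h, map_one]
    have hz : Subgroup.zpowers (φ i0 t1) = ⊤ := by
      apply hco.2
      rw [bot_lt_iff_ne_bot]
      intro h
      apply hx1
      have : φ i0 t1 ∈ Subgroup.zpowers (φ i0 t1) := Subgroup.mem_zpowers _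
      rw [h, Subgroup.mem_bot] at this
      exact this
    have hmem : φ i0 t2 ∈ Subgroup.zpowers (φ i0 t1) := by
      rw [hz]; trivial
    obtain ⟨k, hk⟩ := Subgroup.mem_zpowers_iff.mp hmem
    have hcomm : φ i0 t1 * φ i0 t2 = φ i0 t2 * φ i0 t1 := by
      rw [← hk]
      exact ((Commute.refl (φ i0 t1)).zpow_right k).eq
    rw [← map_mul, ← map_mul] at hcomm
    exact ht12 (hφ_inj i0 hcomm)
  -- (ii) the centralisers in `H` of the non-identity elements of `N` are coatoms
  have hCco : ∀ n : N, n ≠ 1 →
      IsCoatom ((Subgroup.centralizer ({(n : G)} : Set G)).subgroupOf (stabilizer G a)) := by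
    intro n hn
    have hne : (n : G) • a ≠ a := fun h => hn (hreg n (mem_stabilizer_iff.mpr h))
    have := H28.MAXSTAB hprim hep a ((n : G) • a) hne hHne
    rw [REGCASE.aux_stab N a hreg n] at this
    exact this
  have hord_ne : ∀ n : N, 1 < orderOf (n : G) → n ≠ 1 := by
    intro n h1 h
    rw [h] at h1
    simp at h1
  -- (iii) commuting elements of coprime orders have the same centraliser in `H`
  have hCeq : ∀ x y : N, Commute (x : G) (y : G) →
      Nat.Coprime (orderOf (x : G)) (orderOf (y : G)) → 1 < orderOf (x : G) → 1 < orderOf (y : G) →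
      (Subgroup.centralizer ({(x : G)} : Set G)).subgroupOf (stabilizer G a) =
        (Subgroup.centralizer ({(y : G)} : Set G)).subgroupOf (stabilizer G a) := by
    intro x y hc hcop hx hy
    have hx1 := hord_ne x hx
    have hy1 := hord_ne y hy
    have hz1 : x * y ≠ 1 := by
      intro h
      have h' : (x : G) * (y : G) = 1 := by
        have := congrArg Subtype.val h
        simpa using this
      have hxy : (x : G) = (y : G)⁻¹ := eq_inv_of_mul_eq_one_left h'
      rw [hxy, orderOf_inv] at hcop hx
      rw [Nat.coprime_self] at hcop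
      omega
    have hzco := hCco (x * y) hz1
    have hcoe : ((x * y : N) : G) = (x : G) * (y : G) := rfl
    rw [hcoe] at hzco
    have hle1 := REGCASE.aux_le (stabilizer G a) (x : G) (y : G) hc hcop hx
    have hle2 := REGCASE.aux_le (stabilizer G a) (y : G) (x : G) hc.symm hcop.symm hy
    rw [← hc.eq] at hle2
    have e1 : (Subgroup.centralizer ({(x : G) * (y : G)} : Set G)).subgroupOf (stabilizer G a) =
        (Subgroup.centralizer ({(x : G)} : Set G)).subgroupOf (stabilizer G a) := by
      rcases eq_or_lt_of_le hle1 with h | h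
      · exact h
      · exact absurd (hzco.2 _ h) (hCco x hx1).1
    have e2 : (Subgroup.centralizer ({(x : G) * (y : G)} : Set G)).subgroupOf (stabilizer G a) =
        (Subgroup.centralizer ({(y : G)} : Set G)).subgroupOf (stabilizer G a) := by
      rcases eq_or_lt_of_le hle2 with h | h
      · exact h
      · exact absurd (hzco.2 _ h) (hCco y hy1).1
    rw [← e1, e2]
  -- (iv) two elements of different prime orders
  obtain ⟨t0, ht0p, -⟩ := Cfsg.Agent.S3501P.NOTPGROUP hnabT 0
  obtain ⟨u0, hu0q, hqp⟩ := Cfsg.Agent.S3501P.NOTPGROUP hnabT (orderOf t0)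
  have hcop : Nat.Coprime (orderOf t0) (orderOf u0) :=
    (Nat.coprime_primes ht0p hu0q).mpr (Ne.symm hqp)
  -- the subgroup `D`
  have hD0 : ∀ (j : Fin m) (u : T), j ≠ i0 → orderOf u = orderOf u0 →
      (Subgroup.centralizer ({φ j u} : Set G)).subgroupOf (stabilizer G a) =
        (Subgroup.centralizer ({φ i0 t0} : Set G)).subgroupOf (stabilizer G a) := by
    intro j u hj hu
    have := hCeq ⟨φ i0 t0, hφN i0 t0⟩ ⟨φ j u, hφN j u⟩ (hφ_comm i0 j t0 u (Ne.symm hj))
      (by
        show Nat.Coprime (orderOf (φ i0 t0)) (orderOf (φ j u))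
        rw [hφ_ord, hφ_ord, hu]; exact hcop)
      (by
        show 1 < orderOf (φ i0 t0)
        rw [hφ_ord]; exact ht0p.one_lt)
      (by
        show 1 < orderOf (φ j u)
        rw [hφ_ord, hu]; exact hu0q.one_lt)
    exact this.symm
  have hD1 : ∀ t : T, orderOf t = orderOf t0 →
      (Subgroup.centralizer ({φ i0 t} : Set G)).subgroupOf (stabilizer G a) =
        (Subgroup.centralizer ({φ i0 t0} : Set G)).subgroupOf (stabilizer G a) := by
    intro t ht
    have := hCeq ⟨φ i0 t, hφN i0 t⟩ ⟨φ i1 u0, hφN i1 u0⟩ (hφ_comm i0 i1 t u0 (Ne.symm hi10))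
      (by
        show Nat.Coprime (orderOf (φ i0 t)) (orderOf (φ i1 u0))
        rw [hφ_ord, hφ_ord, ht]; exact hcop)
      (by
        show 1 < orderOf (φ i0 t)
        rw [hφ_ord, ht]; exact ht0p.one_lt)
      (by
        show 1 < orderOf (φ i1 u0)
        rw [hφ_ord]; exact hu0q.one_lt)
    rw [show ((⟨φ i0 t, hφN i0 t⟩ : N) : G) = φ i0 t from rfl,
      show ((⟨φ i1 u0, hφN i1 u0⟩ : N) : G) = φ i1 u0 from rfl] at this
    rw [this]
    exact hD0 i1 u0 hi10 rfl
  -- `D` commutes with all the factors
  have hconj_ord : ∀ t g : T, orderOf (g * t * g⁻¹) = orderOf t := by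
    intro t g
    have := orderOf_injective (MulAut.conj g).toMonoidHom (MulAut.conj g).injective t
    simpa [MulAut.conj_apply] using this
  have hDfac : ∀ h : stabilizer G a,
      h ∈ (Subgroup.centralizer ({φ i0 t0} : Set G)).subgroupOf (stabilizer G a) →
      ∀ (i : Fin m) (t : T), (h : G) * φ i t = φ i t * (h : G) := by
    intro h hh i
    -- the subgroup of `T` of the elements whose `i`-th embedding commutes with `h`
    let K : Subgroup T :=
      { carrier := {t | (h : G) * φ i t = φ i t * (h : G)}
        mul_mem' := by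
          intro t t' ht ht'
          show (h : G) * φ i (t * t') = φ i (t * t') * (h : G)
          have ht1 : (h : G) * φ i t = φ i t * (h : G) := ht
          have ht2 : (h : G) * φ i t' = φ i t' * (h : G) := ht'
          rw [map_mul, ← mul_assoc, ht1, mul_assoc, ht2, mul_assoc]
        one_mem' := by
          show (h : G) * φ i 1 = φ i 1 * (h : G)
          rw [map_one, mul_one, one_mul]
        inv_mem' := by
          intro t ht
          show (h : G) * φ i t⁻¹ = φ i t⁻¹ * (h : G)
          have ht1 : Commute (h : G) (φ i t) := ht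
          rw [map_inv]
          exact ht1.inv_right.eq }
    have hKtop : K = ⊤ := by
      by_cases hi : i = i0
      · apply REGCASE.aux_top (fun t => orderOf t = orderOf t0)
          (fun t g ht => by rw [hconj_ord]; exact ht) t0
          (by
            intro h1
            have := ht0p.one_lt
            rw [h1, orderOf_one] at this
            omega) rfl K
        intro t ht
        have hmem : h ∈ (Subgroup.centralizer ({φ i0 t} : Set G)).subgroupOf (stabilizer G a) := by
          rw [hD1 t ht]; exact hh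
        rw [REGCASE.aux_mem] at hmem
        show (h : G) * φ i t = φ i t * (h : G)
        rw [hi]; exact hmem
      · apply REGCASE.aux_top (fun t => orderOf t = orderOf u0)
          (fun t g ht => by rw [hconj_ord]; exact ht) u0
          (by
            intro h1
            have := hu0q.one_lt
            rw [h1, orderOf_one] at this
            omega) rfl K
        intro t ht
        have hmem : h ∈ (Subgroup.centralizer ({φ i t} : Set G)).subgroupOf (stabilizer G a) := by
          rw [hD0 i t hi ht]; exact hh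
        rw [REGCASE.aux_mem] at hmem
        exact hmem
    intro t
    have : t ∈ K := by rw [hKtop]; trivial
    exact this
  -- `D` commutes with `N`
  have hDN : ∀ h : stabilizer G a,
      h ∈ (Subgroup.centralizer ({φ i0 t0} : Set G)).subgroupOf (stabilizer G a) →
      ∀ n : N, (n : G) * (h : G) = (h : G) * (n : G) := by
    intro h hh
    let M : Subgroup (Fin m → T) :=
      (Subgroup.centralizer ({(h : G)} : Set G)).comap (N.subtype.comp e.symm.toMonoidHom)
    have hMtop : M = ⊤ := by
      apply REGCASE.aux_pi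
      intro i t
      show (N.subtype.comp e.symm.toMonoidHom) (Pi.mulSingle i t) ∈
        Subgroup.centralizer ({(h : G)} : Set G)
      rw [Subgroup.mem_centralizer_singleton_iff]
      exact (hDfac h hh i t).symm
    intro n
    have hmem : e n ∈ M := by rw [hMtop]; trivial
    have h2 : (N.subtype.comp e.symm.toMonoidHom) (e n) ∈
        Subgroup.centralizer ({(h : G)} : Set G) := hmem
    rw [Subgroup.mem_centralizer_singleton_iff] at h2
    have h3 : (N.subtype.comp e.symm.toMonoidHom) (e n) = (n : G) := by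
      simp
    rw [h3] at h2
    exact h2
  -- `D = ⊥`
  have hDbot : (Subgroup.centralizer ({φ i0 t0} : Set G)).subgroupOf (stabilizer G a) = ⊥ := by
    rw [Subgroup.eq_bot_iff_forall]
    intro h hh
    apply Subtype.ext
    show (h : G) = 1
    apply FaithfulSMul.eq_of_smul_eq_smul (α := Ω)
    intro ω
    obtain ⟨c, hc⟩ := exists_smul_eq N a ω
    have hc' : (c : G) • a = ω := hc
    have hha : (h : G) • a = a := mem_stabilizer_iff.mp h.2
    rw [one_smul, ← hc', ← mul_smul, ← hDN h hh c, mul_smul, hha]
  -- (v) `⊥` is a coatom of `H`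
  have hx0 : (⟨φ i0 t0, hφN i0 t0⟩ : N) ≠ 1 := by
    apply hord_ne
    show 1 < orderOf (φ i0 t0)
    rw [hφ_ord]; exact ht0p.one_lt
  have hbotco : IsCoatom (⊥ : Subgroup (stabilizer G a)) := by
    have := hCco ⟨φ i0 t0, hφN i0 t0⟩ hx0
    rw [show ((⟨φ i0 t0, hφN i0 t0⟩ : N) : G) = φ i0 t0 from rfl, hDbot] at this
    exact this
  -- `|H|` is prime
  have hcard : (Nat.card (stabilizer G a)).Prime := by
    haveI : Nontrivial (stabilizer G a) := (Subgroup.nontrivial_iff_ne_bot _).mpr hHne
    have h1 : 1 < Nat.card (stabilizer G a) := Finite.one_lt_card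
    obtain ⟨r, hr, hrdvd⟩ := Nat.exists_prime_and_dvd (Nat.ne_of_gt h1)
    haveI : Fact r.Prime := ⟨hr⟩
    obtain ⟨k, hk⟩ := exists_prime_orderOf_dvd_card' r hrdvd
    have hk1 : k ≠ 1 := by
      intro h
      rw [h, orderOf_one] at hk
      exact hr.one_lt.ne hk
    have hz : Subgroup.zpowers k = ⊤ := by
      apply hbotco.2
      rw [bot_lt_iff_ne_bot]
      intro h
      apply hk1
      have : k ∈ Subgroup.zpowers k := Subgroup.mem_zpowers _
      rw [h, Subgroup.mem_bot] at this
      exact this
    have : Nat.card (stabilizer G a) = r := by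
      rw [← Subgroup.card_top (G := stabilizer G a), ← hz, Nat.card_zpowers, hk]
    rw [this]; exact hr
  -- `H` is fixed-point-free on `N`
  have hsemi : ∀ h ∈ stabilizer G a, ∀ n ∈ N, h ≠ 1 → n ≠ 1 → h * n * h⁻¹ ≠ n := by
    intro h hh n hn h1 n1 hconj
    have hn1 : (⟨n, hn⟩ : N) ≠ 1 := fun h' => n1 (congrArg Subtype.val h')
    have hcoat := hCco ⟨n, hn⟩ hn1
    have hCbot : (Subgroup.centralizer ({n} : Set G)).subgroupOf (stabilizer G a) = ⊥ := by
      by_contra hne
      have hlt : (⊥ : Subgroup (stabilizer G a)) <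
          (Subgroup.centralizer ({n} : Set G)).subgroupOf (stabilizer G a) := bot_lt_iff_ne_bot.mpr hne
      exact hcoat.1 (hbotco.2 _ hlt)
    have hmem : (⟨h, hh⟩ : stabilizer G a) ∈
        (Subgroup.centralizer ({n} : Set G)).subgroupOf (stabilizer G a) := by
      rw [REGCASE.aux_mem]
      show h * n = n * h
      calc h * n = (h * n * h⁻¹) * h := by group
        _ = n * h := by rw [hconj]
    rw [hCbot, Subgroup.mem_bot] at hmem
    exact h1 (congrArg Subtype.val hmem)
  -- (vi) the last step and the contradiction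
  have hNH : N ⊓ stabilizer G a = ⊥ := by
    rw [Subgroup.eq_bot_iff_forall]
    intro x hx
    have := hreg ⟨x, hx.1⟩ hx.2
    exact congrArg Subtype.val this
  obtain ⟨s, hs, hpg⟩ := H28.REGB N (stabilizer G a) hN hmin hco hNH hcard hsemi
  obtain ⟨u, hu, hus⟩ := Cfsg.Agent.S3501P.NOTPGROUP hnabT s
  obtain ⟨k, hk⟩ := hpg ⟨φ i0 u, hφN i0 u⟩
  have hk' : (φ i0 u) ^ (s ^ k) = 1 := by
    have := congrArg Subtype.val hk
    simpa using this
  have hdvd : orderOf u ∣ s ^ k := by
    rw [← hφ_ord i0 u]
    exact orderOf_dvd_of_pow_eq_one hk'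
  have hdvd' : orderOf u ∣ s := hu.dvd_of_dvd_pow hdvd
  exact hus ((Nat.prime_dvd_prime_iff_eq hu hs).mp hdvd')

end Cfsg.Agent.S3493P
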