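import Mathlib
import Cfsg.Agent.Helper4.S3501BACK

/-! # S3520 piece A.NONFROB (helper23)

`N` regular normal and a derangement outside `N`: some non-identity element fixes two points (else the
Burnside count `BACK.card_der` gives `#derangements + 1 = degree`, but `N ∖ 1` and `z` are `degree` many
derangements). -/

set_option autoImplicit false
set_option linter.unusedSectionVars false
set_option linter.unusedVariables false

namespace Cfsg.Agent.S3520P

open MulAction

variable {G : Type*} [Group G] [Finite G] {Ω : Type*} [Fintype Ω] [MulAction G Ω]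

/-- A.NONFROB: `N` regular normal and a derangement outside `N`: some non-identity element fixes two
points. -/
theorem A.NONFROB (hΩ : 2 ≤ Fintype.card Ω) (N : Subgroup G) [N.Normal] (htr : IsPretransitive N Ω)
    (hreg : ∀ ω : Ω, stabilizer N ω = ⊥) (z : G) (hz : ∀ ω : Ω, z • ω ≠ ω) (hzN : z ∉ N) :
    ∃ g : G, g ≠ 1 ∧ 2 ≤ Nat.card (fixedBy Ω g) := by
  classical
  by_contra hcon
  push Not at hcon
  -- every non-identity element fixes at most one point
  have hs : ∀ g : G, g ≠ 1 → ∀ a b : Ω, a ≠ b → g • a = a → g • b ≠ b := by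
    intro g hg a b hab ha hb
    have hlt := hcon g hg
    have hnt : Nontrivial (fixedBy Ω g) :=
      ⟨⟨⟨a, ha⟩, ⟨b, hb⟩, fun h => hab (congrArg Subtype.val h)⟩⟩
    have := Finite.one_lt_card_iff_nontrivial.mpr hnt
    omega
  -- `G` is transitive
  have hGtr : IsPretransitive G Ω := by
    refine ⟨fun x y => ?_⟩
    obtain ⟨n, hn⟩ := exists_smul_eq N x y
    exact ⟨(n : G), hn⟩
  have hcard := Cfsg.Agent.S3501P.BACK.card_der (G := G) (Ω := Ω) (by omega) hs
  -- a base point
  obtain ⟨a⟩ : Nonempty Ω := Fintype.card_pos_iff.mp (by omega)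
  -- semiregularity of `N`
  have hsemi : ∀ n : N, ∀ ω : Ω, (n : G) • ω = ω → n = 1 := by
    intro n ω h
    have hmem : n ∈ stabilizer N ω := h
    rw [hreg ω] at hmem
    exact Subgroup.mem_bot.mp hmem
  -- choose, for each point, an element of `N` moving `a` to it
  choose f hf using fun ω : Ω => exists_smul_eq N a ω
  have hfG : ∀ ω : Ω, (f ω : G) • a = ω := fun ω => hf ω
  -- the injection of `Ω` into the derangements
  have hder : ∀ ω : Ω, ω ≠ a → ∀ x : Ω, (f ω : G) • x ≠ x := by
    intro ω hω x hx
    have h1 := hsemi (f ω) x hx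
    have := hfG ω
    rw [h1] at this
    simp at this
    exact hω this.symm
  let F : Ω → {g : G // ∀ ω : Ω, g • ω ≠ ω} := fun ω =>
    if h : ω = a then ⟨z, hz⟩ else ⟨(f ω : G), hder ω h⟩
  have hF : Function.Injective F := by
    intro x y hxy
    by_cases hx : x = a
    · by_cases hy : y = a
      · rw [hx, hy]
      · exfalso
        simp only [F, dif_pos hx, dif_neg hy] at hxy
        have : z = (f y : G) := by
          have := congrArg (fun t : {g : G // ∀ ω : Ω, g • ω ≠ ω} => (t : G)) hxy
          exact this
        exact hzN (this ▸ (f y).2)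
    · by_cases hy : y = a
      · exfalso
        simp only [F, dif_neg hx, dif_pos hy] at hxy
        have : (f x : G) = z := by
          have := congrArg (fun t : {g : G // ∀ ω : Ω, g • ω ≠ ω} => (t : G)) hxy
          exact this
        exact hzN (this ▸ (f x).2)
      · simp only [F, dif_neg hx, dif_neg hy] at hxy
        have h : (f x : G) = (f y : G) := by
          have := congrArg (fun t : {g : G // ∀ ω : Ω, g • ω ≠ ω} => (t : G)) hxy
          exact this
        rw [← hfG x, ← hfG y, h]
  have hle := Nat.card_le_card_of_injective F hF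
  rw [Nat.card_eq_fintype_card] at hle
  omega

end Cfsg.Agent.S3520P
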