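import Mathlib

/-! # S3520 piece A.TWOTRANS (helper23)

If all non-identity elements of a transitive abelian normal subgroup `N` are conjugate in `G`, then `G` is
2-transitive.  Mathlib only. -/

set_option autoImplicit false
set_option linter.unusedSectionVars false
set_option linter.unusedVariables false

namespace Cfsg.Agent.S3520P

open MulAction

variable {G : Type*} [Group G] [Finite G] {Ω : Type*} [Fintype Ω] [MulAction G Ω]

/-- A.TWOTRANS: if all non-identity elements of the regular abelian normal subgroup `N` are conjugate in `G`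
then `G` is 2-transitive. -/
theorem A.TWOTRANS (N : Subgroup G) [N.Normal] (hab : IsMulCommutative N) (htr : IsPretransitive N Ω)
    (hreg : ∀ ω : Ω, stabilizer N ω = ⊥)
    (hconj : ∀ x ∈ N, ∀ y ∈ N, x ≠ 1 → y ≠ 1 → IsConj x y) : IsMultiplyPretransitive G Ω 2 := by
  rw [is_two_pretransitive_iff]
  intro a b a' b' hab1 hab2
  obtain ⟨n, hn⟩ := exists_smul_eq N a b
  obtain ⟨n', hn'⟩ := exists_smul_eq N a' b'
  have hnab : (n : G) • a = b := hn
  have hn'ab : (n' : G) • a' = b' := hn'
  have hn1 : (n : G) ≠ 1 := by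
    intro h
    rw [h, one_smul] at hnab
    exact hab1 hnab
  have hn'1 : (n' : G) ≠ 1 := by
    intro h
    rw [h, one_smul] at hn'ab
    exact hab2 hn'ab
  obtain ⟨g, hg⟩ := isConj_iff.1 (hconj n n.2 n' n'.2 hn1 hn'1)
  have hgn : g * (n : G) = (n' : G) * g := by
    rw [← hg]; group
  obtain ⟨m, hm⟩ := exists_smul_eq N (g • a) a'
  have hm' : (m : G) • (g • a) = a' := hm
  have hcomm : (m : G) * (n' : G) = (n' : G) * (m : G) := by
    have h := hab.is_comm.comm m n'
    exact congrArg Subtype.val h
  refine ⟨(m : G) * g, ?_, ?_⟩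
  · rw [mul_smul, hm']
  · rw [← hnab, ← mul_smul, mul_assoc, hgn, ← mul_assoc, hcomm, mul_assoc, mul_smul,
      mul_smul, hm', hn'ab]

end Cfsg.Agent.S3520P
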