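import Mathlib
import Cfsg.Agent.Helper5.S3590Defs
import Cfsg.Agent.Helper29.S2264Defs

/-! S3590 piece MULT (helper23): multiplicities of `X - 1`. -/

set_option autoImplicit false

namespace Cfsg.Agent.S3590P

open Module Polynomial Matrix
open Cfsg.Agent.S5973P Cfsg.Agent.S2264P Cfsg.Agent.S3589P
open scoped Classical

noncomputable section

namespace MULT

theorem irreducible_X_sub_one {F : Type*} [Field F] : Irreducible (X - 1 : F[X]) := by
  have h := Polynomial.irreducible_X_sub_C (1 : F)
  rwa [map_one] at h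

theorem normalize_X_sub_one {F : Type*} [Field F] : normalize (X - 1 : F[X]) = X - 1 := by
  have h : (X - 1 : F[X]).Monic := by
    have := Polynomial.monic_X_sub_C (1 : F)
    rwa [map_one] at this
  exact h.normalize_eq_self

end MULT

theorem le_mult_of_pow_dvd {F : Type*} [Field F] (μ : F[X]) (hμ : μ ≠ 0) (e : ℕ)
    (h : (X - 1 : F[X]) ^ e ∣ μ) : e ≤ mult μ (X - 1) ∧ (1 ≤ e → (X - 1 : F[X]) ∈ facs μ) := by
  have hirr := MULT.irreducible_X_sub_one (F := F)
  have hne : (X - 1 : F[X]) ^ e ≠ 0 := pow_ne_zero _ hirr.ne_zero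
  have hle := (UniqueFactorizationMonoid.dvd_iff_normalizedFactors_le_normalizedFactors hne hμ).1 h
  rw [UniqueFactorizationMonoid.normalizedFactors_pow,
    UniqueFactorizationMonoid.normalizedFactors_irreducible hirr, MULT.normalize_X_sub_one] at hle
  have hcount := Multiset.count_le_of_le (X - 1 : F[X]) hle
  rw [Multiset.count_nsmul, Multiset.count_singleton_self, mul_one] at hcount
  have h1 : e ≤ mult μ (X - 1) := hcount
  refine ⟨h1, fun he => ?_⟩
  unfold facs
  rw [Multiset.mem_toFinset, ← Multiset.count_pos]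
  exact lt_of_lt_of_le (by omega) h1

end

end Cfsg.Agent.S3590P
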