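import Mathlib
import Cfsg.Agent.Helper5.S3590Defs

/-! S3590 piece NU (helper23): in characteristic 2, `μ ∣ X^M - 1`, `2^c ∣ M` and `(X-1)^(2^c) ∤ μ`
imply `μ ∣ 1 + X + ... + X^(M-1)`. -/

set_option autoImplicit false

namespace Cfsg.Agent.S3590P

open Module Polynomial Matrix
open scoped Classical

noncomputable section

namespace NU

theorem irreducible_X_sub_one {F : Type*} [Field F] : Irreducible (X - 1 : F[X]) := by
  have h := Polynomial.irreducible_X_sub_C (1 : F)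
  rwa [map_one] at h

/-- `(X - 1) ν_k = X^k - 1` -/
theorem sub_one_mul_geom {F : Type*} [Field F] (k : ℕ) :
    (X - 1 : F[X]) * ∑ i ∈ Finset.range k, X ^ i = X ^ k - 1 :=
  mul_geom_sum X k

end NU

theorem nu_dvd {F : Type*} [Field F] [CharP F 2] (μ : F[X]) (hμ : μ ≠ 0) (M c : ℕ) (hM : 0 < M)
    (h1 : μ ∣ X ^ M - 1) (hc : 2 ^ c ∣ M) (he : ¬ (X - 1 : F[X]) ^ (2 ^ c) ∣ μ) :
    μ ∣ ∑ i ∈ Finset.range M, X ^ i := by
  have hirr := NU.irreducible_X_sub_one (F := F)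
  have hX1 : (X - 1 : F[X]) ≠ 0 := hirr.ne_zero
  obtain ⟨m, rfl⟩ := hc
  have hchar : CharP F[X] 2 := inferInstance
  -- `ν_M = (X - 1)^(2^c - 1) ν_m^(2^c)`
  set νm : F[X] := ∑ i ∈ Finset.range m, X ^ i with hνm
  set νM : F[X] := ∑ i ∈ Finset.range (2 ^ c * m), X ^ i with hνM
  have hpow : (X : F[X]) ^ (2 ^ c * m) - 1 = ((X - 1) * νm) ^ (2 ^ c) := by
    rw [NU.sub_one_mul_geom, sub_pow_char_pow, one_pow, ← pow_mul, mul_comm]
  have hpos : 0 < 2 ^ c := pow_pos (by norm_num) c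
  have hνMeq : νM = (X - 1) ^ (2 ^ c - 1) * νm ^ (2 ^ c) := by
    apply mul_left_cancel₀ hX1
    rw [hνM, NU.sub_one_mul_geom, hpow, mul_pow, ← mul_assoc, ← pow_succ']
    congr 2
    omega
  -- split off the `(X - 1)`-part of `μ`
  obtain ⟨μ', hμ', hnd⟩ := Polynomial.exists_eq_pow_rootMultiplicity_mul_and_not_dvd μ hμ (1 : F)
  rw [map_one] at hμ' hnd
  set e := rootMultiplicity (1 : F) μ with hedef
  have hele : e ≤ 2 ^ c - 1 := by
    by_contra hcon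
    push Not at hcon
    apply he
    have h2 : 2 ^ c ≤ e := by omega
    have h3 : (X - 1 : F[X]) ^ e ∣ μ := ⟨μ', hμ'⟩
    exact (pow_dvd_pow _ h2).trans h3
  have hcop : IsCoprime μ' ((X - 1 : F[X]) ^ (2 ^ c)) :=
    ((hirr.coprime_iff_not_dvd.2 hnd).pow_left).symm
  have hμ'dvd : μ' ∣ νm ^ (2 ^ c) := by
    apply hcop.dvd_of_dvd_mul_left
    have h4 : μ' ∣ μ := ⟨(X - 1) ^ e, by rw [hμ', mul_comm]⟩
    have h5 := h4.trans h1
    rw [hpow, mul_pow] at h5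
    exact h5
  rw [hνMeq, hμ']
  exact mul_dvd_mul (pow_dvd_pow _ hele) hμ'dvd

end

end Cfsg.Agent.S3590P
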