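import Mathlib
import Cfsg.Agent.Helper5.S3590Defs

/-! S3590 piece SEMIPOW (helper23): powers in the semidirect product `Aff ρ κ`. -/

set_option autoImplicit false

namespace Cfsg.Agent.S3590P

open Module Polynomial Matrix
open scoped Classical

noncomputable section

namespace SEMIPOW

theorem aff_pow {G : Type*} [Group G] {ι : Type*} [Fintype ι] [DecidableEq ι] {F : Type*}
    [Field F] (ρ : G →* Matrix ι ι F) (κ : Type*) (g : G) (C : κ → ι → F) (j : ℕ) :
    ((⟨Multiplicative.ofAdd C, g⟩ : Aff ρ κ) ^ j) =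
      ⟨Multiplicative.ofAdd (fun l => nsum (ρ g) j *ᵥ C l), g ^ j⟩ := by
  induction j with
  | zero =>
    apply SemidirectProduct.ext
    · rw [pow_zero, SemidirectProduct.one_left]
      show (1 : Multiplicative (κ → ι → F)) = Multiplicative.ofAdd _
      apply Multiplicative.toAdd.injective
      funext l
      simp [nsum]
    · rw [pow_zero, SemidirectProduct.one_right, pow_zero]
  | succ k ih =>
    rw [pow_succ, ih]
    apply SemidirectProduct.ext
    · rw [SemidirectProduct.mul_left]
      show Multiplicative.ofAdd (fun l => nsum (ρ g) k *ᵥ C l) *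
        affPhi ρ κ (g ^ k) (Multiplicative.ofAdd C) = Multiplicative.ofAdd _
      rw [affPhi_apply, ← ofAdd_add]
      congr 1
      funext l
      simp only [Pi.add_apply]
      rw [map_pow, nsum, nsum, Finset.sum_range_succ, Matrix.add_mulVec]
    · rw [SemidirectProduct.mul_right, pow_succ]

end SEMIPOW

theorem aff_pow_eq_one_iff {G : Type*} [Group G] {ι : Type*} [Fintype ι] [DecidableEq ι] {F : Type*}
    [Field F] (ρ : G →* Matrix ι ι F) (κ : Type*) (g : G) (C : κ → ι → F) (j : ℕ) :
    ((⟨Multiplicative.ofAdd C, g⟩ : Aff ρ κ) ^ j = 1) ↔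
      (g ^ j = 1 ∧ ∀ l, nsum (ρ g) j *ᵥ C l = 0) := by
  rw [SEMIPOW.aff_pow, SemidirectProduct.ext_iff]
  constructor
  · rintro ⟨h1, h2⟩
    refine ⟨h2, fun l => ?_⟩
    have h3 : Multiplicative.ofAdd (fun l => nsum (ρ g) j *ᵥ C l) =
        (1 : Multiplicative (κ → ι → F)) := h1
    have h4 := congrArg Multiplicative.toAdd h3
    exact congrFun h4 l
  · rintro ⟨h1, h2⟩
    refine ⟨?_, h1⟩
    show Multiplicative.ofAdd (fun l => nsum (ρ g) j *ᵥ C l) = (1 : Multiplicative (κ → ι → F))
    apply Multiplicative.toAdd.injective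
    funext l
    exact h2 l

end

end Cfsg.Agent.S3590P
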