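import Mathlib
import Cfsg.Agent.Helper6.S3626.Defs

/-! S3626 pieces PROD, COMB, TRACE, T0 (helper23). -/

set_option autoImplicit false

namespace Cfsg.Agent.S3626P

open Matrix

namespace COMB

theorem OmY_subset (m : ℕ) : OmY m ⊆ Om m := by
  intro d hd
  rcases hd with h | h | h | h
  · exact Or.inr (Or.inl h)
  · exact Or.inl h
  · exact Or.inr (Or.inr (Or.inl h))
  · exact Or.inr (Or.inr (Or.inr (Or.inl h)))

theorem one_mem_OmY (m : ℕ) : 1 ∈ OmY m := Or.inl (one_dvd 9)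

/-- an element of `Om` is in `OmY` or divides one of the two "Ree" torus orders -/
theorem Om_cases {m d : ℕ} (hd : d ∈ Om m) :
    d ∈ OmY m ∨ d ∣ 3 ^ (2 * m + 1) - 3 ^ (m + 1) + 1 ∨ d ∣ 3 ^ (2 * m + 1) + 3 ^ (m + 1) + 1 := by
  rcases hd with h | h | h | h | h | h
  · exact Or.inl (Or.inr (Or.inl h))
  · exact Or.inl (Or.inl h)
  · exact Or.inl (Or.inr (Or.inr (Or.inl h)))
  · exact Or.inl (Or.inr (Or.inr (Or.inr h)))
  · exact Or.inr (Or.inl h)
  · exact Or.inr (Or.inr h)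

theorem mem_of_dvd_A {m d : ℕ} (h : d ∣ 3 ^ (2 * m + 1) - 3 ^ (m + 1) + 1) : d ∈ Om m :=
  Or.inr (Or.inr (Or.inr (Or.inr (Or.inl h))))

theorem mem_of_dvd_B {m d : ℕ} (h : d ∣ 3 ^ (2 * m + 1) + 3 ^ (m + 1) + 1) : d ∈ Om m :=
  Or.inr (Or.inr (Or.inr (Or.inr (Or.inr h))))

theorem key {m x y z : ℕ} (hx : x ∈ Om m) (hyz : Nat.lcm y z ∈ Om m) :
    Nat.lcm x (Nat.lcm y z) ∈ Set.image2 Nat.lcm (Om m) (Set.image2 Nat.lcm (Om m) (OmY m)) :=
  ⟨x, hx, _, ⟨Nat.lcm y z, hyz, 1, one_mem_OmY m, rfl⟩, by rw [Nat.lcm_one_right]⟩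

theorem perm1 (a b c : ℕ) : Nat.lcm a (Nat.lcm b c) = Nat.lcm c (Nat.lcm a b) := by
  rw [Nat.lcm_comm c, Nat.lcm_assoc]

theorem perm2 (a b c : ℕ) : Nat.lcm a (Nat.lcm b c) = Nat.lcm b (Nat.lcm a c) := by
  rw [← Nat.lcm_assoc, Nat.lcm_comm a b, Nat.lcm_assoc]

end COMB

section generic

variable {K : Type*} [Field K]

/-- PROD -/
theorem range_orderOf_prod {A B : Type*} [Group A] [Group B] :
    Set.range (orderOf : A × B → ℕ) =
      Set.image2 Nat.lcm (Set.range (orderOf : A → ℕ)) (Set.range (orderOf : B → ℕ)) := by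
  ext n
  constructor
  · rintro ⟨x, rfl⟩
    exact ⟨orderOf x.1, ⟨x.1, rfl⟩, orderOf x.2, ⟨x.2, rfl⟩, (Prod.orderOf x).symm⟩
  · rintro ⟨_, ⟨a, rfl⟩, _, ⟨b, rfl⟩, rfl⟩
    exact ⟨(a, b), Prod.orderOf (a, b)⟩

namespace T0

theorem sq_of_trace_zero (g : Matrix.SpecialLinearGroup (Fin 2) K)
    (ht : (g : Matrix (Fin 2) (Fin 2) K).trace = 0) :
    (g : Matrix (Fin 2) (Fin 2) K) ^ 2 = -1 := by
  have hdet : (g : Matrix (Fin 2) (Fin 2) K).det = 1 := g.2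
  rw [Matrix.det_fin_two] at hdet
  rw [Matrix.trace_fin_two] at ht
  rw [pow_two]
  ext i j
  fin_cases i <;> fin_cases j <;>
    simp only [Fin.zero_eta, Fin.mk_one, Fin.isValue, Matrix.mul_apply, Fin.sum_univ_two,
      Matrix.neg_apply, Matrix.one_apply_eq, Matrix.one_apply_ne, ne_eq, zero_ne_one,
      one_ne_zero, not_false_eq_true, neg_zero]
  · linear_combination (g : Matrix (Fin 2) (Fin 2) K) 0 0 * ht - hdet
  · linear_combination (g : Matrix (Fin 2) (Fin 2) K) 0 1 * ht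
  · linear_combination (g : Matrix (Fin 2) (Fin 2) K) 1 0 * ht
  · linear_combination (g : Matrix (Fin 2) (Fin 2) K) 1 1 * ht - hdet

/-- the cube of a translation is trivial in characteristic 3 -/
theorem translation_cube [CharP K 3] (τ : Equiv.Perm (Matrix (Fin 2) (Fin 2) K))
    (w : Matrix (Fin 2) (Fin 2) K) (hτ : ∀ X, τ X = X + w) : τ ^ 3 = 1 := by
  have h3 : (3 : K) = 0 := by
    have := CharP.cast_eq_zero K 3
    exact_mod_cast this
  apply Equiv.ext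
  intro X
  have hw : w + w + w = 0 := by
    ext i j
    simp only [Matrix.add_apply, Matrix.zero_apply]
    linear_combination (w i j) * h3
  have : (τ ^ 3) X = τ (τ (τ X)) := by
    rw [pow_succ, pow_two]
    rfl
  rw [this, hτ, hτ, hτ, Equiv.Perm.one_apply, add_assoc, add_assoc, ← add_assoc w, hw, add_zero]

end T0

/-- T0: trace `0` -/
theorem pow_six_of_trace_zero [CharP K 3] (φ : K →+* K)
    (σ : Equiv.Perm (Matrix (Fin 2) (Fin 2) K)) (e : K) (he : e = 1 ∨ e = -1)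
    (g : Matrix.SpecialLinearGroup (Fin 2) K) (v : Matrix (Fin 2) (Fin 2) K)
    (hσ : ∀ X, σ X = aff φ e (g : Matrix (Fin 2) (Fin 2) K) v X)
    (ht : (g : Matrix (Fin 2) (Fin 2) K).trace = 0) : σ ^ 6 = 1 := by
  have hee : e ^ 2 = 1 := by rcases he with rfl | rfl <;> simp
  have h2 : ∀ X, (σ ^ 2) X = X + psum φ e (g : Matrix (Fin 2) (Fin 2) K) v 2 := by
    intro X
    rw [pow_apply_of_aff φ σ e (g : Matrix (Fin 2) (Fin 2) K) v hσ 2 X, hee,
      T0.sq_of_trace_zero g ht, aff_apply, lin_neg_one]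
  have h6 : σ ^ 6 = (σ ^ 2) ^ 3 := by rw [← pow_mul]
  rw [h6]
  exact T0.translation_cube (σ ^ 2) _ h2

end generic

/-- COMB -/
theorem image2_lcm_Om (m : ℕ) :
    Set.image2 Nat.lcm (Om m) (Set.image2 Nat.lcm (Om m) (OmY m)) =
      Set.image2 Nat.lcm (Om m) (Set.image2 Nat.lcm (Om m) (Om m)) := by
  apply Set.Subset.antisymm
  · rintro _ ⟨a, ha, _, ⟨b, hb, c, hc, rfl⟩, rfl⟩
    exact ⟨a, ha, _, ⟨b, hb, c, COMB.OmY_subset m hc, rfl⟩, rfl⟩
  · rintro _ ⟨a, ha, _, ⟨b, hb, c, hc, rfl⟩, rfl⟩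
    rcases COMB.Om_cases hc with hc' | hc'
    · exact ⟨a, ha, _, ⟨b, hb, c, hc', rfl⟩, rfl⟩
    rcases COMB.Om_cases hb with hb' | hb'
    · exact ⟨a, ha, _, ⟨c, hc, b, hb', rfl⟩, by rw [Nat.lcm_comm c b]⟩
    rcases COMB.Om_cases ha with ha' | ha'
    · exact ⟨b, hb, _, ⟨c, hc, a, ha', rfl⟩, by rw [COMB.perm1 b c a]⟩
    rcases ha' with ha' | ha' <;> rcases hb' with hb' | hb' <;> rcases hc' with hc' | hc'
    · exact COMB.key ha (COMB.mem_of_dvd_A (Nat.lcm_dvd hb' hc'))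
    · rw [COMB.perm1 a b c]
      exact COMB.key hc (COMB.mem_of_dvd_A (Nat.lcm_dvd ha' hb'))
    · rw [COMB.perm2 a b c]
      exact COMB.key hb (COMB.mem_of_dvd_A (Nat.lcm_dvd ha' hc'))
    · exact COMB.key ha (COMB.mem_of_dvd_B (Nat.lcm_dvd hb' hc'))
    · exact COMB.key ha (COMB.mem_of_dvd_A (Nat.lcm_dvd hb' hc'))
    · rw [COMB.perm2 a b c]
      exact COMB.key hb (COMB.mem_of_dvd_B (Nat.lcm_dvd ha' hc'))
    · rw [COMB.perm1 a b c]
      exact COMB.key hc (COMB.mem_of_dvd_B (Nat.lcm_dvd ha' hb'))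
    · exact COMB.key ha (COMB.mem_of_dvd_B (Nat.lcm_dvd hb' hc'))

section finite

variable {K : Type*} [Field K] [Fintype K] {m : ℕ}

/-- TRACE -/
theorem trace_cases [CharP K 3] (hK : Fintype.card K = 3 ^ (2 * m + 1)) (e t : K)
    (he : e = 1 ∨ e = -1) (h : e * t = frobS K m t) : t = 0 ∨ t = 1 ∨ t = -1 := by
  rw [frobS_apply] at h
  have hodd : Odd (3 ^ (m + 1)) := Odd.pow (by decide)
  have her : e ^ 3 ^ (m + 1) = e := by
    rcases he with rfl | rfl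
    · exact one_pow _
    · exact hodd.neg_one_pow
  have hee : e * e = 1 := by rcases he with rfl | rfl <;> simp
  -- apply `x ↦ x ^ r` to `e t = t ^ r`
  have hL : (e * t) ^ 3 ^ (m + 1) = t := by
    rw [mul_pow, her, ← h, ← mul_assoc, hee, one_mul]
  have hrr : 3 ^ (m + 1) * 3 ^ (m + 1) = 3 ^ (2 * m + 1) * 3 := by
    rw [← pow_add, ← pow_succ]
    congr 1
    omega
  have hR : (t ^ 3 ^ (m + 1)) ^ 3 ^ (m + 1) = t ^ 3 := by
    rw [← pow_mul, hrr, pow_mul, ← hK, FiniteField.pow_card]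
  have h3 : t = t ^ 3 := by
    rw [← hR, ← h, hL]
  have hfac : t * ((t - 1) * (t + 1)) = 0 := by
    linear_combination -h3
  rcases mul_eq_zero.mp hfac with h0 | h0
  · exact Or.inl h0
  rcases mul_eq_zero.mp h0 with h0 | h0
  · exact Or.inr (Or.inl (sub_eq_zero.mp h0))
  · exact Or.inr (Or.inr (eq_neg_of_add_eq_zero_left h0))

end finite

end Cfsg.Agent.S3626P
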