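import Mathlib
import Cfsg.Agent.Helper26.StableNormal

/-! # S3753 toolkit: quadratic action on `O_p(M)` forces membership in `O_p(M)`
(`M` action-`p`-stable with `C_M(O_p(M)) ≤ O_p(M)`). -/

set_option autoImplicit false
set_option linter.unusedSectionVars false

namespace Cfsg.Agent.S3753P

open Subgroup

variable {M : Type*} [Group M] [Finite M] {p : ℕ} [hp : Fact p.Prime]

/-- an element acting quadratically on `O_p(M)/Φ(O_p(M))` lies in `O_p(M)` -/
theorem AN_quad_frattini (hst : Cfsg.IsActionPStable p M)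
    (hc : centralizer (Cfsg.pCore p M : Set M) ≤ Cfsg.pCore p M) (a : M)
    (hquad : ⁅⁅Cfsg.pCore p M, zpowers a⁆, zpowers a⁆ ≤
      (frattini ↥(Cfsg.pCore p M)).map (Cfsg.pCore p M).subtype) : a ∈ Cfsg.pCore p M := by
  obtain ⟨-, hst2, -⟩ := hst
  have hQp : IsPGroup p (Cfsg.pCore p M) := Cfsg.Agent.Helper14.pCore_isPGroup p
  obtain ⟨D, hDn, hD1, ⟨k, hk⟩, haD⟩ := hst2 a hquad
  rw [Cfsg.Agent.Helper26.sectionKernel_frattini_eq'] at hD1 hk
  have hDp : IsPGroup p D := by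
    rintro ⟨d, hd⟩
    have h1 : d ^ p ^ k ∈ Cfsg.Agent.Helper14.fratStab (Cfsg.pCore p M) := by
      have hcard : Nat.card (↥D ⧸ (Cfsg.Agent.Helper14.fratStab (Cfsg.pCore p M)).subgroupOf D) =
          p ^ k := by
        rw [← hk]
        exact (Subgroup.index_eq_card _).symm
      have h2 := pow_card_eq_one'
        (G := ↥D ⧸ (Cfsg.Agent.Helper14.fratStab (Cfsg.pCore p M)).subgroupOf D)
        (x := QuotientGroup.mk ⟨d, hd⟩)
      rw [hcard, ← QuotientGroup.mk_pow, QuotientGroup.eq_one_iff, mem_subgroupOf] at h2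
      simpa using h2
    obtain ⟨n, hn⟩ := Cfsg.Agent.Helper14.exists_pow_mem_centralizer_of_mem_fratStab
      (Cfsg.pCore p M) hQp _ h1
    obtain ⟨m, hm⟩ := hQp ⟨_, hc hn⟩
    refine ⟨k + n + m, ?_⟩
    apply Subtype.ext
    have h3 := congrArg Subtype.val hm
    simp only [SubmonoidClass.coe_pow, OneMemClass.coe_one] at h3 ⊢
    rw [pow_add, pow_add, pow_mul, pow_mul]
    exact h3
  exact Cfsg.Agent.Helper14.le_pCore p hDn hDp haD

/-- an element acting quadratically on `O_p(M)` lies in `O_p(M)` -/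
theorem AN_quad (hst : Cfsg.IsActionPStable p M)
    (hc : centralizer (Cfsg.pCore p M : Set M) ≤ Cfsg.pCore p M) (a : M)
    (hquad : ⁅⁅Cfsg.pCore p M, zpowers a⁆, zpowers a⁆ = ⊥) : a ∈ Cfsg.pCore p M :=
  AN_quad_frattini hst hc a (by rw [hquad]; exact bot_le)

/-- an abelian subgroup normalised by `O_p(M)` lies in `O_p(M)` -/
theorem AN_abelian (hst : Cfsg.IsActionPStable p M)
    (hc : centralizer (Cfsg.pCore p M : Set M) ≤ Cfsg.pCore p M) (A : Subgroup M)
    (hA : ∀ x ∈ A, ∀ y ∈ A, x * y = y * x)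
    (hn : Cfsg.pCore p M ≤ normalizer (A : Set M)) : A ≤ Cfsg.pCore p M := by
  intro a ha
  apply AN_quad hst hc a
  have h1 : ⁅Cfsg.pCore p M, zpowers a⁆ ≤ A := by
    rw [commutator_le]
    intro q hq z hz
    have hzA : z ∈ A := zpowers_le.mpr ha hz
    have h2 : q * z * q⁻¹ ∈ A := (mem_normalizer_iff.mp (hn hq) z).mp hzA
    rw [commutatorElement_def]
    exact mul_mem h2 (inv_mem hzA)
  rw [eq_bot_iff]
  refine (commutator_mono h1 (zpowers_le.mpr ha)).trans ?_
  rw [commutator_le]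
  intro x hx y hy
  rw [commutatorElement_eq_one_iff_mul_comm.mpr (hA x hx y hy)]
  exact one_mem _

end Cfsg.Agent.S3753P
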