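import Cfsg.Agent.Helper11.S3753Defs
import Cfsg.Agent.Helper23.S3753AN

/-! # S3753, piece LEMA: an abelian subgroup of `M` normalised by `O_p(M)` lies in `O_p(M)`. -/

set_option autoImplicit false

namespace Cfsg.Agent.S3753P

open Cfsg
open scoped commutatorElement

variable {G : Type*} [Group G]

/-- piece LEMA -/
theorem LEMA [Finite G] {p : ℕ} [Fact p.Prime] (M : Subgroup G)
    (hst : IsActionPStable p ↥M)
    (hc : Subgroup.centralizer (pCore p ↥M : Set ↥M) ≤ pCore p ↥M)
    (A : Subgroup G) (hAM : A ≤ M) (hAab : ∀ a ∈ A, ∀ b ∈ A, a * b = b * a)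
    (hQA : pCoreOf p M ≤ Subgroup.normalizer (A : Set G)) : A ≤ pCoreOf p M := by
  have key : A.subgroupOf M ≤ pCore p ↥M := by
    apply AN_abelian hst hc (A.subgroupOf M)
    · intro x hx y hy
      apply Subtype.ext
      exact hAab x.1 (Subgroup.mem_subgroupOf.mp hx) y.1 (Subgroup.mem_subgroupOf.mp hy)
    · intro q hq
      have hqG : (q : G) ∈ pCoreOf p M := Subgroup.mem_map_of_mem M.subtype hq
      have hN := Subgroup.mem_normalizer_iff.mp (hQA hqG)
      rw [Subgroup.mem_normalizer_iff]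
      intro h
      rw [Subgroup.mem_subgroupOf, Subgroup.mem_subgroupOf]
      exact hN h.1
  intro a ha
  exact ⟨⟨a, hAM ha⟩, key (Subgroup.mem_subgroupOf.mpr ha), rfl⟩

end Cfsg.Agent.S3753P
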