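import Cfsg.Agent.Helper11.S3753Defs
import Cfsg.Agent.Helper14.PCore
import Cfsg.Agent.Lead.CoprimeFrattini

/-! # S3753, piece LEMB: a `p`-element `x` of `M` acting quadratically on a normal elementary abelian `U`
with `C_M(U) ≤ K ⊴ M` and `[K, x] ≤ O_p(M)` lies in `O_p(M)`.

`P/C_M(U) = O_p(M/C_M(U))`, `L = C_M(K O_p(M)/O_p(M))`, `N = P ∩ L`: `N/O_p(M)` has a central subgroup with
`p`-group quotient, so a Sylow `p`-subgroup of `N` is normal in `N`, hence characteristic, hence inside `O_p(M)`. -/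

set_option autoImplicit false
set_option linter.unusedSectionVars false
set_option linter.style.haveILetI false

namespace Cfsg.Agent.S3753P

open Cfsg Subgroup
open scoped commutatorElement

section abs

variable {M : Type*} [Group M]

/-- the elements centralising `K` modulo the normal subgroup `Q` -/
def LEMB_aux_L (K Q : Subgroup M) [hQ : Q.Normal] : Subgroup M where
  carrier := {g | ∀ k ∈ K, k * g * k⁻¹ * g⁻¹ ∈ Q}
  one_mem' := by
    intro k _
    have : k * 1 * k⁻¹ * 1⁻¹ = (1 : M) := by group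
    rw [this]; exact Q.one_mem
  mul_mem' := by
    intro g h hg hh k hk
    have : k * (g * h) * k⁻¹ * (g * h)⁻¹ =
        (k * g * k⁻¹ * g⁻¹) * (g * (k * h * k⁻¹ * h⁻¹) * g⁻¹) := by group
    rw [this]
    exact Q.mul_mem (hg k hk) (hQ.conj_mem _ (hh k hk) g)
  inv_mem' := by
    intro g hg k hk
    have : k * g⁻¹ * k⁻¹ * g⁻¹⁻¹ = g⁻¹ * (k * g * k⁻¹ * g⁻¹)⁻¹ * g⁻¹⁻¹ := by group
    rw [this]
    exact hQ.conj_mem _ (Q.inv_mem (hg k hk)) g⁻¹

theorem LEMB_aux_L_normal (K Q : Subgroup M) [hK : K.Normal] [hQ : Q.Normal] :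
    (LEMB_aux_L K Q).Normal := ⟨by
  intro g hg y k hk
  have hk' : y⁻¹ * k * y ∈ K := by
    have := hK.conj_mem k hk y⁻¹
    rwa [inv_inv] at this
  have : k * (y * g * y⁻¹) * k⁻¹ * (y * g * y⁻¹)⁻¹ =
      y * ((y⁻¹ * k * y) * g * (y⁻¹ * k * y)⁻¹ * g⁻¹) * y⁻¹ := by group
  rw [this]
  exact hQ.conj_mem _ (hg _ hk') y⟩

/-- the abstract form of LEMB inside a group `M` -/
theorem LEMB_aux_abs [Finite M] {p : ℕ} [hp : Fact p.Prime] (hst : IsActionPStable p M)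
    (K U : Subgroup M) [hK : K.Normal] [hU : U.Normal] (hUe : IsElementaryAbelian p U)
    (hCK : centralizer (U : Set M) ≤ K) (x : M) (hxp : ∃ k : ℕ, x ^ (p ^ k) = 1)
    (hxK : ∀ k ∈ K, ⁅k, x⁆ ∈ pCore p M)
    (hq : ⁅⁅U, zpowers x⁆, zpowers x⁆ = ⊥) : x ∈ pCore p M := by
  classical
  obtain ⟨Q, hQdef⟩ : ∃ Q : Subgroup M, Q = pCore p M := ⟨_, rfl⟩
  rw [← hQdef] at hxK ⊢
  haveI hQn : Q.Normal := hQdef ▸ Helper14.pCore_normal p
  have hQp : IsPGroup p Q := hQdef ▸ Helper14.pCore_isPGroup p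
  have hstab : IsPStableOn p U := hst.1 U hUe
  have hx1 := hstab x hq
  obtain ⟨P, hPdef⟩ : ∃ P : Subgroup M,
      P = (pCore p (M ⧸ centralizer (U : Set M))).comap (QuotientGroup.mk' (centralizer (U : Set M))) :=
    ⟨_, rfl⟩
  haveI hPn : P.Normal := by
    haveI : (pCore p (M ⧸ centralizer (U : Set M))).Normal := Helper14.pCore_normal p
    rw [hPdef]; infer_instance
  have hxP : x ∈ P := by rw [hPdef]; exact hx1
  have hPpow : ∀ y ∈ P, ∃ k : ℕ, y ^ (p ^ k) ∈ centralizer (U : Set M) := by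
    intro y hy
    rw [hPdef] at hy
    obtain ⟨k, hk⟩ := (Helper14.pCore_isPGroup (G := M ⧸ centralizer (U : Set M)) p) ⟨_, hy⟩
    refine ⟨k, ?_⟩
    have h1 := congrArg Subtype.val hk
    simp only [SubmonoidClass.coe_pow, OneMemClass.coe_one, QuotientGroup.mk'_apply] at h1
    rw [← QuotientGroup.mk_pow, QuotientGroup.eq_one_iff] at h1
    exact h1
  obtain ⟨L, hLdef⟩ : ∃ L : Subgroup M, L = LEMB_aux_L K Q := ⟨_, rfl⟩
  haveI hLn : L.Normal := hLdef ▸ LEMB_aux_L_normal K Q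
  have hLmem : ∀ g ∈ L, ∀ k ∈ K, k * g * k⁻¹ * g⁻¹ ∈ Q := by
    intro g hg; rw [hLdef] at hg; exact hg
  have hxL : x ∈ L := by
    rw [hLdef]
    intro k hk
    have := hxK k hk
    rwa [commutatorElement_def] at this
  obtain ⟨N, hNdef⟩ : ∃ N : Subgroup M, N = P ⊓ L := ⟨_, rfl⟩
  haveI hNn : N.Normal := by rw [hNdef]; infer_instance
  have hNP : N ≤ P := hNdef ▸ inf_le_left
  have hNL : N ≤ L := hNdef ▸ inf_le_right
  have hxN : x ∈ N := by rw [hNdef]; exact ⟨hxP, hxL⟩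
  have hQN : Q ≤ N := by
    rw [hNdef]
    refine le_inf ?_ ?_
    · intro q hq
      rw [hPdef]
      show (QuotientGroup.mk' (centralizer (U : Set M))) q ∈ pCore p (M ⧸ centralizer (U : Set M))
      have h1 : Q.map (QuotientGroup.mk' (centralizer (U : Set M))) ≤
          pCore p (M ⧸ centralizer (U : Set M)) := by
        apply Helper14.le_pCore p
        · exact hQn.map _ (QuotientGroup.mk'_surjective _)
        · exact hQp.map _
      exact h1 (mem_map_of_mem _ hq)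
    · intro q hq
      rw [hLdef]
      intro k _
      have h1 : k * q * k⁻¹ ∈ Q := hQn.conj_mem q hq k
      exact Q.mul_mem h1 (Q.inv_mem hq)
  -- a Sylow `p`-subgroup of `N` containing `x`
  have hxpg : IsPGroup p ↥(zpowers (⟨x, hxN⟩ : ↥N)) := by
    obtain ⟨k, hk⟩ := hxp
    rintro ⟨z, hz⟩
    obtain ⟨n, rfl⟩ := mem_zpowers_iff.mp hz
    refine ⟨k, ?_⟩
    apply Subtype.ext
    apply Subtype.ext
    simp only [SubmonoidClass.coe_pow, OneMemClass.coe_one, SubgroupClass.coe_zpow]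
    rw [← zpow_natCast, ← zpow_mul, mul_comm, zpow_mul, zpow_natCast, hk, one_zpow]
  obtain ⟨P₀, hP₀⟩ := hxpg.exists_le_sylow
  have hxP₀ : (⟨x, hxN⟩ : ↥N) ∈ (P₀ : Subgroup ↥N) := hP₀ (mem_zpowers _)
  -- `O_p(M) ∩ N ≤ P₀`
  haveI hQ'n : (Q.subgroupOf N).Normal := hQn.subgroupOf N
  have hQ'p : IsPGroup p ↥(Q.subgroupOf N) := hQp.comap_subtype
  have hQ'P₀ : Q.subgroupOf N ≤ (P₀ : Subgroup ↥N) := hQ'p.le_sylow_of_normal P₀
  -- `K ∩ N` has `p`-power index in `N`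
  haveI hZn : (K.subgroupOf N).Normal := hK.subgroupOf N
  have hquot : IsPGroup p (↥N ⧸ K.subgroupOf N) := by
    intro q
    obtain ⟨n, rfl⟩ := QuotientGroup.mk_surjective q
    obtain ⟨k, hk⟩ := hPpow n.1 (hNP n.2)
    refine ⟨k, ?_⟩
    rw [← QuotientGroup.mk_pow, QuotientGroup.eq_one_iff, mem_subgroupOf]
    simpa using hCK hk
  obtain ⟨j, hj⟩ := IsPGroup.iff_card.1 hquot
  have hZidx : (K.subgroupOf N).index = p ^ j := by
    rw [Subgroup.index_eq_card]; exact hj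
  -- `K ∩ N` normalises `P₀`
  have hkey : ∀ z ∈ K.subgroupOf N, ∀ s ∈ (P₀ : Subgroup ↥N), z * s * z⁻¹ ∈ (P₀ : Subgroup ↥N) := by
    intro z hz s hs
    have h1 : z * s * z⁻¹ * s⁻¹ ∈ Q.subgroupOf N := by
      rw [mem_subgroupOf]
      have := hLmem s.1 (hNL s.2) z.1 (mem_subgroupOf.mp hz)
      simpa using this
    have h2 : z * s * z⁻¹ = (z * s * z⁻¹ * s⁻¹) * s := by group
    rw [h2]
    exact (P₀ : Subgroup ↥N).mul_mem (hQ'P₀ h1) hs
  have hZnorm : K.subgroupOf N ≤ normalizer ((P₀ : Subgroup ↥N) : Set ↥N) := by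
    intro z hz
    rw [mem_normalizer_iff]
    intro s
    constructor
    · exact hkey z hz s
    · intro h
      have := hkey z⁻¹ ((K.subgroupOf N).inv_mem hz) _ h
      have e : z⁻¹ * (z * s * z⁻¹) * z⁻¹⁻¹ = s := by group
      rwa [e] at this
  -- `P₀ (K ∩ N) = N`
  have hW : (P₀ : Subgroup ↥N) ⊔ K.subgroupOf N = ⊤ := by
    rw [← Subgroup.index_eq_one]
    have h1 : ((P₀ : Subgroup ↥N) ⊔ K.subgroupOf N).index ∣ (P₀ : Subgroup ↥N).index :=
      Subgroup.index_dvd_of_le le_sup_left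
    have h2 : ((P₀ : Subgroup ↥N) ⊔ K.subgroupOf N).index ∣ p ^ j := by
      rw [← hZidx]; exact Subgroup.index_dvd_of_le le_sup_right
    obtain ⟨i, -, hi⟩ := (Nat.dvd_prime_pow hp.out).mp h2
    rcases Nat.eq_zero_or_pos i with h0 | hpos
    · rw [hi, h0, pow_zero]
    · exfalso
      apply P₀.not_dvd_index
      refine dvd_trans ?_ h1
      rw [hi]
      exact dvd_pow_self p hpos.ne'
  have hP₀n : (P₀ : Subgroup ↥N).Normal := by
    rw [← normalizer_eq_top_iff, eq_top_iff, ← hW]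
    exact sup_le le_normalizer hZnorm
  haveI hP₀c : (P₀ : Subgroup ↥N).Characteristic := Sylow.characteristic_of_normal P₀ hP₀n
  -- its image is a normal `p`-subgroup of `M`
  obtain ⟨S, hSdef⟩ : ∃ S : Subgroup M, S = (P₀ : Subgroup ↥N).map N.subtype := ⟨_, rfl⟩
  have hSn : S.Normal := by
    rw [← normalizer_eq_top_iff, eq_top_iff, hSdef]
    refine le_trans ?_ (Lead.normalizer_le_normalizer_map_of_characteristic N (P₀ : Subgroup ↥N))
    rw [normalizer_eq_top_iff.mpr hNn]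
  have hSp : IsPGroup p S := by rw [hSdef]; exact P₀.isPGroup'.map _
  have hSQ : S ≤ Q := by rw [hQdef]; exact Helper14.le_pCore p hSn hSp
  apply hSQ
  rw [hSdef]
  exact ⟨⟨x, hxN⟩, hxP₀, rfl⟩

end abs

variable {G : Type*} [Group G]

/-- piece LEMB -/
theorem LEMB [Finite G] {p : ℕ} [Fact p.Prime] (M : Subgroup G)
    (hst : IsActionPStable p ↥M)
    (K U : Subgroup G) (hKM : K ≤ M) (hKn : M ≤ Subgroup.normalizer (K : Set G))
    (hUM : U ≤ M) (hUn : M ≤ Subgroup.normalizer (U : Set G)) (hUe : IsElementaryAbelian p U)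
    (hCK : M ⊓ Subgroup.centralizer (U : Set G) ≤ K)
    (x : G) (hxM : x ∈ M) (hxp : ∃ k : ℕ, x ^ (p ^ k) = 1)
    (hxK : ∀ k ∈ K, ⁅k, x⁆ ∈ pCoreOf p M)
    (hq : ⁅⁅U, Subgroup.zpowers x⁆, Subgroup.zpowers x⁆ = ⊥) : x ∈ pCoreOf p M := by
  haveI hK' : (K.subgroupOf M).Normal := (normal_subgroupOf_iff_le_normalizer hKM).2 hKn
  haveI hU' : (U.subgroupOf M).Normal := (normal_subgroupOf_iff_le_normalizer hUM).2 hUn
  have hUe' : IsElementaryAbelian p (U.subgroupOf M) := by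
    refine ⟨⟨⟨fun a b => ?_⟩⟩, ?_⟩
    · have h1 := hUe.1.is_comm.comm ⟨a.1.1, mem_subgroupOf.mp a.2⟩ ⟨b.1.1, mem_subgroupOf.mp b.2⟩
      have h2 := congrArg Subtype.val h1
      apply Subtype.ext
      apply Subtype.ext
      exact h2
    · intro a ha
      apply Subtype.ext
      have := hUe.2 a.1 (mem_subgroupOf.mp ha)
      simpa using this
  have hCK' : centralizer ((U.subgroupOf M : Subgroup ↥M) : Set ↥M) ≤ K.subgroupOf M := by
    intro c hc
    rw [mem_subgroupOf]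
    apply hCK
    refine Subgroup.mem_inf.mpr ⟨c.2, ?_⟩
    rw [mem_centralizer_iff]
    intro u hu
    have := mem_centralizer_iff.mp hc ⟨u, hUM hu⟩ (mem_subgroupOf.mpr hu)
    exact congrArg Subtype.val this
  have hxp' : ∃ k : ℕ, (⟨x, hxM⟩ : ↥M) ^ (p ^ k) = 1 := by
    obtain ⟨k, hk⟩ := hxp
    exact ⟨k, Subtype.ext (by simpa using hk)⟩
  have hxK' : ∀ k ∈ K.subgroupOf M, ⁅k, (⟨x, hxM⟩ : ↥M)⁆ ∈ pCore p ↥M := by
    intro k hk
    obtain ⟨y, hy, hyeq⟩ := hxK k.1 (mem_subgroupOf.mp hk)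
    have : y = ⁅k, (⟨x, hxM⟩ : ↥M)⁆ := by
      apply Subtype.ext
      rw [← M.subtype_apply, hyeq]
      simp [commutatorElement_def]
    rw [← this]; exact hy
  have hq' : ⁅⁅U.subgroupOf M, zpowers (⟨x, hxM⟩ : ↥M)⁆, zpowers (⟨x, hxM⟩ : ↥M)⁆ = ⊥ := by
    rw [← (Subgroup.map_eq_bot_iff_of_injective _ M.subtype_injective), Subgroup.map_commutator,
      Subgroup.map_commutator, map_subgroupOf_eq_of_le hUM, MonoidHom.map_zpowers]
    exact hq
  have key := LEMB_aux_abs hst (K.subgroupOf M) (U.subgroupOf M) hUe' hCK' ⟨x, hxM⟩ hxp' hxK' hq'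
  exact ⟨⟨x, hxM⟩, key, rfl⟩

end Cfsg.Agent.S3753P
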