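import Mathlib
import Cfsg.Agent.Helper9.S4091Defs
import Cfsg.Agent.Helper11.CoprimePairs

/-! # S4091, piece NQ: `|N_G(P)| = |N_{G/N}(PN/N)| · |C_N(P)|` for a normal `p'`-subgroup `N`. -/

set_option autoImplicit false

namespace Cfsg.Agent.S4091P

universe u v

variable {p : ℕ} [Fact p.Prime]

/-- Frattini: every element of `G` normalising `PN/N` modulo `N` is congruent modulo `N` to an element of `N_G(P)` -/
theorem NQ_aux_frattini {G : Type u} [Group G] [Finite G] (N : Subgroup G) [N.Normal] (P : Sylow p G)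
    (g : G)
    (hg : (QuotientGroup.mk' N g) ∈ Subgroup.normalizer
      (((P : Subgroup G).map (QuotientGroup.mk' N) : Subgroup (G ⧸ N)) : Set (G ⧸ N))) :
    ∃ h ∈ Subgroup.normalizer ((P : Subgroup G) : Set G), QuotientGroup.mk' N h = QuotientGroup.mk' N g := by
  obtain ⟨K, hK⟩ : ∃ K : Subgroup G, K = N ⊔ (P : Subgroup G) := ⟨_, rfl⟩
  have hPK : (P : Subgroup G) ≤ K := hK ▸ le_sup_right
  have hNK : N ≤ K := hK ▸ le_sup_left
  -- `g P g⁻¹ ≤ K`
  have hgPK : ((g • P : Sylow p G) : Subgroup G) ≤ K := by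
    intro y hy
    rw [Sylow.coe_subgroup_smul, Subgroup.mem_pointwise_smul_iff_inv_smul_mem] at hy
    obtain ⟨y0, hy0⟩ : ∃ y0 : G, y0 = (MulAut.conj g)⁻¹ • y := ⟨_, rfl⟩
    rw [← hy0] at hy
    have hyy : y = g * y0 * g⁻¹ := by
      rw [hy0]; simp [MulAut.smul_def]; group
    have h1 := (Subgroup.mem_normalizer_iff.mp hg (QuotientGroup.mk' N y0)).mp
      (Subgroup.mem_map_of_mem _ hy)
    obtain ⟨y', hy', hy'eq⟩ := h1
    have h2 : (QuotientGroup.mk' N) y' = (QuotientGroup.mk' N) y := by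
      rw [hy'eq, hyy]; simp
    have h3 : y'⁻¹ * y ∈ N := by
      have := QuotientGroup.eq.mp h2
      exact this
    have h4 : y = y' * (y'⁻¹ * y) := by group
    rw [h4]
    exact K.mul_mem (hPK hy') (hNK h3)
  obtain ⟨k, hk⟩ := MulAction.exists_smul_eq ↥K (P.subtype hPK) ((g • P).subtype hgPK)
  rw [Sylow.smul_subtype] at hk
  have hk2 : ((k : G) • P : Sylow p G) = g • P := Sylow.subtype_injective hk
  have hkK : (k : G) ∈ N ⊔ (P : Subgroup G) := hK ▸ k.2
  obtain ⟨m, hm, y, hy, hmy⟩ := Subgroup.mem_sup_of_normal_left.mp hkK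
  have hyP : y • P = P := Sylow.smul_eq_iff_mem_normalizer.mpr (Subgroup.le_normalizer hy)
  have hmP : m • P = g • P := by
    rw [← hk2, ← hmy, mul_smul, hyP]
  refine ⟨m⁻¹ * g, ?_, ?_⟩
  · exact Sylow.smul_eq_iff_mem_normalizer.mp (by rw [mul_smul, ← hmP, inv_smul_smul])
  · rw [map_mul, map_inv]
    have : (QuotientGroup.mk' N) m = 1 := (QuotientGroup.eq_one_iff m).mpr hm
    rw [this, inv_one, one_mul]

/-- NQ: the normalizer of the image of `P` in `G ⧸ N` -/
theorem NQ {G : Type u} [Group G] [Finite G] (N : Subgroup G) [N.Normal]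
    (hN : ¬ p ∣ Nat.card N) (P : Sylow p G) :
    Nat.card ↥(Subgroup.normalizer ((P : Subgroup G) : Set G))
      = Nat.card ↥(Subgroup.normalizer
            (((P : Subgroup G).map (QuotientGroup.mk' N) : Subgroup (G ⧸ N)) : Set (G ⧸ N)))
        * Nat.card ↥(N ⊓ Subgroup.centralizer ((P : Subgroup G) : Set G)) := by
  have hp : p.Prime := Fact.out
  obtain ⟨H, hH⟩ : ∃ H : Subgroup G, H = Subgroup.normalizer ((P : Subgroup G) : Set G) := ⟨_, rfl⟩
  rw [← hH]
  obtain ⟨f, hf⟩ : ∃ f : ↥H →* G ⧸ N, f = (QuotientGroup.mk' N).comp H.subtype := ⟨_, rfl⟩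
  have hcard := Cfsg.Agent.Helper11.CoprimePairs.card_ker_mul_card_range f
  -- the range
  have hrange : f.range = Subgroup.normalizer
      (((P : Subgroup G).map (QuotientGroup.mk' N) : Subgroup (G ⧸ N)) : Set (G ⧸ N)) := by
    have h1 : f.range = H.map (QuotientGroup.mk' N) := by
      rw [hf, ← MonoidHom.map_range, Subgroup.range_subtype]
    rw [h1]
    apply le_antisymm
    · rw [hH]; exact Subgroup.le_normalizer_map _
    · intro gbar hg
      obtain ⟨g, rfl⟩ := QuotientGroup.mk'_surjective N gbar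
      obtain ⟨h, hh, hhg⟩ := NQ_aux_frattini N P g hg
      exact ⟨h, hH ▸ hh, hhg⟩
  -- the kernel
  have hker : f.ker = N.subgroupOf H := by
    ext h
    rw [MonoidHom.mem_ker, Subgroup.mem_subgroupOf, hf]
    show (QuotientGroup.mk' N) (h : G) = 1 ↔ (h : G) ∈ N
    exact QuotientGroup.eq_one_iff _
  have hcop : Nat.Coprime (Nat.card ↥(P : Subgroup G)) (Nat.card ↥N) := by
    obtain ⟨k, hk⟩ := IsPGroup.iff_card.mp P.isPGroup'
    rw [hk]
    exact Nat.Coprime.pow_left k ((Nat.Prime.coprime_iff_not_dvd hp).mpr hN)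
  have hPN : (P : Subgroup G) ⊓ N = ⊥ := (Subgroup.disjoint_of_coprime_natCard hcop).eq_bot
  have hinf : N ⊓ H = N ⊓ Subgroup.centralizer ((P : Subgroup G) : Set G) := by
    apply le_antisymm
    · intro m hm
      obtain ⟨hmN, hmH⟩ := Subgroup.mem_inf.mp hm
      refine Subgroup.mem_inf.mpr ⟨hmN, ?_⟩
      rw [Subgroup.mem_centralizer_iff]
      intro y hy
      have hyP : y ∈ (P : Subgroup G) := hy
      rw [hH] at hmH
      have h1 : m * y * m⁻¹ ∈ (P : Subgroup G) := (Subgroup.mem_normalizer_iff.mp hmH y).mp hyP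
      have h2 : m * y * m⁻¹ * y⁻¹ ∈ (P : Subgroup G) ⊓ N := by
        refine Subgroup.mem_inf.mpr ⟨(P : Subgroup G).mul_mem h1 ((P : Subgroup G).inv_mem hyP), ?_⟩
        have h3 : y * m⁻¹ * y⁻¹ ∈ N := ‹N.Normal›.conj_mem _ (N.inv_mem hmN) y
        have h4 : m * y * m⁻¹ * y⁻¹ = m * (y * m⁻¹ * y⁻¹) := by group
        rw [h4]
        exact N.mul_mem hmN h3
      rw [hPN, Subgroup.mem_bot] at h2
      calc y * m = (m * y * m⁻¹ * y⁻¹)⁻¹ * (m * y) := by group
        _ = m * y := by rw [h2, inv_one, one_mul]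
    · rw [hH]
      exact inf_le_inf_left N (Subgroup.centralizer_le_normalizer _)
  have hkcard : Nat.card ↥f.ker = Nat.card ↥(N ⊓ Subgroup.centralizer ((P : Subgroup G) : Set G)) := by
    rw [hker, ← hinf, ← Subgroup.inf_subgroupOf_right N H]
    exact Nat.card_congr (Subgroup.subgroupOfEquivOfLe inf_le_right).toEquiv
  rw [← hcard, hkcard, hrange, mul_comm]

end Cfsg.Agent.S4091P
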