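import Mathlib
import Cfsg.Agent.Helper27.S4150Defs

/-!
# S4150 piece CLFIX (driver helper27; helper23): the group generated by `X, Y` fixes the points outside the two supports
-/

set_option autoImplicit false
set_option linter.unusedSectionVars false

namespace Cfsg.Agent.S4150P

open Equiv Equiv.Perm MulAction

section
variable {α : Type*} [Fintype α] [DecidableEq α]

/-- CLFIX [S]: the group generated by `X, Y` fixes the points outside the two supports. -/
theorem CLFIX.main (X Y : Perm α) :
    ∀ g ∈ Subgroup.closure ({X, Y} : Set (Perm α)), ∀ a, a ∉ X.support ∪ Y.support → g a = a := by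
  intro g hg a ha
  rw [Finset.mem_union, not_or] at ha
  induction hg using Subgroup.closure_induction with
  | mem x hx =>
    rcases hx with rfl | hx
    · exact Equiv.Perm.notMem_support.mp ha.1
    · rw [Set.mem_singleton_iff] at hx
      subst hx
      exact Equiv.Perm.notMem_support.mp ha.2
  | one => rfl
  | mul x y _ _ hx hy => rw [Perm.mul_apply, hy, hx]
  | inv x _ hx => rw [Perm.inv_eq_iff_eq, hx]

end

end Cfsg.Agent.S4150P
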