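import Mathlib
import Cfsg.Agent.Helper11.SelfCent
import Cfsg.Agent.Helper11.NoSimple
import Cfsg.Agent.Helper11.SylowCount
import Cfsg.Agent.Helper11.OrderP
import Cfsg.Agent.Helper18.S4274SYLDATA
import Cfsg.Agent.S0111

/-! S4274 piece K15960 (helper23): no nonabelian simple group of order 15960 with 210 Sylow
19-subgroups all of whose proper subgroups have a normal Sylow 19-subgroup (Thompson transfer). -/

set_option autoImplicit false

namespace Cfsg.Agent.S4274P

namespace K15960

/-- arithmetic: `210 * (19 * k * m) = 15960`, `m ∣ 18`, `m ≠ 1` forces `k = 2`, `m = 2` -/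
theorem km_eq {k m : ℕ} (h : 210 * (19 * k * m) = 15960) (hm : m ∣ 18) (hm1 : m ≠ 1) :
    k = 2 ∧ m = 2 := by
  have hkm : k * m = 4 := by nlinarith
  have hm4 : m ∣ 4 := Dvd.intro_left k hkm
  have hm2 : m ∣ 2 := by
    have := Nat.dvd_gcd hm hm4
    norm_num at this
    exact this
  have hmle : m ≤ 2 := Nat.le_of_dvd (by norm_num) hm2
  have hm0 : m ≠ 0 := by
    rintro rfl
    simp at hkm
  have : m = 2 := by omega
  subst this
  exact ⟨by omega, rfl⟩

/-- the centre of a nonabelian simple group is trivial -/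
theorem center_eq_bot {H : Type*} [Group H] [IsSimpleGroup H] (hnc : ¬ IsMulCommutative H) :
    Subgroup.center H = ⊥ := by
  rcases (Subgroup.center H).normal_of_characteristic.eq_bot_or_eq_top with h | h
  · exact h
  · exfalso
    apply hnc
    refine ⟨⟨fun a b => ?_⟩⟩
    have hb : b ∈ Subgroup.center H := by rw [h]; exact Subgroup.mem_top b
    exact (Subgroup.mem_center_iff.mp hb a)


/-- elements of `zpowers x`, `orderOf x = 4` -/
theorem mem_zpowers_four {H : Type*} [Group H] [Finite H] {x y : H} (hx : orderOf x = 4)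
    (hy : y ∈ Subgroup.zpowers x) : y = 1 ∨ y = x ∨ y = x ^ 2 ∨ y = x ^ 3 := by
  classical
  rw [mem_zpowers_iff_mem_range_orderOf, hx, Finset.mem_image] at hy
  obtain ⟨i, hi, rfl⟩ := hy
  rw [Finset.mem_range] at hi
  interval_cases i
  · left; exact pow_zero x
  · right; left; exact pow_one x
  · right; right; left; rfl
  · right; right; right; rfl

theorem sq_ne_one_of_orderOf_four {H : Type*} [Group H] {x : H} (hx : orderOf x = 4) :
    x ^ 2 ≠ 1 := by
  intro h
  have := orderOf_dvd_of_pow_eq_one h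
  rw [hx] at this
  omega

theorem pow_four_of_orderOf_four {H : Type*} [Group H] {x : H} (hx : orderOf x = 4) :
    x ^ 4 = 1 := by
  rw [← hx]
  exact pow_orderOf_eq_one x

/-- the unique involution of a cyclic group of order 4 -/
theorem involution_zpowers_four {H : Type*} [Group H] [Finite H] {x z : H} (hx : orderOf x = 4)
    (hz : z ∈ Subgroup.zpowers x) (hz2 : orderOf z = 2) : z = x ^ 2 := by
  have hzz : z ^ 2 = 1 := by rw [← hz2]; exact pow_orderOf_eq_one z
  have hz1 : z ≠ 1 := by
    rintro rfl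
    rw [orderOf_one] at hz2
    omega
  have h4 := pow_four_of_orderOf_four hx
  have hne := sq_ne_one_of_orderOf_four hx
  rcases mem_zpowers_four hx hz with h | h | h | h
  · exact absurd h hz1
  · subst h
    exact absurd hzz hne
  · exact h
  · subst h
    exfalso
    apply hne
    have : (x ^ 3) ^ 2 = x ^ 4 * x ^ 2 := by rw [← pow_mul, ← pow_add]
    rw [this, h4, one_mul] at hzz
    exact hzz

theorem order8 {H : Type*} [Group H] [Finite H] (T : Subgroup H) (hT : Nat.card T = 8)
    (t a : H) (htT : t ∈ T) (haT : a ∈ T) (ht2 : orderOf t = 2) (hat : a * t ≠ t * a) :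
    ∃ x ∈ T, orderOf x = 4 ∧ (∀ b ∈ T, b * x ^ 2 = x ^ 2 * b) ∧
      (Subgroup.zpowers x).relIndex T = 2 ∧ t ∉ Subgroup.zpowers x := by
  classical
  -- an element with `x ^ 2 ≠ 1`
  have hex : ∃ x ∈ T, x ^ 2 ≠ 1 := by
    by_contra hcon
    push Not at hcon
    apply hat
    have h1 := hcon (a * t) (T.mul_mem haT htT)
    have h2 := hcon a haT
    have h3 := hcon t htT
    have ha : a⁻¹ = a := by
      rw [inv_eq_iff_mul_eq_one, ← sq]; exact h2
    have ht : t⁻¹ = t := by
      rw [inv_eq_iff_mul_eq_one, ← sq]; exact h3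
    have h4 : a * t = (a * t)⁻¹ := by
      rw [eq_comm, inv_eq_iff_mul_eq_one, ← sq]; exact h1
    rw [h4, mul_inv_rev, ha, ht]
  obtain ⟨x, hxT, hx2⟩ := hex
  have hdvd : orderOf x ∣ 8 := by
    rw [← hT]
    exact Subgroup.orderOf_dvd_natCard T hxT
  have hle : orderOf x ≤ 8 := Nat.le_of_dvd (by norm_num) hdvd
  have hzle : Subgroup.zpowers x ≤ T := (Subgroup.zpowers_le).mpr hxT
  have hx4 : orderOf x = 4 := by
    have hpos : 0 < orderOf x := orderOf_pos x
    have hne1 : orderOf x ≠ 1 := by
      intro h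
      rw [orderOf_eq_one_iff] at h
      rw [h, one_pow] at hx2
      exact hx2 rfl
    have hne2 : orderOf x ≠ 2 := by
      intro h
      apply hx2
      rw [← h]
      exact pow_orderOf_eq_one x
    have hne8 : orderOf x ≠ 8 := by
      intro h
      have hcard : Nat.card (Subgroup.zpowers x) = 8 := by rw [Nat.card_zpowers, h]
      have heq : Subgroup.zpowers x = T :=
        Subgroup.eq_of_le_of_card_ge hzle (by rw [hT, hcard])
      rw [← heq] at haT htT
      obtain ⟨i, rfl⟩ := Subgroup.mem_zpowers_iff.mp haT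
      obtain ⟨j, rfl⟩ := Subgroup.mem_zpowers_iff.mp htT
      exact hat (zpow_mul_comm x i j)
    interval_cases h : orderOf x <;> simp_all
  have hcardQ : Nat.card (Subgroup.zpowers x) = 4 := by rw [Nat.card_zpowers, hx4]
  have hrel : (Subgroup.zpowers x).relIndex T = 2 := by
    have h := Subgroup.relIndex_mul_relIndex (H := ⊥) (K := Subgroup.zpowers x) (L := T)
      bot_le hzle
    rw [Subgroup.relIndex_bot_left, Subgroup.relIndex_bot_left, hcardQ, hT] at h
    omega
  have hnormal : ((Subgroup.zpowers x).subgroupOf T).Normal :=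
    Subgroup.normal_of_index_eq_two hrel
  have h4 := pow_four_of_orderOf_four hx4
  have hne := sq_ne_one_of_orderOf_four hx4
  have hcentral : ∀ b ∈ T, b * x ^ 2 = x ^ 2 * b := by
    intro b hb
    have hconj : b * x * b⁻¹ ∈ Subgroup.zpowers x := by
      have h := hnormal.conj_mem ⟨x, hxT⟩
        (Subgroup.mem_subgroupOf.mpr (Subgroup.mem_zpowers x)) ⟨b, hb⟩
      rw [Subgroup.mem_subgroupOf] at h
      exact h
    have hsq : (b * x * b⁻¹) ^ 2 = b * x ^ 2 * b⁻¹ := conj_pow
    have hkey : b * x ^ 2 * b⁻¹ = x ^ 2 := by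
      rcases mem_zpowers_four hx4 hconj with h | h | h | h
      · exfalso
        rw [h, one_pow] at hsq
        apply hne
        have : x ^ 2 = b⁻¹ * (b * x ^ 2 * b⁻¹) * b := by group
        rw [this, ← hsq]
        group
      · rw [← hsq, h]
      · exfalso
        rw [h, ← pow_mul, h4] at hsq
        apply hne
        have : x ^ 2 = b⁻¹ * (b * x ^ 2 * b⁻¹) * b := by group
        rw [this, ← hsq]
        group
      · rw [← hsq, h, ← pow_mul]
        have : x ^ (3 * 2) = x ^ 4 * x ^ 2 := by rw [← pow_add]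
        rw [this, h4, one_mul]
    calc b * x ^ 2 = (b * x ^ 2 * b⁻¹) * b := by group
      _ = x ^ 2 * b := by rw [hkey]
  refine ⟨x, hxT, hx4, hcentral, hrel, ?_⟩
  intro htQ
  have := involution_zpowers_four hx4 htQ ht2
  rw [this] at hat
  exact hat (hcentral a haT)


end K15960

/-- K15960 -/
theorem no_simple_15960 {H : Type*} [Group H] [Finite H] [IsSimpleGroup H]
    (hnc : ¬ IsMulCommutative H) (hH : Nat.card H = 15960)
    (hn : Nat.card (Sylow 19 H) = 210)
    (hmin : ∀ L : Subgroup H, L ≠ ⊤ → ∀ Q : Sylow 19 L, (Q : Subgroup L).Normal) : False := by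
  classical
  have : Fact (Nat.Prime 19) := ⟨by norm_num⟩
  have : Fact (Nat.Prime 2) := ⟨Nat.prime_two⟩
  obtain ⟨n, k, m, hn', hmul, -, -, -, hm18, hm1, hall⟩ :=
    sylow_data hnc 19 840 (by rw [hH]) (by norm_num)
  rw [hn] at hn'
  subst hn'
  rw [hH] at hmul
  have hm18' : m ∣ 18 := by simpa using hm18
  obtain ⟨rfl, rfl⟩ := K15960.km_eq hmul hm18' hm1
  obtain ⟨P⟩ : Nonempty (Sylow 19 H) := inferInstance
  obtain ⟨hP, hC, hN⟩ := hall P
  -- an involution centralizing `P`
  have h2C : 2 ∣ Nat.card (Subgroup.centralizer ((P : Subgroup H) : Set H)) := by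
    rw [hC]
    norm_num
  obtain ⟨t', ht'⟩ := exists_prime_orderOf_dvd_card' 2 h2C
  obtain ⟨t, htmem⟩ := t'
  have ht2 : orderOf t = 2 := by
    rw [← ht', Subgroup.orderOf_mk]
  have htC : ∀ x ∈ (P : Subgroup H), x * t = t * x := Subgroup.mem_centralizer_iff.mp htmem
  -- its centralizer
  set L : Subgroup H := Subgroup.centralizer {t} with hLdef
  have hmemL : ∀ y : H, y ∈ L ↔ t * y = y * t := by
    intro y
    rw [hLdef, Subgroup.mem_centralizer_iff]
    constructor
    · intro h
      exact h t (Set.mem_singleton t)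
    · intro h z hz
      rw [Set.mem_singleton_iff] at hz
      subst hz
      exact h
  have hLtop : L ≠ ⊤ := by
    intro h
    have hc : t ∈ Subgroup.center H := by
      rw [Subgroup.mem_center_iff]
      intro g
      have : g ∈ L := by rw [h]; exact Subgroup.mem_top g
      exact ((hmemL g).mp this).symm
    rw [K15960.center_eq_bot hnc, Subgroup.mem_bot] at hc
    rw [hc, orderOf_one] at ht2
    omega
  have hPL : (P : Subgroup H) ≤ L := by
    intro x hx
    rw [hmemL]
    exact (htC x hx).symm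
  have hnormal : ((P.subtype hPL : Sylow 19 L) : Subgroup L).Normal := hmin L hLtop (P.subtype hPL)
  have key : ∀ g ∈ L, ∀ x ∈ (P : Subgroup H), g * x * g⁻¹ ∈ (P : Subgroup H) := by
    intro g hg x hx
    have hxm : (⟨x, hPL hx⟩ : L) ∈ ((P.subtype hPL : Sylow 19 L) : Subgroup L) := by
      rw [Sylow.coe_subtype, Subgroup.mem_subgroupOf]
      exact hx
    have h := hnormal.conj_mem ⟨x, hPL hx⟩ hxm ⟨g, hg⟩
    rw [Sylow.coe_subtype, Subgroup.mem_subgroupOf] at h
    exact h
  have hLN : L ≤ Subgroup.normalizer ((P : Subgroup H) : Set H) := by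
    intro g hg
    rw [Subgroup.mem_normalizer_iff]
    intro x
    constructor
    · exact key g hg x
    · intro hx
      have h := key g⁻¹ (L.inv_mem hg) _ hx
      have h2 : g⁻¹ * (g * x * g⁻¹) * g⁻¹⁻¹ = x := by group
      rw [h2] at h
      exact h
  have hLdvd : Nat.card L ∣ 76 := by
    have h := Subgroup.card_dvd_of_le hLN
    rw [hN] at h
    norm_num at h
    exact h
  -- a Sylow 2-subgroup containing `t`
  have hpg : IsPGroup 2 (Subgroup.zpowers t) :=
    IsPGroup.of_card (n := 1) (by rw [Nat.card_zpowers, ht2, pow_one])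
  obtain ⟨T, hT⟩ := hpg.exists_le_sylow
  have htT : t ∈ (T : Subgroup H) := hT (Subgroup.mem_zpowers t)
  have hTcard : Nat.card (T : Subgroup H) = 8 := by
    have h := (Cfsg.Agent.Helper11.sylow_card_of_card_eq_pow 1995 3 (by rw [hH]; norm_num) (by norm_num) T).1
    rw [h]
    norm_num
  -- `t` is not central in `T`
  have hex : ∃ a ∈ (T : Subgroup H), a * t ≠ t * a := by
    by_contra hcon
    push Not at hcon
    have hTL : (T : Subgroup H) ≤ L := by
      intro a ha
      rw [hmemL]
      exact (hcon a ha).symm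
    have h := (Subgroup.card_dvd_of_le hTL).trans hLdvd
    rw [hTcard] at h
    norm_num at h
  obtain ⟨a, haT, hat⟩ := hex
  obtain ⟨x, hxT, hx4, hcentral, hrel, htQ⟩ := K15960.order8 (T : Subgroup H) hTcard t a htT haT ht2 hat
  have hQT : Subgroup.zpowers x ≤ (T : Subgroup H) := Subgroup.zpowers_le.mpr hxT
  rcases Cfsg.Agent.S0111.result T (Subgroup.zpowers x) hQT hrel t ht2 htT htQ with
    ⟨M, hMn, hMi, -⟩ | ⟨g, hg⟩
  · rcases hMn.eq_bot_or_eq_top with h | h
    · rw [h, Subgroup.index_bot, hH] at hMi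
      omega
    · rw [h, Subgroup.index_top] at hMi
      omega
  · have hord : orderOf (g * t * g⁻¹) = 2 := by
      have hs : SemiconjBy g t (g * t * g⁻¹) := by
        unfold SemiconjBy
        group
      rw [← hs.orderOf_eq, ht2]
    have hz : g * t * g⁻¹ = x ^ 2 := K15960.involution_zpowers_four hx4 hg hord
    have hmapL : (T : Subgroup H).map (MulAut.conj g⁻¹).toMonoidHom ≤ L := by
      rintro _ ⟨b, hb, rfl⟩
      rw [hmemL]
      have h1 := hcentral b hb
      rw [← hz] at h1
      simp only [MulEquiv.toMonoidHom_eq_coe, MonoidHom.coe_coe, MulAut.conj_apply, inv_inv]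
      calc t * (g⁻¹ * b * g) = g⁻¹ * ((g * t * g⁻¹) * b) * g := by group
        _ = g⁻¹ * (b * (g * t * g⁻¹)) * g := by rw [h1]
        _ = g⁻¹ * b * g * t := by group
    have hcardmap : Nat.card ((T : Subgroup H).map (MulAut.conj g⁻¹).toMonoidHom) = 8 := by
      rw [Subgroup.card_map_of_injective (MulAut.conj g⁻¹).injective, hTcard]
    have h := (Subgroup.card_dvd_of_le hmapL).trans hLdvd
    rw [hcardmap] at h
    norm_num at h

end Cfsg.Agent.S4274P
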