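import Mathlib
import Cfsg.Agent.Helper28.S4701CS1
import Cfsg.Agent.Helper28.S4701CS2

set_option autoImplicit false

/-! # S4701, piece CS: a perfect group whose Sylow `p`-subgroups have order `p` has no normal
section `Y ≤ X` of index `p`. -/

namespace Cfsg.Agent.S4701P

universe u

variable {G : Type u} [Group G] [Finite G]

/-- CS -/
theorem no_normal_section (hperf : commutator G = ⊤) (p : ℕ) [Fact p.Prime] (P : Sylow p G)
    (hP : Nat.card P = p) (X Y : Subgroup G) (hX : X.Normal) (hY : Y.Normal) (hYX : Y ≤ X)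
    (hidx : Y.relIndex X = p) : False := by
  have _h := hYX
  have hp : p.Prime := Fact.out
  have hsurj := QuotientGroup.mk'_surjective Y
  have hQperf : commutator (G ⧸ Y) = ⊤ := by
    rw [commutator_def, ← Subgroup.map_top_of_surjective (QuotientGroup.mk' Y) hsurj,
      ← Subgroup.map_commutator, ← commutator_def, hperf]
  set N : Subgroup (G ⧸ Y) := X.map (QuotientGroup.mk' Y) with hN
  have hNn : N.Normal := Subgroup.Normal.map hX _ hsurj
  have hNcard : Nat.card N = p := by
    rw [hN, ← Subgroup.relIndex_ker, QuotientGroup.ker_mk', hidx]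
  have hNc := normal_prime_le_center hQperf N p hNcard
  -- the `p`-part of `|G ⧸ Y|` is `p`
  have hfacG : (Nat.card G).factorization p = 1 := by
    have h1 := P.card_eq_multiplicity
    rw [hP] at h1
    exact (Nat.pow_right_injective hp.two_le (by simpa using h1)).symm
  have hQdvd : Nat.card (G ⧸ Y) ∣ Nat.card G :=
    ⟨Nat.card Y, Subgroup.card_eq_card_quotient_mul_card_subgroup Y⟩
  have hpQ : p ∣ Nat.card (G ⧸ Y) := by
    have := Subgroup.card_subgroup_dvd_card N
    rwa [hNcard] at this
  have hfacQ : (Nat.card (G ⧸ Y)).factorization p = 1 := by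
    have hQpos : Nat.card (G ⧸ Y) ≠ 0 := Nat.card_pos.ne'
    have hGpos : Nat.card G ≠ 0 := Nat.card_pos.ne'
    have hle : (Nat.card (G ⧸ Y)).factorization p ≤ 1 := by
      rw [← hfacG]
      exact (Nat.factorization_le_iff_dvd hQpos hGpos).mpr hQdvd p
    have hge : 1 ≤ (Nat.card (G ⧸ Y)).factorization p :=
      (hp.dvd_iff_one_le_factorization hQpos).mp hpQ
    omega
  let S : Sylow p (G ⧸ Y) := Sylow.ofCard N (by rw [hNcard, hfacQ, pow_one])
  have hS : (S : Subgroup (G ⧸ Y)) = N := Sylow.coe_ofCard N _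
  have hbot := sylow_center_eq_bot hQperf p S (hS ▸ hNc)
  rw [hS] at hbot
  rw [hbot, Subgroup.card_bot] at hNcard
  exact hp.one_lt.ne hNcard

end Cfsg.Agent.S4701P
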