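import Mathlib

set_option autoImplicit false

/-! # S4701: shared definition for the pieces

`BRConcl Q p` is the conclusion of S0999 / S0996 (Brauer--Reynolds) for a group `Q` and a
prime `p`: `Q` is `PSL(2,p)` with `p > 3`, or `PSL(2, 2^m)` with `p = 2^m + 1 > 3`. -/

namespace Cfsg.Agent.S4701P

universe u

/-- the conclusion of S0999 / S0996 for a group `Q` and a prime `p` -/
def BRConcl (Q : Type u) [Group Q] (p : ℕ) : Prop :=
  (∃ (F : Type) (_ : Field F) (_ : Fintype F), Fintype.card F = p ∧ 3 < p ∧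
      Nonempty (Q ≃* Matrix.ProjectiveSpecialLinearGroup (Fin 2) F)) ∨
  (∃ (m : ℕ) (F : Type) (_ : Field F) (_ : Fintype F), Fintype.card F = 2 ^ m ∧ p = 2 ^ m + 1 ∧
      3 < p ∧ Nonempty (Q ≃* Matrix.ProjectiveSpecialLinearGroup (Fin 2) F))

end Cfsg.Agent.S4701P
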