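import Mathlib

set_option autoImplicit false

/-! # S4701, piece PERFA: the abelianization of the normal closure of a Sylow subgroup of
order `p` has order `1` or `p`. -/

namespace Cfsg.Agent.Helper23.S4701PERFA

universe u

variable {G : Type u} [Group G] [Finite G]

omit [Finite G] in
/-- the abelianization of `L = normalClosure P` has exponent `p` when `|P| = p` -/
theorem abelianization_pow_eq_one (p : ℕ) (P : Subgroup G) (hP : Nat.card P = p) :
    ∀ a : Abelianization ↥(Subgroup.normalClosure (P : Set G)), a ^ p = 1 := by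
  set L : Subgroup G := Subgroup.normalClosure (P : Set G) with hL
  have hLn : L.Normal := Subgroup.normalClosure_normal
  have key : ∀ (x : G) (hx : x ∈ L), (Abelianization.of (⟨x, hx⟩ : ↥L)) ^ p = 1 := by
    intro x hx
    have hx' : x ∈ Subgroup.closure (Group.conjugatesOfSet (P : Set G)) := hx
    induction hx' using Subgroup.closure_induction with
    | mem y hy =>
      obtain ⟨b, hb, hconj⟩ := Group.mem_conjugatesOfSet_iff.mp hy
      obtain ⟨c, rfl⟩ := isConj_iff.mp hconj
      have hbp : b ^ p = 1 := by
        have := pow_card_eq_one' (G := ↥P) (x := ⟨b, hb⟩)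
        rw [hP] at this
        simpa using congrArg Subtype.val this
      rw [← map_pow]
      have : (⟨c * b * c⁻¹, hx⟩ : ↥L) ^ p = 1 := by
        apply Subtype.ext
        simp only [Subgroup.coe_pow, Subgroup.coe_one, conj_pow, hbp, mul_one,
          mul_inv_cancel]
      rw [this, map_one]
    | one => 
      have : (⟨1, hx⟩ : ↥L) = 1 := rfl
      rw [this, map_one, one_pow]
    | mul y z hy hz ihy ihz =>
      have hyL : y ∈ L := hy
      have hzL : z ∈ L := hz
      have : (⟨y * z, hx⟩ : ↥L) = ⟨y, hyL⟩ * ⟨z, hzL⟩ := rfl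
      rw [this, map_mul, mul_pow, ihy hyL, ihz hzL, one_mul]
    | inv y hy ihy =>
      have hyL : y ∈ L := hy
      have : (⟨y⁻¹, hx⟩ : ↥L) = (⟨y, hyL⟩ : ↥L)⁻¹ := rfl
      rw [this, map_inv, inv_pow, ihy hyL, inv_one]
  intro a
  obtain ⟨x, hx⟩ := QuotientGroup.mk_surjective a
  rw [← hx]
  exact key x.1 x.2

end Cfsg.Agent.Helper23.S4701PERFA

namespace Cfsg.Agent.S4701P

universe u

variable {G : Type u} [Group G] [Finite G]

/-- PERFA -/
theorem relIndex_commutator_normalClosure (p : ℕ) [Fact p.Prime] (P : Sylow p G)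
    (hP : Nat.card P = p) :
    (⁅Subgroup.normalClosure ((P : Subgroup G) : Set G),
        Subgroup.normalClosure ((P : Subgroup G) : Set G)⁆ : Subgroup G).relIndex
      (Subgroup.normalClosure ((P : Subgroup G) : Set G)) = 1 ∨
    (⁅Subgroup.normalClosure ((P : Subgroup G) : Set G),
        Subgroup.normalClosure ((P : Subgroup G) : Set G)⁆ : Subgroup G).relIndex
      (Subgroup.normalClosure ((P : Subgroup G) : Set G)) = p := by
  have hp : p.Prime := Fact.out
  set L : Subgroup G := Subgroup.normalClosure ((P : Subgroup G) : Set G) with hL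
  -- `relIndex = card of the abelianization`
  have hrel : (⁅L, L⁆ : Subgroup G).relIndex L = Nat.card (Abelianization ↥L) := by
    have h1 : (⁅L, L⁆ : Subgroup G).subgroupOf L = commutator ↥L := by
      rw [← Subgroup.map_subtype_commutator, Subgroup.subgroupOf,
        Subgroup.comap_map_eq_self_of_injective L.subtype_injective]
    rw [Subgroup.relIndex, h1]
    rfl
  rw [hrel]
  have hpg : IsPGroup p (Abelianization ↥L) := by
    intro a
    refine ⟨1, ?_⟩
    rw [pow_one]
    exact Cfsg.Agent.Helper23.S4701PERFA.abelianization_pow_eq_one p (P : Subgroup G) hP a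
  obtain ⟨n, hn⟩ := (IsPGroup.iff_card (p := p) (G := Abelianization ↥L)).mp hpg
  have hfacG : (Nat.card G).factorization p = 1 := by
    have h1 := P.card_eq_multiplicity
    rw [hP] at h1
    exact (Nat.pow_right_injective hp.two_le (by simpa using h1)).symm
  have hdvd : Nat.card (Abelianization ↥L) ∣ Nat.card G := by
    have h1 : Nat.card (Abelianization ↥L) ∣ Nat.card ↥L :=
      ⟨Nat.card (commutator ↥L), Subgroup.card_eq_card_quotient_mul_card_subgroup _⟩
    exact h1.trans (Subgroup.card_subgroup_dvd_card L)
  have hn1 : n ≤ 1 := by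
    rw [hn] at hdvd
    have := (hp.pow_dvd_iff_le_factorization (Nat.card_pos (α := G)).ne').mp hdvd
    omega
  rw [hn]
  interval_cases n
  · left; rfl
  · right; exact pow_one p

end Cfsg.Agent.S4701P
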