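import Mathlib
import Cfsg.Agent.Helper23.S4701PERFA
import Cfsg.Agent.Helper23.S4701CS

set_option autoImplicit false

/-! # S4701, piece PERF: in a perfect group with Sylow `p`-subgroups of order `p`, the normal
closure of a Sylow `p`-subgroup is perfect. -/

namespace Cfsg.Agent.S4701P

universe u

variable {G : Type u} [Group G] [Finite G]

/-- PERF -/
theorem normalClosure_perfect (hperf : commutator G = ⊤) (p : ℕ) [Fact p.Prime] (P : Sylow p G)
    (hP : Nat.card P = p) :
    commutator ↥(Subgroup.normalClosure ((P : Subgroup G) : Set G)) = ⊤ := by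
  set L : Subgroup G := Subgroup.normalClosure ((P : Subgroup G) : Set G) with hL
  have hLn : L.Normal := Subgroup.normalClosure_normal
  have hKn : (⁅L, L⁆ : Subgroup G).Normal := Subgroup.commutator_normal L L
  have hKL : (⁅L, L⁆ : Subgroup G) ≤ L := Subgroup.commutator_le_right L L
  rw [← Group.isPerfect_def, Subgroup.isPerfect_iff]
  rcases relIndex_commutator_normalClosure p P hP with h1 | hp
  · exact le_antisymm hKL (Subgroup.relIndex_eq_one.mp h1)
  · exact (no_normal_section hperf p P hP L ⁅L, L⁆ hLn hKn hKL hp).elim

end Cfsg.Agent.S4701P
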