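import Mathlib

set_option autoImplicit false

/-! # S4701, piece PLEM: a Sylow `p`-subgroup lies in every normal subgroup of index prime
to `p`. -/

namespace Cfsg.Agent.S4701P

universe u

variable {G : Type u} [Group G] [Finite G]

/-- PLEM -/
theorem sylow_le_of_not_dvd (p : ℕ) [Fact p.Prime] (P : Sylow p G) (M : Subgroup G) [M.Normal]
    (h : ¬ p ∣ Nat.card (G ⧸ M)) : (P : Subgroup G) ≤ M := by
  have hp : p.Prime := Fact.out
  have hpg : IsPGroup p ((P : Subgroup G).map (QuotientGroup.mk' M)) :=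
    P.isPGroup'.map (QuotientGroup.mk' M)
  obtain ⟨n, hn⟩ := IsPGroup.iff_card.mp hpg
  have hdvd : Nat.card ((P : Subgroup G).map (QuotientGroup.mk' M)) ∣ Nat.card (G ⧸ M) :=
    Subgroup.card_subgroup_dvd_card _
  have hn0 : n = 0 := by
    by_contra hne
    apply h
    rw [hn] at hdvd
    exact (dvd_pow_self p hne).trans hdvd
  rw [hn0, pow_zero, Subgroup.card_eq_one] at hn
  have := (Subgroup.map_eq_bot_iff _).mp hn
  rwa [QuotientGroup.ker_mk'] at this

end Cfsg.Agent.S4701P
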