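import Mathlib
import Cfsg.Agent.Helper23.S4701Defs
import Cfsg.Agent.Lead.AISLPSL

set_option autoImplicit false

/-! # S4701, piece TRANS: transport the conclusion from `G ⧸ M` (with `M` trivial) to `G`. -/

namespace Cfsg.Agent.S4701P

universe u

variable {G : Type u} [Group G] [Finite G]

/-- TRANS -/
theorem concl_of_quotient (p : ℕ) (M : Subgroup G) [M.Normal] (hM : Nat.card M = 1)
    (h : BRConcl (G ⧸ M) p) :
    (∃ (F : Type) (_ : Field F) (_ : Fintype F), Fintype.card F = p ∧ 3 < p ∧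
      Nonempty (G ≃* Matrix.ProjectiveSpecialLinearGroup (Fin 2) F)) ∨
    (∃ (m : ℕ) (F : Type) (_ : Field F) (_ : Fintype F), Fintype.card F = 2 ^ m ∧
      p = 2 ^ m + 1 ∧ 3 < p ∧ Nonempty (G ≃* Matrix.SpecialLinearGroup (Fin 2) F)) := by
  have hMbot : M = ⊥ := Subgroup.card_eq_one.mp hM
  have e0 : G ≃* G ⧸ M :=
    (QuotientGroup.quotientBot (G := G)).symm.trans (QuotientGroup.quotientMulEquivOfEq hMbot.symm)
  rcases h with ⟨F, iF, iFt, hcard, h3, ⟨e⟩⟩ | ⟨m, F, iF, iFt, hcard, hpm, h3, ⟨e⟩⟩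
  · exact Or.inl ⟨F, iF, iFt, hcard, h3, ⟨e0.trans e⟩⟩
  · right
    have : Fact (Nat.Prime 2) := ⟨Nat.prime_two⟩
    have : CharP F 2 := charP_of_card_eq_prime_pow hcard
    obtain ⟨e1⟩ := Cfsg.Agent.Lead.AI.nonempty_sl2_equiv_psl2 (F := F)
    exact ⟨m, F, iF, iFt, hcard, hpm, h3, ⟨(e0.trans e).trans e1.symm⟩⟩

end Cfsg.Agent.S4701P
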