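import Mathlib
import Cfsg.Agent.Helper23.S4701Defs
import Cfsg.Agent.Helper5.S4701SYLP
import Cfsg.Agent.Helper5.S4701SIMQ
import Cfsg.Agent.Helper5.S4701QNC
import Cfsg.Agent.Helper5.S4701SBND
import Cfsg.Agent.Helper23.S4701PLEM
import Cfsg.Agent.Helper23.S4701PERF
import Cfsg.Agent.Helper28.S4701SUB
import Cfsg.Agent.Helper23.S4701TRANS

set_option autoImplicit false

/-! # S4701: main assembly

Everything is proved relative to the hypothesis `BRHyp.{u}`: the statement of S0999
(Brauer--Reynolds for simple groups) at universe `u`.  The file `Cfsg/Agent/S4701.lean`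
discharges it with `Cfsg.Agent.S0999.result`. -/

namespace Cfsg.Agent.S4701P

universe u

/-- the statement of S0999 at universe `u` -/
def BRHyp : Prop :=
  ∀ (Q : Type u) [Group Q] [Finite Q] [IsSimpleGroup Q], ¬ IsCyclic Q →
    ∀ p : ℕ, p.Prime → p ∣ Nat.card Q → Nat.card Q < p ^ 3 → BRConcl Q p

/-- arithmetic: `2 p^3 ≤ 3 p (p^2-1)` for `p ≥ 2` -/
theorem arith_aux (p : ℕ) (hp : 2 ≤ p) : 2 * p ^ 3 ≤ 3 * (p * (p ^ 2 - 1)) := by
  obtain ⟨k, rfl⟩ : ∃ k, p = k + 2 := ⟨p - 2, by omega⟩
  have h1 : (k + 2) ^ 2 - 1 = k ^ 2 + 4 * k + 3 := by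
    have : (k + 2) ^ 2 = k ^ 2 + 4 * k + 3 + 1 := by ring
    omega
  rw [h1]
  nlinarith [sq_nonneg k, Nat.zero_le k, Nat.zero_le (k ^ 2), Nat.zero_le (k ^ 3)]

/-- IND: the order bound for perfect groups, by strong induction on the order. -/
theorem perfect_card_bound (hBR : BRHyp.{u}) (n : ℕ) :
    ∀ (G : Type u) [Group G] [Finite G], Nat.card G = n → commutator G = ⊤ →
      ∀ (p : ℕ) [Fact p.Prime], p ∣ Nat.card G → Nat.card G < p ^ 3 →
        ∀ P : Sylow p G, ¬ (P : Subgroup G).Normal → p * (p ^ 2 - 1) ≤ 2 * Nat.card G := by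
  induction n using Nat.strong_induction_on with
  | _ n ih =>
    intro G _ _ hn hperf p _ hdvd hbig P hP
    have hpP : Nat.card P = p := card_sylow_eq p hbig P hP
    have : Nontrivial G := by
      by_contra hnt
      rw [not_nontrivial_iff_subsingleton] at hnt
      exact hP (by
        have : (P : Subgroup G) = ⊥ := Subsingleton.elim _ _
        rw [this]; infer_instance)
    obtain ⟨M, hMn, hMne, hMmax⟩ := exists_max_normal (G := G)
    have := hMn
    have hsimp : IsSimpleGroup (G ⧸ M) := isSimpleGroup_quotient M hMne hMmax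
    obtain ⟨hnc, hQperf, hQ3⟩ := quotient_not_cyclic hperf M hMne
    have hcard : Nat.card G = Nat.card (G ⧸ M) * Nat.card M :=
      Subgroup.card_eq_card_quotient_mul_card_subgroup M
    have hMpos : 0 < Nat.card M := Nat.card_pos
    have hQpos : 0 < Nat.card (G ⧸ M) := Nat.card_pos
    by_cases hpQ : p ∣ Nat.card (G ⧸ M)
    · -- S0999 on the quotient
      have hQle : Nat.card (G ⧸ M) ≤ Nat.card G := by
        rw [hcard]; exact Nat.le_mul_of_pos_right _ hMpos
      have hbr : BRConcl (G ⧸ M) p :=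
        hBR (G ⧸ M) hnc p (Fact.out) hpQ (lt_of_le_of_lt hQle hbig)
      have := simple_card_bound (G := G ⧸ M) p Fact.out hbr
      omega
    · -- `P ≤ M`, induction on the normal closure
      have hPM : (P : Subgroup G) ≤ M := sylow_le_of_not_dvd p P M hpQ
      set L : Subgroup G := Subgroup.normalClosure ((P : Subgroup G) : Set G) with hL
      have hLM : L ≤ M := Subgroup.normalClosure_le_normal hPM
      have hLcard : Nat.card L ≤ Nat.card M := Subgroup.card_le_of_le hLM
      have hMG : Nat.card M < Nat.card G := by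
        rw [hcard]
        have : 1 < Nat.card (G ⧸ M) := by omega
        nlinarith
      have hLperf : commutator ↥L = ⊤ := normalClosure_perfect hperf p P hpP
      obtain ⟨hLdvd, P', hP'⟩ := normalClosure_sylow p P hP
      have hLlt : Nat.card L < n := by omega
      have := ih (Nat.card L) hLlt ↥L rfl hLperf p hLdvd (by omega) P' hP'
      omega

/-- MAIN: the statement S4701 at a fixed universe. -/
theorem main (hBR : BRHyp.{u}) {G : Type u} [Group G] [Finite G] (hperf : commutator G = ⊤) (p : ℕ)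
    [Fact p.Prime] (_hdvd : p ∣ Nat.card G) (hbig : Nat.card G < p ^ 3) (P : Sylow p G)
    (hP : ¬ (P : Subgroup G).Normal) (h2 : ∀ N : Subgroup G, N.Normal → Nat.card N ≠ 2) :
    (∃ (F : Type) (_ : Field F) (_ : Fintype F), Fintype.card F = p ∧ 3 < p ∧
      Nonempty (G ≃* Matrix.ProjectiveSpecialLinearGroup (Fin 2) F)) ∨
    (∃ (m : ℕ) (F : Type) (_ : Field F) (_ : Fintype F), Fintype.card F = 2 ^ m ∧
      p = 2 ^ m + 1 ∧ 3 < p ∧ Nonempty (G ≃* Matrix.SpecialLinearGroup (Fin 2) F)) := by
  have hp2 : 2 ≤ p := (Fact.out : p.Prime).two_le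
  have harith := arith_aux p hp2
  have hpP : Nat.card P = p := card_sylow_eq p hbig P hP
  have : Nontrivial G := by
    by_contra hnt
    rw [not_nontrivial_iff_subsingleton] at hnt
    exact hP (by
      have : (P : Subgroup G) = ⊥ := Subsingleton.elim _ _
      rw [this]; infer_instance)
  obtain ⟨M, hMn, hMne, hMmax⟩ := exists_max_normal (G := G)
  have := hMn
  have hsimp : IsSimpleGroup (G ⧸ M) := isSimpleGroup_quotient M hMne hMmax
  obtain ⟨hnc, hQperf, hQ3⟩ := quotient_not_cyclic hperf M hMne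
  have hcard : Nat.card G = Nat.card (G ⧸ M) * Nat.card M :=
    Subgroup.card_eq_card_quotient_mul_card_subgroup M
  have hMpos : 0 < Nat.card M := Nat.card_pos
  have hQpos : 0 < Nat.card (G ⧸ M) := Nat.card_pos
  by_cases hpQ : p ∣ Nat.card (G ⧸ M)
  · have hQle : Nat.card (G ⧸ M) ≤ Nat.card G := by
      rw [hcard]; exact Nat.le_mul_of_pos_right _ hMpos
    have hbr : BRConcl (G ⧸ M) p :=
      hBR (G ⧸ M) hnc p (Fact.out) hpQ (lt_of_le_of_lt hQle hbig)
    have hb := simple_card_bound (G := G ⧸ M) p Fact.out hbr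
    have hM1 : Nat.card M = 1 := by
      have hne2 : Nat.card M ≠ 2 := h2 M hMn
      by_contra hne1
      have h3 : 3 ≤ Nat.card M := by omega
      have : 3 * (p * (p ^ 2 - 1)) ≤ 2 * Nat.card G := by
        rw [hcard]; nlinarith
      omega
    exact concl_of_quotient p M hM1 hbr
  · exfalso
    have hPM : (P : Subgroup G) ≤ M := sylow_le_of_not_dvd p P M hpQ
    set L : Subgroup G := Subgroup.normalClosure ((P : Subgroup G) : Set G) with hL
    have hLM : L ≤ M := Subgroup.normalClosure_le_normal hPM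
    have hLcard : Nat.card L ≤ Nat.card M := Subgroup.card_le_of_le hLM
    have hLG : Nat.card L ≤ Nat.card G := by
      rw [hcard]; nlinarith
    have hLperf : commutator ↥L = ⊤ := normalClosure_perfect hperf p P hpP
    obtain ⟨hLdvd, P', hP'⟩ := normalClosure_sylow p P hP
    have hb := perfect_card_bound hBR (Nat.card L) ↥L rfl hLperf p hLdvd (by omega) P' hP'
    have : 3 * (p * (p ^ 2 - 1)) ≤ 2 * Nat.card G := by
      rw [hcard]; nlinarith
    omega

end Cfsg.Agent.S4701P
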