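import Mathlib
import Cfsg.Prelude.Def_Characters
import Cfsg.Agent.Lead.PairSignDefs
import Cfsg.Agent.Helper8.Ind

/-!
# S4706 piece REC: the induced sign character of a pair stabilizer against `π - c`

`⟨Ind_S^H σ, ξ⟩ = 1` for a class function `ξ` with `ξ = π - c` on the pair stabilizer `S`
(Frobenius reciprocity plus sign-reversing bijections of `S`).
-/

set_option autoImplicit false

namespace Cfsg.Agent.Helper23.S4706

open Cfsg Cfsg.Agent.Lead.PairSign MulAction
open scoped ComplexConjugate

universe u v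

section
variable {H : Type u} [Group H] {Ω : Type v} [MulAction H Ω]

theorem pairSign_mul_self (a b : Ω) (s : pairStab (H := H) a b) :
    pairSign a b s * pairSign a b s = 1 := by
  by_cases h : (s : H) • a = a
  · rw [pairSign_of_fix s h]; simp
  · rw [pairSign_of_not_fix s h]; simp

/-- Sign-reversing bijection: if `t ∈ S` swaps `a` and `b` and `F (t * s) = F s`, then
`∑ σ(s) F(s) = 0`. -/
theorem sum_pairSign_mul_eq_zero (a b : Ω) [Fintype (pairStab (H := H) a b)]
    (t : pairStab (H := H) a b) (ht : (t : H) • a ≠ a)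
    (F : pairStab (H := H) a b → ℂ) (hF : ∀ s, F (t * s) = F s) :
    ∑ s, pairSign a b s * F s = 0 := by
  have h1 : ∑ s, pairSign a b s * F s = ∑ s, pairSign a b (t * s) * F (t * s) :=
    (Equiv.sum_comp (Equiv.mulLeft t) (fun s => pairSign a b s * F s)).symm
  have h2 : ∑ s, pairSign a b (t * s) * F (t * s) = - ∑ s, pairSign a b s * F s := by
    rw [← Finset.sum_neg_distrib]
    apply Finset.sum_congr rfl
    intro s _
    rw [map_mul, pairSign_of_not_fix t ht, hF]; ring
  have h3 : (2 : ℂ) * ∑ s, pairSign a b s * F s = 0 := by linear_combination h1 + h2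
  rcases mul_eq_zero.1 h3 with h | h
  · norm_num at h
  · exact h

end

theorem card_fixedBy_eq_sum {H : Type u} [Group H] {Ω : Type v} [Fintype Ω] [MulAction H Ω]
    [DecidableEq Ω] (g : H) :
    (Nat.card (fixedBy Ω g) : ℂ) = ∑ x : Ω, if g • x = x then (1 : ℂ) else 0 := by
  classical
  have h : Nat.card (fixedBy Ω g) = (Finset.univ.filter (fun x : Ω => g • x = x)).card := by
    rw [Nat.card_eq_fintype_card]
    exact Fintype.card_of_subtype _ (fun x => by simp [mem_fixedBy])
  rw [h, Finset.card_eq_sum_ones, Finset.sum_filter]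
  push_cast
  rfl

theorem classInner_indSign_of_swap {H : Type u} [Group H] [Fintype H] {Ω : Type v} [Fintype Ω]
    [MulAction H Ω] (a b : Ω) (hab : a ≠ b)
    (hsw : ∃ t : H, t • a = b ∧ t • b = a)
    (h3 : ∀ x : Ω, x ≠ a → x ≠ b → ∃ t : H, t • a = b ∧ t • b = a ∧ t • x = x)
    (ξ : H → ℂ) (hξ : IsClassFunction H ξ) (c : ℂ)
    (hval : ∀ s ∈ pairStab (H := H) a b, ξ s = (Nat.card (fixedBy Ω s) : ℂ) - c) :
    classInner (indSign (H := H) a b) ξ = 1 := by
  classical
  have : Fintype (pairStab (H := H) a b) := Fintype.ofFinite _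
  unfold indSign
  rw [Cfsg.Agent.Helper8.frobenius_reciprocity (pairStab (H := H) a b) _ ξ hξ]
  unfold classInner
  -- the swapping element
  obtain ⟨t0, ht0a, ht0b⟩ := hsw
  have ht0S : t0 ∈ pairStab (H := H) a b := Or.inr ⟨ht0a, ht0b⟩
  have ht0 : ((⟨t0, ht0S⟩ : pairStab (H := H) a b) : H) • a ≠ a := by
    show t0 • a ≠ a
    rw [ht0a]; exact fun h => hab h.symm
  -- (A)
  have hA : ∑ s : pairStab (H := H) a b, pairSign a b s = 0 := by
    have := sum_pairSign_mul_eq_zero a b ⟨t0, ht0S⟩ ht0 (fun _ => 1) (fun _ => rfl)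
    simpa using this
  -- (B)
  have hB : ∀ x : Ω, x ≠ a → x ≠ b →
      ∑ s : pairStab (H := H) a b, pairSign a b s * (if (s : H) • x = x then (1 : ℂ) else 0) = 0 := by
    intro x hxa hxb
    obtain ⟨t, hta, htb, htx⟩ := h3 x hxa hxb
    have htS : t ∈ pairStab (H := H) a b := Or.inr ⟨hta, htb⟩
    have ht : ((⟨t, htS⟩ : pairStab (H := H) a b) : H) • a ≠ a := by
      show t • a ≠ a
      rw [hta]; exact fun h => hab h.symm
    apply sum_pairSign_mul_eq_zero a b ⟨t, htS⟩ ht
    intro s
    have : ((⟨t, htS⟩ * s : pairStab (H := H) a b) : H) • x = x ↔ (s : H) • x = x := by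
      show (t * (s : H)) • x = x ↔ (s : H) • x = x
      rw [mul_smul]
      constructor
      · intro h
        have h' : t • ((s : H) • x) = t • x := by rw [h, htx]
        exact smul_left_cancel t h'
      · intro h; rw [h, htx]
    simp only [this]
  -- (C)
  have hC : ∀ s : pairStab (H := H) a b,
      pairSign a b s * ((if (s : H) • a = a then (1 : ℂ) else 0) +
        (if (s : H) • b = b then (1 : ℂ) else 0)) = pairSign a b s + 1 := by
    intro s
    by_cases h : (s : H) • a = a
    · have hb : (s : H) • b = b := (smul_left_eq_iff hab s.2).1 h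
      rw [if_pos h, if_pos hb, pairSign_of_fix s h]; norm_num
    · have hb : ¬ (s : H) • b = b := fun hb => h ((smul_left_eq_iff hab s.2).2 hb)
      rw [if_neg h, if_neg hb, pairSign_of_not_fix s h]; norm_num
  -- the sum over the points
  have hsum : ∀ s : pairStab (H := H) a b,
      pairSign a b s * conj (ξ (s : H)) =
        (∑ x : Ω, pairSign a b s * (if (s : H) • x = x then (1 : ℂ) else 0)) -
          pairSign a b s * conj c := by
    intro s
    rw [hval s s.2, map_sub, card_fixedBy_eq_sum, map_sum, mul_sub, Finset.mul_sum]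
    congr 1
    apply Finset.sum_congr rfl
    intro x _
    split_ifs <;> simp
  have hpts : ∑ x : Ω, ∑ s : pairStab (H := H) a b,
      pairSign a b s * (if (s : H) • x = x then (1 : ℂ) else 0) =
      (Fintype.card (pairStab (H := H) a b) : ℂ) := by
    have hsub : ∑ x : Ω, ∑ s : pairStab (H := H) a b,
        pairSign a b s * (if (s : H) • x = x then (1 : ℂ) else 0) =
        ∑ x ∈ ({a, b} : Finset Ω), ∑ s : pairStab (H := H) a b,
          pairSign a b s * (if (s : H) • x = x then (1 : ℂ) else 0) := by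
      symm
      apply Finset.sum_subset (Finset.subset_univ _)
      intro x _ hx
      simp only [Finset.mem_insert, Finset.mem_singleton, not_or] at hx
      exact hB x hx.1 hx.2
    rw [hsub, Finset.sum_pair hab, ← Finset.sum_add_distrib]
    simp_rw [← mul_add, hC]
    rw [Finset.sum_add_distrib, hA, zero_add]
    simp
  have hmain : ∑ s : pairStab (H := H) a b, pairSign a b s * conj (ξ (s : H)) =
      (Fintype.card (pairStab (H := H) a b) : ℂ) := by
    simp_rw [hsum]
    rw [Finset.sum_sub_distrib, Finset.sum_comm, hpts, ← Finset.sum_mul, hA, zero_mul, sub_zero]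
  rw [hmain, Nat.card_eq_fintype_card]
  have hne : (Fintype.card (pairStab (H := H) a b) : ℂ) ≠ 0 := by
    exact_mod_cast Fintype.card_ne_zero
  field_simp

theorem classInner_indSign {H : Type u} [Group H] [Fintype H] {Ω : Type v} [Fintype Ω]
    [MulAction H Ω] (a b : Ω) (hab : a ≠ b) (hΩ3 : 3 ≤ Fintype.card Ω)
    (h3 : ∀ x : Ω, x ≠ a → x ≠ b → ∃ t : H, t • a = b ∧ t • b = a ∧ t • x = x)
    (ξ : H → ℂ) (hξ : IsClassFunction H ξ) (c : ℂ)
    (hval : ∀ s ∈ pairStab (H := H) a b, ξ s = (Nat.card (fixedBy Ω s) : ℂ) - c) :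
    classInner (indSign (H := H) a b) ξ = 1 := by
  classical
  have hx : ∃ x : Ω, x ≠ a ∧ x ≠ b := by
    by_contra hcon
    push Not at hcon
    have hsub : (Finset.univ : Finset Ω) ⊆ {a, b} := by
      intro x _
      by_cases hxa : x = a
      · simp [hxa]
      · simp [hcon x hxa]
    have := Finset.card_le_card hsub
    rw [Finset.card_univ, Finset.card_pair hab] at this
    omega
  obtain ⟨x, hxa, hxb⟩ := hx
  obtain ⟨t, hta, htb, _⟩ := h3 x hxa hxb
  exact classInner_indSign_of_swap a b hab ⟨t, hta, htb⟩ h3 ξ hξ c hval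

end Cfsg.Agent.Helper23.S4706
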