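import Mathlib
import Cfsg.Agent.Helper25.S5165.Defs

set_option autoImplicit false
set_option linter.unusedSectionVars false
set_option linter.unusedVariables false

/-! S5165 piece BASECENT (driver helper25; helper23): the base group is self-centralizing (`r ≤ 1`). -/

namespace Cfsg.Agent.S5165P

open Equiv

variable {p : ℕ} [Fact p.Prime] {I : Type} [Fintype I] [DecidableEq I] {r : ℕ}

namespace BASECENT

theorem comm_apply {g : Perm (X p I r)}
    (hg : g ∈ Subgroup.centralizer ((Bsub p I r : Subgroup (Perm (X p I r))) : Set (Perm (X p I r))))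
    (f : I → ZMod p) (y : X p I r) : base f (g y) = g (base f y) := by
  have h := (Subgroup.mem_centralizer_iff.1 hg) (base f) (mem_Bsub.2 ⟨f, rfl⟩)
  have h1 := congrArg (fun e : Perm (X p I r) => e y) h
  simpa only [Perm.coe_mul, Function.comp_apply] using h1

theorem one_ne_zero' : (1 : ZMod p) ≠ 0 := by
  have : Fact (1 < p) := ⟨(Fact.out : p.Prime).one_lt⟩
  exact one_ne_zero

/-- the image of the block `i` is in the block `i` -/
theorem exists_inl {g : Perm (X p I r)}
    (hg : g ∈ Subgroup.centralizer ((Bsub p I r : Subgroup (Perm (X p I r))) : Set (Perm (X p I r))))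
    (i : I) : ∃ c : ZMod p, g (Sum.inl (i, 0)) = Sum.inl (i, c) := by
  have h1 := comm_apply hg (Pi.single i 1) (Sum.inl (i, 0))
  rw [base_inl, Pi.single_eq_same, zero_add] at h1
  have hne : g (Sum.inl (i, (1 : ZMod p))) ≠ g (Sum.inl (i, 0)) := by
    intro h
    have h2 := Sum.inl_injective (g.injective h)
    rw [Prod.mk.injEq] at h2
    exact one_ne_zero' h2.2
  rw [← h1] at hne
  rcases hz : g (Sum.inl (i, 0)) with ⟨j, c⟩ | k
  · rw [hz, base_inl] at hne
    by_cases hji : j = i
    · subst hji
      exact ⟨c, rfl⟩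
    · exfalso
      apply hne
      rw [Pi.single_eq_of_ne hji, add_zero]
  · rw [hz, base_inr] at hne
    exact absurd rfl hne

theorem apply_inr (hr : r ≤ 1) {g : Perm (X p I r)}
    (hg : g ∈ Subgroup.centralizer ((Bsub p I r : Subgroup (Perm (X p I r))) : Set (Perm (X p I r))))
    (k : Fin r) : g (Sum.inr k) = Sum.inr k := by
  rcases hz : g (Sum.inr k) with ⟨j, c⟩ | k'
  · exfalso
    have h1 := comm_apply hg (Pi.single j 1) (Sum.inr k)
    rw [base_inr, hz, base_inl, Pi.single_eq_same] at h1
    have h2 := Sum.inl_injective h1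
    rw [Prod.mk.injEq] at h2
    exact one_ne_zero' (add_eq_left.1 h2.2)
  · have : Subsingleton (Fin r) := by
      interval_cases r
      · exact inferInstance
      · exact inferInstance
    rw [Subsingleton.elim k' k]

end BASECENT

theorem BASECENT.centralizer_le (hr : r ≤ 1) :
    Subgroup.centralizer ((Bsub p I r : Subgroup (Perm (X p I r))) : Set (Perm (X p I r))) ≤
      Bsub p I r := by
  intro g hg
  choose c hc using BASECENT.exists_inl hg
  rw [mem_Bsub]
  refine ⟨c, ?_⟩
  ext y
  rcases y with ⟨i, x⟩ | k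
  · have h1 := BASECENT.comm_apply hg (Pi.single i x) (Sum.inl (i, 0))
    rw [base_inl, Pi.single_eq_same, zero_add, hc, base_inl, Pi.single_eq_same] at h1
    rw [← h1, base_inl, add_comm]
  · rw [BASECENT.apply_inr hr hg, base_inr]

end Cfsg.Agent.S5165P
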