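import Cfsg.Agent.Helper27.S5634BDefs
import Cfsg.Agent.Helper24.S5634BCMP
import Cfsg.Agent.Lead.S5634BEE1

set_option autoImplicit false
set_option linter.unusedSectionVars false
set_option linter.unusedVariables false

/-! # S5634 piece B_PROPER (driver helper27; helper23): the stabiliser of the decomposition does not contain `SL` -/

namespace Cfsg.Agent.S5634P

open Matrix Cfsg.Agent.Helper28.SLMax
open scoped MatrixGroups

variable {F : Type*} [Field F] {n t m : ℕ} {D : Fin t → Submodule F (Fin n → F)}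

namespace PROPER

/-- a non-zero vector in each block -/
theorem exists_ne_zero (hD : Cfsg.Geo.IsMDecomposition m D) (c : Fin t) : ∃ x ∈ D c, x ≠ 0 := by
  have h : 0 < Module.finrank F (D c) := by rw [hD.finrank_eq c]; exact hD.pos
  rw [Module.finrank_pos_iff_exists_ne_zero] at h
  obtain ⟨x, hx⟩ := h
  exact ⟨x.1, x.2, fun h0 => hx (Subtype.ext h0)⟩

/-- a block functional kills the other blocks -/
theorem dot_of_mem_ne' {b c : Fin t} {φ : Fin n → F} (hφ : φ ∈ Dl D c) {x : Fin n → F} (hx : x ∈ D b)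
    (hbc : b ≠ c) : φ ⬝ᵥ x = 0 := by
  apply hφ x
  exact (le_iSup (fun b : {b : Fin t // b ≠ c} => D b.1) ⟨b, hbc⟩) hx

/-- a block functional with value one at a non-zero vector of the block -/
theorem exists_one0 (hD : Cfsg.Geo.IsMDecomposition m D) {c : Fin t} {y : Fin n → F} (hy : y ∈ D c)
    (hy0 : y ≠ 0) : ∃ χ ∈ Dl D c, χ ⬝ᵥ y = 1 := by
  have h : y ∉ Oth D c := by
    intro h
    have h1 : y ∈ D c ⊓ Oth D c := ⟨hy, h⟩
    rw [(CMP.isCompl hD c).inf_eq_bot, Submodule.mem_bot] at h1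
    exact hy0 h1
  obtain ⟨χ, hχ, h1⟩ := exists_dual (Oth D c) y h
  exact ⟨χ, hχ, h1⟩

/-- a sum of non-zero vectors of two different blocks is in no block -/
theorem add_notMem (hD : Cfsg.Geo.IsMDecomposition m D) {c d : Fin t} (hcd : c ≠ d) {x y : Fin n → F}
    (hx : x ∈ D c) (hy : y ∈ D d) (hx0 : x ≠ 0) (hy0 : y ≠ 0) (e : Fin t) : y + x ∉ D e := by
  intro h
  by_cases hec : e = c
  · subst hec
    have h1 : cmp D d (y + x) = 0 := CMP.of_mem_ne hD h hcd
    rw [map_add, CMP.of_mem hD hy, CMP.of_mem_ne hD hx hcd, add_zero] at h1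
    exact hy0 h1
  · have h1 : cmp D c (y + x) = 0 := CMP.of_mem_ne hD h hec
    rw [map_add, CMP.of_mem hD hx, CMP.of_mem_ne hD hy (Ne.symm hcd), zero_add] at h1
    exact hx0 h1

end PROPER

/-- (`x ∈ D c`, `y ∈ D d` non-zero, `c ≠ d`, `χ ∈ Dl D d`, `χ y = 1`: `T(x, χ)` maps `y` to `y + x`, in no block) -/
theorem PROPER.exists (hD : Cfsg.Geo.IsMDecomposition m D) :
    ∃ g ∈ Cfsg.Geo.specialLinear (Fin n) F, g ∉ Cfsg.Geo.decompositionStabilizer D := by
  have ht := hD.two_le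
  set c : Fin t := ⟨0, by omega⟩ with hc
  set d : Fin t := ⟨1, by omega⟩ with hd
  have hcd : c ≠ d := by
    intro h
    have := congrArg Fin.val h
    simp [hc, hd] at this
  obtain ⟨x, hx, hx0⟩ := PROPER.exists_ne_zero hD c
  obtain ⟨y, hy, hy0⟩ := PROPER.exists_ne_zero hD d
  obtain ⟨χ, hχ, hχy⟩ := PROPER.exists_one0 hD hy hy0
  have hχx : χ ⬝ᵥ x = 0 := PROPER.dot_of_mem_ne' hχ hx hcd
  refine ⟨EE x χ, EE.mem_SL hχx, ?_⟩
  rintro ⟨σ, hσ⟩
  have h1 : ((EE x χ : GL (Fin n) F) : Matrix (Fin n) (Fin n) F) *ᵥ y ∈ D (σ d) := by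
    rw [← hσ d]
    exact ⟨y, hy, by rw [Matrix.toLin'_apply]⟩
  rw [EE_mulVec0 hχx, hχy, one_smul] at h1
  exact PROPER.add_notMem hD hcd hx hy hx0 hy0 _ h1

end Cfsg.Agent.S5634P
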