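import Cfsg.Agent.Helper27.S5634BDefs
import Cfsg.Agent.Helper24.S5634BCMP
import Cfsg.Agent.Helper11.S5634BHMEM
import Cfsg.Agent.Helper23.S5634BPROPER

set_option autoImplicit false
set_option linter.unusedSectionVars false
set_option linter.unusedVariables false

/-! # S5634 piece B_SWAP, second copy (helper23; the board copy is `Cfsg.Agent.Helper10.S5634BSWAP`): an element of `HH D`
swapping two blocks.  Everything here lives in the namespace `H23SWAP`, so that it cannot clash with the board copy. -/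

namespace Cfsg.Agent.S5634P

open Matrix Cfsg.Agent.Helper28.SLMax
open scoped MatrixGroups

variable {F : Type*} [Field F] {n t m : ℕ} {D : Fin t → Submodule F (Fin n → F)}

namespace H23SWAP

/-- two vectors with the same components are equal -/
theorem ext_cmp (hD : Cfsg.Geo.IsMDecomposition m D) {x y : Fin n → F}
    (h : ∀ c, cmp D c x = cmp D c y) : x = y := by
  rw [← CMP.sum hD x, ← CMP.sum hD y]
  exact Finset.sum_congr rfl (fun c _ => h c)

/-- the projection to the block `D c`, as a map into the block -/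
noncomputable def proj (hD : Cfsg.Geo.IsMDecomposition m D) (c : Fin t) : (Fin n → F) →ₗ[F] D c :=
  (cmp D c).codRestrict (D c) (CMP.mem hD c)

theorem proj_coe (hD : Cfsg.Geo.IsMDecomposition m D) (c : Fin t) (x : Fin n → F) :
    ((proj hD c x : D c) : Fin n → F) = cmp D c x := rfl

/-- the swap map `x ↦ x - x_b - x_b' + φ x_b + φ⁻¹ x_b'` -/
noncomputable def swapL (hD : Cfsg.Geo.IsMDecomposition m D) (b b' : Fin t) (φ : D b ≃ₗ[F] D b') :
    (Fin n → F) →ₗ[F] (Fin n → F) :=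
  LinearMap.id - cmp D b - cmp D b' + (D b').subtype ∘ₗ φ.toLinearMap ∘ₗ proj hD b
    + (D b).subtype ∘ₗ φ.symm.toLinearMap ∘ₗ proj hD b'

theorem swapL_apply (hD : Cfsg.Geo.IsMDecomposition m D) (b b' : Fin t) (φ : D b ≃ₗ[F] D b')
    (x : Fin n → F) :
    swapL hD b b' φ x = x - cmp D b x - cmp D b' x + ((φ (proj hD b x) : D b') : Fin n → F)
      + ((φ.symm (proj hD b' x) : D b) : Fin n → F) := rfl

theorem cmp_swapL_left (hD : Cfsg.Geo.IsMDecomposition m D) {b b' : Fin t} (hbb' : b ≠ b')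
    (φ : D b ≃ₗ[F] D b') (x : Fin n → F) :
    cmp D b (swapL hD b b' φ x) = ((φ.symm (proj hD b' x) : D b) : Fin n → F) := by
  rw [swapL_apply]
  simp only [map_add, map_sub]
  rw [CMP.of_mem hD (CMP.mem hD b x), CMP.of_mem_ne hD (CMP.mem hD b' x) (Ne.symm hbb'),
    CMP.of_mem_ne hD (φ (proj hD b x)).2 (Ne.symm hbb'), CMP.of_mem hD (φ.symm (proj hD b' x)).2]
  simp

theorem cmp_swapL_right (hD : Cfsg.Geo.IsMDecomposition m D) {b b' : Fin t} (hbb' : b ≠ b')
    (φ : D b ≃ₗ[F] D b') (x : Fin n → F) :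
    cmp D b' (swapL hD b b' φ x) = ((φ (proj hD b x) : D b') : Fin n → F) := by
  rw [swapL_apply]
  simp only [map_add, map_sub]
  rw [CMP.of_mem hD (CMP.mem hD b' x), CMP.of_mem_ne hD (CMP.mem hD b x) hbb',
    CMP.of_mem_ne hD (φ.symm (proj hD b' x)).2 hbb', CMP.of_mem hD (φ (proj hD b x)).2]
  simp

theorem cmp_swapL_other (hD : Cfsg.Geo.IsMDecomposition m D) {b b' c : Fin t} (hcb : c ≠ b)
    (hcb' : c ≠ b') (φ : D b ≃ₗ[F] D b') (x : Fin n → F) :
    cmp D c (swapL hD b b' φ x) = cmp D c x := by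
  rw [swapL_apply]
  simp only [map_add, map_sub]
  rw [CMP.of_mem_ne hD (CMP.mem hD b x) (Ne.symm hcb),
    CMP.of_mem_ne hD (CMP.mem hD b' x) (Ne.symm hcb'),
    CMP.of_mem_ne hD (φ (proj hD b x)).2 (Ne.symm hcb'),
    CMP.of_mem_ne hD (φ.symm (proj hD b' x)).2 (Ne.symm hcb)]
  simp

theorem proj_swapL_left (hD : Cfsg.Geo.IsMDecomposition m D) {b b' : Fin t} (hbb' : b ≠ b')
    (φ : D b ≃ₗ[F] D b') (x : Fin n → F) :
    proj hD b (swapL hD b b' φ x) = φ.symm (proj hD b' x) :=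
  Subtype.ext (cmp_swapL_left hD hbb' φ x)

theorem proj_swapL_right (hD : Cfsg.Geo.IsMDecomposition m D) {b b' : Fin t} (hbb' : b ≠ b')
    (φ : D b ≃ₗ[F] D b') (x : Fin n → F) :
    proj hD b' (swapL hD b b' φ x) = φ (proj hD b x) :=
  Subtype.ext (cmp_swapL_right hD hbb' φ x)

/-- the swap map is an involution -/
theorem swapL_swapL (hD : Cfsg.Geo.IsMDecomposition m D) {b b' : Fin t} (hbb' : b ≠ b')
    (φ : D b ≃ₗ[F] D b') (x : Fin n → F) : swapL hD b b' φ (swapL hD b b' φ x) = x := by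
  apply ext_cmp hD
  intro c
  by_cases hcb : c = b
  · subst hcb
    rw [cmp_swapL_left hD hbb', proj_swapL_right hD hbb', LinearEquiv.symm_apply_apply, proj_coe]
  · by_cases hcb' : c = b'
    · subst hcb'
      rw [cmp_swapL_right hD hbb', proj_swapL_left hD hbb', LinearEquiv.apply_symm_apply, proj_coe]
    · rw [cmp_swapL_other hD hcb hcb', cmp_swapL_other hD hcb hcb']

/-- the swap map permutes the blocks -/
theorem swapL_mem (hD : Cfsg.Geo.IsMDecomposition m D) {b b' : Fin t} (hbb' : b ≠ b')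
    (φ : D b ≃ₗ[F] D b') (c : Fin t) {x : Fin n → F} (hx : x ∈ D c) :
    swapL hD b b' φ x ∈ D (Equiv.swap b b' c) := by
  by_cases hcb : c = b
  · subst hcb
    rw [Equiv.swap_apply_left, swapL_apply, CMP.of_mem hD hx, CMP.of_mem_ne hD hx hbb']
    have h0 : proj hD b' x = 0 := Subtype.ext (by
      rw [proj_coe, CMP.of_mem_ne hD hx hbb']; rfl)
    rw [h0, map_zero]
    simp only [sub_self, zero_add, ZeroMemClass.coe_zero, add_zero]
    exact (φ (proj hD c x)).2
  · by_cases hcb' : c = b'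
    · subst hcb'
      rw [Equiv.swap_apply_right, swapL_apply, CMP.of_mem hD hx,
        CMP.of_mem_ne hD hx (Ne.symm hbb')]
      have h0 : proj hD b x = 0 := Subtype.ext (by
        rw [proj_coe, CMP.of_mem_ne hD hx (Ne.symm hbb')]; rfl)
      rw [h0, map_zero]
      simp only [sub_zero, sub_self, ZeroMemClass.coe_zero, zero_add]
      exact (φ.symm (proj hD c x)).2
    · rw [Equiv.swap_apply_of_ne_of_ne hcb hcb', swapL_apply, CMP.of_mem_ne hD hx hcb,
        CMP.of_mem_ne hD hx hcb']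
      have h0 : proj hD b x = 0 := Subtype.ext (by
        rw [proj_coe, CMP.of_mem_ne hD hx hcb]; rfl)
      have h0' : proj hD b' x = 0 := Subtype.ext (by
        rw [proj_coe, CMP.of_mem_ne hD hx hcb']; rfl)
      rw [h0, h0', map_zero, map_zero]
      simpa using hx

/-- the matrix of the swap map -/
noncomputable def swapM (hD : Cfsg.Geo.IsMDecomposition m D) (b b' : Fin t) (φ : D b ≃ₗ[F] D b') :
    Matrix (Fin n) (Fin n) F := LinearMap.toMatrix' (swapL hD b b' φ)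

theorem swapM_mulVec (hD : Cfsg.Geo.IsMDecomposition m D) (b b' : Fin t) (φ : D b ≃ₗ[F] D b')
    (x : Fin n → F) : swapM hD b b' φ *ᵥ x = swapL hD b b' φ x := by
  rw [swapM, ← Matrix.toLin'_apply, Matrix.toLin'_toMatrix']

theorem swapM_mul_self (hD : Cfsg.Geo.IsMDecomposition m D) {b b' : Fin t} (hbb' : b ≠ b')
    (φ : D b ≃ₗ[F] D b') : swapM hD b b' φ * swapM hD b b' φ = 1 := by
  apply Matrix.toLin'.injective
  apply LinearMap.ext
  intro x
  rw [Matrix.toLin'_mul, LinearMap.comp_apply, Matrix.toLin'_apply, Matrix.toLin'_apply,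
    swapM_mulVec, swapM_mulVec, swapL_swapL hD hbb', Matrix.toLin'_one, LinearMap.id_apply]

/-- the block swap in `GL` -/
noncomputable def swapG (hD : Cfsg.Geo.IsMDecomposition m D) {b b' : Fin t} (hbb' : b ≠ b')
    (φ : D b ≃ₗ[F] D b') : GL (Fin n) F :=
  ⟨swapM hD b b' φ, swapM hD b b' φ, swapM_mul_self hD hbb' φ, swapM_mul_self hD hbb' φ⟩

theorem swapG_val (hD : Cfsg.Geo.IsMDecomposition m D) {b b' : Fin t} (hbb' : b ≠ b')
    (φ : D b ≃ₗ[F] D b') :
    ((swapG hD hbb' φ : GL (Fin n) F) : Matrix (Fin n) (Fin n) F) = swapM hD b b' φ := rfl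

end H23SWAP

/-- an element of `HH D` swapping the blocks `a`, `b` (linear iso `D a ≃ D b` from the finranks,
`s = 1 - cmp a - cmp b + e ∘ cmp a + e⁻¹ ∘ cmp b` is an involution; correct its determinant by a dilation
`EE v φ`, `v ∈ D a`, `φ ∈ Dl D a`, `1 + φ v = (det s)⁻¹`, using `HMEM.mem_stab_of_perm`, `HMEM.EE_maps`) -/
theorem H23SWAP.exists (hD : Cfsg.Geo.IsMDecomposition m D) (a b : Fin t) (hab : a ≠ b) :
    ∃ s ∈ HH D, ∀ c, ∀ x ∈ D c, ((s : GL (Fin n) F) : Matrix (Fin n) (Fin n) F) *ᵥ x ∈ D (Equiv.swap a b c) := by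
  have e : D a ≃ₗ[F] D b :=
    LinearEquiv.ofFinrankEq _ _ (by rw [hD.finrank_eq a, hD.finrank_eq b])
  set s₀ : GL (Fin n) F := H23SWAP.swapG hD hab e with hs₀
  set δ : F := ((s₀ : GL (Fin n) F) : Matrix (Fin n) (Fin n) F).det with hδ
  have hδ0 : δ ≠ 0 := by
    have h1 : δ * δ = 1 := by
      rw [hδ, ← Matrix.det_mul, hs₀, H23SWAP.swapG_val, H23SWAP.swapM_mul_self hD hab, Matrix.det_one]
    intro h0
    rw [h0, mul_zero] at h1
    exact zero_ne_one h1
  obtain ⟨v, hv, hv0⟩ := PROPER.exists_ne_zero hD a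
  obtain ⟨χ, hχ, hχv⟩ := PROPER.exists_one0 hD hv hv0
  set u : Fin n → F := (δ⁻¹ - 1) • v with hu
  have hu_mem : u ∈ D a := (D a).smul_mem _ hv
  have hχu : 1 + χ ⬝ᵥ u = δ⁻¹ := by
    rw [hu, dotProduct_smul, hχv, smul_eq_mul, mul_one]; ring
  have hne : 1 + χ ⬝ᵥ u ≠ 0 := by rw [hχu]; exact inv_ne_zero hδ0
  have hmaps : ∀ c, ∀ x ∈ D c,
      ((s₀ * EE u χ : GL (Fin n) F) : Matrix (Fin n) (Fin n) F) *ᵥ x ∈ D (Equiv.swap a b c) := by
    intro c x hx
    rw [Units.val_mul, ← Matrix.mulVec_mulVec, hs₀, H23SWAP.swapG_val, H23SWAP.swapM_mulVec]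
    exact H23SWAP.swapL_mem hD hab e c (HMEM.EE_maps hD hu_mem hχ c x hx)
  refine ⟨s₀ * EE u χ, ⟨HMEM.mem_stab_of_perm hD (Equiv.swap a b) _ hmaps, ?_⟩, hmaps⟩
  show s₀ * EE u χ ∈ SL n F
  rw [mem_SL_iff, Units.val_mul, Matrix.det_mul, EE_val hne, E_det, hχu, ← hδ]
  exact mul_inv_cancel₀ hδ0

end Cfsg.Agent.S5634P
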