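import Mathlib
import Cfsg.Agent.Helper9.S5650.Defs
import Cfsg.Agent.Helper9.S5650.Lib

/-! S5650: small auxiliary lemmas shared by the pieces KLONG, TOPKT, KSRING (helper23). -/

set_option autoImplicit false

namespace Cfsg.Agent.S5650P

open Matrix Cfsg.Agent.Helper28

variable {F : Type*} [Field F] {m : ℕ}

namespace H23AUX

/-- two distinct standard basis vectors are linearly independent -/
theorem li_single {p q : Fin m ⊕ Fin m} (h : p ≠ q) :
    LinearIndependent F ![(Pi.single p 1 : Vec m F), Pi.single q 1] := by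
  rw [LinearIndependent.pair_iff]
  intro s t hst
  have h1 := congrFun hst p
  have h2 := congrFun hst q
  simp only [Pi.add_apply, Pi.smul_apply, Pi.single_eq_same, Pi.single_eq_of_ne h,
    Pi.single_eq_of_ne h.symm, smul_eq_mul, mul_one, mul_zero, add_zero, zero_add,
    Pi.zero_apply] at h1 h2
  exact ⟨h1, h2⟩

theorem li_e_e {i j : Fin m} (h : i ≠ j) : LinearIndependent F ![(e i : Vec m F), e j] :=
  li_single (fun h' => h (Sum.inl_injective h'))

theorem li_e_f (i j : Fin m) : LinearIndependent F ![(e i : Vec m F), f j] :=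
  li_single Sum.inl_ne_inr

theorem li_f_e (i j : Fin m) : LinearIndependent F ![(f i : Vec m F), e j] :=
  li_single Sum.inr_ne_inl

theorem e_ne_zero (i : Fin m) : (e i : Vec m F) ≠ 0 := by
  intro h
  have := congrFun h (Sum.inl i)
  simp [e] at this

theorem om_e_f_of_ne {i j : Fin m} (h : i ≠ j) : om (e i : Vec m F) (f j) = 0 := by
  rw [om_e_f, if_neg h]

theorem om_f_e_of_ne {i j : Fin m} (h : i ≠ j) : om (f i : Vec m F) (e j) = 0 := by
  rw [om_f_e, if_neg h]

theorem om_e_f_self (i : Fin m) : om (e i : Vec m F) (f i) = -1 := by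
  rw [om_e_f, if_pos rfl]

theorem om_f_e_self (i : Fin m) : om (f i : Vec m F) (e i) = 1 := by
  rw [om_f_e, if_pos rfl]

/-! ### closure properties of `KS`, `KT` -/

theorem KT_add {F₀ : Subfield F} {M : Subgroup (GLm m F)} {c d : F} (hc : c ∈ KT F₀ M)
    (hd : d ∈ KT F₀ M) : c + d ∈ KT F₀ M := by
  intro u hu
  rw [T_add_param]
  exact MS_mul (hc u hu) (hd u hu)

theorem KT_neg {F₀ : Subfield F} {M : Subgroup (GLm m F)} {c : F} (hc : c ∈ KT F₀ M) :
    -c ∈ KT F₀ M := by
  intro u hu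
  exact MS_inv_of_mul_eq_one (hc u hu) (T_mul_neg u c)

theorem KT_of_mem {F₀ : Subfield F} {M : Subgroup (GLm m F)} (hM : HasRatSp F₀ M) {c : F}
    (hc : c ∈ F₀) : c ∈ KT F₀ M := by
  intro u hu
  exact T_mem_of_hasRatSp hM hu hc

theorem KS_add {F₀ : Subfield F} {M : Subgroup (GLm m F)} {c d : F} (hc : c ∈ KS F₀ M)
    (hd : d ∈ KS F₀ M) : c + d ∈ KS F₀ M := by
  intro u w hu hw hi ho
  rw [S_add_param ho]
  exact MS_mul (hc u w hu hw hi ho) (hd u w hu hw hi ho)

theorem KS_neg {F₀ : Subfield F} {M : Subgroup (GLm m F)} {c : F} (hc : c ∈ KS F₀ M) :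
    -c ∈ KS F₀ M := by
  intro u w hu hw hi ho
  exact MS_inv_of_mul_eq_one (hc u w hu hw hi ho) (S_mul_neg ho c)

theorem KS_of_mem {F₀ : Subfield F} {M : Subgroup (GLm m F)} (hM : HasRatSp F₀ M) {c : F}
    (hc : c ∈ F₀) : c ∈ KS F₀ M := by
  intro u w hu hw hi ho
  exact S_mem_of_hasRatSp hM hu hw ho hc

end H23AUX

end Cfsg.Agent.S5650P
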