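import Mathlib
import Cfsg.Agent.Helper9.S5650.Defs
import Cfsg.Agent.Helper9.S5650.Lib
import Cfsg.Agent.Helper23.S5650AUX
import Cfsg.Agent.Helper26.S5650KONE

/-! S5650 piece KLONG (driver helper9; helper23): `KT ⊆ KS`, and `a² c ∈ KT` for `a, a c ∈ KS`, `c ∈ KT`. -/

set_option autoImplicit false

namespace Cfsg.Agent.S5650P

open Matrix Cfsg.Agent.Helper28

variable {F : Type*} [Field F] {m : ℕ}

theorem KLONG.KT_subset_KS (F₀ : Subfield F) (M : Subgroup (GLm m F)) : KT F₀ M ⊆ KS F₀ M := by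
  intro c hc u w hu hw hi ho
  have h1 : T (u + w) c ∈ MS M := hc _ (hu.add hw)
  rw [T_add_vec ho] at h1
  exact MS_of_mul_right (hc u hu) (MS_of_mul_right (hc w hw) h1)

theorem KLONG.sq_mul_mem (hm : 2 ≤ m) (F₀ : Subfield F) (M : Subgroup (GLm m F))
    (hMsp : M ≤ Cfsg.spGL m F) (hM : HasRatSp F₀ M) {a c : F} (ha : a ∈ KS F₀ M)
    (hac : a * c ∈ KS F₀ M) (hc : c ∈ KT F₀ M) : a * a * c ∈ KT F₀ M := by
  let i0 : Fin m := ⟨0, by omega⟩
  let i1 : Fin m := ⟨1, by omega⟩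
  have h01 : i0 ≠ i1 := by
    intro h
    have := congrArg Fin.val h
    simp [i0, i1] at this
  have hg : S (e i0 : Vec m F) (f i1) a ∈ MS M :=
    ha _ _ (Rat.basis_e F₀ i0) (Rat.basis_f F₀ i1) (H23AUX.li_e_f i0 i1) (H23AUX.om_e_f_of_ne h01)
  obtain ⟨g, hgM, hgv⟩ := hg
  have h1 : T ((g : Mat m F) *ᵥ (e i1 : Vec m F)) c ∈ MS M :=
    MS_conj_T hMsp hgM (hc _ (Rat.basis_e F₀ i1))
  have h2 : (g : Mat m F) *ᵥ (e i1 : Vec m F) = e i1 + (-a) • e i0 := by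
    rw [hgv, S_mulVec, om_e_e, mul_zero, zero_smul, add_zero, H23AUX.om_e_f_self, mul_neg, mul_one]
  have h3 : om (e i1 : Vec m F) ((-a) • e i0) = 0 := by
    simp only [om, sympForm_smul_right]
    have : Cfsg.sympForm m F (e i1) (e i0) = 0 := om_e_e i1 i0
    rw [this, mul_zero]
  rw [h2, T_add_vec h3, S_smul_right, T_smul] at h1
  have h4 : S (e i1 : Vec m F) (e i0) (a * c) ∈ MS M :=
    hac _ _ (Rat.basis_e F₀ i1) (Rat.basis_e F₀ i0) (H23AUX.li_e_e h01.symm) (om_e_e i1 i0)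
  have h5 : S (e i1 : Vec m F) (e i0) (-a * c) ∈ MS M := by
    rw [neg_mul]
    exact MS_inv_of_mul_eq_one h4 (S_mul_neg (om_e_e i1 i0) (a * c))
  have h6 : T (e i1 : Vec m F) c ∈ MS M := hc _ (Rat.basis_e F₀ i1)
  have h7 : T (e i0 : Vec m F) (-a * -a * c) ∈ MS M := by
    rw [mul_assoc] at h1
    exact MS_of_mul_left h6 (MS_of_mul_left h5 h1)
  rw [neg_mul_neg] at h7
  exact KONE.KT_of_one F₀ M hMsp hM (Rat.basis_e F₀ i0) (H23AUX.e_ne_zero i0) h7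

end Cfsg.Agent.S5650P
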