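import Mathlib
import Cfsg.Agent.Helper9.S5650.Defs
import Cfsg.Agent.Helper9.S5650.Lib
import Cfsg.Agent.Helper23.S5650AUX
import Cfsg.Agent.Helper26.S5650KONE

/-! S5650 piece KSRING (driver helper9; helper23): `KS` is a subfield containing `F₀`. -/

set_option autoImplicit false

namespace Cfsg.Agent.S5650P

open Matrix Cfsg.Agent.Helper28

variable {F : Type*} [Field F] {m : ℕ}

namespace KSRING

/-- in a finite field the inverse is a power -/
theorem inv_eq_pow [Finite F] (c : F) (hc : c ≠ 0) : ∃ k : ℕ, c⁻¹ = c ^ k := by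
  have : Fintype F := Fintype.ofFinite F
  refine ⟨Fintype.card F - 2, ?_⟩
  have h1 := FiniteField.pow_card_sub_one_eq_one c hc
  have h2 : 2 ≤ Fintype.card F := Fintype.one_lt_card
  have h3 : Fintype.card F - 1 = (Fintype.card F - 2) + 1 := by omega
  rw [h3, pow_succ] at h1
  exact (eq_inv_of_mul_eq_one_left h1).symm

/-- `KS` is closed under multiplication -/
theorem KS_mul (hm : 3 ≤ m) (F₀ : Subfield F) (M : Subgroup (GLm m F))
    (hMsp : M ≤ Cfsg.spGL m F) (hM : HasRatSp F₀ M) {a b : F} (ha : a ∈ KS F₀ M)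
    (hb : b ∈ KS F₀ M) : a * b ∈ KS F₀ M := by
  let i : Fin m := ⟨0, by omega⟩
  let j : Fin m := ⟨1, by omega⟩
  let k : Fin m := ⟨2, by omega⟩
  have hij : i ≠ j := by
    intro h
    have := congrArg Fin.val h
    simp [i, j] at this
  have hjk : j ≠ k := by
    intro h
    have := congrArg Fin.val h
    simp [j, k] at this
  have hik : i ≠ k := by
    intro h
    have := congrArg Fin.val h
    simp [i, k] at this
  have hg : S (f j : Vec m F) (e k) b ∈ MS M :=
    hb _ _ (Rat.basis_f F₀ j) (Rat.basis_e F₀ k) (H23AUX.li_f_e j k) (H23AUX.om_f_e_of_ne hjk)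
  obtain ⟨g, hgM, hgv⟩ := hg
  have hSa : S (e i : Vec m F) (e j) a ∈ MS M :=
    ha _ _ (Rat.basis_e F₀ i) (Rat.basis_e F₀ j) (H23AUX.li_e_e hij) (om_e_e i j)
  have h1 : S ((g : Mat m F) *ᵥ (e i : Vec m F)) ((g : Mat m F) *ᵥ (e j : Vec m F)) a ∈ MS M :=
    MS_conj_S hMsp hgM hSa
  have h2 : (g : Mat m F) *ᵥ (e i : Vec m F) = e i := by
    rw [hgv, S_mulVec, om_e_e, mul_zero, zero_smul, add_zero, H23AUX.om_e_f_of_ne hij, mul_zero,
      zero_smul, add_zero]
  have h3 : (g : Mat m F) *ᵥ (e j : Vec m F) = e j + (-b) • e k := by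
    rw [hgv, S_mulVec, om_e_e, mul_zero, zero_smul, add_zero, H23AUX.om_e_f_self, mul_neg, mul_one]
  rw [h2, h3, S_comm] at h1
  have o1 : om (e j : Vec m F) (e i) = 0 := om_e_e j i
  have o2 : om ((-b) • (e k : Vec m F)) (e i) = 0 := by
    simp only [om, sympForm_smul_left]
    have : Cfsg.sympForm m F (e k) (e i) = 0 := om_e_e k i
    rw [this, mul_zero]
  have o3 : om ((-b) • (e k : Vec m F)) (e j) = 0 := by
    simp only [om, sympForm_smul_left]
    have : Cfsg.sympForm m F (e k) (e j) = 0 := om_e_e k j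
    rw [this, mul_zero]
  have h4 := S_mul_S_right o1 o2 a
  rw [o3, mul_zero, T_zero, mul_one, S_smul_left] at h4
  rw [← h4] at h1
  have h5 : S (e j : Vec m F) (e i) a ∈ MS M := by
    rw [S_comm]
    exact hSa
  have h6 : S (e k : Vec m F) (e i) (-b * a) ∈ MS M := MS_of_mul_left h5 h1
  have h7 : -b * a ∈ KS F₀ M :=
    KONE.KS_of_one F₀ M hMsp hM (Rat.basis_e F₀ k) (Rat.basis_e F₀ i) (H23AUX.li_e_e hik.symm)
      (om_e_e k i) h6
  have h8 := H23AUX.KS_neg h7
  rwa [neg_mul, neg_neg, mul_comm] at h8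

end KSRING

theorem KSRING.exists_subfield [Finite F] (hm : 3 ≤ m) (F₀ : Subfield F) (M : Subgroup (GLm m F))
    (hMsp : M ≤ Cfsg.spGL m F) (hM : HasRatSp F₀ M) :
    ∃ K : Subfield F, F₀ ≤ K ∧ (K : Set F) = KS F₀ M := by
  have hone : (1 : F) ∈ KS F₀ M := H23AUX.KS_of_mem hM F₀.one_mem
  have hzero : (0 : F) ∈ KS F₀ M := H23AUX.KS_of_mem hM F₀.zero_mem
  have hmul : ∀ a b : F, a ∈ KS F₀ M → b ∈ KS F₀ M → a * b ∈ KS F₀ M :=
    fun a b ha hb => KSRING.KS_mul hm F₀ M hMsp hM ha hb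
  have hpow : ∀ (c : F) (k : ℕ), c ∈ KS F₀ M → c ^ k ∈ KS F₀ M := by
    intro c k hc
    induction k with
    | zero => rw [pow_zero]; exact hone
    | succ k ih => rw [pow_succ]; exact hmul _ _ ih hc
  let K : Subfield F :=
    { carrier := KS F₀ M
      mul_mem' := fun {a b} ha hb => hmul a b ha hb
      one_mem' := hone
      add_mem' := fun {a b} ha hb => H23AUX.KS_add ha hb
      zero_mem' := hzero
      neg_mem' := fun {a} ha => H23AUX.KS_neg ha
      inv_mem' := by
        intro a ha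
        by_cases h0 : a = 0
        · rw [h0, _root_.inv_zero]; exact hzero
        · obtain ⟨k, hk⟩ := KSRING.inv_eq_pow a h0
          rw [hk]
          exact hpow a k ha }
  refine ⟨K, ?_, rfl⟩
  intro c hc
  exact H23AUX.KS_of_mem hM hc

end Cfsg.Agent.S5650P
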