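import Mathlib
import Cfsg.Agent.Helper9.S5650.Defs
import Cfsg.Agent.Helper9.S5650.Lib
import Cfsg.Agent.Helper23.S5650AUX
import Cfsg.Agent.Helper23.S5650KLONG

/-! S5650 piece TOPKT (driver helper9; helper23): `KS = univ → KT = univ`. -/

set_option autoImplicit false

namespace Cfsg.Agent.S5650P

open Matrix Cfsg.Agent.Helper28

variable {F : Type*} [Field F] {m : ℕ}

theorem TOPKT.KT_eq_univ [Fintype F] (hm : 2 ≤ m) (F₀ : Subfield F) (M : Subgroup (GLm m F))
    (hMsp : M ≤ Cfsg.spGL m F) (hM : HasRatSp F₀ M) (h : KS F₀ M = Set.univ) :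
    KT F₀ M = Set.univ := by
  have hone : (1 : F) ∈ KT F₀ M := H23AUX.KT_of_mem hM F₀.one_mem
  have hsq : ∀ a : F, a * a ∈ KT F₀ M := by
    intro a
    have := KLONG.sq_mul_mem hm F₀ M hMsp hM (a := a) (c := 1) (by rw [h]; trivial)
      (by rw [h]; trivial) hone
    rwa [mul_one] at this
  apply Set.eq_univ_of_forall
  intro x
  by_cases h2 : (2 : F) = 0
  · have hch : ringChar F = 2 :=
      CharP.ringChar_of_prime_eq_zero Nat.prime_two (by exact_mod_cast h2)
    obtain ⟨y, rfl⟩ := FiniteField.isSquare_of_char_two hch x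
    exact hsq y
  · have hx : x = ((x + 1) / 2) * ((x + 1) / 2) + -(((x - 1) / 2) * ((x - 1) / 2)) := by
      field_simp
      ring
    rw [hx]
    exact H23AUX.KT_add (hsq _) (H23AUX.KT_neg (hsq _))

end Cfsg.Agent.S5650P
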