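import Mathlib
import Cfsg.Prelude.Def_GeometricClasses
import Cfsg.Agent.Helper29.S5655.Defs

/-! # S5655, half `k ≥ 2`, piece FULL: all isotropic vectors in `SS` forces `SU ≤ M`. -/

set_option autoImplicit false

namespace Cfsg.Agent.S5655P

open Matrix Module
open Cfsg.Agent.S2644 Cfsg.Agent.Helper2.SUGen Cfsg.Agent.Helper28.SimMax Cfsg.Agent.S5658P

variable {K : Type*} [Field K] {q n t k : ℕ}

local notation "h" => Cfsg.hermForm n K q
local notation "T" => Cfsg.unitaryTransvection n q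

/-- piece FULL (M): `Helper2.SUGen.SU_le_TT` + `MS_mul` (closure induction on `TT D ⊤`) + `mem_G_iff`. -/
theorem FULL.top [Fintype K] (D : Frob K q) (hK : Fintype.card K = q ^ 2) (hn : 4 ≤ n)
    {M : Subgroup (Matrix.GeneralLinearGroup (Fin n) K)}
    (hall : ∀ v : Fin n → K, h v v = 0 → v ∈ SS D M) :
    Cfsg.GU n K q ⊓ Cfsg.Geo.specialLinear (Fin n) K ≤ M := by
  intro g hg
  obtain ⟨hP, hdet⟩ := (mem_G_iff g).mp hg
  have h1 : (g : Matrix (Fin n) (Fin n) K) ∈ TT D (⊤ : Submodule K (Fin n → K)) :=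
    SU_le_TT D hK (by omega) (by omega) hP hdet
  have h2 : ∀ A ∈ TT D (⊤ : Submodule K (Fin n → K)), A ∈ MS M := by
    intro A hA
    unfold TT at hA
    induction hA using Submonoid.closure_induction with
    | mem A hA =>
      obtain ⟨x, c, _, hxx, hc, rfl⟩ := hA
      exact (hall x hxx).2 c hc
    | one => exact ⟨1, M.one_mem, rfl⟩
    | mul A A' _ _ ihA ihA' => exact MS_mul ihA ihA'
  obtain ⟨g', hg', hgg⟩ := h2 _ h1
  have : g' = g := Units.ext hgg
  rw [← this]
  exact hg'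

end Cfsg.Agent.S5655P
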