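import Mathlib
import Cfsg.Prelude.Def_GeometricClasses
import Cfsg.Agent.Helper29.S5655.Defs
import Cfsg.Agent.Helper16.S5655BTRA3
import Cfsg.Agent.Helper16.S5655BTRA2

/-! # S5655, half `k ≥ 2`, piece TRA: `H` moves nonzero isotropic vectors of a block, fixing another block. -/

set_option autoImplicit false

namespace Cfsg.Agent.S5655P

open Matrix Module
open Cfsg.Agent.S2644 Cfsg.Agent.Helper2.SUGen Cfsg.Agent.Helper28.SimMax Cfsg.Agent.S5658P

variable {K : Type*} [Field K] {q n t k : ℕ}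

local notation "h" => Cfsg.hermForm n K q
local notation "T" => Cfsg.unitaryTransvection n q

namespace TRA

/-- a third index -/
theorem exists_third (ht : 3 ≤ t) (a b : Fin t) : ∃ l : Fin t, l ≠ a ∧ l ≠ b := by
  by_contra hcon
  push Not at hcon
  have hsub : (Finset.univ : Finset (Fin t)) ⊆ {a, b} := by
    intro l _
    by_cases hl : l = a
    · simp [hl]
    · simp [hcon l hl]
  have h1 := Finset.card_le_card hsub
  rw [Finset.card_univ, Fintype.card_fin] at h1
  have h2 : ({a, b} : Finset (Fin t)).card ≤ 2 := Finset.card_le_two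
  omega

end TRA

/-- piece TRA (S): nonzero isotropic vectors of `B a` are moved by `H` fixing `B b` pointwise:
TRA3 if `3 ≤ k`, otherwise `hB.three` gives `3 ≤ t`, a third block `l`, TRA2. -/
theorem TRA.iso [Fintype K] (D : Frob K q) (hK : Fintype.card K = q ^ 2)
    {B : Fin t → Submodule K (Fin n → K)} (hB : UD q k B) {a b : Fin t} (hab : a ≠ b)
    {c c' : Fin n → K} (hc : c ∈ B a) (hc' : c' ∈ B a) (hcc : h c c = 0) (hcc' : h c' c' = 0)
    (hc0 : c ≠ 0) (hc0' : c' ≠ 0) :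
    ∃ A ∈ HH q B, A *ᵥ c = c' ∧ ∀ y ∈ B b, A *ᵥ y = y := by
  rcases hB.three with hk | ht
  · obtain ⟨A, hA, hAc, hfix⟩ := TRA3.iso D hK hB hk hc hc' hcc hcc' hc0 hc0'
    exact ⟨A, hA, hAc, fun y hy => hfix b (Ne.symm hab) y hy⟩
  · obtain ⟨l, hla, hlb⟩ := TRA.exists_third ht a b
    obtain ⟨A, hA, hAc, hfix⟩ := TRA2.iso D hK hB (Ne.symm hla) hc hc' hcc hcc' hc0 hc0'
    exact ⟨A, hA, hAc, fun y hy => hfix b (Ne.symm hab) (Ne.symm hlb) y hy⟩

end Cfsg.Agent.S5655P
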