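import Mathlib
import Cfsg.Prelude.Def_GeometricClasses
import Cfsg.Agent.Helper29.S5655.Defs
import Cfsg.Agent.Helper23.S5655BSSB
import Cfsg.Agent.Helper23.S5655BTRA

/-! # S5655, half `k ≥ 2`, piece PA: one isotropic+isotropic pair in `SS` gives `AllA`. -/

set_option autoImplicit false

namespace Cfsg.Agent.S5655P

open Matrix Module
open Cfsg.Agent.S2644 Cfsg.Agent.Helper2.SUGen Cfsg.Agent.Helper28.SimMax Cfsg.Agent.S5658P

variable {K : Type*} [Field K] {q n t k : ℕ}

local notation "h" => Cfsg.hermForm n K q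
local notation "T" => Cfsg.unitaryTransvection n q

/-- piece PA (M): zero components by SSB.pure; otherwise TRA.iso on `x` (fixing `B b`), then on `y`
(fixing `B a`), SSB.map. -/
theorem PA.allA_of_one [Fintype K] (D : Frob K q) (hK : Fintype.card K = q ^ 2)
    {B : Fin t → Submodule K (Fin n → K)} (hB : UD q k B)
    {M : Subgroup (Matrix.GeneralLinearGroup (Fin n) K)} (hM : Over q B M) {a b : Fin t}
    (hab : a ≠ b) {x y : Fin n → K} (hx : x ∈ B a) (hy : y ∈ B b) (hx0 : x ≠ 0) (hy0 : y ≠ 0)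
    (hxx : h x x = 0) (hyy : h y y = 0) (hxy : x + y ∈ SS D M) : AllA D B M a b := by
  intro x' hx' y' hy' hxx' hyy'
  by_cases hx0' : x' = 0
  · rw [hx0', zero_add]
    exact SSB.pure D hB hM hy' hyy'
  by_cases hy0' : y' = 0
  · rw [hy0', add_zero]
    exact SSB.pure D hB hM hx' hxx'
  obtain ⟨A, hA, hAx, hAfix⟩ := TRA.iso D hK hB hab hx hx' hxx hxx' hx0 hx0'
  have h1 : x' + y ∈ SS D M := by
    have := SSB.map D hM hxy (hM.ge hA)
    rwa [Matrix.mulVec_add, hAx, hAfix y hy] at this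
  obtain ⟨A', hA', hAy, hAfix'⟩ := TRA.iso D hK hB (Ne.symm hab) hy hy' hyy hyy' hy0 hy0'
  have := SSB.map D hM h1 (hM.ge hA')
  rwa [Matrix.mulVec_add, hAy, hAfix' x' hx'] at this

end Cfsg.Agent.S5655P
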