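import Mathlib
import Cfsg.Prelude.Def_GeometricClasses
import Cfsg.Agent.Helper29.S5655.Defs
import Cfsg.Agent.Helper23.S5655BSSB
import Cfsg.Agent.Helper29.S5655BTRB

/-! # S5655, half `k ≥ 2`, piece PB: one anisotropic pair in `SS` gives `AllB`. -/

set_option autoImplicit false

namespace Cfsg.Agent.S5655P

open Matrix Module
open Cfsg.Agent.S2644 Cfsg.Agent.Helper2.SUGen Cfsg.Agent.Helper28.SimMax Cfsg.Agent.S5658P

variable {K : Type*} [Field K] {q n t k : ℕ}

local notation "h" => Cfsg.hermForm n K q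
local notation "T" => Cfsg.unitaryTransvection n q

/-- piece PB (M): `λ` with `λ σ λ = h x' x' / h x x` (`exists_norm`), SSB.smul, then TRB.aniso twice. -/
theorem PB.allB_of_one [Fintype K] (D : Frob K q) (hK : Fintype.card K = q ^ 2)
    {B : Fin t → Submodule K (Fin n → K)} (hB : UD q k B)
    {M : Subgroup (Matrix.GeneralLinearGroup (Fin n) K)} (hM : Over q B M) {a b : Fin t}
    (hab : a ≠ b) {x y : Fin n → K} (hx : x ∈ B a) (hy : y ∈ B b) (hN : h x x + h y y = 0)
    (hne : h x x ≠ 0) (hxy : x + y ∈ SS D M) : AllB D B M a b := by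
  intro x' hx' y' hy' hN' hne'
  -- the scalar
  have hfix : D.σ (h x' x' / h x x) = h x' x' / h x x := by
    rw [map_div₀, h_self_fix D, h_self_fix D]
  obtain ⟨l, hl⟩ := exists_norm D (h x' x' / h x x) (div_ne_zero hne' hne) hfix
  have h0 : l • x + l • y ∈ SS D M := by
    rw [← smul_add]
    exact SSB.smul D hxy l
  have hlx : h (l • x) (l • x) = h x' x' := by
    rw [h_smul_left, h_smul_right D, ← mul_assoc, hl]
    field_simp
  have hly : h (l • y) (l • y) = h y' y' := by
    rw [h_smul_left, h_smul_right D, ← mul_assoc, hl]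
    have e1 : h y y = - h x x := by linear_combination hN
    have e2 : h y' y' = - h x' x' := by linear_combination hN'
    rw [e1, e2]
    field_simp
  have hlx0 : h (l • x) (l • x) ≠ 0 := by rw [hlx]; exact hne'
  have hne'' : h y' y' ≠ 0 := by
    intro h0'
    apply hne'
    linear_combination hN' - h0'
  have hly0 : h (l • y) (l • y) ≠ 0 := by rw [hly]; exact hne''
  obtain ⟨A, hA, hAx, hAfix⟩ := TRB.aniso D hK hB ((B a).smul_mem l hx) hx' hlx hlx0
  have h1 : x' + l • y ∈ SS D M := by
    have := SSB.map D hM h0 (hM.ge hA)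
    rwa [Matrix.mulVec_add, hAx, hAfix b (Ne.symm hab) _ ((B b).smul_mem l hy)] at this
  obtain ⟨A', hA', hAy, hAfix'⟩ := TRB.aniso D hK hB ((B b).smul_mem l hy) hy' hly hly0
  have := SSB.map D hM h1 (hM.ge hA')
  rwa [Matrix.mulVec_add, hAy, hAfix' a hab x' hx'] at this

end Cfsg.Agent.S5655P
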