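import Mathlib
import Cfsg.Agent.Helper28.S5658.Defs
import Cfsg.Agent.Helper28.S5658.Lib
import Cfsg.Agent.Helper23.S5658AUX
import Cfsg.Agent.Helper23.S5658KONE
import Cfsg.Agent.Helper22.S5658HYPB
import Cfsg.Agent.Helper24.S5658HYPB2

/-! S5658 piece KSRING (driver helper28; helper23): `KS` is a subfield containing `F₀`. -/

set_option autoImplicit false

namespace Cfsg.Agent.S5658P

open Matrix
open Cfsg.Agent.S2644 Cfsg.Agent.Helper2.SUGen Cfsg.Agent.Helper28.SimMax Cfsg.Agent.S5639P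

variable {K : Type*} [Field K] {q n : ℕ}

local notation "h" => Cfsg.hermForm n K q
local notation "T" => Cfsg.unitaryTransvection n q

namespace KSRING

/-- in a finite field the inverse is a power -/
theorem inv_eq_pow [Finite K] (c : K) (hc : c ≠ 0) : ∃ k : ℕ, c⁻¹ = c ^ k := by
  have : Fintype K := Fintype.ofFinite K
  refine ⟨Fintype.card K - 2, ?_⟩
  have h1 := FiniteField.pow_card_sub_one_eq_one c hc
  have h2 : 2 ≤ Fintype.card K := Fintype.one_lt_card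
  have h3 : Fintype.card K - 1 = (Fintype.card K - 2) + 1 := by omega
  rw [h3, pow_succ] at h1
  exact (eq_inv_of_mul_eq_one_left h1).symm

/-- `a, b ∈ KS → -σ b * a ∈ KS` -/
theorem KS_mul_aux [Finite K] (hn : 13 ≤ n) (D : Frob K q) (F₀ : Subfield K)
    (hθ : ∃ θ ∈ F₀, D.σ θ ≠ θ) (M : Subgroup (Matrix.GeneralLinearGroup (Fin n) K))
    (hMG : M ≤ Cfsg.GU n K q ⊓ Cfsg.Geo.specialLinear (Fin n) K) (hRat : HasRatSU q F₀ M)
    {a b : K} (ha : a ∈ KS q F₀ M) (hb : b ∈ KS q F₀ M) : -(D.σ b) * a ∈ KS q F₀ M := by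
  obtain ⟨u, w, hu, hw, huu, hww, hwu, hi⟩ := HYPB2.exists_pair (q := q) (n := n) hn D F₀ hθ
  obtain ⟨e, f, H, -, -⟩ := HYPB.exists_frame_of_pair hn D F₀ hθ hu hw huu hww hwu hi
  have h01 : (0 : Fin 3) ≠ 1 := by decide
  have h02 : (0 : Fin 3) ≠ 2 := by decide
  have h12 : (1 : Fin 3) ≠ 2 := by decide
  -- g = S (e 2) (f 1) b
  have hg : S q (e 2) (f 1) b ∈ MS M :=
    hb _ _ (H.rat_e 2) (H.rat_f 1) (H.ee 2 2) (H.ff 1 1)
      (by rw [H.fe D, if_neg h12]) (H.li_ef D 2 1)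
  have hSa : S q (e 0) (e 1) a ∈ MS M :=
    ha _ _ (H.rat_e 0) (H.rat_e 1) (H.ee 0 0) (H.ee 1 1) (H.ee 1 0) (H.li_ee h01)
  have h1 := MS_conj_S D hMG hg hSa
  have h2 : S q (e 2) (f 1) b *ᵥ e 0 = e 0 := by
    rw [S_mulVec D, H.ee, H.ef, if_neg h01, mul_zero, mul_zero, zero_smul, zero_smul, add_zero,
      sub_zero]
  have h3 : S q (e 2) (f 1) b *ᵥ e 1 = e 1 + (-(D.σ b)) • e 2 := by
    rw [S_mulVec D, H.ee, H.ef, if_pos rfl, mul_zero, mul_one, zero_smul, add_zero, neg_smul,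
      sub_eq_add_neg]
  rw [h2, h3] at h1
  have h4 : S q (e 0) (e 1 + (-(D.σ b)) • e 2) a
      = S q (e 0) (e 1) a * S q (e 0) (e 2) (-(D.σ b) * a) := by
    rw [S_add_right D (H.ee 0 0) (H.ee 1 0) (by rw [h_smul_left, H.ee, mul_zero])
      (by rw [h_smul_left, H.ee, mul_zero]) a, S_smul_right D]
  rw [h4] at h1
  have h5 : S q (e 0) (e 2) (-(D.σ b) * a) ∈ MS M := MS_of_mul_left hSa h1
  exact KONE.KS_of_one hn D F₀ hθ M hMG hRat (H.rat_e 0) (H.rat_e 2) (H.ee 0 0) (H.ee 2 2)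
    (H.ee 2 0) (H.li_ee h02) h5

/-- `KS` is closed under multiplication -/
theorem KS_mul [Finite K] (hn : 13 ≤ n) (D : Frob K q) (F₀ : Subfield K)
    (hθ : ∃ θ ∈ F₀, D.σ θ ≠ θ) (M : Subgroup (Matrix.GeneralLinearGroup (Fin n) K))
    (hMG : M ≤ Cfsg.GU n K q ⊓ Cfsg.Geo.specialLinear (Fin n) K) (hRat : HasRatSU q F₀ M)
    {a b : K} (ha : a ∈ KS q F₀ M) (hb : b ∈ KS q F₀ M) : a * b ∈ KS q F₀ M := by
  have h1 := KS_mul_aux hn D F₀ hθ M hMG hRat hb (H23AUX.KS_swap D ha)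
  rwa [map_neg, D.invol, neg_neg] at h1

end KSRING

theorem KSRING.exists_subfield [Finite K] (hn : 13 ≤ n) (D : Frob K q) (F₀ : Subfield K)
    (hθ : ∃ θ ∈ F₀, D.σ θ ≠ θ) (M : Subgroup (Matrix.GeneralLinearGroup (Fin n) K))
    (hMG : M ≤ Cfsg.GU n K q ⊓ Cfsg.Geo.specialLinear (Fin n) K) (hRat : HasRatSU q F₀ M) :
    ∃ L : Subfield K, F₀ ≤ L ∧ (L : Set K) = KS q F₀ M := by
  have hone : (1 : K) ∈ KS q F₀ M := H23AUX.KS_of_mem D hRat F₀.one_mem
  have hzero : (0 : K) ∈ KS q F₀ M := H23AUX.KS_of_mem D hRat F₀.zero_mem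
  have hmul : ∀ a b : K, a ∈ KS q F₀ M → b ∈ KS q F₀ M → a * b ∈ KS q F₀ M :=
    fun a b ha hb => KSRING.KS_mul hn D F₀ hθ M hMG hRat ha hb
  have hpow : ∀ (c : K) (k : ℕ), c ∈ KS q F₀ M → c ^ k ∈ KS q F₀ M := by
    intro c k hc
    induction k with
    | zero => rw [pow_zero]; exact hone
    | succ k ih => rw [pow_succ]; exact hmul _ _ ih hc
  let L : Subfield K :=
    { carrier := KS q F₀ M
      mul_mem' := fun {a b} ha hb => hmul a b ha hb
      one_mem' := hone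
      add_mem' := fun {a b} ha hb => H23AUX.KS_add D ha hb
      zero_mem' := hzero
      neg_mem' := fun {a} ha => H23AUX.KS_neg D ha
      inv_mem' := by
        intro a ha
        by_cases h0 : a = 0
        · rw [h0, _root_.inv_zero]; exact hzero
        · obtain ⟨k, hk⟩ := KSRING.inv_eq_pow a h0
          rw [hk]
          exact hpow a k ha }
  refine ⟨L, ?_, rfl⟩
  intro c hc
  exact H23AUX.KS_of_mem D hRat hc

end Cfsg.Agent.S5658P
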