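import Cfsg.Agent.Helper29.S5677.Defs
import Cfsg.Agent.Helper20.S5677CMP1
import Cfsg.Agent.Helper20.S5677CMP2

set_option autoImplicit false
set_option linter.unusedSectionVars false
set_option linter.unusedVariables false

/-! # S5677 piece SWAP, second copy (helper23; the board copy is `Cfsg.Agent.Helper10.S5677SWAP`): block swaps from the
isometries `D b ≃ D b'`.  Everything here lives in the namespace `H23SWAP`, so that it cannot clash with the board copy. -/

namespace Cfsg.Agent.S5677P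

open Matrix Cfsg.Agent.Helper28.Sg Cfsg.Agent.Helper28.Spin Cfsg.Agent.Helper12.OrthGen
  Cfsg.Agent.S2614 Cfsg.Agent.S5683P Cfsg.Agent.Helper28.NDM

variable {F : Type*} [Field F] {m t k : ℕ} {D : Fin t → Submodule F (Idx m → F)}

namespace H23SWAP

/-- the projection to the block `D c`, as a map into the block -/
noncomputable def proj (hD : HD k D) (c : Fin t) : (Idx m → F) →ₗ[F] D c :=
  (cmp D c).codRestrict (D c) (CMP1.mem hD c)

theorem proj_coe (hD : HD k D) (c : Fin t) (x : Idx m → F) :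
    ((proj hD c x : D c) : Idx m → F) = cmp D c x := rfl

/-- the swap map `x ↦ x - x_b - x_b' + φ x_b + φ⁻¹ x_b'` -/
noncomputable def swapL (hD : HD k D) (b b' : Fin t) (φ : D b ≃ₗ[F] D b') :
    (Idx m → F) →ₗ[F] (Idx m → F) :=
  LinearMap.id - cmp D b - cmp D b' + (D b').subtype ∘ₗ φ.toLinearMap ∘ₗ proj hD b
    + (D b).subtype ∘ₗ φ.symm.toLinearMap ∘ₗ proj hD b'

theorem swapL_apply (hD : HD k D) (b b' : Fin t) (φ : D b ≃ₗ[F] D b') (x : Idx m → F) :
    swapL hD b b' φ x = x - cmp D b x - cmp D b' x + ((φ (proj hD b x) : D b') : Idx m → F)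
      + ((φ.symm (proj hD b' x) : D b) : Idx m → F) := rfl

theorem cmp_swapL_left (hD : HD k D) {b b' : Fin t} (hbb' : b ≠ b') (φ : D b ≃ₗ[F] D b')
    (x : Idx m → F) :
    cmp D b (swapL hD b b' φ x) = ((φ.symm (proj hD b' x) : D b) : Idx m → F) := by
  rw [swapL_apply]
  simp only [map_add, map_sub]
  rw [CMP1.of_mem hD (CMP1.mem hD b x), CMP1.of_mem_ne hD (Ne.symm hbb') (CMP1.mem hD b' x),
    CMP1.of_mem_ne hD (Ne.symm hbb') (φ (proj hD b x)).2, CMP1.of_mem hD (φ.symm (proj hD b' x)).2]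
  simp

theorem cmp_swapL_right (hD : HD k D) {b b' : Fin t} (hbb' : b ≠ b') (φ : D b ≃ₗ[F] D b')
    (x : Idx m → F) :
    cmp D b' (swapL hD b b' φ x) = ((φ (proj hD b x) : D b') : Idx m → F) := by
  rw [swapL_apply]
  simp only [map_add, map_sub]
  rw [CMP1.of_mem hD (CMP1.mem hD b' x), CMP1.of_mem_ne hD hbb' (CMP1.mem hD b x),
    CMP1.of_mem_ne hD hbb' (φ.symm (proj hD b' x)).2, CMP1.of_mem hD (φ (proj hD b x)).2]
  simp

theorem cmp_swapL_other (hD : HD k D) {b b' c : Fin t} (hcb : c ≠ b) (hcb' : c ≠ b')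
    (φ : D b ≃ₗ[F] D b') (x : Idx m → F) :
    cmp D c (swapL hD b b' φ x) = cmp D c x := by
  rw [swapL_apply]
  simp only [map_add, map_sub]
  rw [CMP1.of_mem_ne hD (Ne.symm hcb) (CMP1.mem hD b x),
    CMP1.of_mem_ne hD (Ne.symm hcb') (CMP1.mem hD b' x),
    CMP1.of_mem_ne hD (Ne.symm hcb') (φ (proj hD b x)).2,
    CMP1.of_mem_ne hD (Ne.symm hcb) (φ.symm (proj hD b' x)).2]
  simp

theorem proj_swapL_left (hD : HD k D) {b b' : Fin t} (hbb' : b ≠ b') (φ : D b ≃ₗ[F] D b')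
    (x : Idx m → F) : proj hD b (swapL hD b b' φ x) = φ.symm (proj hD b' x) :=
  Subtype.ext (cmp_swapL_left hD hbb' φ x)

theorem proj_swapL_right (hD : HD k D) {b b' : Fin t} (hbb' : b ≠ b') (φ : D b ≃ₗ[F] D b')
    (x : Idx m → F) : proj hD b' (swapL hD b b' φ x) = φ (proj hD b x) :=
  Subtype.ext (cmp_swapL_right hD hbb' φ x)

/-- the swap map is an involution -/
theorem swapL_swapL (hD : HD k D) {b b' : Fin t} (hbb' : b ≠ b') (φ : D b ≃ₗ[F] D b')
    (x : Idx m → F) : swapL hD b b' φ (swapL hD b b' φ x) = x := by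
  apply CMP1.ext hD
  intro c
  by_cases hcb : c = b
  · subst hcb
    rw [cmp_swapL_left hD hbb', proj_swapL_right hD hbb', LinearEquiv.symm_apply_apply, proj_coe]
  · by_cases hcb' : c = b'
    · subst hcb'
      rw [cmp_swapL_right hD hbb', proj_swapL_left hD hbb', LinearEquiv.apply_symm_apply, proj_coe]
    · rw [cmp_swapL_other hD hcb hcb', cmp_swapL_other hD hcb hcb']

/-- the swap map preserves the form -/
theorem Q_swapL (hD : HD k D) {b b' : Fin t} (hbb' : b ≠ b') (φ : D b ≃ₗ[F] D b')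
    (hφ : ∀ w : D b, QfOdd m F ((φ w : D b') : Idx m → F) = QfOdd m F (w : Idx m → F))
    (x : Idx m → F) : QfOdd m F (swapL hD b b' φ x) = QfOdd m F x := by
  have hφ' : ∀ z : D b', QfOdd m F ((φ.symm z : D b) : Idx m → F) = QfOdd m F (z : Idx m → F) := by
    intro z
    have := hφ (φ.symm z)
    rw [LinearEquiv.apply_symm_apply] at this
    exact this.symm
  rw [CMP2.Q_sum hD (swapL hD b b' φ x), CMP2.Q_sum hD x]
  rw [← Equiv.sum_comp (Equiv.swap b b') (fun c => QfOdd m F (cmp D c x))]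
  apply Finset.sum_congr rfl
  intro c _
  by_cases hcb : c = b
  · subst hcb
    rw [cmp_swapL_left hD hbb', Equiv.swap_apply_left, hφ', proj_coe]
  · by_cases hcb' : c = b'
    · subst hcb'
      rw [cmp_swapL_right hD hbb', Equiv.swap_apply_right, hφ, proj_coe]
    · rw [cmp_swapL_other hD hcb hcb', Equiv.swap_apply_of_ne_of_ne hcb hcb']

/-- the matrix of the swap map -/
noncomputable def swapM (hD : HD k D) (b b' : Fin t) (φ : D b ≃ₗ[F] D b') :
    Matrix (Idx m) (Idx m) F := LinearMap.toMatrix' (swapL hD b b' φ)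

theorem swapM_mulVec (hD : HD k D) (b b' : Fin t) (φ : D b ≃ₗ[F] D b') (x : Idx m → F) :
    swapM hD b b' φ *ᵥ x = swapL hD b b' φ x := by
  rw [swapM, ← Matrix.toLin'_apply, Matrix.toLin'_toMatrix']

theorem swapM_mul_self (hD : HD k D) {b b' : Fin t} (hbb' : b ≠ b') (φ : D b ≃ₗ[F] D b') :
    swapM hD b b' φ * swapM hD b b' φ = 1 := by
  apply Cfsg.Agent.Helper28.Spin.matrix_ext_mulVec
  intro x
  rw [← Matrix.mulVec_mulVec, swapM_mulVec, swapM_mulVec, swapL_swapL hD hbb', Matrix.one_mulVec]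

/-- the block swap as an isometry -/
noncomputable def swapO (hD : HD k D) {b b' : Fin t} (hbb' : b ≠ b') (φ : D b ≃ₗ[F] D b')
    (hφ : ∀ w : D b, QfOdd m F ((φ w : D b') : Idx m → F) = QfOdd m F (w : Idx m → F)) : OG m F :=
  ⟨⟨swapM hD b b' φ, swapM hD b b' φ, swapM_mul_self hD hbb' φ, swapM_mul_self hD hbb' φ⟩, by
    rw [Cfsg.Agent.Helper28.IsoTransport.mem_isometryGroup_iff]
    intro x
    show QfOdd m F (swapM hD b b' φ *ᵥ x) = QfOdd m F x
    rw [swapM_mulVec]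
    exact Q_swapL hD hbb' φ hφ x⟩

theorem swapO_mulVec (hD : HD k D) {b b' : Fin t} (hbb' : b ≠ b') (φ : D b ≃ₗ[F] D b')
    (hφ : ∀ w : D b, QfOdd m F ((φ w : D b') : Idx m → F) = QfOdd m F (w : Idx m → F))
    (x : Idx m → F) : mt (QfOdd m F) (swapO hD hbb' φ hφ) *ᵥ x = swapL hD b b' φ x :=
  swapM_mulVec hD b b' φ x

end H23SWAP

/-- an isometry of `Q` interchanging the blocks `b ≠ b'` and fixing the other blocks pointwise:
`x ↦ x - x_b - x_b' + φ x_b + φ⁻¹ x_b'`, `φ : D b ≃ D b'` the isometry of `hD.iso` -/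
theorem H23SWAP.exists (hD : HD k D) {b b' : Fin t} (hbb' : b ≠ b') :
    ∃ g : OG m F, (∀ x ∈ D b, mt (QfOdd m F) g *ᵥ x ∈ D b') ∧
      (∀ x ∈ D b', mt (QfOdd m F) g *ᵥ x ∈ D b) ∧
      ∀ i, i ≠ b → i ≠ b' → ∀ x ∈ D i, mt (QfOdd m F) g *ᵥ x = x := by
  obtain ⟨φ, hφ⟩ := hD.iso b b'
  refine ⟨H23SWAP.swapO hD hbb' φ hφ, ?_, ?_, ?_⟩
  · intro x hx
    rw [H23SWAP.swapO_mulVec, H23SWAP.swapL_apply, CMP1.of_mem hD hx, CMP1.of_mem_ne hD hbb' hx]
    have h0 : H23SWAP.proj hD b' x = 0 := Subtype.ext (by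
      rw [H23SWAP.proj_coe, CMP1.of_mem_ne hD hbb' hx]; rfl)
    rw [h0, map_zero]
    simp only [sub_self, zero_add, ZeroMemClass.coe_zero, add_zero]
    exact (φ (H23SWAP.proj hD b x)).2
  · intro x hx
    rw [H23SWAP.swapO_mulVec, H23SWAP.swapL_apply, CMP1.of_mem hD hx,
      CMP1.of_mem_ne hD (Ne.symm hbb') hx]
    have h0 : H23SWAP.proj hD b x = 0 := Subtype.ext (by
      rw [H23SWAP.proj_coe, CMP1.of_mem_ne hD (Ne.symm hbb') hx]; rfl)
    rw [h0, map_zero]
    simp only [sub_zero, sub_self, ZeroMemClass.coe_zero, zero_add]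
    exact (φ.symm (H23SWAP.proj hD b' x)).2
  · intro i hib hib' x hx
    rw [H23SWAP.swapO_mulVec, H23SWAP.swapL_apply, CMP1.of_mem_ne hD hib hx, CMP1.of_mem_ne hD hib' hx]
    have h0 : H23SWAP.proj hD b x = 0 := Subtype.ext (by
      rw [H23SWAP.proj_coe, CMP1.of_mem_ne hD hib hx]; rfl)
    have h0' : H23SWAP.proj hD b' x = 0 := Subtype.ext (by
      rw [H23SWAP.proj_coe, CMP1.of_mem_ne hD hib' hx]; rfl)
    rw [h0, h0', map_zero, map_zero]
    simp

end Cfsg.Agent.S5677P
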