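import Cfsg.Agent.Helper28.S5700.Lib
import Cfsg.Agent.Helper2.FieldSubA

set_option autoImplicit false
set_option linter.unusedSectionVars false
set_option linter.unusedVariables false

/-! # S5700 piece KSIEG (driver helper28; helper23): the unitary transvections `siegO v (c • J v)` commute with `J`;
`KPt` for the overgroups of the normaliser -/

namespace Cfsg.Agent.S5700P

open Matrix Module Cfsg.Agent.Helper28.Sg Cfsg.Agent.Helper28.Spin Cfsg.Agent.Helper12.OrthGen

variable {F : Type*} [Field F] [Fintype F] {ι : Type} [Fintype ι] [DecidableEq ι]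
  {Q : QuadraticForm F (ι → F)} {J : Matrix ι ι F} {t p : F}

theorem KSIEG.comm (U : UData Q J t p) {v : ι → F} (hv : Q v = 0) (c : F)
    (h : B Q v (c • J *ᵥ v) = 0) :
    mt Q (siegO Q v (c • J *ᵥ v) hv h) * J = J * mt Q (siegO Q v (c • J *ᵥ v) hv h) := by
  apply Cfsg.Agent.Helper28.Spin.matrix_ext_mulVec
  intro x
  rw [← Matrix.mulVec_mulVec, ← Matrix.mulVec_mulVec, siegO_mulVec, siegO_mulVec]
  have hQw : Q (c • J *ᵥ v) = 0 := by rw [Q_smul, U.Q_J, hv]; ring
  rw [hQw]
  simp only [Matrix.mulVec_add, Matrix.mulVec_sub, Matrix.mulVec_smul, B_smul_left,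
    U.B_J_right v x, U.B_JJ, U.JJ, zero_mul, zero_smul, Matrix.mulVec_zero]
  module

theorem KSIEG.kpt (U : UData Q J t p) (M : Subgroup ↥(Cfsg.isometryGroup F ⇑Q))
    (hM : ∀ g ∈ S Q, InN Q J t g → g ∈ M) : KPt J M := by
  intro v hv c
  have h : B Q v (c • J *ᵥ v) = 0 := by
    rw [B_smul_right, U.B_self_J, hv]; ring
  exact ⟨h, hM _ (siegO_mem_S Q v _ hv h) (Or.inl (KSIEG.comm U hv c h))⟩

end Cfsg.Agent.S5700P
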