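import Mathlib
import Cfsg.Prelude.Def_GeometricClasses
import Cfsg.Agent.Helper18.S5707.Defs
import Cfsg.Agent.Helper25.S5707NF
import Cfsg.Agent.Helper3.S5707NOTSTD

/-!
# S5707 piece K4YNOTSTD (driver helper18; helper23): the involution `y` is not in the standard tensor-wreath group (`k = 4`)
-/

set_option autoImplicit false

namespace Cfsg.Agent.S5707P

open Matrix

variable {F : Type*} [Field F] {k t : ℕ}

namespace K4YNOTSTD

theorem Eb_diag (a : Fin 4) : (Eb : Matrix (Fin 4) (Fin 4) F) a a = 0 := by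
  fin_cases a <;> simp [Eb]

theorem Ea_diag (a : Fin 4) : (Ea : Matrix (Fin 4) (Fin 4) F) a a = 0 := by
  fin_cases a <;> simp [Ea]

/-- `loc2 s0 s1 Eb Ea` vanishes at index pairs agreeing at `s0` or at `s1` -/
theorem N_zero {s0 s1 : Fin t} (h01 : s0 ≠ s1) (x x' : X 4 t) (h : x s0 = x' s0 ∨ x s1 = x' s1) :
    loc2 s0 s1 (Eb : Matrix (Fin 4) (Fin 4) F) Ea x x' = 0 := by
  show ∏ i, (Function.update (upd1 s0 (Eb : Matrix (Fin 4) (Fin 4) F)) s1 Ea) i (x i) (x' i) = 0
  rcases h with h | h
  · apply Finset.prod_eq_zero (Finset.mem_univ s0)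
    rw [Function.update_of_ne h01, upd1, Function.update_self, h, Eb_diag]
  · apply Finset.prod_eq_zero (Finset.mem_univ s1)
    rw [Function.update_self, h, Ea_diag]

/-- a non-zero entry of `loc2 s0 s1 Eb Ea` at an index pair differing at two sites -/
theorem N_one {s0 s1 : Fin t} (h01 : s0 ≠ s1) :
    loc2 s0 s1 (Eb : Matrix (Fin 4) (Fin 4) F) Ea (fun _ => 0)
      (Function.update (Function.update (fun _ => (0 : Fin 4)) s0 1) s1 2) = 1 := by
  show ∏ i, (Function.update (upd1 s0 (Eb : Matrix (Fin 4) (Fin 4) F)) s1 Ea) i (0 : Fin 4)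
    ((Function.update (Function.update (fun _ => (0 : Fin 4)) s0 1) s1 2) i) = 1
  apply Finset.prod_eq_one
  intro i _
  by_cases h1 : i = s1
  · subst h1
    rw [Function.update_self, Function.update_self]
    simp [Ea]
  · by_cases h0 : i = s0
    · subst h0
      rw [Function.update_of_ne h1, Function.update_of_ne h1, upd1, Function.update_self,
        Function.update_self]
      simp [Eb]
    · rw [Function.update_of_ne h1, Function.update_of_ne h1, upd1, Function.update_of_ne h0,
        Function.update_of_ne h0]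
      simp

end K4YNOTSTD

/-- piece K4YNOTSTD (M; uses NF, NOTSTD). -/
theorem K4.y_not_std [CharP F 2] (s0 s1 : Fin t) (h01 : s0 ≠ s1)
    (hN : loc2 s0 s1 (Eb : Matrix (Fin 4) (Fin 4) F) Ea * loc2 s0 s1 Eb Ea = 0) :
    invo (loc2 s0 s1 Eb Ea) hN ∉ Cfsg.Geo.tensorWreathStandard 4 t F := by
  intro hmem
  obtain ⟨gs, σ, hnf⟩ := NF.exists_nf _ hmem
  have hval : ∀ x x' : X 4 t,
      ((invo (loc2 s0 s1 (Eb : Matrix (Fin 4) (Fin 4) F) Ea) hN : GL (X 4 t) F) :
        Matrix (X 4 t) (X 4 t) F) x x' =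
      (1 : Matrix (X 4 t) (X 4 t) F) x x' + loc2 s0 s1 (Eb : Matrix (Fin 4) (Fin 4) F) Ea x x' :=
    fun _ _ => rfl
  have key := NOTSTD.diag_of_nf (by norm_num : 2 ≤ 4) _ _ σ hnf
    (by
      intro x
      rw [hval, K4YNOTSTD.N_zero h01 x x (Or.inl rfl), add_zero, Matrix.one_apply_eq]
      exact one_ne_zero)
    (by
      intro x x' i hi hj
      have hxx' : x ≠ x' := fun h => hi (by rw [h])
      rw [hval, Matrix.one_apply_ne hxx', zero_add]
      apply K4YNOTSTD.N_zero h01
      by_cases h0 : s0 = i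
      · right
        exact hj s1 (fun h => h01 (h0.trans h.symm))
      · left
        exact hj s0 h0)
  have hne : (fun _ => (0 : Fin 4) : X 4 t) ≠
      Function.update (Function.update (fun _ => (0 : Fin 4)) s0 1) s1 2 := by
    intro h
    have := congrFun h s1
    rw [Function.update_self] at this
    exact absurd this (by decide)
  have h0 := key _ _ hne
  rw [hval, Matrix.one_apply_ne hne, zero_add, K4YNOTSTD.N_one h01] at h0
  exact one_ne_zero h0

end Cfsg.Agent.S5707P
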