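import Mathlib
import Cfsg.Agent.Helper28.S5751Defs
import Cfsg.Agent.Helper28.BTStab3
import Cfsg.Agent.Helper28.S5751ADD
import Cfsg.Agent.Helper28.S5751TabS
import Cfsg.Agent.Helper7.S5751SLB
import Cfsg.Agent.Helper8.S5751KEY
import Cfsg.Agent.Helper6.Chev.BruhatNF
import Cfsg.Agent.Helper8.BTWACT
import Cfsg.Agent.Helper18.BTLEV

set_option autoImplicit false
set_option linter.unusedSectionVars false
set_option linter.unusedVariables false
set_option linter.constructorNameAsVariable false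
set_option maxRecDepth 4000

/-!
# S5751, piece U0B: a subgroup of `U` normalised by `P` lies in `Q_1`
-/

namespace Cfsg.Agent.Helper23.S5751U0B

open Cfsg.Lie Cfsg.Agent.Helper6 Cfsg.Agent.Helper28.BT Cfsg.Agent.Helper2.Levi Cfsg.Agent.S5751P

/-- own copy of the `LOWA` fact `nU_mem_PE` (so that this file does not wait for `LOWA`) -/
theorem u0b_nU_mem_PE (i : Fin chevE8.rank) (hi : i.val ≠ 3) :
    nU hBE (chevE8.simple i.val) (one_ne_zero (α := F2)) ∈ PE := by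
  unfold PE ChevalleyDatum.parabolicSubgroup
  apply Subgroup.mem_sup_right
  apply Subgroup.subset_closure
  exact ⟨i.val, mem_JE.mpr ⟨i.isLt, hi⟩, i.isLt, rfl⟩

/-- roots of `η`-level at least `5` have positive `μ`-level -/
def deepChk : Bool := allLt 240 fun r => decide (etaZ r < 5) || decide (1 ≤ levZ r)

set_option maxRecDepth 100000 in
theorem deepChk_true : deepChk = true := by decide +kernel

theorem one_le_levZ {r : ℕ} (hr : r < 240) (h : 5 ≤ etaZ r) : 1 ≤ levZ r := by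
  have h1 := deepChk_true
  simp only [deepChk, allLt_iff, Bool.or_eq_true, decide_eq_true_eq] at h1
  rcases h1 r hr with h2 | h2
  · omega
  · exact h2

theorem lev_simple_etaE (i : Fin chevE8.rank) :
    lev chevE8 etaE (chevE8.simple i.val) = if i.val = 3 then 5 else 1 := by
  rw [lev_etaE, etaZ_simple]
  split_ifs <;> simp

/-- reflections in the nodes of `J` lower the `η`-level by the Cartan integer -/
theorem lev_wR_eta (i : Fin chevE8.rank) (hi : i.val ≠ 3) {r : ℕ} (hr : r < chevE8.nroots) :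
    lev chevE8 etaE (wR chevE8 (chevE8.simple i.val) r) =
      lev chevE8 etaE r - ((chevE8.cartan i.val r : ℤ) : ℝ) := by
  rw [lev_wR (bnE F2) i etaE hr, lev_simple_etaE, if_neg hi, mul_one]

theorem posU_le_QH : chevE8.posUnipotent F2 ≤ QF chevE8 F2 etaE 1 := by
  refine le_trans ?_ (RGe_le_QF tabE8 etaE one_pos)
  unfold ChevalleyDatum.posUnipotent RGe
  apply Subgroup.closure_mono
  rintro g ⟨r, t, hr, hg⟩
  refine ⟨r, t, hr.1, ?_, hg⟩
  rw [lev_etaE]
  have := (eta_spec hr).1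
  exact_mod_cast this

theorem QH5_le : QF chevE8 F2 etaE 5 ≤ QE 1 := by
  refine le_trans (QF_le_RGe tabE8 hoddE dominant_etaE (by norm_num)) ?_
  unfold QE
  refine le_trans ?_ (RGe_le_QF tabE8 muE (by norm_num))
  unfold RGe
  apply Subgroup.closure_mono
  rintro g ⟨r, t, hr, hl, hg⟩
  refine ⟨r, t, hr, ?_, hg⟩
  rw [lev_etaE] at hl
  rw [lev_muE]
  have h5 : (5 : ℤ) ≤ etaZ r := by exact_mod_cast hl
  have := one_le_levZ hr h5
  exact_mod_cast this

theorem hgap_eta (m : ℕ) : ∀ r, chevE8.IsPosRoot r → lev chevE8 etaE r ≤ (m : ℝ) ∨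
    ((m + 1 : ℕ) : ℝ) ≤ lev chevE8 etaE r := by
  intro r _
  rw [lev_etaE]
  rcases le_or_gt (etaZ r) (m : ℤ) with h | h
  · left; exact_mod_cast h
  · right
    have : ((m + 1 : ℕ) : ℤ) ≤ etaZ r := by push_cast; omega
    exact_mod_cast this

/-- the first step: the coordinates at the fundamental roots of `J` vanish -/
theorem step_one (N : Subgroup (GL chevE8.Idx F2)) (hN : N ≤ QF chevE8 F2 etaE ((1 : ℕ) : ℝ))
    (hnorm : ∀ p ∈ PE, ∀ y ∈ N, p * y * p⁻¹ ∈ N) : N ≤ QF chevE8 F2 etaE ((1 + 1 : ℕ) : ℝ) := by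
  have Δ := bnE F2
  intro y hy
  have hmm : ((1 : ℕ) : ℝ) ≤ ((1 + 1 : ℕ) : ℝ) := by push_cast; linarith
  apply mem_QF_of_entries tabE8 hoddE dominant_etaE (by norm_num) hmm (hgap_eta 1) (hN hy)
  intro r hr hlr a
  have hlev : etaZ r = 1 := by
    rw [lev_etaE] at hlr
    exact_mod_cast hlr
  obtain ⟨_, _, h3, h4, _⟩ := eta_spec hr
  have hl0 : levZ r = 0 := h3.2 (by omega)
  obtain ⟨i, hi3, hri⟩ := h4 hl0 hlev
  have hnP := u0b_nU_mem_PE i hi3
  have hy' := hnorm _ (Subgroup.inv_mem _ hnP) y hy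
  have hy'' : (nU hBE (chevE8.simple i.val) (one_ne_zero (α := F2)))⁻¹ * y *
      ((nU hBE (chevE8.simple i.val) (one_ne_zero (α := F2)))⁻¹)⁻¹ ∈
        GrFil (degI chevE8 etaE) ((1 : ℕ) : ℝ) := (Subgroup.mem_inf.1 (hN hy')).1
  have hTr := Cfsg.Agent.Helper8.BT.simple_Tr Δ i etaE
  have hconj := hTr.conj_mem_GrFil hy''
  have e : nU Δ.hB (chevE8.simple i.val) (one_ne_zero (α := F2)) *
      ((nU hBE (chevE8.simple i.val) (one_ne_zero (α := F2)))⁻¹ * y *
        ((nU hBE (chevE8.simple i.val) (one_ne_zero (α := F2)))⁻¹)⁻¹) *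
      (nU Δ.hB (chevE8.simple i.val) (one_ne_zero (α := F2)))⁻¹ = y := by
    group
  rw [e] at hconj
  apply entry_eq_zero_of_mem_GrFil (degI chevE8 (Cfsg.Agent.Helper28.BT.refl chevE8 i etaE))
    (by norm_num : (0 : ℝ) ≤ ((1 : ℕ) : ℝ)) hconj (by simp)
  have h1 : degI chevE8 (Cfsg.Agent.Helper28.BT.refl chevE8 i etaE) (Sum.inr ⟨r, hr.1⟩) =
      lev chevE8 (Cfsg.Agent.Helper28.BT.refl chevE8 i etaE) r := rfl
  have h2 : degI chevE8 (Cfsg.Agent.Helper28.BT.refl chevE8 i etaE) (Sum.inl a) = 0 := rfl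
  rw [h1, h2, Cfsg.Agent.Helper8.BT.lev_refl Δ i etaE hr.1, lev_wR_eta i hi3 hr.1, hlr]
  have hc : chevE8.cartan i.val r = 2 := by
    rw [hri]
    exact (Δ.hAll i.val i.isLt).hS.2.1
  rw [hc]
  norm_num

/-- the next steps: descent along a node of `J` with Cartan integer `1` -/
theorem step_m (m : ℕ) (hm : 2 ≤ m) (hm4 : m ≤ 4) (N : Subgroup (GL chevE8.Idx F2))
    (hN : N ≤ QF chevE8 F2 etaE (m : ℝ))
    (hnorm : ∀ p ∈ PE, ∀ y ∈ N, p * y * p⁻¹ ∈ N) : N ≤ QF chevE8 F2 etaE ((m + 1 : ℕ) : ℝ) := by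
  have Δ := bnE F2
  have hm0 : (0 : ℝ) < (m : ℝ) := by
    have : 0 < m := by omega
    exact_mod_cast this
  have hm1 : (1 : ℝ) < (m : ℝ) := by
    have : 1 < m := by omega
    exact_mod_cast this
  intro y hy
  have hmm : (m : ℝ) ≤ ((m + 1 : ℕ) : ℝ) := by push_cast; linarith
  apply mem_QF_of_entries tabE8 hoddE dominant_etaE hm0 hmm (hgap_eta m) (hN hy)
  intro r hr hlr a
  have hlev : etaZ r = (m : ℤ) := by
    rw [lev_etaE] at hlr
    exact_mod_cast hlr
  obtain ⟨_, _, h3, _, h5⟩ := eta_spec hr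
  have hl0 : levZ r = 0 := h3.2 (by omega)
  have hne1 : etaZ r ≠ 1 := by omega
  obtain ⟨i, hi3, hci⟩ := h5 hl0 hne1
  have hnP := u0b_nU_mem_PE i hi3
  have hstep : ∀ r', chevE8.IsPosRoot r' → (m : ℝ) ≤ lev chevE8 etaE r' →
      chevE8.IsPosRoot (wR chevE8 (chevE8.simple i.val) r') ∧
        (m : ℝ) - 1 ≤ lev chevE8 etaE (wR chevE8 (chevE8.simple i.val) r') := by
    intro r' hr' hle
    have hne : r' ≠ chevE8.simple i.val := by
      intro h
      rw [h, lev_simple_etaE, if_neg hi3] at hle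
      linarith
    refine ⟨(Δ.wpos i.isLt hr' hne).1, ?_⟩
    rw [lev_wR_eta i hi3 hr'.1]
    have h2 : chevE8.cartan i.val r' ≤ 1 := cartan_le_one hr'.1 i hne
    have h3 : ((chevE8.cartan i.val r' : ℤ) : ℝ) ≤ 1 := by exact_mod_cast h2
    linarith
  have hz : nU (basicOK_of_tabulated tabE8) (chevE8.simple i.val) (one_ne_zero (α := F2)) * y *
      (nU (basicOK_of_tabulated tabE8) (chevE8.simple i.val) (one_ne_zero (α := F2)))⁻¹ ∈
        GrFil (degI chevE8 etaE) (m : ℝ) := (Subgroup.mem_inf.1 (hN (hnorm _ hnP y hy))).1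
  have hdrop : lev chevE8 etaE (wR chevE8 (chevE8.simple i.val) r) = (m : ℝ) - 1 := by
    rw [lev_wR_eta i hi3 hr.1, hlr, hci]
    simp
  exact descent tabE8 hoddE dominant_etaE i hm1 hstep (hN hy) hz hr hlr hdrop a

end Cfsg.Agent.Helper23.S5751U0B

namespace Cfsg.Agent.S5751P

open Cfsg.Lie Cfsg.Agent.Helper6 Cfsg.Agent.Helper28.BT Cfsg.Agent.Helper2.Levi
open Cfsg.Agent.Helper23.S5751U0B

theorem le_QE_one (N : Subgroup (GL chevE8.Idx F2)) (hNU : N ≤ chevE8.posUnipotent F2)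
    (hnorm : ∀ p ∈ PE, ∀ y ∈ N, p * y * p⁻¹ ∈ N) : N ≤ QE 1 := by
  have h1 : N ≤ QF chevE8 F2 etaE ((1 : ℕ) : ℝ) := by
    rw [Nat.cast_one]
    exact hNU.trans posU_le_QH
  have h2 := step_one N h1 hnorm
  have h3 := step_m 2 (by norm_num) (by norm_num) N h2 hnorm
  have h4 := step_m 3 (by norm_num) (by norm_num) N h3 hnorm
  have h5 := step_m 4 (by norm_num) (by norm_num) N h4 hnorm
  refine le_trans ?_ QH5_le
  have e : (((4 + 1 : ℕ) : ℕ) : ℝ) = 5 := by norm_num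
  rw [e] at h5
  exact h5

end Cfsg.Agent.S5751P
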