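import Mathlib
import Cfsg.Prelude.Def_Classical
import Cfsg.Agent.Helper23.S5953Defs
import Cfsg.Agent.Helper26.S5955UNIQ

set_option autoImplicit false
open scoped MatrixGroups Matrix

/-! S5953 piece CYCISO: two irreducible invariant subspaces killed by the same monic polynomial of
degree `finrank` are isomorphic as modules. -/

namespace Cfsg.Agent.S5953P

open Polynomial Cfsg.Agent.S5955P

namespace CYCISO

variable {F V : Type*} [Field F] [AddCommGroup V] [Module F V]

/-- `P ↦ P(y) v` -/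
noncomputable def psi (y : Module.End F V) (v : V) : F[X] →ₗ[F] V :=
  (LinearMap.applyₗ v).comp (aeval y).toLinearMap

theorem psi_apply (y : Module.End F V) (v : V) (P : F[X]) : psi y v P = aeval y P v := rfl

theorem psi_X_mul (y : Module.End F V) (v : V) (P : F[X]) :
    psi y v (X * P) = y (psi y v P) := by
  rw [psi_apply, psi_apply, map_mul, aeval_X, Module.End.mul_apply]

theorem psi_mem (y : Module.End F V) (E : Submodule F V) (hE : E.map y ≤ E) (v : V) (hv : v ∈ E)
    (P : F[X]) : psi y v P ∈ E := by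
  rw [psi_apply]
  induction P using Polynomial.induction_on' with
  | add p q hp hq => rw [map_add, LinearMap.add_apply]; exact E.add_mem hp hq
  | monomial n a =>
    rw [← C_mul_X_pow_eq_monomial, map_mul, aeval_C, map_pow, aeval_X, Module.End.mul_apply,
      Module.algebraMap_end_apply]
    apply E.smul_mem
    induction n with
    | zero => simpa using hv
    | succ n ih =>
      rw [pow_succ', Module.End.mul_apply]
      exact hE ⟨_, ih, rfl⟩

/-- kernel of `psi` in terms of divisibility by `g` -/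
theorem psi_eq_zero_iff [FiniteDimensional F V] (y : Module.End F V) (E : Submodule F V)
    (hE : E.map y ≤ E)
    (hirr : ∀ U₁ : Submodule F V, U₁ ≤ E → U₁.map y ≤ U₁ → U₁ = ⊥ ∨ U₁ = E)
    (g : F[X]) (hg : g.Monic) (hgd : g.natDegree = Module.finrank F E)
    (hgk : ∀ v ∈ E, aeval y g v = 0) (v : V) (hv : v ∈ E) (hv0 : v ≠ 0) (P : F[X]) :
    psi y v P = 0 ↔ g ∣ P := by
  have h4 := (monic_unique_of_irr y E hE hirr).2.2.2
  have hd0 : 0 < Module.finrank F E := by
    rw [Module.finrank_pos_iff_exists_ne_zero]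
    exact ⟨⟨v, hv⟩, fun h => hv0 (by simpa using congrArg Subtype.val h)⟩
  have hg1 : g ≠ 1 := by
    intro h
    rw [h, natDegree_one] at hgd
    omega
  constructor
  · intro hP
    rw [← modByMonic_eq_zero_iff_dvd hg]
    by_contra hne
    have hdeg : (P %ₘ g).natDegree < Module.finrank F E := by
      rw [← hgd]; exact natDegree_modByMonic_lt P hg hg1
    apply h4 (P %ₘ g) hne hdeg v hv hv0
    have hsplit := modByMonic_add_div P g
    have h1 : aeval y P v = aeval y (P %ₘ g) v + aeval y (g * (P /ₘ g)) v := by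
      conv_lhs => rw [← hsplit]
      rw [map_add, LinearMap.add_apply]
    have h2 : aeval y (g * (P /ₘ g)) v = 0 := by
      rw [mul_comm, map_mul, Module.End.mul_apply, hgk v hv, map_zero]
    have h3 : aeval y P v = 0 := hP
    rw [h3, h2, add_zero] at h1
    exact h1.symm
  · rintro ⟨Q, rfl⟩
    rw [psi_apply, mul_comm, map_mul, Module.End.mul_apply, hgk v hv, map_zero]

end CYCISO

open CYCISO in
/-- CYCISO: two irreducible invariant subspaces killed by the same monic polynomial of degree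
`finrank` are isomorphic as modules -/
theorem exists_intertwiner {F V : Type*} [Field F] [AddCommGroup V] [Module F V]
    [FiniteDimensional F V] (y : Module.End F V) (E E' : Submodule F V)
    (hE : E.map y ≤ E) (hE' : E'.map y ≤ E')
    (hirr : ∀ U₁ : Submodule F V, U₁ ≤ E → U₁.map y ≤ U₁ → U₁ = ⊥ ∨ U₁ = E)
    (hirr' : ∀ U₁ : Submodule F V, U₁ ≤ E' → U₁.map y ≤ U₁ → U₁ = ⊥ ∨ U₁ = E')
    (hdim : Module.finrank F E = Module.finrank F E') (hE0 : E ≠ ⊥)
    (g : F[X]) (hg : g.Monic) (hgd : g.natDegree = Module.finrank F E)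
    (hgk : ∀ v ∈ E ⊔ E', aeval y g v = 0) :
    ∃ φ : V →ₗ[F] V, (∀ v ∈ E, φ v ∈ E') ∧ (∀ v ∈ E, φ v = 0 → v = 0) ∧
      (∀ v ∈ E, φ (y v) = y (φ v)) := by
  classical
  -- nonzero vectors
  obtain ⟨v, hv, hv0⟩ := Submodule.exists_mem_ne_zero_of_ne_bot hE0
  have hE'0 : E' ≠ ⊥ := by
    intro h
    have h0 : Module.finrank F E = 0 := by rw [hdim, h, finrank_bot]
    exact hE0 (Submodule.finrank_eq_zero.mp h0)
  obtain ⟨v', hv', hv'0⟩ := Submodule.exists_mem_ne_zero_of_ne_bot hE'0
  have hgkE : ∀ u ∈ E, aeval y g u = 0 := fun u hu => hgk u (Submodule.mem_sup_left hu)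
  have hgkE' : ∀ u ∈ E', aeval y g u = 0 := fun u hu => hgk u (Submodule.mem_sup_right hu)
  -- surjectivity onto `E`, `E'`
  have hsurj : ∀ (E : Submodule F V) (hE : E.map y ≤ E)
      (hirr : ∀ U₁ : Submodule F V, U₁ ≤ E → U₁.map y ≤ U₁ → U₁ = ⊥ ∨ U₁ = E)
      (v : V) (hv : v ∈ E) (hv0 : v ≠ 0), LinearMap.range (psi y v) = E := by
    intro E hE hirr v hv hv0
    have hle : LinearMap.range (psi y v) ≤ E := by
      rintro _ ⟨P, rfl⟩
      exact psi_mem y E hE v hv P
    have hinv : (LinearMap.range (psi y v)).map y ≤ LinearMap.range (psi y v) := by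
      rintro _ ⟨_, ⟨P, rfl⟩, rfl⟩
      exact ⟨X * P, psi_X_mul y v P⟩
    rcases hirr _ hle hinv with h | h
    · exfalso
      apply hv0
      have : v ∈ LinearMap.range (psi y v) := ⟨1, by rw [psi_apply, map_one]; rfl⟩
      rw [h] at this
      exact (Submodule.mem_bot F).mp this
    · exact h
  have hr := hsurj E hE hirr v hv hv0
  have hr' := hsurj E' hE' hirr' v' hv' hv'0
  -- complement and projection
  obtain ⟨Cc, hCc⟩ := Submodule.exists_isCompl E
  set pr : V →ₗ[F] E := Submodule.linearProjOfIsCompl E Cc hCc with hpr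
  -- choice of a preimage polynomial
  have hex : ∀ u : E, ∃ P : F[X], psi y v P = (u : V) := by
    intro u
    have : (u : V) ∈ LinearMap.range (psi y v) := by rw [hr]; exact u.2
    exact this
  choose Pof hPof using hex
  have hker : ∀ P : F[X], psi y v P = 0 ↔ psi y v' P = 0 := by
    intro P
    rw [psi_eq_zero_iff y E hE hirr g hg hgd hgkE v hv hv0,
      psi_eq_zero_iff y E' hE' hirr' g hg (hgd.trans hdim) hgkE' v' hv' hv'0]
  have hwd : ∀ P Q : F[X], psi y v P = psi y v Q → psi y v' P = psi y v' Q := by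
    intro P Q h
    have h0 : psi y v (P - Q) = 0 := by rw [map_sub, h, sub_self]
    have h1 := (hker _).mp h0
    rw [map_sub, sub_eq_zero] at h1
    exact h1
  -- the map on `E`
  let φ₀ : E →ₗ[F] V :=
    { toFun := fun u => psi y v' (Pof u)
      map_add' := by
        intro a b
        rw [← map_add]
        apply hwd
        rw [map_add, hPof, hPof, hPof]
        rfl
      map_smul' := by
        intro c a
        rw [RingHom.id_apply, ← map_smul]
        apply hwd
        rw [map_smul, hPof, hPof]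
        rfl }
  have hφ₀ : ∀ (u : E) (P : F[X]), psi y v P = (u : V) → φ₀ u = psi y v' P := by
    intro u P hP
    show psi y v' (Pof u) = psi y v' P
    apply hwd
    rw [hPof, hP]
  refine ⟨φ₀.comp pr, ?_, ?_, ?_⟩
  · intro u hu
    rw [LinearMap.comp_apply]
    exact psi_mem y E' hE' v' hv' _
  · intro u hu h0
    rw [LinearMap.comp_apply] at h0
    have hpu : pr u = ⟨u, hu⟩ := Submodule.linearProjOfIsCompl_apply_left hCc ⟨u, hu⟩
    rw [hpu] at h0
    have h1 : psi y v' (Pof ⟨u, hu⟩) = 0 := h0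
    have h2 := (hker _).mpr h1
    rw [hPof] at h2
    exact h2
  · intro u hu
    have hyu : y u ∈ E := hE ⟨u, hu, rfl⟩
    rw [LinearMap.comp_apply, LinearMap.comp_apply]
    have hpu : pr u = ⟨u, hu⟩ := Submodule.linearProjOfIsCompl_apply_left hCc ⟨u, hu⟩
    have hpyu : pr (y u) = ⟨y u, hyu⟩ := Submodule.linearProjOfIsCompl_apply_left hCc ⟨y u, hyu⟩
    rw [hpu, hpyu]
    have h1 : psi y v (X * Pof ⟨u, hu⟩) = ((⟨y u, hyu⟩ : E) : V) := by
      rw [psi_X_mul, hPof]
    rw [hφ₀ ⟨y u, hyu⟩ _ h1, psi_X_mul, hφ₀ ⟨u, hu⟩ (Pof ⟨u, hu⟩) (hPof _)]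

end Cfsg.Agent.S5953P
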