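import Mathlib
import Cfsg.Prelude.Def_Classical
import Cfsg.Agent.Helper23.S5953Defs
import Cfsg.Agent.Helper28.S5953DIAGCHOICE
import Cfsg.Agent.Helper28.S5953DIAGYU
import Cfsg.Agent.Helper7.S5953GUYU
import Cfsg.Agent.Helper7.S5953FIXSPLITU
import Cfsg.Agent.Helper7.S5953TIFIXU
import Cfsg.Agent.Helper22.S5953MODELBOUNDU
import Cfsg.Agent.Helper18.S5953ARITHU
import Cfsg.Agent.Helper28.Herm

set_option autoImplicit false
open scoped MatrixGroups Matrix

/-! S5953 piece NECI2A. -/

namespace Cfsg.Agent.S5953P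

open Polynomial Cfsg.Agent.S5955P Cfsg.Agent.Helper28.HW Cfsg.Agent.Helper28.HermFrame

/-- NECI2A -/
theorem exists_diag_derangement_u {F : Type*} [Field F] [Fintype F] {p : ℕ} [Fact p.Prime]
    [CharP F p] {q : ℕ} (hF : Fintype.card F = q ^ 2) (r : ℕ) [Fact r.Prime] (hr2 : r ≠ 2)
    (hrp : r ≠ p) (hrq : r ∣ q + 1) (n : ℕ) (hn : 3 ≤ n) :
    ∃ x : Matrix.SpecialLinearGroup (Fin n) F, x ∈ Cfsg.SU n F q ∧
      (x : Matrix (Fin n) (Fin n) F) ^ r = 1 ∧
      (∀ z : F, (x : Matrix (Fin n) (Fin n) F) ≠ z • 1) ∧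
      ∀ W : Submodule F (Fin n → F),
        W.map (Matrix.toLin' (x : Matrix (Fin n) (Fin n) F)) ≤ W →
        (∀ u ∈ W, ∀ v ∈ W, Cfsg.hermForm n F q u v = 0) →
        Module.finrank F W = 0 ∨ 2 * Module.finrank F W + (r - 1) ≤ n := by
  classical
  obtain ⟨σ, hσ, hσ2⟩ := Cfsg.Agent.Helper28.exists_frob hF
  obtain ⟨d, hdq, hdr, hprod, ⟨j, j', hne⟩, hmult, hcase1, hcase2⟩ :=
    exists_diag_choice hF r hr2 hrq n hn
  obtain ⟨hUn, hker⟩ := diag_facts (q := q) d hdq
  have hdet : (Matrix.diagonal d).det = 1 := by rw [Matrix.det_diagonal, hprod]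
  have hxr : (Matrix.diagonal d) ^ r = 1 := by
    rw [Matrix.diagonal_pow, ← Matrix.diagonal_one]
    congr 1
    funext k
    exact hdr k
  refine ⟨⟨Matrix.diagonal d, hdet⟩, (mem_SU_iff _).mpr hUn, hxr, ?_, ?_⟩
  · intro z hz
    apply hne
    have h1 := congrFun (congrFun hz j) j
    have h2 := congrFun (congrFun hz j') j'
    simp only [Matrix.diagonal_apply_eq, Matrix.smul_apply,
      Matrix.one_apply_eq, smul_eq_mul, mul_one] at h1 h2
    rw [h1, h2]
  · intro W hW hWti
    show Module.finrank F W = 0 ∨ 2 * Module.finrank F W + (r - 1) ≤ n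
    change W.map (Matrix.toLin' (Matrix.diagonal d)) ≤ W at hW
    set y : Module.End F (Fin n → F) := Matrix.toLin' (Matrix.diagonal d) with hy
    have hY : IsYU q (hB σ n) y r := un_isYU hF σ hσ n _ hUn r hxr
    obtain ⟨hi0, hbF, hbF0, hbFdvd, hcu, hcudvd, hrqi⟩ := cu_arith (p := p) hF r hr2 hrp
    have hi2 : orderOf (q : ZMod r) = 2 := hrqi.mp hrq
    have hb1 : orderOf ((Fintype.card F : ℕ) : ZMod r) = 1 := by
      rw [hbF, hi2]; simp
    have hsd : orderOf (q : ZMod r) % 4 = 2 := by rw [hi2]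
    have hWo : OrthU (hB σ n) W W := by
      intro u hu v hv
      rw [hB_herm σ hσ]
      exact hWti v hv u hu
    have hfs := fix_split_u (p := p) r hrp (hB σ n) y hY
    have hkerl : ∀ l : F, Module.finrank F (LinearMap.ker (y - l • (1 : Module.End F (Fin n → F))))
        = Nat.card {k : Fin n // d k = l} := hker
    have hmb := model_bound_u (p := p) r hr2 hrp (hB σ n) y hY hsd (X - C 1)
      (monic_X_sub_C 1) (by rw [natDegree_X_sub_C, hb1]) 0 ?_ ?_ W hW hWo
    · rw [hb1, mul_zero, add_zero] at hmb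
      have htf := ti_fix_le_u (p := p) r hrp (hB σ n) y hY W hWo
      have hk1 : Module.finrank F (LinearMap.ker (y - 1)) = Nat.card {k : Fin n // d k = 1} := by
        have := hkerl 1
        rwa [one_smul] at this
      rw [hk1] at htf
      by_cases hrn : r ≤ n
      · right
        have := hcase1 hrn
        omega
      · left
        have := hcase2 (by omega)
        omega
    · intro g hgm hgd hgne
      rw [hb1] at hgd ⊢
      have hgeq : g = X + C (g.coeff 0) := hgm.eq_X_add_C hgd
      obtain ⟨l, hl⟩ : ∃ l : F, g.coeff 0 = -l := ⟨-(g.coeff 0), (neg_neg _).symm⟩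
      have hgeq' : g = X - C l := by
        rw [hgeq, hl, map_neg, sub_eq_add_neg]
      have hl1 : l ≠ 1 := by
        intro h1
        apply hgne
        rw [hgeq', h1]
      have hag : aeval y g = y - l • (1 : Module.End F (Fin n → F)) := by
        rw [hgeq', map_sub, aeval_X, aeval_C, Algebra.algebraMap_eq_smul_one]
      rw [hag]
      calc Module.finrank F ↥(LinearMap.range (y - 1) ⊓
              LinearMap.ker (y - l • (1 : Module.End F (Fin n → F))))
          ≤ Module.finrank F (LinearMap.ker (y - l • (1 : Module.End F (Fin n → F)))) :=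
            Submodule.finrank_mono inf_le_right
        _ = Nat.card {k : Fin n // d k = l} := hkerl l
        _ ≤ 1 := hmult l hl1
    · have hag : aeval y (X - C (1 : F)) = y - 1 := by
        rw [map_sub, aeval_X, aeval_C, map_one]
      rw [hag, hfs.2.2.2.2.2.2.2, finrank_bot]
      omega

end Cfsg.Agent.S5953P
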