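import Mathlib
import Cfsg.Prelude.Def_Classical
import Cfsg.Agent.Helper23.S5953Defs
import Cfsg.Agent.Helper3.S5953NOROOT
import Cfsg.Agent.Helper3.S5953NOROOTEX
import Cfsg.Agent.Helper28.S5953SHIFTZ1
import Cfsg.Agent.Helper21.S5949IRR

set_option autoImplicit false
open scoped MatrixGroups Matrix

/-! S5953 piece NECI2B. -/

namespace Cfsg.Agent.S5953P

open Polynomial Cfsg.Agent.S5955P Cfsg.Agent.Helper28.HW Cfsg.Agent.Helper28.HermFrame

/-- NECI2B -/
theorem exists_irr_derangement_u {F : Type*} [Field F] [Fintype F] {p : ℕ} [Fact p.Prime]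
    [CharP F p] {q : ℕ} (hF : Fintype.card F = q ^ 2) (r : ℕ) [Fact r.Prime] (hr2 : r ≠ 2)
    (hrp : r ≠ p) (hrq : r ∣ q + 1) (n : ℕ) (hn : 2 ≤ n)
    (hv : padicValNat r (q + 1) < padicValNat r n) :
    ∃ x : Matrix.SpecialLinearGroup (Fin n) F, x ∈ Cfsg.SU n F q ∧
      (∃ z : F, (x : Matrix (Fin n) (Fin n) F) ^ r = z • 1) ∧
      (∀ z : F, (x : Matrix (Fin n) (Fin n) F) ≠ z • 1) ∧
      ∀ W : Submodule F (Fin n → F),
        W.map (Matrix.toLin' (x : Matrix (Fin n) (Fin n) F)) ≤ W →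
        r ∣ Module.finrank F W := by
  classical
  have hrpr : r.Prime := Fact.out
  have hr2' : 2 ≤ r := hrpr.two_le
  have hrodd : Odd r := hrpr.odd_of_ne_two hr2
  set v := padicValNat r (q + 1) with hvdef
  -- `n = r * k` with `r ^ v ∣ k`
  have hdvd : r ^ (v + 1) ∣ n :=
    (pow_dvd_pow r (by omega)).trans pow_padicValNat_dvd
  obtain ⟨t, ht⟩ := hdvd
  have hnk : n = r * (r ^ v * t) := by rw [ht, pow_succ]; ring
  have hk1 : 1 ≤ r ^ v * t := by
    by_contra hcon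
    have : r ^ v * t = 0 := by omega
    rw [this, mul_zero] at hnk
    omega
  obtain ⟨z, hz, hzv, hno⟩ := exists_no_root hF r hr2 hrq
  obtain ⟨hirr, -⟩ := irreducible_of_no_root hF r hr2 hrq z hz hno
  subst hnk
  obtain ⟨hUn, hpow, hdet, hns⟩ := shiftZ_facts (q := q) r (r ^ v * t) hr2' z hz
  have hdet1 : (shiftZ (r * (r ^ v * t)) r z).det = 1 := by
    rw [hdet hrodd, pow_mul, hzv, one_pow]
  refine ⟨⟨shiftZ (r * (r ^ v * t)) r z, hdet1⟩, (mem_SU_iff _).mpr hUn, ⟨z, hpow⟩, hns hk1, ?_⟩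
  intro W hW
  have hmon : (X ^ r - C z : F[X]).Monic := monic_X_pow_sub_C z (by omega)
  have hae : aeval (Matrix.toLin' (shiftZ (r * (r ^ v * t)) r z)) (X ^ r - C z : F[X]) = 0 := by
    rw [map_sub, map_pow, aeval_X, aeval_C, ← Matrix.toLin'_pow, hpow, map_smul,
      Matrix.toLin'_one, Algebra.algebraMap_eq_smul_one]
    exact sub_self _
  have := (Cfsg.Agent.S5949P.irr_module _ _ hirr hmon hae).2.1 W hW
  rwa [natDegree_X_pow_sub_C] at this

end Cfsg.Agent.S5953P
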