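import Mathlib
import Cfsg.Prelude.Def_GeometricClasses
import Cfsg.Prelude.Def_Classical
import Cfsg.Prelude.Def_LieClassical

set_option autoImplicit false
open scoped MatrixGroups Matrix

/-! # S5982, piece BLK2. -/

namespace Cfsg.Agent.S5982P.BLK2

/-- BLK2 with STD as an explicit hypothesis: an isometry of order `r` of a non-degenerate
`d`-dimensional subspace lies in a copy of `GU_d(q₀)` -/
theorem dvd_card_GU_of_isometry_of_std {F : Type*} [Field F] [Fintype F] {q₀ : ℕ}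
    (hF : Fintype.card F = q₀ ^ 2)
    (hstd : ∀ (m : ℕ) (f : (Fin m → F) → (Fin m → F) → F), Cfsg.Geo.IsUnitaryFormPow q₀ f →
      ∃ P : GL (Fin m) F, ∀ u v : Fin m → F,
        f ((P : Matrix (Fin m) (Fin m) F) *ᵥ u) ((P : Matrix (Fin m) (Fin m) F) *ᵥ v) =
          Cfsg.hermForm m F q₀ u v)
    (n : ℕ) (f' : (Fin n → F) → (Fin n → F) → F)
    (hf' : Cfsg.Geo.IsUnitaryFormPow q₀ f') (x : GL (Fin n) F)
    (hx : ∀ u v, f' ((x : Matrix (Fin n) (Fin n) F) *ᵥ u) ((x : Matrix (Fin n) (Fin n) F) *ᵥ v) =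
      f' u v) (r : ℕ) [Fact r.Prime] (hxr : (x : Matrix (Fin n) (Fin n) F) ^ r = 1)
    (W : Submodule F (Fin n → F)) (hWx : ∀ w ∈ W, (x : Matrix (Fin n) (Fin n) F) *ᵥ w ∈ W)
    (hnd : ∀ w ∈ W, w ≠ 0 → ∃ w' ∈ W, f' w' w ≠ 0)
    (hne : ∃ w ∈ W, (x : Matrix (Fin n) (Fin n) F) *ᵥ w ≠ w) (d : ℕ)
    (hd : Module.finrank F W = d) : r ∣ Nat.card (Cfsg.GU d F q₀) := by
  classical
  have hr : r.Prime := Fact.out
  have hq0 : q₀ ≠ 0 := by
    rintro rfl
    rw [zero_pow (by norm_num)] at hF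
    exact Fintype.card_ne_zero hF
  -- the restriction of `x` to `W`
  let X : Module.End F (Fin n → F) := Matrix.toLin' (x : Matrix (Fin n) (Fin n) F)
  have hXW : ∀ w ∈ W, X w ∈ W := fun w hw => by
    show Matrix.toLin' (x : Matrix (Fin n) (Fin n) F) w ∈ W
    rw [Matrix.toLin'_apply]; exact hWx w hw
  let xW : Module.End F W := X.restrict hXW
  have hxW : ∀ w : W, ((xW w : W) : Fin n → F) = (x : Matrix (Fin n) (Fin n) F) *ᵥ (w : Fin n → F) := by
    intro w
    show X (w : Fin n → F) = _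
    exact Matrix.toLin'_apply _ _
  have hXr : X ^ r = 1 := by
    show Matrix.toLin' (x : Matrix (Fin n) (Fin n) F) ^ r = 1
    rw [← Matrix.toLin'_pow, hxr, Matrix.toLin'_one]; rfl
  have hxWr : xW ^ r = 1 := by
    show (X.restrict hXW) ^ r = 1
    rw [Module.End.pow_restrict r hXW]
    ext w
    simp [LinearMap.restrict_apply, hXr]
  have hxW1 : xW ≠ 1 := by
    intro h1
    obtain ⟨w, hw, hwne⟩ := hne
    apply hwne
    have := hxW ⟨w, hw⟩
    rw [h1] at this
    exact this.symm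
  -- a basis of `W`
  let b : Module.Basis (Fin d) F W := Module.finBasisOfFinrankEq F W hd
  let L : (Fin d → F) →ₗ[F] (Fin n → F) := W.subtype ∘ₗ (b.equivFun.symm : (Fin d → F) →ₗ[F] W)
  have hLmem : ∀ a, L a ∈ W := fun a => (b.equivFun.symm a).2
  have hLinj : Function.Injective L := by
    intro a c h
    have : (b.equivFun.symm a : W) = b.equivFun.symm c := Subtype.ext h
    exact b.equivFun.symm.injective this
  have hLsurj : ∀ w ∈ W, ∃ a, L a = w := by
    intro w hw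
    refine ⟨b.equivFun ⟨w, hw⟩, ?_⟩
    show ((b.equivFun.symm (b.equivFun ⟨w, hw⟩) : W) : Fin n → F) = w
    rw [LinearEquiv.symm_apply_apply]
  let M : Matrix (Fin d) (Fin d) F := LinearMap.toMatrix b b xW
  have hML : ∀ a, L (M *ᵥ a) = (x : Matrix (Fin n) (Fin n) F) *ᵥ L a := by
    intro a
    have h1 := LinearMap.toMatrix_mulVec_repr b b xW (b.equivFun.symm a)
    have h2 : (b.repr (b.equivFun.symm a) : Fin d → F) = a := by
      have := b.equivFun.apply_symm_apply a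
      exact this
    rw [h2] at h1
    have h3 : b.equivFun.symm (M *ᵥ a) = xW (b.equivFun.symm a) := by
      apply b.equivFun.injective
      rw [LinearEquiv.apply_symm_apply]
      exact h1
    show ((b.equivFun.symm (M *ᵥ a) : W) : Fin n → F) = _
    rw [h3, hxW]
    rfl
  have hMr : M ^ r = 1 := by
    show (LinearMap.toMatrix b b xW) ^ r = 1
    have h := LinearMap.toMatrix_pow b xW r
    rw [h, hxWr, LinearMap.toMatrix_one]
  have hM1 : M ≠ 1 := by
    intro h1
    apply hxW1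
    apply (LinearMap.toMatrix b b).injective
    rw [LinearMap.toMatrix_one]
    exact h1
  obtain ⟨k, hk⟩ : ∃ k, r = k + 1 := ⟨r - 1, by have := hr.pos; omega⟩
  let Mg : GL (Fin d) F := ⟨M, M ^ k, by rw [← pow_succ', ← hk, hMr], by rw [← pow_succ, ← hk, hMr]⟩
  -- the form on `Fin d → F`
  let f'' : (Fin d → F) → (Fin d → F) → F := fun a c => f' (L a) (L c)
  have hf'' : Cfsg.Geo.IsUnitaryFormPow q₀ f'' := by
    refine ⟨?_, ?_, ?_, ?_⟩
    · intro a a' c
      show f' (L (a + a')) (L c) = _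
      rw [map_add, hf'.add_left]
    · intro z a c
      show f' (L (z • a)) (L c) = _
      rw [map_smul, hf'.smul_left]
    · intro a c
      exact hf'.herm _ _
    · intro v hv
      have hLv0 : L v ≠ 0 := fun h0 => hv (hLinj (by rw [h0, map_zero]))
      obtain ⟨w', hw', hne'⟩ := hnd (L v) (hLmem v) hLv0
      obtain ⟨a, rfl⟩ := hLsurj w' hw'
      refine ⟨⟨a, hne'⟩, ⟨a, ?_⟩⟩
      show f' (L v) (L a) ≠ 0
      rw [hf'.herm]
      exact pow_ne_zero _ hne'
  obtain ⟨P, hP⟩ := hstd d f'' hf''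
  -- the conjugate of `M` by `P` preserves the standard form
  have hMf : ∀ a c, f'' (M *ᵥ a) (M *ᵥ c) = f'' a c := by
    intro a c
    show f' (L (M *ᵥ a)) (L (M *ᵥ c)) = f' (L a) (L c)
    rw [hML, hML, hx]
  have hYmem : P⁻¹ * Mg * P ∈ Cfsg.GU d F q₀ := by
    intro u v
    show Cfsg.hermForm d F q₀ (((P⁻¹ * Mg * P : GL (Fin d) F) : Matrix (Fin d) (Fin d) F) *ᵥ u)
      (((P⁻¹ * Mg * P : GL (Fin d) F) : Matrix (Fin d) (Fin d) F) *ᵥ v) = Cfsg.hermForm d F q₀ u v
    rw [← hP, ← hP]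
    have hcoe : ∀ w : Fin d → F, (P : Matrix (Fin d) (Fin d) F) *ᵥ
        (((P⁻¹ * Mg * P : GL (Fin d) F) : Matrix (Fin d) (Fin d) F) *ᵥ w) =
        M *ᵥ ((P : Matrix (Fin d) (Fin d) F) *ᵥ w) := by
      intro w
      rw [Matrix.mulVec_mulVec, Matrix.mulVec_mulVec]
      congr 1
      have : ((P * (P⁻¹ * Mg * P) : GL (Fin d) F) : Matrix (Fin d) (Fin d) F) =
          ((Mg * P : GL (Fin d) F) : Matrix (Fin d) (Fin d) F) := by
        congr 1
        group
      simpa using this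
    rw [hcoe, hcoe, hMf]
  have hYr : (⟨P⁻¹ * Mg * P, hYmem⟩ : Cfsg.GU d F q₀) ^ r = 1 := by
    apply Subtype.ext
    show (P⁻¹ * Mg * P) ^ r = 1
    have hMgr : Mg ^ r = 1 := by
      apply Units.ext
      show M ^ r = 1
      exact hMr
    have hconj : ∀ j : ℕ, (P⁻¹ * Mg * P) ^ j = P⁻¹ * Mg ^ j * P := by
      intro j
      induction j with
      | zero => simp
      | succ j ih => rw [pow_succ, ih, pow_succ]; group
    rw [hconj, hMgr]
    group
  have hY1 : (⟨P⁻¹ * Mg * P, hYmem⟩ : Cfsg.GU d F q₀) ≠ 1 := by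
    intro h1
    have h2 : P⁻¹ * Mg * P = 1 := congrArg Subtype.val h1
    have h3 : Mg = 1 := by
      have : Mg = P * (P⁻¹ * Mg * P) * P⁻¹ := by group
      rw [this, h2]; group
    apply hM1
    have := congrArg (fun g : GL (Fin d) F => (g : Matrix (Fin d) (Fin d) F)) h3
    exact this
  have hord : orderOf (⟨P⁻¹ * Mg * P, hYmem⟩ : Cfsg.GU d F q₀) = r := orderOf_eq_prime hYr hY1
  rw [← hord]
  exact orderOf_dvd_natCard _

end Cfsg.Agent.S5982P.BLK2
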