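import Mathlib
import Cfsg.Prelude.Def_GeometricClasses
import Cfsg.Prelude.Def_Classical
import Cfsg.Prelude.Def_LieClassical
import Cfsg.Agent.Helper23.S5984Defs

set_option autoImplicit false
open scoped MatrixGroups Matrix

/-! # S5984 piece DTRANSV. -/

namespace Cfsg.Agent.S5984P

open Cfsg.Agent.S2644 Cfsg.Agent.Helper2.SUGen Cfsg.Agent.Helper28.UPair

/-- DTRANSV: a unitary transvection -/
theorem exists_transv {F : Type*} [Field F] [Fintype F] {p : ℕ} [Fact p.Prime] [CharP F p]
    {q n : ℕ} (hF : Fintype.card F = q ^ 2) (hn : 2 ≤ n) :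
    ∃ x : GL (Fin n) F, x ∈ Cfsg.GU n F q ⊓ Cfsg.Geo.specialLinear (Fin n) F ∧ x ^ p = 1 ∧
      kd (x : Matrix (Fin n) (Fin n) F) 1 = n - 1 := by
  classical
  obtain ⟨Dfr⟩ := frobOf hF
  have hp : p.Prime := Fact.out
  -- an isotropic vector
  have hnd : NonDeg q (⊤ : Submodule F (Fin n → F)) := by
    intro y _ hy
    exact h_nondeg Dfr (fun y' => hy y' trivial)
  obtain ⟨u, -, v, -, hu0, huu, -, -, -⟩ := exists_hyp_pair Dfr hnd
    (by rw [finrank_top, Module.finrank_fin_fun]; exact hn)
  obtain ⟨c, hc0, hc⟩ := exists_skew Dfr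
  set M : Matrix (Fin n) (Fin n) F := Cfsg.unitaryTransvection n q u c with hM
  have h0u : Cfsg.hermForm n F q (0 : Fin n → F) u = 0 := h_zero_left u
  have hMS : ∀ c' : F, Cfsg.unitaryTransvection n q u c' = Sg (q := q) u 0 c' :=
    fun c' => (Sg_zero Dfr u c').symm
  have hmul : ∀ c1 c2 : F, Cfsg.unitaryTransvection n q u c1 * Cfsg.unitaryTransvection n q u c2 =
      Cfsg.unitaryTransvection n q u (c1 + c2) := by
    intro c1 c2
    rw [hMS, hMS, hMS, Sg_mul Dfr u 0 0 c1 c2 huu h0u h0u, add_zero, h_zero_left, sub_zero]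
  have hpow : ∀ k : ℕ, M ^ k = Cfsg.unitaryTransvection n q u ((k : F) * c) := by
    intro k
    induction k with
    | zero =>
      rw [pow_zero, Nat.cast_zero, zero_mul]
      exact (Cfsg.Agent.S0781.T_zero_coeff u).symm
    | succ k ih =>
      rw [pow_succ, ih, hM, hmul]
      congr 1
      push_cast
      ring
  have hMp : M ^ p = 1 := by
    rw [hpow, CharP.cast_eq_zero F p, zero_mul]
    exact Cfsg.Agent.S0781.T_zero_coeff u
  have hpres : Pres (q := q) M := by
    rw [hM, hMS]
    refine Sg_pres Dfr u 0 c huu h0u ?_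
    rw [hc, h_zero_left]; ring
  have hdet : M.det = 1 := by
    rw [hM, hMS]
    exact Sg_det Dfr u 0 c huu h0u
  obtain ⟨k, hk⟩ : ∃ k, p = k + 1 := ⟨p - 1, by have := hp.pos; omega⟩
  let x : GL (Fin n) F := ⟨M, M ^ k, by rw [← pow_succ', ← hk, hMp], by rw [← pow_succ, ← hk, hMp]⟩
  refine ⟨x, ?_, ?_, ?_⟩
  · rw [Cfsg.Agent.Helper28.UM.mem_G_iff]
    exact ⟨hpres, hdet⟩
  · apply Units.ext
    rw [Units.val_pow_eq_pow_val, Units.val_one]
    exact hMp
  · show kd M 1 = n - 1
    have hE : Module.End.eigenspace (Matrix.toLin' M) 1 = perpL q (Submodule.span F {u}) := by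
      ext z
      rw [mem_eig, one_smul, hM, T_mulVec, mem_perpL]
      constructor
      · intro hz y hy
        obtain ⟨a, rfl⟩ := Submodule.mem_span_singleton.mp hy
        have h1 : (c * Cfsg.hermForm n F q z u) • u = 0 := by
          have := sub_eq_zero.mpr hz
          rwa [add_sub_cancel_left] at this
        rcases smul_eq_zero.mp h1 with h2 | h2
        · rcases mul_eq_zero.mp h2 with h3 | h3
          · exact absurd h3 hc0
          · rw [h_smul_right Dfr, h3, mul_zero]
        · exact absurd h2 hu0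
      · intro hz
        have := hz u (Submodule.subset_span rfl)
        rw [this, mul_zero, zero_smul, add_zero]
    rw [kd_def, hE]
    have h1 := finrank_perpL Dfr (Submodule.span F {u})
    rw [finrank_span_singleton hu0] at h1
    omega

end Cfsg.Agent.S5984P
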