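import Mathlib
import Cfsg.Prelude.Def_GeometricClasses
import Cfsg.Prelude.Def_Classical
import Cfsg.Prelude.Def_LieClassical
import Cfsg.Agent.Helper23.S5984Defs

set_option autoImplicit false
open scoped MatrixGroups Matrix

/-! # S5984 piece FIXEVEN. -/

namespace Cfsg.Agent.S5984P

open Cfsg.Agent.S2644 Cfsg.Agent.Helper2.SUGen Cfsg.Agent.Helper28.UPair

namespace FIXEVEN

variable {F : Type*} [Field F] {q n : ℕ}

/-- an isometry is injective -/
theorem pres_inj (Dfr : Frob F q) (y : Matrix (Fin n) (Fin n) F) (hy : Pres (q := q) y)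
    {v : Fin n → F} (hv : y *ᵥ v = 0) : v = 0 := by
  apply h_nondeg Dfr
  intro w
  rw [← hy v w, hv, h_zero_left]

/-- an isometry mapping a subspace into itself maps it onto itself -/
theorem surj_on (Dfr : Frob F q) (y : Matrix (Fin n) (Fin n) F) (hy : Pres (q := q) y)
    (A : Submodule F (Fin n → F)) (hA : ∀ a ∈ A, y *ᵥ a ∈ A) :
    ∀ a' ∈ A, ∃ a ∈ A, y *ᵥ a = a' := by
  let f : A →ₗ[F] A := (Matrix.toLin' y).restrict (fun a ha => by
    rw [Matrix.toLin'_apply]; exact hA a ha)
  have hinj : Function.Injective f := by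
    rw [← LinearMap.ker_eq_bot, LinearMap.ker_eq_bot']
    intro a ha
    have h1 : y *ᵥ (a : Fin n → F) = 0 := by
      have := congrArg Subtype.val ha
      simpa [f, LinearMap.restrict_apply] using this
    exact Subtype.ext (pres_inj Dfr y hy h1)
  have hsurj : Function.Surjective f := LinearMap.injective_iff_surjective.mp hinj
  intro a' ha'
  obtain ⟨a, ha⟩ := hsurj ⟨a', ha'⟩
  refine ⟨a, a.2, ?_⟩
  have := congrArg Subtype.val ha
  simpa [f, LinearMap.restrict_apply] using this

end FIXEVEN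

open FIXEVEN in
/-- FIXEVEN: an isometry fixing both members of a polar pair has even-dimensional eigenspaces for norm-one eigenvalues -/
theorem even_kd_of_fix {F : Type*} [Field F] [Fintype F] {q n : ℕ} (hF : Fintype.card F = q ^ 2)
    {A B : Submodule F (Fin n → F)} (hL : LP q A B) (y : Matrix (Fin n) (Fin n) F)
    (hy : Pres (q := q) y) (hA : ∀ a ∈ A, y *ᵥ a ∈ A) (hB : ∀ b ∈ B, y *ᵥ b ∈ B) (μ : F)
    (hμ : μ ^ (q + 1) = 1) : Even (kd y μ) := by
  classical
  obtain ⟨Dfr⟩ := frobOf hF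
  have hμ0 : μ ≠ 0 := by
    rintro rfl
    rw [zero_pow (by omega)] at hμ
    exact zero_ne_one hμ
  have hμσ : μ * Dfr.σ μ = 1 := by rw [Dfr.pow, ← pow_succ']; exact hμ
  set E := Module.End.eigenspace (Matrix.toLin' y) μ with hE
  -- E = (E ⊓ A) ⊕ (E ⊓ B)
  have hsup : E = (E ⊓ A) ⊔ (E ⊓ B) := by
    apply le_antisymm
    · intro v hv
      have hyv : y *ᵥ v = μ • v := (mem_eig y μ v).mp hv
      obtain ⟨a, ha, b, hb, rfl⟩ := hL.dec v
      rw [Matrix.mulVec_add, smul_add] at hyv
      have hz : y *ᵥ a - μ • a = μ • b - y *ᵥ b := by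
        have : y *ᵥ a + y *ᵥ b - (μ • a + μ • b) = 0 := sub_eq_zero.mpr hyv
        have h2 : y *ᵥ a - μ • a - (μ • b - y *ᵥ b) = 0 := by rw [← this]; abel
        exact sub_eq_zero.mp h2
      have hzA : y *ᵥ a - μ • a ∈ A := A.sub_mem (hA a ha) (A.smul_mem μ ha)
      have hzB : y *ᵥ a - μ • a ∈ B := by rw [hz]; exact B.sub_mem (B.smul_mem μ hb) (hB b hb)
      have hz0 := hL.disj Dfr hzA hzB
      have hya : y *ᵥ a = μ • a := sub_eq_zero.mp hz0
      have hyb : y *ᵥ b = μ • b := by
        rw [hz0] at hz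
        exact (sub_eq_zero.mp hz.symm).symm
      exact Submodule.add_mem_sup ⟨(mem_eig y μ a).mpr hya, ha⟩ ⟨(mem_eig y μ b).mpr hyb, hb⟩
    · exact sup_le inf_le_left inf_le_left
  have hinf : (E ⊓ A) ⊓ (E ⊓ B) = ⊥ := by
    rw [eq_bot_iff]
    rintro v ⟨⟨-, hvA⟩, ⟨-, hvB⟩⟩
    exact hL.disj Dfr hvA hvB
  have hdimE : Module.finrank F E = Module.finrank F (E ⊓ A : Submodule F (Fin n → F)) +
      Module.finrank F (E ⊓ B : Submodule F (Fin n → F)) := by
    have h1 := Submodule.finrank_sup_add_finrank_inf_eq (E ⊓ A) (E ⊓ B)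
    rw [hinf, finrank_bot, add_zero, ← hsup] at h1
    exact h1
  -- the image `U` of `A` under `y - μ`
  let f : (Fin n → F) →ₗ[F] (Fin n → F) := Matrix.toLin' y - μ • LinearMap.id
  have hf : ∀ v, f v = y *ᵥ v - μ • v := by
    intro v
    simp [f, Matrix.toLin'_apply]
  set U : Submodule F (Fin n → F) := A.map f with hU
  have hUA : U ≤ A := by
    rintro _ ⟨a, ha, rfl⟩
    rw [hf]
    exact A.sub_mem (hA a ha) (A.smul_mem μ ha)
  -- rank-nullity on `A`
  have hrn : Module.finrank F U + Module.finrank F (E ⊓ A : Submodule F (Fin n → F)) =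
      Module.finrank F A := by
    have h1 := LinearMap.finrank_range_add_finrank_ker (f.domRestrict A)
    have h2 : LinearMap.range (f.domRestrict A) = U := by
      ext v
      constructor
      · rintro ⟨a, rfl⟩
        exact ⟨a, a.2, rfl⟩
      · rintro ⟨a, ha, rfl⟩
        exact ⟨⟨a, ha⟩, rfl⟩
    have h3 : Module.finrank F (LinearMap.ker (f.domRestrict A)) =
        Module.finrank F (E ⊓ A : Submodule F (Fin n → F)) := by
      have h4 : (LinearMap.ker (f.domRestrict A)).map A.subtype = E ⊓ A := by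
        ext v
        constructor
        · rintro ⟨a, ha, rfl⟩
          have h5 : f (a : Fin n → F) = 0 := ha
          rw [hf, sub_eq_zero] at h5
          exact ⟨(mem_eig y μ _).mpr h5, a.2⟩
        · rintro ⟨hvE, hvA⟩
          refine ⟨⟨v, hvA⟩, ?_, rfl⟩
          show f v = 0
          rw [hf, sub_eq_zero]
          exact (mem_eig y μ v).mp hvE
      rw [← h4]
      exact (Submodule.finrank_map_subtype_eq A _).symm
    rw [h2, h3] at h1
    exact h1
  -- E ⊓ B = B ⊓ perpL U
  have hEB : (E ⊓ B : Submodule F (Fin n → F)) = perpL q U ⊓ B := by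
    ext b
    constructor
    · rintro ⟨hbE, hbB⟩
      refine ⟨?_, hbB⟩
      have hyb : y *ᵥ b = μ • b := (mem_eig y μ b).mp hbE
      rintro _ ⟨a, ha, rfl⟩
      rw [hf, h_sub_right Dfr, h_smul_right Dfr]
      -- h b (y a) = σ μ * h b a
      have h1 : Cfsg.hermForm n F q (y *ᵥ b) (y *ᵥ a) = Cfsg.hermForm n F q b a := hy b a
      rw [hyb, h_smul_left] at h1
      have h2 : Cfsg.hermForm n F q b (y *ᵥ a) = Dfr.σ μ * Cfsg.hermForm n F q b a := by
        rw [← h1, ← mul_assoc, mul_comm (Dfr.σ μ), hμσ, one_mul]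
      rw [h2, sub_self]
    · rintro ⟨hbU, hbB⟩
      refine ⟨?_, hbB⟩
      apply (mem_eig y μ b).mpr
      have hz : y *ᵥ b - μ • b ∈ B := B.sub_mem (hB b hbB) (B.smul_mem μ hbB)
      have hzA : y *ᵥ b - μ • b ∈ A := by
        apply hL.perp_mem Dfr
        intro a' ha'
        obtain ⟨a, ha, rfl⟩ := surj_on Dfr y hy A hA a' ha'
        have h1 : Cfsg.hermForm n F q b (f a) = 0 := hbU _ ⟨a, ha, rfl⟩
        rw [hf, h_sub_right Dfr, h_smul_right Dfr] at h1
        rw [h_sub_left, h_smul_left, hy b a]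
        have h2 : Cfsg.hermForm n F q b (y *ᵥ a) = Dfr.σ μ * Cfsg.hermForm n F q b a :=
          sub_eq_zero.mp h1
        rw [h2, ← mul_assoc, hμσ, one_mul, sub_self]
      exact sub_eq_zero.mp (hL.disj Dfr hzA hz)
  -- dimension of perpL U ⊓ B
  have hAperp : A ≤ perpL q U := by
    intro a ha u hu
    exact hL.isoA a ha u (hUA hu)
  have hmod : perpL q U = A ⊔ (perpL q U ⊓ B) := by
    apply le_antisymm
    · intro x hx
      obtain ⟨a, ha, b, hb, rfl⟩ := hL.dec x
      have hb' : b ∈ perpL q U := by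
        have := (perpL q U).sub_mem hx (hAperp ha)
        rwa [add_sub_cancel_left] at this
      exact Submodule.add_mem_sup ha ⟨hb', hb⟩
    · exact sup_le hAperp inf_le_left
  have hinf2 : A ⊓ (perpL q U ⊓ B) = ⊥ := by
    rw [eq_bot_iff]
    rintro v ⟨hvA, ⟨-, hvB⟩⟩
    exact hL.disj Dfr hvA hvB
  have hdim2 : Module.finrank F (perpL q U) = Module.finrank F A +
      Module.finrank F (perpL q U ⊓ B : Submodule F (Fin n → F)) := by
    have h1 := Submodule.finrank_sup_add_finrank_inf_eq A (perpL q U ⊓ B)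
    rw [hinf2, finrank_bot, add_zero, ← hmod] at h1
    exact h1
  have hperp := finrank_perpL Dfr U
  -- n = 2 * finrank A
  have hnA : n = 2 * Module.finrank F A := by
    have hA' : A ≤ perpL q A := fun a ha x hx => hL.isoA a ha x hx
    have hB' : B ≤ perpL q B := fun b hb x hx => hL.isoB b hb x hx
    have h1 := finrank_perpL Dfr A
    have h2 := finrank_perpL Dfr B
    have h3 := Submodule.finrank_mono hA'
    have h4 := Submodule.finrank_mono hB'
    have htop : A ⊔ B = ⊤ := by
      rw [eq_top_iff]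
      intro x _
      obtain ⟨a, ha, b, hb, rfl⟩ := hL.dec x
      exact Submodule.add_mem_sup ha hb
    have h5 := Submodule.finrank_sup_add_finrank_inf_eq A B
    rw [htop, finrank_top, Module.finrank_fin_fun] at h5
    have h6 : Module.finrank F (A ⊓ B : Submodule F (Fin n → F)) = 0 := by
      have : A ⊓ B = ⊥ := by
        rw [eq_bot_iff]
        rintro x ⟨hxA, hxB⟩
        exact hL.disj Dfr hxA hxB
      rw [this, finrank_bot]
    omega
  rw [kd_def, ← hE, hdimE, hEB]
  refine ⟨Module.finrank F (E ⊓ A : Submodule F (Fin n → F)), ?_⟩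
  omega

end Cfsg.Agent.S5984P
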