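import Mathlib
import Cfsg.Prelude.Def_GeometricClasses
import Cfsg.Prelude.Def_Classical
import Cfsg.Prelude.Def_LieClassical
import Cfsg.Agent.Helper23.S5984Defs
import Cfsg.Agent.Helper21.S5949CYCMAIN
import Cfsg.Agent.S0277

set_option autoImplicit false
open scoped MatrixGroups Matrix

/-! # S5984 piece GUELT. -/

namespace Cfsg.Agent.S5984P

open Cfsg.Agent.S2644 Cfsg.Agent.Helper2.SUGen Cfsg.Agent.Helper28.UPair

/-- GUELT: an element of order `r` of `GU_j(q)` without non-zero fixed vectors -/
theorem exists_gu_elt {F : Type*} [Field F] [Fintype F] {p : ℕ} [Fact p.Prime] [CharP F p] {q : ℕ}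
    (hF : Fintype.card F = q ^ 2) (r : ℕ) [Fact r.Prime] (hrp : r ≠ p) (hr2 : r ≠ 2) (j : ℕ)
    (hj : Odd j) (hi : orderOf (q : ZMod r) = 2 * j) :
    ∃ y : GL (Fin j) F, y ∈ Cfsg.GU j F q ∧ y ^ r = 1 ∧ kd (y : Matrix (Fin j) (Fin j) F) 1 = 0 := by
  classical
  have hr : r.Prime := Fact.out
  have hj1 : 1 ≤ j := hj.pos
  -- q ^ j = -1 in ZMod r
  have hq2j : (q : ZMod r) ^ (2 * j) = 1 := by rw [← hi]; exact pow_orderOf_eq_one _
  have hqj1 : (q : ZMod r) ^ j ≠ 1 := by
    intro h1
    have := orderOf_dvd_of_pow_eq_one h1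
    rw [hi] at this
    have := Nat.le_of_dvd (by omega) this
    omega
  have hqj : (q : ZMod r) ^ j = -1 := by
    have h1 : ((q : ZMod r) ^ j) ^ 2 = 1 := by rw [← pow_mul, mul_comm]; exact hq2j
    have h2 : ((q : ZMod r) ^ j - 1) * ((q : ZMod r) ^ j + 1) = 0 := by linear_combination h1
    rcases mul_eq_zero.mp h2 with h3 | h3
    · exact absurd (sub_eq_zero.mp h3) hqj1
    · exact eq_neg_of_add_eq_zero_left h3
  have hdvd : r ∣ q ^ j + 1 := by
    rw [← ZMod.natCast_eq_zero_iff]
    push_cast
    rw [hqj]; ring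
  -- r divides the order of GU_j(q)
  have hcard : r ∣ Nat.card (Cfsg.GU j F q) := by
    rw [Cfsg.Agent.S0277.result hF j]
    apply Dvd.dvd.mul_left
    have hmem : j - 1 ∈ Finset.range j := Finset.mem_range.mpr (by omega)
    refine dvd_trans ?_ (Finset.dvd_prod_of_mem _ hmem)
    have hev : Even (j - 1) := by
      obtain ⟨t, ht⟩ := hj
      exact ⟨t, by omega⟩
    rw [if_pos hev, Nat.sub_add_cancel hj1]
    exact hdvd
  obtain ⟨g, hg⟩ := exists_prime_orderOf_dvd_card' r hcard
  refine ⟨(g : GL (Fin j) F), g.2, ?_, ?_⟩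
  · have h1 : g ^ r = 1 := by rw [← hg]; exact pow_orderOf_eq_one g
    have := congrArg Subtype.val h1
    simpa using this
  · -- the fixed space
    have hgr : ((g : GL (Fin j) F) : Matrix (Fin j) (Fin j) F) ^ r = 1 := by
      have h1 : g ^ r = 1 := by rw [← hg]; exact pow_orderOf_eq_one g
      have h2 := congrArg (fun x : Cfsg.GU j F q => ((x : GL (Fin j) F) : Matrix (Fin j) (Fin j) F)) h1
      simpa using h2
    set f : Module.End F (Fin j → F) := Matrix.toLin' ((g : GL (Fin j) F) : Matrix (Fin j) (Fin j) F)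
      with hf
    have hfr : f ^ r = 1 := by
      rw [hf, ← Matrix.toLin'_pow, hgr, Matrix.toLin'_one]; rfl
    obtain ⟨hmain, -, -⟩ := Cfsg.Agent.S5949P.cyc_main (p := p) r hrp f hfr
    have hord : orderOf ((Fintype.card F : ℕ) : ZMod r) = j := by
      rw [hF]
      push_cast
      rw [orderOf_pow' _ (by norm_num), hi]
      simp
    rw [hord, Module.finrank_fin_fun] at hmain
    have hker : LinearMap.ker (f - 1) = Module.End.eigenspace f 1 := by
      ext v
      rw [Module.End.mem_eigenspace_iff, LinearMap.mem_ker, LinearMap.sub_apply, sub_eq_zero,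
        one_smul]
      rfl
    rw [hker] at hmain
    rw [kd_def, ← hf]
    set d := Module.finrank F (Module.End.eigenspace f 1) with hd
    have hdle : d ≤ j := by
      have := Submodule.finrank_le (Module.End.eigenspace f 1)
      rwa [Module.finrank_fin_fun] at this
    by_contra hd0
    have hjd : j - d = 0 := by
      by_contra hne
      have := Nat.le_of_dvd (by omega) hmain
      omega
    have hdj : d = j := by omega
    -- then the eigenspace is everything, so g = 1
    have htop : Module.End.eigenspace f 1 = ⊤ := by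
      apply Submodule.eq_top_of_finrank_eq
      rw [Module.finrank_fin_fun, ← hd, hdj]
    have hf1 : f = 1 := by
      refine LinearMap.ext fun v => ?_
      have hv : v ∈ Module.End.eigenspace f 1 := by rw [htop]; trivial
      rw [Module.End.mem_eigenspace_iff, one_smul] at hv
      rw [hv]; rfl
    have hg1 : ((g : GL (Fin j) F) : Matrix (Fin j) (Fin j) F) = 1 := by
      apply Matrix.toLin'.injective
      rw [← hf, hf1, Matrix.toLin'_one]; rfl
    have hg1' : g = 1 := by
      apply Subtype.ext
      apply Units.ext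
      exact hg1
    rw [hg1', orderOf_one] at hg
    exact hr.one_lt.ne' hg.symm

end Cfsg.Agent.S5984P
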