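import Mathlib
import Cfsg.Prelude.Def_GeometricClasses
import Cfsg.Prelude.Def_Classical
import Cfsg.Prelude.Def_LieClassical
import Cfsg.Agent.Helper23.S5984Defs

set_option autoImplicit false
open scoped MatrixGroups Matrix

/-! # S5984 pieces SWAPSMALL and LPDIM. -/

namespace Cfsg.Agent.S5984P

open Cfsg.Agent.S2644 Cfsg.Agent.Helper2.SUGen Cfsg.Agent.Helper28.UPair

/-- SWAPSMALL: an invertible matrix mapping `A` into `B` (polar pair) has small eigenspaces -/
theorem kd_add_le_of_swap {F : Type*} [Field F] [Fintype F] {q n : ℕ} (hF : Fintype.card F = q ^ 2)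
    {A B : Submodule F (Fin n → F)} (hL : LP q A B) (y : GL (Fin n) F)
    (hA : ∀ a ∈ A, (y : Matrix (Fin n) (Fin n) F) *ᵥ a ∈ B) (μ : F) :
    kd (y : Matrix (Fin n) (Fin n) F) μ + Module.finrank F A ≤ n := by
  classical
  obtain ⟨Dfr⟩ := frobOf hF
  set E := Module.End.eigenspace (Matrix.toLin' (y : Matrix (Fin n) (Fin n) F)) μ with hE
  have hdisj : E ⊓ A = ⊥ := by
    rw [eq_bot_iff]
    rintro a ⟨haE, haA⟩
    have hya : (y : Matrix (Fin n) (Fin n) F) *ᵥ a = μ • a := (mem_eig _ μ a).mp haE
    have hyB := hA a haA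
    by_cases hμ : μ = 0
    · rw [hμ, zero_smul] at hya
      have := gl_inv_mulVec y a
      rw [hya, Matrix.mulVec_zero] at this
      exact this.symm
    · have haB : a ∈ B := by
        have := B.smul_mem μ⁻¹ hyB
        rwa [hya, smul_smul, inv_mul_cancel₀ hμ, one_smul] at this
      exact hL.disj Dfr haA haB
  have h1 := Submodule.finrank_sup_add_finrank_inf_eq E A
  rw [hdisj, finrank_bot, add_zero] at h1
  have h2 : Module.finrank F (E ⊔ A : Submodule F (Fin n → F)) ≤ n := by
    have := Submodule.finrank_le (E ⊔ A)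
    rwa [Module.finrank_fin_fun] at this
  rw [kd_def, ← hE]
  omega

/-- LPDIM: both members of a polar pair have dimension `n / 2` -/
theorem lp_finrank {F : Type*} [Field F] [Fintype F] {q n : ℕ} (hF : Fintype.card F = q ^ 2)
    {A B : Submodule F (Fin n → F)} (hL : LP q A B) (k : ℕ) (hn : n = 2 * k) :
    Module.finrank F A = k ∧ Module.finrank F B = k := by
  classical
  obtain ⟨Dfr⟩ := frobOf hF
  have hA : A ≤ perpL q A := fun a ha x hx => hL.isoA a ha x hx
  have hB : B ≤ perpL q B := fun b hb x hx => hL.isoB b hb x hx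
  have h1 := finrank_perpL Dfr A
  have h2 := finrank_perpL Dfr B
  have h3 := Submodule.finrank_mono hA
  have h4 := Submodule.finrank_mono hB
  have htop : A ⊔ B = ⊤ := by
    rw [eq_top_iff]
    intro x _
    obtain ⟨a, ha, b, hb, rfl⟩ := hL.dec x
    exact Submodule.add_mem_sup ha hb
  have h5 := Submodule.finrank_sup_add_finrank_inf_eq A B
  rw [htop, finrank_top, Module.finrank_fin_fun] at h5
  have h6 : Module.finrank F (A ⊓ B : Submodule F (Fin n → F)) = 0 := by
    have : A ⊓ B = ⊥ := by
      rw [eq_bot_iff]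
      rintro x ⟨hxA, hxB⟩
      exact hL.disj Dfr hxA hxB
    rw [this, finrank_bot]
  omega

end Cfsg.Agent.S5984P
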