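import Mathlib
import Cfsg.Prelude.Def_GeometricClasses
import Cfsg.Prelude.Def_Classical
import Cfsg.Prelude.Def_LieClassical
import Cfsg.Agent.Helper23.S5984Defs
import Cfsg.Agent.Helper6.S5984EMB
import Cfsg.Agent.Helper2.UnitarySU

set_option autoImplicit false
open scoped MatrixGroups Matrix

/-! # S5984 piece IDXGRP. -/

namespace Cfsg.Agent.S5984P

open Cfsg.Agent.S2644 Cfsg.Agent.Helper2.SUGen Cfsg.Agent.Helper28.UPair

namespace IDXGRP

/-- a subgroup of the units of a finite field, all of whose elements are killed by `N`, has order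
dividing `N` -/
theorem card_dvd_of_pow_eq_one {F : Type*} [Field F] [Finite F] (R : Subgroup Fˣ) (N : ℕ)
    (hR : ∀ δ ∈ R, δ ^ N = 1) : Nat.card R ∣ N := by
  classical
  have : IsCyclic R := inferInstance
  obtain ⟨g, hg⟩ := IsCyclic.exists_generator (α := R)
  have h1 : orderOf g = Nat.card R := orderOf_eq_card_of_forall_mem_zpowers hg
  rw [← h1]
  apply orderOf_dvd_of_pow_eq_one
  apply Subtype.ext
  rw [Subgroup.coe_pow, Subgroup.coe_one]
  exact hR g g.2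

end IDXGRP

open IDXGRP in
/-- IDXGRP: the index of the stabilizer, up to the factor `q + 1` -/
theorem index_mul_dvd {F : Type*} [Field F] [Fintype F] {q n : ℕ} (hF : Fintype.card F = q ^ 2)
    (k : ℕ) (hn : n = 2 * k) (D : Fin 2 → Submodule F (Fin n → F))
    (hD : Cfsg.Geo.IsMDecomposition k D)
    (hDs : ∀ i, Cfsg.Geo.IsTotallySingularFor (Cfsg.hermForm n F q) (D i)) :
    Nat.card (GL (Fin k) F) * (Cfsg.Geo.decompositionStabilizer D).relIndex
        (Cfsg.GU n F q ⊓ Cfsg.Geo.specialLinear (Fin n) F) ∣ Nat.card (Cfsg.GU n F q) * (q + 1) := by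
  classical
  set S := Cfsg.Geo.decompositionStabilizer D with hS
  set GU := Cfsg.GU n F q with hGU
  set SL := Cfsg.Geo.specialLinear (Fin n) F with hSL
  have hL : LP q (D 0) (D 1) := lp_of_decomp D hD hDs
  obtain ⟨φ, hφinj, hφ⟩ := exists_gl_embedding hF k hn hL
  -- (a) |GL_k| divides |S ⊓ GU|
  have ha : Nat.card (GL (Fin k) F) ∣ Nat.card (S ⊓ GU : Subgroup (GL (Fin n) F)) := by
    have hle : φ.range ≤ S ⊓ GU := by
      rintro _ ⟨M, rfl⟩
      obtain ⟨hP, h0, h1⟩ := hφ M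
      exact ⟨mem_stab_of_fix D hD.finrank_eq _ h0 h1, fun u v => hP u v⟩
    have h1 := Subgroup.card_dvd_of_le hle
    have h2 : Nat.card φ.range = Nat.card (GL (Fin k) F) :=
      (Nat.card_congr (MonoidHom.ofInjective hφinj).toEquiv).symm
    rwa [h2] at h1
  -- (b) |S ⊓ GU| divides |S ⊓ GU ⊓ SL| * (q + 1)
  have hb : Nat.card (S ⊓ GU : Subgroup (GL (Fin n) F)) ∣
      Nat.card (S ⊓ GU ⊓ SL : Subgroup (GL (Fin n) F)) * (q + 1) := by
    have h1 := Subgroup.relIndex_mul_relIndex (⊥ : Subgroup (GL (Fin n) F)) (S ⊓ GU ⊓ SL) (S ⊓ GU)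
      bot_le inf_le_left
    rw [Subgroup.relIndex_bot_left, Subgroup.relIndex_bot_left] at h1
    rw [← h1]
    apply Nat.mul_dvd_mul_left
    rw [inf_comm (S ⊓ GU) SL, Subgroup.inf_relIndex_right, hSL, Cfsg.Geo.specialLinear,
      Subgroup.relIndex_ker]
    apply card_dvd_of_pow_eq_one
    rintro _ ⟨g, hg, rfl⟩
    exact Cfsg.Agent.Helper2.Herm.det_pow_eq_one hF hg.2
  -- (c) relIndex * |S ⊓ G| = |G|
  have hc : Nat.card (S ⊓ (GU ⊓ SL) : Subgroup (GL (Fin n) F)) * S.relIndex (GU ⊓ SL) =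
      Nat.card (GU ⊓ SL : Subgroup (GL (Fin n) F)) := by
    have h1 := Subgroup.relIndex_mul_relIndex (⊥ : Subgroup (GL (Fin n) F)) (S ⊓ (GU ⊓ SL)) (GU ⊓ SL)
      bot_le inf_le_right
    rw [Subgroup.relIndex_bot_left, Subgroup.relIndex_bot_left, Subgroup.inf_relIndex_right] at h1
    exact h1
  -- (d) |G| divides |GU|
  have hd : Nat.card (GU ⊓ SL : Subgroup (GL (Fin n) F)) ∣ Nat.card GU :=
    Subgroup.card_dvd_of_le inf_le_left
  have hassoc : (S ⊓ GU ⊓ SL : Subgroup (GL (Fin n) F)) = S ⊓ (GU ⊓ SL) := inf_assoc _ _ _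
  rw [hassoc] at hb
  calc Nat.card (GL (Fin k) F) * S.relIndex (GU ⊓ SL)
      ∣ Nat.card (S ⊓ GU : Subgroup (GL (Fin n) F)) * S.relIndex (GU ⊓ SL) :=
        Nat.mul_dvd_mul_right ha _
    _ ∣ (Nat.card (S ⊓ (GU ⊓ SL) : Subgroup (GL (Fin n) F)) * (q + 1)) * S.relIndex (GU ⊓ SL) :=
        Nat.mul_dvd_mul_right hb _
    _ = Nat.card (GU ⊓ SL : Subgroup (GL (Fin n) F)) * (q + 1) := by rw [← hc]; ring
    _ ∣ Nat.card GU * (q + 1) := Nat.mul_dvd_mul_right hd _

end Cfsg.Agent.S5984P
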