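import Mathlib
import Cfsg.Prelude.Def_GeometricClasses
import Cfsg.Prelude.Def_Classical
import Cfsg.Prelude.Def_LieClassical
import Cfsg.Agent.Helper23.S5984Defs
import Cfsg.Agent.S0277

set_option autoImplicit false
open scoped MatrixGroups Matrix

/-! # S5984 piece IDXNT. -/

namespace Cfsg.Agent.S5984P

open Cfsg.Agent.S2644 Cfsg.Agent.Helper2.SUGen Cfsg.Agent.Helper28.UPair

namespace IDXNT

/-- splitting a product over `range (2k)` into even and odd indices -/
theorem prod_range_two_mul (t : ℕ → ℕ) (k : ℕ) :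
    ∏ i ∈ Finset.range (2 * k), t i = ∏ l ∈ Finset.range k, (t (2 * l) * t (2 * l + 1)) := by
  induction k with
  | zero => simp
  | succ k ih =>
    rw [show 2 * (k + 1) = 2 * k + 1 + 1 by ring, Finset.prod_range_succ, Finset.prod_range_succ,
      ih, Finset.prod_range_succ, mul_assoc]

/-- the product `∏ (Q^(l+1) - 1)` divides the order of `GL_k` -/
theorem prod_dvd_card_GL (Q k : ℕ) :
    ∏ l ∈ Finset.range k, (Q ^ (l + 1) - 1) ∣ ∏ i : Fin k, (Q ^ k - Q ^ (i : ℕ)) := by
  rw [Fin.prod_univ_eq_prod_range (fun i => Q ^ k - Q ^ i) k,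
    ← Finset.prod_range_reflect (fun i => Q ^ k - Q ^ i) k]
  apply Finset.prod_dvd_prod_of_dvd
  intro l hl
  rw [Finset.mem_range] at hl
  have h1 : Q ^ k = Q ^ (k - 1 - l) * Q ^ (l + 1) := by
    rw [← pow_add]; congr 1; omega
  have h2 : Q ^ k - Q ^ (k - 1 - l) = Q ^ (k - 1 - l) * (Q ^ (l + 1) - 1) := by
    rw [Nat.mul_sub, mul_one, ← h1]
  rw [h2]
  exact Dvd.intro_left _ rfl

end IDXNT

open IDXNT in
/-- IDXNT: the primes dividing the index -/
theorem exists_odd_of_dvd {F : Type*} [Field F] [Fintype F] {p : ℕ} [Fact p.Prime] [CharP F p]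
    {q n : ℕ} (hF : Fintype.card F = q ^ 2) (k : ℕ) (hn : n = 2 * k) (r : ℕ) [Fact r.Prime]
    (hrp : r ≠ p) (hr2 : r ≠ 2) (hrq : ¬ r ∣ q + 1) (m : ℕ) (hm : r ∣ m)
    (hdvd : Nat.card (GL (Fin k) F) * m ∣ Nat.card (Cfsg.GU n F q) * (q + 1)) :
    ∃ j : ℕ, Odd j ∧ j < n ∧ orderOf (q : ZMod r) = 2 * j := by
  classical
  have hr : r.Prime := Fact.out
  have hp : p.Prime := Fact.out
  have hq2 : 2 ≤ q := by
    have h1 : 1 < Fintype.card F := Fintype.one_lt_card
    rw [hF] at h1
    by_contra hlt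
    have : q ≤ 1 := by omega
    have : q ^ 2 ≤ 1 := by
      calc q ^ 2 ≤ 1 ^ 2 := Nat.pow_le_pow_left this 2
        _ = 1 := one_pow 2
    omega
  set Q := q ^ 2 with hQ
  set P := ∏ l ∈ Finset.range k, (Q ^ (l + 1) - 1) with hP
  set O := ∏ l ∈ Finset.range k, (q ^ (2 * l + 1) + 1) with hO
  have hPpos : 0 < P := by
    apply Finset.prod_pos
    intro l _
    have : 1 < Q ^ (l + 1) := Nat.one_lt_pow (by omega) (by rw [hQ]; nlinarith)
    omega
  -- the order of GL_k
  have hGL : P ∣ Nat.card (GL (Fin k) F) := by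
    rw [Matrix.card_GL_field, hF]
    exact prod_dvd_card_GL Q k
  obtain ⟨C, hC⟩ := hGL
  -- the order of GU_n
  have hGU : Nat.card (Cfsg.GU n F q) = q ^ (n * (n - 1) / 2) * (O * P) := by
    rw [Cfsg.Agent.S0277.result hF n, hn, prod_range_two_mul, Finset.prod_mul_distrib]
    congr 2
    · apply Finset.prod_congr rfl
      intro l _
      rw [if_pos (by exact ⟨l, by ring⟩)]
    · apply Finset.prod_congr rfl
      intro l _
      have hodd : ¬ Even (2 * l + 1) := by
        rw [Nat.not_even_iff_odd]; exact ⟨l, rfl⟩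
      rw [if_neg hodd, hQ, ← pow_mul]
      congr 2
  rw [hC, hGU] at hdvd
  have h1 : P * (C * m) ∣ P * (q ^ (n * (n - 1) / 2) * O * (q + 1)) := by
    have e1 : P * C * m = P * (C * m) := by ring
    have e2 : q ^ (n * (n - 1) / 2) * (O * P) * (q + 1) =
        P * (q ^ (n * (n - 1) / 2) * O * (q + 1)) := by ring
    rw [← e1, ← e2]; exact hdvd
  have h2 : C * m ∣ q ^ (n * (n - 1) / 2) * O * (q + 1) := Nat.dvd_of_mul_dvd_mul_left hPpos h1
  have h3 : r ∣ q ^ (n * (n - 1) / 2) * O * (q + 1) :=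
    dvd_trans hm (dvd_trans (Dvd.intro_left C rfl) h2)
  rcases (Nat.Prime.dvd_mul hr).mp h3 with h4 | h4
  swap
  · exact absurd h4 hrq
  rcases (Nat.Prime.dvd_mul hr).mp h4 with h5 | h5
  · -- r ∣ q: impossible
    exfalso
    have h6 : r ∣ q := hr.dvd_of_dvd_pow h5
    obtain ⟨f, hp', hcard⟩ := FiniteField.card F p
    have h7 : r ∣ p ^ (f : ℕ) := by
      rw [← hcard, hF]
      exact dvd_pow h6 (by norm_num)
    have h8 : r ∣ p := hr.dvd_of_dvd_pow h7
    exact hrp ((Nat.prime_dvd_prime_iff_eq hr hp).mp h8)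
  · -- r ∣ q ^ (2 l + 1) + 1 for some l < k
    rw [hO] at h5
    obtain ⟨l, hl, hrl⟩ := (Prime.dvd_finsetProd_iff hr.prime _).mp h5
    rw [Finset.mem_range] at hl
    set j' := 2 * l + 1 with hj'
    have hqj : (q : ZMod r) ^ j' = -1 := by
      have : ((q ^ j' + 1 : ℕ) : ZMod r) = 0 := (ZMod.natCast_eq_zero_iff _ _).mpr hrl
      push_cast at this
      exact eq_neg_of_add_eq_zero_left this
    have hne : (-1 : ZMod r) ≠ 1 := by
      intro h
      have h2' : ((2 : ℕ) : ZMod r) = 0 := by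
        push_cast
        linear_combination -h
      have := (ZMod.natCast_eq_zero_iff _ _).mp h2'
      have := (Nat.prime_dvd_prime_iff_eq hr Nat.prime_two).mp this
      exact hr2 this
    set o := orderOf (q : ZMod r) with ho
    have ho2 : o ∣ 2 * j' := by
      apply orderOf_dvd_of_pow_eq_one
      rw [mul_comm, pow_mul, hqj]; norm_num
    have hoj : ¬ o ∣ j' := by
      intro h
      obtain ⟨c, hc⟩ := h
      have : (q : ZMod r) ^ j' = 1 := by rw [hc, pow_mul, ho, pow_orderOf_eq_one, one_pow]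
      rw [hqj] at this
      exact hne this
    have hoe : Even o := by
      by_contra hodd
      rw [Nat.not_even_iff_odd] at hodd
      have hcop : Nat.Coprime o 2 := Nat.coprime_two_right.mpr hodd
      exact hoj (hcop.dvd_of_dvd_mul_left ho2)
    obtain ⟨j, hj⟩ := hoe
    have hj2 : o = 2 * j := by omega
    have hjj' : j ∣ j' := by
      rw [hj2] at ho2
      exact Nat.dvd_of_mul_dvd_mul_left (by norm_num) ho2
    have hjodd : Odd j := by
      have hj'odd : Odd j' := ⟨l, rfl⟩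
      exact Odd.of_dvd_nat hj'odd hjj'
    have hjle : j ≤ j' := Nat.le_of_dvd (by omega) hjj'
    exact ⟨j, hjodd, by omega, hj2⟩

end Cfsg.Agent.S5984P
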