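import Mathlib
import Cfsg.Prelude.Def_GeometricClasses
import Cfsg.Prelude.Def_Classical
import Cfsg.Prelude.Def_LieClassical
import Cfsg.Agent.Helper23.S5984Defs

set_option autoImplicit false
open scoped MatrixGroups Matrix

/-! # S5984 pieces KERCONJ and ODDFIX. -/

namespace Cfsg.Agent.S5984P

open Cfsg.Agent.S2644 Cfsg.Agent.Helper2.SUGen Cfsg.Agent.Helper28.UPair

/-- KERCONJ: eigenspace dimensions are conjugation invariant -/
theorem kd_conj {F : Type*} [Field F] {n : ℕ} (x g : GL (Fin n) F) (μ : F) :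
    kd ((g⁻¹ * x * g : GL (Fin n) F) : Matrix (Fin n) (Fin n) F) μ =
      kd (x : Matrix (Fin n) (Fin n) F) μ := by
  classical
  rw [kd_def, kd_def]
  -- the linear equivalence given by `g`
  let e : (Fin n → F) ≃ₗ[F] (Fin n → F) :=
    LinearEquiv.ofLinearMap (Matrix.toLin' (g : Matrix (Fin n) (Fin n) F))
      (Matrix.toLin' ((g⁻¹ : GL (Fin n) F) : Matrix (Fin n) (Fin n) F))
      (by
        rw [← Matrix.toLin'_mul, ← Units.val_mul, mul_inv_cancel, Units.val_one, Matrix.toLin'_one])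
      (by
        rw [← Matrix.toLin'_mul, ← Units.val_mul, inv_mul_cancel, Units.val_one, Matrix.toLin'_one])
  have hmap : (Module.End.eigenspace (Matrix.toLin'
      ((g⁻¹ * x * g : GL (Fin n) F) : Matrix (Fin n) (Fin n) F)) μ).map (e : (Fin n → F) →ₗ[F] (Fin n → F)) =
      Module.End.eigenspace (Matrix.toLin' (x : Matrix (Fin n) (Fin n) F)) μ := by
    ext v
    constructor
    · rintro ⟨w, hw, rfl⟩
      have hw' := (mem_eig _ μ w).mp hw
      rw [mem_eig]
      show (x : Matrix (Fin n) (Fin n) F) *ᵥ (Matrix.toLin' (g : Matrix (Fin n) (Fin n) F) w) =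
        μ • (Matrix.toLin' (g : Matrix (Fin n) (Fin n) F) w)
      rw [Matrix.toLin'_apply, ← Matrix.mulVec_smul, ← hw', Matrix.mulVec_mulVec, Matrix.mulVec_mulVec]
      congr 1
      rw [← Units.val_mul, ← Units.val_mul]
      congr 1
      group
    · intro hv
      rw [mem_eig] at hv
      refine ⟨((g⁻¹ : GL (Fin n) F) : Matrix (Fin n) (Fin n) F) *ᵥ v, ?_, ?_⟩
      · rw [SetLike.mem_coe, mem_eig, Units.val_mul, Units.val_mul, ← Matrix.mulVec_mulVec,
          ← Matrix.mulVec_mulVec, gl_mulVec_inv, hv, Matrix.mulVec_smul]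
      · show Matrix.toLin' (g : Matrix (Fin n) (Fin n) F) _ = v
        rw [Matrix.toLin'_apply, gl_mulVec_inv]
  rw [← hmap]
  exact (LinearEquiv.finrank_map_eq e _).symm

/-- ODDFIX: an element of odd order of the stabilizer of a pair fixes both members -/
theorem fix_of_odd {F : Type*} [Field F] {n : ℕ} (D : Fin 2 → Submodule F (Fin n → F))
    (hne : D 0 ≠ D 1) (y : GL (Fin n) F) (hy : y ∈ Cfsg.Geo.decompositionStabilizer D) (r : ℕ)
    (hr : Odd r) (hyr : y ^ r = 1) :
    (∀ a ∈ D 0, (y : Matrix (Fin n) (Fin n) F) *ᵥ a ∈ D 0) ∧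
      (∀ b ∈ D 1, (y : Matrix (Fin n) (Fin n) F) *ᵥ b ∈ D 1) := by
  rcases mem_stab_cases D y hy with hfix | ⟨h0, h1⟩
  · exact hfix
  exfalso
  -- odd powers of `y` swap, even powers fix
  have hpow : ∀ j : ℕ, ((∀ a ∈ D 0, ((y ^ (2 * j) : GL (Fin n) F) : Matrix (Fin n) (Fin n) F) *ᵥ a ∈ D 0) ∧
      (∀ b ∈ D 1, ((y ^ (2 * j) : GL (Fin n) F) : Matrix (Fin n) (Fin n) F) *ᵥ b ∈ D 1)) := by
    intro j
    induction j with
    | zero =>
      simp
    | succ j ih =>
      have he : y ^ (2 * (j + 1)) = y * (y * y ^ (2 * j)) := by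
        rw [← pow_succ', ← pow_succ']
        congr 1
      constructor
      · intro a ha
        rw [he, Units.val_mul, Units.val_mul, ← Matrix.mulVec_mulVec, ← Matrix.mulVec_mulVec]
        exact h1 _ (h0 _ (ih.1 a ha))
      · intro b hb
        rw [he, Units.val_mul, Units.val_mul, ← Matrix.mulVec_mulVec, ← Matrix.mulVec_mulVec]
        exact h0 _ (h1 _ (ih.2 b hb))
  obtain ⟨j, hj⟩ := hr
  have hodd0 : ∀ a ∈ D 0, ((y ^ r : GL (Fin n) F) : Matrix (Fin n) (Fin n) F) *ᵥ a ∈ D 1 := by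
    intro a ha
    have he : y ^ r = y * y ^ (2 * j) := by rw [hj, pow_succ']
    rw [he, Units.val_mul, ← Matrix.mulVec_mulVec]
    exact h0 _ ((hpow j).1 a ha)
  have hodd1 : ∀ b ∈ D 1, ((y ^ r : GL (Fin n) F) : Matrix (Fin n) (Fin n) F) *ᵥ b ∈ D 0 := by
    intro b hb
    have he : y ^ r = y * y ^ (2 * j) := by rw [hj, pow_succ']
    rw [he, Units.val_mul, ← Matrix.mulVec_mulVec]
    exact h1 _ ((hpow j).2 b hb)
  apply hne
  apply le_antisymm
  · intro a ha
    have := hodd0 a ha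
    rwa [hyr, Units.val_one, Matrix.one_mulVec] at this
  · intro b hb
    have := hodd1 b hb
    rwa [hyr, Units.val_one, Matrix.one_mulVec] at this

end Cfsg.Agent.S5984P
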