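import Mathlib
import Cfsg.Prelude.Def_GeometricClasses
import Cfsg.Prelude.Def_Classical
import Cfsg.Prelude.Def_LieClassical
import Cfsg.Agent.Helper23.S5984Defs
import Cfsg.Agent.Helper23.S5984KERCONJ
import Cfsg.Agent.Helper23.S5984SWAPSMALL
import Cfsg.Agent.Helper23.S5984FIXEVEN
import Cfsg.Agent.Helper23.S5984GUELT
import Cfsg.Agent.Helper23.S5984DTRANSV
import Cfsg.Agent.Helper23.S5984IDXNT
import Cfsg.Agent.Helper23.S5984IDXGRP
import Cfsg.Agent.Helper23.S5984DBLOCK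
import Cfsg.Agent.Helper13.S5984EIG2
import Cfsg.Agent.Helper13.S5984HYPDEC
import Cfsg.Agent.Helper13.S5984POSB
import Cfsg.Agent.Helper8.S5984NTREFL
import Cfsg.Agent.Helper6.S5984TRANS
import Cfsg.Agent.Helper23.S5984DREFL
import Cfsg.Agent.Helper15.S5984DDIAG
import Cfsg.Agent.Helper13.S5984DETEIG
import Cfsg.Agent.Helper13.S5984POSA

set_option autoImplicit false
open scoped MatrixGroups Matrix

/-! # S5984: the derangement criterion and the final assembly. -/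

namespace Cfsg.Agent.S5984P

open Cfsg.Agent.S2644 Cfsg.Agent.Helper2.SUGen Cfsg.Agent.Helper28.UPair

namespace ASM

variable {F : Type*} [Field F] {q n : ℕ}

theorem pres_of_mem_GU (g : GL (Fin n) F) (hg : g ∈ Cfsg.GU n F q) :
    Pres (q := q) (g : Matrix (Fin n) (Fin n) F) := fun x y => hg x y

theorem mem_GU_of_pres (g : GL (Fin n) F) (hg : Pres (q := q) (g : Matrix (Fin n) (Fin n) F)) :
    g ∈ Cfsg.GU n F q := fun x y => hg x y

/-- DER: the derangement criterion -/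
theorem not_conj_mem [Fintype F] (hF : Fintype.card F = q ^ 2) (k : ℕ) (hn : n = 2 * k)
    (D : Fin 2 → Submodule F (Fin n → F)) (hD : Cfsg.Geo.IsMDecomposition k D)
    (hDs : ∀ i, Cfsg.Geo.IsTotallySingularFor (Cfsg.hermForm n F q) (D i))
    (x g : GL (Fin n) F) (hx : x ∈ Cfsg.GU n F q) (hg : g ∈ Cfsg.GU n F q)
    (μ : F) (hμ : μ ^ (q + 1) = 1) (hodd : Odd (kd (x : Matrix (Fin n) (Fin n) F) μ))
    (hcase : (∃ r : ℕ, Odd r ∧ x ^ r = 1) ∨ k < kd (x : Matrix (Fin n) (Fin n) F) μ) :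
    g⁻¹ * x * g ∉ Cfsg.Geo.decompositionStabilizer D := by
  intro hmem
  obtain ⟨Dfr⟩ := frobOf hF
  have hL : LP q (D 0) (D 1) := lp_of_decomp D hD hDs
  have hyGU : g⁻¹ * x * g ∈ Cfsg.GU n F q :=
    (Cfsg.GU n F q).mul_mem ((Cfsg.GU n F q).mul_mem ((Cfsg.GU n F q).inv_mem hg) hx) hg
  have hyP := pres_of_mem_GU _ hyGU
  have hkd := kd_conj x g μ
  have hfixcase : ((∀ a ∈ D 0, ((g⁻¹ * x * g : GL (Fin n) F) : Matrix (Fin n) (Fin n) F) *ᵥ a ∈ D 0) ∧
      (∀ b ∈ D 1, ((g⁻¹ * x * g : GL (Fin n) F) : Matrix (Fin n) (Fin n) F) *ᵥ b ∈ D 1)) → False := by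
    rintro ⟨h0, h1⟩
    have he := even_kd_of_fix hF hL _ hyP h0 h1 μ hμ
    rw [hkd] at he
    exact (Nat.not_even_iff_odd.mpr hodd) he
  have hne : D 0 ≠ D 1 := by
    intro heq
    have hpos : 0 < Module.finrank F (D 0) := by rw [hD.finrank_eq 0]; exact hD.pos
    obtain ⟨v, hv⟩ := Module.finrank_pos_iff_exists_ne_zero.mp hpos
    apply hv
    have h1 : (v : Fin n → F) ∈ D 1 := by rw [← heq]; exact v.2
    have := hL.disj Dfr v.2 h1
    exact Subtype.ext this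
  rcases mem_stab_cases D _ hmem with hfix | hswap
  · exact hfixcase hfix
  · rcases hcase with ⟨r, hr, hxr⟩ | hbig
    · have hyr : (g⁻¹ * x * g) ^ r = 1 := by
        have hconj : ∀ j : ℕ, (g⁻¹ * x * g) ^ j = g⁻¹ * x ^ j * g := by
          intro j
          induction j with
          | zero => simp
          | succ j ih => rw [pow_succ, ih, pow_succ]; group
        rw [hconj, hxr]; group
      exact hfixcase (fix_of_odd D hne _ hmem r hr hyr)
    · have h1 := kd_add_le_of_swap hF hL (g⁻¹ * x * g) hswap.1 μ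
      rw [hkd, hD.finrank_eq 0] at h1
      omega

theorem odd_q_of_ne_two [Fintype F] {p : ℕ} [Fact p.Prime] [CharP F p]
    (hF : Fintype.card F = q ^ 2) (hp : p ≠ 2) : Odd q := by
  rw [← Nat.not_even_iff_odd]
  intro he
  obtain ⟨f, hp', hcard⟩ := FiniteField.card F p
  have h2 : 2 ∣ p ^ (f : ℕ) := by
    rw [← hcard, hF]
    exact dvd_pow he.two_dvd (by norm_num)
  have := (Nat.prime_dvd_prime_iff_eq Nat.prime_two hp').mp (Nat.prime_two.dvd_of_dvd_pow h2)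
  exact hp this.symm

theorem two_ne_zero_of_odd_q [Fintype F] (hF : Fintype.card F = q ^ 2) (hq : Odd q) :
    (2 : F) ≠ 0 := by
  intro h2
  obtain ⟨p, hchar⟩ := CharP.exists F
  have := hchar
  obtain ⟨f, hp', hcard⟩ := FiniteField.card F p
  have hp2 : p ∣ 2 := by
    have : ((2 : ℕ) : F) = 0 := by exact_mod_cast h2
    exact (CharP.cast_eq_zero_iff F p 2).mp this
  have hp2' : p = 2 := (Nat.prime_dvd_prime_iff_eq hp' Nat.prime_two).mp hp2
  have h3 : 2 ∣ q ^ 2 := by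
    rw [← hF, hcard, hp2']
    exact dvd_pow_self 2 f.ne_zero
  have h4 : 2 ∣ q := Nat.prime_two.dvd_of_dvd_pow h3
  exact (Nat.not_even_iff_odd.mpr hq) (even_iff_two_dvd.mpr h4)

/-- the forward direction -/
theorem forward [Fintype F] {p : ℕ} [Fact p.Prime] [CharP F p] (hq : Fintype.card F = q ^ 2)
    (hn : 4 ≤ n) (he : Even n) (D : Fin 2 → Submodule F (Fin n → F))
    (hD : Cfsg.Geo.IsMDecomposition (n / 2) D)
    (hDs : ∀ i, Cfsg.Geo.IsTotallySingularFor (Cfsg.hermForm n F q) (D i))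
    (r : ℕ) [Fact r.Prime]
    (hΩ : r ∣ (Cfsg.Geo.decompositionStabilizer D).relIndex
      (Cfsg.GU n F q ⊓ Cfsg.Geo.specialLinear (Fin n) F))
    (H : ∀ x ∈ Cfsg.GU n F q ⊓ Cfsg.Geo.specialLinear (Fin n) F,
      (∃ z : F, ((x ^ r : GL (Fin n) F) : Matrix (Fin n) (Fin n) F) =
        z • (1 : Matrix (Fin n) (Fin n) F)) →
      (∀ z : F, (x : Matrix (Fin n) (Fin n) F) ≠ z • (1 : Matrix (Fin n) (Fin n) F)) →
      ∃ g ∈ Cfsg.GU n F q ⊓ Cfsg.Geo.specialLinear (Fin n) F,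
        g⁻¹ * x * g ∈ Cfsg.Geo.decompositionStabilizer D) :
    r = 2 ∧ Odd q ∧ padicValNat 2 (q + 1) ≤ padicValNat 2 n := by
  have hr : r.Prime := Fact.out
  obtain ⟨k, hk⟩ : ∃ k, n = 2 * k := by
    obtain ⟨k, hk⟩ := he
    exact ⟨k, by omega⟩
  have hk2 : 2 ≤ k := by omega
  have hnk : n / 2 = k := by omega
  rw [hnk] at hD
  -- the common contradiction
  have key : ∀ (x : GL (Fin n) F), x ∈ Cfsg.GU n F q ⊓ Cfsg.Geo.specialLinear (Fin n) F →
      (∃ z : F, ((x ^ r : GL (Fin n) F) : Matrix (Fin n) (Fin n) F) =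
        z • (1 : Matrix (Fin n) (Fin n) F)) → ∀ μ : F, μ ^ (q + 1) = 1 →
      Odd (kd (x : Matrix (Fin n) (Fin n) F) μ) → kd (x : Matrix (Fin n) (Fin n) F) μ < n →
      ((∃ r' : ℕ, Odd r' ∧ x ^ r' = 1) ∨ k < kd (x : Matrix (Fin n) (Fin n) F) μ) → False := by
    intro x hxG hxr μ hμ hodd hlt hcase
    have hns := not_scalar_of_kd (x : Matrix (Fin n) (Fin n) F) μ hodd.pos hlt
    obtain ⟨g, hgG, hmem⟩ := H x hxG hxr hns
    exact not_conj_mem hq k hk D hD hDs x g hxG.1 hgG.1 μ hμ hodd hcase hmem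
  by_cases hrp : r = p
  · exfalso
    obtain ⟨x, hxG, hxp, hkd⟩ := exists_transv (p := p) (n := n) hq (by omega)
    refine key x hxG ⟨1, ?_⟩ 1 (one_pow _) ?_ ?_ (Or.inr ?_)
    · rw [hrp, hxp]; simp
    · rw [hkd]; exact ⟨k - 1, by omega⟩
    · rw [hkd]; omega
    · rw [hkd]; omega
  by_cases hr2 : r = 2
  · have hp2 : p ≠ 2 := fun h => hrp (by rw [hr2, h])
    have hqo : Odd q := odd_q_of_ne_two (p := p) hq hp2
    refine ⟨hr2, hqo, ?_⟩
    by_contra hv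
    rw [not_le] at hv
    obtain ⟨x, μ, hxG, hμ, hx2, hkd⟩ := exists_refl (n := n) hq hqo (by omega) hv
    refine key x hxG ⟨μ ^ 2, ?_⟩ μ hμ ?_ ?_ (Or.inr ?_)
    · rw [hr2]; exact hx2
    · rw [hkd]; exact ⟨k - 1, by omega⟩
    · rw [hkd]; omega
    · rw [hkd]; omega
  · exfalso
    have hrodd : Odd r := hr.odd_of_ne_two hr2
    by_cases hrq : r ∣ q + 1
    · obtain ⟨x, l, hxG, hl, hxr, hkd⟩ := exists_diag (n := n) hq (by omega) r hr2 hrq
      refine key x hxG ⟨1, ?_⟩ l hl ?_ ?_ (Or.inl ⟨r, hrodd, hxr⟩)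
      · rw [hxr]; simp
      · rw [hkd]; exact odd_one
      · rw [hkd]; omega
    · have h1 := index_mul_dvd hq k hk D hD hDs
      obtain ⟨j, hj, hjn, hi⟩ := exists_odd_of_dvd (p := p) hq k hk r hrp hr2 hrq _ hΩ h1
      obtain ⟨x, hxG, hxr, hkd⟩ := exists_block (p := p) (n := n) hq r hrp hr2 hrq j hj hjn hi
      have hj1 : 1 ≤ j := hj.pos
      refine key x hxG ⟨1, ?_⟩ 1 (one_pow _) ?_ ?_ (Or.inl ⟨r, hrodd, hxr⟩)
      · rw [hxr]; simp
      · rw [hkd]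
        obtain ⟨t, ht⟩ := hj
        exact ⟨k - t - 1, by omega⟩
      · rw [hkd]; omega

/-- the backward direction -/
theorem backward [Fintype F] (hq : Fintype.card F = q ^ 2)
    (hn : 4 ≤ n) (he : Even n) (D : Fin 2 → Submodule F (Fin n → F))
    (hD : Cfsg.Geo.IsMDecomposition (n / 2) D)
    (hDs : ∀ i, Cfsg.Geo.IsTotallySingularFor (Cfsg.hermForm n F q) (D i))
    (hqo : Odd q) (hv : padicValNat 2 (q + 1) ≤ padicValNat 2 n)
    (x : GL (Fin n) F) (hxG : x ∈ Cfsg.GU n F q ⊓ Cfsg.Geo.specialLinear (Fin n) F)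
    (hx2 : ∃ z : F, ((x ^ 2 : GL (Fin n) F) : Matrix (Fin n) (Fin n) F) =
        z • (1 : Matrix (Fin n) (Fin n) F)) :
    ∃ g ∈ Cfsg.GU n F q ⊓ Cfsg.Geo.specialLinear (Fin n) F,
        g⁻¹ * x * g ∈ Cfsg.Geo.decompositionStabilizer D := by
  classical
  obtain ⟨Dfr⟩ := frobOf hq
  obtain ⟨k, hk⟩ : ∃ k, n = 2 * k := by
    obtain ⟨k, hk⟩ := he
    exact ⟨k, by omega⟩
  have hnk : n / 2 = k := by omega
  rw [hnk] at hD
  have h2 : (2 : F) ≠ 0 := two_ne_zero_of_odd_q hq hqo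
  obtain ⟨hxP, hxdet⟩ := (Cfsg.Agent.Helper28.UM.mem_G_iff x).mp hxG
  obtain ⟨z, hz⟩ := hx2
  have hxx : (x : Matrix (Fin n) (Fin n) F) * (x : Matrix (Fin n) (Fin n) F) =
      z • (1 : Matrix (Fin n) (Fin n) F) := by
    rw [← hz, pow_two, Units.val_mul]
  have hznorm : z ^ (q + 1) = 1 := norm_of_sq Dfr (by omega) _ hxP z hxx
  obtain ⟨ν, hν2, hνn⟩ := exists_sqrt_of_norm_one hq hqo z hznorm
  have hν0 : ν ≠ 0 := by
    rintro rfl
    rcases hνn with h | h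
    · rw [zero_pow (by omega)] at h; exact zero_ne_one h
    · rw [zero_pow (by omega)] at h
      have : (1 : F) = 0 := by linear_combination h
      exact one_ne_zero this
  have hxx' : (x : Matrix (Fin n) (Fin n) F) * (x : Matrix (Fin n) (Fin n) F) =
      (ν ^ 2) • (1 : Matrix (Fin n) (Fin n) F) := by rw [hν2]; exact hxx
  -- a polar pair fixed by `x`
  obtain ⟨A, B, hL, hxA, hxB⟩ : ∃ A B : Submodule F (Fin n → F), LP q A B ∧
      (∀ a ∈ A, (x : Matrix (Fin n) (Fin n) F) *ᵥ a ∈ A) ∧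
      (∀ b ∈ B, (x : Matrix (Fin n) (Fin n) F) *ᵥ b ∈ B) := by
    rcases hνn with hν1 | hν1
    · obtain ⟨-, hsum⟩ := eig_decomp h2 (x : Matrix (Fin n) (Fin n) F) ν hν0 hxx'
      have hdet := det_of_sq h2 (x : Matrix (Fin n) (Fin n) F) ν hν0 hxx'
      rw [hxdet] at hdet
      have hbe : Even (kd (x : Matrix (Fin n) (Fin n) F) (-ν)) := by
        by_contra hbo
        rw [Nat.not_even_iff_odd] at hbo
        have h3 : ν ^ n = -1 := by
          have h4 : (-ν) ^ kd (x : Matrix (Fin n) (Fin n) F) (-ν) =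
              -(ν ^ kd (x : Matrix (Fin n) (Fin n) F) (-ν)) := hbo.neg_pow ν
          rw [h4, mul_neg, ← pow_add, hsum] at hdet
          linear_combination hdet
        have := padic_lt_of_pow_eq_neg_one h2 (q := q) (n := n) (by omega) ν hν1 h3
        omega
      have hae : Even (kd (x : Matrix (Fin n) (Fin n) F) ν) := by
        have hne : Even n := he
        rw [← hsum] at hne
        exact (Nat.even_add.mp hne).mpr hbe
      exact exists_polar_of_invol hq hqo _ hxP ν hν1 hxx' hae hbe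
    · refine ⟨_, _, lp_of_nonsplit hq hqo _ hxP ν hν1 hxx', ?_, ?_⟩
      · intro a ha
        rw [mem_eig] at ha ⊢
        rw [ha, Matrix.mulVec_smul, ha]
      · intro b hb
        rw [mem_eig] at hb ⊢
        rw [hb, Matrix.mulVec_smul, hb]
  have hL0 : LP q (D 0) (D 1) := lp_of_decomp D hD hDs
  obtain ⟨g, hgG, hgA, hgB⟩ := exists_map_pair hq hL0 hL
  refine ⟨g, hgG, ?_⟩
  have hginv : ∀ v : Fin n → F, ((g⁻¹ : GL (Fin n) F) : Matrix (Fin n) (Fin n) F) *ᵥ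
      ((g : Matrix (Fin n) (Fin n) F) *ᵥ v) = v := gl_inv_mulVec g
  have hmul : ∀ v : Fin n → F, ((g⁻¹ * x * g : GL (Fin n) F) : Matrix (Fin n) (Fin n) F) *ᵥ v =
      ((g⁻¹ : GL (Fin n) F) : Matrix (Fin n) (Fin n) F) *ᵥ ((x : Matrix (Fin n) (Fin n) F) *ᵥ
        ((g : Matrix (Fin n) (Fin n) F) *ᵥ v)) := by
    intro v
    rw [Units.val_mul, Units.val_mul, ← Matrix.mulVec_mulVec, ← Matrix.mulVec_mulVec]
  refine mem_stab_of_fix D hD.finrank_eq _ ?_ ?_
  · intro a ha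
    rw [hmul]
    have h1 : (g : Matrix (Fin n) (Fin n) F) *ᵥ a ∈ A := by
      rw [← hgA]; exact ⟨a, ha, Matrix.toLin'_apply _ _⟩
    have h3 := hxA _ h1
    rw [← hgA] at h3
    obtain ⟨a', ha', ha'e⟩ := h3
    rw [Matrix.toLin'_apply] at ha'e
    rw [← ha'e, hginv]
    exact ha'
  · intro b hb
    rw [hmul]
    have h1 : (g : Matrix (Fin n) (Fin n) F) *ᵥ b ∈ B := by
      rw [← hgB]; exact ⟨b, hb, Matrix.toLin'_apply _ _⟩
    have h3 := hxB _ h1
    rw [← hgB] at h3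
    obtain ⟨b', hb', hb'e⟩ := h3
    rw [Matrix.toLin'_apply] at hb'e
    rw [← hb'e, hginv]
    exact hb'

end ASM

/-- S5984 main statement -/
theorem main {F : Type*} [Field F] [Fintype F] {p : ℕ} [Fact p.Prime] [CharP F p] {q : ℕ} (hq : Fintype.card F = q ^ 2)
    (n : ℕ) (hn : 4 ≤ n) (he : Even n) (D : Fin 2 → Submodule F (Fin n → F)) (hD : Cfsg.Geo.IsMDecomposition (n / 2) D)
    (hDs : ∀ i, Cfsg.Geo.IsTotallySingularFor (Cfsg.hermForm n F q) (D i))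
    (r : ℕ) [Fact r.Prime]
    (hΩ : r ∣ (Cfsg.Geo.decompositionStabilizer D).relIndex (Cfsg.GU n F q ⊓ Cfsg.Geo.specialLinear (Fin n) F)) :
    (∀ x ∈ Cfsg.GU n F q ⊓ Cfsg.Geo.specialLinear (Fin n) F, (∃ z : F, ((x ^ r : GL (Fin n) F) : Matrix (Fin n) (Fin n) F) = z • (1 : Matrix (Fin n) (Fin n) F)) →
      (∀ z : F, (x : Matrix (Fin n) (Fin n) F) ≠ z • (1 : Matrix (Fin n) (Fin n) F)) →
      ∃ g ∈ Cfsg.GU n F q ⊓ Cfsg.Geo.specialLinear (Fin n) F, g⁻¹ * x * g ∈ Cfsg.Geo.decompositionStabilizer D) ↔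
    (r = 2 ∧ Odd q ∧ padicValNat 2 (q + 1) ≤ padicValNat 2 n) := by
  constructor
  · intro H
    exact ASM.forward (p := p) hq hn he D hD hDs r hΩ H
  · rintro ⟨hr2, hqo, hv⟩ x hxG hxr _
    rw [hr2] at hxr
    exact ASM.backward hq hn he D hD hDs hqo hv x hxG hxr

end Cfsg.Agent.S5984P
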