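import Mathlib
import Cfsg.Prelude.Def_GeometricClasses
import Cfsg.Prelude.Def_Classical
import Cfsg.Prelude.Def_LieClassical
import Cfsg.Agent.Helper23.S5984Defs
import Cfsg.Agent.Helper23.S5984GUELT
import Cfsg.Agent.Helper15.S5984BLOCKEMB
import Cfsg.Agent.Helper2.UnitarySU

set_option autoImplicit false
open scoped MatrixGroups Matrix

/-! # S5984 piece DBLOCK. -/

namespace Cfsg.Agent.S5984P

open Cfsg.Agent.S2644 Cfsg.Agent.Helper2.SUGen Cfsg.Agent.Helper28.UPair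

/-- DBLOCK: an element of order `r` with fixed space of dimension `n - j` -/
theorem exists_block {F : Type*} [Field F] [Fintype F] {p : ℕ} [Fact p.Prime] [CharP F p] {q n : ℕ}
    (hF : Fintype.card F = q ^ 2) (r : ℕ) [Fact r.Prime] (hrp : r ≠ p) (hr2 : r ≠ 2)
    (hrq : ¬ r ∣ q + 1) (j : ℕ) (hj : Odd j) (hjn : j < n) (hi : orderOf (q : ZMod r) = 2 * j) :
    ∃ x : GL (Fin n) F, x ∈ Cfsg.GU n F q ⊓ Cfsg.Geo.specialLinear (Fin n) F ∧ x ^ r = 1 ∧
      kd (x : Matrix (Fin n) (Fin n) F) 1 = n - j := by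
  classical
  have hr : r.Prime := Fact.out
  obtain ⟨y, hyGU, hyr, hykd⟩ := exists_gu_elt (p := p) hF r hrp hr2 j hj hi
  obtain ⟨x, hxGU, hxdet, hxpow, hxkd⟩ := exists_block_emb hF j n hjn.le y hyGU
  -- the determinant of `y` is one
  have hdet1 : Matrix.GeneralLinearGroup.det y = 1 := by
    have h1 : (Matrix.GeneralLinearGroup.det y) ^ (q + 1) = 1 :=
      Cfsg.Agent.Helper2.Herm.det_pow_eq_one hF hyGU
    have h2 : (Matrix.GeneralLinearGroup.det y) ^ r = 1 := by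
      rw [← map_pow, hyr, map_one]
    have hcop : Nat.Coprime r (q + 1) := (Nat.Prime.coprime_iff_not_dvd hr).mpr hrq
    have h3 := orderOf_dvd_of_pow_eq_one h1
    have h4 := orderOf_dvd_of_pow_eq_one h2
    have h5 : orderOf (Matrix.GeneralLinearGroup.det y) ∣ Nat.gcd r (q + 1) := Nat.dvd_gcd h4 h3
    rw [hcop.gcd_eq_one, Nat.dvd_one] at h5
    exact orderOf_eq_one_iff.mp h5
  have hdety : (y : Matrix (Fin j) (Fin j) F).det = 1 := by
    have := congrArg Units.val hdet1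
    simpa using this
  refine ⟨x, ?_, hxpow r hyr, ?_⟩
  · rw [Cfsg.Agent.Helper28.UM.mem_G_iff]
    exact ⟨fun u v => hxGU u v, by rw [hxdet, hdety]⟩
  · rw [hxkd, hykd, zero_add]

end Cfsg.Agent.S5984P
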