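import Mathlib
import Cfsg.Prelude.Def_GeometricClasses
import Cfsg.Prelude.Def_Classical
import Cfsg.Prelude.Def_LieClassical
import Cfsg.Agent.Helper27.S5989Defs
import Cfsg.Agent.Helper28.Spin6
import Cfsg.Agent.Helper18.S5989UNIPAR
import Cfsg.Agent.Helper18.S5989ISODISC
import Cfsg.Agent.Helper6.S5992PLUSDISC
import Cfsg.Agent.Helper26.S5989UNIDER

/-! S5991 piece UNIDER2 (driver helper27; helper23), core: the kernel pattern `(d, 2d-1, 2d)` in minus type:
the discriminant of an invariant nondegenerate subspace of odd dimension is forced.  The instances of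
KERADD2, J1DISC, DISCSUMOO are hypotheses. -/

set_option autoImplicit false
open scoped MatrixGroups
universe u

namespace Cfsg.Agent.S5989P

open Cfsg.Agent.Helper2.SympInvol Cfsg.Agent.Helper2.SympUnits Cfsg.Agent.S5961P
  Cfsg.Agent.S5992P Cfsg.Agent.Helper28.Spin

/-- UNIDER2 with the instances of KERADD2 (`hKA`), J1DISC (`hJ1`), DISCSUMOO (`hOO`) as hypotheses -/
theorem UNIDER2.no_odd_invariant_of_unip_disc_of {F V : Type*} [Field F] [Fintype F] [AddCommGroup V]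
    [Module F V] [FiniteDimensional F V] (h2 : (2 : F) ≠ 0) (Q : QuadraticForm F V)
    (hnd : Nondeg (PB Q) ⊤) (x : Module.End F V) (hxQ : ∀ v, Q (x v) = Q v)
    (hx3 : (x - 1) ^ 3 = 0) (d m : ℕ) (hd : Even d) (hV : Module.finrank F V = 2 * d)
    (hm : Odd m) (hk1 : Module.finrank F (LinearMap.ker (x - 1)) = d)
    (hk2 : Module.finrank F (LinearMap.ker ((x - 1) ^ 2)) + 1 = 2 * d) (hminus : ¬ Plus Q ⊤)
    (c₂ : F) (hc₂ : c₂ ≠ 0) (hker : ∀ u ∈ LinearMap.ker (x - 1), ∃ t : F, Q u = c₂ * t * t)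
    (W₀ : Submodule F V) (hW₀ : Module.finrank F W₀ = m ∧ Nondeg (PB Q) W₀)
    (hdisc : DiscSq Q W₀ ↔ ¬ (if m % 4 = 1 then IsSquare (2 * c₂)
      else (IsSquare (2 * c₂) ↔ ¬ IsSquare (-1 : F))))
    (W : Submodule F V) (hW : OmSet Q m W₀ W) (hWx : W.map x ≤ W)
    (hKA : ∃ W' : Submodule F V, W'.map x ≤ W' ∧ Nondeg (PB Q) W' ∧ Orth (PB Q) W W' ∧ W ⊔ W' = ⊤ ∧
      Module.finrank F W + Module.finrank F W' = Module.finrank F V ∧
      ∀ j : ℕ, Module.finrank F (LinearMap.ker ((x - 1) ^ j)) =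
        Module.finrank F ↥(W ⊓ LinearMap.ker ((x - 1) ^ j)) +
        Module.finrank F ↥(W' ⊓ LinearMap.ker ((x - 1) ^ j)))
    (hJ1 : ∀ U : Submodule F V, U.map x ≤ U → Nondeg (PB Q) U → U ≤ LinearMap.ker ((x - 1) ^ 2) →
      2 * Module.finrank F ↥(U ⊓ LinearMap.ker (x - 1)) = Module.finrank F U + 1 →
      (DiscSq Q U ↔ IsSquare (2 * c₂)))
    (hOO : ∀ W₁ W₂ : Submodule F V, Nondeg (PB Q) W₁ → Nondeg (PB Q) W₂ → Orth (PB Q) W₁ W₂ →
      Odd (Module.finrank F W₁) → Odd (Module.finrank F W₂) →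
      (DiscSq Q (W₁ ⊔ W₂) ↔ ((DiscSq Q W₁ ↔ DiscSq Q W₂) ↔ IsSquare (-1 : F)))) : False := by
  obtain ⟨hWm, hWnd, hiso⟩ := hW
  have hinj : Function.Injective x := by
    have hnil : IsNilpotent (x - 1) := ⟨3, hx3⟩
    have hu : IsUnit ((x - 1) + 1) := hnil.isUnit_add_one
    rw [sub_add_cancel] at hu
    exact ((Module.End.isUnit_iff x).mp hu).1
  obtain ⟨W', hW'x, hW'nd, horth, hsup, hsum, hadd⟩ := hKA
  have hpar := even_sub_ker_of_unip h2 Q x hxQ 3 hx3 W hWx hWnd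
  have hpar' := even_sub_ker_of_unip h2 Q x hxQ 3 hx3 W' hW'x hW'nd
  have hNW : ∀ v ∈ W, (x - 1) v ∈ W := by
    intro v hv
    rw [LinearMap.sub_apply, Module.End.one_apply]
    exact W.sub_mem (hWx (Submodule.mem_map_of_mem hv)) hv
  have hNW' : ∀ v ∈ W', (x - 1) v ∈ W' := by
    intro v hv
    rw [LinearMap.sub_apply, Module.End.one_apply]
    exact W'.sub_mem (hW'x (Submodule.mem_map_of_mem hv)) hv
  have hle2 := UNIDER.finrank_ker_sq_le (x - 1) W hNW
  have hle2' := UNIDER.finrank_ker_sq_le (x - 1) W' hNW'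
  have h1 := hadd 1
  have h2' := hadd 2
  rw [pow_one] at h1
  have hb2 : Module.finrank F ↥(W ⊓ LinearMap.ker ((x - 1) ^ 2)) ≤ Module.finrank F W :=
    Submodule.finrank_mono inf_le_left
  have hb2' : Module.finrank F ↥(W' ⊓ LinearMap.ker ((x - 1) ^ 2)) ≤ Module.finrank F W' :=
    Submodule.finrank_mono inf_le_left
  have hb1 : Module.finrank F ↥(W ⊓ LinearMap.ker (x - 1)) ≤ Module.finrank F W :=
    Submodule.finrank_mono inf_le_left
  have hb1' : Module.finrank F ↥(W' ⊓ LinearMap.ker (x - 1)) ≤ Module.finrank F W' :=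
    Submodule.finrank_mono inf_le_left
  have hWW₀ : DiscSq Q W ↔ DiscSq Q W₀ :=
    (isoW_iff_disc h2 Q W W₀ hWnd hW₀.2 (hWm.trans hW₀.1.symm)).1 hiso
  obtain ⟨t, ht⟩ := hm
  obtain ⟨e, he⟩ := hd
  obtain ⟨s, hs⟩ := hpar
  obtain ⟨s', hs'⟩ := hpar'
  by_cases hcase : Module.finrank F ↥(W ⊓ LinearMap.ker ((x - 1) ^ 2)) = Module.finrank F W
  · -- case (A): `N² = 0` on `W`
    have hW2 : W ≤ LinearMap.ker ((x - 1) ^ 2) := by
      have := Submodule.eq_of_le_of_finrank_eq (inf_le_left :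
        W ⊓ LinearMap.ker ((x - 1) ^ 2) ≤ W) hcase
      rw [← this]
      exact inf_le_right
    have hj1 : 2 * Module.finrank F ↥(W ⊓ LinearMap.ker (x - 1)) = Module.finrank F W + 1 := by
      omega
    have hm4 : m % 4 = 1 := by omega
    have hD := hJ1 W hWx hWnd hW2 hj1
    rw [if_pos hm4] at hdisc
    tauto
  · -- case (D): `N² = 0` on `W'`
    have hcase' : Module.finrank F ↥(W' ⊓ LinearMap.ker ((x - 1) ^ 2)) = Module.finrank F W' := by
      omega
    have hW2' : W' ≤ LinearMap.ker ((x - 1) ^ 2) := by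
      have := Submodule.eq_of_le_of_finrank_eq (inf_le_left :
        W' ⊓ LinearMap.ker ((x - 1) ^ 2) ≤ W') hcase'
      rw [← this]
      exact inf_le_right
    have hj1' : 2 * Module.finrank F ↥(W' ⊓ LinearMap.ker (x - 1)) =
        Module.finrank F W' + 1 := by
      omega
    have hm4 : m % 4 = 3 := by omega
    have hD' := hJ1 W' hW'x hW'nd hW2' hj1'
    have hoW : Odd (Module.finrank F W) := ⟨t, by omega⟩
    have hoW' : Odd (Module.finrank F W') := ⟨2 * e - t - 1, by omega⟩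
    have htop := hOO W W' hWnd hW'nd horth hoW hoW'
    rw [hsup] at htop
    have hplus := plus_iff_discSq h2 Q ⊤ hnd (by
      rw [finrank_top, hV]; exact even_two_mul d)
    have hne : ¬ m % 4 = 1 := by omega
    rw [if_neg hne] at hdisc
    tauto

end Cfsg.Agent.S5989P
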