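import Mathlib
import Cfsg.Prelude.Def_GeometricClasses
import Cfsg.Prelude.Def_Classical
import Cfsg.Prelude.Def_LieClassical
import Cfsg.Agent.Helper27.S5989Defs
import Cfsg.Agent.Helper28.Spin6
import Cfsg.Agent.Helper23.S5991UNIDER2core
import Cfsg.Agent.Helper18.S5991KERADD2
import Cfsg.Agent.Helper18.S5991J1DISC
import Cfsg.Agent.Helper18.S5991DISCSUMOO

/-! S5991 piece UNIDER2 (driver helper27; helper23): the kernel pattern `(d, 2d-1, 2d)` in minus type: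
the discriminant of an invariant nondegenerate subspace of odd dimension is forced. -/

set_option autoImplicit false
open scoped MatrixGroups
universe u

namespace Cfsg.Agent.S5989P

open Cfsg.Agent.Helper2.SympInvol Cfsg.Agent.Helper2.SympUnits Cfsg.Agent.S5961P
  Cfsg.Agent.S5992P Cfsg.Agent.Helper28.Spin

/-- UNIDER2 -/
theorem no_odd_invariant_of_unip_disc {F V : Type*} [Field F] [Fintype F] [AddCommGroup V]
    [Module F V] [FiniteDimensional F V] (h2 : (2 : F) ≠ 0) (Q : QuadraticForm F V)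
    (hnd : Nondeg (PB Q) ⊤) (x : Module.End F V) (hxQ : ∀ v, Q (x v) = Q v)
    (hx3 : (x - 1) ^ 3 = 0) (d m : ℕ) (hd : Even d) (hV : Module.finrank F V = 2 * d)
    (hm : Odd m) (hk1 : Module.finrank F (LinearMap.ker (x - 1)) = d)
    (hk2 : Module.finrank F (LinearMap.ker ((x - 1) ^ 2)) + 1 = 2 * d) (hminus : ¬ Plus Q ⊤)
    (c₂ : F) (hc₂ : c₂ ≠ 0) (hker : ∀ u ∈ LinearMap.ker (x - 1), ∃ t : F, Q u = c₂ * t * t)
    (W₀ : Submodule F V) (hW₀ : Module.finrank F W₀ = m ∧ Nondeg (PB Q) W₀)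
    (hdisc : DiscSq Q W₀ ↔ ¬ (if m % 4 = 1 then IsSquare (2 * c₂)
      else (IsSquare (2 * c₂) ↔ ¬ IsSquare (-1 : F))))
    (W : Submodule F V) (hW : OmSet Q m W₀ W) (hWx : W.map x ≤ W) : False := by
  have hinj : Function.Injective x := by
    have hnil : IsNilpotent (x - 1) := ⟨3, hx3⟩
    have hu : IsUnit ((x - 1) + 1) := hnil.isUnit_add_one
    rw [sub_add_cancel] at hu
    exact ((Module.End.isUnit_iff x).mp hu).1
  exact UNIDER2.no_odd_invariant_of_unip_disc_of h2 Q hnd x hxQ hx3 d m hd hV hm hk1 hk2 hminus c₂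
    hc₂ hker W₀ hW₀ hdisc W hW hWx
    (finrank_ker_pow_add' Q hnd x hxQ hinj W hWx hW.2.1)
    (fun U hUx hUnd hU2 hU1 => discSq_of_j1 h2 Q x hxQ U hUx hUnd hU2 hU1 c₂ hc₂ hker)
    (fun W₁ W₂ h₁ h₂ ho ho₁ ho₂ => discSq_sup_odd_odd h2 Q W₁ W₂ h₁ h₂ ho ho₁ ho₂)

end Cfsg.Agent.S5989P
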