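import Mathlib
import Cfsg.Prelude.Def_GeometricClasses
import Cfsg.Prelude.Def_Classical
import Cfsg.Prelude.Def_LieClassical
import Cfsg.Agent.Helper20.S6000Defs
import Cfsg.Agent.Helper28.S6001Defs
import Cfsg.Agent.Helper28.Norm

set_option autoImplicit false
open scoped MatrixGroups Matrix

/-! S6001 piece D5U (driver helper28; helper23): a unitary element of order 5 with large commutant. -/

namespace Cfsg.Agent.S6001P

open Cfsg.Agent.S6000P

/-- D5U -/
theorem exists_x5_u {F : Type*} [Field F] [Fintype F] {p : ℕ} [Fact p.Prime] [CharP F p]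
    (hF : Fintype.card F = p ^ 2) (h2 : (2 : F) ≠ 0) (h5 : (5 : F) ≠ 0) (t : F)
    (ht : t * t + t - 1 = 0) (htp : t ^ p = t) :
    ∃ x ∈ Cfsg.GU 4 F p ⊓ Cfsg.Geo.specialLinear (Fin 4) F,
      ((x ^ 5 : GL (Fin 4) F) : M4 F) = 1 ∧ (∀ z : F, (x : M4 F) ≠ z • (1 : M4 F)) ∧
      5 ≤ cdim (x : M4 F) := by
  classical
  have hp0 : p ≠ 0 := (Fact.out : p.Prime).ne_zero
  have h2p : (2 : F) ^ p = 2 := by
    rw [← frobenius_def, map_ofNat]
  set c : F := t * (2 : F)⁻¹ with hc
  have htc : t = 2 * c := by
    rw [hc, mul_comm t, ← mul_assoc, mul_inv_cancel₀ h2, one_mul]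
  have hc4 : 4 * c * c + 2 * c - 1 = 0 := by
    rw [htc] at ht
    linear_combination ht
  have hcp : c ^ p = c := by
    rw [hc, mul_pow, inv_pow, h2p, htp]
  have hnp : (1 - c * c) ^ p = 1 - c * c := by
    rw [← frobenius_def, map_sub, map_one, map_mul, frobenius_def, hcp]
  obtain ⟨b, hb⟩ : ∃ b : F, b * b ^ p = 1 - c * c := by
    by_cases hn : 1 - c * c = 0
    · refine ⟨0, ?_⟩
      rw [hn, zero_mul]
    · obtain ⟨b, hb⟩ := Cfsg.Agent.Helper28.exists_norm_eq (frobenius F p) (frob_ne_id p hF)
        (fun a => by rw [frobenius_def, frobenius_def, pow_p_pow_p p hF]) (1 - c * c) hn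
        (by rw [frobenius_def, hnp])
      exact ⟨b, by rw [← hb, frobenius_def]⟩
  set d : F := b ^ p with hd
  have hdp : d ^ p = b := by rw [hd, pow_p_pow_p p hF]
  have hndp : (-d) ^ p = -b := by
    rw [← frobenius_def, map_neg, frobenius_def, hdp]
  have hnbp : (-b) ^ p = -d := by
    rw [← frobenius_def, map_neg, frobenius_def]
  let X : M4 F := !![c, b, 0, 0; -d, c, 0, 0; 0, 0, 1, 0; 0, 0, 0, 1]
  let X2 : M4 F := !![2 * c * c - 1, 2 * c * b, 0, 0; -(2 * c * d), 2 * c * c - 1, 0, 0;
    0, 0, 1, 0; 0, 0, 0, 1]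
  let X4 : M4 F := !![c, -b, 0, 0; d, c, 0, 0; 0, 0, 1, 0; 0, 0, 0, 1]
  have hX2 : X * X = X2 := by
    ext i j
    fin_cases i <;> fin_cases j <;>
      simp [X, X2, Matrix.mul_apply, Fin.sum_univ_four] <;>
      first
        | linear_combination (-1 : F) * hb
        | ring
  have hX4 : X2 * X2 = X4 := by
    ext i j
    fin_cases i <;> fin_cases j <;>
      simp [X2, X4, Matrix.mul_apply, Fin.sum_univ_four] <;>
      first
        | linear_combination (-4 * c * c) * hb + (2 * c * c - c - 1) * hc4
        | linear_combination b * (2 * c - 1) * hc4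
        | linear_combination (-d) * (2 * c - 1) * hc4
  have hX5 : X4 * X = 1 := by
    ext i j
    fin_cases i <;> fin_cases j <;>
      simp [X4, X, Matrix.mul_apply, Fin.sum_univ_four] <;>
      first
        | linear_combination hb
        | ring
  have hX5' : X * X4 = 1 := by
    ext i j
    fin_cases i <;> fin_cases j <;>
      simp [X4, X, Matrix.mul_apply, Fin.sum_univ_four] <;>
      first
        | linear_combination hb
        | ring
  have hdag : dag p X = X4 := by
    ext i j
    rw [dag_apply]
    fin_cases i <;> fin_cases j <;>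
      simp [X, X4, hcp, hndp, hp0, ← hd]
  let x : GL (Fin 4) F := ⟨X, X4, hX5', hX5⟩
  have hxv : (x : M4 F) = X := rfl
  refine ⟨x, Subgroup.mem_inf.mpr ⟨?_, ?_⟩, ?_, ?_, ?_⟩
  · rw [mem_GU_iff_dag, hxv, hdag, hX5]
  · rw [mem_specialLinear_iff, hxv]
    rw [Matrix.det_succ_row_zero]
    simp [X, Fin.sum_univ_succ, Matrix.det_fin_three, Matrix.submatrix_apply, Fin.succAbove]
    linear_combination hb
  · rw [Units.val_pow_eq_pow_val, hxv]
    have : X ^ 5 = X2 * X2 * X := by
      rw [← hX2]
      noncomm_ring
    rw [this, hX4, hX5]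
  · intro z hz
    rw [hxv] at hz
    have e00 := congrFun (congrFun hz 0) 0
    have e22 := congrFun (congrFun hz 2) 2
    simp [X] at e00 e22
    apply h5
    have hc1 : c = 1 := by rw [e00, ← e22]
    rw [hc1] at hc4
    linear_combination hc4
  · rw [hxv]
    let v : Fin 5 → M4 F := ![1, Matrix.single 2 2 1, Matrix.single 2 3 1, Matrix.single 3 2 1,
      Matrix.single 3 3 1]
    have hmem : ∀ k, v k ∈ commSub X := by
      intro k
      rw [mem_commSub]
      fin_cases k
      · show (1 : M4 F) * X = X * 1
        rw [one_mul, mul_one]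
      all_goals
        ext i j
        fin_cases i <;> fin_cases j <;>
          simp [v, X, Matrix.mul_apply, Fin.sum_univ_four, Matrix.single_apply]
    have hli : LinearIndependent F v := by
      rw [Fintype.linearIndependent_iff]
      intro g hg
      have e00 := congrFun (congrFun hg 0) 0
      have e22 := congrFun (congrFun hg 2) 2
      have e23 := congrFun (congrFun hg 2) 3
      have e32 := congrFun (congrFun hg 3) 2
      have e33 := congrFun (congrFun hg 3) 3
      simp [v, Fin.sum_univ_five, Matrix.single_apply, Matrix.one_apply] at e00 e22 e23 e32 e33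
      intro i
      fin_cases i
      · exact e00
      · simpa [e00] using e22
      · exact e23
      · exact e32
      · simpa [e00] using e33
    have hli' : LinearIndependent F (fun k : Fin 5 => (⟨v k, hmem k⟩ : commSub X)) := by
      apply LinearIndependent.of_comp (commSub X).subtype
      exact hli
    have := hli'.fintype_card_le_finrank
    rw [Fintype.card_fin] at this
    exact this

end Cfsg.Agent.S6001P
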