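import Mathlib
import Cfsg.Agent.Helper27.Suz2Defs

/-! # SUZ2 board, piece DIV: `|P|` is a power of `q = |Om P|` -/

set_option autoImplicit false

namespace Cfsg.Agent.SUZ2P

open Cfsg.Agent.Helper17.Suz2

universe u v

variable {K : Type v} {P : Type u} [Group K] [Group P] [MulDistribMulAction K P]

/-- a nonidentity element of `K` fixes only `1` -/
theorem S1138_div_aux_fix (hS : Star K P) {k : K} (hk : k ≠ 1) {x : P} (hx : k • x = x) :
    x = 1 := by
  by_contra hx1
  obtain ⟨j, hj1, hj2⟩ := exists_invol_pow hS.pgrp hx1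
  have h1 : k • (x ^ 2 ^ j) = x ^ 2 ^ j := by rw [smul_pow', hx]
  obtain ⟨k', -, huniq⟩ := hS.reg (x ^ 2 ^ j) (x ^ 2 ^ j) hj1 hj2 hj1 hj2
  have h2 := huniq k h1
  have h3 := huniq 1 (one_smul K _)
  exact hk (h2.trans h3.symm)

theorem S1138_div_aux_dvd (hS : Star K P) [Finite K] [Finite P] :
    Nat.card K ∣ Nat.card P - 1 := by
  classical
  let _ : Fintype K := Fintype.ofFinite K
  let _ : Fintype P := Fintype.ofFinite P
  have hb := MulAction.sum_card_fixedBy_eq_card_orbits_mul_card_group K P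
  have hsum : (∑ k : K, Fintype.card (MulAction.fixedBy P k)) =
      Fintype.card P + (Fintype.card K - 1) := by
    rw [← Finset.add_sum_erase Finset.univ _ (Finset.mem_univ (1 : K))]
    congr 1
    · apply Fintype.card_of_subtype Finset.univ
      intro x
      simp
    · have h1 : ∀ k ∈ Finset.univ.erase (1 : K), Fintype.card (MulAction.fixedBy P k) = 1 := by
        intro k hk
        have hk1 : k ≠ 1 := Finset.ne_of_mem_erase hk
        rw [Fintype.card_eq_one_iff]
        refine ⟨⟨1, by simp [MulAction.mem_fixedBy]⟩, ?_⟩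
        rintro ⟨x, hx⟩
        exact Subtype.ext (S1138_div_aux_fix hS hk1 hx)
      rw [Finset.sum_congr rfl h1, Finset.sum_const, Finset.card_erase_of_mem (Finset.mem_univ _),
        Finset.card_univ, smul_eq_mul, mul_one]
  rw [hsum] at hb
  rw [Nat.card_eq_fintype_card, Nat.card_eq_fintype_card]
  have hKpos : 0 < Fintype.card K := Fintype.card_pos
  have hPpos : 0 < Fintype.card P := Fintype.card_pos
  refine ⟨Fintype.card (Quotient (MulAction.orbitRel K P)) - 1, ?_⟩
  rw [Nat.mul_sub_one, mul_comm]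
  omega

theorem S1138_div (hS : Star K P) (hna : NonAb P) (hH : HConc P) :
    ∃ r : ℕ, Nat.card P = Nat.card (Om P) ^ (r + 1) := by
  have := hS.fin
  obtain ⟨x₀, y₀, -, hx1, hx2, -, -⟩ := hS.two
  have : Finite K := finite_K hS.reg hx1 hx2
  have hOm : Nat.card (Om P) = Nat.card K + 1 := card_Om hS.pgrp hS.reg hx1 hx2
  have hdvd := S1138_div_aux_dvd hS
  have : Fact (Nat.Prime 2) := ⟨Nat.prime_two⟩
  obtain ⟨N, hN⟩ := (IsPGroup.iff_card (p := 2) (G := P)).mp hS.pgrp
  obtain ⟨n, hn⟩ := (IsPGroup.iff_card (p := 2) (G := Om P)).mp (hS.pgrp.to_subgroup _)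
  have hK : Nat.card K = 2 ^ n - 1 := by omega
  have hKpos : 0 < Nat.card K := Nat.card_pos
  rw [hK, hN] at hdvd
  have hmod := Nat.mod_eq_zero_of_dvd hdvd
  rw [Nat.pow_sub_one_mod_pow_sub_one] at hmod
  have hNn : N % n = 0 := by
    by_contra hne
    have h1 : 2 ^ 1 ≤ 2 ^ (N % n) := Nat.pow_le_pow_right (by norm_num) (Nat.pos_of_ne_zero hne)
    omega
  obtain ⟨s, hs⟩ := Nat.dvd_of_mod_eq_zero hNn
  have hNpos : N ≠ 0 := by
    intro h0
    rw [h0, pow_zero] at hN
    have : Subsingleton P := (Nat.card_eq_one_iff_unique.mp hN).1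
    exact hx1 (Subsingleton.elim _ _)
  have hspos : s ≠ 0 := by
    intro h0
    rw [h0, mul_zero] at hs
    exact hNpos hs
  obtain ⟨r, hr⟩ := Nat.exists_eq_succ_of_ne_zero hspos
  refine ⟨r, ?_⟩
  rw [hN, hn, hs, hr, pow_mul]

end Cfsg.Agent.SUZ2P
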