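import Cfsg.Agent.Helper25.Syl22A

/-!
# S4346 endgame, part A: fixed point counts

General congruences for the number of Sylow 3-subgroups fixed by an element, in a group with
22 Sylow 3-subgroups of order 3 admitting no smaller such group.
-/

set_option autoImplicit false
set_option linter.style.haveILetI false
open Subgroup MulAction MonoidHom
open Cfsg.Agent.Helper27.Syl21 Cfsg.Agent.Helper25.Syl22

namespace Cfsg.Agent.Helper23.Syl22End

universe u v

section General

variable {G : Type*} [Group G] {X : Type*} [MulAction G X]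

/-- If `y` has `p`-power order and commutes with `c`, the number of fixed points of `c` is
congruent mod `p` to the number of common fixed points. -/
theorem card_fixedBy_modEq [Finite X] {p : ℕ} [Fact p.Prime] (y c : G) (k : ℕ)
    (hy : orderOf y = p ^ k) (hc : Commute y c) :
    Nat.card (fixedBy X c) ≡ Nat.card ↥(fixedBy X c ∩ fixedBy X y) [MOD p] := by
  have hH : IsPGroup p (zpowers y) := IsPGroup.of_card (n := k) (by rw [Nat.card_zpowers, hy])
  let S : SubMulAction (zpowers y) X :=
    { carrier := fixedBy X c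
      smul_mem' := by
        rintro ⟨h, hh⟩ ω hω
        rw [mem_fixedBy] at hω
        show c • (h • ω) = h • ω
        have hcomm : Commute h c := by
          obtain ⟨n, rfl⟩ := mem_zpowers_iff.mp hh
          exact hc.zpow_left n
        rw [smul_smul, ← hcomm.eq, mul_smul, hω] }
  have h1 : Nat.card S ≡ Nat.card (fixedPoints (zpowers y) S) [MOD p] :=
    hH.card_modEq_card_fixedPoints S
  have h2 : Nat.card (fixedPoints (zpowers y) S) = Nat.card ↥(fixedBy X c ∩ fixedBy X y) := by
    refine Nat.card_congr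
      { toFun := fun a => ⟨a.1.1, a.1.2, ?_⟩
        invFun := fun b => ⟨⟨b.1, b.2.1⟩, ?_⟩
        left_inv := fun a => rfl
        right_inv := fun b => rfl }
    · have := a.2 ⟨y, mem_zpowers y⟩
      exact congrArg Subtype.val this
    · rintro ⟨h, hh⟩
      apply Subtype.ext
      show h • b.1 = b.1
      obtain ⟨n, rfl⟩ := mem_zpowers_iff.mp hh
      exact mem_fixedBy_zpow b.2.2 n
  rw [h2] at h1
  exact h1

/-- An element of `p`-power order fixes `|X|` points modulo `p`. -/
theorem card_fixedBy_modEq_card [Finite X] {p : ℕ} [Fact p.Prime] (y : G) (k : ℕ)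
    (hy : orderOf y = p ^ k) :
    Nat.card (fixedBy X y) ≡ Nat.card X [MOD p] := by
  have h := card_fixedBy_modEq (X := X) y 1 k hy (Commute.one_right y)
  have h1 : Nat.card (fixedBy X (1 : G)) = Nat.card X := by
    rw [fixedBy_one_eq_univ]
    exact Nat.card_congr (Equiv.Set.univ X)
  have h2 : Nat.card ↥(fixedBy X (1 : G) ∩ fixedBy X y) = Nat.card (fixedBy X y) := by
    rw [fixedBy_one_eq_univ, Set.univ_inter]
  rw [h1, h2] at h
  exact h.symm

end General

section NC

variable {G : Type*} [Group G] [Finite G]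

/-- the image of `N(Q) → Aut(Q)` for `Q` of prime order `p` has order dividing `p - 1` -/
theorem card_mulAut_of_prime_card (Q : Subgroup G) (p : ℕ) [Fact p.Prime] (hQ : Nat.card Q = p) :
    Nat.card (MulAut Q) = p - 1 := by
  haveI : IsCyclic Q := isCyclic_of_prime_card hQ
  rw [IsCyclic.card_mulAut, hQ, Nat.totient_prime Fact.out]

theorem mem_centralizer_of_coprime (Q : Subgroup G) (p : ℕ) [Fact p.Prime] (hQ : Nat.card Q = p)
    (t : G) (ht : t ∈ normalizer (Q : Set G)) (hco : (orderOf t).Coprime (p - 1)) :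
    t ∈ centralizer (Q : Set G) := by
  have hcard := card_mulAut_of_prime_card Q p hQ
  haveI : Finite (MulAut Q) := Nat.finite_of_card_ne_zero (by
    rw [hcard]; have := (Fact.out : p.Prime).two_le; omega)
  have h1 : orderOf (Q.normalizerMonoidHom ⟨t, ht⟩) ∣ orderOf t := by
    have := orderOf_map_dvd Q.normalizerMonoidHom (⟨t, ht⟩ : normalizer (Q : Set G))
    rwa [Subgroup.orderOf_mk] at this
  have h2 : orderOf (Q.normalizerMonoidHom ⟨t, ht⟩) ∣ p - 1 := by
    rw [← hcard]; exact orderOf_dvd_natCard _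
  have h3 : orderOf (Q.normalizerMonoidHom ⟨t, ht⟩) = 1 := Nat.eq_one_of_dvd_coprimes hco h1 h2
  have h4 : (⟨t, ht⟩ : normalizer (Q : Set G)) ∈ Q.normalizerMonoidHom.ker :=
    orderOf_eq_one_iff.mp h3
  rw [normalizerMonoidHom_ker, mem_subgroupOf] at h4
  exact h4

theorem card_normalizer_eq (Q : Subgroup G) (p : ℕ) [Fact p.Prime] (hQ : Nat.card Q = p) :
    ∃ e, e ∣ p - 1 ∧
      Nat.card (normalizer (Q : Set G)) = Nat.card (centralizer (Q : Set G)) * e := by
  have hcard := card_mulAut_of_prime_card Q p hQ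
  haveI : Finite (MulAut Q) := Nat.finite_of_card_ne_zero (by
    rw [hcard]; have := (Fact.out : p.Prime).two_le; omega)
  refine ⟨Nat.card Q.normalizerMonoidHom.range, ?_, ?_⟩
  · rw [← hcard]; exact Subgroup.card_subgroup_dvd_card _
  · have h1 := Subgroup.card_mul_index Q.normalizerMonoidHom.ker
    rw [Subgroup.index_ker, normalizerMonoidHom_ker] at h1
    rw [← h1]
    congr 1
    exact (Nat.card_congr (Subgroup.subgroupOfEquivOfLe
      (centralizer_le_normalizer (Q : Set G))).toEquiv)

end NC

section Inv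

variable {G : Type*} [Group G]

/-- A `P`-stable set of Sylow `p`-subgroups not containing `P` has cardinality divisible by `p`. -/
theorem card_invariant_set_modEq_zero [Finite G] {p : ℕ} [Fact p.Prime] (P : Sylow p G)
    (X : Set (Sylow p G)) (hPX : P ∉ X)
    (hX : ∀ g ∈ (P : Subgroup G), ∀ ω ∈ X, g • ω ∈ X) :
    Nat.card X ≡ 0 [MOD p] := by
  let S : SubMulAction (P : Subgroup G) (Sylow p G) :=
    { carrier := X
      smul_mem' := fun g ω hω => hX g.1 g.2 ω hω }
  have h1 : Nat.card S ≡ Nat.card (fixedPoints (P : Subgroup G) S) [MOD p] :=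
    P.2.card_modEq_card_fixedPoints S
  have h2 : Nat.card (fixedPoints (P : Subgroup G) S) = 0 := by
    haveI : IsEmpty (fixedPoints (P : Subgroup G) S) := by
      refine ⟨?_⟩
      rintro ⟨⟨c, hc⟩, hfix⟩
      have : c ∈ fixedPoints (P : Subgroup G) (Sylow p G) := by
        intro g
        have := hfix g
        exact congrArg Subtype.val this
      have hle := (P.2.sylow_mem_fixedPoints_iff).mp this
      have : c = P := Sylow.ext (P.3 c.2 hle)
      exact hPX (this ▸ hc)
    exact Nat.card_of_isEmpty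
  rw [h2] at h1
  exact h1

end Inv

section Fix

variable {G : Type u} [Group G] [Finite G]

instance fact3 : Fact (Nat.Prime 3) := ⟨by norm_num⟩
instance fact5 : Fact (Nat.Prime 5) := ⟨by norm_num⟩
instance fact7 : Fact (Nat.Prime 7) := ⟨by norm_num⟩
instance fact11 : Fact (Nat.Prime 11) := ⟨by norm_num⟩

/-- number of Sylow 3-subgroups fixed by `t` -/
noncomputable def fixN (t : G) : ℕ := Nat.card (fixedBy (Sylow 3 G) t)

theorem fixN_lt (hG : MinCE G) (t : G) (ht : t ≠ 1) : fixN t < 22 := by
  by_contra hge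
  apply ht
  apply faithful hG
  intro Q
  by_contra hQ
  have h1 : Nat.card {x : Sylow 3 G // t • x = x} < Nat.card (Sylow 3 G) :=
    Finite.card_subtype_lt hQ
  rw [hG.1] at h1
  have h2 : fixN t = Nat.card {x : Sylow 3 G // t • x = x} := rfl
  omega

theorem fixN_modEq (h22 : Nat.card (Sylow 3 G) = 22) (t : G) (r : ℕ) [Fact r.Prime] (k : ℕ)
    (ht : orderOf t = r ^ k) : fixN t ≡ 22 [MOD r] := by
  have := card_fixedBy_modEq_card (X := Sylow 3 G) t k ht
  rw [h22] at this
  exact this

theorem fixN_mod_three (P : Sylow 3 G) (t : G) (htN : t ∈ normalizer (P : Set G))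
    (htC : t ∈ centralizer (P : Set G)) : fixN t % 3 = 1 := by
  have h := card_invariant_set_modEq_one P (fixedBy (Sylow 3 G) t)
    (by rw [mem_fixedBy, Sylow.smul_eq_iff_mem_normalizer]; exact htN)
    (by
      intro g hg ω hω
      rw [mem_fixedBy] at hω ⊢
      rw [smul_smul, ← (mem_centralizer_iff.mp htC g hg), mul_smul, hω])
  exact h

/-- involutions fix `2 mod 4` Sylow subgroups -/
theorem fixN_mod_four (hG : MinCE G) (t : G) (ht : t ^ 2 = 1) : fixN t % 4 = 2 := by
  classical
  letI : Fintype (Sylow 3 G) := Fintype.ofFinite _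
  set π : Equiv.Perm (Sylow 3 G) := MulAction.toPermHom G (Sylow 3 G) t with hπ
  have h2 : π ^ 2 = 1 := by rw [hπ, ← map_pow, ht, map_one]
  have hsign : Equiv.Perm.sign π = 1 := by
    have hA : (Nat.card ℤˣ).Coprime 3 := by
      rw [Nat.card_eq_fintype_card]; decide
    exact hom_trivial hG hA (Equiv.Perm.sign.comp (MulAction.toPermHom G (Sylow 3 G))) t
  have h4 := card_support_of_sq_eq_one π h2 hsign
  have h3 : fixN t = (π.supportᶜ).card := by
    unfold fixN
    refine Nat.subtype_card _ ?_
    intro Q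
    rw [Finset.mem_compl, Equiv.Perm.mem_support, not_not]
    rfl
  rw [h3, Finset.card_compl, ← Nat.card_eq_fintype_card, hG.1]
  have h5 : π.support.card ≤ 22 := by
    calc π.support.card ≤ Fintype.card (Sylow 3 G) := Finset.card_le_univ _
      _ = 22 := by rw [← Nat.card_eq_fintype_card, hG.1]
  omega

theorem mem_centralizer_of_odd (hP3 : ∀ P : Sylow 3 G, Nat.card (P : Subgroup G) = 3)
    (P : Sylow 3 G) (t : G) (htN : t ∈ normalizer (P : Set G)) (hodd : Odd (orderOf t)) :
    t ∈ centralizer (P : Set G) :=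
  mem_centralizer_of_coprime (P : Subgroup G) 3 (hP3 P) t htN (by
    show (orderOf t).Coprime 2
    exact hodd.coprime_two_right)

theorem fixN_mod_three_of_odd (hP3 : ∀ P : Sylow 3 G, Nat.card (P : Subgroup G) = 3)
    (t : G) (hodd : Odd (orderOf t)) (P : Sylow 3 G) (hP : t • P = P) : fixN t % 3 = 1 := by
  have htN : t ∈ normalizer (P : Set G) := Sylow.smul_eq_iff_mem_normalizer.mp hP
  exact fixN_mod_three P t htN (mem_centralizer_of_odd hP3 P t htN hodd)

omit [Finite G] in
theorem exists_fixed_of_fixN_ne_zero (t : G) (h : fixN t ≠ 0) : ∃ P : Sylow 3 G, t • P = P := by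
  unfold fixN at h
  have : Nonempty (fixedBy (Sylow 3 G) t) := by
    by_contra hne
    rw [not_nonempty_iff] at hne
    exact h Nat.card_of_isEmpty
  obtain ⟨P, hP⟩ := this
  exact ⟨P, hP⟩

end Fix

end Cfsg.Agent.Helper23.Syl22End
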