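import Cfsg.Agent.Helper23.Syl22EndA

/-!
# S4346 endgame, part B: fixed point numbers of elements of order 5, 7, 11; `5 ∤ |G|`
-/

set_option autoImplicit false
set_option linter.style.haveILetI false
open Subgroup MulAction MonoidHom
open Cfsg.Agent.Helper27.Syl21 Cfsg.Agent.Helper25.Syl22

namespace Cfsg.Agent.Helper23.Syl22End

universe u v

variable {G : Type u} [Group G] [Finite G]

theorem fixN_of_order_five (hG : MinCE G) (hP3 : ∀ P : Sylow 3 G, Nat.card (P : Subgroup G) = 3)
    (w : G) (hw : orderOf w = 5) : fixN w = 7 := by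
  have h1 : fixN w % 5 = 2 := fixN_modEq hG.1 w 5 1 (by rw [hw, pow_one])
  have hw1 : w ≠ 1 := by
    intro h; rw [h, orderOf_one] at hw; omega
  have h2 := fixN_lt hG w hw1
  have h0 : fixN w ≠ 0 := by omega
  obtain ⟨P, hP⟩ := exists_fixed_of_fixN_ne_zero w h0
  have h3 := fixN_mod_three_of_odd hP3 w (by rw [hw]; decide) P hP
  omega

theorem fixN_of_order_seven (hG : MinCE G) (hP3 : ∀ P : Sylow 3 G, Nat.card (P : Subgroup G) = 3)
    (z : G) (hz : orderOf z = 7) : fixN z = 1 := by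
  have h1 : fixN z % 7 = 1 := fixN_modEq hG.1 z 7 1 (by rw [hz, pow_one])
  have hz1 : z ≠ 1 := by
    intro h; rw [h, orderOf_one] at hz; omega
  have h2 := fixN_lt hG z hz1
  have h0 : fixN z ≠ 0 := by omega
  obtain ⟨P, hP⟩ := exists_fixed_of_fixN_ne_zero z h0
  have h3 := fixN_mod_three_of_odd hP3 z (by rw [hz]; decide) P hP
  omega

theorem fixN_of_order_eleven (hG : MinCE G) (hP3 : ∀ P : Sylow 3 G, Nat.card (P : Subgroup G) = 3)
    (y : G) (hy : orderOf y = 11) : fixN y = 0 := by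
  have h1 : fixN y % 11 = 0 := fixN_modEq hG.1 y 11 1 (by rw [hy, pow_one])
  have hy1 : y ≠ 1 := by
    intro h; rw [h, orderOf_one] at hy; omega
  have h2 := fixN_lt hG y hy1
  by_contra h0
  obtain ⟨P, hP⟩ := exists_fixed_of_fixN_ne_zero y h0
  have h3 := fixN_mod_three_of_odd hP3 y (by rw [hy]; decide) P hP
  omega

theorem not_commute_five_seven (hG : MinCE G)
    (hP3 : ∀ P : Sylow 3 G, Nat.card (P : Subgroup G) = 3)
    (w z : G) (hw : orderOf w = 5) (hz : orderOf z = 7) (hc : Commute w z) : False := by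
  have hfw := fixN_of_order_five hG hP3 w hw
  have hfz := fixN_of_order_seven hG hP3 z hz
  have h1 := card_fixedBy_modEq (X := Sylow 3 G) z w 1 (by rw [hz, pow_one]) hc.symm
  have h2 := card_fixedBy_modEq (X := Sylow 3 G) w z 1 (by rw [hw, pow_one]) hc
  rw [Set.inter_comm] at h2
  have h3 : Nat.card ↥(fixedBy (Sylow 3 G) w ∩ fixedBy (Sylow 3 G) z) ≤ fixN z :=
    Nat.card_le_card_of_injective (Set.inclusion Set.inter_subset_right)
      (Set.inclusion_injective _)
  change fixN w ≡ _ [MOD 7] at h1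
  change fixN z ≡ _ [MOD 5] at h2
  rw [hfw] at h1
  rw [hfz] at h2 h3
  unfold Nat.ModEq at h1 h2
  omega

theorem seven_dvd_card_centralizer (hG : MinCE G)
    (hP3 : ∀ P : Sylow 3 G, Nat.card (P : Subgroup G) = 3)
    (w : G) (hw : orderOf w = 5) : 7 ∣ Nat.card (centralizer ({w} : Set G)) := by
  have hfw := fixN_of_order_five hG hP3 w hw
  obtain ⟨P0, hP0⟩ := exists_fixed_of_fixN_ne_zero w (by omega)
  have hodd : Odd (orderOf w) := by rw [hw]; decide
  -- fixed Sylow subgroups lie in the centraliser of `w`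
  have key : ∀ P' : Sylow 3 G, w • P' = P' → (P' : Subgroup G) ≤ centralizer ({w} : Set G) := by
    intro P' hP' g hg
    have hN : w ∈ normalizer (P' : Set G) := Sylow.smul_eq_iff_mem_normalizer.mp hP'
    have hC := mem_centralizer_of_odd hP3 P' w hN hodd
    rw [mem_centralizer_singleton_iff]
    exact (mem_centralizer_iff.mp hC g hg)
  set M : Subgroup G := centralizer ({w} : Set G) with hM
  let θ : Set (Sylow 3 G) := orbit M P0
  have hθF : θ ⊆ fixedBy (Sylow 3 G) w := by
    rintro _ ⟨⟨m, hm⟩, rfl⟩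
    rw [mem_fixedBy]
    show w • (m • P0) = m • P0
    rw [smul_smul, ← (mem_centralizer_singleton_iff.mp hm), mul_smul, hP0]
  have hstable : ∀ P' : Sylow 3 G, w • P' = P' →
      ∀ g ∈ (P' : Subgroup G), ∀ ω ∈ θ, g • ω ∈ θ := by
    rintro P' hP' g hg _ ⟨⟨m, hm⟩, rfl⟩
    exact ⟨⟨g * m, mul_mem (key P' hP' hg) hm⟩, by
      show (g * m) • P0 = g • (m • P0)
      rw [mul_smul]⟩
  have h1 : Nat.card θ ≡ 1 [MOD 3] :=
    card_invariant_set_modEq_one P0 θ (mem_orbit_self P0) (hstable P0 hP0)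
  have h2 : Nat.card θ ≤ 7 := by
    rw [← hfw]
    exact Nat.card_le_card_of_injective (Set.inclusion hθF) (Set.inclusion_injective _)
  have h3 : Nat.card θ = 7 := by
    by_contra hne
    have hex : ∃ P' : Sylow 3 G, w • P' = P' ∧ P' ∉ θ := by
      by_contra hcon
      push Not at hcon
      have hsub : fixedBy (Sylow 3 G) w ⊆ θ := fun P' hP' => hcon P' hP'
      have : fixN w ≤ Nat.card θ :=
        Nat.card_le_card_of_injective (Set.inclusion hsub) (Set.inclusion_injective _)
      omega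
    obtain ⟨P', hP', hP'θ⟩ := hex
    have h4 : Nat.card θ ≡ 0 [MOD 3] :=
      card_invariant_set_modEq_zero P' θ hP'θ (hstable P' hP')
    unfold Nat.ModEq at h1 h4
    omega
  have h5 : Nat.card θ * Nat.card (stabilizer M P0) = Nat.card M := by
    rw [← Nat.card_prod]
    exact (Nat.card_congr (orbitProdStabilizerEquivGroup M P0))
  rw [h3] at h5
  exact Dvd.intro _ h5

theorem five_not_dvd (hG : MinCE G) (hP3 : ∀ P : Sylow 3 G, Nat.card (P : Subgroup G) = 3) :
    ¬ 5 ∣ Nat.card G := by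
  intro h5
  obtain ⟨w, hw⟩ := exists_prime_orderOf_dvd_card' 5 h5
  have h7 := seven_dvd_card_centralizer hG hP3 w hw
  obtain ⟨⟨z, hzM⟩, hz⟩ := exists_prime_orderOf_dvd_card' 7 h7
  rw [Subgroup.orderOf_mk] at hz
  exact not_commute_five_seven hG hP3 w z hw hz (mem_centralizer_singleton_iff.mp hzM).symm

end Cfsg.Agent.Helper23.Syl22End
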