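import Cfsg.Agent.Helper23.Syl22EndB

/-!
# S4346 endgame, part C: the Sylow 11-subgroups

A Sylow 11-subgroup `Y` has order 11, is self-centralising, and its normaliser has order 22.
-/

set_option autoImplicit false
set_option linter.style.haveILetI false
open Subgroup MulAction MonoidHom
open Cfsg.Agent.Helper27.Syl21 Cfsg.Agent.Helper25.Syl22

namespace Cfsg.Agent.Helper23.Syl22End

universe u v

variable {G : Type u} [Group G] [Finite G]

theorem card_eq_mul_normalizer (h22 : Nat.card (Sylow 3 G) = 22) (P : Sylow 3 G) :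
    Nat.card G = 22 * Nat.card (normalizer (P : Set G)) := by
  rw [← h22, P.card_eq_index_normalizer, mul_comm]
  exact (Subgroup.card_mul_index _).symm

theorem fixN_ne_zero_of_fixed (t : G) (P : Sylow 3 G) (hP : t • P = P) : fixN t ≠ 0 := by
  unfold fixN
  haveI : Nonempty (fixedBy (Sylow 3 G) t) := ⟨⟨P, hP⟩⟩
  exact Nat.card_pos.ne'

theorem not_eleven_dvd_normalizer (hG : MinCE G)
    (hP3 : ∀ P : Sylow 3 G, Nat.card (P : Subgroup G) = 3) (P : Sylow 3 G) :
    ¬ 11 ∣ Nat.card (normalizer (P : Set G)) := by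
  intro h
  obtain ⟨⟨y, hyN⟩, hy⟩ := exists_prime_orderOf_dvd_card' 11 h
  rw [Subgroup.orderOf_mk] at hy
  have h0 := fixN_of_order_eleven hG hP3 y hy
  exact fixN_ne_zero_of_fixed y P (Sylow.smul_eq_iff_mem_normalizer.mpr hyN) h0

theorem eleven_dvd_card (h22 : Nat.card (Sylow 3 G) = 22) : 11 ∣ Nat.card G := by
  let P : Sylow 3 G := default
  rw [card_eq_mul_normalizer h22 P]
  exact Dvd.intro (2 * Nat.card (normalizer (P : Set G))) (by ring)

theorem card_sylow11 (hG : MinCE G) (hP3 : ∀ P : Sylow 3 G, Nat.card (P : Subgroup G) = 3)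
    (Y : Sylow 11 G) : Nat.card (Y : Subgroup G) = 11 := by
  let P : Sylow 3 G := default
  have h1 := card_eq_mul_normalizer hG.1 P
  have h2 := not_eleven_dvd_normalizer hG hP3 P
  have h4 : 11 ∣ Nat.card (Y : Subgroup G) := Y.dvd_card_of_dvd_card (eleven_dvd_card hG.1)
  obtain ⟨k, hk⟩ := Y.2.exists_card_eq
  have h5 : Nat.card (Y : Subgroup G) ∣ Nat.card G := Subgroup.card_subgroup_dvd_card _
  rcases k with _ | _ | k
  · rw [hk] at h4; norm_num at h4
  · rw [hk]; norm_num
  · exfalso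
    apply h2
    have h6 : 11 ^ 2 ∣ Nat.card G :=
      (pow_dvd_pow 11 (by omega : 2 ≤ k + 1 + 1)).trans (hk ▸ h5)
    rw [h1] at h6
    have h7 : (11 : ℕ) * 11 ∣ 11 * (2 * Nat.card (normalizer (P : Set G))) := by
      have : (11 : ℕ) * (2 * Nat.card (normalizer (P : Set G))) =
          22 * Nat.card (normalizer (P : Set G)) := by ring
      rw [this]; exact h6
    have h8 : 11 ∣ 2 * Nat.card (normalizer (P : Set G)) :=
      Nat.dvd_of_mul_dvd_mul_left (by norm_num) h7
    exact (Nat.Coprime.dvd_of_dvd_mul_left (by norm_num : Nat.Coprime 11 2) h8)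

theorem exists_mem_orderOf_eleven (Y : Sylow 11 G) (hY : Nat.card (Y : Subgroup G) = 11) :
    ∃ y ∈ (Y : Subgroup G), orderOf y = 11 := by
  obtain ⟨⟨y, hyY⟩, hy⟩ := exists_prime_orderOf_dvd_card' (G := (Y : Subgroup G)) 11
    (by rw [hY])
  rw [Subgroup.orderOf_mk] at hy
  exact ⟨y, hyY, hy⟩

theorem prime_dvd_centralizer (hG : MinCE G)
    (hP3 : ∀ P : Sylow 3 G, Nat.card (P : Subgroup G) = 3) (Y : Sylow 11 G) (r : ℕ)
    (hr : r.Prime) (hrC : r ∣ Nat.card (centralizer ((Y : Subgroup G) : Set G))) : r = 11 := by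
  by_contra hne
  haveI : Fact r.Prime := ⟨hr⟩
  obtain ⟨⟨c, hcC⟩, hc⟩ := exists_prime_orderOf_dvd_card' r hrC
  rw [Subgroup.orderOf_mk] at hc
  obtain ⟨y, hyY, hy⟩ := exists_mem_orderOf_eleven Y (card_sylow11 hG hP3 Y)
  have hcomm : Commute y c := (mem_centralizer_iff.mp hcC y hyY)
  have hfy := fixN_of_order_eleven hG hP3 y hy
  have h1 := card_fixedBy_modEq (X := Sylow 3 G) y c 1 (by rw [hy, pow_one]) hcomm
  have h2 : Nat.card ↥(fixedBy (Sylow 3 G) c ∩ fixedBy (Sylow 3 G) y) = 0 := by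
    have : Nat.card ↥(fixedBy (Sylow 3 G) c ∩ fixedBy (Sylow 3 G) y) ≤ fixN y :=
      Nat.card_le_card_of_injective (Set.inclusion Set.inter_subset_right)
        (Set.inclusion_injective _)
    omega
  rw [h2] at h1
  change fixN c ≡ 0 [MOD 11] at h1
  have hc1 : c ≠ 1 := by
    intro h; rw [h, orderOf_one] at hc; exact hr.one_lt.ne hc
  have h3 := fixN_lt hG c hc1
  have h4 := fixN_modEq hG.1 c r 1 (by rw [hc, pow_one])
  unfold Nat.ModEq at h1
  rcases (by omega : fixN c = 0 ∨ fixN c = 11) with h0 | h11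
  · rw [h0] at h4
    have h5 : r ∣ 2 * 11 := (Nat.modEq_zero_iff_dvd.mp h4.symm)
    rcases (Nat.Prime.dvd_mul hr).mp h5 with h | h
    · have hr2 : r = 2 := (Nat.prime_dvd_prime_iff_eq hr Nat.prime_two).mp h
      have := fixN_mod_four hG c (by rw [← hr2, ← hc]; exact pow_orderOf_eq_one c)
      omega
    · exact hne ((Nat.prime_dvd_prime_iff_eq hr (by norm_num)).mp h)
  · rw [h11] at h4
    have h5 : r ∣ 22 - 11 := (Nat.modEq_iff_dvd' (by norm_num)).mp h4
    exact hne ((Nat.prime_dvd_prime_iff_eq hr (by norm_num)).mp h5)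

theorem not_normalizer_le_centralizer_sylow11 (hG : MinCE G)
    (hP3 : ∀ P : Sylow 3 G, Nat.card (P : Subgroup G) = 3) (Y : Sylow 11 G) :
    ¬ normalizer ((Y : Subgroup G) : Set G) ≤ centralizer ((Y : Subgroup G) : Set G) := by
  intro hNC
  have hY := card_sylow11 hG hP3 Y
  set τ := transferSylow Y hNC with hτ
  have hker : τ.ker = ⊤ := by
    apply eq_top_of_forall_le hG
    intro P x hx
    rw [MonoidHom.mem_ker]
    have h1 : orderOf (τ x) ∣ orderOf x := orderOf_map_dvd τ x
    have h2 : orderOf x ∣ 3 := by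
      have := orderOf_dvd_natCard (⟨x, hx⟩ : (P : Subgroup G))
      rwa [Subgroup.orderOf_mk, hP3 P] at this
    have h3 : orderOf (τ x) ∣ 11 := by
      have := orderOf_dvd_natCard (τ x)
      rwa [hY] at this
    have h4 : orderOf (τ x) = 1 :=
      Nat.eq_one_of_dvd_coprimes (by norm_num : Nat.Coprime 3 11) (h1.trans h2) h3
    exact orderOf_eq_one_iff.mp h4
  have h11 := not_dvd_card_ker_transferSylow Y hNC
  rw [← hτ, hker, Subgroup.card_top] at h11
  exact h11 (eleven_dvd_card hG.1)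

theorem card_normalizer_sylow11 (hG : MinCE G)
    (hP3 : ∀ P : Sylow 3 G, Nat.card (P : Subgroup G) = 3) (Y : Sylow 11 G) :
    Nat.card (normalizer ((Y : Subgroup G) : Set G)) = 22 := by
  have hY := card_sylow11 hG hP3 Y
  obtain ⟨e, he, hNe⟩ := card_normalizer_eq (Y : Subgroup G) 11 hY
  have hCpow := Nat.eq_prime_pow_of_unique_prime_dvd
    (Nat.card_pos.ne' : Nat.card (centralizer ((Y : Subgroup G) : Set G)) ≠ 0)
    (fun {d} hd hdvd => prime_dvd_centralizer hG hP3 Y d hd hdvd)
  set j := (Nat.card (centralizer ((Y : Subgroup G) : Set G))).primeFactorsList.length with hj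
  let P : Sylow 3 G := default
  have h1 := card_eq_mul_normalizer hG.1 P
  have h2 := not_eleven_dvd_normalizer hG hP3 P
  have hNG : Nat.card (normalizer ((Y : Subgroup G) : Set G)) ∣ Nat.card G :=
    Subgroup.card_subgroup_dvd_card _
  have hYN : 11 ∣ Nat.card (normalizer ((Y : Subgroup G) : Set G)) := by
    have := Subgroup.card_dvd_of_le
      (le_normalizer : (Y : Subgroup G) ≤ normalizer ((Y : Subgroup G) : Set G))
    rwa [hY] at this
  have he10 : e ∣ 10 := he
  have hco : Nat.Coprime 11 e := Nat.Coprime.coprime_dvd_right he10 (by norm_num)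
  have h11C : 11 ∣ Nat.card (centralizer ((Y : Subgroup G) : Set G)) := by
    rw [hNe] at hYN
    exact Nat.Coprime.dvd_of_dvd_mul_right hco hYN
  have hj1 : j = 1 := by
    rcases hjj : j with _ | _ | k
    · rw [hCpow, hjj] at h11C; norm_num at h11C
    · rfl
    · exfalso
      apply h2
      have h6 : 11 ^ 2 ∣ Nat.card G := by
        refine (pow_dvd_pow 11 (by omega : 2 ≤ k + 1 + 1)).trans ?_
        rw [← hjj, ← hCpow]
        exact (Dvd.intro _ hNe.symm).trans hNG
      rw [h1] at h6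
      have h7 : (11 : ℕ) * 11 ∣ 11 * (2 * Nat.card (normalizer (P : Set G))) := by
        have : (11 : ℕ) * (2 * Nat.card (normalizer (P : Set G))) =
            22 * Nat.card (normalizer (P : Set G)) := by ring
        rw [this]; exact h6
      have h8 : 11 ∣ 2 * Nat.card (normalizer (P : Set G)) :=
        Nat.dvd_of_mul_dvd_mul_left (by norm_num) h7
      exact (Nat.Coprime.dvd_of_dvd_mul_left (by norm_num : Nat.Coprime 11 2) h8)
  rw [hj1, pow_one] at hCpow
  rw [hCpow] at hNe
  have he5 : ¬ 5 ∣ e := by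
    intro h5
    apply five_not_dvd hG hP3
    exact h5.trans ((Dvd.intro_left _ hNe.symm).trans hNG)
  have hele : e ≤ 10 := Nat.le_of_dvd (by norm_num) he10
  have he12 : e = 1 ∨ e = 2 := by
    interval_cases e <;> simp_all
  rcases he12 with rfl | rfl
  · exfalso
    apply not_normalizer_le_centralizer_sylow11 hG hP3 Y
    have hle := centralizer_le_normalizer ((Y : Subgroup G) : Set G)
    have : centralizer ((Y : Subgroup G) : Set G) = normalizer ((Y : Subgroup G) : Set G) :=
      Subgroup.eq_of_le_of_card_ge hle (by rw [hNe, hCpow])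
    rw [this]
  · rw [hNe]

theorem card_sylow11_set (hG : MinCE G)
    (hP3 : ∀ P : Sylow 3 G, Nat.card (P : Subgroup G) = 3) (P : Sylow 3 G) :
    Nat.card (Sylow 11 G) = Nat.card (normalizer (P : Set G)) := by
  let Y : Sylow 11 G := default
  have h1 := card_eq_mul_normalizer hG.1 P
  have h2 := card_normalizer_sylow11 hG hP3 Y
  have h3 := Subgroup.card_mul_index (normalizer ((Y : Subgroup G) : Set G))
  have h4 : Nat.card (Sylow 11 G) = (normalizer ((Y : Subgroup G) : Set G)).index :=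
    Y.card_eq_index_normalizer
  rw [← h4, h2, h1] at h3
  omega

end Cfsg.Agent.Helper23.Syl22End
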