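import Cfsg.Agent.Helper23.Syl22EndC

/-!
# S4346 endgame, part D: the normaliser of a Sylow 3-subgroup has order 12

A generator of `P` acts on the 22 Sylow 3-subgroups as a product of seven 3-cycles; the
centraliser of `P` embeds into the centraliser of that permutation inside the alternating
group, a group of order `3^7 * 7! / 2`.
-/

set_option autoImplicit false
set_option linter.style.haveILetI false
open Subgroup MulAction MonoidHom
open Cfsg.Agent.Helper27.Syl21 Cfsg.Agent.Helper25.Syl22

namespace Cfsg.Agent.Helper23.Syl22End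

universe u v

section Perm

variable {α : Type*} [Fintype α] [DecidableEq α]

theorem card_centralizer_of_cycleType (g : Equiv.Perm α) (hα : Fintype.card α = 22)
    (hg : g.cycleType = Multiset.replicate 7 3) :
    Nat.card (centralizer ({g} : Set (Equiv.Perm α))) = 11022480 := by
  rw [Equiv.Perm.nat_card_centralizer, hg, hα]
  simp
  decide

theorem card_centralizer_inf_alternating (g : Equiv.Perm α) (hα : Fintype.card α = 22)
    (hg : g.cycleType = Multiset.replicate 7 3) :
    Nat.card ↥(centralizer ({g} : Set (Equiv.Perm α)) ⊓ alternatingGroup α) * 2 = 11022480 := by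
  haveI : Nontrivial α := by
    rw [← Fintype.one_lt_card_iff_nontrivial, hα]; norm_num
  have h1 := card_centralizer_of_cycleType g hα hg
  have h2 : ¬ centralizer ({g} : Set (Equiv.Perm α)) ≤ alternatingGroup α := by
    intro h
    have := Equiv.Perm.count_le_one_of_centralizer_le_alternating h 3
    rw [hg] at this
    simp at this
  have h3 : (alternatingGroup α).relIndex (centralizer ({g} : Set (Equiv.Perm α))) ∣ 2 := by
    rw [← alternatingGroup.index_eq_two (α := α)]
    exact relIndex_dvd_index_of_normal _ _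
  have h4 : (alternatingGroup α).relIndex (centralizer ({g} : Set (Equiv.Perm α))) ≠ 1 :=
    fun h => h2 (relIndex_eq_one.mp h)
  have h5 : (alternatingGroup α).relIndex (centralizer ({g} : Set (Equiv.Perm α))) = 2 :=
    ((Nat.dvd_prime Nat.prime_two).mp h3).resolve_left h4
  have h6 := Subgroup.card_mul_index
    ((alternatingGroup α).subgroupOf (centralizer ({g} : Set (Equiv.Perm α))))
  change _ * (alternatingGroup α).relIndex (centralizer ({g} : Set (Equiv.Perm α))) = _ at h6
  rw [h5, h1] at h6
  rw [← h6]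
  congr 1
  rw [← inf_subgroupOf_left]
  exact (Nat.card_congr (Subgroup.subgroupOfEquivOfLe inf_le_left).toEquiv).symm

end Perm

section Main

variable {G : Type u} [Group G] [Finite G]

/-- a nontrivial element of `P` fixes only `P` -/
theorem fixN_generator (hP3 : ∀ P : Sylow 3 G, Nat.card (P : Subgroup G) = 3) (P : Sylow 3 G)
    (x : G) (hxP : x ∈ (P : Subgroup G)) (hx1 : x ≠ 1) : fixN x = 1 := by
  have hord : orderOf x = 3 := by
    have h1 := orderOf_dvd_natCard (⟨x, hxP⟩ : (P : Subgroup G))
    rw [Subgroup.orderOf_mk, hP3 P] at h1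
    rcases (Nat.dvd_prime (by norm_num : Nat.Prime 3)).mp h1 with h | h
    · exact absurd (orderOf_eq_one_iff.mp h) hx1
    · exact h
  have key : ∀ Q : Sylow 3 G, x • Q = Q → Q = P := by
    intro Q hQ
    have hN : x ∈ normalizer (Q : Set G) := Sylow.smul_eq_iff_mem_normalizer.mp hQ
    have hxQ : x ∈ (Q : Subgroup G) := by
      have h1 : x ∈ (P : Subgroup G) ⊓ normalizer (Q : Set G) := ⟨hxP, hN⟩
      rw [P.2.inf_normalizer_sylow Q] at h1
      exact h1.2
    have hzP : zpowers x = (P : Subgroup G) :=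
      Subgroup.eq_of_le_of_card_ge (zpowers_le.mpr hxP) (by rw [Nat.card_zpowers, hord, hP3 P])
    have hzQ : zpowers x = (Q : Subgroup G) :=
      Subgroup.eq_of_le_of_card_ge (zpowers_le.mpr hxQ) (by rw [Nat.card_zpowers, hord, hP3 Q])
    exact Sylow.ext (hzQ.symm.trans hzP)
  have hPfix : x • P = P :=
    Sylow.smul_eq_iff_mem_normalizer.mpr (le_normalizer hxP)
  unfold fixN
  rw [Nat.card_eq_one_iff_unique]
  refine ⟨⟨?_⟩, ⟨⟨P, hPfix⟩⟩⟩
  rintro ⟨a, ha⟩ ⟨b, hb⟩
  apply Subtype.ext
  show a = b
  rw [key a ha, key b hb]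

theorem toPermHom_injective (hG : MinCE G) :
    Function.Injective (MulAction.toPermHom G (Sylow 3 G)) := by
  rw [injective_iff_map_eq_one]
  intro a ha
  apply faithful hG
  intro Q
  have := congrArg (fun f : Equiv.Perm (Sylow 3 G) => f Q) ha
  simpa using this

theorem cycleType_generator [Fintype (Sylow 3 G)] [DecidableEq (Sylow 3 G)] (hG : MinCE G)
    (x : G) (hx : orderOf x = 3) (hfix : fixN x = 1) :
    (MulAction.toPermHom G (Sylow 3 G) x).cycleType = Multiset.replicate 7 3 := by
  set π : Equiv.Perm (Sylow 3 G) := MulAction.toPermHom G (Sylow 3 G) x with hπ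
  have hord : orderOf π = 3 := by
    rw [hπ, orderOf_injective _ (toPermHom_injective hG), hx]
  obtain ⟨n, hn⟩ := Equiv.Perm.cycleType_prime_order (σ := π) (by rw [hord]; norm_num)
  rw [hord] at hn
  have hsum : π.support.card = 3 * (n + 1) := by
    rw [← Equiv.Perm.sum_cycleType, hn]; simp; ring
  have h3 : fixN x = (π.supportᶜ).card := by
    unfold fixN
    refine Nat.subtype_card _ ?_
    intro Q
    rw [Finset.mem_compl, Equiv.Perm.mem_support, not_not]
    rfl
  rw [Finset.card_compl, ← Nat.card_eq_fintype_card, hG.1] at h3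
  have h5 : π.support.card ≤ 22 := by
    calc π.support.card ≤ Fintype.card (Sylow 3 G) := Finset.card_le_univ _
      _ = 22 := by rw [← Nat.card_eq_fintype_card, hG.1]
  have hn7 : n + 1 = 7 := by omega
  rw [hn, hn7]

theorem card_centralizer_dvd (hG : MinCE G)
    (hP3 : ∀ P : Sylow 3 G, Nat.card (P : Subgroup G) = 3) (P : Sylow 3 G) :
    Nat.card (centralizer ((P : Subgroup G) : Set G)) ∣ 5511240 := by
  classical
  letI : Fintype (Sylow 3 G) := Fintype.ofFinite _
  obtain ⟨⟨x, hxP⟩, hx⟩ := exists_prime_orderOf_dvd_card' (G := (P : Subgroup G)) 3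
    (by rw [hP3 P])
  rw [Subgroup.orderOf_mk] at hx
  have hx1 : x ≠ 1 := by
    intro h; rw [h, orderOf_one] at hx; omega
  have hfix := fixN_generator hP3 P x hxP hx1
  have hct := cycleType_generator hG x hx hfix
  have hcard : Fintype.card (Sylow 3 G) = 22 := by rw [← Nat.card_eq_fintype_card, hG.1]
  have h := card_centralizer_inf_alternating (MulAction.toPermHom G (Sylow 3 G) x) hcard hct
  have hle : (centralizer ((P : Subgroup G) : Set G)).map (MulAction.toPermHom G (Sylow 3 G)) ≤
      centralizer ({MulAction.toPermHom G (Sylow 3 G) x} : Set (Equiv.Perm (Sylow 3 G))) ⊓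
        alternatingGroup (Sylow 3 G) := by
    intro π hπ
    obtain ⟨c, hc, rfl⟩ := Subgroup.mem_map.mp hπ
    rw [Subgroup.mem_inf]
    refine ⟨?_, ?_⟩
    · rw [mem_centralizer_singleton_iff, ← map_mul, ← map_mul]
      congr 1
      exact (mem_centralizer_iff.mp hc x hxP).symm
    · rw [Equiv.Perm.mem_alternatingGroup]
      have hA : (Nat.card ℤˣ).Coprime 3 := by
        rw [Nat.card_eq_fintype_card]; decide
      exact hom_trivial hG hA (Equiv.Perm.sign.comp (MulAction.toPermHom G (Sylow 3 G))) c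
  have h1 := Subgroup.card_dvd_of_le hle
  rw [Subgroup.card_map_of_injective (toPermHom_injective hG)] at h1
  have h2 : Nat.card ↥(centralizer
      ({MulAction.toPermHom G (Sylow 3 G) x} : Set (Equiv.Perm (Sylow 3 G))) ⊓
        alternatingGroup (Sylow 3 G)) = 5511240 := by omega
  rwa [h2] at h1

theorem nine_not_dvd (hP3 : ∀ P : Sylow 3 G, Nat.card (P : Subgroup G) = 3) :
    ¬ 9 ∣ Nat.card G := by
  intro h
  let P : Sylow 3 G := default
  have h1 : 3 ^ 2 ∣ Nat.card (P : Subgroup G) := P.pow_dvd_card_of_pow_dvd_card (by norm_num; exact h)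
  rw [hP3 P] at h1
  norm_num at h1

theorem card_normalizer_sylow3 (hG : MinCE G)
    (hP3 : ∀ P : Sylow 3 G, Nat.card (P : Subgroup G) = 3) (P : Sylow 3 G) :
    Nat.card (normalizer ((P : Subgroup G) : Set G)) = 12 := by
  obtain ⟨e, he, hNe⟩ := card_normalizer_eq (P : Subgroup G) 3 (hP3 P)
  have he2 : e ∣ 2 := he
  have hC := card_centralizer_dvd hG hP3 P
  have hG22 : Nat.card G = 22 * Nat.card (normalizer ((P : Subgroup G) : Set G)) :=
    card_eq_mul_normalizer hG.1 P
  have h11 : Nat.card (normalizer ((P : Subgroup G) : Set G)) % 11 = 1 := by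
    have h1 : Nat.card (Sylow 11 G) = Nat.card (normalizer ((P : Subgroup G) : Set G)) :=
      card_sylow11_set hG hP3 P
    have h2 := card_sylow_modEq_one 11 G
    rw [h1] at h2
    exact h2
  have h3 : 3 ∣ Nat.card (normalizer ((P : Subgroup G) : Set G)) := by
    have := Subgroup.card_dvd_of_le
      (le_normalizer : (P : Subgroup G) ≤ normalizer ((P : Subgroup G) : Set G))
    rwa [hP3 P] at this
  set n := Nat.card (normalizer ((P : Subgroup G) : Set G)) with hn
  have hdvd : n ∣ 11022480 := by
    rw [hNe]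
    exact mul_dvd_mul hC he2
  have h9 : ¬ 9 ∣ n := by
    intro h
    apply nine_not_dvd hP3
    rw [hG22]
    exact h.trans (Dvd.intro_left _ rfl)
  have h5 : ¬ 5 ∣ n := by
    intro h
    apply five_not_dvd hG hP3
    rw [hG22]
    exact h.trans (Dvd.intro_left _ rfl)
  obtain ⟨m, hm⟩ := h3
  have hm3 : ¬ 3 ∣ m := by
    intro h
    apply h9
    obtain ⟨k, hk⟩ := h
    exact ⟨k, by rw [hm, hk]; ring⟩
  have hm5 : ¬ 5 ∣ m := by
    intro h
    apply h5
    rw [hm]
    exact h.trans (Dvd.intro_left _ rfl)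
  have hmd : m ∣ 6561 * 560 := by
    have : 3 * m ∣ 3 * (6561 * 560) := by rw [← hm]; exact hdvd
    exact Nat.dvd_of_mul_dvd_mul_left (by norm_num) this
  have hco3 : Nat.Coprime m 6561 := by
    have : Nat.Coprime m 3 :=
      ((Nat.Prime.coprime_iff_not_dvd (by norm_num : Nat.Prime 3)).mpr hm3).symm
    exact Nat.Coprime.pow_right 8 this
  have hmd2 : m ∣ 5 * 112 := Nat.Coprime.dvd_of_dvd_mul_left hco3 hmd
  have hco5 : Nat.Coprime m 5 :=
    ((Nat.Prime.coprime_iff_not_dvd (by norm_num : Nat.Prime 5)).mpr hm5).symm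
  have hmd3 : m ∣ 112 := Nat.Coprime.dvd_of_dvd_mul_left hco5 hmd2
  have hmle : m ≤ 112 := Nat.le_of_dvd (by norm_num) hmd3
  rw [hm] at h11 ⊢
  have hfin : ∀ k : ℕ, k ≤ 112 → k ∣ 112 → 3 * k % 11 = 1 → k = 4 := by decide
  rw [hfin m hmle hmd3 h11]

end Main

end Cfsg.Agent.Helper23.Syl22End
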