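import Cfsg.Agent.Helper23.Syl22EndD

/-!
# S4346 endgame, part E: the final contradiction

`G` has order 264 and twelve Sylow 11-subgroups; an involution normalising one of them fixes
one or two of the twelve, so it acts on them as an odd permutation: impossible.
-/

set_option autoImplicit false
set_option linter.style.haveILetI false
open Subgroup MulAction MonoidHom
open Cfsg.Agent.Helper27.Syl21 Cfsg.Agent.Helper25.Syl22

namespace Cfsg.Agent.Helper23.Syl22End

universe u v

section Gen

variable {G : Type*} [Group G] [Finite G] {p : ℕ} [Fact p.Prime]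

/-- with Sylow `p`-subgroups of order `p`, a nontrivial element of `P` fixes only `P` -/
theorem sylow_eq_of_smul_eq (hP : ∀ P : Sylow p G, Nat.card (P : Subgroup G) = p)
    (P Q : Sylow p G) (x : G) (hxP : x ∈ (P : Subgroup G)) (hx1 : x ≠ 1) (hQ : x • Q = Q) :
    Q = P := by
  have hord : orderOf x = p := by
    have h1 := orderOf_dvd_natCard (⟨x, hxP⟩ : (P : Subgroup G))
    rw [Subgroup.orderOf_mk, hP P] at h1
    rcases (Nat.dvd_prime (Fact.out : p.Prime)).mp h1 with h | h
    · exact absurd (orderOf_eq_one_iff.mp h) hx1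
    · exact h
  have hN : x ∈ normalizer (Q : Set G) := Sylow.smul_eq_iff_mem_normalizer.mp hQ
  have hxQ : x ∈ (Q : Subgroup G) := by
    have h1 : x ∈ (P : Subgroup G) ⊓ normalizer (Q : Set G) := ⟨hxP, hN⟩
    rw [P.2.inf_normalizer_sylow Q] at h1
    exact h1.2
  have hzP : zpowers x = (P : Subgroup G) :=
    Subgroup.eq_of_le_of_card_ge (zpowers_le.mpr hxP) (by rw [Nat.card_zpowers, hord, hP P])
  have hzQ : zpowers x = (Q : Subgroup G) :=
    Subgroup.eq_of_le_of_card_ge (zpowers_le.mpr hxQ) (by rw [Nat.card_zpowers, hord, hP Q])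
  exact Sylow.ext (hzQ.symm.trans hzP)

/-- with `p + 1` Sylow `p`-subgroups of order `p`, `P` is transitive on the others -/
theorem exists_smul_eq_of_ne (hP : ∀ P : Sylow p G, Nat.card (P : Subgroup G) = p)
    (hcard : Nat.card (Sylow p G) = p + 1) (P Q1 Q2 : Sylow p G) (h1 : Q1 ≠ P) (h2 : Q2 ≠ P) :
    ∃ u ∈ (P : Subgroup G), u • Q1 = Q2 := by
  classical
  have hne : ∀ u : (P : Subgroup G), (u : G) • Q1 ≠ P := by
    intro u h
    apply h1
    have h3 : (u : G)⁻¹ • P = P :=
      Sylow.smul_eq_iff_mem_normalizer.mpr (le_normalizer (inv_mem u.2))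
    exact (eq_inv_smul_iff.mpr h).trans h3
  let f : ↥(P : Subgroup G) → {ω : Sylow p G // ω ≠ P} := fun u => ⟨(u : G) • Q1, hne u⟩
  have hf : Function.Injective f := by
    intro u u' huu'
    have h3 : (u : G) • Q1 = (u' : G) • Q1 := congrArg Subtype.val huu'
    have h4 : ((u' : G)⁻¹ * u) • Q1 = Q1 := by
      rw [mul_smul, h3, smul_smul, inv_mul_cancel, one_smul]
    by_contra hne'
    have h5 : ((u' : G)⁻¹ * u) ≠ 1 := by
      intro h
      apply hne'
      apply Subtype.ext
      have := inv_mul_eq_one.mp h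
      exact this.symm
    exact h1 (sylow_eq_of_smul_eq hP P Q1 _ (mul_mem (inv_mem u'.2) u.2) h5 h4)
  have hc : Nat.card (P : Subgroup G) = Nat.card {ω : Sylow p G // ω ≠ P} := by
    have h3 := Nat.card_congr (Equiv.optionSubtypeNe P)
    rw [Finite.card_option, hcard] at h3
    rw [hP P]
    omega
  have hbij := (Nat.bijective_iff_injective_and_card f).mpr ⟨hf, hc⟩
  obtain ⟨u, hu⟩ := hbij.2 ⟨Q2, h2⟩
  exact ⟨u, u.2, congrArg Subtype.val hu⟩

end Gen

section Main

variable {G : Type u} [Group G] [Finite G]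

theorem endgame (hG : MinCE G) (hP3 : ∀ P : Sylow 3 G, Nat.card (P : Subgroup G) = 3) :
    False := by
  classical
  let Y : Sylow 11 G := default
  have hY11 : ∀ Y : Sylow 11 G, Nat.card (Y : Subgroup G) = 11 := card_sylow11 hG hP3
  have hΔ : Nat.card (Sylow 11 G) = 11 + 1 := by
    rw [card_sylow11_set hG hP3 default]
    exact card_normalizer_sylow3 hG hP3 default
  have hNY := card_normalizer_sylow11 hG hP3 Y
  obtain ⟨⟨s, hsN⟩, hs⟩ := exists_prime_orderOf_dvd_card'
    (G := normalizer ((Y : Subgroup G) : Set G)) 2 (by rw [hNY]; norm_num)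
  rw [Subgroup.orderOf_mk] at hs
  have hs2 : s ^ 2 = 1 := by rw [← hs]; exact pow_orderOf_eq_one s
  have hsY : s • Y = Y := Sylow.smul_eq_iff_mem_normalizer.mpr hsN
  -- `s` does not centralise `Y`
  have hsC : s ∉ centralizer ((Y : Subgroup G) : Set G) := by
    intro h
    have h1 := orderOf_dvd_natCard (⟨s, h⟩ : centralizer ((Y : Subgroup G) : Set G))
    rw [Subgroup.orderOf_mk, hs] at h1
    have := prime_dvd_centralizer hG hP3 Y 2 Nat.prime_two h1
    omega
  -- fixed points of `s` other than `Y` coincide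
  have huniq : ∀ a b : Sylow 11 G, a ≠ Y → b ≠ Y → s • a = a → s • b = b → a = b := by
    intro a b ha hb hsa hsb
    by_contra hab
    obtain ⟨u, huY, hu⟩ := exists_smul_eq_of_ne hY11 hΔ Y a b ha hb
    have hu1 : u ≠ 1 := by
      intro h; rw [h, one_smul] at hu; exact hab hu
    have hsu : s * u * s⁻¹ ∈ (Y : Subgroup G) := (mem_normalizer_iff.mp hsN u).mp huY
    have hsa' : s⁻¹ • a = a := by
      rw [inv_smul_eq_iff, hsa]
    have hv : (u⁻¹ * (s * u * s⁻¹)) • a = a := by
      rw [mul_smul, mul_smul, mul_smul, hsa', hu, hsb, ← hu, smul_smul, inv_mul_cancel, one_smul]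
    have hv1 : u⁻¹ * (s * u * s⁻¹) = 1 := by
      by_contra hne
      exact ha (sylow_eq_of_smul_eq hY11 Y a _ (mul_mem (inv_mem huY) hsu) hne hv)
    have hcomm : Commute u s := by
      have h1 : s * u * s⁻¹ = u := by
        have := inv_mul_eq_one.mp hv1
        exact this.symm
      show u * s = s * u
      calc u * s = (s * u * s⁻¹) * s := by rw [h1]
        _ = s * u := by group
    -- `Y` is generated by `u`
    have hord : orderOf u = 11 := by
      have h1 := orderOf_dvd_natCard (⟨u, huY⟩ : (Y : Subgroup G))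
      rw [Subgroup.orderOf_mk, hY11 Y] at h1
      rcases (Nat.dvd_prime (by norm_num : Nat.Prime 11)).mp h1 with h | h
      · exact absurd (orderOf_eq_one_iff.mp h) hu1
      · exact h
    have hzY : zpowers u = (Y : Subgroup G) :=
      Subgroup.eq_of_le_of_card_ge (zpowers_le.mpr huY)
        (by rw [Nat.card_zpowers, hord, hY11 Y])
    apply hsC
    rw [mem_centralizer_iff]
    intro h hh
    have hh' : h ∈ zpowers u := by rw [hzY]; exact hh
    obtain ⟨k, rfl⟩ := mem_zpowers_iff.mp hh'
    exact (hcomm.zpow_left k).eq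
  -- the sign of `s` on the twelve Sylow 11-subgroups
  letI : Fintype (Sylow 11 G) := Fintype.ofFinite _
  set π : Equiv.Perm (Sylow 11 G) := MulAction.toPermHom G (Sylow 11 G) s with hπ
  have hπ2 : π ^ 2 = 1 := by rw [hπ, ← map_pow, hs2, map_one]
  have hsign : Equiv.Perm.sign π = 1 := by
    have hA : (Nat.card ℤˣ).Coprime 3 := by
      rw [Nat.card_eq_fintype_card]; decide
    exact hom_trivial hG hA (Equiv.Perm.sign.comp (MulAction.toPermHom G (Sylow 11 G))) s
  have h4 := card_support_of_sq_eq_one π hπ2 hsign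
  have hmem : ∀ a : Sylow 11 G, a ∈ π.supportᶜ ↔ s • a = a := by
    intro a
    rw [Finset.mem_compl, Equiv.Perm.mem_support, not_not]
    rfl
  have hYfix : Y ∈ π.supportᶜ := (hmem Y).mpr hsY
  have hle2 : (π.supportᶜ).card ≤ 2 := by
    have h1 : ((π.supportᶜ).erase Y).card ≤ 1 := by
      rw [Finset.card_le_one]
      intro a ha b hb
      rw [Finset.mem_erase] at ha hb
      exact huniq a b ha.1 hb.1 ((hmem a).mp ha.2) ((hmem b).mp hb.2)
    rw [Finset.card_erase_of_mem hYfix] at h1
    omega
  have hcompl : (π.supportᶜ).card = 12 - π.support.card := by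
    rw [Finset.card_compl, ← Nat.card_eq_fintype_card, hΔ]
  have hpos : 1 ≤ (π.supportᶜ).card := Finset.card_pos.mpr ⟨Y, hYfix⟩
  have hle12 : π.support.card ≤ 12 := by
    calc π.support.card ≤ Fintype.card (Sylow 11 G) := Finset.card_le_univ _
      _ = 12 := by rw [← Nat.card_eq_fintype_card, hΔ]
  omega

end Main

end Cfsg.Agent.Helper23.Syl22End
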