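import Mathlib
import Cfsg.Agent.Helper29.SylMaxDefs
set_option autoImplicit false

/-!
# S2245 piece PRIMA: a Sylow 2-subgroup of `A_n` lies in no proper primitive subgroup
(given the Klein-four form of Jordan's theorem as a hypothesis)
-/

namespace Cfsg.Agent.Helper23.SylMax
open MulAction Equiv Cfsg.Agent.Helper29.SylMax
open scoped Pointwise
universe u v
variable {𝔾 : Type u} [Group 𝔾] {α : Type v} [Fintype α] [DecidableEq α] [MulAction 𝔾 α]

omit [Fintype α] in
theorem prima_mul_eq {p q r s : α} (hpq : p ≠ q) (hpr : p ≠ r) (hps : p ≠ s) (hqr : q ≠ r)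
    (hqs : q ≠ s) (hrs : r ≠ s) :
    swap p q * swap r s * (swap p r * swap q s) = swap p s * swap q r := by
  ext t
  simp only [Equiv.Perm.coe_mul, Function.comp_apply, Equiv.swap_apply_def]
  split_ifs <;> simp_all

omit [Fintype α] in
theorem prima_comm {p q r s : α} (hpr : p ≠ r) (hps : p ≠ s) (hqr : q ≠ r)
    (hqs : q ≠ s) :
    swap p q * swap r s = swap r s * swap p q := by
  ext t
  simp only [Equiv.Perm.coe_mul, Function.comp_apply, Equiv.swap_apply_def]
  split_ifs <;> simp_all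

omit [Fintype α] in
theorem prima_sym8 (G : Subgroup (Perm α)) {a b c d : α} (hac : a ≠ c) (had : a ≠ d)
    (hbc : b ≠ c) (hbd : b ≠ d) (h : swap a b * swap c d ∈ G) :
    swap b a * swap c d ∈ G ∧ swap a b * swap d c ∈ G ∧ swap b a * swap d c ∈ G ∧
    swap c d * swap a b ∈ G ∧ swap d c * swap a b ∈ G ∧ swap c d * swap b a ∈ G ∧
    swap d c * swap b a ∈ G := by
  have h4 : swap c d * swap a b ∈ G := by
    rw [← prima_comm hac had hbc hbd]; exact h
  refine ⟨?_, ?_, ?_, h4, ?_, ?_, ?_⟩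
  · rw [swap_comm b a]; exact h
  · rw [swap_comm d c]; exact h
  · rw [swap_comm b a, swap_comm d c]; exact h
  · rw [swap_comm d c]; exact h4
  · rw [swap_comm b a]; exact h4
  · rw [swap_comm b a, swap_comm d c]; exact h4

omit [Fintype α] in
/-- A subgroup containing two of the three double transpositions on a 4-set contains them
in every notation. -/
theorem prima_all_double (G : Subgroup (Perm α)) {p q r s : α} (hpq : p ≠ q) (hpr : p ≠ r)
    (hps : p ≠ s) (hqr : q ≠ r) (hqs : q ≠ s) (hrs : r ≠ s)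
    (h1 : swap p q * swap r s ∈ G) (h2 : swap p r * swap q s ∈ G) :
    ∀ a ∈ ({p, q, r, s} : Finset α), ∀ b ∈ ({p, q, r, s} : Finset α),
      ∀ c ∈ ({p, q, r, s} : Finset α), ∀ d ∈ ({p, q, r, s} : Finset α),
      a ≠ b → a ≠ c → a ≠ d → b ≠ c → b ≠ d → c ≠ d → swap a b * swap c d ∈ G := by
  have h3 : swap p s * swap q r ∈ G := by
    rw [← prima_mul_eq hpq hpr hps hqr hqs hrs]
    exact G.mul_mem h1 h2
  obtain ⟨a1, a2, a3, a4, a5, a6, a7⟩ := prima_sym8 G hpr hps hqr hqs h1
  obtain ⟨b1, b2, b3, b4, b5, b6, b7⟩ := prima_sym8 G hpq hps hqr.symm hrs h2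
  obtain ⟨c1, c2, c3, c4, c5, c6, c7⟩ := prima_sym8 G hpq hpr hqs.symm hrs.symm h3
  intro a ha b hb c hc d hd hab hac had hbc hbd hcd
  simp only [Finset.mem_insert, Finset.mem_singleton] at ha hb hc hd
  rcases ha with rfl | rfl | rfl | rfl <;> rcases hb with rfl | rfl | rfl | rfl <;>
    rcases hc with rfl | rfl | rfl | rfl <;> rcases hd with rfl | rfl | rfl | rfl <;>
    first | assumption | contradiction

theorem prima_isPGroup_zpowers {G : Type*} [Group G] (x : G) (hx : x * x = 1) :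
    IsPGroup 2 (Subgroup.zpowers x) := by
  intro g
  obtain ⟨g, hg⟩ := g
  obtain ⟨n, rfl⟩ := Subgroup.mem_zpowers_iff.mp hg
  refine ⟨1, ?_⟩
  apply Subtype.ext
  simp only [pow_one, Subgroup.coe_pow, Subgroup.coe_one]
  rw [← zpow_natCast, ← zpow_mul, mul_comm, zpow_mul, zpow_natCast, pow_two, hx, one_zpow]


theorem primTop_alt (k : ℕ) (hk : 2 ≤ k) (hα : Nat.card α = 2 ^ k + 1)
    (hJ : ∀ G : Subgroup (Perm α), IsPreprimitive G α → ∀ Γ : Finset α, Γ.card = 4 →
      (∀ a ∈ Γ, ∀ b ∈ Γ, ∀ c ∈ Γ, ∀ d ∈ Γ, a ≠ b → a ≠ c → a ≠ d → b ≠ c → b ≠ d → c ≠ d →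
        swap a b * swap c d ∈ G) → alternatingGroup α ≤ G)
    (R : Sylow 2 (alternatingGroup α)) :
    PrimTop (α := α) (R : Subgroup (alternatingGroup α)) := by
  intro M hRM hMprim
  -- four distinct points
  have h4k : 4 ≤ 2 ^ k := by
    calc 4 = 2 ^ 2 := by norm_num
      _ ≤ 2 ^ k := Nat.pow_le_pow_right (by norm_num) hk
  have hcard : Fintype.card (Fin 4) ≤ Fintype.card α := by
    rw [Fintype.card_fin, ← Nat.card_eq_fintype_card, hα]
    omega
  obtain ⟨e⟩ := Function.Embedding.nonempty_of_card_le hcard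
  have hne : ∀ i j : Fin 4, i ≠ j → e i ≠ e j := fun i j hij h => hij (e.injective h)
  have hab0 : e 0 ≠ e 1 := hne _ _ (by decide)
  have hac0 : e 0 ≠ e 2 := hne _ _ (by decide)
  have had0 : e 0 ≠ e 3 := hne _ _ (by decide)
  have hbc0 : e 1 ≠ e 2 := hne _ _ (by decide)
  have hbd0 : e 1 ≠ e 3 := hne _ _ (by decide)
  have hcd0 : e 2 ≠ e 3 := hne _ _ (by decide)
  -- the two double transpositions, as elements of the alternating group
  have hx0mem : swap (e 0) (e 1) * swap (e 2) (e 3) ∈ alternatingGroup α := by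
    rw [Equiv.Perm.mem_alternatingGroup, Equiv.Perm.sign_mul, Equiv.Perm.sign_swap hab0,
      Equiv.Perm.sign_swap hcd0]
    rfl
  have hy0mem : swap (e 0) (e 2) * swap (e 1) (e 3) ∈ alternatingGroup α := by
    rw [Equiv.Perm.mem_alternatingGroup, Equiv.Perm.sign_mul, Equiv.Perm.sign_swap hac0,
      Equiv.Perm.sign_swap hbd0]
    rfl
  obtain ⟨x0, hx0⟩ : ∃ x0 : alternatingGroup α, x0 = ⟨_, hx0mem⟩ := ⟨_, rfl⟩
  obtain ⟨y0, hy0⟩ : ∃ y0 : alternatingGroup α, y0 = ⟨_, hy0mem⟩ := ⟨_, rfl⟩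
  have hx2 : x0 * x0 = 1 := by
    rw [hx0]
    apply Subtype.ext
    show swap (e 0) (e 1) * swap (e 2) (e 3) * (swap (e 0) (e 1) * swap (e 2) (e 3)) = 1
    rw [prima_comm hac0 had0 hbc0 hbd0]
    calc swap (e 2) (e 3) * swap (e 0) (e 1) * (swap (e 2) (e 3) * swap (e 0) (e 1))
        = swap (e 2) (e 3) * (swap (e 0) (e 1) * swap (e 2) (e 3)) * swap (e 0) (e 1) := by
          group
      _ = swap (e 2) (e 3) * (swap (e 2) (e 3) * swap (e 0) (e 1)) * swap (e 0) (e 1) := by
          rw [prima_comm hac0 had0 hbc0 hbd0]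
      _ = (swap (e 2) (e 3) * swap (e 2) (e 3)) * (swap (e 0) (e 1) * swap (e 0) (e 1)) := by
          group
      _ = 1 := by rw [Equiv.swap_mul_self, Equiv.swap_mul_self, one_mul]
  have hy2 : y0 * y0 = 1 := by
    rw [hy0]
    apply Subtype.ext
    show swap (e 0) (e 2) * swap (e 1) (e 3) * (swap (e 0) (e 2) * swap (e 1) (e 3)) = 1
    rw [prima_comm hab0 had0 hbc0.symm hcd0]
    calc swap (e 1) (e 3) * swap (e 0) (e 2) * (swap (e 1) (e 3) * swap (e 0) (e 2))
        = swap (e 1) (e 3) * (swap (e 0) (e 2) * swap (e 1) (e 3)) * swap (e 0) (e 2) := by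
          group
      _ = swap (e 1) (e 3) * (swap (e 1) (e 3) * swap (e 0) (e 2)) * swap (e 0) (e 2) := by
          rw [prima_comm hab0 had0 hbc0.symm hcd0]
      _ = (swap (e 1) (e 3) * swap (e 1) (e 3)) * (swap (e 0) (e 2) * swap (e 0) (e 2)) := by
          group
      _ = 1 := by rw [Equiv.swap_mul_self, Equiv.swap_mul_self, one_mul]
  have hxy : x0 * y0 = y0 * x0 := by
    rw [hx0, hy0]
    apply Subtype.ext
    show swap (e 0) (e 1) * swap (e 2) (e 3) * (swap (e 0) (e 2) * swap (e 1) (e 3)) =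
      swap (e 0) (e 2) * swap (e 1) (e 3) * (swap (e 0) (e 1) * swap (e 2) (e 3))
    rw [prima_mul_eq hab0 hac0 had0 hbc0 hbd0 hcd0,
      prima_mul_eq hac0 hab0 had0 hbc0.symm hcd0 hbd0, swap_comm (e 2) (e 1)]
  -- a 2-group containing both
  have hPx := prima_isPGroup_zpowers x0 hx2
  have hPy := prima_isPGroup_zpowers y0 hy2
  have hnorm : Subgroup.zpowers x0 ≤ Subgroup.normalizer (Subgroup.zpowers y0 : Set _) := by
    rw [Subgroup.zpowers_le]
    apply Subgroup.centralizer_le_normalizer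
    rw [Subgroup.mem_centralizer_iff]
    intro h hh
    obtain ⟨n, rfl⟩ := Subgroup.mem_zpowers_iff.mp hh
    have hc : Commute y0 x0 := hxy.symm
    exact (hc.zpow_left n).eq
  have hP : IsPGroup 2 (Subgroup.zpowers x0 ⊔ Subgroup.zpowers y0 : Subgroup (alternatingGroup α)) :=
    hPx.to_sup_of_normal_right' hPy hnorm
  obtain ⟨Q, hQ⟩ := hP.exists_le_sylow
  obtain ⟨g, hg⟩ := MulAction.exists_smul_eq (alternatingGroup α) Q R
  have hconj : ∀ z : alternatingGroup α, z ∈ (Q : Subgroup (alternatingGroup α)) →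
      g * z * g⁻¹ ∈ M := by
    intro z hz
    apply hRM
    rw [← hg, Sylow.coe_subgroup_smul, Subgroup.mem_pointwise_smul_iff_inv_smul_mem]
    have : (MulAut.conj g)⁻¹ • (g * z * g⁻¹) = z := by
      simp [MulAut.smul_def, mul_assoc]
    rw [this]
    exact hz
  have hx1 : g * x0 * g⁻¹ ∈ M :=
    hconj x0 (hQ (le_sup_left (a := Subgroup.zpowers x0) (Subgroup.mem_zpowers x0)))
  have hy1 : g * y0 * g⁻¹ ∈ M :=
    hconj y0 (hQ (le_sup_right (b := Subgroup.zpowers y0) (Subgroup.mem_zpowers y0)))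
  -- pass to a subgroup of `Perm α`
  obtain ⟨M', hM'⟩ : ∃ M' : Subgroup (Perm α), M' = M.map (alternatingGroup α).subtype := ⟨_, rfl⟩
  have hM'prim : IsPreprimitive M' α := by
    rw [hM']
    let φ := (alternatingGroup α).subtype.subgroupMap M
    let f : α →ₑ[φ] α :=
      { toFun := id
        map_smul' := fun _ _ => rfl }
    rwa [← isPreprimitive_congr (f := f) ((alternatingGroup α).subtype.subgroupMap_surjective M)
      Function.bijective_id]
  have hval : ∀ (p q r s : α) (hm : swap p q * swap r s ∈ alternatingGroup α),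
      g * (⟨swap p q * swap r s, hm⟩ : alternatingGroup α) * g⁻¹ ∈ M →
      swap ((g : Perm α) p) ((g : Perm α) q) * swap ((g : Perm α) r) ((g : Perm α) s) ∈ M' := by
    intro p q r s hm hmem
    rw [hM', Subgroup.mem_map]
    refine ⟨_, hmem, ?_⟩
    show (g : Perm α) * (swap p q * swap r s) * (g : Perm α)⁻¹ = _
    rw [Equiv.swap_apply_apply, Equiv.swap_apply_apply]
    group
  have hx' := hval _ _ _ _ hx0mem (by rw [← hx0]; exact hx1)
  have hy' := hval _ _ _ _ hy0mem (by rw [← hy0]; exact hy1)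
  have hgi : ∀ {u v : α}, u ≠ v → (g : Perm α) u ≠ (g : Perm α) v :=
    fun huv h => huv ((g : Perm α).injective h)
  have hΓcard : ({(g : Perm α) (e 0), (g : Perm α) (e 1), (g : Perm α) (e 2),
      (g : Perm α) (e 3)} : Finset α).card = 4 := by
    rw [Finset.card_insert_of_notMem, Finset.card_insert_of_notMem, Finset.card_insert_of_notMem,
      Finset.card_singleton]
    · simp only [Finset.mem_singleton]
      exact hgi hcd0
    · simp only [Finset.mem_insert, Finset.mem_singleton, not_or]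
      exact ⟨hgi hbc0, hgi hbd0⟩
    · simp only [Finset.mem_insert, Finset.mem_singleton, not_or]
      exact ⟨hgi hab0, hgi hac0, hgi had0⟩
  have hall := prima_all_double M' (hgi hab0) (hgi hac0) (hgi had0) (hgi hbc0) (hgi hbd0)
    (hgi hcd0) hx' hy'
  have hle := hJ M' hM'prim _ hΓcard hall
  -- conclude
  rw [eq_top_iff]
  intro z _
  have hz : (z : Perm α) ∈ M' := hle z.2
  rw [hM', Subgroup.mem_map] at hz
  obtain ⟨m, hmM, hmz⟩ := hz
  have : m = z := Subtype.ext hmz
  rw [← this]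
  exact hmM

end Cfsg.Agent.Helper23.SylMax
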