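import Mathlib
import Cfsg.Agent.Helper19.TCR.StaticDefs

/-! Code-level arithmetic of the field with eight elements (`t ^ 3 = t + 1`), with `4 × 4`
matrices of codes, and their evaluation in a field of characteristic two containing such a `t`. -/

set_option autoImplicit false

namespace Cfsg.Agent.Helper23.Sz8

open Cfsg.Agent.Helper19.TCS

/-- binary digits of a code. -/
def d0 (n : ℕ) : ℕ := n % 2
def d1 (n : ℕ) : ℕ := n / 2 % 2
def d2 (n : ℕ) : ℕ := n / 4 % 2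

/-- code from three digits (reduced mod two). -/
def pack (r0 r1 r2 : ℕ) : ℕ := r0 % 2 + 2 * (r1 % 2) + 4 * (r2 % 2)

/-- addition of codes. -/
def cadd (x y : ℕ) : ℕ := pack (d0 x + d0 y) (d1 x + d1 y) (d2 x + d2 y)

/-- multiplication of codes, modulo `t ^ 3 = t + 1`. -/
def cmul (x y : ℕ) : ℕ :=
  pack (d0 x * d0 y + d1 x * d2 y + d2 x * d1 y)
    (d0 x * d1 y + d1 x * d0 y + d1 x * d2 y + d2 x * d1 y + d2 x * d2 y)
    (d0 x * d2 y + d1 x * d1 y + d2 x * d0 y + d2 x * d2 y)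

theorem d0_pack (r0 r1 r2 : ℕ) : d0 (pack r0 r1 r2) = r0 % 2 := by unfold d0 pack; omega
theorem d1_pack (r0 r1 r2 : ℕ) : d1 (pack r0 r1 r2) = r1 % 2 := by unfold d1 pack; omega
theorem d2_pack (r0 r1 r2 : ℕ) : d2 (pack r0 r1 r2) = r2 % 2 := by unfold d2 pack; omega

section ev

variable {F : Type*} [Field F]

/-- evaluation of a code at `t`. -/
def ev (t : F) (n : ℕ) : F := (d0 n : F) + (d1 n : F) * t + (d2 n : F) * t ^ 2

theorem cast_mod_two (h2 : (2 : F) = 0) (n : ℕ) : ((n % 2 : ℕ) : F) = (n : F) := by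
  obtain ⟨q, r, hn, hr⟩ : ∃ q r, n = 2 * q + r ∧ n % 2 = r :=
    ⟨n / 2, n % 2, (Nat.div_add_mod n 2).symm, rfl⟩
  rw [hr, hn]
  push_cast
  rw [h2]
  ring

theorem ev_pack (h2 : (2 : F) = 0) (t : F) (r0 r1 r2 : ℕ) :
    ev t (pack r0 r1 r2) = (r0 : F) + (r1 : F) * t + (r2 : F) * t ^ 2 := by
  unfold ev
  rw [d0_pack, d1_pack, d2_pack, cast_mod_two h2, cast_mod_two h2, cast_mod_two h2]

theorem ev_add (h2 : (2 : F) = 0) (t : F) (x y : ℕ) : ev t (cadd x y) = ev t x + ev t y := by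
  unfold cadd
  rw [ev_pack h2]
  unfold ev
  push_cast
  ring

theorem ev_mul (h2 : (2 : F) = 0) {t : F} (ht : t ^ 3 = t + 1) (x y : ℕ) :
    ev t (cmul x y) = ev t x * ev t y := by
  unfold cmul
  rw [ev_pack h2]
  unfold ev
  push_cast
  linear_combination
    (-((d1 x : F) * (d2 y : F) + (d2 x : F) * (d1 y : F) + (d2 x : F) * (d2 y : F) * t)) * ht

theorem ev_zero (t : F) : ev t 0 = 0 := by simp [ev, d0, d1, d2]
theorem ev_one (t : F) : ev t 1 = 1 := by simp [ev, d0, d1, d2]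
theorem ev_two (t : F) : ev t 2 = t := by simp [ev, d0, d1, d2]
theorem ev_three (t : F) : ev t 3 = 1 + t := by simp [ev, d0, d1, d2]
theorem ev_four (t : F) : ev t 4 = t ^ 2 := by simp [ev, d0, d1, d2]
theorem ev_five (t : F) : ev t 5 = 1 + t ^ 2 := by simp [ev, d0, d1, d2]
theorem ev_six (t : F) : ev t 6 = t + t ^ 2 := by simp [ev, d0, d1, d2]
theorem ev_seven (t : F) : ev t 7 = 1 + t + t ^ 2 := by simp [ev, d0, d1, d2]

end ev

/-- a `4 × 4` matrix of codes. -/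
structure CM where
  a00 : ℕ
  a01 : ℕ
  a02 : ℕ
  a03 : ℕ
  a10 : ℕ
  a11 : ℕ
  a12 : ℕ
  a13 : ℕ
  a20 : ℕ
  a21 : ℕ
  a22 : ℕ
  a23 : ℕ
  a30 : ℕ
  a31 : ℕ
  a32 : ℕ
  a33 : ℕ
deriving DecidableEq

/-- the identity matrix of codes. -/
def cone : CM := ⟨1, 0, 0, 0, 0, 1, 0, 0, 0, 0, 1, 0, 0, 0, 0, 1⟩

/-- a row times a column. -/
def dot4 (a b c d e f g h : ℕ) : ℕ :=
  cadd (cadd (cadd (cmul a e) (cmul b f)) (cmul c g)) (cmul d h)

/-- product of code matrices, with forced evaluation of the entries. -/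
noncomputable def mmul : CM → CM → CM
  | ⟨a00, a01, a02, a03, a10, a11, a12, a13, a20, a21, a22, a23, a30, a31, a32, a33⟩,
    ⟨b00, b01, b02, b03, b10, b11, b12, b13, b20, b21, b22, b23, b30, b31, b32, b33⟩ =>
    force (dot4 a00 a01 a02 a03 b00 b10 b20 b30) fun c00 =>
    force (dot4 a00 a01 a02 a03 b01 b11 b21 b31) fun c01 =>
    force (dot4 a00 a01 a02 a03 b02 b12 b22 b32) fun c02 =>
    force (dot4 a00 a01 a02 a03 b03 b13 b23 b33) fun c03 =>
    force (dot4 a10 a11 a12 a13 b00 b10 b20 b30) fun c10 =>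
    force (dot4 a10 a11 a12 a13 b01 b11 b21 b31) fun c11 =>
    force (dot4 a10 a11 a12 a13 b02 b12 b22 b32) fun c12 =>
    force (dot4 a10 a11 a12 a13 b03 b13 b23 b33) fun c13 =>
    force (dot4 a20 a21 a22 a23 b00 b10 b20 b30) fun c20 =>
    force (dot4 a20 a21 a22 a23 b01 b11 b21 b31) fun c21 =>
    force (dot4 a20 a21 a22 a23 b02 b12 b22 b32) fun c22 =>
    force (dot4 a20 a21 a22 a23 b03 b13 b23 b33) fun c23 =>
    force (dot4 a30 a31 a32 a33 b00 b10 b20 b30) fun c30 =>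
    force (dot4 a30 a31 a32 a33 b01 b11 b21 b31) fun c31 =>
    force (dot4 a30 a31 a32 a33 b02 b12 b22 b32) fun c32 =>
    force (dot4 a30 a31 a32 a33 b03 b13 b23 b33) fun c33 =>
    ⟨c00, c01, c02, c03, c10, c11, c12, c13, c20, c21, c22, c23, c30, c31, c32, c33⟩

section evM

variable {F : Type*} [Field F]

/-- evaluation of a matrix of codes. -/
def evM (t : F) (A : CM) : Matrix (Fin 4) (Fin 4) F :=
  !![ev t A.a00, ev t A.a01, ev t A.a02, ev t A.a03;
     ev t A.a10, ev t A.a11, ev t A.a12, ev t A.a13;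
     ev t A.a20, ev t A.a21, ev t A.a22, ev t A.a23;
     ev t A.a30, ev t A.a31, ev t A.a32, ev t A.a33]

theorem ev_dot4 (h2 : (2 : F) = 0) {t : F} (ht : t ^ 3 = t + 1) (a b c d e f g h : ℕ) :
    ev t (dot4 a b c d e f g h) =
      ev t a * ev t e + ev t b * ev t f + ev t c * ev t g + ev t d * ev t h := by
  unfold dot4
  rw [ev_add h2, ev_add h2, ev_add h2, ev_mul h2 ht, ev_mul h2 ht, ev_mul h2 ht, ev_mul h2 ht]

theorem evM_one (t : F) : evM t cone = 1 := by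
  ext i j
  fin_cases i <;> fin_cases j <;> simp [evM, cone, ev_zero, ev_one]

theorem evM_mul (h2 : (2 : F) = 0) {t : F} (ht : t ^ 3 = t + 1) (A B : CM) :
    evM t (mmul A B) = evM t A * evM t B := by
  obtain ⟨a00, a01, a02, a03, a10, a11, a12, a13, a20, a21, a22, a23, a30, a31, a32, a33⟩ := A
  obtain ⟨b00, b01, b02, b03, b10, b11, b12, b13, b20, b21, b22, b23, b30, b31, b32, b33⟩ := B
  ext i j
  fin_cases i <;> fin_cases j <;>
    simp [evM, mmul, force_eq, ev_dot4 h2 ht, Matrix.mul_apply, Fin.sum_univ_four]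

end evM

/-- code-level word product, in the convention `prodw (l :: w) = prodw w * g l`. -/
noncomputable def cprodw (G : ℕ → CM) : List ℕ → CM
  | [] => cone
  | l :: w => mmul (cprodw G w) (G l)

end Cfsg.Agent.Helper23.Sz8
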