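import Mathlib
import Cfsg.Agent.Helper2.SzQ
import Cfsg.Agent.Helper11.SzBridge
import Cfsg.Agent.Helper19.Schur.Basic
import Cfsg.Agent.Helper23.Sz8Code

/-! Concrete side of the Schur multiplier of `Sz(8)`: two generators of `Cfsg.Lie.Sz F 4`
(`|F| = 8`) satisfying the nine relators `rels`, and the order of the group. -/

set_option autoImplicit false
set_option linter.unusedSectionVars false
set_option linter.unusedVariables false

namespace Cfsg.Agent.Helper23.Sz8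

open Cfsg.Agent.Helper19.TCS Cfsg.Agent.Helper19.Schur Cfsg.Agent.Helper2.SzO Matrix

/-- the nine relators. -/
def rels : List (List ℕ) :=
  [[0,0,0,0,0,0,0],[0,2,0,2,0,2,0,2,0,2],[0,0,2,2,1,2,0,0,2,2,1,2],[0,0,3,0,0,3,0,0,3,0,0,3],
   [0,0,2,0,2,1,2,0,0,3,3,3,3],[2,2,2,2,2,2,2,2,2,2,2,2,2],[0,0,0,2,0,2,1,3,3,3,3,1,2,2],
   [0,0,0,2,2,1,3,3,0,2,2,1,1,2],[0,0,0,3,3,3,0,3,0,3,1,2,2,2]]

/-! ### code matrices -/

def cx : CM := ⟨3,0,0,0, 0,4,0,0, 0,0,7,0, 0,0,0,6⟩
def cT : CM := ⟨1,2,7,5, 0,1,6,0, 0,0,1,2, 0,0,0,1⟩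
def cW : CM := ⟨0,0,0,1, 0,0,1,0, 0,1,0,0, 1,0,0,0⟩
def cy : CM := ⟨5,7,2,1, 0,6,1,0, 2,1,0,0, 1,0,0,0⟩
def cxi : CM := ⟨6,0,0,0, 0,7,0,0, 0,0,4,0, 0,0,0,3⟩
def cyi : CM := ⟨0,0,0,1, 0,0,1,2, 0,1,6,7, 1,2,0,5⟩
def cT10 : CM := ⟨1,1,1,1, 0,1,1,0, 0,0,1,1, 0,0,0,1⟩

/-- the code matrices of the four letters. -/
def cG (l : ℕ) : CM :=
  match l with
  | 0 => cx
  | 1 => cxi
  | 2 => cy
  | 3 => cyi
  | _ => cone

theorem cy_eq : mmul cT cW = cy := by decide +kernel
theorem cx_cxi : mmul cx cxi = cone := by decide +kernel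
theorem cy_cyi : mmul cy cyi = cone := by decide +kernel
theorem crels : ∀ w ∈ rels, cprodw cG w = cone := by decide +kernel
theorem cword_W : cprodw cG [0, 2, 1, 3, 0, 2, 0, 3, 1, 1, 2] = cW := by decide +kernel
theorem cword_T10 : cprodw cG [1, 3, 3, 0, 2, 1, 1, 3, 3] = cT10 := by decide +kernel

/-! ### the field side -/

section field

variable {F : Type*} [Field F] [Fintype F]

theorem card_eq (hF : Fintype.card F = 8) : Fintype.card F = 2 ^ (2 * 1 + 1) := by
  rw [hF]; norm_num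

theorem exists_t (hF : Fintype.card F = 8) : ∃ t : F, t ^ 3 = t + 1 := by
  classical
  have h2 : (2 : F) = 0 := two_eq_zero (card_eq hF)
  obtain ⟨s, hs0, hs1⟩ : ∃ s : F, s ≠ 0 ∧ s ≠ 1 := by
    by_contra hcon
    push Not at hcon
    have hsub : (Finset.univ : Finset F) ⊆ {0, 1} := by
      intro s _
      by_cases h : s = 0
      · simp [h]
      · simp [hcon s h]
    have := Finset.card_le_card hsub
    rw [Finset.card_univ, hF] at this
    have h3 : ({0, 1} : Finset F).card ≤ 2 := Finset.card_le_two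
    omega
  have h7 : s ^ 7 = 1 := by
    have := FiniteField.pow_card_sub_one_eq_one s hs0
    rwa [hF] at this
  have hprod : (s - 1) * ((s ^ 3 + s + 1) * (s ^ 3 + s ^ 2 + 1)) = 0 := by
    linear_combination h7 + (s ^ 3 * (s - 1)) * h2
  rcases mul_eq_zero.mp hprod with h | h
  · exact absurd (sub_eq_zero.mp h) hs1
  · rcases mul_eq_zero.mp h with h | h
    · exact ⟨s, by linear_combination h - (s + 1) * h2⟩
    · exact ⟨s + 1, by linear_combination h + (s ^ 2 + s - 1) * h2⟩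

end field

/-! ### matrices of the generators -/

section mats

variable {F : Type*} [Field F] [Fintype F]

/-- the matrix of an element of the Suzuki group. -/
def mat (g : ↥(Cfsg.Sz F 1)) : Matrix (Fin 4) (Fin 4) F := (g : SpecialLinearGroup (Fin 4) F).1

theorem mat_mul (g h : ↥(Cfsg.Sz F 1)) : mat (g * h) = mat g * mat h := rfl

theorem mat_one : mat (1 : ↥(Cfsg.Sz F 1)) = 1 := rfl

theorem mat_injective : Function.Injective (mat : ↥(Cfsg.Sz F 1) → Matrix (Fin 4) (Fin 4) F) :=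
  fun g h e => Subtype.ext (Subtype.ext e)

theorem t_ne_zero {t : F} (ht : t ^ 3 = t + 1) : t ≠ 0 := by
  rintro rfl
  simp at ht

theorem t_inv (h2 : (2 : F) = 0) {t : F} (ht : t ^ 3 = t + 1) : t⁻¹ = 1 + t ^ 2 :=
  inv_eq_of_mul_eq_one_right (by linear_combination ht + t * h2)

theorem diag_eq (h2 : (2 : F) = 0) {t : F} (ht : t ^ 3 = t + 1) :
    Matrix.diagonal (dvec 1 (Units.mk0 t (t_ne_zero ht))) = evM t cx := by
  have e5 : cmul 5 5 = 7 := by decide
  have e6 : cmul (cmul 5 5) 5 = 6 := by decide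
  have h22 : (t⁻¹) ^ 2 = ev t 7 := by
    rw [t_inv h2 ht, ← ev_five, pow_two, ← ev_mul h2 ht, e5]
  have h33 : (t⁻¹) ^ 3 = ev t 6 := by
    rw [t_inv h2 ht, ← ev_five, pow_succ, pow_two, ← ev_mul h2 ht, ← ev_mul h2 ht, e6]
  have h00 : t ^ 3 = ev t 3 := by rw [ev_three, ht]; ring
  have h11 : t ^ 2 = ev t 4 := by rw [ev_four]
  have h22' : (ev t 4)⁻¹ = ev t 7 := by rw [← h11, ← inv_pow, h22]
  have h33' : (ev t 3)⁻¹ = ev t 6 := by rw [← h00, ← inv_pow, h33]
  ext i j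
  fin_cases i <;> fin_cases j <;>
    simp [evM, cx, dvec, ev_zero, h00, h11, h22', h33']

theorem Tm_eq (h2 : (2 : F) = 0) {t : F} (ht : t ^ 3 = t + 1) : Tm 1 t 0 = evM t cT := by
  have e4 : t ^ 4 = t + t ^ 2 := by linear_combination t * ht
  have e5 : (t + t ^ 2) * t = 1 + t + t ^ 2 := by linear_combination ht
  have e6 : t ^ 6 = 1 + t ^ 2 := by linear_combination (t ^ 3 + t + 1) * ht + t * h2
  ext i j
  fin_cases i <;> fin_cases j <;>
    simp [Tm, evM, cT, f, sg, ev_zero, ev_one, ev_two, ev_five, ev_six, ev_seven, e4, e5, e6]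

theorem Wm_eq' (t : F) : (Wm : Matrix (Fin 4) (Fin 4) F) = evM t cW := by
  ext i j
  fin_cases i <;> fin_cases j <;> simp [Wm, evM, cW, ev_zero, ev_one]

theorem T10_eq (t : F) : Tm 1 (1 : F) 0 = evM t cT10 := by
  ext i j
  fin_cases i <;> fin_cases j <;> simp [Tm, evM, cT10, f, sg, ev_zero, ev_one]

end mats

/-! ### words -/

section words

variable {Γ : Type*} [Group Γ]

theorem gc2_mem (x y : Γ) (l : ℕ) : gc2 x y l ∈ Subgroup.closure ({x, y} : Set Γ) := by
  have hx : x ∈ Subgroup.closure ({x, y} : Set Γ) := Subgroup.subset_closure (by simp)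
  have hy : y ∈ Subgroup.closure ({x, y} : Set Γ) := Subgroup.subset_closure (by simp)
  match l with
  | 0 => exact hx
  | 1 => exact inv_mem hx
  | 2 => exact hy
  | 3 => exact inv_mem hy
  | (n + 4) => exact one_mem _

theorem prodw_mem (x y : Γ) (w : List ℕ) :
    prodw (gc2 x y) w ∈ Subgroup.closure ({x, y} : Set Γ) := by
  induction w with
  | nil => exact one_mem _
  | cons l w ih => exact mul_mem ih (gc2_mem x y l)

theorem gc2_map {Δ : Type*} [Group Δ] (e : Γ →* Δ) (x y : Γ) (l : ℕ) :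
    gc2 (e x) (e y) l = e (gc2 x y l) := by
  match l with
  | 0 => rfl
  | 1 => exact (map_inv e x).symm
  | 2 => rfl
  | 3 => exact (map_inv e y).symm
  | (n + 4) => exact (map_one e).symm

theorem prodw_map {Δ : Type*} [Group Δ] (e : Γ →* Δ) (x y : Γ) (w : List ℕ) :
    prodw (gc2 (e x) (e y)) w = e (prodw (gc2 x y) w) := by
  induction w with
  | nil => exact (map_one e).symm
  | cons l w ih =>
    show prodw (gc2 (e x) (e y)) w * gc2 (e x) (e y) l = e (prodw (gc2 x y) w * gc2 x y l)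
    rw [map_mul, ih, gc2_map]

end words

/-! ### the generators in the ovoid model -/

section group

variable {F : Type*} [Field F] [Fintype F] (hF : Fintype.card F = 8) {t : F} (ht : t ^ 3 = t + 1)

/-- the torus generator. -/
noncomputable def gx : ↥(Cfsg.Sz F 1) := Dz (card_eq hF) (Units.mk0 t (t_ne_zero ht))

/-- the generator of order thirteen. -/
noncomputable def gy (t : F) : ↥(Cfsg.Sz F 1) := Tz (card_eq hF) t 0 * Wz (card_eq hF)

theorem mat_gx : mat (gx hF ht) = evM t cx := diag_eq (two_eq_zero (card_eq hF)) ht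

include ht in
theorem mat_gy : mat (gy hF t) = evM t cy := by
  have h2 : (2 : F) = 0 := two_eq_zero (card_eq hF)
  rw [← cy_eq, evM_mul h2 ht, ← Tm_eq h2 ht, ← Wm_eq' t]
  rfl

include hF ht in
theorem mat_inv_of {g : ↥(Cfsg.Sz F 1)} {c ci : CM} (hg : mat g = evM t c)
    (hc : mmul c ci = cone) : mat g⁻¹ = evM t ci := by
  have h2 : (2 : F) = 0 := two_eq_zero (card_eq hF)
  have h1 : mat g * evM t ci = 1 := by rw [hg, ← evM_mul h2 ht, hc, evM_one]
  have h3 : mat g⁻¹ * mat g = 1 := by rw [← mat_mul, inv_mul_cancel, mat_one]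
  calc mat g⁻¹ = mat g⁻¹ * (mat g * evM t ci) := by rw [h1, mul_one]
    _ = (mat g⁻¹ * mat g) * evM t ci := by rw [Matrix.mul_assoc]
    _ = evM t ci := by rw [h3, one_mul]

theorem mat_gc2 (l : ℕ) : mat (gc2 (gx hF ht) (gy hF t) l) = evM t (cG l) := by
  match l with
  | 0 => exact mat_gx hF ht
  | 1 => exact mat_inv_of hF ht (mat_gx hF ht) cx_cxi
  | 2 => exact mat_gy hF ht
  | 3 => exact mat_inv_of hF ht (mat_gy hF ht) cy_cyi
  | (n + 4) => exact (evM_one t).symm

theorem mat_prodw (w : List ℕ) :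
    mat (prodw (gc2 (gx hF ht) (gy hF t)) w) = evM t (cprodw cG w) := by
  have h2 : (2 : F) = 0 := two_eq_zero (card_eq hF)
  induction w with
  | nil => exact (evM_one t).symm
  | cons l w ih =>
    show mat (prodw (gc2 (gx hF ht) (gy hF t)) w * gc2 (gx hF ht) (gy hF t) l) =
      evM t (mmul (cprodw cG w) (cG l))
    rw [mat_mul, evM_mul h2 ht, ih, mat_gc2]

theorem rels_hold : ∀ w ∈ rels, prodw (gc2 (gx hF ht) (gy hF t)) w = 1 := by
  intro w hw
  apply mat_injective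
  rw [mat_prodw, crels w hw, evM_one, mat_one]

end group

/-! ### generation -/

section generation

variable {F : Type*} [Field F] [Fintype F] (hF : Fintype.card F = 8) {t : F} (ht : t ^ 3 = t + 1)

/-- the torus as a homomorphism into the Suzuki group. -/
noncomputable def DzHom : Fˣ →* ↥(Cfsg.Sz F 1) where
  toFun := Dz (card_eq hF)
  map_one' := Subtype.ext D_one
  map_mul' k l := Subtype.ext (D_mul k l)

theorem t_ne_one {t : F} (ht : t ^ 3 = t + 1) : t ≠ 1 := by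
  rintro rfl
  have h : (1 : F) = 0 := by linear_combination (-1 : F) * ht
  exact one_ne_zero h

theorem Dz_mem (k : Fˣ) :
    Dz (card_eq hF) k ∈ Subgroup.closure ({gx hF ht, gy hF t} : Set ↥(Cfsg.Sz F 1)) := by
  have hcard : Nat.card Fˣ = 7 := by rw [Nat.card_units, Nat.card_eq_fintype_card, hF]
  have : Fact (Nat.Prime 7) := ⟨by norm_num⟩
  have hu : Units.mk0 t (t_ne_zero ht) ≠ 1 := by
    intro h
    have h' := congrArg Units.val h
    rw [Units.val_mk0, Units.val_one] at h'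
    exact t_ne_one ht h'
  have hk : k ∈ Subgroup.zpowers (Units.mk0 t (t_ne_zero ht)) :=
    mem_zpowers_of_prime_card hcard hu
  obtain ⟨n, rfl⟩ := Subgroup.mem_zpowers_iff.mp hk
  have h1 : Dz (card_eq hF) (Units.mk0 t (t_ne_zero ht) ^ n) = (gx hF ht) ^ n :=
    map_zpow (DzHom hF) _ n
  rw [h1]
  exact zpow_mem (Subgroup.subset_closure (by simp)) n

theorem Wz_mem :
    Wz (card_eq hF) ∈ Subgroup.closure ({gx hF ht, gy hF t} : Set ↥(Cfsg.Sz F 1)) := by
  have h1 : prodw (gc2 (gx hF ht) (gy hF t)) [0, 2, 1, 3, 0, 2, 0, 3, 1, 1, 2] =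
      Wz (card_eq hF) := by
    apply mat_injective
    rw [mat_prodw, cword_W, ← Wm_eq' t]
    rfl
  rw [← h1]
  exact prodw_mem _ _ _

theorem Tz10_mem :
    Tz (card_eq hF) 1 0 ∈ Subgroup.closure ({gx hF ht, gy hF t} : Set ↥(Cfsg.Sz F 1)) := by
  have h1 : prodw (gc2 (gx hF ht) (gy hF t)) [1, 3, 3, 0, 2, 1, 1, 3, 3] =
      Tz (card_eq hF) 1 0 := by
    apply mat_injective
    rw [mat_prodw, cword_T10, ← T10_eq t]
    rfl
  rw [← h1]
  exact prodw_mem _ _ _

theorem Tz_a0_mem (a : F) :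
    Tz (card_eq hF) a 0 ∈ Subgroup.closure ({gx hF ht, gy hF t} : Set ↥(Cfsg.Sz F 1)) := by
  by_cases ha : a = 0
  · subst ha
    rw [Tz_one]
    exact one_mem _
  · have h1 := Dz_mul_Tz (card_eq hF) (Units.mk0 a ha) (1 : F) 0
    rw [Units.val_mk0, mul_one, mul_zero] at h1
    rw [← h1]
    exact mul_mem (mul_mem (Dz_mem hF ht _) (Tz10_mem hF ht)) (inv_mem (Dz_mem hF ht _))

theorem Tz_0c_mem (c : F) :
    Tz (card_eq hF) 0 c ∈ Subgroup.closure ({gx hF ht, gy hF t} : Set ↥(Cfsg.Sz F 1)) := by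
  have h2 : (2 : F) = 0 := two_eq_zero (card_eq hF)
  by_cases hc : c = 0
  · subst hc
    rw [Tz_one]
    exact one_mem _
  · obtain ⟨k, hk⟩ := exists_pow_sg_succ (card_eq hF) (Units.mk0 c hc)
    have hk' : (k : F) ^ (sg 1 + 1) = c := by
      have := congrArg Units.val hk
      rwa [Units.val_pow_eq_pow_val, Units.val_mk0] at this
    have h1 := Tz_mul (card_eq hF) (k : F) 0 (k : F) 0
    have e1 : (k : F) + (k : F) = 0 := by linear_combination (k : F) * h2
    have e2 : (0 : F) + 0 + (k : F) ^ sg 1 * (k : F) = c := by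
      rw [← hk', pow_succ]; ring
    rw [e1, e2] at h1
    rw [← h1]
    exact mul_mem (Tz_a0_mem hF ht _) (Tz_a0_mem hF ht _)

theorem Tz_mem (a b : F) :
    Tz (card_eq hF) a b ∈ Subgroup.closure ({gx hF ht, gy hF t} : Set ↥(Cfsg.Sz F 1)) := by
  have h1 := Tz_mul (card_eq hF) a 0 (0 : F) b
  have e2 : (0 : F) + b + a ^ sg 1 * 0 = b := by ring
  rw [add_zero, e2] at h1
  rw [← h1]
  exact mul_mem (Tz_a0_mem hF ht _) (Tz_0c_mem hF ht _)

theorem closure_eq_top :
    Subgroup.closure ({gx hF ht, gy hF t} : Set ↥(Cfsg.Sz F 1)) = ⊤ := by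
  rw [eq_top_iff]
  rintro ⟨g, hg⟩ -
  rcases decomp (card_eq hF) (le_refl 1) hg with ⟨a, b, k, h⟩ | ⟨a, b, a', b', k, h⟩
  · have h1 : (⟨g, hg⟩ : ↥(Cfsg.Sz F 1)) = Tz (card_eq hF) a b * Dz (card_eq hF) k :=
      Subtype.ext h
    rw [h1]
    exact mul_mem (Tz_mem hF ht a b) (Dz_mem hF ht k)
  · have h1 : (⟨g, hg⟩ : ↥(Cfsg.Sz F 1)) = Tz (card_eq hF) a b * Wz (card_eq hF) *
        (Tz (card_eq hF) a' b' * Dz (card_eq hF) k) := Subtype.ext h
    rw [h1]
    exact mul_mem (mul_mem (Tz_mem hF ht a b) (Wz_mem hF ht))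
      (mul_mem (Tz_mem hF ht a' b') (Dz_mem hF ht k))

end generation

/-! ### transport to `Cfsg.Lie.Sz F 4` -/

/-- the bridge isomorphism at `m = 1`. -/
noncomputable def bridge {F : Type*} [Field F] [Fintype F] (hF : Fintype.card F = 8) :
    ↥(Cfsg.Sz F 1) ≃* ↥(Cfsg.Lie.Sz F 4) :=
  Cfsg.Agent.Helper11.SzBridge.szEquiv (card_eq hF) (le_refl 1)

theorem exists_gens {F : Type*} [Field F] [Fintype F] (hF : Fintype.card F = 8) :
    ∃ x y : ↥(Cfsg.Lie.Sz F 4),
      Subgroup.closure {x, y} = (⊤ : Subgroup ↥(Cfsg.Lie.Sz F 4)) ∧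
      ∀ w ∈ rels, prodw (gc2 x y) w = 1 := by
  obtain ⟨t, ht⟩ := exists_t hF
  refine ⟨bridge hF (gx hF ht), bridge hF (gy hF t), ?_, ?_⟩
  · have h1 := congrArg (Subgroup.map (bridge hF).toMonoidHom) (closure_eq_top hF ht)
    rw [MonoidHom.map_closure, Set.image_pair,
      Subgroup.map_top_of_surjective _ (bridge hF).surjective] at h1
    exact h1
  · intro w hw
    have h1 := prodw_map (bridge hF).toMonoidHom (gx hF ht) (gy hF t) w
    rw [rels_hold hF ht w hw, map_one] at h1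
    exact h1

theorem card_sz8 {F : Type*} [Field F] [Fintype F] (hF : Fintype.card F = 8) :
    Nat.card ↥(Cfsg.Lie.Sz F 4) = 29120 := by
  rw [← Nat.card_congr (bridge hF).toEquiv, card_Sz (card_eq hF) (le_refl 1)]
  norm_num

end Cfsg.Agent.Helper23.Sz8
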