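import Cfsg.Agent.Helper5.TDDefs
import Cfsg.Agent.Helper29.TwoDegB

set_option autoImplicit false

/-!
# S4460 piece DX1: case X, the normal p-subgroup `P` has at most two character degrees
-/

namespace Cfsg.Agent.Helper23.TD

open Cfsg Cfsg.Agent.Helper24 Cfsg.Agent.Helper29.TwoDeg
open scoped ComplexConjugate commutatorElement

universe u

variable {G : Type u} [Group G] [Finite G]

open Cfsg.Agent.Helper5.TD

/-- The `p`-part of `e * p ^ a` when `p ∤ e`. -/
theorem dx1_ordProj_mul_pow {p : ℕ} (hp : p.Prime) (e a : ℕ) (he0 : e ≠ 0) (hpe : ¬ p ∣ e) :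
    ordProj[p] (e * p ^ a) = p ^ a := by
  have hp0 : p ^ a ≠ 0 := pow_ne_zero _ hp.ne_zero
  rw [Nat.factorization_mul he0 hp0, Finsupp.add_apply,
    Nat.factorization_eq_zero_of_not_dvd hpe, zero_add, hp.factorization_pow,
    Finsupp.single_eq_same]

/-- The `p`-part of a number prime to `p` is `1`. -/
theorem dx1_ordProj_of_not_dvd {p k : ℕ} (h : ¬ p ∣ k) : ordProj[p] k = 1 := by
  rw [Nat.factorization_eq_zero_of_not_dvd h, pow_zero]

/-- If `p ∤ |G : P|`, the degree of an irreducible character of the normal `p`-subgroup `P`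
is the `p`-part of the degree of an irreducible character of `G` above it. -/
theorem dx1_deg_eq_ordProj {p : ℕ} (hp : p.Prime)
    (P : Subgroup G) [P.Normal] (hPp : IsPGroup p P) (hidx : ¬ p ∣ P.index)
    (θ : IrrCharacter P) : ∃ χ : IrrCharacter G, irrDeg θ = ordProj[p] (irrDeg χ) := by
  classical
  have : Fintype G := Fintype.ofFinite G
  have : Fintype P := Fintype.ofFinite P
  obtain ⟨χ, hχ⟩ := exists_irr_over P θ
  obtain ⟨e, he, hdvd⟩ := irrDeg_dvd_of_over P χ θ hχ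
  refine ⟨χ, ?_⟩
  have : Fact p.Prime := ⟨hp⟩
  obtain ⟨k, hk⟩ := hPp.exists_card_eq
  have hθ : irrDeg θ ∣ p ^ k := by
    have := Cfsg.Agent.Helper29.TwoDeg.irrDeg_dvd_card θ
    rwa [hk] at this
  obtain ⟨a, -, hpa⟩ := (Nat.dvd_prime_pow hp).mp hθ
  have hpe : ¬ p ∣ e := fun h => hidx (dvd_trans h hdvd)
  have he0 : e ≠ 0 := by
    intro h0
    have := irrDeg_pos χ
    rw [he, h0, zero_mul] at this
    exact lt_irrefl _ this
  rw [he, hpa, dx1_ordProj_mul_pow hp e a he0 hpe]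

theorem caseX_two_degrees {m n p : ℕ} (td : ThreeDeg G m n) (hp : p.Prime)
    (P : Subgroup G) [P.Normal] (hPp : IsPGroup p P)
    (hnot : ¬ (p ∣ m ∧ p ∣ n)) (hidx : ¬ p ∣ P.index) :
    ∃ d : ℕ, ∀ θ : IrrCharacter P, irrDeg θ = 1 ∨ irrDeg θ = d := by
  have h1 : ordProj[p] 1 = 1 := by
    rw [Nat.factorization_one, Finsupp.zero_apply, pow_zero]
  by_cases hm : p ∣ m
  · have hn : ¬ p ∣ n := fun h => hnot ⟨hm, h⟩
    refine ⟨ordProj[p] m, ?_⟩
    intro θ
    obtain ⟨χ, hχ⟩ := dx1_deg_eq_ordProj hp P hPp hidx θ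
    rcases td.cases χ with h | h | h
    · left; rw [hχ, h, h1]
    · right; rw [hχ, h]
    · left; rw [hχ, h, dx1_ordProj_of_not_dvd hn]
  · refine ⟨ordProj[p] n, ?_⟩
    intro θ
    obtain ⟨χ, hχ⟩ := dx1_deg_eq_ordProj hp P hPp hidx θ
    rcases td.cases χ with h | h | h
    · left; rw [hχ, h, h1]
    · left; rw [hχ, h, dx1_ordProj_of_not_dvd hm]
    · right; rw [hχ, h]

end Cfsg.Agent.Helper23.TD
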