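import Mathlib
import Cfsg.Agent.Helper23.PLengthOne
import Cfsg.Agent.Helper23.PSeries
import Cfsg.Agent.Helper14.PCore
import Cfsg.Agent.Helper7.PPrimeCore

set_option autoImplicit false

namespace Cfsg.Agent.Helper23

open Subgroup Pointwise

universe u

/-- The trivial-intersection property of a subgroup. -/
def IsTI {H : Type*} [Group H] (P : Subgroup H) : Prop :=
  ∀ g : H, g ∉ normalizer (P : Set H) → P ⊓ (MulAut.conj g • P) = ⊥

/-- Hypotheses: no nontrivial normal `p`-subgroup, no nontrivial normal `p'`-subgroup, and a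
nontrivial TI Sylow `p`-subgroup. -/
def TIData (p : ℕ) (H : Type u) [Group H] : Prop :=
  (∀ K : Subgroup H, K.Normal → IsPGroup p K → K = ⊥) ∧
  (∀ K : Subgroup H, K.Normal → (Nat.card K).Coprime p → K = ⊥) ∧
  ∃ P : Sylow p H, (P : Subgroup H) ≠ ⊥ ∧ IsTI (P : Subgroup H)

section

variable {H : Type u} [Group H] [Finite H] {p : ℕ} [hp : Fact p.Prime]

omit [Finite H] in
theorem mem_conj_smul {P : Subgroup H} {g x : H} :
    x ∈ MulAut.conj g • P ↔ g⁻¹ * x * g ∈ P := by
  rw [Subgroup.mem_pointwise_smul_iff_inv_smul_mem, ← map_inv, MulAut.smul_def, MulAut.conj_apply,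
    inv_inv]

/-- a `p`-subgroup normalizing a Sylow `p`-subgroup lies in it -/
theorem le_sylow_of_le_normalizer (P : Sylow p H) (R : Subgroup H) (hR : IsPGroup p R)
    (hRP : R ≤ normalizer ((P : Subgroup H) : Set H)) : R ≤ P := by
  have h1 : IsPGroup p (R ⊔ (P : Subgroup H) : Subgroup H) :=
    IsPGroup.to_sup_of_normal_right' hR P.isPGroup' hRP
  have h2 := P.is_maximal' h1 le_sup_right
  rw [← h2]
  exact le_sup_left

/-- a normal subgroup of order divisible by `p` meets every Sylow `p`-subgroup nontrivially -/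
theorem sylow_inf_normal_ne_bot (P : Sylow p H) (K : Subgroup H) [hK : K.Normal]
    (hpK : p ∣ Nat.card K) : (P : Subgroup H) ⊓ K ≠ ⊥ := by
  obtain ⟨k, hk⟩ := exists_prime_orderOf_dvd_card' p hpK
  have hkp : IsPGroup p (zpowers (k : H)) := by
    apply IsPGroup.of_card (n := 1)
    rw [Nat.card_zpowers, Subgroup.orderOf_coe, hk, pow_one]
  obtain ⟨P', hP'⟩ := hkp.exists_le_sylow
  obtain ⟨g, hg⟩ := MulAction.exists_smul_eq H P' P
  intro hbot
  have h1 : g * (k : H) * g⁻¹ ∈ (P : Subgroup H) := by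
    rw [← hg, Sylow.smul_def]
    show g * (k : H) * g⁻¹ ∈ MulAut.conj g • (P' : Subgroup H)
    rw [mem_conj_smul]
    have : g⁻¹ * (g * (k : H) * g⁻¹) * g = k := by group
    rw [this]
    exact hP' (mem_zpowers _)
  have h2 : g * (k : H) * g⁻¹ ∈ K := hK.conj_mem _ k.2 g
  have h3 : g * (k : H) * g⁻¹ ∈ (P : Subgroup H) ⊓ K := mem_inf.mpr ⟨h1, h2⟩
  rw [hbot, mem_bot] at h3
  have h4 : (k : H) = 1 := by
    have : (k : H) = g⁻¹ * (g * (k : H) * g⁻¹) * g := by group
    rw [this, h3]; group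
  have h5 : k = 1 := Subtype.ext h4
  rw [h5, orderOf_one] at hk
  exact hp.out.one_lt.ne hk

/-- Two nontrivial normal subgroups intersect nontrivially. -/
theorem TIData.inf_ne_bot (h : TIData p H) (K₁ K₂ : Subgroup H) [hK₁ : K₁.Normal]
    [hK₂ : K₂.Normal] (h₁ : K₁ ≠ ⊥) (h₂ : K₂ ≠ ⊥) : K₁ ⊓ K₂ ≠ ⊥ := by
  obtain ⟨hOp, hOp', P, hP1, hTI⟩ := h
  intro hbot
  have hdisj : Disjoint K₁ K₂ := disjoint_iff.mpr hbot
  have hpK : ∀ K : Subgroup H, K.Normal → K ≠ ⊥ → p ∣ Nat.card K := by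
    intro K hKn hK1
    by_contra hnd
    exact hK1 (hOp' K hKn (Nat.Coprime.symm ((Nat.Prime.coprime_iff_not_dvd hp.out).mpr hnd)))
  have hQ₁ := sylow_inf_normal_ne_bot P K₁ (hpK K₁ hK₁ h₁)
  have hQ₂ := sylow_inf_normal_ne_bot P K₂ (hpK K₂ hK₂ h₂)
  -- some element of `K₂` does not normalize `P`
  have hex : ∃ g ∈ K₂, g ∉ normalizer ((P : Subgroup H) : Set H) := by
    by_contra hcon
    push Not at hcon
    apply hQ₂
    apply hOp _ _ (P.isPGroup'.to_le inf_le_left)
    constructor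
    intro q hq g
    refine mem_inf.mpr ⟨?_, hK₂.conj_mem q (mem_inf.mp hq).2 g⟩
    have hqK : g * q * g⁻¹ ∈ K₂ := hK₂.conj_mem q (mem_inf.mp hq).2 g
    have hzp : IsPGroup p (zpowers (g * q * g⁻¹)) := by
      have h1 : IsPGroup p (zpowers q) :=
        P.isPGroup'.to_le (zpowers_le.mpr (mem_inf.mp hq).1)
      obtain ⟨j, hj⟩ := IsPGroup.iff_card.mp h1
      apply IsPGroup.of_card (n := j)
      rw [Nat.card_zpowers] at hj ⊢
      rw [← hj]
      exact (MulAut.conj g).orderOf_eq q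
    have hle : zpowers (g * q * g⁻¹) ≤ normalizer ((P : Subgroup H) : Set H) := by
      rw [zpowers_le]
      exact hcon _ hqK
    exact le_sylow_of_le_normalizer P _ hzp hle (mem_zpowers _)
  obtain ⟨g, hgK, hgN⟩ := hex
  apply hQ₁
  rw [eq_bot_iff]
  intro q hq
  have hqP := (mem_inf.mp hq).1
  have hqK := (mem_inf.mp hq).2
  have hcomm : g * q = q * g :=
    (Subgroup.commute_of_normal_of_disjoint K₂ K₁ hK₂ hK₁ hdisj.symm g q hgK hqK).eq
  have h1 : q ∈ (P : Subgroup H) ⊓ (MulAut.conj g • (P : Subgroup H)) := by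
    refine mem_inf.mpr ⟨hqP, ?_⟩
    rw [mem_conj_smul]
    have : g⁻¹ * q * g = q := by
      calc g⁻¹ * q * g = g⁻¹ * (q * g) := by group
        _ = g⁻¹ * (g * q) := by rw [hcomm]
        _ = q := by group
    rw [this]; exact hqP
  rw [hTI g hgN] at h1
  exact h1

/-- The unique minimal normal subgroup. -/
theorem TIData.exists_min_normal (h : TIData p H) :
    ∃ N : Subgroup H, N.Normal ∧ N ≠ ⊥ ∧ ∀ K : Subgroup H, K.Normal → K ≠ ⊥ → N ≤ K := by
  classical
  have hnt : (⊤ : Subgroup H) ≠ ⊥ := by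
    obtain ⟨-, -, P, hP1, -⟩ := h
    intro htop
    apply hP1
    rw [eq_bot_iff, ← htop]
    exact le_top
  set S : Set (Subgroup H) := {K | K.Normal ∧ K ≠ ⊥} with hS
  have hSne : S.Nonempty := ⟨⊤, inferInstance, hnt⟩
  obtain ⟨N, hNS, hNmin⟩ := Set.exists_min_image S (fun K => Nat.card K) (Set.toFinite S) hSne
  refine ⟨N, hNS.1, hNS.2, ?_⟩
  intro K hKn hK1
  have hNn := hNS.1
  have h1 : N ⊓ K ≠ ⊥ := h.inf_ne_bot N K hNS.2 hK1
  have h2 : (N ⊓ K).Normal := inferInstance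
  have h3 := hNmin (N ⊓ K) ⟨h2, h1⟩
  have h4 : N ⊓ K = N := by
    apply Subgroup.eq_of_le_of_card_ge inf_le_left
    exact h3
  rw [← h4]
  exact inf_le_right

end

section

variable {H : Type u} [Group H] [Finite H] {p : ℕ} [hp : Fact p.Prime]

omit [Finite H] hp in
/-- TI passes to conjugates. -/
theorem IsTI.conj {P : Subgroup H} (hTI : IsTI P) (h : H) : IsTI (MulAut.conj h • P) := by
  intro g hg
  have hg' : h⁻¹ * g * h ∉ normalizer (P : Set H) := by
    intro hmem
    apply hg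
    rw [mem_normalizer_iff] at hmem ⊢
    intro x
    rw [mem_conj_smul, mem_conj_smul]
    have := hmem (h⁻¹ * x * h)
    rw [this]
    have e : h⁻¹ * g * h * (h⁻¹ * x * h) * (h⁻¹ * g * h)⁻¹ = h⁻¹ * (g * x * g⁻¹) * h := by group
    rw [e]
  have h1 := hTI _ hg'
  rw [eq_bot_iff] at h1 ⊢
  intro x hx
  obtain ⟨hx1, hx2⟩ := mem_inf.mp hx
  rw [mem_conj_smul] at hx1
  rw [mem_conj_smul, mem_conj_smul] at hx2
  have h2 : h⁻¹ * x * h ∈ P ⊓ (MulAut.conj (h⁻¹ * g * h) • P) := by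
    refine mem_inf.mpr ⟨hx1, ?_⟩
    rw [mem_conj_smul]
    have e : (h⁻¹ * g * h)⁻¹ * (h⁻¹ * x * h) * (h⁻¹ * g * h) = h⁻¹ * (g⁻¹ * x * g) * h := by group
    rw [e]; exact hx2
  have h3 := h1 h2
  rw [mem_bot] at h3 ⊢
  have e : x = h * (h⁻¹ * x * h) * h⁻¹ := by group
  rw [e, h3]; group

/-- If some Sylow `p`-subgroup is TI, all are. -/
theorem isTI_sylow (P : Sylow p H) (hTI : IsTI (P : Subgroup H)) (P' : Sylow p H) :
    IsTI (P' : Subgroup H) := by
  obtain ⟨h, hh⟩ := MulAction.exists_smul_eq H P P'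
  rw [← hh, Sylow.smul_def]
  exact hTI.conj h

/-- Sylow subgroups of a normal subgroup of order divisible by `p` are nontrivial TI. -/
theorem sylow_normal_isTI (P : Sylow p H) (hTI : IsTI (P : Subgroup H)) (N : Subgroup H)
    [hN : N.Normal] (hpN : p ∣ Nat.card N) (Q : Sylow p N) :
    (Q : Subgroup N) ≠ ⊥ ∧ IsTI (Q : Subgroup N) := by
  refine ⟨Q.ne_bot_of_dvd_card hpN, ?_⟩
  have hQp : IsPGroup p ((Q : Subgroup N).map N.subtype) := Q.isPGroup'.map _
  obtain ⟨P', hP'⟩ := hQp.exists_le_sylow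
  have hTI' := isTI_sylow P hTI P'
  -- `Q = P' ∩ N`
  have hQeq : ((P' : Subgroup H).subgroupOf N) = (Q : Subgroup N) := by
    apply Q.is_maximal' (P'.isPGroup'.comap_subtype)
    intro x hx
    rw [mem_comap]
    exact hP' ⟨x, hx, rfl⟩
  intro n hn
  have hn' : (n : H) ∉ normalizer ((P' : Subgroup H) : Set H) := by
    intro hmem
    apply hn
    rw [mem_normalizer_iff] at hmem ⊢
    intro x
    rw [← hQeq, mem_subgroupOf, mem_subgroupOf]
    have := hmem (x : H)
    rw [this]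
    rfl
  have h1 := hTI' _ hn'
  rw [eq_bot_iff] at h1 ⊢
  intro x hx
  obtain ⟨hx1, hx2⟩ := mem_inf.mp hx
  rw [mem_conj_smul] at hx2
  rw [← hQeq, mem_subgroupOf] at hx1 hx2
  have h2 : (x : H) ∈ (P' : Subgroup H) ⊓ (MulAut.conj (n : H) • (P' : Subgroup H)) := by
    refine mem_inf.mpr ⟨hx1, ?_⟩
    rw [mem_conj_smul]
    exact hx2
  have h3 := h1 h2
  rw [mem_bot] at h3 ⊢
  exact Subtype.ext h3

/-- The hypotheses pass to nontrivial normal subgroups. -/
theorem TIData.normal (h : TIData p H) (N : Subgroup H) [hN : N.Normal] (hN1 : N ≠ ⊥) :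
    TIData p N := by
  obtain ⟨hOp, hOp', P, hP1, hTI⟩ := h
  have hpN : p ∣ Nat.card N := by
    by_contra hnd
    exact hN1 (hOp' N hN (Nat.Coprime.symm ((Nat.Prime.coprime_iff_not_dvd hp.out).mpr hnd)))
  refine ⟨?_, ?_, ?_⟩
  · intro K hKn hKp
    have hle : K ≤ Cfsg.pCore p N := le_sSup ⟨hKn, hKp⟩
    have h1 : ((Cfsg.pCore p N).map N.subtype).Normal := inferInstance
    have h2 : IsPGroup p ((Cfsg.pCore p N).map N.subtype) := (pCore_isPGroup p N).map _
    have h3 := hOp _ h1 h2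
    have h4 : Cfsg.pCore p N = ⊥ := by
      rw [eq_bot_iff]
      intro x hx
      have : (x : H) ∈ (Cfsg.pCore p N).map N.subtype := ⟨x, hx, rfl⟩
      rw [h3, mem_bot] at this
      rw [mem_bot]
      exact Subtype.ext this
    rw [h4] at hle
    exact le_bot_iff.mp hle
  · intro K hKn hKp
    have hle : K ≤ Cfsg.pPrimeCore p N := le_sSup ⟨hKn, hKp⟩
    have h1 : ((Cfsg.pPrimeCore p N).map N.subtype).Normal := inferInstance
    have h2 : (Nat.card ((Cfsg.pPrimeCore p N).map N.subtype)).Coprime p := by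
      rw [Subgroup.card_map_of_injective (Subgroup.subtype_injective _)]
      exact pPrimeCore_card_coprime p N
    have h3 := hOp' _ h1 h2
    have h4 : Cfsg.pPrimeCore p N = ⊥ := by
      rw [eq_bot_iff]
      intro x hx
      have : (x : H) ∈ (Cfsg.pPrimeCore p N).map N.subtype := ⟨x, hx, rfl⟩
      rw [h3, mem_bot] at this
      rw [mem_bot]
      exact Subtype.ext this
    rw [h4] at hle
    exact le_bot_iff.mp hle
  · obtain ⟨Q⟩ : Nonempty (Sylow p N) := inferInstance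
    exact ⟨Q, sylow_normal_isTI P hTI N hpN Q⟩

end

section

variable {H : Type u} [Group H] [Finite H] {p : ℕ} [hp : Fact p.Prime]

/-- Main structure theorem. -/
theorem TIData.structure (h : TIData p H) :
    ∃ N : Subgroup H, N.Normal ∧ N ≠ ⊥ ∧ (∀ K : Subgroup H, K.Normal → K ≠ ⊥ → N ≤ K) ∧
      IsSimpleGroup N ∧ ¬ IsMulCommutative N ∧ Subgroup.centralizer (N : Set H) = ⊥ ∧
      ∀ Q : Sylow p N, (Q : Subgroup N) ≠ ⊥ ∧ IsTI (Q : Subgroup N) := by
  obtain ⟨N, hNn, hN1, hNmin⟩ := h.exists_min_normal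
  have hN := h.normal N hN1
  obtain ⟨hOp, hOp', P, hP1, hTI⟩ := h
  have hpN : p ∣ Nat.card N := by
    by_contra hnd
    exact hN1 (hOp' N hNn (Nat.Coprime.symm ((Nat.Prime.coprime_iff_not_dvd hp.out).mpr hnd)))
  have hNnt : Nontrivial N := (Subgroup.nontrivial_iff_ne_bot N).mpr hN1
  -- simplicity
  obtain ⟨N₁, hN₁n, hN₁1, hN₁min⟩ := hN.exists_min_normal
  have hchar : N₁.Characteristic := by
    rw [Subgroup.characteristic_iff_le_map]
    intro φ
    apply hN₁min
    · exact hN₁n.map _ φ.surjective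
    · intro hbot
      apply hN₁1
      rw [eq_bot_iff]
      intro x hx
      have : φ x ∈ N₁.map φ.toMonoidHom := ⟨x, hx, rfl⟩
      rw [hbot, mem_bot] at this
      rw [mem_bot]
      exact φ.injective (this.trans (map_one φ).symm)
  have h1 : (N₁.map N.subtype).Normal := inferInstance
  have h2 : N₁.map N.subtype ≠ ⊥ := by
    intro hbot
    apply hN₁1
    rw [eq_bot_iff]
    intro x hx
    have : (x : H) ∈ N₁.map N.subtype := ⟨x, hx, rfl⟩
    rw [hbot, mem_bot] at this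
    rw [mem_bot]
    exact Subtype.ext this
  have h3 := hNmin _ h1 h2
  have hN₁top : N₁ = ⊤ := by
    rw [eq_top_iff]
    intro x _
    obtain ⟨y, hy, hyx⟩ := h3 x.2
    have : y = x := Subtype.ext hyx
    rw [← this]; exact hy
  have hsimple : IsSimpleGroup N := by
    refine ⟨fun K hK => ?_⟩
    by_cases hK1 : K = ⊥
    · exact Or.inl hK1
    · right
      apply top_unique
      rw [← hN₁top]
      exact hN₁min K hK hK1
  have hnc : ¬ IsMulCommutative N := by
    intro hc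
    obtain ⟨hOpN, -, Q, hQ1, -⟩ := hN
    apply hQ1
    apply hOpN _ _ Q.isPGroup'
    constructor
    intro x hx g
    have : g * x * g⁻¹ = x := by
      have := hc.is_comm.comm g x
      calc g * x * g⁻¹ = x * g * g⁻¹ := by rw [this]
        _ = x := by group
    rw [this]; exact hx
  refine ⟨N, hNn, hN1, hNmin, hsimple, hnc, ?_, ?_⟩
  · by_contra hC
    have hCn : (Subgroup.centralizer (N : Set H)).Normal := inferInstance
    have hle := hNmin _ hCn hC
    apply hnc
    refine ⟨⟨fun a b => ?_⟩⟩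
    have := (Subgroup.mem_centralizer_iff.mp (hle a.2)) b b.2
    exact Subtype.ext this.symm
  · intro Q
    exact sylow_normal_isTI P hTI N hpN Q

end

end Cfsg.Agent.Helper23
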