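import Mathlib
import Cfsg.Agent.Lead.Coprime
import Cfsg.Agent.Lead.Coprime2
import Cfsg.Agent.Lead.Coprime3
import Cfsg.Agent.Lead.CoprimeSylow
import Cfsg.Agent.Lead.CoprimeAbelian
import Cfsg.Agent.Lead.CoprimeSylow2
import Cfsg.Agent.Lead.PiHall2
import Cfsg.Agent.Lead.ThompsonPQ

/-!
# Groups with a TI Sylow `p`-subgroup: the action on normal `p'`-subgroups

Group-theoretic part of the theorem that a `p`-solvable group with a TI Sylow `p`-subgroup `P` and a
faithful character of degree `d` with `d² ≤ |P|` has `P` normal.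
-/

set_option autoImplicit false
set_option linter.unusedSectionVars false
set_option linter.unusedVariables false

namespace Cfsg.Agent.Helper23.TIS

open Subgroup
open scoped Pointwise

variable {G : Type*} [Group G] [Finite G] {p : ℕ} [hp : Fact p.Prime]

/-- Any two distinct Sylow `p`-subgroups intersect trivially. -/
def IsTISylow (p : ℕ) (G : Type*) [Group G] : Prop :=
  ∀ Q₁ Q₂ : Sylow p G, Q₁ ≠ Q₂ → (Q₁ : Subgroup G) ⊓ (Q₂ : Subgroup G) = ⊥

theorem isTISylow_of (P : Sylow p G)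
    (hTI : ∀ g : G, g ∉ normalizer ((P : Subgroup G) : Set G) →
      (P : Subgroup G) ⊓ (MulAut.conj g • (P : Subgroup G)) = ⊥) : IsTISylow p G := by
  intro Q₁ Q₂ hne
  obtain ⟨a, ha⟩ := MulAction.exists_smul_eq G P Q₁
  obtain ⟨b, hb⟩ := MulAction.exists_smul_eq G P Q₂
  by_cases hg : a⁻¹ * b ∈ normalizer ((P : Subgroup G) : Set G)
  · exfalso
    apply hne
    have h1 : (a⁻¹ * b) • P = P := Sylow.smul_eq_iff_mem_normalizer.mpr hg
    rw [← ha, ← hb]
    have : b • P = a • ((a⁻¹ * b) • P) := by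
      rw [← mul_smul, mul_inv_cancel_left]
    rw [this, h1]
  · have h1 := hTI _ hg
    have h2 : (Q₁ : Subgroup G) = MulAut.conj a • (P : Subgroup G) := by
      rw [← ha]; rfl
    have h3 : (Q₂ : Subgroup G) = MulAut.conj a • (MulAut.conj (a⁻¹ * b) • (P : Subgroup G)) := by
      rw [← hb, ← mul_smul, ← map_mul, mul_inv_cancel_left]; rfl
    rw [h2, h3, ← Subgroup.smul_inf, h1, Subgroup.smul_bot]

/-- An element of `G` commuting with a nonidentity element of a TI Sylow subgroup normalizes it. -/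
theorem mem_normalizer_of_commute (hTI : IsTISylow p G) (Q : Sylow p G) {x k : G}
    (hx : x ∈ (Q : Subgroup G)) (hx1 : x ≠ 1) (hk : k * x = x * k) :
    k ∈ normalizer ((Q : Subgroup G) : Set G) := by
  by_contra hcon
  have hne : k • Q ≠ Q := fun h => hcon (Sylow.smul_eq_iff_mem_normalizer.mp h)
  have h1 := hTI (k • Q) Q hne
  have h2 : x ∈ ((k • Q : Sylow p G) : Subgroup G) := by
    have : ((k • Q : Sylow p G) : Subgroup G) = MulAut.conj k • (Q : Subgroup G) := rfl
    rw [this, Subgroup.mem_smul_pointwise_iff_exists]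
    refine ⟨x, hx, ?_⟩
    show k * x * k⁻¹ = x
    rw [hk, mul_inv_cancel_right]
  have h3 : x ∈ ((k • Q : Sylow p G) : Subgroup G) ⊓ (Q : Subgroup G) := ⟨h2, hx⟩
  rw [h1, mem_bot] at h3
  exact hx1 h3

theorem le_normalizer_commutator {A X Y : Subgroup G} (hX : A ≤ normalizer (X : Set G))
    (hY : A ≤ normalizer (Y : Set G)) : A ≤ normalizer ((⁅X, Y⁆ : Subgroup G) : Set G) := by
  intro a ha
  rw [Subgroup.mem_normalizer_iff_map_conj_eq, Subgroup.map_commutator,
    Subgroup.mem_normalizer_iff_map_conj_eq.mp (hX ha),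
    Subgroup.mem_normalizer_iff_map_conj_eq.mp (hY ha)]

/-- The elements `v` centralizing `N` with `[v, a] ∈ N`. -/
def cosetStab (N : Subgroup G) (a : G) : Subgroup G where
  carrier := {v | v ∈ centralizer (N : Set G) ∧ v * a * v⁻¹ * a⁻¹ ∈ N}
  one_mem' := by
    refine ⟨Subgroup.one_mem _, ?_⟩
    simp
  mul_mem' := by
    rintro v w ⟨hv, hva⟩ ⟨hw, hwa⟩
    refine ⟨Subgroup.mul_mem _ hv hw, ?_⟩
    have h1 : v * w * a * (v * w)⁻¹ * a⁻¹ = v * (w * a * w⁻¹ * a⁻¹) * v⁻¹ * (v * a * v⁻¹ * a⁻¹) := by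
      group
    have h2 : v * (w * a * w⁻¹ * a⁻¹) * v⁻¹ = w * a * w⁻¹ * a⁻¹ := by
      have := (mem_centralizer_iff.mp hv) _ hwa
      rw [← this, mul_inv_cancel_right]
    rw [h1, h2]
    exact N.mul_mem hwa hva
  inv_mem' := by
    rintro v ⟨hv, hva⟩
    refine ⟨Subgroup.inv_mem _ hv, ?_⟩
    have h1 : v⁻¹ * a * v⁻¹⁻¹ * a⁻¹ = v⁻¹ * (v * a * v⁻¹ * a⁻¹)⁻¹ * v := by group
    have h2 : v⁻¹ * (v * a * v⁻¹ * a⁻¹)⁻¹ * v = (v * a * v⁻¹ * a⁻¹)⁻¹ := by
      have := (mem_centralizer_iff.mp hv) _ (N.inv_mem hva)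
      rw [mul_assoc, this, inv_mul_cancel_left]
    rw [h1, h2]
    exact N.inv_mem hva

theorem mem_cosetStab {N : Subgroup G} {a v : G} :
    v ∈ cosetStab N a ↔ v ∈ centralizer (N : Set G) ∧ v * a * v⁻¹ * a⁻¹ ∈ N := Iff.rfl

/-- A minimal configuration: a `p`-group `Q` acting on a `p'`-group `K`, every nonidentity element
of `Q` having its centralizer in `K` contained in `C_K(Q)`, and a minimal `Q`-invariant subgroup `R`
of `K` not centralized by `Q`. -/
structure MinConfig (p : ℕ) (Q K R : Subgroup G) : Prop where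
  hQp : IsPGroup p Q
  hcop : (Nat.card Q).Coprime (Nat.card K)
  hstar : ∀ x ∈ Q, x ≠ 1 → ∀ k ∈ K, k * x = x * k → k ∈ centralizer (Q : Set G)
  hRK : R ≤ K
  hQR : Q ≤ normalizer (R : Set G)
  hRQ : ¬ R ≤ centralizer (Q : Set G)
  hmin : ∀ U : Subgroup G, U ≤ R → U ≠ R → Q ≤ normalizer (U : Set G) →
    U ≤ centralizer (Q : Set G)

theorem exists_minConfig (hTI : IsTISylow p G) (Q : Sylow p G) (K : Subgroup G)
    (hQK : (Q : Subgroup G) ≤ normalizer (K : Set G)) (hK : (Nat.card K).Coprime p)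
    (hKQ : ¬ K ≤ normalizer ((Q : Subgroup G) : Set G)) :
    ∃ R : Subgroup G, MinConfig p (Q : Subgroup G) K R := by
  obtain ⟨n, hn⟩ := IsPGroup.iff_card.mp Q.isPGroup'
  have hcop : (Nat.card (Q : Subgroup G)).Coprime (Nat.card K) := by
    rw [hn]
    exact (Nat.Coprime.pow_right n hK).symm
  have hd : K ⊓ (Q : Subgroup G) = ⊥ := (Subgroup.disjoint_of_coprime_natCard hcop.symm).eq_bot
  have hNC : ∀ k ∈ K, k ∈ normalizer ((Q : Subgroup G) : Set G) →
      k ∈ centralizer ((Q : Subgroup G) : Set G) := fun k hk hkN =>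
    Cfsg.Agent.Lead.mem_centralizer_of_mem_normalizer hQK hd hk hkN
  set 𝓡 : Set (Subgroup G) := {R | R ≤ K ∧ (Q : Subgroup G) ≤ normalizer (R : Set G) ∧
    ¬ R ≤ normalizer ((Q : Subgroup G) : Set G)} with h𝓡
  have hne : 𝓡.Nonempty := ⟨K, le_rfl, hQK, hKQ⟩
  obtain ⟨R, hR, hmin⟩ := Set.exists_min_image 𝓡 (fun R => Nat.card R) (Set.toFinite _) hne
  obtain ⟨hRK, hQR, hRQ⟩ := hR
  refine ⟨R, Q.isPGroup', hcop, ?_, hRK, hQR, ?_, ?_⟩
  · intro x hx hx1 k hk hkx
    exact hNC k hk (mem_normalizer_of_commute hTI Q hx hx1 hkx)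
  · intro h
    exact hRQ (h.trans (centralizer_le_normalizer _))
  · intro U hUR hne hQU
    have hlt : U < R := lt_of_le_of_ne hUR hne
    have hcard := Cfsg.Agent.Lead.card_lt_card_of_lt hlt
    have hUN : U ≤ normalizer ((Q : Subgroup G) : Set G) := by
      by_contra hcon
      have := hmin U ⟨hUR.trans hRK, hQU, hcon⟩
      omega
    intro u hu
    exact hNC u (hRK (hUR hu)) (hUN hu)

namespace MinConfig

variable {Q K R : Subgroup G}

theorem hcopR (c : MinConfig p Q K R) : (Nat.card Q).Coprime (Nat.card R) :=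
  Nat.Coprime.coprime_dvd_right (Subgroup.card_dvd_of_le c.hRK) c.hcop

theorem hQsolv (c : MinConfig p Q K R) : Group.IsSolvable Q := by
  have : Group.IsNilpotent Q := c.hQp.isNilpotent
  infer_instance

theorem ne_bot (c : MinConfig p Q K R) : R ≠ ⊥ := by
  rintro rfl
  exact c.hRQ bot_le

/-- `[R, Q] = R`. -/
theorem commutator_eq (c : MinConfig p Q K R) : ⁅R, Q⁆ = R := by
  have hle : ⁅R, Q⁆ ≤ R := Cfsg.Agent.Lead.commutator_le_of_le_normalizer c.hQR
  by_contra hne
  have h1 : ⁅R, Q⁆ ≤ centralizer (Q : Set G) :=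
    c.hmin _ hle hne (Cfsg.Agent.Lead.le_normalizer_commutator_right R Q)
  have h2 : ⁅⁅R, Q⁆, Q⁆ = ⊥ := (commutator_eq_bot_iff_le_centralizer).mpr h1
  have h3 := Cfsg.Agent.Lead.coprime_commutator_commutator Q R c.hQR c.hcopR (Or.inl c.hQsolv)
  rw [h2] at h3
  exact c.hRQ ((commutator_eq_bot_iff_le_centralizer).mp h3.symm)

/-- `R` is a `q`-group for some prime `q`. -/
theorem exists_isPGroup (c : MinConfig p Q K R) : ∃ q : ℕ, q.Prime ∧ IsPGroup q R := by
  by_contra hcon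
  push Not at hcon
  set R₀ := R ⊓ centralizer (Q : Set G) with hR₀
  have key : ∀ q : ℕ, q.Prime → q ^ (Nat.card R).factorization q ∣ Nat.card R₀ := by
    intro q hq
    have : Fact q.Prime := ⟨hq⟩
    obtain ⟨S, hS⟩ := Cfsg.Agent.Lead.coprime_exists_invariant_sylow Q R c.hQR c.hcopR
      (Or.inl c.hQsolv) q
    set S' := (S : Subgroup R).map R.subtype with hS'
    have hS'R : S' ≤ R := map_subtype_le _
    have hne : S' ≠ R := by
      intro h
      apply hcon q hq
      have h1 : IsPGroup q S' := S.isPGroup'.map R.subtype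
      rw [h] at h1
      exact h1
    have hle : S' ≤ centralizer (Q : Set G) := c.hmin S' hS'R hne hS
    have hle' : S' ≤ R₀ := le_inf hS'R hle
    have hcard : Nat.card S' = q ^ (Nat.card R).factorization q := by
      rw [hS', Subgroup.card_map_of_injective R.subtype_injective]
      exact S.card_eq_multiplicity
    rw [← hcard]
    exact Subgroup.card_dvd_of_le hle'
  have hdvd : Nat.card R ∣ Nat.card R₀ := by
    rw [← Nat.factorization_le_iff_dvd (Nat.card_pos.ne') (Nat.card_pos.ne')]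
    intro q
    by_cases hq : q.Prime
    · exact (hq.pow_dvd_iff_le_factorization Nat.card_pos.ne').mp (key q hq)
    · rw [Nat.factorization_eq_zero_of_not_prime _ hq]
      exact Nat.zero_le _
  have h1 : R₀ = R :=
    Subgroup.eq_of_le_of_card_ge inf_le_left (Nat.le_of_dvd Nat.card_pos hdvd)
  apply c.hRQ
  rw [← h1]
  exact inf_le_right

theorem derived_lt (c : MinConfig p Q K R) : ⁅R, R⁆ < R := by
  obtain ⟨q, hq, hRq⟩ := c.exists_isPGroup
  have : Fact q.Prime := ⟨hq⟩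
  exact Cfsg.Agent.Lead.commutator_lt_of_isPGroup hRq hRq le_normalizer c.ne_bot

theorem derived_le_centralizer (c : MinConfig p Q K R) : ⁅R, R⁆ ≤ centralizer (Q : Set G) :=
  c.hmin _ c.derived_lt.le c.derived_lt.ne (le_normalizer_commutator c.hQR c.hQR)

/-- `R' ≤ Z(R)`. -/
theorem derived_le_center (c : MinConfig p Q K R) : ⁅R, R⁆ ≤ centralizer (R : Set G) := by
  rw [← commutator_eq_bot_iff_le_centralizer]
  -- three subgroups lemma
  have h1 : ⁅⁅R, ⁅R, R⁆⁆, Q⁆ = ⊥ := by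
    rw [commutator_eq_bot_iff_le_centralizer]
    have : ⁅R, ⁅R, R⁆⁆ ≤ ⁅R, R⁆ := commutator_mono le_rfl c.derived_lt.le
    exact this.trans c.derived_le_centralizer
  have h2 : ⁅⁅⁅R, R⁆, Q⁆, R⁆ = ⊥ := by
    have : ⁅⁅R, R⁆, Q⁆ = ⊥ := (commutator_eq_bot_iff_le_centralizer).mpr c.derived_le_centralizer
    rw [this]
    exact Subgroup.commutator_bot_left R
  have h3 := Subgroup.commutator_commutator_eq_bot_of_rotate h1 h2
  rw [commutator_comm Q R, c.commutator_eq] at h3
  rw [commutator_comm]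
  exact h3

/-- `C_R(Q) ≤ Z(R)`. -/
theorem fixed_le_center (c : MinConfig p Q K R) :
    R ⊓ centralizer (Q : Set G) ≤ centralizer (R : Set G) := by
  set D := R ⊓ centralizer (Q : Set G) with hD
  rw [← commutator_eq_bot_iff_le_centralizer]
  have h1 : ⁅⁅R, D⁆, Q⁆ = ⊥ := by
    rw [commutator_eq_bot_iff_le_centralizer]
    have : ⁅R, D⁆ ≤ ⁅R, R⁆ := commutator_mono le_rfl inf_le_left
    exact this.trans c.derived_le_centralizer
  have h2 : ⁅⁅D, Q⁆, R⁆ = ⊥ := by
    have : ⁅D, Q⁆ = ⊥ := (commutator_eq_bot_iff_le_centralizer).mpr inf_le_right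
    rw [this]
    exact Subgroup.commutator_bot_left R
  have h3 := Subgroup.commutator_commutator_eq_bot_of_rotate h1 h2
  rw [commutator_comm Q R, c.commutator_eq] at h3
  rw [commutator_comm]
  exact h3

/-- The centre of `R`, as a subgroup of the ambient group. -/
def Zc (R : Subgroup G) : Subgroup G := R ⊓ centralizer (R : Set G)

theorem Zc_le (R : Subgroup G) : Zc R ≤ R := inf_le_left

theorem derived_le_Zc (c : MinConfig p Q K R) : ⁅R, R⁆ ≤ Zc R :=
  le_inf c.derived_lt.le c.derived_le_center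

theorem normalizer_Zc (c : MinConfig p Q K R) : Q ≤ normalizer ((Zc R : Subgroup G) : Set G) :=
  Cfsg.Agent.Lead.le_normalizer_inf' c.hQR
    (c.hQR.trans (Cfsg.Agent.Lead.normalizer_le_normalizer_centralizer R))

/-- Every `Q`-invariant subgroup of `R` is `R` or central in `R`. -/
theorem eq_or_le_Zc (c : MinConfig p Q K R) (U : Subgroup G) (hUR : U ≤ R)
    (hQU : Q ≤ normalizer (U : Set G)) : U = R ∨ U ≤ Zc R := by
  by_cases h : U = R
  · exact Or.inl h
  · right
    have h1 := c.hmin U hUR h hQU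
    exact le_inf hUR ((le_inf hUR h1).trans c.fixed_le_center)

theorem Zc_ne (c : MinConfig p Q K R) (hna : ⁅R, R⁆ ≠ ⊥) : Zc R ≠ R := by
  intro h
  apply hna
  rw [commutator_eq_bot_iff_le_centralizer]
  have : R ≤ Zc R := h.ge
  exact this.trans inf_le_right

theorem Zc_le_centralizer (c : MinConfig p Q K R) (hna : ⁅R, R⁆ ≠ ⊥) :
    Zc R ≤ centralizer (Q : Set G) :=
  c.hmin _ (Zc_le R) (c.Zc_ne hna) c.normalizer_Zc

/-- Non-central cosets of `Z(R)` in `R` are moved by every nonidentity element of `Q`. -/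
theorem commutator_not_mem_Zc (c : MinConfig p Q K R) (hna : ⁅R, R⁆ ≠ ⊥) {a u : G}
    (ha : a ∈ R) (haZ : a ∉ Zc R) (hu : u ∈ Q) (hu1 : u ≠ 1) :
    u * a * u⁻¹ * a⁻¹ ∉ Zc R := by
  intro hcon
  set A : Subgroup G := zpowers u with hA
  have hAQ : A ≤ Q := by
    rw [hA, zpowers_le]; exact hu
  have huC : u ∈ centralizer ((Zc R : Subgroup G) : Set G) := by
    rw [mem_centralizer_iff]
    intro z hz
    exact ((mem_centralizer_iff.mp (c.Zc_le_centralizer hna hz)) u hu).symm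
  have hAstab : A ≤ cosetStab (Zc R) a := by
    rw [hA, zpowers_le]
    exact ⟨huC, hcon⟩
  have hAN : A ≤ normalizer ((Zc R : Subgroup G) : Set G) := hAQ.trans c.normalizer_Zc
  have hcopA : (Nat.card A).Coprime (Nat.card (Zc R)) :=
    Nat.Coprime.coprime_dvd_left (Subgroup.card_dvd_of_le hAQ)
      (Nat.Coprime.coprime_dvd_right (Subgroup.card_dvd_of_le (Zc_le R)) c.hcopR)
  have hAsolv : Group.IsSolvable A := by
    have := c.hQsolv
    exact Group.isSolvable_of_isSolvable_injective (Subgroup.inclusion_injective hAQ)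
  obtain ⟨d, hdC, hda⟩ := Cfsg.Agent.Lead.coprime_invariant_coset_fixed A (Zc R) hAN hcopA
    (Or.inl hAsolv) a (fun v hv => (hAstab hv).2)
  have hdR : d ∈ R := by
    have : d = d * a⁻¹ * a := by group
    rw [this]
    exact R.mul_mem (Zc_le R hda) ha
  have hdu : d * u = u * d :=
    ((mem_centralizer_iff.mp hdC) u (mem_zpowers u)).symm
  have hdQ : d ∈ centralizer (Q : Set G) := c.hstar u hu hu1 d (c.hRK hdR) hdu
  have hdZ : d ∈ Zc R := ⟨hdR, c.fixed_le_center ⟨hdR, hdQ⟩⟩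
  apply haZ
  have : a = (d * a⁻¹)⁻¹ * d := by group
  rw [this]
  exact (Zc R).mul_mem ((Zc R).inv_mem hda) hdZ

/-- `|Q| + 1 ≤ |R : Z(R)|` in the nonabelian case. -/
theorem card_bound (c : MinConfig p Q K R) (hna : ⁅R, R⁆ ≠ ⊥) :
    (Nat.card Q + 1) * Nat.card (Zc R) ≤ Nat.card R := by
  classical
  obtain ⟨a, haR, haZ⟩ := SetLike.exists_of_lt (lt_of_le_of_ne (Zc_le R) (c.Zc_ne hna))
  set Z' : Subgroup R := (Zc R).subgroupOf R with hZ'
  have hconj : ∀ x : Q, (x : G) * a * (x : G)⁻¹ ∈ R := fun x =>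
    (mem_normalizer_iff.mp (c.hQR x.2) a).mp haR
  let f : Option Q → R ⧸ Z' := fun o => match o with
    | none => QuotientGroup.mk (1 : R)
    | some x => QuotientGroup.mk (⟨(x : G) * a * (x : G)⁻¹, hconj x⟩ : R)
  have hnone : ∀ x : Q, f (some x) ≠ f none := by
    intro x h
    have h1 : (QuotientGroup.mk (⟨(x : G) * a * (x : G)⁻¹, hconj x⟩ : R) : R ⧸ Z') =
        QuotientGroup.mk (1 : R) := h
    rw [QuotientGroup.eq, mul_one, hZ', mem_subgroupOf] at h1
    have h2 : (x : G) * a * (x : G)⁻¹ ∈ Zc R := by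
      have := (Zc R).inv_mem h1
      simpa using this
    exact haZ ((mem_normalizer_iff.mp (c.normalizer_Zc x.2) a).mpr h2)
  have hinj : Function.Injective f := by
    intro o₁ o₂ h
    rcases o₁ with _ | x <;> rcases o₂ with _ | y
    · rfl
    · exact absurd h.symm (hnone y)
    · exact absurd h (hnone x)
    · have h1 : (QuotientGroup.mk (⟨(x : G) * a * (x : G)⁻¹, hconj x⟩ : R) : R ⧸ Z') =
          QuotientGroup.mk (⟨(y : G) * a * (y : G)⁻¹, hconj y⟩ : R) := h
      rw [QuotientGroup.eq, hZ', mem_subgroupOf] at h1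
      have h2 : ((x : G) * a * (x : G)⁻¹)⁻¹ * ((y : G) * a * (y : G)⁻¹) ∈ Zc R := h1
      -- conjugate by x⁻¹
      have h3 : (x : G)⁻¹ * (((x : G) * a * (x : G)⁻¹)⁻¹ * ((y : G) * a * (y : G)⁻¹)) *
          (x : G)⁻¹⁻¹ ∈ Zc R :=
        (mem_normalizer_iff.mp (c.normalizer_Zc (Q.inv_mem x.2)) _).mp h2
      set u : G := (x : G)⁻¹ * (y : G) with hu
      have h4 : a⁻¹ * (u * a * u⁻¹) ∈ Zc R := by
        have : (x : G)⁻¹ * (((x : G) * a * (x : G)⁻¹)⁻¹ * ((y : G) * a * (y : G)⁻¹)) *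
          (x : G)⁻¹⁻¹ = a⁻¹ * (u * a * u⁻¹) := by
          rw [hu]; group
        rw [← this]; exact h3
      have h5 : u * a * u⁻¹ * a⁻¹ ∈ Zc R := by
        set z : G := a⁻¹ * (u * a * u⁻¹) with hz
        have hcomm : a * z = z * a := ((mem_centralizer_iff.mp h4.2) a haR)
        have h6 : u * a * u⁻¹ = a * z := by
          rw [hz, mul_inv_cancel_left]
        have h7 : u * a * u⁻¹ * a⁻¹ = z := by
          rw [h6, hcomm, mul_inv_cancel_right]
        rw [h7]; exact h4
      have huQ : u ∈ Q := Q.mul_mem (Q.inv_mem x.2) y.2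
      have hu1 : u = 1 := by
        by_contra hne
        exact c.commutator_not_mem_Zc hna haR haZ huQ hne h5
      have hxy : (x : G) = (y : G) := by
        rw [hu, inv_mul_eq_one] at hu1
        exact hu1
      rw [Subtype.ext hxy]
  have h1 : Nat.card (Option Q) ≤ Nat.card (R ⧸ Z') := Nat.card_le_card_of_injective f hinj
  have h2 : Nat.card (Option Q) = Nat.card Q + 1 := Finite.card_option
  have h3 : Nat.card R = Nat.card (R ⧸ Z') * Nat.card Z' :=
    Subgroup.card_eq_card_quotient_mul_card_subgroup Z'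
  have h4 : Nat.card Z' = Nat.card (Zc R) :=
    Nat.card_congr (subgroupOfEquivOfLe (Zc_le R)).toEquiv
  rw [h3, h4, ← h2]
  exact Nat.mul_le_mul_right _ h1

/-- Abelian case: `C_R(Q) = 1`. -/
theorem fixed_eq_bot (c : MinConfig p Q K R) (hab : ⁅R, R⁆ = ⊥) :
    R ⊓ centralizer (Q : Set G) = ⊥ := by
  have hcomm : IsMulCommutative R := by
    refine ⟨⟨fun a b => ?_⟩⟩
    have h1 : R ≤ centralizer (R : Set G) := (commutator_eq_bot_iff_le_centralizer).mp hab
    exact Subtype.ext ((mem_centralizer_iff.mp (h1 a.2) b b.2).symm)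
  have h := Cfsg.Agent.Lead.coprime_abelian_inf Q R c.hQR c.hcopR
  rw [c.commutator_eq] at h
  rw [← h]
  exact (inf_of_le_left inf_le_left).symm

/-- Abelian case: nonidentity elements of `Q` have no nontrivial fixed points on `R`. -/
theorem eq_one_of_commute (c : MinConfig p Q K R) (hab : ⁅R, R⁆ = ⊥) {u r : G}
    (hu : u ∈ Q) (hu1 : u ≠ 1) (hr : r ∈ R) (hru : r * u = u * r) : r = 1 := by
  have h1 : r ∈ centralizer (Q : Set G) := c.hstar u hu hu1 r (c.hRK hr) hru
  have h2 : r ∈ R ⊓ centralizer (Q : Set G) := ⟨hr, h1⟩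
  rw [c.fixed_eq_bot hab, mem_bot] at h2
  exact h2

end MinConfig

end Cfsg.Agent.Helper23.TIS
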