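import Mathlib
import Cfsg.Prelude.Def_Blocks
import Cfsg.Agent.Helper23.TISylowGroup
import Cfsg.Agent.Helper23.Schur
import Cfsg.Agent.Helper23.ClassProduct
import Cfsg.Agent.Helper24.Expansion
import Cfsg.Agent.Helper24.Abelian
import Cfsg.Agent.Helper24.CharBasic
import Cfsg.Agent.Helper8.CharComp
import Cfsg.Agent.Helper7.Layer
import Cfsg.Agent.Lead.CoprimeFrattini
import Cfsg.Agent.Helper24.Gagola

/-!
# Faithful characters and minimal configurations

Character-theoretic part of the theorem that a `p`-solvable group with a TI Sylow `p`-subgroup `P`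
and a faithful character of degree `d` with `d² ≤ |P|` has `P` normal.
-/

set_option autoImplicit false
set_option linter.unusedSectionVars false
set_option linter.unusedVariables false

namespace Cfsg.Agent.Helper23.TIS

open Cfsg Cfsg.Agent.Helper24 Subgroup

section General

variable {H : Type*} [Group H] [Finite H]

omit [Finite H] in
theorem apply_one_of_isCharacter {ψ : H → ℂ} (hψ : IsCharacter H ψ) :
    ψ 1 = (charDegree ψ : ℂ) := by
  obtain ⟨n, ρ, rfl⟩ := hψ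
  rw [charDegree, Representation.char_one]
  simp

/-- The degree of a character in terms of its irreducible constituents. -/
theorem charDegree_eq_sum [Fintype (IrrCharacter H)] {ψ : H → ℂ} (n : IrrCharacter H → ℕ)
    (hn : ψ = ∑ φ : IrrCharacter H, (n φ : ℂ) • (φ : H → ℂ)) :
    charDegree ψ = ∑ φ : IrrCharacter H, n φ * irrDeg φ := by
  have h1 : ψ 1 = ((∑ φ : IrrCharacter H, n φ * irrDeg φ : ℕ) : ℂ) := by
    rw [hn, Finset.sum_apply]
    push_cast
    refine Finset.sum_congr rfl fun φ _ => ?_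
    rw [Pi.smul_apply, smul_eq_mul, irrDeg_spec]
  rw [charDegree, h1, Complex.natCast_re, Nat.floor_natCast]

theorem irrDeg_le_of_coeff_ne_zero [Fintype (IrrCharacter H)] {ψ : H → ℂ}
    (n : IrrCharacter H → ℕ)
    (hn : ψ = ∑ φ : IrrCharacter H, (n φ : ℂ) • (φ : H → ℂ)) (φ : IrrCharacter H)
    (hφ : n φ ≠ 0) : irrDeg φ ≤ charDegree ψ := by
  rw [charDegree_eq_sum n hn]
  calc irrDeg φ ≤ n φ * irrDeg φ := Nat.le_mul_of_pos_left _ (Nat.pos_of_ne_zero hφ)
    _ ≤ ∑ φ : IrrCharacter H, n φ * irrDeg φ :=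
      Finset.single_le_sum (f := fun φ => n φ * irrDeg φ) (fun _ _ => Nat.zero_le _)
        (Finset.mem_univ φ)

theorem card_le_of_injective [Fintype (IrrCharacter H)] {ψ : H → ℂ} (n : IrrCharacter H → ℕ)
    (hn : ψ = ∑ φ : IrrCharacter H, (n φ : ℂ) • (φ : H → ℂ))
    {ι : Type*} [Fintype ι] (f : ι → IrrCharacter H) (hf : Function.Injective f)
    (hne : ∀ i, n (f i) ≠ 0) : Fintype.card ι ≤ charDegree ψ := by
  classical
  rw [charDegree_eq_sum n hn]
  calc Fintype.card ι = ∑ i : ι, 1 := by simp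
    _ ≤ ∑ i : ι, n (f i) * irrDeg (f i) := by
      refine Finset.sum_le_sum fun i _ => ?_
      exact Nat.mul_pos (Nat.pos_of_ne_zero (hne i)) (irrDeg_pos _)
    _ = ∑ φ ∈ Finset.univ.image f, n φ * irrDeg φ := by
      rw [Finset.sum_image (fun a _ b _ h => hf h)]
    _ ≤ ∑ φ : IrrCharacter H, n φ * irrDeg φ :=
      Finset.sum_le_sum_of_subset (Finset.subset_univ _)

/-- If a character takes at `g` a value different from its degree, so does one of its
constituents. -/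
theorem exists_constituent_ne [Fintype (IrrCharacter H)] {ψ : H → ℂ} (n : IrrCharacter H → ℕ)
    (hn : ψ = ∑ φ : IrrCharacter H, (n φ : ℂ) • (φ : H → ℂ)) (g : H) (hg : ψ g ≠ ψ 1) :
    ∃ φ : IrrCharacter H, n φ ≠ 0 ∧ (φ : H → ℂ) g ≠ (φ : H → ℂ) 1 := by
  by_contra hcon
  push Not at hcon
  apply hg
  rw [hn, Finset.sum_apply, Finset.sum_apply]
  refine Finset.sum_congr rfl fun φ _ => ?_
  rw [Pi.smul_apply, Pi.smul_apply]
  by_cases h0 : n φ = 0
  · rw [h0, Nat.cast_zero, zero_smul, zero_smul]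
  · rw [hcon φ h0]

/-- A central element acts on an irreducible character through a scalar. -/
theorem irr_center_mul (φ : IrrCharacter H) {z : H} (hz : z ∈ center H) (h : H) :
    (φ : H → ℂ) (z * h) * (φ : H → ℂ) 1 = (φ : H → ℂ) z * (φ : H → ℂ) h := by
  obtain ⟨n, ρ, hρ, hφ⟩ := φ.2
  have := hρ
  obtain ⟨c, hc⟩ := exists_scalar_of_mem_center ρ z hz
  have h1 : (φ : H → ℂ) (z * h) = c * (φ : H → ℂ) h := by
    rw [← hφ]
    show LinearMap.trace ℂ _ (ρ (z * h)) = c * LinearMap.trace ℂ _ (ρ h)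
    rw [map_mul, hc, smul_mul_assoc, map_smul, smul_eq_mul]
    congr 2
  have h2 : (φ : H → ℂ) z = c * (φ : H → ℂ) 1 := by
    rw [← hφ]
    show LinearMap.trace ℂ _ (ρ z) = c * LinearMap.trace ℂ _ (ρ 1)
    rw [hc, map_one, map_smul, smul_eq_mul]
    congr 2
  rw [h1, h2]
  ring

/-- An irreducible character vanishing off the centre is fully ramified: `|Z(H)| φ(1)² = |H|`. -/
theorem card_center_mul_irrDeg_sq (φ : IrrCharacter H)
    (hv : ∀ g : H, g ∉ center H → (φ : H → ℂ) g = 0) :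
    Nat.card (center H) * irrDeg φ ^ 2 = Nat.card H := by
  classical
  haveI : Fintype H := Fintype.ofFinite H
  obtain ⟨n, ρ, hρ, hχ⟩ := φ.2
  have := hρ
  have hd : (irrDeg φ : ℝ) = (Module.finrank ℂ (Fin n → ℂ) : ℝ) := by
    have h1 := irrDeg_spec φ
    rw [← hχ, Representation.char_one] at h1
    have : (Module.finrank ℂ (Fin n → ℂ)) = irrDeg φ := by exact_mod_cast h1
    rw [this]
  have hnorm : ∀ z ∈ center H, ‖(φ : H → ℂ) z‖ = irrDeg φ := by
    intro z hz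
    rw [← hχ, hd]
    exact (norm_char_eq_iff ρ z).mpr (exists_scalar_of_mem_center ρ z hz)
  have hsum : ∑ g : H, ‖(φ : H → ℂ) g‖ ^ 2 = (Nat.card H : ℝ) := by
    have h1 := classInner_irr_self φ
    rw [classInner] at h1
    have hH : (Nat.card H : ℂ) ≠ 0 := by exact_mod_cast Nat.card_pos.ne'
    have h2 : ∑ g : H, (φ : H → ℂ) g * (starRingEnd ℂ) ((φ : H → ℂ) g) = (Nat.card H : ℂ) := by
      field_simp at h1
      exact h1
    have h3 : ∀ g : H, (φ : H → ℂ) g * (starRingEnd ℂ) ((φ : H → ℂ) g) =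
        ((‖(φ : H → ℂ) g‖ ^ 2 : ℝ) : ℂ) := by
      intro g
      rw [Complex.mul_conj, Complex.normSq_eq_norm_sq]
    simp_rw [h3] at h2
    have h4 : ((∑ g : H, ‖(φ : H → ℂ) g‖ ^ 2 : ℝ) : ℂ) = ((Nat.card H : ℝ) : ℂ) := by
      push_cast
      push_cast at h2
      exact h2
    exact_mod_cast h4
  have hsub : ∑ g ∈ Finset.univ.filter (fun g : H => g ∈ center H), ‖(φ : H → ℂ) g‖ ^ 2 =
      ∑ g : H, ‖(φ : H → ℂ) g‖ ^ 2 := by
    apply Finset.sum_subset (Finset.filter_subset _ _)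
    intro g _ hg
    have hgz : g ∉ center H := by
      intro h
      exact hg (Finset.mem_filter.mpr ⟨Finset.mem_univ _, h⟩)
    rw [hv g hgz, norm_zero]
    ring
  have heq : ∑ g ∈ Finset.univ.filter (fun g : H => g ∈ center H), ‖(φ : H → ℂ) g‖ ^ 2 =
      (Nat.card (center H) : ℝ) * (irrDeg φ : ℝ) ^ 2 := by
    rw [Finset.sum_congr rfl (fun g hg => by rw [hnorm g (Finset.mem_filter.mp hg).2])]
    rw [Finset.sum_const, nsmul_eq_mul]
    congr 2
    rw [Nat.card_eq_fintype_card, Fintype.card_subtype]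
  rw [heq, hsum] at hsub
  exact_mod_cast hsub

end General

section Config

variable {G : Type*} [Group G] [Finite G] {p : ℕ} [hp : Fact p.Prime]

theorem le_normalizer_of_conj_mem {A U : Subgroup G}
    (h : ∀ x ∈ A, ∀ a ∈ U, x * a * x⁻¹ ∈ U) : A ≤ normalizer (U : Set G) := by
  intro x hx
  rw [mem_normalizer_iff]
  intro a
  constructor
  · exact h x hx a
  · intro ha
    have := h x⁻¹ (A.inv_mem hx) _ ha
    simpa [mul_assoc] using this

/-- The elements of `R` whose commutators with `R` lie in the central subgroup `N`. -/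
def centMod (R N : Subgroup G) (hN : N ≤ MinConfig.Zc R) : Subgroup G where
  carrier := {a | a ∈ R ∧ ∀ b ∈ R, a * b * a⁻¹ * b⁻¹ ∈ N}
  one_mem' := ⟨R.one_mem, fun b _ => by simp⟩
  mul_mem' := by
    rintro a a' ⟨ha, hab⟩ ⟨ha', hab'⟩
    refine ⟨R.mul_mem ha ha', fun b hb => ?_⟩
    have h1 : a * a' * b * (a * a')⁻¹ * b⁻¹ =
        a * (a' * b * a'⁻¹ * b⁻¹) * a⁻¹ * (a * b * a⁻¹ * b⁻¹) := by group
    have h2 : a * (a' * b * a'⁻¹ * b⁻¹) * a⁻¹ = a' * b * a'⁻¹ * b⁻¹ := by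
      have := (mem_centralizer_iff.mp (hN (hab' b hb)).2) a ha
      rw [this, mul_inv_cancel_right]
    rw [h1, h2]
    exact N.mul_mem (hab' b hb) (hab b hb)
  inv_mem' := by
    rintro a ⟨ha, hab⟩
    refine ⟨R.inv_mem ha, fun b hb => ?_⟩
    have h1 : a⁻¹ * b * a⁻¹⁻¹ * b⁻¹ = a⁻¹ * (a * b * a⁻¹ * b⁻¹)⁻¹ * a := by group
    have h2 : a⁻¹ * (a * b * a⁻¹ * b⁻¹)⁻¹ * a = (a * b * a⁻¹ * b⁻¹)⁻¹ := by
      have := (mem_centralizer_iff.mp (hN (N.inv_mem (hab b hb))).2) a ha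
      rw [mul_assoc, ← this, inv_mul_cancel_left]
    rw [h1, h2]
    exact N.inv_mem (hab b hb)

theorem mem_centMod {R N : Subgroup G} {hN : N ≤ MinConfig.Zc R} {a : G} :
    a ∈ centMod R N hN ↔ a ∈ R ∧ ∀ b ∈ R, a * b * a⁻¹ * b⁻¹ ∈ N := Iff.rfl

theorem normalizer_centMod {A R N : Subgroup G} (hN : N ≤ MinConfig.Zc R)
    (hAR : A ≤ normalizer (R : Set G)) (hAN : A ≤ centralizer (N : Set G)) :
    A ≤ normalizer ((centMod R N hN : Subgroup G) : Set G) := by
  apply le_normalizer_of_conj_mem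
  rintro x hx a ⟨ha, hab⟩
  refine ⟨(mem_normalizer_iff.mp (hAR hx) a).mp ha, fun b hb => ?_⟩
  have hb' : x⁻¹ * b * x⁻¹⁻¹ ∈ R := (mem_normalizer_iff.mp (hAR (A.inv_mem hx)) b).mp hb
  have h1 := hab _ hb'
  have h2 : x * a * x⁻¹ * b * (x * a * x⁻¹)⁻¹ * b⁻¹ =
      x * (a * (x⁻¹ * b * x⁻¹⁻¹) * a⁻¹ * (x⁻¹ * b * x⁻¹⁻¹)⁻¹) * x⁻¹ := by group
  have h3 := (mem_centralizer_iff.mp (hAN hx)) _ h1
  rw [h2, ← h3, mul_inv_cancel_right]
  exact h1

end Config

end Cfsg.Agent.Helper23.TIS
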