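import Mathlib
import Cfsg.Prelude.Def_Blocks
import Cfsg.Agent.Helper23.TISylowChar

/-!
# The two character bounds for a minimal configuration
-/

set_option autoImplicit false
set_option linter.unusedSectionVars false
set_option linter.unusedVariables false

namespace Cfsg.Agent.Helper23.TIS

open Cfsg Cfsg.Agent.Helper24 Subgroup

variable {G : Type*} [Group G] [Finite G] {p : ℕ} [hp : Fact p.Prime]

theorem charDegree_restrict (R : Subgroup G) (χ : G → ℂ) :
    charDegree (fun r : ↥R => χ r) = charDegree χ := rfl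

/-- Nonabelian case: `|Q| + 1 ≤ χ(1)²`. -/
theorem caseB {Q K R : Subgroup G} (c : MinConfig p Q K R) (hna : ⁅R, R⁆ ≠ ⊥) {χ : G → ℂ}
    (hχ : IsCharacter G χ) (hfaith : ∀ g : G, χ g = χ 1 → g = 1) :
    Nat.card Q + 1 ≤ charDegree χ ^ 2 := by
  classical
  have : Fintype ↥R := Fintype.ofFinite _
  have : Fintype (IrrCharacter ↥R) := Fintype.ofFinite _
  have hψc : IsCharacter ↥R (fun r : ↥R => χ r) := Cfsg.Agent.Helper8.isCharacter_restrict R hχ
  obtain ⟨n, hn⟩ := IsCharacter.exists_nat_coeff hψc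
  have hex : ∃ z ∈ ⁅R, R⁆, z ≠ 1 := by
    by_contra hcon
    push Not at hcon
    exact hna ((Subgroup.eq_bot_iff_forall _).mpr hcon)
  obtain ⟨z₀, hz₀, hz₀1⟩ := hex
  have hz₀R : z₀ ∈ R := c.derived_lt.le hz₀
  have hψz : (fun r : ↥R => χ r) ⟨z₀, hz₀R⟩ ≠ (fun r : ↥R => χ r) 1 := by
    intro h
    exact hz₀1 (hfaith z₀ h)
  obtain ⟨φ, hφn, hφz⟩ := exists_constituent_ne n hn ⟨z₀, hz₀R⟩ hψz
  set N₀ : Subgroup G := (irrKer φ).map R.subtype ⊓ MinConfig.Zc R with hN₀
  have hN₀Z : N₀ ≤ MinConfig.Zc R := inf_le_right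
  set U : Subgroup G := centMod R N₀ hN₀Z with hU
  have hUR : U ≤ R := fun a ha => ha.1
  have hQN : Q ≤ centralizer (N₀ : Set G) := by
    intro x hx
    rw [mem_centralizer_iff]
    intro z hz
    exact ((mem_centralizer_iff.mp (c.Zc_le_centralizer hna (hN₀Z hz))) x hx).symm
  have hQU : Q ≤ normalizer (U : Set G) := normalizer_centMod hN₀Z c.hQR hQN
  rcases c.eq_or_le_Zc U hUR hQU with hUeq | hUZ
  · exfalso
    have h1 : ⁅R, R⁆ ≤ N₀ := by
      rw [Subgroup.commutator_le]
      intro a ha b hb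
      have haU : a ∈ U := by rw [hUeq]; exact ha
      rw [commutatorElement_def]
      exact haU.2 b hb
    have h2 := (h1 hz₀).1
    obtain ⟨r, hr, hrz⟩ := h2
    have hr' : r = ⟨z₀, hz₀R⟩ := Subtype.ext hrz
    rw [hr'] at hr
    exact hφz ((mem_irrKer φ _).mp hr)
  · -- φ vanishes off the centre
    have hZmap : (center ↥R).map R.subtype = MinConfig.Zc R :=
      Cfsg.Agent.Helper7.map_subtype_center R
    have hv : ∀ g : ↥R, g ∉ center ↥R → (φ : ↥R → ℂ) g = 0 := by
      intro g hg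
      have hgZ : (g : G) ∉ MinConfig.Zc R := by
        intro h
        rw [← hZmap] at h
        obtain ⟨k, hk, hkg⟩ := h
        have : k = g := Subtype.ext hkg
        rw [this] at hk
        exact hg hk
      have hgU : (g : G) ∉ U := fun h => hgZ (hUZ h)
      have hex : ∃ b ∈ R, (g : G) * b * (g : G)⁻¹ * b⁻¹ ∉ N₀ := by
        by_contra hcon
        push Not at hcon
        exact hgU ⟨g.2, hcon⟩
      obtain ⟨b, hb, hbN⟩ := hex
      set bR : ↥R := ⟨b, hb⟩ with hbR
      set cR : ↥R := g * bR * g⁻¹ * bR⁻¹ with hcR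
      have hcval : (cR : G) = (g : G) * b * (g : G)⁻¹ * b⁻¹ := rfl
      have hcZ : (cR : G) ∈ MinConfig.Zc R := by
        rw [hcval, ← commutatorElement_def]
        exact c.derived_le_Zc (Subgroup.commutator_mem_commutator g.2 hb)
      have hcker : cR ∉ irrKer φ := by
        intro h
        apply hbN
        rw [← hcval]
        exact ⟨⟨cR, h, rfl⟩, hcZ⟩
      have hccent : cR⁻¹ ∈ center ↥R := by
        apply Subgroup.inv_mem
        rw [Subgroup.mem_center_iff]
        intro h
        apply Subtype.ext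
        exact (mem_centralizer_iff.mp hcZ.2) h h.2
      have hconj : bR * g * bR⁻¹ = cR⁻¹ * g := by
        rw [hcR]; group
      have h1 : (φ : ↥R → ℂ) (cR⁻¹ * g) = (φ : ↥R → ℂ) g := by
        rw [← hconj]
        exact isClassFunction_irr φ g bR
      have h2 := irr_center_mul φ hccent g
      rw [h1] at h2
      have h3 : (φ : ↥R → ℂ) g * ((φ : ↥R → ℂ) 1 - (φ : ↥R → ℂ) cR⁻¹) = 0 := by
        rw [mul_sub, h2]; ring
      rcases mul_eq_zero.mp h3 with h4 | h4
      · exact h4
      · exfalso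
        apply hcker
        rw [← Subgroup.inv_mem_iff, mem_irrKer]
        exact (sub_eq_zero.mp h4).symm
    have h1 := card_center_mul_irrDeg_sq φ hv
    have h2 : Nat.card (center ↥R) = Nat.card (MinConfig.Zc R) := by
      rw [← hZmap, Subgroup.card_map_of_injective R.subtype_injective]
    have h3 := c.card_bound hna
    rw [← h1, h2] at h3
    have hpos : 0 < Nat.card (MinConfig.Zc R) := Nat.card_pos
    have h4 : Nat.card Q + 1 ≤ irrDeg φ ^ 2 := by
      have : (Nat.card Q + 1) * Nat.card (MinConfig.Zc R) ≤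
          irrDeg φ ^ 2 * Nat.card (MinConfig.Zc R) := by
        rw [mul_comm (irrDeg φ ^ 2)]; exact h3
      exact Nat.le_of_mul_le_mul_right this hpos
    have h5 : irrDeg φ ≤ charDegree χ := by
      have := irrDeg_le_of_coeff_ne_zero n hn φ hφn
      rwa [charDegree_restrict] at this
    calc Nat.card Q + 1 ≤ irrDeg φ ^ 2 := h4
      _ ≤ charDegree χ ^ 2 := Nat.pow_le_pow_left h5 2

/-- Abelian case: `|Q| ≤ χ(1)`. -/
theorem caseA {Q K R : Subgroup G} (c : MinConfig p Q K R) (hab : ⁅R, R⁆ = ⊥) {χ : G → ℂ}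
    (hχ : IsCharacter G χ) (hfaith : ∀ g : G, χ g = χ 1 → g = 1) :
    Nat.card Q ≤ charDegree χ := by
  classical
  have : Fintype ↥R := Fintype.ofFinite _
  have : Fintype ↥Q := Fintype.ofFinite _
  have : Fintype (IrrCharacter ↥R) := Fintype.ofFinite _
  have hψc : IsCharacter ↥R (fun r : ↥R => χ r) := Cfsg.Agent.Helper8.isCharacter_restrict R hχ
  obtain ⟨n, hn⟩ := IsCharacter.exists_nat_coeff hψc
  have hncoef : ∀ φ : IrrCharacter ↥R,
      classInner (fun r : ↥R => χ r) (φ : ↥R → ℂ) = (n φ : ℂ) := by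
    intro φ
    conv_lhs => rw [hn]
    exact classInner_sum_irr _ φ
  have hcomm : ∀ a b : ↥R, a * b = b * a := by
    intro a b
    have h1 : R ≤ centralizer (R : Set G) := (commutator_eq_bot_iff_le_centralizer).mp hab
    exact Subtype.ext ((mem_centralizer_iff.mp (h1 a.2) b b.2).symm)
  have hlin : ∀ φ : IrrCharacter ↥R, (φ : ↥R → ℂ) 1 = 1 := comm_iff_forall_irr_one.mp hcomm
  have hex : ∃ r ∈ R, r ≠ 1 := by
    by_contra hcon
    push Not at hcon
    exact c.ne_bot ((Subgroup.eq_bot_iff_forall _).mpr hcon)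
  obtain ⟨r₀, hr₀, hr₀1⟩ := hex
  have hψz : (fun r : ↥R => χ r) ⟨r₀, hr₀⟩ ≠ (fun r : ↥R => χ r) 1 := by
    intro h
    exact hr₀1 (hfaith r₀ h)
  obtain ⟨lam, hlamn, hlamr⟩ := exists_constituent_ne n hn ⟨r₀, hr₀⟩ hψz
  obtain ⟨φh, hφh⟩ := exists_monoidHom_of_irr_one_eq_one lam (hlin lam)
  -- the conjugation automorphisms
  set e : ↥Q → (↥R ≃* ↥R) := fun x => Cfsg.Agent.Lead.conjEquiv R ⟨(x : G), c.hQR x.2⟩ with he
  have he_val : ∀ (x : ↥Q) (r : ↥R), ((e x r : ↥R) : G) = (x : G) * r * (x : G)⁻¹ := fun x r => rfl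
  set twist : ↥Q → IrrCharacter ↥R := fun x =>
    ⟨fun r => (lam : ↥R → ℂ) (e x r),
      Cfsg.Agent.Helper8.isIrrCharacter_comp_surjective (e x).toMonoidHom (e x).surjective lam.2⟩
    with htwist
  have htw_val : ∀ (x : ↥Q) (r : ↥R), (twist x : ↥R → ℂ) r = (lam : ↥R → ℂ) (e x r) :=
    fun x r => rfl
  have hntw : ∀ x : ↥Q, n (twist x) = n lam := by
    intro x
    have h1 : classInner (fun r : ↥R => χ r) (twist x : ↥R → ℂ) =
        classInner (fun r : ↥R => χ r) (lam : ↥R → ℂ) := by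
      rw [classInner, classInner]
      congr 1
      rw [← Equiv.sum_comp (e x).toEquiv (fun r : ↥R => χ r * (starRingEnd ℂ) ((lam : ↥R → ℂ) r))]
      refine Finset.sum_congr rfl fun r _ => ?_
      rw [htw_val]
      congr 1
      show χ (r : G) = χ ((e x r : ↥R) : G)
      rw [he_val]
      exact (IsCharacter.isClassFunction hχ (r : G) (x : G)).symm
    rw [hncoef, hncoef] at h1
    exact_mod_cast h1
  have hinj : Function.Injective twist := by
    intro x y hxy
    by_contra hne
    set u : G := (y : G)⁻¹ * (x : G) with hu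
    have huQ : u ∈ Q := Q.mul_mem (Q.inv_mem y.2) x.2
    have hu1 : u ≠ 1 := by
      intro h
      apply hne
      apply Subtype.ext
      rw [hu, inv_mul_eq_one] at h
      exact h.symm
    set eu : ↥R ≃* ↥R := Cfsg.Agent.Lead.conjEquiv R ⟨u, c.hQR huQ⟩ with heu
    have heu_val : ∀ r : ↥R, ((eu r : ↥R) : G) = u * r * u⁻¹ := fun r => rfl
    have hcomp : ∀ r : ↥R, e x r = e y (eu r) := by
      intro r
      apply Subtype.ext
      rw [he_val, he_val, heu_val, hu]
      group
    have hval : ∀ r : ↥R, φh (e y (eu r)) = φh (e y r) := by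
      intro r
      have h1 := congrArg (fun ψ : IrrCharacter ↥R => (ψ : ↥R → ℂ) r) hxy
      simp only [htw_val] at h1
      rw [hcomp, hφh, hφh] at h1
      exact h1
    set T : ↥R → ↥R := fun s => eu s * s⁻¹ with hT
    have hTinj : Function.Injective T := by
      intro s t hst
      have h1 : eu s * s⁻¹ = eu t * t⁻¹ := hst
      have h2 : eu (t⁻¹ * s) = t⁻¹ * s := by
        rw [map_mul, map_inv]
        calc (eu t)⁻¹ * eu s = (eu t)⁻¹ * (eu s * s⁻¹) * s := by group
          _ = (eu t)⁻¹ * (eu t * t⁻¹) * s := by rw [h1]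
          _ = t⁻¹ * s := by group
      have h3 : ((t⁻¹ * s : ↥R) : G) * u = u * ((t⁻¹ * s : ↥R) : G) := by
        have := congrArg (fun r : ↥R => (r : G)) h2
        simp only [heu_val] at this
        calc ((t⁻¹ * s : ↥R) : G) * u = (u * ((t⁻¹ * s : ↥R) : G) * u⁻¹) * u := by rw [this]
          _ = u * ((t⁻¹ * s : ↥R) : G) := by group
      have h4 := c.eq_one_of_commute hab huQ hu1 (t⁻¹ * s : ↥R).2 h3
      have h5 : t⁻¹ * s = 1 := Subtype.ext h4
      exact (inv_mul_eq_one.mp h5).symm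
    have hTsurj : Function.Surjective T := Finite.surjective_of_injective hTinj
    have hone : ∀ s : ↥R, φh (e y s) = 1 := by
      intro s
      obtain ⟨r, rfl⟩ := hTsurj s
      show φh (e y (eu r * r⁻¹)) = 1
      rw [map_mul, map_mul, hval, ← map_mul, ← map_mul, mul_inv_cancel, map_one, map_one]
    have hall : ∀ s : ↥R, (lam : ↥R → ℂ) s = 1 := by
      intro s
      obtain ⟨r, rfl⟩ := (e y).surjective s
      rw [hφh]
      exact hone r
    exact hlamr (by rw [hall, hall])
  have hfin := card_le_of_injective n hn twist hinj (fun x => by rw [hntw]; exact hlamn)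
  rw [charDegree_restrict] at hfin
  rw [Nat.card_eq_fintype_card]
  exact hfin

end Cfsg.Agent.Helper23.TIS
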