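import Mathlib
import Cfsg.Prelude.Def_Blocks
import Cfsg.Prelude.Def_CaseTheorems
import Cfsg.Agent.Helper23.TISylowCases
import Cfsg.Agent.Helper23.PSeries
import Cfsg.Agent.Helper7.PPrimeCore
import Cfsg.Agent.Lead.PSolvHall

/-!
# `p`-solvable groups with a TI Sylow subgroup and a faithful character of small degree
-/

set_option autoImplicit false
set_option linter.unusedSectionVars false
set_option linter.unusedVariables false

namespace Cfsg.Agent.Helper23.TIS

open Cfsg Cfsg.Agent.Helper24 Subgroup
open scoped Pointwise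

variable {G : Type*} [Group G] [Finite G] {p : ℕ} [hp : Fact p.Prime]

/-- With a faithful character of degree `d`, `d² ≤ |Q|`, the `p'`-core normalizes the TI Sylow
subgroup `Q`. -/
theorem pPrimeCore_le_normalizer (hTI : IsTISylow p G) {χ : G → ℂ} (hχ : IsCharacter G χ)
    (hfaith : ∀ g : G, χ g = χ 1 → g = 1) (Q : Sylow p G)
    (hdeg : charDegree χ ^ 2 ≤ Nat.card (Q : Subgroup G)) :
    pPrimeCore p G ≤ normalizer ((Q : Subgroup G) : Set G) := by
  by_contra hKQ
  have hQK : (Q : Subgroup G) ≤ normalizer ((pPrimeCore p G : Subgroup G) : Set G) := by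
    rw [normalizer_eq_top_iff.mpr (Cfsg.pPrimeCore_normal p G)]
    exact le_top
  have hK : (Nat.card (pPrimeCore p G)).Coprime p :=
    Cfsg.Agent.Helper23.pPrimeCore_card_coprime p G
  obtain ⟨R, c⟩ := exists_minConfig hTI Q (pPrimeCore p G) hQK hK hKQ
  by_cases hab : ⁅R, R⁆ = ⊥
  · have h1 := caseA c hab hχ hfaith
    have h2 : charDegree χ ^ 2 ≤ charDegree χ := hdeg.trans h1
    have h3 : charDegree χ ≤ 1 := by
      by_contra h
      push Not at h
      nlinarith
    have h4 : Nat.card (Q : Subgroup G) ≤ 1 := h1.trans h3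
    have h5 : (Q : Subgroup G) = ⊥ := (Subgroup.card_le_one_iff_eq_bot (Q : Subgroup G)).mp h4
    apply c.hRQ
    intro r hr
    rw [mem_centralizer_iff]
    intro h hh
    have hh' : h ∈ (Q : Subgroup G) := hh
    rw [h5, mem_bot] at hh'
    rw [hh', one_mul, mul_one]
  · have h1 := caseB c hab hχ hfaith
    omega

/-- A `p`-solvable group with TI Sylow `p`-subgroups normalized by the `p'`-core has a normal
Sylow `p`-subgroup. -/
theorem normal_of_pPrimeCore_le (hsolv : IsPSolvable p G) (hTI : IsTISylow p G)
    (hK : ∀ Q : Sylow p G, pPrimeCore p G ≤ normalizer ((Q : Subgroup G) : Set G))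
    (P : Sylow p G) : (P : Subgroup G).Normal := by
  set K := pPrimeCore p G with hKdef
  have hKcop : (Nat.card K).Coprime p := Cfsg.Agent.Helper23.pPrimeCore_card_coprime p G
  by_cases htriv : Nontrivial (G ⧸ K)
  · obtain ⟨M, hMn, hMne, hM⟩ := Cfsg.Agent.Lead.exists_normal_of_isPSolvable
      (Cfsg.Agent.Lead.isPSolvable_quotient hsolv K)
    have hMp : ∃ m, Nat.card M = p ^ m := by
      rcases hM with h | h
      · exact h
      · exfalso
        have := Cfsg.Agent.Helper7.le_pPrimeCore hMn h
        rw [Cfsg.Agent.Helper7.pPrimeCore_quotient_eq_bot p] at this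
        exact hMne (le_bot_iff.mp this)
    obtain ⟨m, hm⟩ := hMp
    have hm1 : m ≠ 0 := by
      rintro rfl
      rw [pow_zero] at hm
      exact hMne (Subgroup.card_eq_one.mp hm)
    set L := M.comap (QuotientGroup.mk' K) with hL
    have hLn : L.Normal := hMn.comap _
    have hLcard : Nat.card L = Nat.card K * p ^ m := by
      rw [hL, Cfsg.Agent.Helper23.card_comap_mk', hm]
    have hKL : K ≤ L := Cfsg.Agent.Helper23.le_comap_mk' K M
    have S : Sylow p L := default
    set S' : Subgroup G := (S : Subgroup L).map L.subtype with hS'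
    have hS'L : S' ≤ L := map_subtype_le _
    have hS'p : IsPGroup p S' := S.isPGroup'.map L.subtype
    have hS'card : p ^ m ∣ Nat.card S' := by
      rw [hS', Subgroup.card_map_of_injective L.subtype_injective]
      exact S.pow_dvd_card_of_pow_dvd_card (by rw [hLcard]; exact dvd_mul_left _ _)
    have hS'ne : S' ≠ ⊥ := by
      intro h
      rw [h, Subgroup.card_bot] at hS'card
      have h1 : p ^ m = 1 := Nat.dvd_one.mp hS'card
      have h2 : 1 < p ^ m := Nat.one_lt_pow hm1 hp.out.one_lt
      omega
    obtain ⟨Q, hQ⟩ := hS'p.exists_le_sylow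
    have hNS : normalizer (S' : Set G) ≤ normalizer ((Q : Subgroup G) : Set G) := by
      intro g hg
      by_contra hgQ
      have hne : g • Q ≠ Q := fun h => hgQ (Sylow.smul_eq_iff_mem_normalizer.mp h)
      have h1 := hTI (g • Q) Q hne
      apply hS'ne
      rw [eq_bot_iff, ← h1]
      refine le_inf ?_ hQ
      intro s hs
      have : ((g • Q : Sylow p G) : Subgroup G) = MulAut.conj g • (Q : Subgroup G) := rfl
      rw [this, Subgroup.mem_smul_pointwise_iff_exists]
      refine ⟨g⁻¹ * s * g, hQ ?_, ?_⟩
      · have := (mem_normalizer_iff.mp (Subgroup.inv_mem _ hg) s).mp hs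
        simpa using this
      · show g * (g⁻¹ * s * g) * g⁻¹ = s
        group
    have hLeq : K ⊔ S' = L := by
      apply Subgroup.eq_of_le_of_card_ge (sup_le hKL hS'L)
      rw [hLcard]
      apply Nat.le_of_dvd Nat.card_pos
      apply Nat.Coprime.mul_dvd_of_dvd_of_dvd (Nat.Coprime.pow_right m hKcop)
      · exact Subgroup.card_dvd_of_le le_sup_left
      · exact hS'card.trans (Subgroup.card_dvd_of_le le_sup_right)
    have hLQ : L ≤ normalizer ((Q : Subgroup G) : Set G) := by
      rw [← hLeq]
      exact sup_le (hK Q) (hQ.trans le_normalizer)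
    have hfrat := Sylow.normalizer_sup_eq_top S
    have htop : normalizer ((Q : Subgroup G) : Set G) = ⊤ := by
      rw [eq_top_iff, ← hfrat]
      exact sup_le hNS hLQ
    have hQn : (Q : Subgroup G).Normal := normalizer_eq_top_iff.mp htop
    obtain ⟨g, hg⟩ := MulAction.exists_smul_eq G Q P
    rw [← hg, Sylow.smul_eq_of_normal]
    exact hQn
  · rw [not_nontrivial_iff_subsingleton] at htriv
    have hKtop : K = ⊤ := QuotientGroup.subgroup_eq_top_of_subsingleton K htriv
    have := hK P
    rw [hKtop] at this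
    exact normalizer_eq_top_iff.mp (top_le_iff.mp this)

/-- **Theorem.** A `p`-solvable group with a TI Sylow `p`-subgroup `P` and a faithful character of
degree `d` with `d² ≤ |P|` has `P` normal. -/
theorem normal_of_faithful_character (hsolv : IsPSolvable p G) (P : Sylow p G)
    (hTI : ∀ g : G, g ∉ normalizer ((P : Subgroup G) : Set G) →
      (P : Subgroup G) ⊓ (MulAut.conj g • (P : Subgroup G)) = ⊥)
    {χ : G → ℂ} (hχ : IsCharacter G χ) (hfaith : ∀ g : G, χ g = χ 1 → g = 1)
    (hdeg : charDegree χ ^ 2 ≤ Nat.card (P : Subgroup G)) : (P : Subgroup G).Normal := by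
  have hTI' : IsTISylow p G := isTISylow_of P hTI
  apply normal_of_pPrimeCore_le hsolv hTI' _ P
  intro Q
  apply pPrimeCore_le_normalizer hTI' hχ hfaith Q
  have h1 : Nat.card (Q : Subgroup G) = Nat.card (P : Subgroup G) := by
    rw [Sylow.card_eq_multiplicity, Sylow.card_eq_multiplicity]
  rw [h1]
  exact hdeg

end Cfsg.Agent.Helper23.TIS
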