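import Mathlib

set_option autoImplicit false

/-!
The transfer of an element whose square is trivial: only the fixed cosets contribute.
-/

namespace Cfsg.Agent.Helper23.TL

open scoped Pointwise
open Subgroup MonoidHom

variable {G : Type*} [Group G] {H : Subgroup G} {A : Type*} [CommGroup A]

theorem transfer_of_mul_self [H.FiniteIndex] [Fintype (G ⧸ H)] [DecidableEq (G ⧸ H)]
    (ϕ : H →* A) (g : G) (hg : g * g = 1) (c : G ⧸ H → A)
    (hc : ∀ (x : G) (hx : x⁻¹ * g * x ∈ H), ϕ ⟨x⁻¹ * g * x, hx⟩ = c (x : G ⧸ H)) :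
    transfer ϕ g = ∏ q ∈ Finset.univ.filter (fun q : G ⧸ H => g • q = q), c q := by
  classical
  have hginv : g⁻¹ = g := inv_eq_of_mul_eq_one_right hg
  let T : H.LeftTransversal := default
  let r : G ⧸ H → G := fun q => (T.2.leftQuotientEquiv q : G)
  have hr : ∀ q, ((r q : G) : G ⧸ H) = q := fun q =>
    IsComplement.quotientGroupMk_leftQuotientEquiv T.2 q
  have hmem : ∀ q, (r q)⁻¹ * g * r (g⁻¹ • q) ∈ H := by
    intro q
    rw [mul_assoc, ← QuotientGroup.eq, hr]
    have : ((g * r (g⁻¹ • q) : G) : G ⧸ H) = g • ((r (g⁻¹ • q) : G) : G ⧸ H) := rfl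
    rw [this, hr, smul_inv_smul]
  let f : G ⧸ H → A := fun q => ϕ ⟨(r q)⁻¹ * g * r (g⁻¹ • q), hmem q⟩
  have h1 : transfer ϕ g = ∏ q : G ⧸ H, f q := by
    rw [transfer_def ϕ T g]
    unfold leftTransversals.diff
    simp only
    have e : H.fintypeQuotientOfFiniteIndex = (inferInstance : Fintype (G ⧸ H)) :=
      Subsingleton.elim _ _
    rw [e]
    apply Finset.prod_congr rfl
    intro q _
    apply congrArg ϕ
    apply Subtype.ext
    simp only [smul_apply_eq_smul_apply_inv_smul, smul_eq_mul]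
    show _ = (r q)⁻¹ * g * r (g⁻¹ • q)
    rw [mul_assoc]
  rw [h1, ← Finset.prod_filter_mul_prod_filter_not Finset.univ (fun q : G ⧸ H => g • q = q)]
  have h2 : ∏ q ∈ Finset.univ.filter (fun q : G ⧸ H => ¬ g • q = q), f q = 1 := by
    refine Finset.prod_involution (fun q _ => g • q) ?_ ?_ ?_ ?_
    · intro q _
      show ϕ _ * ϕ _ = 1
      rw [← map_mul]
      convert map_one ϕ
      apply Subtype.ext
      simp only [Subgroup.coe_mul, Subgroup.coe_one, inv_smul_smul]
      rw [hginv]
      have : (r q)⁻¹ * g * r (g • q) * ((r (g • q))⁻¹ * g * r q) = (r q)⁻¹ * (g * g) * r q := by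
        group
      rw [this, hg, mul_one, inv_mul_cancel]
    · intro q hq _
      exact (Finset.mem_filter.1 hq).2
    · intro q hq
      rw [Finset.mem_filter] at hq ⊢
      refine ⟨Finset.mem_univ _, ?_⟩
      intro h
      apply hq.2
      have := congrArg (fun z => g⁻¹ • z) h
      simp only [inv_smul_smul] at this
      exact this
    · intro q _
      show g • g • q = q
      rw [← mul_smul, hg, one_smul]
  rw [h2, mul_one]
  apply Finset.prod_congr rfl
  intro q hq
  have hq' : g • q = q := (Finset.mem_filter.1 hq).2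
  have hq'' : g⁻¹ • q = q := by rw [hginv]; exact hq'
  have h3 : (r q)⁻¹ * g * r q ∈ H := by
    have := hmem q
    rwa [hq''] at this
  have h4 : f q = ϕ ⟨(r q)⁻¹ * g * r q, h3⟩ := by
    apply congrArg ϕ
    apply Subtype.ext
    show (r q)⁻¹ * g * r (g⁻¹ • q) = (r q)⁻¹ * g * r q
    rw [hq'']
  rw [h4, hc (r q) h3, hr]

end Cfsg.Agent.Helper23.TL
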