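import Mathlib
import Cfsg.Prelude.Def_FusionSystem
import Cfsg.Agent.Helper26.CB9
import Cfsg.Agent.Helper23.TLa

set_option autoImplicit false

/-!
Counting on a characteristic biset, part 1: conjugacy of cyclic twisted diagonals, marks of
cyclic subgroups, and general counting lemmas.
-/

namespace Cfsg.Agent.Helper23.TL

open Cfsg Cfsg.FusionSystem Cfsg.Agent.Helper25 Cfsg.Agent.Helper25.Park Cfsg.Agent.Helper26.CB

universe u

variable {Ω : Type u} [Group Ω] {S : Subgroup Ω} {X : Type u}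

/-- Varying the right coordinate along a map of the system gives conjugate subgroups of the
product. -/
theorem gconj_right (F : FusionSystem S) {P : Subgroup Ω} (hP : P ≤ S) {φ : P →* Ω}
    (hφ : φ ∈ F.Hom P) (hφS : ∀ x, φ x ∈ S) (K : Subgroup (↥S × ↥P)) :
    GConj (prodSystem F F)
      (K.map ((mkH S).comp ((MonoidHom.id ↥S).prodMap (Subgroup.inclusion hP))))
      (K.map ((mkH S).comp ((MonoidHom.id ↥S).prodMap (φ.codRestrict S hφS)))) := by
  set f₁ : ↥S × ↥P →* ↥(S.prod S) :=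
    (mkH S).comp ((MonoidHom.id ↥S).prodMap (Subgroup.inclusion hP)) with hf₁
  set f₂ : ↥S × ↥P →* ↥(S.prod S) :=
    (mkH S).comp ((MonoidHom.id ↥S).prodMap (φ.codRestrict S hφS)) with hf₂
  have hf₁c : ∀ k : ↥S × ↥P, ((f₁ k : ↥(S.prod S)) : Ω × Ω) = ((k.1 : Ω), (k.2 : Ω)) :=
    fun k => rfl
  have hf₂c : ∀ k : ↥S × ↥P, ((f₂ k : ↥(S.prod S)) : Ω × Ω) = ((k.1 : Ω), φ k.2) :=
    fun k => rfl
  have h₁ : ((K.map f₁).map (S.prod S).subtype).map (MonoidHom.fst Ω Ω) ≤ S := by
    rintro _ ⟨_, ⟨_, ⟨k, hk, rfl⟩, rfl⟩, rfl⟩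
    exact k.1.2
  have h₂ : ((K.map f₁).map (S.prod S).subtype).map (MonoidHom.snd Ω Ω) ≤ P := by
    rintro _ ⟨_, ⟨_, ⟨k, hk, rfl⟩, rfl⟩, rfl⟩
    exact k.2.2
  refine ⟨pairHom h₁ h₂ S.subtype φ,
    pairHom_mem (prodSystem_isProductSystem F F) (map_subtype_le _) h₁ h₂
      (subtype_mem F le_rfl) hφ, ?_⟩
  ext y
  constructor
  · rintro ⟨⟨_, ⟨_, ⟨k, hk, rfl⟩, rfl⟩⟩, rfl⟩
    refine ⟨f₂ k, ⟨k, hk, rfl⟩, ?_⟩
    rw [pairHom_apply]
    rfl
  · rintro ⟨_, ⟨k, hk, rfl⟩, rfl⟩
    refine ⟨⟨((f₁ k : ↥(S.prod S)) : Ω × Ω), ⟨_, ⟨k, hk, rfl⟩, rfl⟩⟩, ?_⟩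
    rw [pairHom_apply]
    rfl

/-- The mark of a cyclic subgroup is the number of fixed points of its generator. -/
theorem mark_zpowers {H : Type*} [Group H] (a : H →* Equiv.Perm X) (h : H) :
    mark a (Subgroup.zpowers h) = Nat.card {x : X // a h x = x} := by
  unfold mark
  apply Nat.card_congr
  apply Equiv.subtypeEquivRight
  intro x
  constructor
  · intro hx
    exact hx h (Subgroup.mem_zpowers h)
  · intro hx k hk
    have hk' : k ∈ stab a x := by
      have : Subgroup.zpowers h ≤ stab a x := by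
        rw [Subgroup.zpowers_le]
        exact hx
      exact this hk
    exact hk'

/-- The marks of the cyclic twisted diagonals through conjugate elements agree. -/
theorem mark_conjElt [Finite S] [Finite X] (a : ↥(S.prod S) →* Equiv.Perm X) (F : FusionSystem S)
    (hst : ∀ K K' : Subgroup ↥(S.prod S), GConj (prodSystem F F) K K' → mark a K = mark a K')
    (u t : ↥S) (hut : F.IsConjElt (u : Ω) (t : Ω)) :
    Nat.card {x : X // a (mkH S (u, t)) x = x} = Nat.card {x : X // a (mkH S (u, u)) x = x} := by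
  obtain ⟨φ, hφ, hφu⟩ := hut
  have hP : Subgroup.zpowers (u : Ω) ≤ S := (F.le_of_mem hφ).1
  have hφS := (F.le_of_mem hφ).2
  have h := hst _ _ (gconj_right F hP hφ hφS
    (Subgroup.zpowers ((u, ⟨(u : Ω), Subgroup.mem_zpowers _⟩) : ↥S × ↥(Subgroup.zpowers (u : Ω)))))
  rw [MonoidHom.map_zpowers, MonoidHom.map_zpowers, mark_zpowers, mark_zpowers] at h
  have e1 : ((mkH S).comp ((MonoidHom.id ↥S).prodMap (Subgroup.inclusion hP)))
      ((u, ⟨(u : Ω), Subgroup.mem_zpowers _⟩) : ↥S × ↥(Subgroup.zpowers (u : Ω))) =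
      mkH S (u, u) := by
    apply Subtype.ext
    rfl
  have e2 : ((mkH S).comp ((MonoidHom.id ↥S).prodMap (φ.codRestrict S hφS)))
      ((u, ⟨(u : Ω), Subgroup.mem_zpowers _⟩) : ↥S × ↥(Subgroup.zpowers (u : Ω))) =
      mkH S (u, t) := by
    apply Subtype.ext
    show ((u : Ω), φ ⟨(u : Ω), _⟩) = ((u : Ω), (t : Ω))
    rw [hφu]
  rw [e1, e2] at h
  exact h.symm

/-- A fixed point of `(u, t)` forces `t` to be conjugate to `u`. -/
theorem conjElt_of_fixed (a : ↥(S.prod S) →* Equiv.Perm X) (F : FusionSystem S)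
    (hTD : ∀ x, TD F (stab a x)) (u t : ↥S) (x : X) (hx : a (mkH S (u, t)) x = x) :
    F.IsConjElt (u : Ω) (t : Ω) := by
  obtain ⟨Q, ψ, hψ, hall⟩ := hTD x
  obtain ⟨hq, he⟩ := hall (mkH S (u, t)) hx
  have hle : Subgroup.zpowers (u : Ω) ≤ Q := by
    rw [Subgroup.zpowers_le]
    exact hq
  refine ⟨ψ.comp (Subgroup.inclusion hle), restrict_mem F hle hψ, ?_⟩
  exact he

/-- A finite group acting freely on an invariant finite set: its order divides the size. -/
theorem card_dvd_of_free {C : Type*} [Group C] [Finite C] [Finite X] (ρ : C →* Equiv.Perm X)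
    (Y : Set X) (hY : ∀ c, ∀ y ∈ Y, ρ c y ∈ Y) (hfree : ∀ c, ∀ y ∈ Y, ρ c y = y → c = 1) :
    Nat.card C ∣ Nat.card Y := by
  letI : MulAction C Y :=
    { smul := fun c y => ⟨ρ c y, hY c y y.2⟩
      one_smul := fun y => Subtype.ext (by show ρ 1 y = y; rw [map_one]; rfl)
      mul_smul := fun c c' y => Subtype.ext (by
        show ρ (c * c') y = ρ c (ρ c' y)
        rw [map_mul]; rfl) }
  have hstab : ∀ y : Y, MulAction.stabilizer C y = ⊥ := by
    intro y
    rw [eq_bot_iff]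
    intro c hc
    rw [MulAction.mem_stabilizer_iff] at hc
    have : ρ c y = y := congrArg Subtype.val hc
    rw [Subgroup.mem_bot]
    exact hfree c y y.2 this
  have e := MulAction.selfEquivOrbitsQuotientProd hstab
  rw [Nat.card_congr e, Nat.card_prod]
  exact dvd_mul_left _ _

/-- If a number divides the index of every stabilizer, it divides the size of the set. -/
theorem dvd_card_of_dvd_index {C : Type*} [Group C] [Finite C] {B : Type*} [Finite B]
    [MulAction C B] (d : ℕ) (hd : ∀ b : B, d ∣ (MulAction.stabilizer C b).index) :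
    d ∣ Nat.card B := by
  classical
  have e := MulAction.selfEquivSigmaOrbitsQuotientStabilizer C B
  letI : Fintype (Quotient (MulAction.orbitRel C B)) := Fintype.ofFinite _
  rw [Nat.card_congr e, Nat.card_sigma]
  apply Finset.dvd_sum
  intro ω _
  exact hd _

end Cfsg.Agent.Helper23.TL
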