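import Mathlib
import Cfsg.Prelude.Def_FusionSystem
import Cfsg.Agent.Helper26.CB9
import Cfsg.Agent.Helper23.TLb

set_option autoImplicit false
set_option linter.style.haveILetI false

/-!
Counting on a characteristic biset, part 2: cosets of `H0` against right orbits, and the
transfer of an element of `S` of order at most two.
-/

namespace Cfsg.Agent.Helper23.TL

open Cfsg Cfsg.FusionSystem Cfsg.Agent.Helper25 Cfsg.Agent.Helper25.Park Cfsg.Agent.Helper26.CB

universe u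

variable {Ω : Type u} [Group Ω] {S : Subgroup Ω} {X : Type u}

section acts

variable (a : ↥(S.prod S) →* Equiv.Perm X) (x₀ : X) (F : FusionSystem S)
  (hTD : ∀ x, TD F (stab a x)) (hx₀ : ∀ k ∈ graphSub (1 : MulAut ↥S), a k x₀ = x₀)

/-- Any homomorphism from the commuting permutations to a commutative group kills the focal
subgroup. -/
theorem hom_iota_focal [Finite S] [Finite X] {A : Type*} [CommGroup A] (W : ↥(Cen a) →* A)
    (hst : ∀ K K' : Subgroup ↥(S.prod S), GConj (prodSystem F F) K K' → mark a K = mark a K') :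
    F.focalSubgroup ≤ (W.comp (iota a)).ker.map S.subtype := by
  unfold FusionSystem.focalSubgroup
  rw [Subgroup.closure_le]
  rintro y ⟨P, φ, x, hφ, rfl⟩
  obtain ⟨hP, hφS⟩ := F.le_of_mem hφ
  obtain ⟨g, hg⟩ := exists_cen_conj a F hst hP hφ hφS
  refine ⟨(⟨(x : Ω), hP x.2⟩ : ↥S)⁻¹ * ⟨φ x, hφS x⟩, ?_, rfl⟩
  show _ ∈ (W.comp (iota a)).ker
  rw [MonoidHom.mem_ker, MonoidHom.comp_apply, map_mul, map_mul, hg x]
  simp only [map_mul, map_inv]
  rw [mul_comm (W g), mul_inv_cancel_right, inv_mul_cancel]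

/-- Two commuting permutations lie in the same coset of `H0` exactly when they carry the base
point into the same orbit of the right action. -/
theorem mk_eq_iff (r r' : ↥(Cen a)) :
    ((r : ↥(Cen a)) : ↥(Cen a) ⧸ H0 a x₀) = (r' : ↥(Cen a) ⧸ H0 a x₀) ↔
      ∃ s : ↥S, (r' : Equiv.Perm X) x₀ = rAct a s ((r : Equiv.Perm X) x₀) := by
  rw [QuotientGroup.eq, mem_H0]
  constructor
  · rintro ⟨s, hs⟩
    refine ⟨s, ?_⟩
    rw [Subgroup.coe_mul, Subgroup.coe_inv, Equiv.Perm.mul_apply, Equiv.Perm.inv_eq_iff_eq] at hs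
    rw [hs, Cen_comm]
  · rintro ⟨s, hs⟩
    refine ⟨s, ?_⟩
    rw [Subgroup.coe_mul, Subgroup.coe_inv, Equiv.Perm.mul_apply, Equiv.Perm.inv_eq_iff_eq, hs,
      Cen_comm]

/-- The point attached to a coset. -/
noncomputable def base (q : ↥(Cen a) ⧸ H0 a x₀) : X :=
  ((Quotient.out q : ↥(Cen a)) : Equiv.Perm X) x₀

theorem base_mk (r : ↥(Cen a)) :
    ∃ s : ↥S, base a x₀ (r : ↥(Cen a) ⧸ H0 a x₀) = rAct a s ((r : Equiv.Perm X) x₀) := by
  apply (mk_eq_iff a x₀ r _).1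
  exact (QuotientGroup.out_eq' _).symm

include hTD hx₀ in
theorem exists_base (y : X) : ∃ (q : ↥(Cen a) ⧸ H0 a x₀) (t : ↥S), rAct a t (base a x₀ q) = y := by
  obtain ⟨g, hg⟩ := exists_cen_apply_eq a x₀ F hTD hx₀ y
  obtain ⟨s, hs⟩ := base_mk a x₀ g
  refine ⟨(g : ↥(Cen a) ⧸ H0 a x₀), s⁻¹, ?_⟩
  rw [hs, hg, ← Equiv.Perm.mul_apply, ← map_mul, inv_mul_cancel, map_one]
  rfl

include hTD in
theorem base_inj {q q' : ↥(Cen a) ⧸ H0 a x₀} {t t' : ↥S}
    (h : rAct a t (base a x₀ q) = rAct a t' (base a x₀ q')) : q = q' ∧ t = t' := by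
  have h1 : base a x₀ q' = rAct a (t'⁻¹ * t) (base a x₀ q) := by
    rw [map_mul, Equiv.Perm.mul_apply, h, ← Equiv.Perm.mul_apply, ← map_mul, inv_mul_cancel,
      map_one]
    rfl
  have h2 : q = q' := by
    rw [← QuotientGroup.out_eq' q, ← QuotientGroup.out_eq' q']
    exact (mk_eq_iff a x₀ _ _).2 ⟨_, h1⟩
  subst h2
  exact ⟨rfl, rAct_injective a F hTD _ h⟩

include hTD hx₀ in
/-- A property of points invariant under the right action is counted on cosets. -/
theorem card_invariant [Finite S] [Finite X] (Pr : X → Prop)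
    (hPr : ∀ s y, Pr (rAct a s y) ↔ Pr y) :
    Nat.card {y : X // Pr y} =
      Nat.card {q : ↥(Cen a) ⧸ H0 a x₀ // Pr (base a x₀ q)} * Nat.card S := by
  let E : (↥(Cen a) ⧸ H0 a x₀) × ↥S ≃ X :=
    Equiv.ofBijective (fun p => rAct a p.2 (base a x₀ p.1))
      ⟨fun p p' h => by
        obtain ⟨h1, h2⟩ := base_inj a x₀ F hTD h
        exact Prod.ext h1 h2,
       fun y => by
        obtain ⟨q, t, h⟩ := exists_base a x₀ F hTD hx₀ y
        exact ⟨(q, t), h⟩⟩
  have e1 : {y : X // Pr y} ≃ {p : (↥(Cen a) ⧸ H0 a x₀) × ↥S // Pr (base a x₀ p.1)} := by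
    refine (Equiv.subtypeEquiv E ?_).symm
    intro p
    exact (hPr p.2 (base a x₀ p.1)).symm
  have e2 : {p : (↥(Cen a) ⧸ H0 a x₀) × ↥S // Pr (base a x₀ p.1)} ≃
      {q : ↥(Cen a) ⧸ H0 a x₀ // Pr (base a x₀ q)} × ↥S :=
    Equiv.prodSubtypeFstEquivSubtypeProd (p := fun q => Pr (base a x₀ q))
  rw [Nat.card_congr e1, Nat.card_congr e2, Nat.card_prod]

end acts

end Cfsg.Agent.Helper23.TL
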