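import Mathlib
import Cfsg.Prelude.Def_FusionSystem
import Cfsg.Agent.Helper26.CB9
import Cfsg.Agent.Helper23.TLc

set_option autoImplicit false
set_option linter.style.haveILetI false

/-!
Counting on a characteristic biset, part 3: types of points fixed by an element acting on the
left, and the value of the transfer.
-/

namespace Cfsg.Agent.Helper23.TL

open Cfsg Cfsg.FusionSystem Cfsg.Agent.Helper25 Cfsg.Agent.Helper25.Park Cfsg.Agent.Helper26.CB

universe u

variable {Ω : Type u} [Group Ω] {S : Subgroup Ω} {X : Type u}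

section types

variable (a : ↥(S.prod S) →* Equiv.Perm X) (x₀ : X) (F : FusionSystem S)
  (hTD : ∀ x, TD F (stab a x)) (hx₀ : ∀ k ∈ graphSub (1 : MulAut ↥S), a k x₀ = x₀) (u : ↥S)

include hTD in
theorem type_unique {t t' : ↥S} {y : X} (h : a (mkH S (u, t)) y = y)
    (h' : a (mkH S (u, t')) y = y) : t = t' := by
  have h1 := TD_inj F (hTD y) (h := mkH S (u, t)) (h' := mkH S (u, t')) h h' (by simp)
  have h2 := congrArg (pR S) h1
  simpa using h2

theorem type_rAct {t : ↥S} {y : X} (s : ↥S) (h : a (mkH S (u, t)) y = y) :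
    a (mkH S (u, s * t * s⁻¹)) (rAct a s y) = rAct a s y := by
  rw [rAct_apply, ← Equiv.Perm.mul_apply, ← map_mul]
  have e : mkH S (u, s * t * s⁻¹) * mkH S (1, s) = mkH S (1, s) * mkH S (u, t) := by
    rw [← map_mul, ← map_mul]
    congr 1
    ext <;> simp
  rw [e, map_mul, Equiv.Perm.mul_apply, h]

theorem fix_iff (t : ↥S) (y : X) :
    a (mkH S (u, t)) y = y ↔ lAct a u y = rAct a t⁻¹ y := by
  rw [← rAct_mul_lAct, Equiv.Perm.mul_apply, map_inv, Equiv.Perm.eq_inv_iff_eq]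

/-- The value attached to a point. -/
noncomputable def dval (θ : ↥S →* ℤˣ) (y : X) : ℤˣ := by
  classical
  exact if h : ∃ t, a (mkH S (u, t)) y = y then θ (Classical.choose h) else 1

include hTD in
theorem dval_eq (θ : ↥S →* ℤˣ) {t : ↥S} {y : X} (h : a (mkH S (u, t)) y = y) :
    dval a u θ y = θ t := by
  classical
  have hex : ∃ t, a (mkH S (u, t)) y = y := ⟨t, h⟩
  unfold dval
  rw [dif_pos hex, type_unique a F hTD u (Classical.choose_spec hex) h]

theorem dval_of_not (θ : ↥S →* ℤˣ) {y : X} (h : ¬ ∃ t, a (mkH S (u, t)) y = y) :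
    dval a u θ y = 1 := by
  classical
  unfold dval
  rw [dif_neg h]

include hTD in
theorem dval_rAct (θ : ↥S →* ℤˣ) (s : ↥S) (y : X) :
    dval a u θ (rAct a s y) = dval a u θ y := by
  by_cases h : ∃ t, a (mkH S (u, t)) y = y
  · obtain ⟨t, ht⟩ := h
    rw [dval_eq a F hTD u θ ht, dval_eq a F hTD u θ (type_rAct a u s ht), map_mul, map_mul,
      map_inv, mul_comm, inv_mul_cancel_left]
  · rw [dval_of_not a u θ h, dval_of_not]
    rintro ⟨t, ht⟩
    apply h
    have h1 := type_rAct a u s⁻¹ ht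
    have h2 : rAct a s⁻¹ (rAct a s y) = y := by
      rw [← Equiv.Perm.mul_apply, ← map_mul, inv_mul_cancel, map_one]
      rfl
    rw [h2] at h1
    exact ⟨_, h1⟩

/-- The cosets fixed by `u` acting on the left. -/
theorem smul_mk_eq_iff (r : ↥(Cen a)) :
    iota a u • ((r : ↥(Cen a)) : ↥(Cen a) ⧸ H0 a x₀) = (r : ↥(Cen a) ⧸ H0 a x₀) ↔
      ∃ t, a (mkH S (u, t)) ((r : Equiv.Perm X) x₀) = (r : Equiv.Perm X) x₀ := by
  have e : iota a u • ((r : ↥(Cen a)) : ↥(Cen a) ⧸ H0 a x₀) =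
      ((iota a u * r : ↥(Cen a)) : ↥(Cen a) ⧸ H0 a x₀) := rfl
  rw [e, eq_comm, mk_eq_iff]
  constructor
  · rintro ⟨s, hs⟩
    refine ⟨s⁻¹, ?_⟩
    rw [fix_iff, inv_inv, ← hs]
    rfl
  · rintro ⟨t, ht⟩
    refine ⟨t⁻¹, ?_⟩
    rw [fix_iff] at ht
    rw [← ht]
    rfl

theorem smul_eq_iff_base (q : ↥(Cen a) ⧸ H0 a x₀) :
    iota a u • q = q ↔ ∃ t, a (mkH S (u, t)) (base a x₀ q) = base a x₀ q := by
  conv_lhs => rw [← QuotientGroup.out_eq' q]
  exact smul_mk_eq_iff a x₀ u _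

/-- The transfer of an element of `S` of order at most two, through a homomorphism to `ℤˣ`. -/
theorem transfer_iota [Finite X] (θ : ↥S →* ℤˣ) (hu : u * u = 1)
    [Fintype (↥(Cen a) ⧸ H0 a x₀)] [DecidableEq (↥(Cen a) ⧸ H0 a x₀)] :
    MonoidHom.transfer ((Abelianization.lift θ).comp (phi a x₀ F hTD)) (iota a u) =
      ∏ q ∈ Finset.univ.filter (fun q : ↥(Cen a) ⧸ H0 a x₀ => iota a u • q = q),
        dval a u θ (base a x₀ q) := by
  apply transfer_of_mul_self
  · rw [← map_mul, hu, map_one]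
  · intro r hr
    rw [MonoidHom.comp_apply, phi_apply, map_inv, Abelianization.lift_apply_of]
    set s : ↥S := sOf a x₀ ⟨_, hr⟩ with hs
    have h1 := sOf_spec a x₀ ⟨_, hr⟩
    rw [← hs] at h1
    have h2 : ((r⁻¹ * iota a u * r : ↥(Cen a)) : Equiv.Perm X) x₀ = rAct a s x₀ := h1
    rw [Subgroup.coe_mul, Subgroup.coe_mul, Subgroup.coe_inv, Equiv.Perm.mul_apply,
      Equiv.Perm.mul_apply, Equiv.Perm.inv_eq_iff_eq, ← Cen_comm, coe_iota] at h2
    have h3 : a (mkH S (u, s⁻¹)) ((r : Equiv.Perm X) x₀) = (r : Equiv.Perm X) x₀ := by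
      rw [fix_iff, inv_inv]
      exact h2
    obtain ⟨s₁, hs₁⟩ := base_mk a x₀ r
    rw [hs₁, dval_rAct a F hTD u θ, dval_eq a F hTD u θ h3, map_inv]

end types

/-- A product of units of `ℤ` is a power of `-1`. -/
theorem prod_units_int {α : Type*} (s : Finset α) (f : α → ℤˣ) [DecidablePred fun x => f x = -1] :
    ∏ x ∈ s, f x = (-1) ^ (s.filter (fun x => f x = -1)).card := by
  have h : ∀ x ∈ s, f x = if f x = -1 then -1 else 1 := by
    intro x _
    split_ifs with hx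
    · exact hx
    · exact (Int.units_eq_one_or (f x)).resolve_right hx
  rw [Finset.prod_congr rfl h, Finset.prod_ite, Finset.prod_const_one, mul_one,
    Finset.prod_const]

end Cfsg.Agent.Helper23.TL
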