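import Mathlib
import Cfsg.Prelude.Def_FusionSystem
import Cfsg.Agent.Helper26.CB9
import Cfsg.Agent.Helper23.TLd

set_option autoImplicit false
set_option linter.style.haveILetI false

/-!
Counting on a characteristic biset, part 4: conjugates of an element, and the number of points of
a given kind.
-/

namespace Cfsg.Agent.Helper23.TL

open Cfsg Cfsg.FusionSystem Cfsg.Agent.Helper25 Cfsg.Agent.Helper25.Park Cfsg.Agent.Helper26.CB

universe u

variable {Ω : Type u} [Group Ω] {S : Subgroup Ω} {X : Type u}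

theorem conjElt_refl (F : FusionSystem S) (u : ↥S) : F.IsConjElt (u : Ω) (u : Ω) := by
  have hle : Subgroup.zpowers (u : Ω) ≤ S := by
    rw [Subgroup.zpowers_le]
    exact u.2
  exact ⟨_, subtype_mem F hle, rfl⟩

theorem conjElt_conj (F : FusionSystem S) {u t : ↥S} (s : ↥S) (h : F.IsConjElt (u : Ω) (t : Ω)) :
    F.IsConjElt (u : Ω) ((s * t * s⁻¹ : ↥S) : Ω) := by
  obtain ⟨φ, hφ, hφu⟩ := h
  have hφS := (F.le_of_mem hφ).2
  have hψ : conjHom S (s : Ω) ∈ F.Hom S := F.conj_mem le_rfl s.2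
  refine ⟨_, F.comp_mem hφ hψ hφS, ?_⟩
  simp only [MonoidHom.comp_apply, conjHom, MulEquiv.coe_toMonoidHom, MulAut.conj_apply,
    Subgroup.coe_subtype, MonoidHom.codRestrict_apply, hφu, Subgroup.coe_mul, Subgroup.coe_inv]

theorem conjElt_trans (F : FusionSystem S) {x y z : Ω} (h : F.IsConjElt x y)
    (h' : F.IsConjElt y z) : F.IsConjElt x z := by
  obtain ⟨φ, hφ, hφx⟩ := h
  obtain ⟨ψ, hψ, hψy⟩ := h'
  have hv : ∀ w : Subgroup.zpowers x, φ w ∈ Subgroup.zpowers y := by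
    rintro ⟨w, hw⟩
    obtain ⟨n, rfl⟩ := Subgroup.mem_zpowers_iff.1 hw
    have e : (⟨x ^ n, hw⟩ : Subgroup.zpowers x) = ⟨x, Subgroup.mem_zpowers x⟩ ^ n :=
      Subtype.ext rfl
    rw [e, map_zpow, hφx]
    exact Subgroup.zpow_mem_zpowers y n
  refine ⟨_, F.comp_mem hφ hψ hv, ?_⟩
  rw [MonoidHom.comp_apply]
  have e : (φ.codRestrict (Subgroup.zpowers y) hv) ⟨x, Subgroup.mem_zpowers x⟩ =
      ⟨y, Subgroup.mem_zpowers y⟩ := Subtype.ext hφx
  rw [e, hψy]

theorem conjElt_sq (F : FusionSystem S) {u t : ↥S} (hu : u * u = 1) (hu1 : u ≠ 1)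
    (h : F.IsConjElt (u : Ω) (t : Ω)) : t * t = 1 ∧ t ≠ 1 := by
  obtain ⟨φ, hφ, hφu⟩ := h
  have hinj := F.injective_of_mem hφ
  have huu : (u : Ω) * (u : Ω) = 1 := by
    have := congrArg (fun z : ↥S => (z : Ω)) hu
    simpa using this
  constructor
  · apply Subtype.ext
    rw [Subgroup.coe_mul, ← hφu, ← map_mul]
    have e : (⟨(u : Ω), Subgroup.mem_zpowers _⟩ : Subgroup.zpowers (u : Ω)) *
        ⟨(u : Ω), Subgroup.mem_zpowers _⟩ = 1 := Subtype.ext huu
    rw [e, map_one]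
    rfl
  · intro ht
    apply hu1
    have h1 : φ ⟨(u : Ω), Subgroup.mem_zpowers _⟩ = φ 1 := by
      rw [hφu, map_one, ht]
      rfl
    have h2 := hinj h1
    apply Subtype.ext
    exact congrArg (fun z : Subgroup.zpowers (u : Ω) => (z : Ω)) h2

section counts

variable (a : ↥(S.prod S) →* Equiv.Perm X) (F : FusionSystem S)
  (hTD : ∀ x, TD F (stab a x)) (u : ↥S)

include hTD in
/-- The number of points fixed by `u` on the left up to an element of `S` of a given kind on the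
right. -/
theorem card_types [Finite S] [Finite X]
    (hst : ∀ K K' : Subgroup ↥(S.prod S), GConj (prodSystem F F) K K' → mark a K = mark a K')
    (R : ↥S → Prop) :
    Nat.card {y : X // ∃ t, a (mkH S (u, t)) y = y ∧ R t} =
      Nat.card {t : ↥S // F.IsConjElt (u : Ω) (t : Ω) ∧ R t} *
        Nat.card {y : X // a (mkH S (u, u)) y = y} := by
  classical
  let g : (Σ t : {t : ↥S // F.IsConjElt (u : Ω) (t : Ω) ∧ R t},
      {y : X // a (mkH S (u, t.1)) y = y}) → {y : X // ∃ t, a (mkH S (u, t)) y = y ∧ R t} :=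
    fun p => ⟨p.2.1, ⟨p.1.1, p.2.2, p.1.2.2⟩⟩
  have hg : Function.Bijective g := by
    constructor
    · rintro ⟨⟨t, ht⟩, ⟨y, hy⟩⟩ ⟨⟨t', ht'⟩, ⟨y', hy'⟩⟩ h
      have hyy : y = y' := congrArg Subtype.val h
      subst hyy
      have htt : t = t' := type_unique a F hTD u hy hy'
      subst htt
      rfl
    · rintro ⟨y, t, hy, hR⟩
      exact ⟨⟨⟨t, conjElt_of_fixed a F hTD u t y hy, hR⟩, ⟨y, hy⟩⟩, rfl⟩
  letI : Fintype {t : ↥S // F.IsConjElt (u : Ω) (t : Ω) ∧ R t} := Fintype.ofFinite _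
  rw [← Nat.card_congr (Equiv.ofBijective g hg), Nat.card_sigma]
  rw [Finset.sum_congr rfl (fun t _ => mark_conjElt a F hst u t.1 t.2.1)]
  rw [Finset.sum_const, smul_eq_mul, Finset.card_univ, ← Nat.card_eq_fintype_card]

end counts

end Cfsg.Agent.Helper23.TL
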