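import Mathlib
import Cfsg.Prelude.Def_FusionSystem
import Cfsg.Agent.Helper26.CB9
import Cfsg.Agent.Helper23.TLe

set_option autoImplicit false
set_option linter.style.haveILetI false

/-!
Counting on a characteristic biset, part 5: normalizers of involutions and the divisibility
behind the Thompson transfer argument.
-/

namespace Cfsg.Agent.Helper23.TL

open Cfsg Cfsg.FusionSystem Cfsg.Agent.Helper25 Cfsg.Agent.Helper25.Park Cfsg.Agent.Helper26.CB

universe u

variable {Ω : Type u} [Group Ω] {S : Subgroup Ω} {X : Type u}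

/-- The order of the normalizer in `S` of the cyclic subgroup generated by an element. -/
noncomputable def nrm (S : Subgroup Ω) (t : ↥S) : ℕ :=
  Nat.card (normalizerIn S (Subgroup.zpowers (t : Ω)))

theorem zpow_of_sq {G : Type*} [Group G] {t : G} (ht : t * t = 1) (n : ℤ) :
    t ^ n = 1 ∨ t ^ n = t := by
  rcases Int.even_or_odd' n with ⟨k, rfl | rfl⟩
  · left
    rw [zpow_mul, zpow_two, ht, one_zpow]
  · right
    rw [zpow_add, zpow_mul, zpow_two, ht, one_zpow, one_mul, zpow_one]

/-- The normalizer of the subgroup generated by an involution centralizes it. -/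
theorem conj_eq_of_mem_normalizerIn {t : ↥S} (ht : t * t = 1) (ht1 : t ≠ 1) {c : ↥S}
    (hc : (c : Ω) ∈ normalizerIn S (Subgroup.zpowers (t : Ω))) : c * t * c⁻¹ = t := by
  have h1 := (Subgroup.mem_inf.1 hc).2
  rw [Subgroup.mem_normalizer_iff] at h1
  have h2 := (h1 (t : Ω)).1 (Subgroup.mem_zpowers _)
  obtain ⟨n, hn⟩ := Subgroup.mem_zpowers_iff.1 h2
  have htt : (t : Ω) * (t : Ω) = 1 := by
    have := congrArg (fun z : ↥S => (z : Ω)) ht
    simpa using this
  rcases zpow_of_sq htt n with h | h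
  · exfalso
    apply ht1
    rw [h] at hn
    apply Subtype.ext
    have : (c : Ω)⁻¹ * ((c : Ω) * (t : Ω) * (c : Ω)⁻¹) * (c : Ω) = (t : Ω) := by group
    rw [← this, ← hn]
    simp
  · apply Subtype.ext
    rw [h] at hn
    simp only [Subgroup.coe_mul, Subgroup.coe_inv]
    exact hn.symm

section arith

variable (a : ↥(S.prod S) →* Equiv.Perm X) (F : FusionSystem S)
  (hTD : ∀ x, TD F (stab a x)) (u : ↥S)

include hTD in
/-- The order of the normalizer of an involution divides the number of points of its kind. -/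
theorem nrm_dvd [Finite S] [Finite X] {t : ↥S} (ht : t * t = 1) (ht1 : t ≠ 1) :
    nrm S t ∣ Nat.card {y : X // a (mkH S (u, t)) y = y} := by
  set N : Subgroup ↥S := (normalizerIn S (Subgroup.zpowers (t : Ω))).subgroupOf S with hN
  have hcard : Nat.card N = nrm S t :=
    Nat.card_congr (Subgroup.subgroupOfEquivOfLe inf_le_left).toEquiv
  rw [← hcard]
  have h := card_dvd_of_free ((rAct a).comp N.subtype) {y : X | a (mkH S (u, t)) y = y}
    (by
      rintro ⟨c, hc⟩ y hy
      have h1 := type_rAct a u c hy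
      rw [conj_eq_of_mem_normalizerIn ht ht1 (Subgroup.mem_subgroupOf.1 hc)] at h1
      exact h1)
    (by
      rintro ⟨c, hc⟩ y _ hcy
      have : c = 1 := rAct_free a F hTD hcy
      exact Subtype.ext this)
  exact h

/-- The arithmetic of the final divisibility. -/
theorem arith_main {cS M m cB : ℕ} (hMS : M ∣ cS) (hMm : M ∣ m) (hB : 2 * (cS / M) ∣ cB) :
    2 * cS ∣ cB * m := by
  obtain ⟨m', rfl⟩ := hMm
  obtain ⟨b, rfl⟩ := hB
  have h1 : cS / M * M = cS := Nat.div_mul_cancel hMS
  refine ⟨b * m', ?_⟩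
  calc 2 * (cS / M) * b * (M * m') = 2 * (cS / M * M) * (b * m') := by ring
    _ = 2 * cS * (b * m') := by rw [h1]

theorem arith_index {cS M n c idx : ℕ} (hc : 0 < c) (hMS : M ∣ cS) (hn : 2 * n ∣ M) (hcn : c ∣ n)
    (hidx : idx * c = cS) : 2 * (cS / M) ∣ idx := by
  obtain ⟨f, rfl⟩ := hn
  obtain ⟨g, rfl⟩ := hcn
  have h1 : cS / (2 * (c * g) * f) * (2 * (c * g) * f) = cS := Nat.div_mul_cancel hMS
  refine ⟨g * f, ?_⟩
  apply Nat.eq_of_mul_eq_mul_right hc
  rw [hidx]
  calc cS = cS / (2 * (c * g) * f) * (2 * (c * g) * f) := h1.symm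
    _ = 2 * (cS / (2 * (c * g) * f)) * (g * f) * c := by ring

theorem two_mul_dvd_of_lt {x y : ℕ} (hx : ∃ i, x = 2 ^ i) (hy : ∃ j, y = 2 ^ j) (h : x < y) :
    2 * x ∣ y := by
  obtain ⟨i, rfl⟩ := hx
  obtain ⟨j, rfl⟩ := hy
  have hij : i < j := (Nat.pow_lt_pow_iff_right (by norm_num)).1 h
  rw [← pow_succ']
  exact pow_dvd_pow 2 hij

end arith

end Cfsg.Agent.Helper23.TL
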