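import Mathlib
import Cfsg.Prelude.Def_FusionSystem
import Cfsg.Agent.Helper26.CB9
import Cfsg.Agent.Helper23.TLf

set_option autoImplicit false
set_option linter.style.haveILetI false

/-!
Counting on a characteristic biset, part 6: the conjugates lying in the kernel of a sign.
-/

namespace Cfsg.Agent.Helper23.TL

open Cfsg Cfsg.FusionSystem Cfsg.Agent.Helper25 Cfsg.Agent.Helper25.Park Cfsg.Agent.Helper26.CB

universe u

variable {Ω : Type u} [Group Ω] {S : Subgroup Ω} {X : Type u}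

/-- Conjugation on a subset of `S` stable under conjugation. -/
@[reducible]
def conjOn (B : ↥S → Prop) (hB : ∀ (s t : ↥S), B t → B (s * t * s⁻¹)) :
    MulAction ↥S {t : ↥S // B t} where
  smul s t := ⟨s * t.1 * s⁻¹, hB s t.1 t.2⟩
  one_smul t := Subtype.ext (by show (1 : ↥S) * t.1 * 1⁻¹ = t.1; simp)
  mul_smul s s' t := Subtype.ext (by
    show s * s' * t.1 * (s * s')⁻¹ = s * (s' * t.1 * s'⁻¹) * s⁻¹
    group)

theorem nrm_pow [Finite S] (hS : IsPGroup 2 S) (t : ↥S) : ∃ i, nrm S t = 2 ^ i := by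
  have h : IsPGroup 2 ↥(normalizerIn S (Subgroup.zpowers (t : Ω))) :=
    hS.of_injective (Subgroup.inclusion inf_le_left) (Subgroup.inclusion_injective _)
  haveI : Finite ↥(normalizerIn S (Subgroup.zpowers (t : Ω))) :=
    Finite.of_injective (Subgroup.inclusion (inf_le_left : normalizerIn S _ ≤ S))
      (Subgroup.inclusion_injective _)
  exact IsPGroup.iff_card.1 h

theorem nrm_dvd_card [Finite S] (t : ↥S) : nrm S t ∣ Nat.card S :=
  Subgroup.card_dvd_of_le (inf_le_left : normalizerIn S _ ≤ S)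

section main

variable (a : ↥(S.prod S) →* Equiv.Perm X) (F : FusionSystem S)
  (hTD : ∀ x, TD F (stab a x)) (u : ↥S)

include hTD in
theorem two_card_dvd [Finite S] [Finite X] (hS : IsPGroup 2 S)
    (hst : ∀ K K' : Subgroup ↥(S.prod S), GConj (prodSystem F F) K K' → mark a K = mark a K')
    (θ : ↥S →* ℤˣ) (hu : u * u = 1) (hu1 : u ≠ 1)
    (hT : ∀ t : ↥S, F.IsConjElt (u : Ω) (t : Ω) → θ t = 1 →
      ∃ t' : ↥S, F.IsConjElt (u : Ω) (t' : Ω) ∧ nrm S t < nrm S t') :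
    2 * Nat.card S ∣ Nat.card {t : ↥S // F.IsConjElt (u : Ω) (t : Ω) ∧ θ t = 1} *
      Nat.card {y : X // a (mkH S (u, u)) y = y} := by
  haveI : Nonempty {t : ↥S // F.IsConjElt (u : Ω) (t : Ω)} := ⟨⟨u, conjElt_refl F u⟩⟩
  obtain ⟨t₀, ht₀⟩ := Finite.exists_max (fun t : {t : ↥S // F.IsConjElt (u : Ω) (t : Ω)} =>
    nrm S t.1)
  obtain ⟨ht₀2, ht₀1⟩ := conjElt_sq F hu hu1 t₀.2
  apply arith_main (M := nrm S t₀.1) (nrm_dvd_card _)
  · rw [← mark_conjElt a F hst u t₀.1 t₀.2]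
    exact nrm_dvd a F hTD u ht₀2 ht₀1
  · have hB : ∀ (s t : ↥S), (F.IsConjElt (u : Ω) (t : Ω) ∧ θ t = 1) →
        (F.IsConjElt (u : Ω) ((s * t * s⁻¹ : ↥S) : Ω) ∧ θ (s * t * s⁻¹) = 1) := by
      rintro s t ⟨h1, h2⟩
      refine ⟨conjElt_conj F s h1, ?_⟩
      rw [map_mul, map_mul, map_inv, mul_comm, inv_mul_cancel_left, h2]
    letI := conjOn (fun t : ↥S => F.IsConjElt (u : Ω) (t : Ω) ∧ θ t = 1) hB
    apply dvd_card_of_dvd_index (C := ↥S)
    intro b
    obtain ⟨t', ht', hlt⟩ := hT b.1 b.2.1 b.2.2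
    have hle : nrm S t' ≤ nrm S t₀.1 := ht₀ ⟨t', ht'⟩
    have h2 : 2 * nrm S b.1 ∣ nrm S t₀.1 :=
      two_mul_dvd_of_lt (nrm_pow hS _) (nrm_pow hS _) (lt_of_lt_of_le hlt hle)
    have hstab : MulAction.stabilizer ↥S b ≤
        (normalizerIn S (Subgroup.zpowers (b.1 : Ω))).subgroupOf S := by
      intro s hs
      rw [MulAction.mem_stabilizer_iff] at hs
      have hs' : s * b.1 * s⁻¹ = b.1 := congrArg Subtype.val hs
      have hsΩ : (s : Ω) * (b.1 : Ω) * (s : Ω)⁻¹ = (b.1 : Ω) := by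
        have := congrArg (fun z : ↥S => (z : Ω)) hs'
        simpa using this
      have hcomm : ∀ h ∈ Subgroup.zpowers (b.1 : Ω), (s : Ω) * h * (s : Ω)⁻¹ = h := by
        intro h hh
        obtain ⟨n, rfl⟩ := Subgroup.mem_zpowers_iff.1 hh
        have e : (s : Ω) * (b.1 : Ω) ^ n * (s : Ω)⁻¹ = ((s : Ω) * (b.1 : Ω) * (s : Ω)⁻¹) ^ n := by
          rw [conj_zpow]
        rw [e, hsΩ]
      rw [Subgroup.mem_subgroupOf]
      refine Subgroup.mem_inf.2 ⟨s.2, ?_⟩
      rw [Subgroup.mem_normalizer_iff]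
      intro h
      constructor
      · intro hh
        rw [hcomm h hh]
        exact hh
      · intro hh
        have h3 := hcomm _ hh
        have h4 : (s : Ω) * h * (s : Ω)⁻¹ = h := by
          have e1 : (s : Ω)⁻¹ * ((s : Ω) * ((s : Ω) * h * (s : Ω)⁻¹) * (s : Ω)⁻¹) * (s : Ω) =
              (s : Ω) * h * (s : Ω)⁻¹ := by group
          have e2 : (s : Ω)⁻¹ * ((s : Ω) * h * (s : Ω)⁻¹) * (s : Ω) = h := by group
          calc (s : Ω) * h * (s : Ω)⁻¹
              = (s : Ω)⁻¹ * ((s : Ω) * ((s : Ω) * h * (s : Ω)⁻¹) * (s : Ω)⁻¹) * (s : Ω) := e1.symm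
            _ = (s : Ω)⁻¹ * ((s : Ω) * h * (s : Ω)⁻¹) * (s : Ω) := by rw [h3]
            _ = h := e2
        rw [← h4]
        exact hh
    have hcard : Nat.card ((normalizerIn S (Subgroup.zpowers (b.1 : Ω))).subgroupOf S) =
        nrm S b.1 := Nat.card_congr (Subgroup.subgroupOfEquivOfLe inf_le_left).toEquiv
    have h3 : Nat.card (MulAction.stabilizer ↥S b) ∣ nrm S b.1 := by
      rw [← hcard]
      exact Subgroup.card_dvd_of_le hstab
    exact arith_index Nat.card_pos (nrm_dvd_card _) h2 h3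
      (Subgroup.index_mul_card (MulAction.stabilizer ↥S b))

end main

end Cfsg.Agent.Helper23.TL
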