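import Mathlib
import Cfsg.Prelude.Def_FusionSystem
import Cfsg.Agent.Helper26.CB9
import Cfsg.Agent.Helper23.TLg

set_option autoImplicit false
set_option linter.style.haveILetI false

/-!
The Thompson transfer argument on a characteristic biset: an involution all of whose
conjugates with largest normalizer lie outside the kernel of a sign has transfer `-1`.
-/

namespace Cfsg.Agent.Helper23.TL

open Cfsg Cfsg.FusionSystem Cfsg.Agent.Helper25 Cfsg.Agent.Helper25.Park Cfsg.Agent.Helper26.CB

universe u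

variable {Ω : Type u} [Group Ω] {S : Subgroup Ω} {X : Type u}

section main

variable (a : ↥(S.prod S) →* Equiv.Perm X) (x₀ : X) (F : FusionSystem S)
  (hTD : ∀ x, TD F (stab a x)) (hx₀ : ∀ k ∈ graphSub (1 : MulAut ↥S), a k x₀ = x₀) (u : ↥S)

include hx₀ in
theorem transfer_eq_neg_one [Finite S] [Finite X] (hS : IsPGroup 2 S)
    (hst : ∀ K K' : Subgroup ↥(S.prod S), GConj (prodSystem F F) K K' → mark a K = mark a K')
    (k : ℕ) (hk : ¬ 2 ∣ k) (hcard : Nat.card X = k * Nat.card S)
    (θ : ↥S →* ℤˣ) (hu : u * u = 1) (hu1 : u ≠ 1)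
    (hT : ∀ t : ↥S, F.IsConjElt (u : Ω) (t : Ω) → θ t = 1 →
      ∃ t' : ↥S, F.IsConjElt (u : Ω) (t' : Ω) ∧ nrm S t < nrm S t') :
    MonoidHom.transfer ((Abelianization.lift θ).comp (phi a x₀ F hTD)) (iota a u) = -1 := by
  classical
  letI : Fintype (↥(Cen a) ⧸ H0 a x₀) := Fintype.ofFinite _
  rw [transfer_iota a x₀ F hTD u θ hu, prod_units_int]
  set s := Finset.univ.filter (fun q : ↥(Cen a) ⧸ H0 a x₀ => iota a u • q = q) with hs
  -- the index
  have hidx : (H0 a x₀).index = k := by
    have h1 := card_eq_mul_index a x₀ F hTD hx₀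
    rw [hcard, mul_comm] at h1
    exact (Nat.eq_of_mul_eq_mul_left Nat.card_pos h1).symm
  -- the number of fixed cosets is odd
  have h1 : s.card % 2 = 1 := by
    let f : Function.End (↥(Cen a) ⧸ H0 a x₀) := fun q => iota a u • q
    have hf : f ^ 2 ^ 1 = 1 := by
      rw [pow_one, pow_two]
      funext q
      show iota a u • iota a u • q = q
      rw [← mul_smul, ← map_mul, hu, map_one, one_smul]
    have h2 := Equiv.Perm.card_fixedPoints_modEq (p := 2) (n := 1) hf
    have h3 : Fintype.card (Function.fixedPoints f) = s.card := by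
      apply Fintype.card_of_subtype
      intro q
      rw [hs, Finset.mem_filter]
      simp only [Finset.mem_univ, true_and]
      rfl
    rw [h3] at h2
    have h4 : Fintype.card (↥(Cen a) ⧸ H0 a x₀) = k := by
      rw [← hidx, Subgroup.index, Nat.card_eq_fintype_card]
    rw [h4] at h2
    have h5 : k % 2 = 1 := by omega
    have h6 : k % 2 = s.card % 2 := h2
    omega
  -- the cosets of the kind lying in the kernel
  have h2 : (s.filter (fun q => ¬ dval a u θ (base a x₀ q) = -1)).card =
      Nat.card {q : ↥(Cen a) ⧸ H0 a x₀ //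
        ∃ t, a (mkH S (u, t)) (base a x₀ q) = base a x₀ q ∧ θ t = 1} := by
    rw [Nat.card_eq_fintype_card, Fintype.card_subtype, hs, Finset.filter_filter]
    congr 1
    apply Finset.filter_congr
    intro q _
    constructor
    · rintro ⟨hq1, hq2⟩
      obtain ⟨t, ht⟩ := (smul_eq_iff_base a x₀ u q).1 hq1
      refine ⟨t, ht, ?_⟩
      rw [dval_eq a F hTD u θ ht] at hq2
      exact (Int.units_eq_one_or (θ t)).resolve_right hq2
    · rintro ⟨t, ht, hθ⟩
      refine ⟨(smul_eq_iff_base a x₀ u q).2 ⟨t, ht⟩, ?_⟩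
      rw [dval_eq a F hTD u θ ht, hθ]
      decide
  have hPr : ∀ (c : ↥S) (y : X), (∃ t, a (mkH S (u, t)) (rAct a c y) = rAct a c y ∧ θ t = 1) ↔
      ∃ t, a (mkH S (u, t)) y = y ∧ θ t = 1 := by
    have hone : ∀ (c : ↥S) (y : X), (∃ t, a (mkH S (u, t)) y = y ∧ θ t = 1) →
        ∃ t, a (mkH S (u, t)) (rAct a c y) = rAct a c y ∧ θ t = 1 := by
      rintro c y ⟨t, ht, hθ⟩
      refine ⟨c * t * c⁻¹, type_rAct a u c ht, ?_⟩
      rw [map_mul, map_mul, map_inv, mul_comm, inv_mul_cancel_left, hθ]
    intro c y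
    constructor
    · intro h
      have h' := hone c⁻¹ _ h
      have e : rAct a c⁻¹ (rAct a c y) = y := by
        rw [← Equiv.Perm.mul_apply, ← map_mul, inv_mul_cancel, map_one]
        rfl
      rw [e] at h'
      exact h'
    · exact hone c y
  have h3 := card_invariant a x₀ F hTD hx₀
    (fun y => ∃ t, a (mkH S (u, t)) y = y ∧ θ t = 1) hPr
  have h4 := card_types a F hTD u hst (fun t => θ t = 1)
  have h5 := two_card_dvd a F hTD u hS hst θ hu hu1 hT
  rw [← h4, h3, ← h2] at h5
  have h6 : 2 ∣ (s.filter (fun q => ¬ dval a u θ (base a x₀ q) = -1)).card :=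
    (Nat.mul_dvd_mul_iff_right Nat.card_pos).1 h5
  have h7 := Finset.card_filter_add_card_filter_not (s := s)
    (fun q => dval a u θ (base a x₀ q) = -1)
  have h8 : Odd (s.filter (fun q => dval a u θ (base a x₀ q) = -1)).card := by
    rw [Nat.odd_iff]
    omega
  exact h8.neg_one_pow

end main

end Cfsg.Agent.Helper23.TL
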