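import Mathlib
import Cfsg.Agent.Helper25.ThDefs

/-!
Piece YEX of helper25's S3797 project (Thompson: solvable groups with one class of involutions):
an odd-order element of `N_H(S)` whose powers `y ^ i`, `0 < i ≤ n`, act fixed-point-freely on `S`.
-/

set_option autoImplicit false
set_option linter.unusedVariables false

namespace Cfsg.Agent.Helper23.Th

open Cfsg.Agent.Helper25.Th

theorem sq_add_one_lt_two_pow (n : ℕ) (hn : 5 ≤ n) : n ^ 2 + 1 < 2 ^ n := by
  induction n, hn using Nat.le_induction with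
  | base => norm_num
  | succ n hn ih =>
    have h1 : (n + 1) ^ 2 + 1 = n ^ 2 + 2 * n + 2 := by ring
    have h2 : 2 ^ (n + 1) = 2 * 2 ^ n := by ring
    rw [h1, h2]
    nlinarith

/-- the arithmetic core: the order of the scalar generator exceeds `n`. -/
theorem semilinear_arith (n o f : ℕ) (hn : 2 ≤ n) (ho : o ∣ 2 ^ n - 1) (hf : f ∣ n)
    (hfodd : Odd f) (hprod : 2 ^ n - 1 ≤ o * f) : n < o := by
  have hfn : f ≤ n := Nat.le_of_dvd (by omega) hf
  have hfpos : 0 < f := hfodd.pos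
  by_cases h5 : 5 ≤ n
  · have h1 := sq_add_one_lt_two_pow n h5
    by_contra hlt
    push Not at hlt
    have h2 : o * f ≤ n * n := Nat.mul_le_mul hlt hfn
    have h3 : n ^ 2 = n * n := by ring
    omega
  · have hn' : n = 2 ∨ n = 3 ∨ n = 4 := by omega
    rcases hn' with rfl | rfl | rfl
    · -- n = 2
      have hf' : f = 1 := by
        rcases (Nat.dvd_prime Nat.prime_two).mp hf with h | h
        · exact h
        · subst h; exact absurd hfodd (by decide)
      subst hf'
      norm_num at hprod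
      omega
    · -- n = 3
      have ho' : o = 1 ∨ o = 7 := (Nat.dvd_prime (by norm_num : Nat.Prime 7)).mp (by simpa using ho)
      rcases ho' with rfl | rfl
      · norm_num at hprod
        omega
      · norm_num
    · -- n = 4
      have hf' : f = 1 := by
        have : f ≤ 4 := hfn
        interval_cases f
        · rfl
        · exact absurd hfodd (by decide)
        · exact absurd hf (by decide)
        · exact absurd hfodd (by decide)
      subst hf'
      norm_num at hprod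
      omega

theorem card_mul_relIndex_eq' {G : Type*} [Group G] {A B : Subgroup G} (h : A ≤ B) :
    Nat.card A * A.relIndex B = Nat.card B := by
  have h1 := Subgroup.card_mul_index (A.subgroupOf B)
  have h2 : Nat.card (A.subgroupOf B) = Nat.card A :=
    Nat.card_congr (Subgroup.subgroupOfEquivOfLe h).toEquiv
  rw [h2] at h1
  exact h1

/-- a nontrivial element of a `2`-group has a power of order two commuting with everything the
element commutes with. -/
theorem exists_involution_pow {H : Type*} [Group H] {s : H} (hs : s ≠ 1)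
    (h2 : ∃ j : ℕ, orderOf s = 2 ^ j) :
    ∃ m : ℕ, (s ^ m) ^ 2 = 1 ∧ s ^ m ≠ 1 := by
  obtain ⟨j, hj⟩ := h2
  have hj0 : j ≠ 0 := by
    rintro rfl
    rw [pow_zero, orderOf_eq_one_iff] at hj
    exact hs hj
  obtain ⟨j', rfl⟩ : ∃ j', j = j' + 1 := ⟨j - 1, by omega⟩
  refine ⟨2 ^ j', ?_, ?_⟩
  · rw [← pow_mul, ← pow_succ, ← hj, pow_orderOf_eq_one]
  · intro h
    have := orderOf_dvd_of_pow_eq_one h
    rw [hj] at this
    have h3 : 2 ^ (j' + 1) ≤ 2 ^ j' := Nat.le_of_dvd (by positivity) this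
    have h4 : 2 ^ j' < 2 ^ (j' + 1) := Nat.pow_lt_pow_right (by norm_num) (by omega)
    omega

theorem exists_fpf_element {H : Type*} [Group H] [Finite H]
    (V : Subgroup H) [V.Normal] (n : ℕ) (hcard : Nat.card V = 2 ^ n) (hn : 2 ≤ n)
    (hV2 : ∀ v ∈ V, v ^ 2 = 1) (hinv : ∀ x : H, x ^ 2 = 1 → x ∈ V)
    (S : Sylow 2 H) (hSC : (S : Subgroup H) ≤ Subgroup.centralizer (V : Set H))
    (htrans : ∀ v ∈ V, ∀ w ∈ V, v ≠ 1 → w ≠ 1 →
      ∃ g ∈ Subgroup.normalizer ((S : Subgroup H) : Set H), g * v * g⁻¹ = w)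
    (hGL : Cfsg.Agent.Helper25.Th.SemilinearData V n (Subgroup.normalizer ((S : Subgroup H) : Set H))) :
    ∃ y ∈ Subgroup.normalizer ((S : Subgroup H) : Set H), Odd (orderOf y) ∧
      ∀ i : ℕ, 0 < i → i ≤ n → ∀ s ∈ (S : Subgroup H), y ^ i * s = s * y ^ i → s = 1 := by
  classical
  obtain ⟨L0, hL0L, hL0n, hKL0, hfpf, ⟨g0, hg0, hcyc⟩, hexp, hidx⟩ := hGL
  set L := Subgroup.normalizer ((S : Subgroup H) : Set H) with hL
  set C := Subgroup.centralizer (V : Set H) with hC
  have hCn : C.Normal := Subgroup.normal_centralizer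
  set K := L ⊓ C with hK
  have hSL : (S : Subgroup H) ≤ L := Subgroup.le_normalizer
  have hSK : (S : Subgroup H) ≤ K := le_inf hSL hSC
  have hKL : K ≤ L := inf_le_left
  -- the order of `g0` modulo `C`
  set q : H ⧸ C := (g0 : H ⧸ C) with hq
  set o := orderOf q with ho
  have hmemC : ∀ j : ℕ, g0 ^ j ∈ C ↔ o ∣ j := by
    intro j
    rw [ho, orderOf_dvd_iff_pow_eq_one, hq, ← QuotientGroup.mk_pow, QuotientGroup.eq_one_iff]
  have ho_dvd : o ∣ 2 ^ n - 1 := (hmemC _).mp (hexp g0 hg0)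
  have hopos : 0 < o := by
    have h1 : 0 < 2 ^ n - 1 := by
      have : 2 ^ 2 ≤ 2 ^ n := Nat.pow_le_pow_right (by norm_num) hn
      omega
    exact Nat.pos_of_dvd_of_pos ho_dvd h1
  have ho_odd : Odd o := by
    have h1 : Odd (2 ^ n - 1) := by
      have h2 : Even (2 ^ n) := (Nat.even_pow.mpr ⟨even_two, by omega⟩)
      have h3 : 1 ≤ 2 ^ n := Nat.one_le_two_pow
      exact Nat.Even.sub_odd h3 h2 odd_one
    obtain ⟨m, hm⟩ := ho_dvd
    rw [hm] at h1
    exact (Nat.odd_mul.mp h1).1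
  -- cardinalities
  have cK := card_mul_relIndex_eq' hKL
  have cKL0 := card_mul_relIndex_eq' hKL0
  have cL0 := card_mul_relIndex_eq' hL0L
  have hKpos : 0 < Nat.card K := Nat.card_pos
  -- |L0| ≤ o * |K|
  have hsurj : Nat.card L0 ≤ o * Nat.card K := by
    have hg0o : g0 ^ o ∈ C := (hmemC o).mpr dvd_rfl
    let φ : Fin o × K → L0 := fun p =>
      ⟨g0 ^ (p.1 : ℕ) * (p.2 : H), L0.mul_mem (L0.pow_mem hg0 _) (hKL0 p.2.2)⟩
    have hφ : Function.Surjective φ := by
      rintro ⟨x, hx⟩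
      obtain ⟨k, hk⟩ := hcyc x hx
      -- x = g0^k * c' with c' ∈ C
      have hk' : (g0 ^ k)⁻¹ * x ∈ C := by
        have := hCn.conj_mem _ hk (g0 ^ k)⁻¹
        simpa [mul_assoc] using this
      have hdecomp : g0 ^ k = g0 ^ (k % o) * (g0 ^ o) ^ (k / o) := by
        rw [← pow_mul, ← pow_add, Nat.mod_add_div]
      have hc : (g0 ^ (k % o))⁻¹ * x ∈ C := by
        have h1 : (g0 ^ (k % o))⁻¹ * x = (g0 ^ o) ^ (k / o) * ((g0 ^ k)⁻¹ * x) := by
          rw [hdecomp]; group
        rw [h1]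
        exact C.mul_mem (C.pow_mem hg0o _) hk'
      have hcL : (g0 ^ (k % o))⁻¹ * x ∈ L :=
        L.mul_mem (L.inv_mem (hL0L (L0.pow_mem hg0 _))) (hL0L hx)
      refine ⟨(⟨k % o, Nat.mod_lt _ hopos⟩, ⟨(g0 ^ (k % o))⁻¹ * x, ⟨hcL, hc⟩⟩), ?_⟩
      apply Subtype.ext
      show g0 ^ (k % o) * ((g0 ^ (k % o))⁻¹ * x) = x
      group
    have := Nat.card_le_card_of_surjective φ hφ
    rwa [Nat.card_prod, Nat.card_fin] at this
  -- (2^n - 1) * |K| ≤ |L|
  have hinj : (2 ^ n - 1) * Nat.card K ≤ Nat.card L := by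
    have hVnt : ∃ v0 ∈ V, v0 ≠ 1 := by
      by_contra hcon
      push Not at hcon
      have : Nat.card V ≤ 1 := by
        rw [Finite.card_le_one_iff_subsingleton]
        exact ⟨fun a b => Subtype.ext ((hcon a a.2).trans (hcon b b.2).symm)⟩
      have h4 : 2 ^ 2 ≤ 2 ^ n := Nat.pow_le_pow_right (by norm_num) hn
      omega
    obtain ⟨v0, hv0, hv01⟩ := hVnt
    have hchoose : ∀ w : {w : V // w ≠ 1}, ∃ g ∈ L, g * v0 * g⁻¹ = (w : V) := by
      intro w
      exact htrans v0 hv0 (w : V) (w : V).2 hv01 (fun h => w.2 (Subtype.ext h))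
    choose gw hgwL hgw using hchoose
    let ψ : {w : V // w ≠ 1} × K → L := fun p => ⟨gw p.1 * (p.2 : H), L.mul_mem (hgwL p.1) (hKL p.2.2)⟩
    have hcent : ∀ c : K, (c : H) * v0 * (c : H)⁻¹ = v0 := by
      intro c
      have hc : (c : H) ∈ C := c.2.2
      have := (Subgroup.mem_centralizer_iff.mp hc) v0 hv0
      rw [← this, mul_inv_cancel_right]
    have hψ : Function.Injective ψ := by
      rintro ⟨w, c⟩ ⟨w', c'⟩ h
      have h1 : gw w * (c : H) = gw w' * (c' : H) := congrArg Subtype.val h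
      have h2 : ((w : V) : H) = ((w' : V) : H) := by
        rw [← hgw w, ← hgw w']
        calc gw w * v0 * (gw w)⁻¹ = (gw w * c) * ((c : H)⁻¹ * v0 * (c : H)⁻¹⁻¹) * (gw w * c)⁻¹ := by group
          _ = (gw w * c) * v0 * (gw w * c)⁻¹ := by
              have := hcent c⁻¹
              simp only [Subgroup.coe_inv] at this
              rw [this]
          _ = (gw w' * c') * v0 * (gw w' * c')⁻¹ := by rw [h1]
          _ = (gw w' * c') * ((c' : H)⁻¹ * v0 * (c' : H)⁻¹⁻¹) * (gw w' * c')⁻¹ := by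
              have := hcent c'⁻¹
              simp only [Subgroup.coe_inv] at this
              rw [this]
          _ = gw w' * v0 * (gw w')⁻¹ := by group
      have hw : w = w' := Subtype.ext (Subtype.ext h2)
      subst hw
      have h3 : (c : H) = (c' : H) := mul_left_cancel h1
      rw [Subtype.ext h3]
    have hcardV : Nat.card {w : V // w ≠ 1} = 2 ^ n - 1 := by
      have : Nat.card {w : V // w ≠ 1} = Nat.card V - 1 := by
        have := Fintype.ofFinite V
        rw [Nat.card_eq_fintype_card, Nat.card_eq_fintype_card, Fintype.card_subtype_compl,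
          Fintype.card_subtype_eq]
      rw [this, hcard]
    have := Nat.card_le_card_of_injective ψ hψ
    rwa [Nat.card_prod, hcardV] at this
  -- the index relations
  set a := K.relIndex L0 with ha
  set f := L0.relIndex L with hf
  have hcardL : Nat.card L = Nat.card K * a * f := by rw [cKL0, cL0]
  have haf : 2 ^ n - 1 ≤ a * f := by
    rw [hcardL, mul_assoc] at hinj
    have h' : (2 ^ n - 1) * Nat.card K ≤ (a * f) * Nat.card K := by
      rw [mul_comm (a * f)]; exact hinj
    exact Nat.le_of_mul_le_mul_right h' hKpos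
  have hao : a ≤ o := by
    rw [← cKL0, mul_comm] at hsurj
    exact Nat.le_of_mul_le_mul_right hsurj hKpos
  -- oddness of f
  have hfodd : Odd f := by
    have h1 : ¬ 2 ∣ (S : Subgroup H).index := S.not_dvd_index
    have h2 : (S : Subgroup H).relIndex L * L.index = (S : Subgroup H).index :=
      Subgroup.relIndex_mul_index hSL
    have h3 : (S : Subgroup H).relIndex L0 * L0.relIndex L = (S : Subgroup H).relIndex L :=
      Subgroup.relIndex_mul_relIndex _ _ _ (hSK.trans hKL0) hL0L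
    rw [← Nat.not_even_iff_odd, even_iff_two_dvd]
    intro h4
    apply h1
    rw [← h2, ← h3]
    exact Dvd.dvd.mul_right (Dvd.dvd.mul_left h4 _) _
  have hon : n < o := by
    apply semilinear_arith n o f hn ho_dvd hidx hfodd
    exact haf.trans (Nat.mul_le_mul_right f hao)
  -- the odd part of g0
  have hm0 : orderOf g0 ≠ 0 := (orderOf_pos g0).ne'
  obtain ⟨k, m', hm'odd, hm⟩ := Nat.exists_eq_two_pow_mul_odd hm0
  refine ⟨g0 ^ (2 ^ k), hL0L (L0.pow_mem hg0 _), ?_, ?_⟩
  · have h2k : 2 ^ k ≠ 0 := by positivity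
    rw [orderOf_pow' g0 h2k, hm]
    have hg : Nat.gcd (2 ^ k * m') (2 ^ k) = 2 ^ k := by
      rw [Nat.gcd_comm]
      exact Nat.gcd_eq_left (Dvd.intro _ rfl)
    rw [hg, Nat.mul_div_cancel_left _ (by positivity)]
    exact hm'odd
  · intro i hi0 hin s hs hcomm
    by_contra hs1
    have hS2 : IsPGroup 2 (S : Subgroup H) := S.isPGroup'
    have hord : ∃ j : ℕ, orderOf s = 2 ^ j := by
      obtain ⟨j, hj⟩ := (IsPGroup.iff_orderOf.mp hS2) ⟨s, hs⟩
      exact ⟨j, by rwa [Subgroup.orderOf_mk] at hj⟩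
    obtain ⟨m, hm2, hm1⟩ := exists_involution_pow hs1 hord
    have htV : s ^ m ∈ V := hinv _ hm2
    have hyL0 : (g0 ^ (2 ^ k)) ^ i ∈ L0 := L0.pow_mem (L0.pow_mem hg0 _) _
    have hcomm' : (g0 ^ (2 ^ k)) ^ i * s ^ m = s ^ m * (g0 ^ (2 ^ k)) ^ i :=
      ((show Commute ((g0 ^ (2 ^ k)) ^ i) s from hcomm).pow_right m).eq
    have hyC := hfpf _ hyL0 _ htV hm1 hcomm'
    rw [← pow_mul, hmemC] at hyC
    have hcop : Nat.Coprime o (2 ^ k) :=
      Nat.Coprime.pow_right k (Nat.coprime_two_right.mpr ho_odd)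
    have hoi : o ∣ i := hcop.dvd_of_dvd_mul_left hyC
    have := Nat.le_of_dvd hi0 hoi
    omega

end Cfsg.Agent.Helper23.Th
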