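import Mathlib

set_option autoImplicit false

namespace Cfsg.Agent.Helper23.TwoPowSum

theorem pow_gt_aux : ∀ n : ℕ, 11 ≤ n → n * (n + 1) ^ 2 < 2 ^ n := by
  intro n hn
  induction n, hn using Nat.le_induction with
  | base => norm_num
  | succ n hn ih =>
    have h1 : (n + 1) * (n + 1 + 1) ^ 2 ≤ 2 * (n * (n + 1) ^ 2) := by nlinarith
    calc (n + 1) * (n + 1 + 1) ^ 2 ≤ 2 * (n * (n + 1) ^ 2) := h1
      _ < 2 * 2 ^ n := by omega
      _ = 2 ^ (n + 1) := by ring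

theorem small_cases_fin : ∀ n g i j : Fin 11,
    (2 ≤ n.val ∧ g.val ≤ n.val ∧ ¬ (n.val = 4 ∧ g.val = 3) ∧ g.val ∣ 2 ^ n.val - 1 ∧
      i.val < j.val ∧ j.val < n.val) →
      ¬ ((2 ^ n.val - 1) / g.val ∣ 2 ^ i.val + 2 ^ j.val - 1) := by
  decide

theorem small_cases : ∀ n < 11, ∀ g < 11, ∀ i < 11, ∀ j < 11,
    2 ≤ n → g ≤ n → ¬ (n = 4 ∧ g = 3) → g ∣ 2 ^ n - 1 → i < j → j < n →
      ¬ ((2 ^ n - 1) / g ∣ 2 ^ i + 2 ^ j - 1) := by
  intro n hn g hg i hi j hj h1 h2 h2' h3 h4 h5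
  exact small_cases_fin ⟨n, hn⟩ ⟨g, hg⟩ ⟨i, hi⟩ ⟨j, hj⟩ ⟨h1, h2, h2', h3, h4, h5⟩

/-- No `i < j < n` with `2^i + 2^j ≡ 1` modulo `d = (2^n - 1)/g`, for `g ≤ n`, except
`(n, g) = (4, 3)`. -/
theorem no_sum_of_le (n g d i j : ℕ) (hn : 2 ≤ n) (hgn : g ≤ n) (hne : ¬ (n = 4 ∧ g = 3))
    (hgd : g * d = 2 ^ n - 1)
    (hij : i < j) (hjn : j < n) : ¬ d ∣ 2 ^ i + 2 ^ j - 1 := by
  intro hdvd
  have hn0 : 0 < n := by omega
  have h2n : 1 ≤ 2 ^ n := Nat.one_le_two_pow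
  have h2i : 1 ≤ 2 ^ i := Nat.one_le_two_pow
  have h2j : 1 ≤ 2 ^ j := Nat.one_le_two_pow
  have hNpos : 0 < 2 ^ n - 1 := by
    have : 2 ^ 1 < 2 ^ n := Nat.pow_lt_pow_right (by norm_num) (by omega)
    omega
  have hdpos : 0 < d := by
    rcases Nat.eq_zero_or_pos d with h | h
    · subst h; simp at hgd; omega
    · exact h
  have hgpos : 0 < g := by
    rcases Nat.eq_zero_or_pos g with h | h
    · subst h; simp at hgd; omega
    · exact h
  -- small n by brute force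
  by_cases hsmall : n < 11
  · have hd : d = (2 ^ n - 1) / g := by
      rw [← hgd]; exact (Nat.mul_div_cancel_left d hgpos).symm
    have hg2 : g ∣ 2 ^ n - 1 := ⟨d, hgd.symm⟩
    exact small_cases n hsmall g (by omega) i (by omega) j (by omega) hn hgn hne hg2 hij hjn
      (hd ▸ hdvd)
  have hn11 : 11 ≤ n := by omega
  obtain ⟨k, hk⟩ := hdvd
  -- 2^i + 2^j < 2^n
  have hsum_lt : 2 ^ i + 2 ^ j < 2 ^ n := by
    have h1 : 2 ^ i ≤ 2 ^ (j - 1) := Nat.pow_le_pow_right (by norm_num) (by omega)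
    have h2 : 2 ^ j ≤ 2 ^ (n - 1) := Nat.pow_le_pow_right (by norm_num) (by omega)
    have h3 : 2 ^ (j - 1) < 2 ^ (n - 1) := Nat.pow_lt_pow_right (by norm_num) (by omega)
    have h4 : 2 ^ n = 2 * 2 ^ (n - 1) := by
      conv_lhs => rw [show n = (n - 1) + 1 by omega]
      ring
    omega
  -- k < g and k ≥ 1
  have hkpos : 0 < k := by
    rcases Nat.eq_zero_or_pos k with h | h
    · subst h; simp at hk; omega
    · exact h
  have hkg : k < g := by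
    have h1 : d * k < g * d := by rw [← hk, hgd]; omega
    have h2 : d * k < d * g := by rw [mul_comm d g]; exact h1
    exact Nat.lt_of_mul_lt_mul_left h2
  -- main equation
  have hE : g * 2 ^ i + g * 2 ^ j + k = k * 2 ^ n + g := by
    have h1 : g * (2 ^ i + 2 ^ j - 1) = k * (2 ^ n - 1) := by
      rw [hk, ← hgd]; ring
    have h2 : g * (2 ^ i + 2 ^ j - 1) + g = g * 2 ^ i + g * 2 ^ j := by
      have : 2 ^ i + 2 ^ j - 1 + 1 = 2 ^ i + 2 ^ j := by omega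
      calc g * (2 ^ i + 2 ^ j - 1) + g = g * (2 ^ i + 2 ^ j - 1 + 1) := by ring
        _ = g * (2 ^ i + 2 ^ j) := by rw [this]
        _ = g * 2 ^ i + g * 2 ^ j := by ring
    have h3 : k * (2 ^ n - 1) + k = k * 2 ^ n := by
      have : 2 ^ n - 1 + 1 = 2 ^ n := by omega
      calc k * (2 ^ n - 1) + k = k * (2 ^ n - 1 + 1) := by ring
        _ = k * 2 ^ n := by rw [this]
    omega
  -- i ≥ 1
  have hi1 : 1 ≤ i := by
    by_contra hi0
    have hi0' : i = 0 := by omega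
    subst hi0'
    -- d ∣ 2^j and d ∣ 2^n - 1
    have hd1 : d ∣ 2 ^ j := by
      refine ⟨k, ?_⟩
      have : 2 ^ 0 + 2 ^ j - 1 = 2 ^ j := by simp
      rw [← this]; exact hk
    have hd2 : d ∣ 2 ^ n - 1 := ⟨g, by rw [← hgd]; ring⟩
    have hcop : Nat.Coprime (2 ^ j) (2 ^ n - 1) := by
      apply Nat.Coprime.pow_left
      rw [Nat.coprime_two_left]
      have : Even (2 ^ n) := by
        rw [Nat.even_pow]; exact ⟨even_two, by omega⟩
      rcases this with ⟨t, ht⟩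
      rw [Nat.odd_iff]; omega
    have hd_one : d = 1 := Nat.eq_one_of_dvd_coprimes hcop hd1 hd2
    subst hd_one
    have h6 := pow_gt_aux n hn11
    have h7 : n + 2 ≤ n * (n + 1) ^ 2 := by nlinarith
    have h8 : g = 2 ^ n - 1 := by rw [← hgd]; ring
    omega
  -- 2^i ∣ g - k, so 2^i < g
  have hilt : 2 ^ i < g := by
    have hdiv : 2 ^ i ∣ g - k := by
      have h1 : 2 ^ i ∣ g * 2 ^ i := Dvd.intro_left _ rfl
      have h2 : 2 ^ i ∣ g * 2 ^ j :=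
        Dvd.dvd.mul_left (Nat.pow_dvd_pow 2 (by omega)) g
      have h3 : 2 ^ i ∣ k * 2 ^ n :=
        Dvd.dvd.mul_left (Nat.pow_dvd_pow 2 (by omega)) k
      have h4 : g - k = g * 2 ^ i + g * 2 ^ j - k * 2 ^ n := by omega
      rw [h4]
      exact Nat.dvd_sub (Dvd.dvd.add h1 h2) h3
    have hpos : 0 < g - k := by omega
    have := Nat.le_of_dvd hpos hdiv
    omega
  -- 2^j ∣ g * 2^i + k - g, so 2^j ≤ g * 2^i + k
  have hjle : 2 ^ j ≤ g * 2 ^ i + k := by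
    have hdiv : 2 ^ j ∣ g * 2 ^ i + k - g := by
      have h2 : 2 ^ j ∣ g * 2 ^ j := Dvd.intro_left _ rfl
      have h3 : 2 ^ j ∣ k * 2 ^ n :=
        Dvd.dvd.mul_left (Nat.pow_dvd_pow 2 (by omega)) k
      have h4 : g * 2 ^ i + k - g = k * 2 ^ n - g * 2 ^ j := by omega
      rw [h4]
      exact Nat.dvd_sub h3 h2
    have h2i2 : 2 ≤ 2 ^ i := by
      calc 2 = 2 ^ 1 := by norm_num
        _ ≤ 2 ^ i := Nat.pow_le_pow_right (by norm_num) hi1
    have h2g : 2 * g ≤ g * 2 ^ i := by nlinarith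
    have hpos : 0 < g * 2 ^ i + k - g := by omega
    have := Nat.le_of_dvd hpos hdiv
    omega
  -- size contradiction
  have hb1 : g * 2 ^ i ≤ n * n := by
    calc g * 2 ^ i ≤ g * g := Nat.mul_le_mul_left g hilt.le
      _ ≤ n * n := Nat.mul_le_mul hgn hgn
  have hb2 : g * 2 ^ j ≤ n * (n * n + n) := by
    calc g * 2 ^ j ≤ g * (g * 2 ^ i + k) := Nat.mul_le_mul_left g hjle
      _ ≤ n * (n * n + n) := by
        apply Nat.mul_le_mul hgn
        omega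
  have hb3 : 2 ^ n ≤ k * 2 ^ n := Nat.le_mul_of_pos_left _ hkpos
  have h6 := pow_gt_aux n hn11
  nlinarith

/-- No `i < j < n` with `2^i + 2^j ≡ 1` modulo `d = (2^n - 1)/g`, for `g ∣ n`. -/
theorem no_sum (n g d i j : ℕ) (hn : 2 ≤ n) (hg : g ∣ n) (hgd : g * d = 2 ^ n - 1)
    (hij : i < j) (hjn : j < n) : ¬ d ∣ 2 ^ i + 2 ^ j - 1 := by
  have hn0 : 0 < n := by omega
  have hgn : g ≤ n := Nat.le_of_dvd hn0 hg
  refine no_sum_of_le n g d i j hn hgn ?_ hgd hij hjn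
  rintro ⟨rfl, rfl⟩
  revert hg; decide

/-- `Nat.ModEq` form. -/
theorem no_sum_modEq (n g d i j : ℕ) (hn : 2 ≤ n) (hg : g ∣ n) (hgd : g * d = 2 ^ n - 1)
    (hij : i < j) (hjn : j < n) : ¬ (2 ^ i + 2 ^ j ≡ 1 [MOD d]) := by
  intro h
  have h1 : 1 ≤ 2 ^ i + 2 ^ j := by
    have h0 : 1 ≤ 2 ^ i := Nat.one_le_two_pow
    exact le_trans h0 (Nat.le_add_right _ _)
  exact no_sum n g d i j hn hg hgd hij hjn ((Nat.modEq_iff_dvd' h1).mp h.symm)

end Cfsg.Agent.Helper23.TwoPowSum
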