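import Mathlib
import Cfsg.Prelude.Def_Blocks
import Cfsg.Agent.S0925
import Cfsg.Agent.Helper5.CharFacts
import Cfsg.Agent.Helper5.KerDegrees
import Cfsg.Agent.Helper5.RelDefectZero
import Cfsg.Agent.Helper24.Codegree
import Cfsg.Agent.Helper24.Expansion
import Cfsg.Agent.Helper24.RealChar
import Cfsg.Agent.Helper8.CharComp

set_option autoImplicit false
set_option linter.unusedSectionVars false
set_option linter.unusedVariables false

/-!
# Blocks for two primes in groups without elements of order `pq` (S4731)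
-/

namespace Cfsg.Agent.Helper23.TwoP

open Cfsg Cfsg.Agent.Helper5 Cfsg.Agent.Helper5.CC Cfsg.Agent.Helper5.Loc Cfsg.Agent.Helper24

variable {G : Type*} [Group G] [Fintype G]

/-- If `p` divides the order of `g`, its `p`-part is not the identity. -/
theorem pPart_ne_one {p : ℕ} {g x : G} (h : IsPPart p g x) (hg : p ∣ orderOf g) : x ≠ 1 := by
  rintro rfl
  obtain ⟨w, hw, -, -, hwp⟩ := h
  rw [one_mul] at hw
  rw [hw] at hwp
  exact hwp hg

/-- If the `p`-part of `g` is not the identity, `p` divides the order of `g`. -/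
theorem dvd_orderOf_of_pPart_ne_one {p : ℕ} [hp : Fact p.Prime] {g x : G} (h : IsPPart p g x)
    (hx : x ≠ 1) : p ∣ orderOf g := by
  have hmem := Cfsg.Agent.Helper5.RDZ.IsPPart.mem_zpowers h
  obtain ⟨w, hw, -, ⟨k, hk⟩, -⟩ := h
  have hk0 : k ≠ 0 := by
    rintro rfl
    rw [pow_zero, orderOf_eq_one_iff] at hk
    exact hx hk
  have h1 : orderOf x ∣ orderOf g := by
    obtain ⟨i, rfl⟩ := Subgroup.mem_zpowers_iff.mp hmem
    exact orderOf_dvd_of_pow_eq_one (by rw [← zpow_natCast, ← zpow_mul, mul_comm, zpow_mul,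
      zpow_natCast, pow_orderOf_eq_one, one_zpow])
  rw [hk] at h1
  exact dvd_trans (dvd_pow_self p hk0) h1

/-- The statement of S4731. -/
theorem pq_sum {p q : ℕ} [hp : Fact p.Prime] [hq : Fact q.Prime] (hpq : p ≠ q)
    {Mp Mq : Ideal AlgInt} (hMp : IsPModular p Mp) (hMq : IsPModular q Mq)
    (hno : ∀ g : G, orderOf g ≠ p * q)
    (Bp : Set (IrrCharacter G)) (hBp : IsPBlock Mp Bp) (Bq : Set (IrrCharacter G))
    (hBq : IsPBlock Mq Bq) (y : G) (hy : p ∣ orderOf y) :
    ∃ ω : AlgInt, ∑ᶠ χ ∈ Bp ∩ Bq, (charDegree (χ : G → ℂ) : ℂ) * (χ : G → ℂ) y =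
      (q : ℂ) ^ ((Nat.card G).factorization q) * (ω : ℂ) := by
  classical
  have : Fintype (IrrCharacter G) := Fintype.ofFinite _
  let cF : IrrCharacter G → ℂ := fun χ => if χ ∈ Bp then (χ : G → ℂ) y else 0
  let F : G → ℂ := ∑ χ : IrrCharacter G, cF χ • (χ : G → ℂ)
  have hFapp : ∀ g, F g = ∑ χ : IrrCharacter G, cF χ * (χ : G → ℂ) g := by
    intro g
    show (∑ χ : IrrCharacter G, cF χ • (χ : G → ℂ)) g = _
    rw [Finset.sum_apply]
    rfl
  have hFcf : IsClassFunction G F := by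
    intro g h
    rw [hFapp, hFapp]
    apply Finset.sum_congr rfl
    intro χ _
    rw [isClassFunction_irr χ g h]
  -- `F` vanishes on `q`-singular elements
  have hFq : ∀ g : G, q ∣ orderOf g → F g = 0 := by
    intro g hg
    obtain ⟨x, hx⟩ := Cfsg.Agent.Helper5.RDZ.exists_isPPart p g
    obtain ⟨z, hz⟩ := Cfsg.Agent.Helper5.RDZ.exists_isPPart p y⁻¹
    have hz1 : z ≠ 1 := pPart_ne_one hz (by rwa [orderOf_inv])
    by_cases hc : IsConj x z
    · exfalso
      have hx1 : x ≠ 1 := by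
        rintro rfl
        exact hz1 (isConj_one_right.mp hc)
      have hpg : p ∣ orderOf g := dvd_orderOf_of_pPart_ne_one hx hx1
      have hpqg : p * q ∣ orderOf g :=
        Nat.Coprime.mul_dvd_of_dvd_of_dvd ((Nat.coprime_primes hp.out hq.out).mpr hpq) hpg hg
      obtain ⟨m, hm⟩ := hpqg
      have hog : 0 < orderOf g := orderOf_pos g
      have hm0 : m ≠ 0 := by
        rintro rfl
        rw [mul_zero] at hm
        omega
      apply hno (g ^ m)
      rw [orderOf_pow_of_dvd hm0 ⟨p * q, by rw [hm, mul_comm]⟩, hm]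
      exact Nat.mul_div_cancel _ (Nat.pos_of_ne_zero hm0)
    · have := (Cfsg.Agent.S0925.result p Mp hMp).2 g y⁻¹ x z hx hz hc Bp hBp
      rw [finsum_mem_eq_sum_ite'] at this
      rw [hFapp, ← this]
      apply Finset.sum_congr rfl
      intro χ _
      show (if χ ∈ Bp then (χ : G → ℂ) y else 0) * (χ : G → ℂ) g = _
      rw [inv_inv]
      split_ifs <;> ring
  -- so does its `Bq`-part
  have hΨq : ∀ u : G, q ∣ orderOf u → blockPart Bq F u = 0 := by
    intro u hu
    obtain ⟨z, hz⟩ := Cfsg.Agent.Helper5.RDZ.exists_isPPart q u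
    have hz1 := pPart_ne_one hz hu
    have hzq : ∃ k : ℕ, orderOf z = q ^ k := by
      obtain ⟨w, -, -, h, -⟩ := hz
      exact h
    refine (Cfsg.Agent.S0925.result q Mq hMq).1 F hFcf z hzq ?_ Bq hBq u z hz (IsConj.refl z)
    intro u' z' hz' hc
    apply hFq
    apply dvd_orderOf_of_pPart_ne_one hz'
    rintro rfl
    exact hz1 (isConj_one_left.mp hc)
  -- the `Bq`-part explicitly
  have hΨ : ∀ g, blockPart Bq F g =
      ∑ χ : IrrCharacter G, if χ ∈ Bp ∩ Bq then (χ : G → ℂ) y * (χ : G → ℂ) g else 0 := by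
    intro g
    have hinst : Fintype.ofFinite G = ‹Fintype G› := Subsingleton.elim _ _
    simp only [blockPart]
    rw [hinst, finsum_mem_eq_sum_ite']
    apply Finset.sum_congr rfl
    intro χ _
    have h1 : classInner F (χ : G → ℂ) = cF χ := classInner_sum_irr cF χ
    rw [h1]
    show (if χ ∈ Bq then (if χ ∈ Bp then (χ : G → ℂ) y else 0) * (χ : G → ℂ) g else 0) = _
    by_cases h1 : χ ∈ Bp <;> by_cases h2 : χ ∈ Bq <;> simp [h1, h2, Set.mem_inter_iff]
  -- a Sylow `q`-subgroup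
  obtain ⟨Q⟩ : Nonempty (Sylow q G) := inferInstance
  have : Fintype (Q : Subgroup G) := Fintype.ofFinite _
  have : Fintype (IrrCharacter (Q : Subgroup G)) := Fintype.ofFinite _
  have hsum1 : ∑ u : (Q : Subgroup G), blockPart Bq F (u : G) = blockPart Bq F 1 := by
    rw [Finset.sum_eq_single (1 : (Q : Subgroup G))]
    · rfl
    · intro u _ hu
      apply hΨq
      obtain ⟨k, hk⟩ := IsPGroup.iff_orderOf.mp Q.isPGroup' u
      have hk0 : k ≠ 0 := by
        rintro rfl
        rw [pow_zero, orderOf_eq_one_iff] at hk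
        exact hu hk
      rw [Subgroup.orderOf_coe, hk]
      exact dvd_pow_self q hk0
    · intro h
      exact absurd (Finset.mem_univ _) h
  have hn : ∀ χ : IrrCharacter G, ∃ n : ℕ,
      ∑ u : (Q : Subgroup G), (χ : G → ℂ) (u : G) = (Nat.card (Q : Subgroup G) : ℂ) * n := by
    intro χ
    have hone : IsCharacter (Q : Subgroup G) (fun _ : (Q : Subgroup G) => (1 : ℂ)) :=
      IsIrrCharacter.isCharacter isIrrCharacter_const_one
    have hres : IsCharacter (Q : Subgroup G) (fun u : (Q : Subgroup G) => (χ : G → ℂ) (u : G)) :=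
      Cfsg.Agent.Helper8.isCharacter_comp (Q : Subgroup G).subtype
        (IsIrrCharacter.isCharacter χ.2)
    obtain ⟨n, hn⟩ := IsCharacter.classInner_nat hres hone
    refine ⟨n, ?_⟩
    unfold classInner at hn
    simp only [map_one, mul_one] at hn
    have hQ : (Nat.card (Q : Subgroup G) : ℂ) ≠ 0 := by
      have : 0 < Nat.card (Q : Subgroup G) := Nat.card_pos
      exact_mod_cast this.ne'
    rw [← hn, ← mul_assoc, mul_inv_cancel₀ hQ, one_mul]
  choose n hn using hn
  have hω : IsIntegral ℤ (∑ χ : IrrCharacter G,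
      if χ ∈ Bp ∩ Bq then (χ : G → ℂ) y * (n χ : ℂ) else 0) := by
    apply IsIntegral.sum
    intro χ _
    split_ifs
    · exact IsIntegral.mul (irr_isIntegral χ y) (isIntegral_natCast _)
    · exact isIntegral_zero
  refine ⟨⟨_, hω⟩, ?_⟩
  rw [finsum_mem_eq_sum_ite']
  have hcard : (Nat.card (Q : Subgroup G) : ℂ) = (q : ℂ) ^ ((Nat.card G).factorization q) := by
    rw [Sylow.card_eq_multiplicity Q]
    push_cast
    rfl
  have h1 : blockPart Bq F 1 = ∑ χ : IrrCharacter G,
      if χ ∈ Bp ∩ Bq then (charDegree (χ : G → ℂ) : ℂ) * (χ : G → ℂ) y else 0 := by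
    rw [hΨ]
    apply Finset.sum_congr rfl
    intro χ _
    split_ifs
    · rw [charDegree_irr, ← irrDeg_spec, mul_comm]
    · rfl
  rw [← h1, ← hsum1]
  show _ = (q : ℂ) ^ ((Nat.card G).factorization q) * ∑ χ : IrrCharacter G,
      if χ ∈ Bp ∩ Bq then (χ : G → ℂ) y * (n χ : ℂ) else 0
  rw [← hcard, Finset.mul_sum]
  have h2 : ∀ u : (Q : Subgroup G), blockPart Bq F (u : G) = ∑ χ : IrrCharacter G,
      if χ ∈ Bp ∩ Bq then (χ : G → ℂ) y * (χ : G → ℂ) (u : G) else 0 := fun u => hΨ u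
  rw [Finset.sum_congr rfl (fun u _ => h2 u), Finset.sum_comm]
  apply Finset.sum_congr rfl
  intro χ _
  split_ifs
  · rw [← Finset.mul_sum, hn χ]
    ring
  · simp

end Cfsg.Agent.Helper23.TwoP
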