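import Mathlib
import Cfsg.Agent.Helper26.S4057Defs

/-! # Unitriangular matrices from a complete flag (linear half of S4057 piece REP)

`V` a finite `ZMod p`-module with a complete flag `F 0 = ⊥ < F 1 < … < F n = ⊤`, `|F i| = p ^ i`,
and linear maps `φ g` acting trivially on the sections `F (i+1) / F i`: in a basis adapted to the
flag all the `φ g` are upper unitriangular.  For a finite `p`-group acting, the triviality on
the sections is automatic. -/

set_option autoImplicit false

namespace Cfsg.Agent.Helper23.UTFlag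

open Cfsg.Agent.S4057P Module

variable {p : ℕ} [Fact p.Prime] {V : Type*} [AddCommGroup V] [Module (ZMod p) V] [Finite V]

theorem finrank_of_card (W : Submodule (ZMod p) V) (i : ℕ) (h : Nat.card W = p ^ i) :
    Module.finrank (ZMod p) W = i := by
  have hp : p.Prime := Fact.out
  have h1 := Module.natCard_eq_pow_finrank (K := ZMod p) (V := W)
  rw [h, Nat.card_zmod] at h1
  exact (Nat.pow_right_injective hp.two_le h1).symm

theorem exists_mem_not_mem (F : ℕ → Submodule (ZMod p) V) (n : ℕ)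
    (hcard : ∀ i, i ≤ n → Nat.card (F i) = p ^ i) (i : ℕ) (hi : i < n) :
    ∃ x, x ∈ F (i + 1) ∧ x ∉ F i := by
  have hp : p.Prime := Fact.out
  by_contra hcon
  push Not at hcon
  have hle : F (i + 1) ≤ F i := fun x hx => hcon x hx
  have h1 := Nat.card_le_card_of_injective (Submodule.inclusion hle)
    (Submodule.inclusion_injective hle)
  rw [hcard (i + 1) hi, hcard i hi.le] at h1
  exact absurd h1 (not_le.2 (Nat.pow_lt_pow_right hp.one_lt (Nat.lt_succ_self i)))

theorem span_image_eq (n : ℕ) (F : ℕ → Submodule (ZMod p) V) (h0 : F 0 = ⊥)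
    (hmono : ∀ i, i < n → F i ≤ F (i + 1)) (hcard : ∀ i, i ≤ n → Nat.card (F i) = p ^ i)
    (e : Fin n → V) (he1 : ∀ i : Fin n, e i ∈ F ((i : ℕ) + 1))
    (he2 : ∀ i : Fin n, e i ∉ F (i : ℕ)) :
    ∀ i, i ≤ n → Submodule.span (ZMod p) (e '' {j : Fin n | (j : ℕ) < i}) = F i := by
  intro i
  induction i with
  | zero =>
    intro _
    have hemp : {j : Fin n | (j : ℕ) < 0} = ∅ := by
      ext j; simp
    rw [hemp, Set.image_empty, Submodule.span_empty, h0]
  | succ i ih =>
    intro hi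
    have hi' : i < n := hi
    have hset : {j : Fin n | (j : ℕ) < i + 1} = {j : Fin n | (j : ℕ) < i} ∪ {⟨i, hi'⟩} := by
      ext j
      simp only [Set.mem_ofPred_eq, Set.mem_union, Set.mem_singleton_iff, Fin.ext_iff]
      omega
    rw [hset, Set.image_union, Set.image_singleton, Submodule.span_union, ih hi'.le]
    have hle : F i ⊔ Submodule.span (ZMod p) {e ⟨i, hi'⟩} ≤ F (i + 1) :=
      sup_le (hmono i hi') ((Submodule.span_singleton_le_iff_mem _ _).2 (he1 ⟨i, hi'⟩))
    have hlt : F i < F i ⊔ Submodule.span (ZMod p) {e ⟨i, hi'⟩} := by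
      refine lt_of_le_of_ne le_sup_left ?_
      intro heq
      apply he2 ⟨i, hi'⟩
      change e ⟨i, hi'⟩ ∈ F i
      rw [heq]
      exact Submodule.mem_sup_right (Submodule.mem_span_singleton_self _)
    apply Submodule.eq_of_le_of_finrank_le hle
    have h1 := Submodule.finrank_lt_finrank_of_lt hlt
    rw [finrank_of_card _ _ (hcard i hi'.le)] at h1
    rw [finrank_of_card _ _ (hcard (i + 1) hi)]
    omega

/-- the linear half of REP -/
theorem exists_basis_isUT (n : ℕ) (F : ℕ → Submodule (ZMod p) V) (h0 : F 0 = ⊥) (hn : F n = ⊤)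
    (hmono : ∀ i, i < n → F i ≤ F (i + 1)) (hcard : ∀ i, i ≤ n → Nat.card (F i) = p ^ i)
    {ι : Type*} (φ : ι → V →ₗ[ZMod p] V)
    (hφ : ∀ g, ∀ i, i < n → ∀ x ∈ F (i + 1), φ g x - x ∈ F i) :
    ∃ b : Module.Basis (Fin n) (ZMod p) V, ∀ g, IsUT (LinearMap.toMatrix b b (φ g)) := by
  classical
  have hex : ∀ i : Fin n, ∃ x, x ∈ F ((i : ℕ) + 1) ∧ x ∉ F (i : ℕ) :=
    fun i => exists_mem_not_mem F n hcard i i.2
  choose e he1 he2 using hex
  have hspan := span_image_eq n F h0 hmono hcard e he1 he2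
  have htop : ⊤ ≤ Submodule.span (ZMod p) (Set.range e) := by
    have h1 := hspan n le_rfl
    rw [hn] at h1
    rw [← h1]
    exact Submodule.span_mono (Set.image_subset_range _ _)
  have hfr : Fintype.card (Fin n) = Module.finrank (ZMod p) V := by
    rw [Fintype.card_fin]
    have h1 := finrank_of_card (⊤ : Submodule (ZMod p) V) n (by rw [← hn]; exact hcard n le_rfl)
    rw [finrank_top] at h1
    exact h1.symm
  have hbe : ⇑(basisOfTopLeSpanOfCardEqFinrank e htop hfr) = e :=
    coe_basisOfTopLeSpanOfCardEqFinrank e htop hfr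
  obtain ⟨b, hbe⟩ : ∃ b : Module.Basis (Fin n) (ZMod p) V, ⇑b = e := ⟨_, hbe⟩
  have hb : ∀ i, b i = e i := fun i => congrFun hbe i
  have hrepr : ∀ m, m ≤ n → ∀ x ∈ F m, ∀ i : Fin n, m ≤ (i : ℕ) → b.repr x i = 0 := by
    intro m hm x hx i hmi
    rw [← hspan m hm, ← hbe, Module.Basis.mem_span_image] at hx
    by_contra hne
    have h1 : i ∈ (b.repr x).support := Finsupp.mem_support_iff.2 hne
    have h2 : (i : ℕ) < m := hx h1
    omega
  refine ⟨b, fun g => ⟨?_, ?_⟩⟩
  · intro j
    rw [LinearMap.toMatrix_apply]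
    have hdiff := hφ g j j.2 (b j) (by rw [hb]; exact he1 j)
    have h1 : φ g (b j) = b j + (φ g (b j) - b j) := by abel
    rw [h1, map_add, Finsupp.add_apply, Module.Basis.repr_self, Finsupp.single_eq_same,
      hrepr j j.2.le _ hdiff j le_rfl, add_zero]
  · intro i j hji
    rw [LinearMap.toMatrix_apply]
    have hmem : φ g (b j) ∈ F ((j : ℕ) + 1) := by
      have hdiff := hφ g j j.2 (b j) (by rw [hb]; exact he1 j)
      have h1 : φ g (b j) = b j + (φ g (b j) - b j) := by abel
      rw [h1]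
      exact add_mem (by rw [hb]; exact he1 j) (hmono j j.2 hdiff)
    exact hrepr ((j : ℕ) + 1) j.2 _ hmem i hji

/-- a linear map of `p`-power order stabilising `F₁ ≤ F₂`, `|F₂| = p |F₁|`, acts trivially on
`F₂ / F₁` -/
theorem sub_mem_of_pow_eq_one (F₁ F₂ : Submodule (ZMod p) V) (hle : F₁ ≤ F₂)
    (hc : Nat.card F₂ = p * Nat.card F₁) (f : V →ₗ[ZMod p] V) (h1 : ∀ x ∈ F₁, f x ∈ F₁)
    (h2 : ∀ x ∈ F₂, f x ∈ F₂) (a : ℕ) (hf : ∀ x, (f ^ (p ^ a)) x = x) :
    ∀ x ∈ F₂, f x - x ∈ F₁ := by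
  have hp : p.Prime := Fact.out
  have hd1 := Module.natCard_eq_pow_finrank (K := ZMod p) (V := F₁)
  rw [Nat.card_zmod] at hd1
  have hd2 : Module.finrank (ZMod p) F₂ = Module.finrank (ZMod p) F₁ + 1 := by
    apply finrank_of_card
    rw [hc, hd1, pow_succ, mul_comm]
  -- an element outside `F₁`
  obtain ⟨e, he2, he1⟩ : ∃ e, e ∈ F₂ ∧ e ∉ F₁ := by
    by_contra hcon
    push Not at hcon
    have hle' : F₂ ≤ F₁ := fun x hx => hcon x hx
    have h3 := Nat.card_le_card_of_injective (Submodule.inclusion hle')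
      (Submodule.inclusion_injective hle')
    have hpos : 0 < Nat.card F₁ := Nat.card_pos
    rw [hc] at h3
    have h4 : 2 * Nat.card F₁ ≤ p * Nat.card F₁ := Nat.mul_le_mul_right _ hp.two_le
    omega
  have hsup : F₁ ⊔ Submodule.span (ZMod p) {e} = F₂ := by
    have hle2 : F₁ ⊔ Submodule.span (ZMod p) {e} ≤ F₂ :=
      sup_le hle ((Submodule.span_singleton_le_iff_mem _ _).2 he2)
    have hlt : F₁ < F₁ ⊔ Submodule.span (ZMod p) {e} := by
      refine lt_of_le_of_ne le_sup_left ?_
      intro heq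
      apply he1
      rw [heq]
      exact Submodule.mem_sup_right (Submodule.mem_span_singleton_self _)
    apply Submodule.eq_of_le_of_finrank_le hle2
    have h3 := Submodule.finrank_lt_finrank_of_lt hlt
    omega
  have hdecomp : ∀ x ∈ F₂, ∃ y ∈ F₁, ∃ c : ZMod p, x = y + c • e := by
    intro x hx
    rw [← hsup, Submodule.mem_sup] at hx
    obtain ⟨y, hy, z, hz, rfl⟩ := hx
    obtain ⟨c, rfl⟩ := Submodule.mem_span_singleton.1 hz
    exact ⟨y, hy, c, rfl⟩
  obtain ⟨y, hy, k, hk⟩ := hdecomp (f e) (h2 e he2)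
  have hpow : ∀ t : ℕ, (f ^ t) e - k ^ t • e ∈ F₁ := by
    intro t
    induction t with
    | zero => simp
    | succ t ih =>
      have h3 : (f ^ (t + 1)) e = f ((f ^ t) e) := by
        rw [pow_succ', Module.End.mul_apply]
      have h4 : (f ^ t) e = k ^ t • e + ((f ^ t) e - k ^ t • e) := by abel
      have h5 : (f ^ (t + 1)) e - k ^ (t + 1) • e =
          k ^ t • y + f ((f ^ t) e - k ^ t • e) := by
        rw [h3]
        conv_lhs => rw [h4]
        rw [map_add, map_smul, hk, smul_add, smul_smul, ← pow_succ]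
        abel
      rw [h5]
      exact add_mem (F₁.smul_mem _ hy) (h1 _ ih)
  have hk1 : k = 1 := by
    have h3 := hpow (p ^ a)
    rw [hf e, ZMod.pow_card_pow] at h3
    by_contra hne
    have h4 : (1 - k) ≠ 0 := sub_ne_zero.2 (Ne.symm hne)
    have h5 : e - k • e = (1 - k) • e := by rw [sub_smul, one_smul]
    rw [h5] at h3
    apply he1
    have h6 := F₁.smul_mem (1 - k)⁻¹ h3
    rwa [smul_smul, inv_mul_cancel₀ h4, one_smul] at h6
  have hfe : f e - e ∈ F₁ := by
    rw [hk, hk1, one_smul, add_sub_cancel_right]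
    exact hy
  intro x hx
  obtain ⟨y', hy', c, rfl⟩ := hdecomp x hx
  have h3 : f (y' + c • e) - (y' + c • e) = (f y' - y') + c • (f e - e) := by
    rw [map_add, map_smul, smul_sub]
    abel
  rw [h3]
  exact add_mem (sub_mem (h1 _ hy') hy') (F₁.smul_mem _ hfe)

/-- the linear half of REP for a finite `p`-group acting -/
theorem exists_basis_isUT_of_isPGroup {P : Type*} [Group P] (hP : IsPGroup p P) (n : ℕ)
    (F : ℕ → Submodule (ZMod p) V) (h0 : F 0 = ⊥) (hn : F n = ⊤)
    (hmono : ∀ i, i < n → F i ≤ F (i + 1)) (hcard : ∀ i, i ≤ n → Nat.card (F i) = p ^ i)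
    (φ : P →* Module.End (ZMod p) V) (hstab : ∀ g, ∀ i, i ≤ n → ∀ x ∈ F i, φ g x ∈ F i) :
    ∃ b : Module.Basis (Fin n) (ZMod p) V, ∀ g, IsUT (LinearMap.toMatrix b b (φ g)) := by
  apply exists_basis_isUT n F h0 hn hmono hcard (fun g => φ g)
  intro g i hi
  obtain ⟨a, ha⟩ := hP g
  apply sub_mem_of_pow_eq_one (F i) (F (i + 1)) (hmono i hi)
    (by rw [hcard i hi.le, hcard (i + 1) hi, pow_succ, mul_comm]) (φ g)
    (hstab g i hi.le) (hstab g (i + 1) hi) a
  intro x
  rw [← map_pow, ha, map_one, Module.End.one_apply]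

end Cfsg.Agent.Helper23.UTFlag
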