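import Mathlib
import Cfsg.Prelude.Def_Blocks
import Cfsg.Prelude.Def_BlockLocal
import Cfsg.Prelude.Def_BrauerPairs
import Cfsg.Agent.Helper23.InvHeightZero
import Cfsg.Agent.Helper23.PrincipalBlock
import Cfsg.Agent.Helper24.DefectZero
import Cfsg.Agent.Helper24.IndMore
import Cfsg.Agent.Helper5.BlockSupport

set_option autoImplicit false
set_option linter.unusedSectionVars false
set_option linter.unusedVariables false

/-!
# Characters of defect zero of a quotient, and normal subgroups
-/

namespace Cfsg.Agent.Helper23.WP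

open Cfsg Cfsg.Agent.Helper24 Cfsg.Agent.Helper5 Cfsg.Agent.Helper5.Loc Cfsg.Agent.Helper5.CC
open Cfsg.Agent.Helper23.NS Cfsg.Agent.Helper23.IHZ

variable {X : Type*} [Group X] [Fintype X]

/-- Converse of `act_cutCoeff_of_subset`: if the idempotent cut out by `Θ` acts as `1` on `χ`,
then all constituents of the restriction of `χ` lie in `Θ`. -/
theorem mem_of_act_cutCoeff_eq_one (N : Subgroup X) [Fintype N]
    (Θ : Set (IrrCharacter N)) (χ : IrrCharacter X) (h : act (cutCoeff N Θ) χ = 1)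
    (θ : IrrCharacter N) (hθ : classInner (fun n : N => (χ : X → ℂ) n) (θ : N → ℂ) ≠ 0) :
    θ ∈ Θ := by
  classical
  have : Fintype (IrrCharacter N) := Fintype.ofFinite _
  have h1 : (χ : X → ℂ) 1 ≠ 0 := irr_one_ne_zero χ
  rw [act, div_eq_iff h1, one_mul, sum_cutCoeff_mul] at h
  have h2 := apply_one_eq_sum_restrict N χ
  have hres : IsCharacter N (fun n : N => (χ : X → ℂ) n) :=
    Cfsg.Agent.Helper8.isCharacter_restrict _ (IsIrrCharacter.isCharacter χ.2)
  choose n hn using fun ψ : IrrCharacter N => IsCharacter.classInner_irr_nat hres ψ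
  have e1 : ∑ ψ : IrrCharacter N, (if ψ ∈ Θ then irrDeg ψ * n ψ else 0) =
      ∑ ψ : IrrCharacter N, irrDeg ψ * n ψ := by
    have hA : (∑ ψ : IrrCharacter N, if ψ ∈ Θ then
        (ψ : N → ℂ) 1 * classInner (fun n : N => (χ : X → ℂ) n) (ψ : N → ℂ) else 0) =
        ((∑ ψ : IrrCharacter N, (if ψ ∈ Θ then irrDeg ψ * n ψ else 0) : ℕ) : ℂ) := by
      push_cast
      refine Finset.sum_congr rfl (fun ψ _ => ?_)
      rw [hn ψ, irrDeg_spec]
    have hB : (∑ ψ : IrrCharacter N,
        (ψ : N → ℂ) 1 * classInner (fun n : N => (χ : X → ℂ) n) (ψ : N → ℂ)) =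
        ((∑ ψ : IrrCharacter N, irrDeg ψ * n ψ : ℕ) : ℂ) := by
      push_cast
      refine Finset.sum_congr rfl (fun ψ _ => ?_)
      rw [hn ψ, irrDeg_spec]
    have : ((∑ ψ : IrrCharacter N, (if ψ ∈ Θ then irrDeg ψ * n ψ else 0) : ℕ) : ℂ) =
        ((∑ ψ : IrrCharacter N, irrDeg ψ * n ψ : ℕ) : ℂ) := by
      rw [← hA, ← hB, h, h2]
    exact_mod_cast this
  by_contra hcon
  have hsplit : ∑ ψ : IrrCharacter N, irrDeg ψ * n ψ =
      ∑ ψ : IrrCharacter N, (if ψ ∈ Θ then irrDeg ψ * n ψ else 0) +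
      ∑ ψ : IrrCharacter N, (if ψ ∈ Θ then 0 else irrDeg ψ * n ψ) := by
    rw [← Finset.sum_add_distrib]
    refine Finset.sum_congr rfl (fun ψ _ => ?_)
    split_ifs <;> simp
  have hzero : ∑ ψ : IrrCharacter N, (if ψ ∈ Θ then 0 else irrDeg ψ * n ψ) = 0 := by omega
  have := (Finset.sum_eq_zero_iff.mp hzero) θ (Finset.mem_univ θ)
  rw [if_neg hcon] at this
  rcases Nat.mul_eq_zero.mp this with h0 | h0
  · exact (irrDeg_pos θ).ne' h0
  · apply hθ
    rw [hn θ, h0, Nat.cast_zero]

/-- A group with an irreducible character of `p`-defect zero has no nontrivial normal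
`p`-subgroup. -/
theorem normal_pGroup_eq_bot_of_defect_zero {p : ℕ} [hp : Fact p.Prime] (χ : IrrCharacter X)
    (hdeg : (irrDeg χ).factorization p = (Nat.card X).factorization p)
    (R : Subgroup X) [hR : R.Normal] (hRp : IsPGroup p R) : R = ⊥ := by
  classical
  have : Fintype (IrrCharacter X) := Fintype.ofFinite _
  have : Fintype R := Fintype.ofFinite _
  set n := (Nat.card X).factorization p with hn
  have hX0 : Nat.card X ≠ 0 := (Nat.card_pos (α := X)).ne'
  have h1 : p ^ n ∣ Nat.card X := Nat.ordProj_dvd _ _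
  have h2 : ¬ p ^ (n + 1) ∣ Nat.card X := by
    intro h
    have := (Nat.Prime.pow_dvd_iff_le_factorization hp.out hX0).mp h
    omega
  have h3 : p ^ n ∣ irrDeg χ := by
    rw [← hdeg]
    exact Nat.ordProj_dvd _ _
  have hvan : ∀ r : X, r ∈ R → r ≠ 1 → (χ : X → ℂ) r = 0 := by
    intro r hr hr1
    apply irr_eq_zero_of_defect_zero χ p n (irrDeg χ) hp.out h1 h2 (irrDeg_spec χ) h3
    obtain ⟨k, hk⟩ := (IsPGroup.iff_orderOf.mp hRp) ⟨r, hr⟩
    have hk' : orderOf r = p ^ k := by
      rw [← hk]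
      exact (Subgroup.orderOf_mk r hr).symm
    rw [hk']
    apply dvd_pow_self
    rintro rfl
    rw [pow_zero, orderOf_eq_one_iff] at hk'
    exact hr1 hk'
  have hinner : classInner (fun r : R => (χ : X → ℂ) r) (fun _ : R => (1 : ℂ)) ≠ 0 := by
    rw [classInner]
    have hsum : ∑ r : R, (fun r : R => (χ : X → ℂ) r) r * (starRingEnd ℂ) ((fun _ : R => (1 : ℂ)) r) =
        (χ : X → ℂ) 1 := by
      rw [Finset.sum_eq_single (1 : R)]
      · simp
      · intro r _ hr
        have : (χ : X → ℂ) (r : X) = 0 := hvan r r.2 (fun h => hr (Subtype.ext h))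
        simp [this]
      · intro h
        exact absurd (Finset.mem_univ _) h
    rw [hsum]
    apply mul_ne_zero
    · apply inv_ne_zero
      exact_mod_cast (Nat.card_pos (α := R)).ne'
    · exact irr_one_ne_zero χ
  rw [Subgroup.eq_bot_iff_forall]
  intro r hr
  by_contra hr1
  have h4 := eq_one_of_trivial_constituent R χ hinner r hr
  rw [hvan r hr hr1] at h4
  exact irr_one_ne_zero χ h4.symm

/-- **No normal `p`-subgroup outside the kernel.**  If `χ` is an irreducible character of `X`
with the normal subgroup `Q` in its kernel, of `p`-defect zero as a character of `X ⧸ Q`, then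
every normal `p`-subgroup of `X` lies in `Q`. -/
theorem normal_pGroup_le_of_defect_zero {p : ℕ} [hp : Fact p.Prime] (Q : Subgroup X)
    [hQ : Q.Normal] (χ : IrrCharacter X) (hker : ∀ q ∈ Q, (χ : X → ℂ) q = (χ : X → ℂ) 1)
    (hdeg : (irrDeg χ).factorization p + (Nat.card Q).factorization p =
      (Nat.card X).factorization p)
    (R : Subgroup X) [hR : R.Normal] (hRp : IsPGroup p R) : R ≤ Q := by
  classical
  obtain ⟨ψ, hψ⟩ := Cfsg.Agent.Helper23.PB.exists_irr_quotient Q χ hker
  have : Fintype (X ⧸ Q) := Fintype.ofFinite _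
  have hdegψ : irrDeg ψ = irrDeg χ := by
    have h1 := hψ 1
    rw [map_one, irrDeg_spec, irrDeg_spec] at h1
    exact_mod_cast h1
  have hcard : Nat.card X = Nat.card (X ⧸ Q) * Nat.card Q :=
    Subgroup.card_eq_card_quotient_mul_card_subgroup Q
  have hfac : (Nat.card X).factorization p =
      (Nat.card (X ⧸ Q)).factorization p + (Nat.card Q).factorization p := by
    rw [hcard, Nat.factorization_mul (Nat.card_pos (α := X ⧸ Q)).ne' (Nat.card_pos (α := Q)).ne',
      Finsupp.add_apply]
  have hRn : (R.map (QuotientGroup.mk' Q)).Normal :=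
    Subgroup.Normal.map hR _ (QuotientGroup.mk'_surjective Q)
  have hbot := normal_pGroup_eq_bot_of_defect_zero (p := p) ψ (by rw [hdegψ]; omega)
    (R.map (QuotientGroup.mk' Q)) (hRp.map _)
  intro r hr
  have h1 : QuotientGroup.mk' Q r ∈ R.map (QuotientGroup.mk' Q) := Subgroup.mem_map_of_mem _ hr
  rw [hbot, Subgroup.mem_bot] at h1
  exact (QuotientGroup.eq_one_iff r).mp h1

/-- **Constituents of a defect-zero character of `X ⧸ Q` on a normal subgroup.**  If `χ` is
irreducible with the normal subgroup `Q` in its kernel, of `p`-defect zero as a character of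
`X ⧸ Q`, and `C` is a normal subgroup, then the restriction of `χ` to `C` has an irreducible
constituent `ξ` with `ν(ξ(1)) = ν|C : Q ∩ C|`. -/
theorem exists_constituent_defect_zero {p : ℕ} [hp : Fact p.Prime] (Q : Subgroup X)
    [hQ : Q.Normal] (χ : IrrCharacter X) (hker : ∀ q ∈ Q, (χ : X → ℂ) q = (χ : X → ℂ) 1)
    (hdeg : (irrDeg χ).factorization p + (Nat.card Q).factorization p =
      (Nat.card X).factorization p)
    (C : Subgroup X) [hC : C.Normal] [Fintype C] :
    ∃ ξ : IrrCharacter C, classInner (fun c : C => (χ : X → ℂ) c) (ξ : C → ℂ) ≠ 0 ∧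
      (irrDeg ξ).factorization p + (Nat.card ((Q ⊓ C : Subgroup X))).factorization p =
        (Nat.card C).factorization p := by
  classical
  obtain ⟨ψ, hψ⟩ := Cfsg.Agent.Helper23.PB.exists_irr_quotient Q χ hker
  have : Fintype (X ⧸ Q) := Fintype.ofFinite _
  have hdegψ : irrDeg ψ = irrDeg χ := by
    have h1 := hψ 1
    rw [map_one, irrDeg_spec, irrDeg_spec] at h1
    exact_mod_cast h1
  have hcard : Nat.card X = Nat.card (X ⧸ Q) * Nat.card Q :=
    Subgroup.card_eq_card_quotient_mul_card_subgroup Q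
  have hfac : (Nat.card X).factorization p =
      (Nat.card (X ⧸ Q)).factorization p + (Nat.card Q).factorization p := by
    rw [hcard, Nat.factorization_mul (Nat.card_pos (α := X ⧸ Q)).ne' (Nat.card_pos (α := Q)).ne',
      Finsupp.add_apply]
  set Cb : Subgroup (X ⧸ Q) := C.map (QuotientGroup.mk' Q) with hCb
  have hCbn : Cb.Normal := Subgroup.Normal.map hC _ (QuotientGroup.mk'_surjective Q)
  have : Fintype Cb := Fintype.ofFinite _
  obtain ⟨θ, hθ⟩ := exists_constituent_restrict Cb ψ
  obtain ⟨e', he', hedvd⟩ := degree_ratio_dvd_index Cb (ψ : X ⧸ Q → ℂ) ψ.2 (θ : Cb → ℂ) θ.2 hθ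
  have heq : irrDeg ψ = e' * irrDeg θ := by
    rw [irrDeg_spec, irrDeg_spec] at he'
    exact_mod_cast he'
  have he0 : e' ≠ 0 := by
    rintro rfl
    rw [zero_mul] at heq
    exact (irrDeg_pos ψ).ne' heq
  -- the surjection `C → Cb`
  set f : C →* Cb := (QuotientGroup.mk' Q).subgroupMap C with hf
  have hfs : Function.Surjective f := MonoidHom.subgroupMap_surjective _ _
  have hfc : ∀ c : C, ((f c : Cb) : X ⧸ Q) = QuotientGroup.mk' Q (c : X) := fun c => rfl
  set ξ : IrrCharacter C := ⟨fun c => (θ : Cb → ℂ) (f c),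
    Cfsg.Agent.Helper8.isIrrCharacter_comp_surjective f hfs θ.2⟩ with hξ
  have hξdeg : irrDeg ξ = irrDeg θ := by
    have h1 : (ξ : C → ℂ) 1 = (θ : Cb → ℂ) 1 := by
      show (θ : Cb → ℂ) (f 1) = _
      rw [map_one]
    rw [irrDeg_spec, irrDeg_spec] at h1
    exact_mod_cast h1
  refine ⟨ξ, ?_, ?_⟩
  · -- inner product
    rw [classInner] at hθ ⊢
    have hsum : ∑ c : C, (fun c : C => (χ : X → ℂ) c) c * (starRingEnd ℂ) ((ξ : C → ℂ) c) =
        (Nat.card f.ker : ℂ) * ∑ y : Cb, (fun n : Cb => (ψ : X ⧸ Q → ℂ) n) y *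
          (starRingEnd ℂ) ((θ : Cb → ℂ) y) := by
      rw [← sum_comp_surjective_hom f hfs
        (fun y : Cb => (ψ : X ⧸ Q → ℂ) y * (starRingEnd ℂ) ((θ : Cb → ℂ) y))]
      refine Finset.sum_congr rfl (fun c _ => ?_)
      beta_reduce
      rw [hfc, hψ]
    rw [hsum]
    have hk : (Nat.card f.ker : ℂ) ≠ 0 := by
      exact_mod_cast (Nat.card_pos (α := f.ker)).ne'
    have hC0 : ((Nat.card C : ℂ))⁻¹ ≠ 0 := by
      apply inv_ne_zero
      exact_mod_cast (Nat.card_pos (α := C)).ne'
    have hsum0 : ∑ y : Cb, (fun n : Cb => (ψ : X ⧸ Q → ℂ) n) y *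
          (starRingEnd ℂ) ((θ : Cb → ℂ) y) ≠ 0 := by
      intro h0
      apply hθ
      rw [h0, mul_zero]
    exact mul_ne_zero hC0 (mul_ne_zero hk hsum0)
  · -- degrees
    have hker : f.ker = (Q ⊓ C).subgroupOf C := by
      ext c
      rw [MonoidHom.mem_ker, Subgroup.mem_subgroupOf, Subgroup.mem_inf]
      constructor
      · intro h
        have h1 : ((f c : Cb) : X ⧸ Q) = 1 := by rw [h]; rfl
        rw [hfc] at h1
        exact ⟨(QuotientGroup.eq_one_iff _).mp h1, c.2⟩
      · rintro ⟨h, -⟩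
        apply Subtype.ext
        rw [hfc]
        exact (QuotientGroup.eq_one_iff _).mpr h
    have hkcard : Nat.card f.ker = Nat.card ((Q ⊓ C : Subgroup X)) := by
      rw [hker, ← Cfsg.Agent.Helper14.card_map_subtype ((Q ⊓ C).subgroupOf C), Subgroup.subgroupOf_map_subtype,
        inf_eq_left.mpr inf_le_right]
    have hCcard : Nat.card C = Nat.card f.ker * Nat.card Cb := by
      rw [← Subgroup.card_mul_index f.ker, Subgroup.index_ker, MonoidHom.range_eq_top.mpr hfs,
        Subgroup.card_top]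
    have hCfac : (Nat.card C).factorization p =
        (Nat.card f.ker).factorization p + (Nat.card Cb).factorization p := by
      rw [hCcard, Nat.factorization_mul (Nat.card_pos (α := f.ker)).ne'
        (Nat.card_pos (α := Cb)).ne', Finsupp.add_apply]
    have hXQ : Nat.card (X ⧸ Q) = Nat.card Cb * Cb.index := (Subgroup.card_mul_index Cb).symm
    have hidx0 : Cb.index ≠ 0 := Subgroup.index_ne_zero_of_finite
    have hXQfac : (Nat.card (X ⧸ Q)).factorization p =
        (Nat.card Cb).factorization p + Cb.index.factorization p := by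
      rw [hXQ, Nat.factorization_mul (Nat.card_pos (α := Cb)).ne' hidx0, Finsupp.add_apply]
    have hψfac : (irrDeg ψ).factorization p = e'.factorization p + (irrDeg θ).factorization p := by
      rw [heq, Nat.factorization_mul he0 (irrDeg_pos θ).ne', Finsupp.add_apply]
    have he'le : e'.factorization p ≤ Cb.index.factorization p :=
      (Nat.factorization_le_iff_dvd he0 hidx0).mpr hedvd p
    have hθle : (irrDeg θ).factorization p ≤ (Nat.card Cb).factorization p :=
      (Nat.factorization_le_iff_dvd (irrDeg_pos θ).ne' (Nat.card_pos (α := Cb)).ne').mpr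
        (irrDeg_dvd_card θ) p
    rw [hξdeg, ← hkcard]
    rw [hdegψ] at hψfac
    omega

end Cfsg.Agent.Helper23.WP
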